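import Mathlib
import Cfsg.Prelude.Def_FusionSystem

set_option autoImplicit false

namespace Cfsg.Agent.Lib.Helper27

open Cfsg Cfsg.FusionSystem

variable {Ω : Type*} [Group Ω] {S : Subgroup Ω}

/-! ### Basic closure properties of the maps of a fusion system -/

/-- Restriction of a map of the system to a smaller subgroup is a map of the system. -/
theorem hom_restrict (F : FusionSystem S) {P Q : Subgroup Ω} (hPQ : P ≤ Q) {ψ : Q →* Ω}
    (hψ : ψ ∈ F.Hom Q) : ψ.comp (Subgroup.inclusion hPQ) ∈ F.Hom P := by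
  have hQS : Q ≤ S := (F.le_of_mem hψ).1
  have h1 : conjHom P 1 ∈ F.Hom P := F.conj_mem (le_trans hPQ hQS) S.one_mem
  have h : ∀ x : P, conjHom P 1 x ∈ Q := by
    intro x
    simp only [conjHom, MonoidHom.coe_comp, Function.comp_apply, Subgroup.coe_subtype]
    simpa using hPQ x.2
  have := F.comp_mem h1 hψ h
  convert this using 1
  ext x
  simp only [MonoidHom.coe_comp, Function.comp_apply]
  congr 1
  apply Subtype.ext
  simp [conjHom]

/-- The inclusion of a subgroup of `S` is a map of the system. -/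
theorem hom_subtype (F : FusionSystem S) {P : Subgroup Ω} (hP : P ≤ S) : P.subtype ∈ F.Hom P := by
  have h1 : conjHom P 1 ∈ F.Hom P := F.conj_mem hP S.one_mem
  convert h1 using 1
  ext x
  simp [conjHom]

theorem hom_le (F : FusionSystem S) {P : Subgroup Ω} {φ : P →* Ω} (hφ : φ ∈ F.Hom P) : P ≤ S :=
  (F.le_of_mem hφ).1

theorem hom_range_le (F : FusionSystem S) {P : Subgroup Ω} {φ : P →* Ω} (hφ : φ ∈ F.Hom P) :
    φ.range ≤ S := by
  rintro _ ⟨x, rfl⟩
  exact (F.le_of_mem hφ).2 x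

/-- Membership in `F.Hom` only depends on the underlying function. -/
theorem hom_cast (F : FusionSystem S) {P P' : Subgroup Ω} (h : P = P') {φ : P →* Ω} {φ' : P' →* Ω}
    (heq : ∀ (x : Ω) (hx : x ∈ P) (hx' : x ∈ P'), φ ⟨x, hx⟩ = φ' ⟨x, hx'⟩) :
    φ ∈ F.Hom P ↔ φ' ∈ F.Hom P' := by
  subst h
  have : φ = φ' := by
    ext x
    exact heq x.1 x.2 x.2
  rw [this]

/-- Composition of maps of the system, with the middle subgroup only required to contain the image. -/
theorem hom_comp (F : FusionSystem S) {P Q : Subgroup Ω} {φ : P →* Ω} {ψ : Q →* Ω}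
    (hφ : φ ∈ F.Hom P) (hψ : ψ ∈ F.Hom Q) (h : ∀ x : P, φ x ∈ Q) :
    ψ.comp (φ.codRestrict Q h) ∈ F.Hom P :=
  F.comp_mem hφ hψ h

/-! ### Isomorphisms of the system -/

/-- The group isomorphism `e : P ≃* Q` is an isomorphism of the system. -/
def IsIso (F : FusionSystem S) {P Q : Subgroup Ω} (e : P ≃* Q) : Prop :=
  Q.subtype.comp e.toMonoidHom ∈ F.Hom P

theorem IsIso.le_left {F : FusionSystem S} {P Q : Subgroup Ω} {e : P ≃* Q} (h : IsIso F e) : P ≤ S :=
  hom_le F h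

theorem IsIso.le_right {F : FusionSystem S} {P Q : Subgroup Ω} {e : P ≃* Q} (h : IsIso F e) : Q ≤ S := by
  intro y hy
  have := (F.le_of_mem h).2 (e.symm ⟨y, hy⟩)
  simpa using this

theorem isIso_refl (F : FusionSystem S) {P : Subgroup Ω} (hP : P ≤ S) : IsIso F (MulEquiv.refl P) := by
  unfold IsIso
  exact hom_subtype F hP

theorem IsIso.trans {F : FusionSystem S} {P Q R : Subgroup Ω} {e : P ≃* Q} {e' : Q ≃* R}
    (h : IsIso F e) (h' : IsIso F e') : IsIso F (e.trans e') := by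
  unfold IsIso at *
  have hh : ∀ x : P, (Q.subtype.comp e.toMonoidHom) x ∈ Q := fun x => (e x).2
  have := F.comp_mem h h' hh
  exact this

theorem IsIso.symm {F : FusionSystem S} {P Q : Subgroup Ω} {e : P ≃* Q} (h : IsIso F e) :
    IsIso F e.symm := by
  unfold IsIso at *
  obtain ⟨ψ, hψ, hinv⟩ := F.inv_mem h
  have hr : (Q.subtype.comp e.toMonoidHom).range = Q := by
    ext y
    constructor
    · rintro ⟨x, rfl⟩
      exact (e x).2
    · intro hy
      exact ⟨e.symm ⟨y, hy⟩, by simp⟩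
  refine (hom_cast F hr ?_).mp hψ
  intro y hy hy'
  obtain ⟨x, rfl⟩ := hy
  rw [hinv x]
  have : (⟨(Q.subtype.comp e.toMonoidHom) x, hy'⟩ : Q) = e x := Subtype.ext rfl
  rw [this]
  simp

/-- A map of the system is an isomorphism of the system onto its image. -/
theorem exists_isIso_of_hom (F : FusionSystem S) {P Q : Subgroup Ω} {φ : P →* Ω} (hφ : φ ∈ F.Hom P)
    (hr : φ.range = Q) : ∃ e : P ≃* Q, IsIso F e ∧ ∀ x : P, ((e x : Q) : Ω) = φ x := by
  subst hr
  refine ⟨MonoidHom.ofInjective (F.injective_of_mem hφ), ?_, fun x => rfl⟩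
  unfold IsIso
  exact hφ

theorem isConj_iff (F : FusionSystem S) {P Q : Subgroup Ω} :
    F.IsConj P Q ↔ ∃ e : P ≃* Q, IsIso F e := by
  constructor
  · rintro ⟨φ, hφ, hr⟩
    obtain ⟨e, he, -⟩ := exists_isIso_of_hom F hφ hr
    exact ⟨e, he⟩
  · rintro ⟨e, he⟩
    refine ⟨_, he, ?_⟩
    ext y
    constructor
    · rintro ⟨x, rfl⟩
      exact (e x).2
    · intro hy
      exact ⟨e.symm ⟨y, hy⟩, by simp⟩

theorem isConj_refl (F : FusionSystem S) {P : Subgroup Ω} (hP : P ≤ S) : F.IsConj P P :=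
  (isConj_iff F).mpr ⟨_, isIso_refl F hP⟩

theorem isConj_symm (F : FusionSystem S) {P Q : Subgroup Ω} (h : F.IsConj P Q) : F.IsConj Q P := by
  obtain ⟨e, he⟩ := (isConj_iff F).mp h
  exact (isConj_iff F).mpr ⟨_, he.symm⟩

theorem isConj_trans (F : FusionSystem S) {P Q R : Subgroup Ω} (h : F.IsConj P Q) (h' : F.IsConj Q R) :
    F.IsConj P R := by
  obtain ⟨e, he⟩ := (isConj_iff F).mp h
  obtain ⟨e', he'⟩ := (isConj_iff F).mp h'
  exact (isConj_iff F).mpr ⟨_, he.trans he'⟩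

theorem isConj_le_left (F : FusionSystem S) {P Q : Subgroup Ω} (h : F.IsConj P Q) : P ≤ S := by
  obtain ⟨e, he⟩ := (isConj_iff F).mp h
  exact he.le_left

theorem isConj_le_right (F : FusionSystem S) {P Q : Subgroup Ω} (h : F.IsConj P Q) : Q ≤ S := by
  obtain ⟨e, he⟩ := (isConj_iff F).mp h
  exact he.le_right

/-- Composite of an isomorphism of the system with a map of the system. -/
theorem IsIso.comp_hom {F : FusionSystem S} {P Q : Subgroup Ω} {e : P ≃* Q} (h : IsIso F e)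
    {ψ : Q →* Ω} (hψ : ψ ∈ F.Hom Q) : ψ.comp e.toMonoidHom ∈ F.Hom P := by
  unfold IsIso at h
  have hh : ∀ x : P, (Q.subtype.comp e.toMonoidHom) x ∈ Q := fun x => (e x).2
  have := F.comp_mem h hψ hh
  exact this

/-! ### The automorphism group of the system on a subgroup -/

theorem mem_autGroup_iff (F : FusionSystem S) {P : Subgroup Ω} (hP : P ≤ S) (α : MulAut P) :
    α ∈ F.autGroup P ↔ IsIso F (α : P ≃* P) := by
  constructor
  · intro h
    unfold autGroup at h
    induction h using Subgroup.closure_induction with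
    | mem x hx => exact hx
    | one => exact isIso_refl F hP
    | mul x y _ _ hx hy => exact IsIso.trans hy hx
    | inv x _ hx => exact IsIso.symm hx
  · intro h
    exact Subgroup.subset_closure h

/-! ### Automorphisms induced by a subgroup, and the extender -/

theorem mem_autInducedBy_iff {K P : Subgroup Ω} (α : MulAut P) :
    α ∈ autInducedBy K P ↔ ∃ g ∈ K, ∀ x : P, ((α x : P) : Ω) = g * (x : Ω) * g⁻¹ := by
  constructor
  · intro h
    unfold autInducedBy at h
    induction h using Subgroup.closure_induction with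
    | mem x hx => exact hx
    | one => exact ⟨1, K.one_mem, fun x => by simp⟩
    | mul a b _ _ ha hb =>
      obtain ⟨g₁, hg₁, h₁⟩ := ha
      obtain ⟨g₂, hg₂, h₂⟩ := hb
      refine ⟨g₁ * g₂, K.mul_mem hg₁ hg₂, fun x => ?_⟩
      rw [MulAut.mul_apply, h₁, h₂]
      simp [mul_assoc]
    | inv a _ ha =>
      obtain ⟨g, hg, h⟩ := ha
      refine ⟨g⁻¹, K.inv_mem hg, fun x => ?_⟩
      have := h (a⁻¹ x)
      rw [MulAut.apply_inv_self] at this
      rw [this]
      simp [mul_assoc]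
  · intro h
    exact Subgroup.subset_closure h

theorem mem_extender_iff {P : Subgroup Ω} (φ : P →* Ω) (g : Ω) :
    g ∈ extender S P φ ↔ g ∈ S ∧ g ∈ Subgroup.normalizer (P : Set Ω) ∧
      ∃ h ∈ S, ∀ (x : P) (hx : g * (x : Ω) * g⁻¹ ∈ P), φ ⟨g * x * g⁻¹, hx⟩ = h * φ x * h⁻¹ := by
  constructor
  · intro hg
    unfold extender at hg
    induction hg using Subgroup.closure_induction with
    | mem x hx => exact hx
    | one =>
      refine ⟨S.one_mem, Subgroup.one_mem _, 1, S.one_mem, fun x hx => ?_⟩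
      have : (⟨1 * (x : Ω) * 1⁻¹, hx⟩ : P) = x := Subtype.ext (by simp)
      rw [this]; simp
    | mul a b _ _ ha hb =>
      obtain ⟨haS, haN, h₁, hh₁, H₁⟩ := ha
      obtain ⟨hbS, hbN, h₂, hh₂, H₂⟩ := hb
      refine ⟨S.mul_mem haS hbS, Subgroup.mul_mem _ haN hbN, h₁ * h₂, S.mul_mem hh₁ hh₂, fun x hx => ?_⟩
      have hbx : b * (x : Ω) * b⁻¹ ∈ P := (Subgroup.mem_normalizer_iff.mp hbN x).mp x.2
      have e1 : a * b * (x : Ω) * (a * b)⁻¹ = a * (b * (x : Ω) * b⁻¹) * a⁻¹ := by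
        simp [mul_assoc]
      have hax : a * ((⟨b * (x : Ω) * b⁻¹, hbx⟩ : P) : Ω) * a⁻¹ ∈ P := by
        rw [← e1]; exact hx
      have := H₁ ⟨b * (x : Ω) * b⁻¹, hbx⟩ hax
      have e2 : (⟨a * b * (x : Ω) * (a * b)⁻¹, hx⟩ : P) = ⟨a * ((⟨b * (x : Ω) * b⁻¹, hbx⟩ : P) : Ω) * a⁻¹, hax⟩ :=
        Subtype.ext e1
      rw [e2, this, H₂ x hbx]
      simp [mul_assoc]
    | inv a _ ha =>
      obtain ⟨haS, haN, h₁, hh₁, H₁⟩ := ha
      refine ⟨S.inv_mem haS, Subgroup.inv_mem _ haN, h₁⁻¹, S.inv_mem hh₁, fun x hx => ?_⟩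
      have e1 : a * ((⟨a⁻¹ * (x : Ω) * a⁻¹⁻¹, hx⟩ : P) : Ω) * a⁻¹ = x := by
        simp [mul_assoc]
      have hax : a * ((⟨a⁻¹ * (x : Ω) * a⁻¹⁻¹, hx⟩ : P) : Ω) * a⁻¹ ∈ P := by
        rw [e1]; exact x.2
      have := H₁ ⟨a⁻¹ * (x : Ω) * a⁻¹⁻¹, hx⟩ hax
      have e2 : (⟨a * ((⟨a⁻¹ * (x : Ω) * a⁻¹⁻¹, hx⟩ : P) : Ω) * a⁻¹, hax⟩ : P) = x := Subtype.ext e1
      rw [e2] at this
      rw [this]
      simp [mul_assoc]
  · intro h
    exact Subgroup.subset_closure h

theorem extender_le {P : Subgroup Ω} (φ : P →* Ω) : extender S P φ ≤ normalizerIn S P := by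
  intro g hg
  rw [mem_extender_iff] at hg
  exact ⟨hg.1, hg.2.1⟩

theorem extender_le_S {P : Subgroup Ω} (φ : P →* Ω) : extender S P φ ≤ S :=
  le_trans (extender_le φ) inf_le_left

theorem centralizerIn_le_extender {P : Subgroup Ω} (φ : P →* Ω) :
    centralizerIn S P ≤ extender S P φ := by
  intro g hg
  rw [mem_extender_iff]
  obtain ⟨hgS, hgC⟩ := hg
  have hc : ∀ x : P, g * (x : Ω) * g⁻¹ = x := by
    intro x
    have := Subgroup.mem_centralizer_iff.mp hgC x x.2
    rw [← this]; simp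
  refine ⟨hgS, ?_, 1, S.one_mem, fun x hx => ?_⟩
  · rw [Subgroup.mem_normalizer_iff]
    intro x
    constructor
    · intro hx
      rw [hc ⟨x, hx⟩]; exact hx
    · intro hx
      have h1 : x = g⁻¹ * (g * x * g⁻¹) * g := by simp [mul_assoc]
      have h2 : g⁻¹ * (g * x * g⁻¹) * g = g * x * g⁻¹ := by
        have := Subgroup.mem_centralizer_iff.mp hgC _ hx
        calc g⁻¹ * (g * x * g⁻¹) * g = g⁻¹ * ((g * x * g⁻¹) * g) := by rw [mul_assoc]
          _ = g⁻¹ * (g * (g * x * g⁻¹)) := by rw [this]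
          _ = g * x * g⁻¹ := by simp [mul_assoc]
      rw [h1, h2]; exact hx
  · have : (⟨g * (x : Ω) * g⁻¹, hx⟩ : P) = x := Subtype.ext (hc x)
    rw [this]; simp

/-- For abelian `S` the extender of any map is all of `S`. -/
theorem extender_eq_of_comm (hab : ∀ x ∈ S, ∀ y ∈ S, x * y = y * x) {P : Subgroup Ω} (hP : P ≤ S)
    (φ : P →* Ω) : extender S P φ = S := by
  apply le_antisymm (extender_le_S φ)
  refine le_trans ?_ (centralizerIn_le_extender φ)
  intro g hg
  refine ⟨hg, ?_⟩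
  show g ∈ Subgroup.centralizer (P : Set Ω)
  rw [Subgroup.mem_centralizer_iff]
  intro x hx
  exact hab x (hP hx) g hg

/-! ### Maps defined on all of `S` -/

theorem exists_aut_of_hom_top (F : FusionSystem S) [Finite S] {ψ : S →* Ω} (hψ : ψ ∈ F.Hom S) :
    ∃ α : S ≃* S, IsIso F α ∧ ∀ x : S, ((α x : S) : Ω) = ψ x := by
  have hr : ψ.range = S := by
    have hle : ψ.range ≤ S := hom_range_le F hψ
    apply Subgroup.eq_of_le_of_card_ge hle
    rw [Nat.card_congr (MonoidHom.ofInjective (F.injective_of_mem hψ)).toEquiv]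
  exact exists_isIso_of_hom F hψ hr

end Cfsg.Agent.Lib.Helper27
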