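import Mathlib
import Cfsg.Prelude.Def_FusionSystem
import Cfsg.Agent.H26.FusionNormal
import Cfsg.Agent.Lib.Helper27.FusionBasic

set_option autoImplicit false

namespace Cfsg.Agent.Lib.Helper27

open Cfsg Cfsg.FusionSystem

variable {Ω : Type*} [Group Ω] {S : Subgroup Ω}

/-- `O_p(F)` is normal in the system. -/
theorem isNormal_core (F : FusionSystem S) [Finite S] : F.IsNormal F.core :=
  Cfsg.Agent.H26.sSup_property_of_finite S F.IsNormal (Cfsg.Agent.H26.Fus.isNormal_bot F)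
    (fun _ _ h₁ h₂ => Cfsg.Agent.H26.Fus.isNormal_sup F h₁ h₂) (fun _ h => h.1)

/-- `Z(F)` is central in the system. -/
theorem isCentral_center (F : FusionSystem S) [Finite S] : F.IsCentral F.center :=
  Cfsg.Agent.H26.sSup_property_of_finite S F.IsCentral (Cfsg.Agent.H26.Fus.isCentral_bot F)
    (fun _ _ h₁ h₂ => Cfsg.Agent.H26.Fus.isCentral_sup F h₁ h₂) (fun _ h => h.1)

theorem le_core {F : FusionSystem S} {Q : Subgroup Ω} (hQ : F.IsNormal Q) : Q ≤ F.core :=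
  le_sSup hQ

theorem le_center {F : FusionSystem S} {Q : Subgroup Ω} (hQ : F.IsCentral Q) : Q ≤ F.center :=
  le_sSup hQ

/-- restriction of a map of the system to a finite subgroup which it maps into itself -/
theorem exists_aut_restrict (F : FusionSystem S) {R T : Subgroup Ω} [Finite T] (hTR : T ≤ R) {ψ : R →* Ω}
    (hψ : ψ ∈ F.Hom R) (hT : ∀ x : R, (x : Ω) ∈ T → ψ x ∈ T) :
    ∃ α : T ≃* T, IsIso F α ∧ ∀ x : T, ((α x : T) : Ω) = ψ ⟨x, hTR x.2⟩ := by
  have hψ' : ψ.comp (Subgroup.inclusion hTR) ∈ F.Hom T := hom_restrict F hTR hψ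
  have hr : (ψ.comp (Subgroup.inclusion hTR)).range = T := by
    have hle : (ψ.comp (Subgroup.inclusion hTR)).range ≤ T := by
      rintro _ ⟨x, rfl⟩
      exact hT _ x.2
    apply Subgroup.eq_of_le_of_card_ge hle
    rw [Nat.card_congr (MonoidHom.ofInjective (F.injective_of_mem hψ')).toEquiv]
  obtain ⟨α, hα, h⟩ := exists_isIso_of_hom F hψ' hr
  exact ⟨α, hα, fun x => h x⟩

/-- For `Q` normal in the system, every map extends to a map on `P ⊔ Q` inducing an automorphism of the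
system on `Q`. -/
theorem normal_exists_extension {F : FusionSystem S} {Q : Subgroup Ω} [Finite Q] (hQ : F.IsNormal Q)
    {P : Subgroup Ω} {φ : P →* Ω} (hφ : φ ∈ F.Hom P) :
    ∃ ψ ∈ F.Hom (P ⊔ Q), (∀ x : P, ψ (Subgroup.inclusion le_sup_left x) = φ x) ∧
      ∃ α : Q ≃* Q, IsIso F α ∧ ∀ x : Q, ((α x : Q) : Ω) = ψ (Subgroup.inclusion le_sup_right x) := by
  obtain ⟨ψ, hψ, h1, h2⟩ := hQ.2 P φ hφ
  refine ⟨ψ, hψ, h1, ?_⟩
  have hT : ∀ x : ↥(P ⊔ Q), (x : Ω) ∈ Q → ψ x ∈ Q := by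
    intro x hx
    exact h2.le ⟨x, hx, rfl⟩
  obtain ⟨α, hα, h3⟩ := exists_aut_restrict F (le_sup_right : Q ≤ P ⊔ Q) hψ hT
  exact ⟨α, hα, fun x => h3 x⟩

/-- A subgroup normal in the system is weakly closed. -/
theorem normal_weaklyClosed {F : FusionSystem S} {Q : Subgroup Ω} (hQ : F.IsNormal Q) :
    F.WeaklyClosed Q := by
  refine ⟨hQ.1, fun φ hφ => ?_⟩
  obtain ⟨ψ, -, h1, h2⟩ := hQ.2 Q φ hφ
  ext y
  constructor
  · rintro ⟨x, rfl⟩
    rw [← h1 x]
    exact h2.le ⟨_, x.2, rfl⟩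
  · intro hy
    obtain ⟨z, hz, rfl⟩ := h2.ge hy
    refine ⟨⟨z, hz⟩, ?_⟩
    rw [← h1]
    rfl

/-- A subgroup normal in the system is strongly closed. -/
theorem normal_stronglyClosed {F : FusionSystem S} {Q : Subgroup Ω} (hQ : F.IsNormal Q) :
    F.StronglyClosed Q := by
  refine ⟨hQ.1, fun R hR φ hφ x => ?_⟩
  obtain ⟨ψ, -, h1, h2⟩ := hQ.2 R φ hφ
  rw [← h1 x]
  exact h2.le ⟨_, hR x.2, rfl⟩

/-- A subgroup normal in the system is normalized by `S`. -/
theorem normal_conj_mem {F : FusionSystem S} {Q : Subgroup Ω} (hQ : F.IsNormal Q) {s : Ω} (hs : s ∈ S)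
    {q : Ω} (hq : q ∈ Q) : s * q * s⁻¹ ∈ Q :=
  (normal_stronglyClosed hQ).2 Q le_rfl _ (F.conj_mem hQ.1 hs) ⟨q, hq⟩

theorem normal_le_normalizer {F : FusionSystem S} {Q : Subgroup Ω} (hQ : F.IsNormal Q) :
    S ≤ Subgroup.normalizer (Q : Set Ω) := by
  intro s hs
  rw [Subgroup.mem_normalizer_iff]
  intro q
  constructor
  · exact fun hq => normal_conj_mem hQ hs hq
  · intro hq
    have := normal_conj_mem hQ (S.inv_mem hs) hq
    simpa [mul_assoc] using this

/-- The only subgroup conjugate in the system to a weakly closed subgroup is itself. -/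
theorem weaklyClosed_eq_of_isConj {F : FusionSystem S} {Q Q' : Subgroup Ω} (hQ : F.WeaklyClosed Q)
    (h : F.IsConj Q Q') : Q' = Q := by
  obtain ⟨φ, hφ, hr⟩ := h
  rw [← hr]
  exact hQ.2 φ hφ

theorem weaklyClosed_isFullyAutomized {F : FusionSystem S} {p : ℕ} (hF : F.IsSaturated p) {Q : Subgroup Ω}
    (hQ : F.WeaklyClosed Q) : F.IsFullyAutomized p Q := by
  obtain ⟨Q', h, hfa, -⟩ := hF Q hQ.1
  have := weaklyClosed_eq_of_isConj hQ h
  subst this
  exact hfa

theorem weaklyClosed_isReceptive {F : FusionSystem S} {p : ℕ} (hF : F.IsSaturated p) {Q : Subgroup Ω}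
    (hQ : F.WeaklyClosed Q) : F.IsReceptive Q := by
  obtain ⟨Q', h, -, hr⟩ := hF Q hQ.1
  have := weaklyClosed_eq_of_isConj hQ h
  subst this
  exact hr

end Cfsg.Agent.Lib.Helper27
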