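import Mathlib
import Cfsg.Prelude.Def_FusionSystem
import Cfsg.Agent.Lib.Helper27.FusionBasic

set_option autoImplicit false

namespace Cfsg.Agent.Lib.Helper27

open Cfsg Cfsg.FusionSystem

variable {Ω : Type*} [Group Ω] {S : Subgroup Ω}

/-! ### The conjugation homomorphism `N_S(P) → Aut(P)` -/

theorem normalizerIn_le_S (S P : Subgroup Ω) : normalizerIn S P ≤ S := inf_le_left

theorem centralizerIn_le_S (S P : Subgroup Ω) : centralizerIn S P ≤ S := inf_le_left

theorem centralizerIn_le_normalizerIn (S P : Subgroup Ω) : centralizerIn S P ≤ normalizerIn S P := by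
  intro g hg
  refine ⟨hg.1, ?_⟩
  have hgc : g ∈ Subgroup.centralizer (P : Set Ω) := hg.2
  exact Subgroup.centralizer_le_normalizer _ hgc

theorem le_normalizerIn {S P : Subgroup Ω} (hP : P ≤ S) : P ≤ normalizerIn S P :=
  fun _ hx => ⟨hP hx, Subgroup.le_normalizer hx⟩

theorem mem_centralizerIn_iff {S P : Subgroup Ω} {g : Ω} :
    g ∈ centralizerIn S P ↔ g ∈ S ∧ ∀ x ∈ P, x * g = g * x := by
  unfold centralizerIn
  rw [Subgroup.mem_inf, Subgroup.mem_centralizer_iff]
  rfl

theorem mem_normalizerIn_iff {S P : Subgroup Ω} {g : Ω} :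
    g ∈ normalizerIn S P ↔ g ∈ S ∧ ∀ x, x ∈ P ↔ g * x * g⁻¹ ∈ P := by
  unfold normalizerIn
  rw [Subgroup.mem_inf, Subgroup.mem_normalizer_iff]

theorem conj_mem_of_mem_normalizerIn {S P : Subgroup Ω} {g : Ω} (hg : g ∈ normalizerIn S P) {x : Ω}
    (hx : x ∈ P) : g * x * g⁻¹ ∈ P :=
  ((mem_normalizerIn_iff.mp hg).2 x).mp hx

/-- The conjugation homomorphism `N_S(P) → Aut(P)`. -/
def conjAutHom (S P : Subgroup Ω) : normalizerIn S P →* MulAut P :=
  (Subgroup.normalizerMonoidHom P).comp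
    (Subgroup.inclusion (inf_le_right : normalizerIn S P ≤ Subgroup.normalizer (P : Set Ω)))

theorem conjAutHom_apply (S P : Subgroup Ω) (g : normalizerIn S P) (x : P) :
    ((conjAutHom S P g x : P) : Ω) = (g : Ω) * x * (g : Ω)⁻¹ := rfl

theorem conjAutHom_range (S P : Subgroup Ω) : (conjAutHom S P).range = autInducedBy S P := by
  ext α
  rw [mem_autInducedBy_iff]
  constructor
  · rintro ⟨g, rfl⟩
    exact ⟨g, g.2.1, fun x => conjAutHom_apply S P g x⟩
  · rintro ⟨g, hg, h⟩
    have hgN : g ∈ normalizerIn S P := by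
      rw [mem_normalizerIn_iff]
      refine ⟨hg, fun x => ⟨fun hx => ?_, fun hx => ?_⟩⟩
      · rw [← h ⟨x, hx⟩]; exact (α ⟨x, hx⟩).2
      · have h1 := h (α.symm ⟨g * x * g⁻¹, hx⟩)
        rw [MulEquiv.apply_symm_apply] at h1
        have h2 : x = ((α.symm ⟨g * x * g⁻¹, hx⟩ : P) : Ω) := by
          have := mul_left_cancel (mul_right_cancel h1)
          exact this
        rw [h2]; exact (α.symm ⟨g * x * g⁻¹, hx⟩).2
    refine ⟨⟨g, hgN⟩, ?_⟩
    ext x
    rw [conjAutHom_apply, h x]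

theorem conjAutHom_ker (S P : Subgroup Ω) :
    (conjAutHom S P).ker = (centralizerIn S P).subgroupOf (normalizerIn S P) := by
  ext g
  rw [MonoidHom.mem_ker, Subgroup.mem_subgroupOf, mem_centralizerIn_iff]
  constructor
  · intro h
    refine ⟨g.2.1, fun x hx => ?_⟩
    have h1 : ((conjAutHom S P g ⟨x, hx⟩ : P) : Ω) = x := by rw [h]; rfl
    rw [conjAutHom_apply] at h1
    have h2 : (g : Ω) * x = x * g := by
      calc (g : Ω) * x = ((g : Ω) * x * (g : Ω)⁻¹) * g := by simp
        _ = x * g := by rw [h1]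
    exact h2.symm
  · rintro ⟨-, h⟩
    ext x
    rw [conjAutHom_apply, ← h x x.2]
    simp

theorem card_normalizerIn [Finite S] (P : Subgroup Ω) :
    Nat.card (normalizerIn S P) = Nat.card (centralizerIn S P) * Nat.card (autInducedBy S P) := by
  have h1 := Subgroup.card_mul_index (conjAutHom S P).ker
  rw [Subgroup.index_ker, conjAutHom_range, conjAutHom_ker] at h1
  rw [← h1]
  congr 1
  exact Nat.card_congr (Subgroup.subgroupOfEquivOfLe (centralizerIn_le_normalizerIn S P)).toEquiv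

theorem isPGroup_autInducedBy {p : ℕ} (hS : IsPGroup p S) (P : Subgroup Ω) :
    IsPGroup p (autInducedBy S P) := by
  rw [← conjAutHom_range]
  have h1 : IsPGroup p (normalizerIn S P) :=
    hS.of_injective (Subgroup.inclusion (normalizerIn_le_S S P)) (Subgroup.inclusion_injective _)
  exact h1.of_surjective (conjAutHom S P).rangeRestrict (conjAutHom S P).rangeRestrict_surjective

/-- `Aut_S(P) ≤ Aut_F(P)` -/
theorem autInducedBy_le_autGroup (F : FusionSystem S) {P : Subgroup Ω} (hP : P ≤ S) :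
    autInducedBy S P ≤ F.autGroup P := by
  intro α hα
  rw [mem_autInducedBy_iff] at hα
  obtain ⟨g, hg, h⟩ := hα
  rw [mem_autGroup_iff F hP]
  have : P.subtype.comp (α : P ≃* P).toMonoidHom = conjHom P g := by
    ext x
    exact h x
  unfold IsIso
  rw [this]
  exact F.conj_mem hP hg

/-! ### Transport of automorphisms along an isomorphism of the system -/

theorem isIso_congr {F : FusionSystem S} {P Q : Subgroup Ω} {e : P ≃* Q} (he : IsIso F e)
    (α : MulAut P) : IsIso F (MulAut.congr e α : Q ≃* Q) ↔ IsIso F (α : P ≃* P) := by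
  constructor
  · intro h
    have h1 : IsIso F (e.trans ((MulAut.congr e α : Q ≃* Q).trans e.symm)) := he.trans (h.trans he.symm)
    have h2 : e.trans ((MulAut.congr e α : Q ≃* Q).trans e.symm) = α := by
      ext x
      simp [MulAut.congr]
    rw [h2] at h1
    exact h1
  · intro h
    exact he.symm.trans (h.trans he)

theorem autGroup_map_congr {F : FusionSystem S} {P Q : Subgroup Ω} {e : P ≃* Q} (he : IsIso F e) :
    (F.autGroup P).map (MulAut.congr e).toMonoidHom = F.autGroup Q := by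
  ext β
  constructor
  · rintro ⟨α, hα, rfl⟩
    rw [SetLike.mem_coe, mem_autGroup_iff F he.le_left] at hα
    rw [mem_autGroup_iff F he.le_right]
    exact (isIso_congr he α).mpr hα
  · intro hβ
    rw [mem_autGroup_iff F he.le_right] at hβ
    refine ⟨(MulAut.congr e).symm β, ?_, ?_⟩
    · rw [SetLike.mem_coe, mem_autGroup_iff F he.le_left]
      rw [← isIso_congr he]
      have : (MulAut.congr e) ((MulAut.congr e).symm β) = β := MulEquiv.apply_symm_apply _ _
      rw [this]
      exact hβ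
    · exact MulEquiv.apply_symm_apply _ _

theorem card_autGroup_eq {F : FusionSystem S} {P Q : Subgroup Ω} {e : P ≃* Q} (he : IsIso F e) :
    Nat.card (F.autGroup P) = Nat.card (F.autGroup Q) := by
  rw [← autGroup_map_congr he]
  exact (Subgroup.card_map_of_injective (MulAut.congr e).injective).symm

/-! ### Receptive subgroups are fully centralized -/

theorem le_extender {P : Subgroup Ω} (hP : P ≤ S) (φ : P →* Ω) (hφ : ∀ x : P, φ x ∈ S) :
    P ≤ extender S P φ := by
  intro g hg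
  rw [mem_extender_iff]
  refine ⟨hP hg, Subgroup.le_normalizer hg, φ ⟨g, hg⟩, hφ _, fun x hx => ?_⟩
  have : (⟨g * (x : Ω) * g⁻¹, hx⟩ : P) = ⟨g, hg⟩ * x * ⟨g, hg⟩⁻¹ := Subtype.ext rfl
  rw [this, map_mul, map_mul, map_inv]

theorem le_extender_of_isIso {F : FusionSystem S} {P Q : Subgroup Ω} {e : P ≃* Q} (he : IsIso F e) :
    P ≤ extender S P (Q.subtype.comp e.toMonoidHom) :=
  le_extender he.le_left _ (fun x => he.le_right (e x).2)

/-- Receptivity, phrased for isomorphisms of the system. -/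
theorem receptive_exists_extension {F : FusionSystem S} {Q : Subgroup Ω} (hQ : F.IsReceptive Q)
    {P : Subgroup Ω} {e : P ≃* Q} (he : IsIso F e) :
    ∃ ψ ∈ F.Hom (extender S P (Q.subtype.comp e.toMonoidHom)),
      ∀ (x : Ω) (hP : x ∈ P) (hN : x ∈ extender S P (Q.subtype.comp e.toMonoidHom)),
        ψ ⟨x, hN⟩ = (e ⟨x, hP⟩ : Ω) := by
  have hr : (Q.subtype.comp e.toMonoidHom).range = Q := by
    ext y
    constructor
    · rintro ⟨x, rfl⟩
      exact (e x).2
    · intro hy
      exact ⟨e.symm ⟨y, hy⟩, by simp⟩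
  obtain ⟨ψ, hψ, h⟩ := hQ.2 P _ he hr
  exact ⟨ψ, hψ, fun x hP hN => h x hP hN⟩

/-- An isomorphism onto a receptive subgroup extends to a map on the centralizer, with values in the
centralizer of the target. -/
theorem exists_hom_centralizerIn_of_receptive {F : FusionSystem S} {P Q : Subgroup Ω}
    (hQ : F.IsReceptive Q) {e : P ≃* Q} (he : IsIso F e) :
    ∃ ψ ∈ F.Hom (centralizerIn S P), ∀ c : centralizerIn S P, ψ c ∈ centralizerIn S Q := by
  obtain ⟨ψ, hψ, hψe⟩ := receptive_exists_extension hQ he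
  have hPN := le_extender_of_isIso he
  have hCN : centralizerIn S P ≤ extender S P (Q.subtype.comp e.toMonoidHom) := centralizerIn_le_extender _
  refine ⟨ψ.comp (Subgroup.inclusion hCN), hom_restrict F hCN hψ, fun c => ?_⟩
  rw [mem_centralizerIn_iff]
  refine ⟨(F.le_of_mem hψ).2 _, fun y hy => ?_⟩
  obtain ⟨x, rfl⟩ : ∃ x : P, ((e x : Q) : Ω) = y := ⟨e.symm ⟨y, hy⟩, by simp⟩
  rw [← hψe x x.2 (hPN x.2)]
  simp only [MonoidHom.coe_comp, Function.comp_apply]
  rw [← map_mul, ← map_mul]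
  congr 1
  apply Subtype.ext
  exact (mem_centralizerIn_iff.mp c.2).2 x x.2

theorem card_centralizerIn_le_of_receptive [Finite S] {F : FusionSystem S} {P Q : Subgroup Ω}
    (hQ : F.IsReceptive Q) {e : P ≃* Q} (he : IsIso F e) :
    Nat.card (centralizerIn S P) ≤ Nat.card (centralizerIn S Q) := by
  obtain ⟨ψ, hψ, hmem⟩ := exists_hom_centralizerIn_of_receptive hQ he
  haveI : Finite (centralizerIn S Q) :=
    Finite.of_injective (Subgroup.inclusion (centralizerIn_le_S S Q)) (Subgroup.inclusion_injective _)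
  apply Nat.card_le_card_of_injective (fun c : centralizerIn S P => (⟨ψ c, hmem c⟩ : centralizerIn S Q))
  intro c c' h
  exact F.injective_of_mem hψ (congrArg Subtype.val h)

theorem isFullyCentralized_of_receptive [Finite S] {F : FusionSystem S} {Q : Subgroup Ω}
    (hQ : F.IsReceptive Q) : F.IsFullyCentralized Q := by
  refine ⟨hQ.1, fun Q' h => ?_⟩
  obtain ⟨e, he⟩ := (isConj_iff F).mp (isConj_symm F h)
  exact card_centralizerIn_le_of_receptive hQ he

/-! ### Mapping normalizers onto the normalizer of a fully automized receptive subgroup -/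

open scoped Pointwise in
/-- If `P` is fully automized and receptive and `Q` is conjugate to `P`, some map of the system defined on
`N_S(Q)` sends `Q` onto `P`. -/
theorem exists_hom_normalizerIn [Finite S] {p : ℕ} [Fact p.Prime] (hS : IsPGroup p S) {F : FusionSystem S}
    {P Q : Subgroup Ω} (hfa : F.IsFullyAutomized p P) (hr : F.IsReceptive P) (hQP : F.IsConj Q P) :
    ∃ φ ∈ F.Hom (normalizerIn S Q), ∃ χ : Q ≃* P, IsIso F χ ∧
      ∀ (x : Ω) (hx : x ∈ Q) (hx' : x ∈ normalizerIn S Q), φ ⟨x, hx'⟩ = χ ⟨x, hx⟩ := by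
  obtain ⟨ψ, hψ⟩ := (isConj_iff F).mp hQP
  have hQS : Q ≤ S := hψ.le_left
  have hPS : P ≤ S := hψ.le_right
  obtain ⟨-, R, hR⟩ := hfa
  haveI : Finite P := Finite.of_injective (Subgroup.inclusion hPS) (Subgroup.inclusion_injective hPS)
  have hBA : (autInducedBy S Q).map (MulAut.congr ψ).toMonoidHom ≤ F.autGroup P := by
    rw [← autGroup_map_congr hψ]
    exact Subgroup.map_mono (autInducedBy_le_autGroup F hQS)
  have hBp : IsPGroup p (((autInducedBy S Q).map (MulAut.congr ψ).toMonoidHom).subgroupOf (F.autGroup P)) := by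
    have h1 : IsPGroup p ((autInducedBy S Q).map (MulAut.congr ψ).toMonoidHom) :=
      (isPGroup_autInducedBy hS Q).map _
    exact h1.of_equiv (Subgroup.subgroupOfEquivOfLe hBA).symm
  obtain ⟨R', hR'⟩ := hBp.exists_le_sylow
  obtain ⟨a, ha⟩ := MulAction.exists_smul_eq (F.autGroup P) R' R
  have key : ∀ β ∈ (autInducedBy S Q).map (MulAut.congr ψ).toMonoidHom,
      (a : MulAut P) * β * (a : MulAut P)⁻¹ ∈ autInducedBy S P := by
    intro β hβ
    have h1 : (⟨β, hBA hβ⟩ : F.autGroup P) ∈ (R' : Subgroup (F.autGroup P)) := hR' hβ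
    have h2 := Subgroup.smul_mem_pointwise_smul _ (MulAut.conj a) _ h1
    rw [← Sylow.coe_subgroup_smul, ha, hR, Subgroup.mem_subgroupOf] at h2
    exact h2
  have haiso : IsIso F ((a : MulAut P) : P ≃* P) := (mem_autGroup_iff F hPS a).mp a.2
  have hχiso : IsIso F (ψ.trans (a : MulAut P)) := hψ.trans haiso
  have hext : normalizerIn S Q ≤ extender S Q (P.subtype.comp (ψ.trans (a : MulAut P)).toMonoidHom) := by
    intro g hg
    rw [mem_extender_iff]
    refine ⟨hg.1, hg.2, ?_⟩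
    have h1 : conjAutHom S Q ⟨g, hg⟩ ∈ autInducedBy S Q := by
      rw [← conjAutHom_range]; exact ⟨_, rfl⟩
    have h2 := key _ (Subgroup.mem_map_of_mem _ h1)
    rw [mem_autInducedBy_iff] at h2
    obtain ⟨h, hh, hh'⟩ := h2
    refine ⟨h, hh, fun x hx => ?_⟩
    have h3 := hh' ((ψ.trans (a : MulAut P)) x)
    have h4 : ((a : MulAut P) * (MulAut.congr ψ).toMonoidHom (conjAutHom S Q ⟨g, hg⟩) * (a : MulAut P)⁻¹)
        ((ψ.trans (a : MulAut P)) x) = (ψ.trans (a : MulAut P)) ⟨g * x * g⁻¹, hx⟩ := by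
      simp only [MulAut.mul_apply, MulEquiv.trans_apply, MulAut.inv_apply_self, MulEquiv.coe_toMonoidHom,
        MulAut.congr_apply, MulEquiv.symm_apply_apply]
      congr 2
    rw [h4] at h3
    exact h3
  obtain ⟨ψ', hψ', hψ'e⟩ := receptive_exists_extension hr hχiso
  refine ⟨ψ'.comp (Subgroup.inclusion hext), hom_restrict F hext hψ', ψ.trans (a : MulAut P), hχiso,
    fun x hx hx' => ?_⟩
  exact hψ'e x hx (hext hx')

theorem mem_normalizer_of_conj_mem {Q : Subgroup Ω} [Finite Q] {g : Ω} (h : ∀ y ∈ Q, g * y * g⁻¹ ∈ Q) :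
    g ∈ Subgroup.normalizer (Q : Set Ω) := by
  rw [Subgroup.mem_normalizer_iff]
  intro y
  refine ⟨h y, fun hy => ?_⟩
  have hinj : Function.Injective (fun x : Q => (⟨g * x * g⁻¹, h x x.2⟩ : Q)) := by
    intro x x' hxx
    have : g * (x : Ω) * g⁻¹ = g * (x' : Ω) * g⁻¹ := congrArg Subtype.val hxx
    exact Subtype.ext (mul_left_cancel (mul_right_cancel this))
  obtain ⟨x, hx⟩ := (Finite.injective_iff_surjective.mp hinj) ⟨g * y * g⁻¹, hy⟩
  have : g * (x : Ω) * g⁻¹ = g * y * g⁻¹ := congrArg Subtype.val hx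
  have hxy : (x : Ω) = y := mul_left_cancel (mul_right_cancel this)
  rw [← hxy]; exact x.2

/-- A map on `N_S(Q)` restricting to an isomorphism `Q ≃* P` takes values in `N_S(P)`. -/
theorem hom_normalizerIn_mem_normalizerIn {F : FusionSystem S} {P Q : Subgroup Ω} [Finite P]
    (hQS : Q ≤ S) {φ : normalizerIn S Q →* Ω} (hφ : φ ∈ F.Hom (normalizerIn S Q)) {χ : Q ≃* P}
    (hφχ : ∀ x : Q, φ ⟨x, le_normalizerIn hQS x.2⟩ = χ x)
    (n : normalizerIn S Q) : φ n ∈ normalizerIn S P := by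
  refine ⟨(F.le_of_mem hφ).2 n, ?_⟩
  apply mem_normalizer_of_conj_mem
  intro y hy
  obtain ⟨x, rfl⟩ : ∃ x : Q, ((χ x : P) : Ω) = y := ⟨χ.symm ⟨y, hy⟩, by simp⟩
  have hx' : (n : Ω) * x * (n : Ω)⁻¹ ∈ Q := conj_mem_of_mem_normalizerIn n.2 x.2
  have h1 : φ n * (χ x : Ω) * (φ n)⁻¹ = (χ ⟨(n : Ω) * x * (n : Ω)⁻¹, hx'⟩ : Ω) := by
    rw [← hφχ x, ← hφχ ⟨_, hx'⟩, ← map_inv, ← map_mul, ← map_mul]
    rfl
  rw [h1]
  exact (χ _).2

theorem hom_normalizerIn_mem_centralizerIn {F : FusionSystem S} {P Q : Subgroup Ω}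
    (hQS : Q ≤ S) {φ : normalizerIn S Q →* Ω} (hφ : φ ∈ F.Hom (normalizerIn S Q)) {χ : Q ≃* P}
    (hφχ : ∀ x : Q, φ ⟨x, le_normalizerIn hQS x.2⟩ = χ x)
    (n : normalizerIn S Q) : φ n ∈ centralizerIn S P ↔ (n : Ω) ∈ centralizerIn S Q := by
  rw [mem_centralizerIn_iff, mem_centralizerIn_iff]
  constructor
  · rintro ⟨-, h⟩
    refine ⟨n.2.1, fun x hx => ?_⟩
    have h1 := h (χ ⟨x, hx⟩) (χ ⟨x, hx⟩).2
    rw [← hφχ ⟨x, hx⟩, ← map_mul, ← map_mul] at h1
    have h2 := F.injective_of_mem hφ h1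
    exact congrArg Subtype.val h2
  · rintro ⟨-, h⟩
    refine ⟨(F.le_of_mem hφ).2 n, fun y hy => ?_⟩
    obtain ⟨x, rfl⟩ : ∃ x : Q, ((χ x : P) : Ω) = y := ⟨χ.symm ⟨y, hy⟩, by simp⟩
    rw [← hφχ x, ← map_mul, ← map_mul]
    congr 1
    exact Subtype.ext (h x x.2)

/-! ### Fully automized receptive subgroups are fully normalized -/

theorem card_normalizerIn_le_of_fa_receptive [Finite S] {p : ℕ} [Fact p.Prime] (hS : IsPGroup p S)
    {F : FusionSystem S} {P Q : Subgroup Ω} (hfa : F.IsFullyAutomized p P) (hr : F.IsReceptive P)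
    (hQP : F.IsConj Q P) : Nat.card (normalizerIn S Q) ≤ Nat.card (normalizerIn S P) := by
  have hQS : Q ≤ S := isConj_le_left F hQP
  have hPS : P ≤ S := isConj_le_right F hQP
  haveI : Finite P := Finite.of_injective (Subgroup.inclusion hPS) (Subgroup.inclusion_injective hPS)
  obtain ⟨φ, hφ, χ, -, hφχ⟩ := exists_hom_normalizerIn hS hfa hr hQP
  have hφχ' : ∀ x : Q, φ ⟨x, le_normalizerIn hQS x.2⟩ = χ x := fun x => hφχ x x.2 _
  haveI : Finite (normalizerIn S P) :=
    Finite.of_injective (Subgroup.inclusion (normalizerIn_le_S S P)) (Subgroup.inclusion_injective _)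
  apply Nat.card_le_card_of_injective
    (fun n : normalizerIn S Q => (⟨φ n, hom_normalizerIn_mem_normalizerIn hQS hφ hφχ' n⟩ : normalizerIn S P))
  intro n n' h
  exact F.injective_of_mem hφ (congrArg Subtype.val h)

theorem isFullyNormalized_of_fa_receptive [Finite S] {p : ℕ} [Fact p.Prime] (hS : IsPGroup p S)
    {F : FusionSystem S} {P : Subgroup Ω} (hfa : F.IsFullyAutomized p P) (hr : F.IsReceptive P) :
    F.IsFullyNormalized P :=
  ⟨hr.1, fun _ h => card_normalizerIn_le_of_fa_receptive hS hfa hr (isConj_symm F h)⟩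

/-! ### Fully centralized conjugates of a fully automized receptive subgroup are receptive -/

theorem isReceptive_of_fullyCentralized_of_conj [Finite S] {p : ℕ} [Fact p.Prime] (hS : IsPGroup p S)
    {F : FusionSystem S} {P Q : Subgroup Ω} (hfa : F.IsFullyAutomized p P) (hr : F.IsReceptive P)
    (hQP : F.IsConj Q P) (hQ : F.IsFullyCentralized Q) : F.IsReceptive Q := by
  have hQS : Q ≤ S := isConj_le_left F hQP
  have hPS : P ≤ S := isConj_le_right F hQP
  haveI : Finite P := Finite.of_injective (Subgroup.inclusion hPS) (Subgroup.inclusion_injective hPS)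
  haveI : Finite Q := Finite.of_injective (Subgroup.inclusion hQS) (Subgroup.inclusion_injective hQS)
  obtain ⟨φ, hφ, χ, hχ, hφχ⟩ := exists_hom_normalizerIn hS hfa hr hQP
  have hφχ' : ∀ x : Q, φ ⟨x, le_normalizerIn hQS x.2⟩ = χ x := fun x => hφχ x x.2 _
  -- φ maps C_S(Q) onto C_S(P)
  have hsurj : ∀ c' ∈ centralizerIn S P, ∃ c : normalizerIn S Q, (c : Ω) ∈ centralizerIn S Q ∧ φ c = c' := by
    haveI : Finite (centralizerIn S P) :=
      Finite.of_injective (Subgroup.inclusion (centralizerIn_le_S S P)) (Subgroup.inclusion_injective _)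
    have hf : ∀ c : centralizerIn S Q, φ ⟨c, centralizerIn_le_normalizerIn S Q c.2⟩ ∈ centralizerIn S P :=
      fun c => (hom_normalizerIn_mem_centralizerIn hQS hφ hφχ' _).mpr c.2
    have hinj : Function.Injective (fun c : centralizerIn S Q =>
        (⟨φ ⟨c, centralizerIn_le_normalizerIn S Q c.2⟩, hf c⟩ : centralizerIn S P)) := by
      intro c c' h
      have h2 := F.injective_of_mem hφ (congrArg Subtype.val h)
      have h3 : (c : Ω) = c' := congrArg (fun z : ↥(normalizerIn S Q) => (z : Ω)) h2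
      exact Subtype.ext h3
    have hbij := hinj.bijective_of_nat_card_le (hQ.2 P hQP)
    intro c' hc'
    obtain ⟨c, hc⟩ := hbij.2 ⟨c', hc'⟩
    exact ⟨⟨c, centralizerIn_le_normalizerIn S Q c.2⟩, c.2, congrArg Subtype.val hc⟩
  refine ⟨hQS, fun R β hβ hβr => ?_⟩
  obtain ⟨βe, hβe, hβeβ⟩ := exists_isIso_of_hom F hβ hβr
  have hγ : IsIso F (βe.trans χ) := hβe.trans hχ
  obtain ⟨γ', hγ', hγ'e⟩ := receptive_exists_extension hr hγ
  have hA : ∀ g ∈ extender S R β, ∃ hg' : g ∈ extender S R (P.subtype.comp (βe.trans χ).toMonoidHom),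
      ∃ n : normalizerIn S Q, φ n = γ' ⟨g, hg'⟩ := by
    intro g hg
    rw [mem_extender_iff] at hg
    obtain ⟨hgS, hgN, h, hh, hgh⟩ := hg
    have hgR : ∀ x : R, g * (x : Ω) * g⁻¹ ∈ R := fun x => (Subgroup.mem_normalizer_iff.mp hgN x).mp x.2
    have hβh : ∀ x : R, ((βe ⟨g * (x : Ω) * g⁻¹, hgR x⟩ : Q) : Ω) = h * (βe x : Ω) * h⁻¹ := by
      intro x
      rw [hβeβ, hβeβ]
      exact hgh x (hgR x)
    have hhN : h ∈ normalizerIn S Q := by
      refine ⟨hh, mem_normalizer_of_conj_mem (fun y hy => ?_)⟩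
      obtain ⟨x, rfl⟩ : ∃ x : R, ((βe x : Q) : Ω) = y := ⟨βe.symm ⟨y, hy⟩, by simp⟩
      rw [← hβh x]
      exact (βe _).2
    have hcomp : ∀ x : R, (((βe.trans χ) ⟨g * (x : Ω) * g⁻¹, hgR x⟩ : P) : Ω) =
        φ ⟨h, hhN⟩ * ((βe.trans χ) x : Ω) * (φ ⟨h, hhN⟩)⁻¹ := by
      intro x
      simp only [MulEquiv.trans_apply]
      rw [← hφχ' (βe x), ← hφχ' (βe ⟨g * (x : Ω) * g⁻¹, hgR x⟩), ← map_inv, ← map_mul, ← map_mul]
      congr 1
      exact Subtype.ext (hβh x)
    have hg' : g ∈ extender S R (P.subtype.comp (βe.trans χ).toMonoidHom) := by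
      rw [mem_extender_iff]
      exact ⟨hgS, hgN, φ ⟨h, hhN⟩, (F.le_of_mem hφ).2 _, fun x _ => hcomp x⟩
    refine ⟨hg', ?_⟩
    have hd : (φ ⟨h, hhN⟩)⁻¹ * γ' ⟨g, hg'⟩ ∈ centralizerIn S P := by
      rw [mem_centralizerIn_iff]
      refine ⟨S.mul_mem (S.inv_mem ((F.le_of_mem hφ).2 _)) ((F.le_of_mem hγ').2 _), fun y hy => ?_⟩
      obtain ⟨x, rfl⟩ : ∃ x : R, (((βe.trans χ) x : P) : Ω) = y := ⟨(βe.trans χ).symm ⟨y, hy⟩, by simp⟩
      have hxN : (x : Ω) ∈ extender S R (P.subtype.comp (βe.trans χ).toMonoidHom) :=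
        le_extender_of_isIso hγ x.2
      have e1 : γ' ⟨g, hg'⟩ * ((βe.trans χ) x : Ω) * (γ' ⟨g, hg'⟩)⁻¹ =
          (((βe.trans χ) ⟨g * (x : Ω) * g⁻¹, hgR x⟩ : P) : Ω) := by
        rw [← hγ'e x x.2 hxN, ← hγ'e _ (hgR x) (le_extender_of_isIso hγ (hgR x)), ← map_inv, ← map_mul,
          ← map_mul]
        rfl
      have e2 := e1.trans (hcomp x)
      generalize γ' ⟨g, hg'⟩ = b at e2 ⊢
      generalize φ ⟨h, hhN⟩ = a at e2 ⊢
      generalize (((βe.trans χ) x : P) : Ω) = y at e2 ⊢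
      calc y * (a⁻¹ * b) = a⁻¹ * (a * y * a⁻¹) * b := by group
        _ = a⁻¹ * (b * y * b⁻¹) * b := by rw [e2]
        _ = a⁻¹ * b * y := by group
    obtain ⟨c, -, hφc⟩ := hsurj _ hd
    refine ⟨⟨h, hhN⟩ * c, ?_⟩
    rw [map_mul, hφc]
    group
  obtain ⟨φinv, hφinv, hφinv'⟩ := F.inv_mem hφ
  have hle : extender S R β ≤ extender S R (P.subtype.comp (βe.trans χ).toMonoidHom) :=
    fun g hg => (hA g hg).1
  have hrange : ∀ x : extender S R β, (γ'.comp (Subgroup.inclusion hle)) x ∈ φ.range := by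
    intro x
    obtain ⟨_, n, hn⟩ := hA x x.2
    exact ⟨n, hn⟩
  refine ⟨φinv.comp ((γ'.comp (Subgroup.inclusion hle)).codRestrict φ.range hrange),
    F.comp_mem (hom_restrict F hle hγ') hφinv hrange, ?_⟩
  intro x hxR hxN
  have h1 : γ' ⟨x, hle hxN⟩ = φ ⟨(βe ⟨x, hxR⟩ : Q), le_normalizerIn hQS (βe ⟨x, hxR⟩).2⟩ := by
    rw [hγ'e x hxR (hle hxN), hφχ']
    rfl
  have h2 := hφinv' ⟨(βe ⟨x, hxR⟩ : Q), le_normalizerIn hQS (βe ⟨x, hxR⟩).2⟩
  rw [← hβeβ ⟨x, hxR⟩]
  rw [← h2]
  simp only [MonoidHom.coe_comp, Function.comp_apply]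
  congr 1
  exact Subtype.ext h1

/-! ### Fully normalized conjugates of a fully automized receptive subgroup -/

theorem card_subgroupOf_autInducedBy (F : FusionSystem S) {P : Subgroup Ω} (hP : P ≤ S) :
    Nat.card ((autInducedBy S P).subgroupOf (F.autGroup P)) = Nat.card (autInducedBy S P) :=
  Nat.card_congr (Subgroup.subgroupOfEquivOfLe (autInducedBy_le_autGroup F hP)).toEquiv

theorem fa_receptive_of_fullyNormalized_of_conj [Finite S] {p : ℕ} [Fact p.Prime] (hS : IsPGroup p S)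
    {F : FusionSystem S} {P Q : Subgroup Ω} (hfa : F.IsFullyAutomized p P) (hr : F.IsReceptive P)
    (hQP : F.IsConj Q P) (hQ : F.IsFullyNormalized Q) :
    F.IsFullyAutomized p Q ∧ F.IsReceptive Q ∧ F.IsFullyCentralized Q := by
  have hQS : Q ≤ S := isConj_le_left F hQP
  have hPS : P ≤ S := isConj_le_right F hQP
  haveI : Finite P := Finite.of_injective (Subgroup.inclusion hPS) (Subgroup.inclusion_injective hPS)
  haveI : Finite Q := Finite.of_injective (Subgroup.inclusion hQS) (Subgroup.inclusion_injective hQS)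
  haveI : Finite (normalizerIn S P) :=
    Finite.of_injective (Subgroup.inclusion (normalizerIn_le_S S P)) (Subgroup.inclusion_injective _)
  haveI : Finite (centralizerIn S P) :=
    Finite.of_injective (Subgroup.inclusion (centralizerIn_le_S S P)) (Subgroup.inclusion_injective _)
  haveI : Finite (centralizerIn S Q) :=
    Finite.of_injective (Subgroup.inclusion (centralizerIn_le_S S Q)) (Subgroup.inclusion_injective _)
  obtain ⟨φ, hφ, χ, hχ, hφχ⟩ := exists_hom_normalizerIn hS hfa hr hQP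
  have hφχ' : ∀ x : Q, φ ⟨x, le_normalizerIn hQS x.2⟩ = χ x := fun x => hφχ x x.2 _
  -- φ is a bijection N_S(Q) → N_S(P)
  have hinjN : Function.Injective (fun n : normalizerIn S Q =>
      (⟨φ n, hom_normalizerIn_mem_normalizerIn hQS hφ hφχ' n⟩ : normalizerIn S P)) := by
    intro n n' h
    exact F.injective_of_mem hφ (congrArg Subtype.val h)
  have hbijN := hinjN.bijective_of_nat_card_le (hQ.2 P hQP)
  have hcardN : Nat.card (normalizerIn S Q) = Nat.card (normalizerIn S P) := Nat.card_eq_of_bijective _ hbijN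
  -- φ is a bijection C_S(Q) → C_S(P)
  have hf : ∀ c : centralizerIn S Q, φ ⟨c, centralizerIn_le_normalizerIn S Q c.2⟩ ∈ centralizerIn S P :=
    fun c => (hom_normalizerIn_mem_centralizerIn hQS hφ hφχ' _).mpr c.2
  have hbijC : Function.Bijective (fun c : centralizerIn S Q =>
      (⟨φ ⟨c, centralizerIn_le_normalizerIn S Q c.2⟩, hf c⟩ : centralizerIn S P)) := by
    constructor
    · intro c c' h
      have h2 := F.injective_of_mem hφ (congrArg Subtype.val h)
      have h3 : (c : Ω) = c' := congrArg (fun z : ↥(normalizerIn S Q) => (z : Ω)) h2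
      exact Subtype.ext h3
    · intro c'
      obtain ⟨n, hn⟩ := hbijN.2 ⟨c', centralizerIn_le_normalizerIn S P c'.2⟩
      have hn' : φ n = c' := congrArg Subtype.val hn
      have hnc : (n : Ω) ∈ centralizerIn S Q := by
        rw [← hom_normalizerIn_mem_centralizerIn hQS hφ hφχ' n, hn']
        exact c'.2
      exact ⟨⟨n, hnc⟩, Subtype.ext hn'⟩
  have hcardC : Nat.card (centralizerIn S Q) = Nat.card (centralizerIn S P) := Nat.card_eq_of_bijective _ hbijC
  have hQfc : F.IsFullyCentralized Q := by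
    refine ⟨hQS, fun Q' h => ?_⟩
    obtain ⟨e, he⟩ := (isConj_iff F).mp (isConj_trans F (isConj_symm F h) hQP)
    rw [hcardC]
    exact card_centralizerIn_le_of_receptive hr he
  have hQr : F.IsReceptive Q := isReceptive_of_fullyCentralized_of_conj hS hfa hr hQP hQfc
  refine ⟨⟨hQS, ?_⟩, hQr, hQfc⟩
  have hcardA : Nat.card (autInducedBy S Q) = Nat.card (autInducedBy S P) := by
    have h1 := card_normalizerIn (S := S) Q
    have h2 := card_normalizerIn (S := S) P
    rw [hcardN, h2, hcardC] at h1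
    exact (Nat.eq_of_mul_eq_mul_left Nat.card_pos h1).symm
  obtain ⟨-, R, hR⟩ := hfa
  obtain ⟨χ₀, hχ₀⟩ := (isConj_iff F).mp hQP
  have hcard : Nat.card ((autInducedBy S Q).subgroupOf (F.autGroup Q)) =
      p ^ (Nat.card (F.autGroup Q)).factorization p := by
    rw [card_subgroupOf_autInducedBy F hQS, hcardA, ← card_subgroupOf_autInducedBy F hPS, ← hR,
      card_autGroup_eq hχ₀]
    exact R.card_eq_multiplicity
  exact ⟨Sylow.ofCard _ hcard, Sylow.coe_ofCard _ hcard⟩

/-! ### Saturated systems -/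

section saturated
variable [Finite S] {p : ℕ} [Fact p.Prime]

/-- In a saturated system every fully centralized subgroup is receptive. -/
theorem isReceptive_of_fullyCentralized (hS : IsPGroup p S) {F : FusionSystem S}
    (hF : F.IsSaturated p) {Q : Subgroup Ω} (hQ : F.IsFullyCentralized Q) : F.IsReceptive Q := by
  obtain ⟨P, hQP, hfa, hr⟩ := hF Q hQ.1
  exact isReceptive_of_fullyCentralized_of_conj hS hfa hr hQP hQ

/-- In a saturated system every fully normalized subgroup is fully automized, receptive and fully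
centralized. -/
theorem fa_receptive_of_fullyNormalized (hS : IsPGroup p S) {F : FusionSystem S}
    (hF : F.IsSaturated p) {Q : Subgroup Ω} (hQ : F.IsFullyNormalized Q) :
    F.IsFullyAutomized p Q ∧ F.IsReceptive Q ∧ F.IsFullyCentralized Q := by
  obtain ⟨P, hQP, hfa, hr⟩ := hF Q hQ.1
  exact fa_receptive_of_fullyNormalized_of_conj hS hfa hr hQP hQ

/-- In a saturated system: if `P` is fully normalized and `Q` is conjugate to `P`, some map of the system
defined on `N_S(Q)` sends `Q` onto `P`. -/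
theorem exists_hom_normalizerIn_of_fullyNormalized (hS : IsPGroup p S) {F : FusionSystem S}
    (hF : F.IsSaturated p) {P Q : Subgroup Ω} (hP : F.IsFullyNormalized P) (hQP : F.IsConj Q P) :
    ∃ φ ∈ F.Hom (normalizerIn S Q), ∃ χ : Q ≃* P, IsIso F χ ∧
      ∀ (x : Ω) (hx : x ∈ Q) (hx' : x ∈ normalizerIn S Q), φ ⟨x, hx'⟩ = χ ⟨x, hx⟩ := by
  obtain ⟨hfa, hr, -⟩ := fa_receptive_of_fullyNormalized hS hF hP
  exact exists_hom_normalizerIn hS hfa hr hQP

/-- Every subgroup of `S` is conjugate to a fully normalized subgroup. -/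
theorem exists_fullyNormalized_conj (F : FusionSystem S) {P : Subgroup Ω} (hP : P ≤ S) :
    ∃ Q, F.IsConj P Q ∧ F.IsFullyNormalized Q := by
  have hfin : {Q : Subgroup Ω | F.IsConj P Q}.Finite := by
    have h1 : {Q : Subgroup Ω | Q ≤ S}.Finite := by
      have hinj : Set.InjOn (fun Q : Subgroup Ω => Q.subgroupOf S) {Q : Subgroup Ω | Q ≤ S} := by
        intro Q hQ Q' hQ' h
        have := Subgroup.subgroupOf_inj.mp h
        rwa [inf_eq_left.mpr hQ, inf_eq_left.mpr hQ'] at this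
      exact Set.Finite.of_finite_image (Set.toFinite _) hinj
    exact h1.subset (fun Q hQ => isConj_le_right F hQ)
  obtain ⟨Q, hQ, hmax⟩ := Set.exists_max_image _ (fun Q : Subgroup Ω => Nat.card (normalizerIn S Q)) hfin
    ⟨P, isConj_refl F hP⟩
  refine ⟨Q, hQ, isConj_le_right F hQ, fun Q' hQ' => ?_⟩
  exact hmax Q' (isConj_trans F hQ hQ')

/-- Every subgroup of `S` is conjugate to a fully centralized subgroup. -/
theorem exists_fullyCentralized_conj (F : FusionSystem S) {P : Subgroup Ω} (hP : P ≤ S) :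
    ∃ Q, F.IsConj P Q ∧ F.IsFullyCentralized Q := by
  have hfin : {Q : Subgroup Ω | F.IsConj P Q}.Finite := by
    have h1 : {Q : Subgroup Ω | Q ≤ S}.Finite := by
      have hinj : Set.InjOn (fun Q : Subgroup Ω => Q.subgroupOf S) {Q : Subgroup Ω | Q ≤ S} := by
        intro Q hQ Q' hQ' h
        have := Subgroup.subgroupOf_inj.mp h
        rwa [inf_eq_left.mpr hQ, inf_eq_left.mpr hQ'] at this
      exact Set.Finite.of_finite_image (Set.toFinite _) hinj
    exact h1.subset (fun Q hQ => isConj_le_right F hQ)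
  obtain ⟨Q, hQ, hmax⟩ := Set.exists_max_image _ (fun Q : Subgroup Ω => Nat.card (centralizerIn S Q)) hfin
    ⟨P, isConj_refl F hP⟩
  refine ⟨Q, hQ, isConj_le_right F hQ, fun Q' hQ' => ?_⟩
  exact hmax Q' (isConj_trans F hQ hQ')

end saturated

end Cfsg.Agent.Lib.Helper27
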