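import Mathlib
import Cfsg.Prelude.Def_FusionSystem
import Cfsg.Agent.Lib.Helper1.Cores
import Cfsg.Agent.Lib.Helper27.FusionSat

set_option autoImplicit false

namespace Cfsg.Agent.Lib.Helper27

open Cfsg Cfsg.FusionSystem

variable {Ω : Type*} [Group Ω] {S : Subgroup Ω}

/-! ### Normalizers grow -/

theorem exists_mem_normalizerIn_not_mem [Finite S] {p : ℕ} [Fact p.Prime] (hS : IsPGroup p S)
    {P : Subgroup Ω} (hP : P < S) : ∃ g ∈ normalizerIn S P, g ∉ P := by
  haveI : Group.IsNilpotent S := hS.isNilpotent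
  have hnc : NormalizerCondition S := Group.normalizerCondition_of_isNilpotent
  have hlt : P.subgroupOf S < ⊤ := by
    rw [lt_top_iff_ne_top]
    intro h
    rw [Subgroup.subgroupOf_eq_top] at h
    exact absurd (le_antisymm hP.le h) hP.ne
  have h1 := hnc (P.subgroupOf S) hlt
  obtain ⟨x, hxN, hxP⟩ := SetLike.exists_of_lt h1
  refine ⟨x, ⟨x.2, ?_⟩, fun h => hxP (Subgroup.mem_subgroupOf.mpr h)⟩
  show (x : Ω) ∈ Subgroup.normalizer (P : Set Ω)
  rw [Subgroup.mem_normalizer_iff] at hxN ⊢
  intro y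
  constructor
  · intro hy
    have := (hxN ⟨y, hP.le hy⟩).mp (Subgroup.mem_subgroupOf.mpr hy)
    exact Subgroup.mem_subgroupOf.mp this
  · intro hy
    have hyS : y ∈ S := by
      have h2 : (x : Ω)⁻¹ * ((x : Ω) * y * (x : Ω)⁻¹) * (x : Ω) ∈ S :=
        S.mul_mem (S.mul_mem (S.inv_mem x.2) (hP.le hy)) x.2
      simpa [mul_assoc] using h2
    have := (hxN ⟨y, hyS⟩).mpr (Subgroup.mem_subgroupOf.mpr hy)
    exact Subgroup.mem_subgroupOf.mp this

theorem card_lt_card_normalizerIn [Finite S] {p : ℕ} [Fact p.Prime] (hS : IsPGroup p S)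
    {P : Subgroup Ω} (hP : P < S) : Nat.card P < Nat.card (normalizerIn S P) := by
  obtain ⟨g, hgN, hgP⟩ := exists_mem_normalizerIn_not_mem hS hP
  haveI : Finite (normalizerIn S P) :=
    Finite.of_injective (Subgroup.inclusion (normalizerIn_le_S S P)) (Subgroup.inclusion_injective _)
  have hle : P ≤ normalizerIn S P := le_normalizerIn hP.le
  refine lt_of_le_of_ne (Subgroup.card_le_of_le hle) (fun heq => hgP ?_)
  have := Subgroup.eq_of_le_of_card_ge hle heq.ge
  rw [this]; exact hgN

/-! ### Non-centric subgroups -/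

theorem exists_mem_centralizerIn_not_mem_of_not_centric [Finite S] {F : FusionSystem S} {R : Subgroup Ω}
    (hR : F.IsFullyCentralized R) (hnc : ¬ F.IsCentric R) : ∃ g ∈ centralizerIn S R, g ∉ R := by
  by_contra hcon
  push Not at hcon
  apply hnc
  refine ⟨hR.1, fun Q hRQ => ?_⟩
  have hQS : Q ≤ S := isConj_le_right F hRQ
  obtain ⟨e, he⟩ := (isConj_iff F).mp hRQ
  haveI : Finite (centralizerIn S Q) :=
    Finite.of_injective (Subgroup.inclusion (centralizerIn_le_S S Q)) (Subgroup.inclusion_injective _)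
  haveI : Finite (centralizerIn S R) :=
    Finite.of_injective (Subgroup.inclusion (centralizerIn_le_S S R)) (Subgroup.inclusion_injective _)
  -- the centre of Q inside C_S(Q)
  have hZle : Q ⊓ Subgroup.centralizer (Q : Set Ω) ≤ centralizerIn S Q := inf_le_inf_right _ hQS
  -- an injection C_S(R) → Z(Q)
  have hmem : ∀ c : centralizerIn S R, ((e ⟨c, hcon c c.2⟩ : Q) : Ω) ∈ Q ⊓ Subgroup.centralizer (Q : Set Ω) := by
    intro c
    refine ⟨(e _).2, ?_⟩
    show ((e ⟨c, hcon c c.2⟩ : Q) : Ω) ∈ Subgroup.centralizer (Q : Set Ω)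
    rw [Subgroup.mem_centralizer_iff]
    intro y hy
    obtain ⟨x, rfl⟩ : ∃ x : R, ((e x : Q) : Ω) = y := ⟨e.symm ⟨y, hy⟩, by simp⟩
    have h1 : x * ⟨c, hcon c c.2⟩ = ⟨c, hcon c c.2⟩ * x :=
      Subtype.ext ((mem_centralizerIn_iff.mp c.2).2 x x.2)
    have h2 := congrArg (fun z => ((e z : Q) : Ω)) h1
    simpa using h2
  have hinj : Function.Injective (fun c : centralizerIn S R =>
      (⟨(e ⟨c, hcon c c.2⟩ : Q), hmem c⟩ : ↥(Q ⊓ Subgroup.centralizer (Q : Set Ω)))) := by
    intro c c' h
    have h1 : ((e ⟨c, hcon c c.2⟩ : Q) : Ω) = (e ⟨c', hcon c' c'.2⟩ : Q) :=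
      congrArg (fun z : ↥(Q ⊓ Subgroup.centralizer (Q : Set Ω)) => (z : Ω)) h
    have h2 := e.injective (Subtype.ext h1)
    have h3 : (c : Ω) = c' := congrArg (fun z : R => (z : Ω)) h2
    exact Subtype.ext h3
  haveI : Finite ↥(Q ⊓ Subgroup.centralizer (Q : Set Ω)) :=
    Finite.of_injective (Subgroup.inclusion hZle) (Subgroup.inclusion_injective _)
  have h1 : Nat.card (centralizerIn S R) ≤ Nat.card ↥(Q ⊓ Subgroup.centralizer (Q : Set Ω)) :=
    Nat.card_le_card_of_injective _ hinj
  have h2 : Nat.card (centralizerIn S Q) ≤ Nat.card (centralizerIn S R) := hR.2 Q hRQ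
  have h3 : Q ⊓ Subgroup.centralizer (Q : Set Ω) = centralizerIn S Q :=
    Subgroup.eq_of_le_of_card_ge hZle (h2.trans h1)
  rw [← h3]
  exact inf_le_left

/-! ### Non-radical subgroups -/

theorem inn_normal (R : Type*) [Group R] : (Inn R).Normal := by
  constructor
  rintro _ ⟨g, rfl⟩ α
  refine ⟨α g, ?_⟩
  ext x
  simp [MulAut.conj_apply]

theorem mem_inn_iff {R : Type*} [Group R] (α : MulAut R) :
    α ∈ Inn R ↔ ∃ g : R, ∀ x, α x = g * x * g⁻¹ := by
  constructor
  · rintro ⟨g, rfl⟩
    exact ⟨g, fun x => rfl⟩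
  · rintro ⟨g, hg⟩
    refine ⟨g, ?_⟩
    ext x
    rw [hg x]; rfl

theorem inn_le_autInducedBy {R : Subgroup Ω} (hR : R ≤ S) : Inn R ≤ autInducedBy S R := by
  intro α hα
  rw [mem_inn_iff] at hα
  obtain ⟨g, hg⟩ := hα
  rw [mem_autInducedBy_iff]
  exact ⟨g, hR g.2, fun x => by rw [hg x]; rfl⟩

theorem inn_le_pCore_map [Finite S] {p : ℕ} [Fact p.Prime] (hS : IsPGroup p S) (F : FusionSystem S)
    {R : Subgroup Ω} (hR : R ≤ S) :
    Inn R ≤ (pCore p (F.autGroup R)).map (F.autGroup R).subtype := by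
  have hle : Inn R ≤ F.autGroup R := le_trans (inn_le_autInducedBy hR) (autInducedBy_le_autGroup F hR)
  have hn : ((Inn R).subgroupOf (F.autGroup R)).Normal := by
    haveI := inn_normal R
    infer_instance
  have hp : IsPGroup p ((Inn R).subgroupOf (F.autGroup R)) := by
    have h1 : IsPGroup p (Inn R) :=
      (isPGroup_autInducedBy hS R).to_le (inn_le_autInducedBy hR)
    exact h1.of_equiv (Subgroup.subgroupOfEquivOfLe hle).symm
  have h2 := Cfsg.Agent.Lib.Helper1.le_pCore hn hp
  intro α hα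
  exact ⟨⟨α, hle hα⟩, h2 (Subgroup.mem_subgroupOf.mpr hα), rfl⟩

theorem exists_mem_extender_not_mem_of_not_radical [Finite S] {p : ℕ} [Fact p.Prime] (hS : IsPGroup p S)
    {F : FusionSystem S} {R : Subgroup Ω} (hfa : F.IsFullyAutomized p R) (hnr : ¬ F.IsRadical p R)
    {α : R ≃* R} (hα : IsIso F α) :
    ∃ g ∈ extender S R (R.subtype.comp α.toMonoidHom), g ∉ R := by
  obtain ⟨hRS, R₀, hR₀⟩ := hfa
  haveI : Finite R := Finite.of_injective (Subgroup.inclusion hRS) (Subgroup.inclusion_injective hRS)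
  have hne : (pCore p (F.autGroup R)).map (F.autGroup R).subtype ≠ Inn R := fun h => hnr ⟨hRS, h⟩
  have hlt : Inn R < (pCore p (F.autGroup R)).map (F.autGroup R).subtype :=
    lt_of_le_of_ne (inn_le_pCore_map hS F hRS) hne.symm
  obtain ⟨k, hkK, hkI⟩ := SetLike.exists_of_lt hlt
  -- elements of the core are induced by S
  have hKS : ∀ k' ∈ (pCore p (F.autGroup R)).map (F.autGroup R).subtype, k' ∈ autInducedBy S R := by
    rintro _ ⟨k', hk', rfl⟩
    have h1 : k' ∈ (R₀ : Subgroup (F.autGroup R)) := Cfsg.Agent.Lib.Helper1.pCore_le_sylow R₀ hk'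
    rw [hR₀] at h1
    exact h1
  have hk1 := hKS k hkK
  rw [mem_autInducedBy_iff] at hk1
  obtain ⟨g, hgS, hgk⟩ := hk1
  have hαA : (α : MulAut R) ∈ F.autGroup R := (mem_autGroup_iff F hRS α).mpr hα
  refine ⟨g, ?_, ?_⟩
  · rw [mem_extender_iff]
    refine ⟨hgS, ?_, ?_⟩
    · apply mem_normalizer_of_conj_mem
      intro y hy
      rw [← hgk ⟨y, hy⟩]
      exact (k ⟨y, hy⟩).2
    · -- α k α⁻¹ is again in the core
      have h2 : (α : MulAut R) * k * (α : MulAut R)⁻¹ ∈
          (pCore p (F.autGroup R)).map (F.autGroup R).subtype := by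
        obtain ⟨k', hk', rfl⟩ := hkK
        haveI := Cfsg.Agent.Lib.Helper1.pCore_normal (G := F.autGroup R) p
        have := (Cfsg.Agent.Lib.Helper1.pCore_normal (G := F.autGroup R) p).conj_mem k' hk' ⟨α, hαA⟩
        exact ⟨_, this, rfl⟩
      have h3 := hKS _ h2
      rw [mem_autInducedBy_iff] at h3
      obtain ⟨h, hhS, hh⟩ := h3
      refine ⟨h, hhS, fun x hx => ?_⟩
      have h4 := hh (α x)
      simp only [MulAut.mul_apply, MulAut.inv_apply_self] at h4
      have h5 : k x = ⟨g * x * g⁻¹, hx⟩ := Subtype.ext (hgk x)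
      rw [h5] at h4
      exact h4
  · intro hgR
    apply hkI
    rw [mem_inn_iff]
    exact ⟨⟨g, hgR⟩, fun x => Subtype.ext (hgk x)⟩

/-! ### Alperin's fusion theorem -/

theorem hom_of_isIso_of_eq {E : FusionSystem S} {P Q : Subgroup Ω} {e : P ≃* Q} (he : IsIso E e)
    {φ : P →* Ω} (h : ∀ x : P, ((e x : Q) : Ω) = φ x) : φ ∈ E.Hom P := by
  have : φ = Q.subtype.comp e.toMonoidHom := by
    ext x
    exact (h x).symm
  rw [this]
  exact he

theorem isIso_of_hom_of_eq {E : FusionSystem S} {P Q : Subgroup Ω} {e : P ≃* Q}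
    {φ : P →* Ω} (hφ : φ ∈ E.Hom P) (h : ∀ x : P, ((e x : Q) : Ω) = φ x) : IsIso E e := by
  have : φ = Q.subtype.comp e.toMonoidHom := by
    ext x
    exact (h x).symm
  unfold IsIso
  rw [← this]
  exact hφ

/-- Extension step: an automorphism `α` of a receptive subgroup `R` whose extender is strictly larger than `R`
lies in `E` as soon as `E` contains all maps of `F` defined on subgroups of larger order than `R`. -/
theorem isIso_of_extender_gt [Finite S] {F E : FusionSystem S} {R : Subgroup Ω} (hrec : F.IsReceptive R)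
    (IH : ∀ P' : Subgroup Ω, P' ≤ S → Nat.card R < Nat.card P' → F.Hom P' ⊆ E.Hom P')
    {α : R ≃* R} (hα : IsIso F α)
    (hg : ∃ g ∈ extender S R (R.subtype.comp α.toMonoidHom), g ∉ R) : IsIso E α := by
  obtain ⟨g, hgN, hgR⟩ := hg
  obtain ⟨ψ, hψ, hψα⟩ := receptive_exists_extension hrec hα
  have hle : R ≤ extender S R (R.subtype.comp α.toMonoidHom) := le_extender_of_isIso hα
  have hNS : extender S R (R.subtype.comp α.toMonoidHom) ≤ S := extender_le_S _
  haveI : Finite ↥(extender S R (R.subtype.comp α.toMonoidHom)) :=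
    Finite.of_injective (Subgroup.inclusion hNS) (Subgroup.inclusion_injective hNS)
  have hlt : Nat.card R < Nat.card ↥(extender S R (R.subtype.comp α.toMonoidHom)) := by
    refine lt_of_le_of_ne (Subgroup.card_le_of_le hle) (fun heq => hgR ?_)
    have := Subgroup.eq_of_le_of_card_ge hle heq.ge
    rw [this]; exact hgN
  have hψE := IH _ hNS hlt hψ
  exact isIso_of_hom_of_eq (hom_restrict E hle hψE) (fun x => (hψα x x.2 _).symm)

/-- **Alperin's fusion theorem** (centric radical form, with the inductive hypothesis made available):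
a fusion system `E` over `S` containing the `F`-automorphisms of `S` and of all proper fully normalized
centric radical subgroups `R` (where one may assume that `E` already contains all maps of `F` defined on
subgroups of order larger than `R`) contains `F`. -/
theorem alperin_strong [Finite S] {p : ℕ} [Fact p.Prime] (hS : IsPGroup p S) {F : FusionSystem S}
    (hF : F.IsSaturated p) (E : FusionSystem S)
    (htop : ∀ α : S ≃* S, IsIso F α → IsIso E α)
    (hfrc : ∀ R : Subgroup Ω, R < S → F.IsFullyNormalized R → F.IsCentric R → F.IsRadical p R →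
      (∀ P' : Subgroup Ω, P' ≤ S → Nat.card R < Nat.card P' → F.Hom P' ⊆ E.Hom P') →
      ∀ α : R ≃* R, IsIso F α → IsIso E α) :
    ∀ P : Subgroup Ω, F.Hom P ⊆ E.Hom P := by
  have key : ∀ n : ℕ, ∀ P : Subgroup Ω, P ≤ S → Nat.card S - Nat.card P = n →
      ∀ φ ∈ F.Hom P, φ ∈ E.Hom P := by
    intro n
    induction n using Nat.strong_induction_on with
    | _ n IH =>
    intro P hPS hn φ hφ
    -- larger subgroups are covered by induction
    have IH' : ∀ P' : Subgroup Ω, P' ≤ S → Nat.card P < Nat.card P' → ∀ ψ ∈ F.Hom P', ψ ∈ E.Hom P' := by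
      intro P' hP'S hlt ψ hψ
      have hle : Nat.card P' ≤ Nat.card S := Subgroup.card_le_of_le hP'S
      exact IH (Nat.card S - Nat.card P') (by omega) P' hP'S rfl ψ hψ
    rcases eq_or_lt_of_le hPS with hPeq | hPlt
    · -- P = S
      subst hPeq
      obtain ⟨α, hα, hαφ⟩ := exists_aut_of_hom_top F hφ
      exact hom_of_isIso_of_eq (htop α hα) hαφ
    · -- P < S
      haveI : Finite P := Finite.of_injective (Subgroup.inclusion hPS) (Subgroup.inclusion_injective hPS)
      obtain ⟨Q, hQdef⟩ : ∃ Q, φ.range = Q := ⟨_, rfl⟩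
      obtain ⟨e, he, heφ⟩ := exists_isIso_of_hom F hφ hQdef
      have hQS : Q ≤ S := he.le_right
      have hcardQ : Nat.card Q = Nat.card P := (Nat.card_congr e.toEquiv).symm
      have hQlt : Q < S := by
        refine lt_of_le_of_ne hQS (fun h => ?_)
        have h1 : Nat.card P < Nat.card S := by
          refine lt_of_le_of_ne (Subgroup.card_le_of_le hPS) (fun heq => hPlt.ne ?_)
          exact Subgroup.eq_of_le_of_card_ge hPS heq.ge
        rw [← hcardQ, h] at h1
        exact lt_irrefl _ h1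
      obtain ⟨P', hPP', hfn⟩ := exists_fullyNormalized_conj F hPS
      have hP'S : P' ≤ S := hfn.1
      have hQP' : F.IsConj Q P' := isConj_trans F ((isConj_iff F).mpr ⟨e.symm, he.symm⟩) hPP'
      obtain ⟨φ₁, hφ₁, χ₁, hχ₁, hφχ₁⟩ := exists_hom_normalizerIn_of_fullyNormalized hS hF hfn hPP'
      obtain ⟨φ₂, hφ₂, χ₂, hχ₂, hφχ₂⟩ := exists_hom_normalizerIn_of_fullyNormalized hS hF hfn hQP'
      have hφ₁E : φ₁ ∈ E.Hom (normalizerIn S P) :=
        IH' _ (normalizerIn_le_S S P) (card_lt_card_normalizerIn hS hPlt) φ₁ hφ₁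
      have hφ₂E : φ₂ ∈ E.Hom (normalizerIn S Q) :=
        IH' _ (normalizerIn_le_S S Q) (by rw [← hcardQ]; exact card_lt_card_normalizerIn hS hQlt) φ₂ hφ₂
      have hχ₁E : IsIso E χ₁ :=
        isIso_of_hom_of_eq (hom_restrict E (le_normalizerIn hPS) hφ₁E) (fun x => (hφχ₁ x x.2 _).symm)
      have hχ₂E : IsIso E χ₂ :=
        isIso_of_hom_of_eq (hom_restrict E (le_normalizerIn hQS) hφ₂E) (fun x => (hφχ₂ x x.2 _).symm)
      -- the automorphism of P'
      have hαF : IsIso F (χ₁.symm.trans (e.trans χ₂)) := hχ₁.symm.trans (he.trans hχ₂)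
      have hcardP' : Nat.card P' = Nat.card P := (Nat.card_congr χ₁.toEquiv).symm
      have hP'lt : P' < S := by
        refine lt_of_le_of_ne hP'S (fun h => ?_)
        have h1 : Nat.card P < Nat.card S := by
          refine lt_of_le_of_ne (Subgroup.card_le_of_le hPS) (fun heq => hPlt.ne ?_)
          exact Subgroup.eq_of_le_of_card_ge hPS heq.ge
        rw [← hcardP', h] at h1
        exact lt_irrefl _ h1
      haveI : Finite P' := Finite.of_injective (Subgroup.inclusion hP'S) (Subgroup.inclusion_injective hP'S)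
      obtain ⟨hfa, hrec, hfc⟩ := fa_receptive_of_fullyNormalized hS hF hfn
      -- extension step
      have hext : ∀ α : P' ≃* P', IsIso F α →
          (∃ g ∈ extender S P' (P'.subtype.comp α.toMonoidHom), g ∉ P') → IsIso E α := by
        intro α hα ⟨g, hgN, hgP'⟩
        obtain ⟨ψ, hψ, hψα⟩ := receptive_exists_extension hrec hα
        have hle : P' ≤ extender S P' (P'.subtype.comp α.toMonoidHom) := le_extender_of_isIso hα
        have hNS : extender S P' (P'.subtype.comp α.toMonoidHom) ≤ S := extender_le_S _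
        haveI : Finite ↥(extender S P' (P'.subtype.comp α.toMonoidHom)) :=
          Finite.of_injective (Subgroup.inclusion hNS) (Subgroup.inclusion_injective hNS)
        have hlt : Nat.card P < Nat.card ↥(extender S P' (P'.subtype.comp α.toMonoidHom)) := by
          rw [← hcardP']
          refine lt_of_le_of_ne (Subgroup.card_le_of_le hle) (fun heq => hgP' ?_)
          have := Subgroup.eq_of_le_of_card_ge hle heq.ge
          rw [this]; exact hgN
        have hψE := IH' _ hNS hlt ψ hψ
        exact isIso_of_hom_of_eq (hom_restrict E hle hψE) (fun x => (hψα x x.2 _).symm)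
      have hαE : IsIso E (χ₁.symm.trans (e.trans χ₂)) := by
        by_cases hc : F.IsCentric P'
        · by_cases hr : F.IsRadical p P'
          · refine hfrc P' hP'lt hfn hc hr ?_ _ hαF
            intro P'' hP''S hlt ψ hψ
            exact IH' P'' hP''S (by rw [← hcardP']; exact hlt) ψ hψ
          · exact hext _ hαF (exists_mem_extender_not_mem_of_not_radical hS hfa hr hαF)
        · obtain ⟨g, hgC, hgP'⟩ := exists_mem_centralizerIn_not_mem_of_not_centric hfc hc
          exact hext _ hαF ⟨g, centralizerIn_le_extender _ hgC, hgP'⟩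
      -- reassemble
      have heE : IsIso E (χ₁.trans ((χ₁.symm.trans (e.trans χ₂)).trans χ₂.symm)) :=
        hχ₁E.trans (hαE.trans hχ₂E.symm)
      have heq : χ₁.trans ((χ₁.symm.trans (e.trans χ₂)).trans χ₂.symm) = e := by
        ext x
        simp
      rw [heq] at heE
      exact hom_of_isIso_of_eq heE heφ
  intro P φ hφ
  exact key _ P (hom_le F hφ) rfl φ hφ

/-- **Alperin's fusion theorem** (centric radical form): a fusion system `E` over `S` containing the
`F`-automorphisms of `S` and of all proper fully normalized centric radical subgroups contains `F`. -/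
theorem alperin [Finite S] {p : ℕ} [Fact p.Prime] (hS : IsPGroup p S) {F : FusionSystem S}
    (hF : F.IsSaturated p) (E : FusionSystem S)
    (htop : ∀ α : S ≃* S, IsIso F α → IsIso E α)
    (hfrc : ∀ R : Subgroup Ω, R < S → F.IsFullyNormalized R → F.IsCentric R → F.IsRadical p R →
      ∀ α : R ≃* R, IsIso F α → IsIso E α) :
    ∀ P : Subgroup Ω, F.Hom P ⊆ E.Hom P :=
  alperin_strong hS hF E htop (fun R hR hfn hc hr _ => hfrc R hR hfn hc hr)

end Cfsg.Agent.Lib.Helper27
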