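import Mathlib
import Cfsg.Prelude.Def_FusionSystem
import Cfsg.Agent.Lib.Helper27.FusionAlperin

set_option autoImplicit false

namespace Cfsg.Agent.Lib.Helper27

open Cfsg Cfsg.FusionSystem

variable {Ω : Type*} [Group Ω] {S : Subgroup Ω}

/-! ### Strongly closed subgroups -/

theorem stronglyClosed_conj_mem {F : FusionSystem S} {Q : Subgroup Ω} (hQ : F.StronglyClosed Q)
    {s : Ω} (hs : s ∈ S) {q : Ω} (hq : q ∈ Q) : s * q * s⁻¹ ∈ Q :=
  hQ.2 Q le_rfl _ (F.conj_mem hQ.1 hs) ⟨q, hq⟩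

/-- A map of the system defined on a subgroup containing the strongly closed finite subgroup `Q` maps `Q`
onto `Q`. -/
theorem stronglyClosed_map_eq [Finite S] {F : FusionSystem S} {Q : Subgroup Ω} (hQ : F.StronglyClosed Q)
    {P : Subgroup Ω} {ψ : P →* Ω} (hψ : ψ ∈ F.Hom P) : (Q.subgroupOf P).map ψ ≤ Q := by
  rintro _ ⟨x, hx, rfl⟩
  have hle : P ⊓ Q ≤ P := inf_le_left
  have := hQ.2 (P ⊓ Q) inf_le_right _ (hom_restrict F hle hψ) ⟨x, ⟨x.2, hx⟩⟩
  exact this

theorem stronglyClosed_map_eq' [Finite S] {F : FusionSystem S} {Q : Subgroup Ω} (hQ : F.StronglyClosed Q)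
    {P : Subgroup Ω} (hQP : Q ≤ P) {ψ : P →* Ω} (hψ : ψ ∈ F.Hom P) : (Q.subgroupOf P).map ψ = Q := by
  haveI : Finite Q := Finite.of_injective (Subgroup.inclusion hQ.1) (Subgroup.inclusion_injective hQ.1)
  apply Subgroup.eq_of_le_of_card_ge (stronglyClosed_map_eq hQ hψ)
  rw [Subgroup.card_map_of_injective (F.injective_of_mem hψ)]
  exact (Nat.card_congr (Subgroup.subgroupOfEquivOfLe hQP).toEquiv).ge

/-- values of a map on a join -/
theorem map_sup_mem {P Q P' : Subgroup Ω} (ψ : ↥(P ⊔ Q) →* Ω)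
    (hP : ∀ x : P, ψ (Subgroup.inclusion le_sup_left x) ∈ P')
    (hQ : ∀ x : Q, ψ (Subgroup.inclusion le_sup_right x) ∈ P') (z : ↥(P ⊔ Q)) : ψ z ∈ P' := by
  have key : P ⊔ Q ≤ (P'.comap ψ).map (Subgroup.subtype _) := by
    rw [sup_le_iff]
    constructor
    · intro x hx
      exact ⟨Subgroup.inclusion le_sup_left ⟨x, hx⟩, hP ⟨x, hx⟩, rfl⟩
    · intro x hx
      exact ⟨Subgroup.inclusion le_sup_right ⟨x, hx⟩, hQ ⟨x, hx⟩, rfl⟩
  obtain ⟨w, hw, hwz⟩ := key z.2
  have : w = z := Subtype.ext hwz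
  rw [← this]
  exact hw

/-- The fusion system over `S` of the maps of `F` that extend to the join with the strongly closed
subgroup `Q` (this is `N_F(Q)`; `Q` is normal in `F` iff it is all of `F`). -/
def normalizerSystemTop [Finite S] (F : FusionSystem S) (Q : Subgroup Ω) (hQ : F.StronglyClosed Q) :
    FusionSystem S where
  Hom P := {φ | φ ∈ F.Hom P ∧ ∃ ψ ∈ F.Hom (P ⊔ Q), ∀ x : P, ψ (Subgroup.inclusion le_sup_left x) = φ x}
  le_of_mem h := F.le_of_mem h.1
  injective_of_mem h := F.injective_of_mem h.1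
  conj_mem := by
    intro P g hP hg
    refine ⟨F.conj_mem hP hg, conjHom (P ⊔ Q) g, F.conj_mem (sup_le hP hQ.1) hg, fun x => rfl⟩
  comp_mem := by
    rintro P P' φ φ' ⟨hφ, ψ, hψ, hψφ⟩ ⟨hφ', ψ', hψ', hψφ'⟩ h
    refine ⟨F.comp_mem hφ hφ' h, ?_⟩
    have hval : ∀ z : ↥(P ⊔ Q), ψ z ∈ P' ⊔ Q := by
      apply map_sup_mem
      · intro x
        rw [hψφ x]
        exact (le_sup_left : P' ≤ P' ⊔ Q) (h x)
      · intro x
        apply (le_sup_right : Q ≤ P' ⊔ Q)
        apply stronglyClosed_map_eq hQ hψ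
        exact ⟨_, Subgroup.mem_subgroupOf.mpr x.2, rfl⟩
    refine ⟨ψ'.comp (ψ.codRestrict (P' ⊔ Q) hval), F.comp_mem hψ hψ' hval, fun x => ?_⟩
    show ψ' _ = φ' _
    rw [← hψφ']
    congr 1
    apply Subtype.ext
    exact hψφ x
  inv_mem := by
    rintro P φ ⟨hφ, ψ, hψ, hψφ⟩
    obtain ⟨φi, hφi, hφi'⟩ := F.inv_mem hφ
    obtain ⟨ψi, hψi, hψi'⟩ := F.inv_mem hψ
    refine ⟨φi, ⟨hφi, ?_⟩, hφi'⟩
    have hQmap : (Q.subgroupOf (P ⊔ Q)).map ψ = Q := stronglyClosed_map_eq' hQ le_sup_right hψ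
    have hle : φ.range ⊔ Q ≤ ψ.range := by
      rw [sup_le_iff]
      constructor
      · rintro _ ⟨x, rfl⟩
        exact ⟨_, hψφ x⟩
      · intro y hy
        rw [← hQmap] at hy
        obtain ⟨z, -, rfl⟩ := hy
        exact ⟨z, rfl⟩
    refine ⟨ψi.comp (Subgroup.inclusion hle), hom_restrict F hle hψi, ?_⟩
    rintro ⟨_, x, rfl⟩
    rw [hφi' x]
    have h1 : (Subgroup.inclusion hle (Subgroup.inclusion le_sup_left (⟨φ x, ⟨x, rfl⟩⟩ : φ.range))) =
        ⟨ψ (Subgroup.inclusion le_sup_left x), ⟨_, rfl⟩⟩ := Subtype.ext (hψφ x).symm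
    show ψi _ = _
    rw [h1, hψi']
    rfl

theorem isNormal_of_le_normalizerSystemTop [Finite S] {F : FusionSystem S} {Q : Subgroup Ω}
    (hQ : F.StronglyClosed Q) (h : ∀ P, F.Hom P ⊆ (normalizerSystemTop F Q hQ).Hom P) : F.IsNormal Q := by
  refine ⟨hQ.1, fun P φ hφ => ?_⟩
  obtain ⟨-, ψ, hψ, hψφ⟩ := h P hφ
  exact ⟨ψ, hψ, hψφ, stronglyClosed_map_eq' hQ le_sup_right hψ⟩

/-- A strongly closed subgroup contained in all fully normalized centric radical subgroups is normal in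
the saturated system. -/
theorem isNormal_of_le_frc [Finite S] {p : ℕ} [Fact p.Prime] (hS : IsPGroup p S) {F : FusionSystem S}
    (hF : F.IsSaturated p) {Q : Subgroup Ω} (hQ : F.StronglyClosed Q)
    (h : ∀ R : Subgroup Ω, R < S → F.IsFullyNormalized R → F.IsCentric R → F.IsRadical p R → Q ≤ R) :
    F.IsNormal Q := by
  apply isNormal_of_le_normalizerSystemTop hQ
  have hstep : ∀ R : Subgroup Ω, Q ≤ R → ∀ α : R ≃* R, IsIso F α →
      IsIso (normalizerSystemTop F Q hQ) α := by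
    intro R hQR α hα
    refine ⟨hα, ?_⟩
    have hle : R ⊔ Q ≤ R := sup_le le_rfl hQR
    exact ⟨_, hom_restrict F hle hα, fun x => rfl⟩
  apply alperin hS hF
  · exact hstep S hQ.1
  · intro R hR hfn hc hr
    exact hstep R (h R hR hfn hc hr)

/-! ### Automorphisms stabilizing a chain -/

/-- if conjugation by `g ∈ N_S(R)` is inner on the centric subgroup `R` then `g ∈ R` -/
theorem mem_of_conjAutHom_mem_inn {F : FusionSystem S} {R : Subgroup Ω} (hc : F.IsCentric R) {g : Ω}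
    (hg : g ∈ normalizerIn S R) (h : conjAutHom S R ⟨g, hg⟩ ∈ Inn R) : g ∈ R := by
  have hRS : R ≤ S := hc.1
  rw [mem_inn_iff] at h
  obtain ⟨x, hx⟩ := h
  have h3 : (x : Ω)⁻¹ * g ∈ centralizerIn S R := by
    rw [mem_centralizerIn_iff]
    refine ⟨S.mul_mem (S.inv_mem (hRS x.2)) hg.1, fun y hy => ?_⟩
    have h4 := congrArg (fun z : R => (z : Ω)) (hx ⟨y, hy⟩)
    simp only [conjAutHom_apply] at h4
    have h5 : g * y * g⁻¹ = (x : Ω) * y * (x : Ω)⁻¹ := h4
    calc y * ((x : Ω)⁻¹ * g) = (x : Ω)⁻¹ * ((x : Ω) * y * (x : Ω)⁻¹) * g := by group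
      _ = (x : Ω)⁻¹ * (g * y * g⁻¹) * g := by rw [h5]
      _ = (x : Ω)⁻¹ * g * y := by group
  have h6 : (x : Ω)⁻¹ * g ∈ R := hc.2 R (isConj_refl F hRS) h3
  have h7 : g = (x : Ω) * ((x : Ω)⁻¹ * g) := by group
  rw [h7]
  exact R.mul_mem x.2 h6

/-- The subgroup of `Aut_F(R)` of the automorphisms stabilizing the chain `b 0, b 1, …, b m`:
`x⁻¹ γ(x) ∈ b j` for `x ∈ b (j+1)`. -/
def chainStabilizer (F : FusionSystem S) (R : Subgroup Ω) (b : ℕ → Subgroup Ω) (m : ℕ)
    (hinv : ∀ j, ∀ α : F.autGroup R, ∀ x : R, (x : Ω) ∈ b j → ((((α : MulAut R) x : R)) : Ω) ∈ b j) :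
    Subgroup (F.autGroup R) where
  carrier := {γ | ∀ j < m, ∀ x : R, (x : Ω) ∈ b (j + 1) → ((x⁻¹ * (γ : MulAut R) x : R) : Ω) ∈ b j}
  one_mem' := by
    intro j _ x _
    simp
  mul_mem' := by
    intro γ δ hγ hδ j hj x hx
    have h1 := hδ j hj x hx
    have h2 := hγ j hj x hx
    have h3 : ((γ : MulAut R) (x⁻¹ * (δ : MulAut R) x) : Ω) ∈ b j := hinv j γ _ h1
    have h4 : x⁻¹ * ((γ * δ : F.autGroup R) : MulAut R) x =
        (x⁻¹ * (γ : MulAut R) x) * (γ : MulAut R) (x⁻¹ * (δ : MulAut R) x) := by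
      simp [MulAut.mul_apply]
    rw [h4]
    exact (b j).mul_mem h2 h3
  inv_mem' := by
    intro γ hγ j hj x hx
    have h1 : ((((γ⁻¹ : F.autGroup R) : MulAut R) x : R) : Ω) ∈ b (j + 1) := hinv (j + 1) γ⁻¹ x hx
    have h2 := hγ j hj _ h1
    have h3 : x⁻¹ * ((γ⁻¹ : F.autGroup R) : MulAut R) x =
        ((((γ⁻¹ : F.autGroup R) : MulAut R) x)⁻¹ * (γ : MulAut R) (((γ⁻¹ : F.autGroup R) : MulAut R) x))⁻¹ := by
      simp
    rw [h3]
    exact (b j).inv_mem h2

theorem chainStabilizer_normal (F : FusionSystem S) (R : Subgroup Ω) (b : ℕ → Subgroup Ω) (m : ℕ)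
    (hinv : ∀ j, ∀ α : F.autGroup R, ∀ x : R, (x : Ω) ∈ b j → ((((α : MulAut R) x : R)) : Ω) ∈ b j) :
    (chainStabilizer F R b m hinv).Normal := by
  constructor
  intro γ hγ α j hj x hx
  have h1 : ((((α⁻¹ : F.autGroup R) : MulAut R) x : R) : Ω) ∈ b (j + 1) := hinv (j + 1) α⁻¹ x hx
  have h2 := hγ j hj _ h1
  have h3 := hinv j α _ h2
  have h4 : x⁻¹ * ((α * γ * α⁻¹ : F.autGroup R) : MulAut R) x =
      (α : MulAut R) ((((α⁻¹ : F.autGroup R) : MulAut R) x)⁻¹ *
        (γ : MulAut R) (((α⁻¹ : F.autGroup R) : MulAut R) x)) := by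
    simp [MulAut.mul_apply]
  rw [h4]
  exact h3

theorem chainStabilizer_isPGroup [Finite S] {p : ℕ} [Fact p.Prime] (hS : IsPGroup p S) (F : FusionSystem S)
    {R : Subgroup Ω} (hRS : R ≤ S) (b : ℕ → Subgroup Ω) (m : ℕ)
    (hinv : ∀ j, ∀ α : F.autGroup R, ∀ x : R, (x : Ω) ∈ b j → ((((α : MulAut R) x : R)) : Ω) ∈ b j)
    (hb0 : b 0 = ⊥) (hbm : R ≤ b m) : IsPGroup p (chainStabilizer F R b m hinv) := by
  haveI : Finite R := Finite.of_injective (Subgroup.inclusion hRS) (Subgroup.inclusion_injective hRS)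
  have hpR : IsPGroup p R := hS.of_injective (Subgroup.inclusion hRS) (Subgroup.inclusion_injective hRS)
  obtain ⟨a, ha⟩ := IsPGroup.iff_card.mp hpR
  intro γ
  have key : ∀ j ≤ m, ∃ k : ℕ, ∀ x : R, (x : Ω) ∈ b j → (((γ ^ p ^ k : chainStabilizer F R b m hinv) :
      F.autGroup R) : MulAut R) x = x := by
    intro j
    induction j with
    | zero =>
      intro _
      refine ⟨0, fun x hx => ?_⟩
      rw [hb0, Subgroup.mem_bot] at hx
      have : x = 1 := Subtype.ext hx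
      rw [this, map_one]
    | succ j ih =>
      intro hj
      obtain ⟨k, hk⟩ := ih (by omega)
      refine ⟨k + a, fun x hx => ?_⟩
      set δ : chainStabilizer F R b m hinv := γ ^ p ^ k with hδ
      have hy := δ.2 j (by omega) x hx
      have hδy := hk _ hy
      have hpow : ∀ t : ℕ, (((δ ^ t : chainStabilizer F R b m hinv) : F.autGroup R) : MulAut R) x =
          x * (x⁻¹ * ((δ : F.autGroup R) : MulAut R) x) ^ t := by
        intro t
        induction t with
        | zero => simp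
        | succ t iht =>
          rw [pow_succ']
          simp only [Subgroup.coe_mul, MulAut.mul_apply]
          rw [iht, map_mul, map_pow, hδy]
          rw [pow_succ' (x⁻¹ * ((δ : F.autGroup R) : MulAut R) x) t, ← mul_assoc, mul_inv_cancel_left]
      have h1 := hpow (p ^ a)
      have h2 : (x⁻¹ * ((δ : F.autGroup R) : MulAut R) x) ^ p ^ a = 1 := by
        rw [← ha]; exact pow_card_eq_one'
      rw [h2, mul_one] at h1
      have h3 : γ ^ p ^ (k + a) = δ ^ p ^ a := by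
        rw [hδ, ← pow_mul, ← pow_add]
      rw [h3]
      exact h1
  obtain ⟨k, hk⟩ := key m le_rfl
  refine ⟨k, ?_⟩
  apply Subtype.ext
  apply Subtype.ext
  ext x
  have := hk x (hbm x.2)
  simpa using congrArg Subtype.val this

/-- **Stability lemma**: if `R` is centric and radical, and `g ∈ N_S(R)` stabilizes a chain
`⊥ = b 0, b 1, …, b m ≥ R` of `Aut_F(R)`-invariant subgroups, then `g ∈ R`. -/
theorem mem_of_stabilizes_chain [Finite S] {p : ℕ} [Fact p.Prime] (hS : IsPGroup p S) {F : FusionSystem S}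
    {R : Subgroup Ω} (hc : F.IsCentric R) (hr : F.IsRadical p R) (b : ℕ → Subgroup Ω) (m : ℕ)
    (hinv : ∀ j, ∀ α : R ≃* R, IsIso F α → ∀ x : R, (x : Ω) ∈ b j → ((α x : R) : Ω) ∈ b j)
    (hb0 : b 0 = ⊥) (hbm : R ≤ b m) {g : Ω} (hg : g ∈ normalizerIn S R)
    (hgb : ∀ j < m, ∀ x ∈ R, x ∈ b (j + 1) → x⁻¹ * (g * x * g⁻¹) ∈ b j) : g ∈ R := by
  have hRS : R ≤ S := hc.1
  have hinv' : ∀ j, ∀ α : F.autGroup R, ∀ x : R, (x : Ω) ∈ b j → ((((α : MulAut R) x : R)) : Ω) ∈ b j :=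
    fun j α x hx => hinv j _ ((mem_autGroup_iff F hRS α).mp α.2) x hx
  have hX := Cfsg.Agent.Lib.Helper1.le_pCore (chainStabilizer_normal F R b m hinv')
    (chainStabilizer_isPGroup hS F hRS b m hinv' hb0 hbm)
  have h1 : conjAutHom S R ⟨g, hg⟩ ∈ autInducedBy S R := by
    rw [← conjAutHom_range]; exact ⟨_, rfl⟩
  have h1A : conjAutHom S R ⟨g, hg⟩ ∈ F.autGroup R := autInducedBy_le_autGroup F hRS h1
  have h2 : (⟨conjAutHom S R ⟨g, hg⟩, h1A⟩ : F.autGroup R) ∈ chainStabilizer F R b m hinv' := by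
    intro j hj x hx
    exact hgb j hj x x.2 hx
  apply mem_of_conjAutHom_mem_inn hc hg
  rw [← hr.2]
  exact ⟨_, hX h2, rfl⟩

/-! ### Central series criterion -/

theorem weaklyClosed_conj_mem {F : FusionSystem S} {D : Subgroup Ω} (hD : F.WeaklyClosed D)
    {s : Ω} (hs : s ∈ S) {d : Ω} (hd : d ∈ D) : s * d * s⁻¹ ∈ D := by
  have h1 := hD.2 _ (F.conj_mem hD.1 hs)
  rw [← h1]
  exact ⟨⟨d, hd⟩, rfl⟩

theorem weaklyClosed_aut_mem {F : FusionSystem S} {D R : Subgroup Ω} (hD : F.WeaklyClosed D) (hDR : D ≤ R)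
    {α : R ≃* R} (hα : IsIso F α) (x : R) (hx : (x : Ω) ∈ D) : ((α x : R) : Ω) ∈ D := by
  have h1 := hD.2 _ (hom_restrict F hDR hα)
  rw [← h1]
  exact ⟨⟨x, hx⟩, rfl⟩

theorem weaklyClosed_of_stronglyClosed [Finite S] {F : FusionSystem S} {Q : Subgroup Ω}
    (hQ : F.StronglyClosed Q) : F.WeaklyClosed Q := by
  refine ⟨hQ.1, fun φ hφ => ?_⟩
  haveI : Finite Q := Finite.of_injective (Subgroup.inclusion hQ.1) (Subgroup.inclusion_injective hQ.1)
  have hle : φ.range ≤ Q := by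
    rintro _ ⟨x, rfl⟩
    exact hQ.2 Q le_rfl φ hφ x
  apply Subgroup.eq_of_le_of_card_ge hle
  rw [Nat.card_congr (MonoidHom.ofInjective (F.injective_of_mem hφ)).toEquiv]

theorem le_of_inf_normalizer_le [Finite S] {p : ℕ} [Fact p.Prime] (hS : IsPGroup p S) {R D : Subgroup Ω}
    (hRS : R ≤ S) (hDS : D ≤ S) (hDn : ∀ s ∈ S, ∀ d ∈ D, s * d * s⁻¹ ∈ D)
    (h : ∀ d ∈ D, d ∈ Subgroup.normalizer (R : Set Ω) → d ∈ R) : D ≤ R := by
  by_contra hcon
  have hTS : R ⊔ D ≤ S := sup_le hRS hDS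
  haveI : Finite ↥(R ⊔ D) := Finite.of_injective (Subgroup.inclusion hTS) (Subgroup.inclusion_injective hTS)
  haveI : Finite D := Finite.of_injective (Subgroup.inclusion hDS) (Subgroup.inclusion_injective hDS)
  have hpT : IsPGroup p ↥(R ⊔ D) := hS.of_injective (Subgroup.inclusion hTS) (Subgroup.inclusion_injective hTS)
  have hlt : R < R ⊔ D := by
    refine lt_of_le_of_ne le_sup_left (fun heq => hcon ?_)
    rw [heq]; exact le_sup_right
  obtain ⟨g, hgN, hgR⟩ := exists_mem_normalizerIn_not_mem hpT hlt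
  have hRD : R ≤ Subgroup.normalizer (D : Set Ω) := by
    intro r hr
    exact mem_normalizer_of_conj_mem (fun d hd => hDn r (hRS hr) d hd)
  have hg : g ∈ ((R ⊔ D : Subgroup Ω) : Set Ω) := hgN.1
  rw [Subgroup.coe_mul_of_left_le_normalizer_right R D hRD] at hg
  obtain ⟨r, hr, d, hd, rfl⟩ := hg
  apply hgR
  have hdN : d ∈ Subgroup.normalizer (R : Set Ω) := by
    have h1 : r⁻¹ * (r * d) ∈ Subgroup.normalizer (R : Set Ω) :=
      Subgroup.mul_mem _ (Subgroup.inv_mem _ (Subgroup.le_normalizer hr)) hgN.2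
    simpa using h1
  exact R.mul_mem hr (h d hd hdN)

/-- **Central series criterion**: a strongly closed subgroup with a central series (relative to `Q`)
with weakly closed terms is normal in the saturated system. -/
theorem isNormal_of_central_series [Finite S] {p : ℕ} [Fact p.Prime] (hS : IsPGroup p S)
    {F : FusionSystem S} (hF : F.IsSaturated p) {Q : Subgroup Ω} (hQ : F.StronglyClosed Q)
    (c : ℕ → Subgroup Ω) (n : ℕ) (hc0 : c 0 = ⊥) (hcn : c n = Q) (hcQ : ∀ j ≤ n, c j ≤ Q)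
    (hwc : ∀ j ≤ n, F.WeaklyClosed (c j))
    (hcomm : ∀ j < n, ∀ x ∈ c (j + 1), ∀ q ∈ Q, x * q * x⁻¹ * q⁻¹ ∈ c j) : F.IsNormal Q := by
  apply isNormal_of_le_frc hS hF hQ
  intro R hRlt hfn hc hr
  have hRS : R ≤ S := hRlt.le
  have key : ∀ j ≤ n, ∀ i ≤ j, c i ≤ R := by
    intro j
    induction j with
    | zero =>
      intro _ i hi
      have : i = 0 := by omega
      rw [this, hc0]; exact bot_le
    | succ j ih =>
      intro hj i hi
      have ih' := ih (by omega)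
      rcases Nat.lt_or_ge i (j + 1) with hlt | hge
      · exact ih' i (by omega)
      have hij : i = j + 1 := by omega
      subst hij
      have hD := hwc (j + 1) hj
      apply le_of_inf_normalizer_le hS hRS hD.1 (fun s hs d hd => weaklyClosed_conj_mem hD hs hd)
      intro d hd hdN
      have hdQ : d ∈ Q := hcQ (j + 1) hj hd
      have hdNS : d ∈ normalizerIn S R := ⟨hD.1 hd, hdN⟩
      -- the chain
      let b : ℕ → Subgroup Ω := fun i => if i ≤ j then c i else if i = j + 1 then R ⊓ Q else R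
      have hbi : ∀ i ≤ j, b i = c i := fun i hi => by simp [b, hi]
      have hbj1 : b (j + 1) = R ⊓ Q := by simp [b]
      have hbj2 : b (j + 2) = R := by simp [b]
      refine mem_of_stabilizes_chain hS hc hr b (j + 2) ?_ ?_ ?_ hdNS ?_
      · intro i α hα x hx
        by_cases hi : i ≤ j
        · rw [hbi i hi] at hx ⊢
          exact weaklyClosed_aut_mem (hwc i (by omega)) (ih' i hi) hα x hx
        · by_cases hi' : i = j + 1
          · rw [hi', hbj1] at hx ⊢
            refine ⟨(α x).2, ?_⟩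
            have hle : R ⊓ Q ≤ R := inf_le_left
            exact hQ.2 (R ⊓ Q) inf_le_right _ (hom_restrict F hle hα) ⟨x, hx⟩
          · have : b i = R := by simp [b, hi, hi']
            rw [this]; exact (α x).2
      · rw [hbi 0 (Nat.zero_le _), hc0]
      · rw [hbj2]
      · intro i hi x hxR hx
        rcases Nat.lt_or_ge i j with h1 | h1
        · -- i + 1 ≤ j
          rw [hbi (i + 1) (by omega)] at hx
          rw [hbi i (by omega)]
          have := hcomm i (by omega) x⁻¹ ((c (i + 1)).inv_mem hx) d hdQ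
          simpa [mul_assoc] using this
        · rcases Nat.eq_or_lt_of_le h1 with h2 | h2
          · -- i = j
            subst h2
            rw [hbj1] at hx
            rw [hbi j le_rfl]
            have := hcomm j (by omega) d hd x⁻¹ (Q.inv_mem hx.2)
            have h3 := (c j).inv_mem this
            simpa [mul_assoc] using h3
          · -- i = j + 1
            have hi' : i = j + 1 := by omega
            subst hi'
            rw [hbj1]
            refine ⟨R.mul_mem (R.inv_mem hxR) (conj_mem_of_mem_normalizerIn hdNS hxR), ?_⟩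
            have h3 : x⁻¹ * d * x⁻¹⁻¹ ∈ Q := stronglyClosed_conj_mem hQ (S.inv_mem (hRS hxR)) hdQ
            have h4 := Q.mul_mem h3 (Q.inv_mem hdQ)
            simpa [mul_assoc] using h4
  rw [← hcn]
  exact key n le_rfl n le_rfl

end Cfsg.Agent.Lib.Helper27
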