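import Mathlib
import Cfsg.Agent.Lib.Helper27.FusionAlperin
import Cfsg.Agent.S5097

set_option autoImplicit false

/-! Auxiliary subsystems for local-to-global arguments: the system of maps that are allowed to be
arbitrary on small subgroups, a bounded form of Alperin's fusion theorem, the subsystem of maps that are
trivial modulo a subgroup `T ≥ [S,S]`, and the subsystem of maps fixing a central subgroup. -/

namespace Cfsg.Agent.Lib.Helper27.LG2

open Cfsg Cfsg.FusionSystem Cfsg.Agent.Lib.Helper27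
open scoped commutatorElement

variable {Ω : Type*} [Group Ω] {S : Subgroup Ω}

/-- The maps of `F` that lie in `E` or have a source of order less than `m`. -/
def boundSys [Finite S] (F E : FusionSystem S) (hEF : ∀ P : Subgroup Ω, E.Hom P ⊆ F.Hom P) (m : ℕ) :
    FusionSystem S where
  Hom P := {φ | φ ∈ F.Hom P ∧ (Nat.card P < m ∨ φ ∈ E.Hom P)}
  le_of_mem h := F.le_of_mem h.1
  injective_of_mem h := F.injective_of_mem h.1
  conj_mem hP hg := ⟨F.conj_mem hP hg, Or.inr (E.conj_mem hP hg)⟩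
  comp_mem := by
    intro P Q φ ψ hφ hψ h
    refine ⟨F.comp_mem hφ.1 hψ.1 h, ?_⟩
    rcases hφ.2 with h1 | h1
    · exact Or.inl h1
    · rcases hψ.2 with h2 | h2
      · left
        have hQS : Q ≤ S := (F.le_of_mem hψ.1).1
        haveI : Finite ↥Q := Finite.of_injective (Subgroup.inclusion hQS) (Subgroup.inclusion_injective hQS)
        have hinj : Function.Injective (φ.codRestrict Q h) := by
          intro x y hxy
          apply F.injective_of_mem hφ.1
          exact congrArg (fun w : Q => (w : Ω)) hxy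
        exact lt_of_le_of_lt (Nat.card_le_card_of_injective _ hinj) h2
      · exact Or.inr (E.comp_mem h1 h2 h)
  inv_mem := by
    intro P φ hφ
    rcases hφ.2 with h1 | h1
    · obtain ⟨ψ, hψ, hψφ⟩ := F.inv_mem hφ.1
      refine ⟨ψ, ⟨hψ, Or.inl ?_⟩, hψφ⟩
      have e : P ≃ φ.range := (MonoidHom.ofInjective (F.injective_of_mem hφ.1)).toEquiv
      rw [← Nat.card_congr e]
      exact h1
    · obtain ⟨ψ, hψ, hψφ⟩ := E.inv_mem h1
      exact ⟨ψ, ⟨hEF _ hψ, Or.inr hψ⟩, hψφ⟩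

/-- Alperin's fusion theorem, bounded form: if all automorphisms of subgroups of order at least `m` lie
in the subsystem `E`, then so do all maps with source of order at least `m`. -/
theorem alperin_bounded [Finite S] {p : ℕ} [Fact p.Prime] (hS : IsPGroup p S) {F : FusionSystem S}
    (hF : F.IsSaturated p) (E : FusionSystem S) (hEF : ∀ P : Subgroup Ω, E.Hom P ⊆ F.Hom P) (m : ℕ)
    (h : ∀ R : Subgroup Ω, R ≤ S → m ≤ Nat.card R → ∀ α : R ≃* R, IsIso F α → IsIso E α) :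
    ∀ P : Subgroup Ω, m ≤ Nat.card P → F.Hom P ⊆ E.Hom P := by
  have key := alperin hS hF (boundSys F E hEF m)
    (fun α hα => by
      by_cases hm : m ≤ Nat.card S
      · exact ⟨hα, Or.inr (h S le_rfl hm α hα)⟩
      · exact ⟨hα, Or.inl (not_le.mp hm)⟩)
    (fun R hR _ _ _ α hα => by
      by_cases hm : m ≤ Nat.card R
      · exact ⟨hα, Or.inr (h R hR.le hm α hα)⟩
      · exact ⟨hα, Or.inl (not_le.mp hm)⟩)
  intro P hP φ hφ
  rcases (key P hφ).2 with h1 | h1
  · exact absurd hP (not_le.mpr h1)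
  · exact h1

/-- The maps of `F` that are trivial modulo `T`. -/
def focSub (F : FusionSystem S) (T : Subgroup Ω) (hT : ⁅(S : Subgroup Ω), (S : Subgroup Ω)⁆ ≤ T) :
    FusionSystem S where
  Hom P := {φ | φ ∈ F.Hom P ∧ ∀ x : P, (x : Ω)⁻¹ * φ x ∈ T}
  le_of_mem h := F.le_of_mem h.1
  injective_of_mem h := F.injective_of_mem h.1
  conj_mem := by
    intro P g hP hg
    refine ⟨F.conj_mem hP hg, fun x => hT ?_⟩
    have h1 : (x : Ω)⁻¹ * conjHom P g x = ⁅(x : Ω)⁻¹, g⁆ := by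
      show (x : Ω)⁻¹ * (g * x * g⁻¹) = (x : Ω)⁻¹ * g * ((x : Ω)⁻¹)⁻¹ * g⁻¹
      group
    rw [h1]
    exact Subgroup.commutator_mem_commutator (S.inv_mem (hP x.2)) hg
  comp_mem := by
    intro P Q φ ψ hφ hψ h
    refine ⟨F.comp_mem hφ.1 hψ.1 h, fun x => ?_⟩
    have h1 : (x : Ω)⁻¹ * (ψ.comp (φ.codRestrict Q h)) x =
        ((x : Ω)⁻¹ * φ x) * ((φ x)⁻¹ * ψ ⟨φ x, h x⟩) := by
      show (x : Ω)⁻¹ * ψ ⟨φ x, h x⟩ = _
      group
    rw [h1]
    exact T.mul_mem (hφ.2 x) (hψ.2 ⟨φ x, h x⟩)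
  inv_mem := by
    intro P φ hφ
    obtain ⟨ψ, hψ, hψφ⟩ := F.inv_mem hφ.1
    refine ⟨ψ, ⟨hψ, ?_⟩, hψφ⟩
    rintro ⟨_, x, rfl⟩
    rw [hψφ x]
    have h1 : (φ x)⁻¹ * (x : Ω) = ((x : Ω)⁻¹ * φ x)⁻¹ := by group
    show (φ x)⁻¹ * (x : Ω) ∈ T
    rw [h1]
    exact T.inv_mem (hφ.2 x)

theorem mem_focSub {F : FusionSystem S} {T : Subgroup Ω} {hT : ⁅(S : Subgroup Ω), (S : Subgroup Ω)⁆ ≤ T}
    {P : Subgroup Ω} {φ : P →* Ω} :
    φ ∈ (focSub F T hT).Hom P ↔ φ ∈ F.Hom P ∧ ∀ x : P, (x : Ω)⁻¹ * φ x ∈ T := Iff.rfl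

/-- Transport of a fusion system along an equality of the underlying subgroups. -/
theorem exists_cast_system {T S' : Subgroup Ω} (h : T = S') (E : FusionSystem T) :
    ∃ E' : FusionSystem S', ∀ P : Subgroup Ω, E'.Hom P = E.Hom P := by
  subst h
  exact ⟨E, fun _ => rfl⟩

/-- The subsystem of the maps of `F` fixing a subgroup `Z ≤ Z(S)` elementwise (after extension). -/
theorem exists_cenSub (F : FusionSystem S) {Z : Subgroup Ω} (hZS : Z ≤ S)
    (hZ : Z ≤ Subgroup.centralizer (S : Set Ω)) :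
    ∃ E : FusionSystem S, ∀ P : Subgroup Ω, E.Hom P = F.centralizerHom Z P := by
  obtain ⟨C, hC⟩ := Cfsg.Agent.S5097.result F Z hZS
  have hT : centralizerIn S Z = S := by
    apply le_antisymm inf_le_left
    intro s hs
    refine ⟨hs, ?_⟩
    apply Subgroup.mem_centralizer_iff.mpr
    intro z hz
    have := (Subgroup.mem_centralizer_iff.mp (hZ hz)) s hs
    exact this.symm
  obtain ⟨E, hE⟩ := exists_cast_system hT C
  exact ⟨E, fun P => by rw [hE P, hC P]⟩

end Cfsg.Agent.Lib.Helper27.LG2
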