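import Mathlib
import Cfsg.Prelude.Def_FusionSystem
import Cfsg.Agent.Lib.Helper27.FusionSat
import Cfsg.Agent.Lib.Helper27.FusionAlperin

set_option autoImplicit false

namespace Cfsg.Agent.Lib.Helper27

open Cfsg Cfsg.FusionSystem

variable {Ω : Type*} [Group Ω] {S : Subgroup Ω}

/-! ### Basic facts on centric subgroups -/

theorem isCentric_of_isConj {F : FusionSystem S} {P Q : Subgroup Ω} (hP : F.IsCentric P)
    (h : F.IsConj P Q) : F.IsCentric Q :=
  ⟨isConj_le_right F h, fun Q' hQ' => hP.2 Q' (isConj_trans F h hQ')⟩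

theorem isCentric_of_le_system {F F' : FusionSystem S} (hle : F' ≤ F) {P : Subgroup Ω}
    (hP : F.IsCentric P) : F'.IsCentric P :=
  ⟨hP.1, fun Q ⟨φ, hφ, hr⟩ => hP.2 Q ⟨φ, hle P hφ, hr⟩⟩

theorem centralizerIn_anti {P Q : Subgroup Ω} (h : P ≤ Q) : centralizerIn S Q ≤ centralizerIn S P := by
  intro g hg
  rw [mem_centralizerIn_iff] at hg ⊢
  exact ⟨hg.1, fun x hx => hg.2 x (h hx)⟩

theorem isCentric_of_le {F : FusionSystem S} {P R : Subgroup Ω} (hP : F.IsCentric P) (hPR : P ≤ R)
    (hRS : R ≤ S) : F.IsCentric R := by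
  refine ⟨hRS, fun R' hR' => ?_⟩
  obtain ⟨e, he⟩ := (isConj_iff F).mp hR'
  have hres := hom_restrict F hPR he
  have hPP' : F.IsConj P ((R'.subtype.comp e.toMonoidHom).comp (Subgroup.inclusion hPR)).range :=
    ⟨_, hres, rfl⟩
  have hP'R' : ((R'.subtype.comp e.toMonoidHom).comp (Subgroup.inclusion hPR)).range ≤ R' := by
    rintro _ ⟨x, rfl⟩
    exact (e _).2
  intro g hg
  exact hP'R' (hP.2 _ hPP' (centralizerIn_anti hP'R' hg))

theorem isFullyCentralized_of_isCentric [Finite S] {F : FusionSystem S} {P : Subgroup Ω}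
    (hP : F.IsCentric P) : F.IsFullyCentralized P := by
  refine ⟨hP.1, fun Q hQ => ?_⟩
  obtain ⟨e, he⟩ := (isConj_iff F).mp hQ
  have hQc := hP.2 Q hQ
  haveI : Finite (centralizerIn S P) :=
    Finite.of_injective (Subgroup.inclusion (centralizerIn_le_S S P)) (Subgroup.inclusion_injective _)
  have hmem : ∀ c : centralizerIn S Q, ((e.symm ⟨c, hQc c.2⟩ : P) : Ω) ∈ centralizerIn S P := by
    intro c
    rw [mem_centralizerIn_iff]
    refine ⟨hP.1 (e.symm _).2, fun x hx => ?_⟩
    have h1 := (mem_centralizerIn_iff.mp c.2).2 (e ⟨x, hx⟩) (e ⟨x, hx⟩).2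
    have h2 : e ⟨x, hx⟩ * ⟨c, hQc c.2⟩ = ⟨c, hQc c.2⟩ * e ⟨x, hx⟩ := Subtype.ext h1
    have h3 := congrArg e.symm h2
    rw [map_mul, map_mul, e.symm_apply_apply] at h3
    exact congrArg Subtype.val h3
  apply Nat.card_le_card_of_injective
    (fun c : centralizerIn S Q => (⟨_, hmem c⟩ : centralizerIn S P))
  intro c c' h
  have h0 : ((e.symm ⟨c, hQc c.2⟩ : P) : Ω) = ((e.symm ⟨c', hQc c'.2⟩ : P) : Ω) :=
    congrArg (fun z : centralizerIn S P => (z : Ω)) h
  have h1 : (e.symm ⟨c, hQc c.2⟩ : P) = e.symm ⟨c', hQc c'.2⟩ := Subtype.ext h0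
  have h2 := e.symm.injective h1
  exact Subtype.ext (congrArg (fun z : Q => (z : Ω)) h2)

/-! ### Conjugating `p`-subgroups of `Aut_F(P)` into `Aut_S(P)` -/

open scoped Pointwise in
theorem exists_conj_mem_autInducedBy [Finite S] {p : ℕ} [Fact p.Prime] {F : FusionSystem S}
    {P : Subgroup Ω} (hfa : F.IsFullyAutomized p P) {B : Subgroup (MulAut P)} (hB : IsPGroup p B)
    (hBA : B ≤ F.autGroup P) :
    ∃ a : F.autGroup P, ∀ β ∈ B, (a : MulAut P) * β * (a : MulAut P)⁻¹ ∈ autInducedBy S P := by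
  obtain ⟨hPS, R, hR⟩ := hfa
  haveI : Finite P := Finite.of_injective (Subgroup.inclusion hPS) (Subgroup.inclusion_injective hPS)
  have hBp : IsPGroup p (B.subgroupOf (F.autGroup P)) :=
    hB.of_equiv (Subgroup.subgroupOfEquivOfLe hBA).symm
  obtain ⟨R', hR'⟩ := hBp.exists_le_sylow
  obtain ⟨a, ha⟩ := MulAction.exists_smul_eq (F.autGroup P) R' R
  refine ⟨a, fun β hβ => ?_⟩
  have h1 : (⟨β, hBA hβ⟩ : F.autGroup P) ∈ (R' : Subgroup (F.autGroup P)) := hR' hβ
  have h2 := Subgroup.smul_mem_pointwise_smul _ (MulAut.conj a) _ h1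
  rw [← Sylow.coe_subgroup_smul, ha, hR, Subgroup.mem_subgroupOf] at h2
  exact h2

/-! ### Maps restricting to the identity on a normal centric subgroup -/

/-- Let `F` be saturated, `P ⊴ R ≤ S` with `P` centric, and `θ : R → S` a map of the system that is the
identity on `P`. Then `θ` is conjugation by an element of `Z(P)`. -/
theorem exists_center_conj_of_restrict_id [Finite S] {p : ℕ} [Fact p.Prime] (hS : IsPGroup p S)
    {F : FusionSystem S} (hF : F.IsSaturated p) {P R : Subgroup Ω} (hP : F.IsCentric P) (hPR : P ≤ R)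
    (hRN : R ≤ normalizerIn S P) {θ : R →* Ω} (hθ : θ ∈ F.Hom R)
    (hid : ∀ x : R, (x : Ω) ∈ P → θ x = x) :
    ∃ z ∈ P, (∀ x ∈ P, x * z = z * x) ∧ ∀ g : R, θ g = z * g * z⁻¹ := by
  have hRS : R ≤ S := hom_le F hθ
  have hPS : P ≤ S := hP.1
  haveI : Finite R := Finite.of_injective (Subgroup.inclusion hRS) (Subgroup.inclusion_injective hRS)
  haveI : Finite P := Finite.of_injective (Subgroup.inclusion hPS) (Subgroup.inclusion_injective hPS)
  have hw : ∀ g : R, (g : Ω)⁻¹ * θ g ∈ centralizerIn S P := by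
    intro g
    rw [mem_centralizerIn_iff]
    refine ⟨S.mul_mem (S.inv_mem (hRS g.2)) ((F.le_of_mem hθ).2 g), fun x hx => ?_⟩
    have hx' : (g : Ω) * x * (g : Ω)⁻¹ ∈ P := conj_mem_of_mem_normalizerIn (hRN g.2) hx
    have h1 : θ (g * ⟨x, hPR hx⟩ * g⁻¹) = (g : Ω) * x * (g : Ω)⁻¹ := hid (g * ⟨x, hPR hx⟩ * g⁻¹) hx'
    rw [map_mul, map_mul, map_inv, hid ⟨x, hPR hx⟩ hx] at h1
    calc x * ((g : Ω)⁻¹ * θ g) = (g : Ω)⁻¹ * ((g : Ω) * x * (g : Ω)⁻¹) * θ g := by group
      _ = (g : Ω)⁻¹ * (θ g * x * (θ g)⁻¹) * θ g := by rw [h1]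
      _ = (g : Ω)⁻¹ * θ g * x := by group
  have hwP : ∀ g : R, (g : Ω)⁻¹ * θ g ∈ P := fun g => hP.2 P (isConj_refl F hPS) (hw g)
  have hθR : ∀ g : R, θ g ∈ R := by
    intro g
    have := R.mul_mem g.2 (hPR (hwP g))
    rwa [mul_inv_cancel_left] at this
  have hinj : Function.Injective (θ.codRestrict R hθR) := by
    intro x y h
    exact F.injective_of_mem hθ (congrArg Subtype.val h)
  let α : R ≃* R := MulEquiv.ofBijective (θ.codRestrict R hθR)
    ⟨hinj, Finite.injective_iff_surjective.mp hinj⟩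
  have hαθ : ∀ g : R, ((α g : R) : Ω) = θ g := fun g => rfl
  have hα : IsIso F α := isIso_of_hom_of_eq hθ hαθ
  -- `α` has `p`-power order
  have hfix : ∀ g : R, α (g⁻¹ * α g) = g⁻¹ * α g := by
    intro g
    apply Subtype.ext
    rw [hαθ]
    exact hid _ (hwP g)
  have hpow : ∀ (k : ℕ) (g : R), ((α : MulAut R) ^ k) g = g * (g⁻¹ * α g) ^ k := by
    intro k
    induction k with
    | zero => intro g; simp
    | succ k ih =>
      intro g
      rw [pow_succ', MulAut.mul_apply, ih, map_mul, map_pow, hfix g, pow_succ', ← mul_assoc,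
        mul_inv_cancel_left]
  have hαpow : (α : MulAut R) ^ Nat.card P = 1 := by
    ext g
    rw [hpow]
    have h1 : (⟨_, hwP g⟩ : P) ^ Nat.card P = 1 := pow_card_eq_one'
    have h2 : ((g : Ω)⁻¹ * θ g) ^ Nat.card P = 1 := by
      have := congrArg (fun z : P => (z : Ω)) h1
      simp only [Subgroup.coe_pow, Subgroup.coe_one] at this
      exact this
    have h3 : (g⁻¹ * α g) ^ Nat.card P = 1 := by
      apply Subtype.ext
      simp only [Subgroup.coe_pow, Subgroup.coe_mul, Subgroup.coe_inv, Subgroup.coe_one]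
      rw [hαθ]
      exact h2
    rw [h3]
    simp
  -- transport to a fully normalized conjugate
  obtain ⟨R', hRR', hfn⟩ := exists_fullyNormalized_conj F hRS
  obtain ⟨χ, hχ⟩ := (isConj_iff F).mp hRR'
  have hR'S : R' ≤ S := hfn.1
  obtain ⟨hfa, -, -⟩ := fa_receptive_of_fullyNormalized hS hF hfn
  have hβA : MulAut.congr χ α ∈ F.autGroup R' :=
    (mem_autGroup_iff F hR'S _).mpr ((isIso_congr hχ α).mpr hα)
  have hβpow : (MulAut.congr χ α) ^ Nat.card P = 1 := by
    rw [← map_pow, hαpow, map_one]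
  obtain ⟨n, hn⟩ := IsPGroup.iff_card.mp
    (hS.of_injective (Subgroup.inclusion hPS) (Subgroup.inclusion_injective hPS))
  have hBp : IsPGroup p (Subgroup.zpowers (MulAut.congr χ α)) := by
    rintro ⟨g, hg⟩
    obtain ⟨m, rfl⟩ := Subgroup.mem_zpowers_iff.mp hg
    refine ⟨n, Subtype.ext ?_⟩
    simp only [Subgroup.coe_pow, Subgroup.coe_one]
    rw [← zpow_natCast, ← zpow_mul, mul_comm, zpow_mul, zpow_natCast, ← hn, hβpow, one_zpow]
  obtain ⟨a, ha⟩ := exists_conj_mem_autInducedBy hfa hBp (Subgroup.zpowers_le.mpr hβA)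
  have h1 := ha _ (Subgroup.mem_zpowers _)
  rw [mem_autInducedBy_iff] at h1
  obtain ⟨s, hsS, hs⟩ := h1
  have haiso : IsIso F ((a : MulAut R') : R' ≃* R') := (mem_autGroup_iff F hR'S a).mp a.2
  have hχ' : IsIso F (χ.trans (a : MulAut R')) := hχ.trans haiso
  have hkey : ∀ g : R, (((χ.trans (a : MulAut R')) (α g) : R') : Ω) =
      s * ((χ.trans (a : MulAut R')) g : R') * s⁻¹ := by
    intro g
    rw [← hs]
    simp [MulAut.mul_apply, MulAut.congr_apply]
  -- `s` centralizes the image of `P`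
  have hres := hom_restrict F hPR hχ'
  have hPP' : F.IsConj P
      ((R'.subtype.comp (χ.trans (a : MulAut R')).toMonoidHom).comp (Subgroup.inclusion hPR)).range :=
    ⟨_, hres, rfl⟩
  have hsC : s ∈ centralizerIn S
      ((R'.subtype.comp (χ.trans (a : MulAut R')).toMonoidHom).comp (Subgroup.inclusion hPR)).range := by
    rw [mem_centralizerIn_iff]
    refine ⟨hsS, ?_⟩
    rintro _ ⟨x, rfl⟩
    have h2 := hkey (Subgroup.inclusion hPR x)
    have h3 : α (Subgroup.inclusion hPR x) = Subgroup.inclusion hPR x := by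
      apply Subtype.ext
      rw [hαθ]
      exact hid _ x.2
    rw [h3] at h2
    simp only [MonoidHom.coe_comp, Function.comp_apply, Subgroup.coe_subtype, MulEquiv.coe_toMonoidHom]
    have h4 : ∀ u : Ω, u = s * u * s⁻¹ → u * s = s * u := by
      intro u hu
      calc u * s = (s * u * s⁻¹) * s := by rw [← hu]
        _ = s * u := by group
    exact h4 _ h2
  obtain ⟨z, hz⟩ := hP.2 _ hPP' hsC
  simp only [MonoidHom.coe_comp, Function.comp_apply, Subgroup.coe_subtype, MulEquiv.coe_toMonoidHom] at hz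
  have hconj : ∀ g : R, α g = Subgroup.inclusion hPR z * g * (Subgroup.inclusion hPR z)⁻¹ := by
    intro g
    apply (χ.trans (a : MulAut R')).injective
    apply Subtype.ext
    rw [hkey g, map_mul, map_mul, map_inv]
    simp only [Subgroup.coe_mul, Subgroup.coe_inv]
    rw [hz]
  refine ⟨z, z.2, fun x hx => ?_, fun g => ?_⟩
  · have h2 := hconj ⟨x, hPR hx⟩
    have h3 : α ⟨x, hPR hx⟩ = ⟨x, hPR hx⟩ := by
      apply Subtype.ext
      rw [hαθ]
      exact hid _ hx
    rw [h3] at h2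
    have h4 := congrArg (fun u : R => (u : Ω)) h2
    simp only [Subgroup.coe_mul, Subgroup.coe_inv, Subgroup.coe_inclusion] at h4
    calc x * (z : Ω) = ((z : Ω) * x * (z : Ω)⁻¹) * z := by rw [← h4]
      _ = z * x := by group
  · have h2 := congrArg (fun u : R => (u : Ω)) (hconj g)
    simp only [Subgroup.coe_mul, Subgroup.coe_inv, Subgroup.coe_inclusion] at h2
    rw [← hαθ]
    exact h2

/-- Two maps of a saturated system on `R` that agree on a normal centric subgroup `P` of `R` differ by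
conjugation by an element of `Z(P)`. -/
theorem exists_center_conj_of_restrict_eq [Finite S] {p : ℕ} [Fact p.Prime] (hS : IsPGroup p S)
    {F : FusionSystem S} (hF : F.IsSaturated p) {P R : Subgroup Ω} (hP : F.IsCentric P) (hPR : P ≤ R)
    (hRN : R ≤ normalizerIn S P) {ψ ψ' : R →* Ω} (hψ : ψ ∈ F.Hom R) (hψ' : ψ' ∈ F.Hom R)
    (heq : ∀ x : R, (x : Ω) ∈ P → ψ' x = ψ x) :
    ∃ z : P, (∀ x ∈ P, x * (z : Ω) = z * x) ∧
      ∀ g : R, ψ' g = ψ (Subgroup.inclusion hPR z * g * (Subgroup.inclusion hPR z)⁻¹) := by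
  have hRS : R ≤ S := hom_le F hψ
  have hres := hom_restrict F hPR hψ
  have hPP' : F.IsConj P (ψ.comp (Subgroup.inclusion hPR)).range := ⟨_, hres, rfl⟩
  have hP'c := hP.2 _ hPP'
  have hmem : ∀ g : R, (ψ g)⁻¹ * ψ' g ∈ centralizerIn S (ψ.comp (Subgroup.inclusion hPR)).range := by
    intro g
    rw [mem_centralizerIn_iff]
    refine ⟨S.mul_mem (S.inv_mem ((F.le_of_mem hψ).2 g)) ((F.le_of_mem hψ').2 g), ?_⟩
    rintro _ ⟨x, rfl⟩
    simp only [MonoidHom.coe_comp, Function.comp_apply]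
    have hx' : (g : Ω) * x * (g : Ω)⁻¹ ∈ P := conj_mem_of_mem_normalizerIn (hRN g.2) x.2
    have h1 : ψ' (g * Subgroup.inclusion hPR x * g⁻¹) = ψ (g * Subgroup.inclusion hPR x * g⁻¹) :=
      heq _ hx'
    rw [map_mul, map_mul, map_inv, map_mul, map_mul, map_inv, heq (Subgroup.inclusion hPR x) x.2] at h1
    set y := ψ (Subgroup.inclusion hPR x) with hy
    calc y * ((ψ g)⁻¹ * ψ' g) = (ψ g)⁻¹ * (ψ g * y * (ψ g)⁻¹) * ψ' g := by group
      _ = (ψ g)⁻¹ * (ψ' g * y * (ψ' g)⁻¹) * ψ' g := by rw [h1]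
      _ = (ψ g)⁻¹ * ψ' g * y := by group
  have hrange : ∀ g : R, ψ' g ∈ ψ.range := by
    intro g
    obtain ⟨x, hx⟩ := hP'c (hmem g)
    simp only [MonoidHom.coe_comp, Function.comp_apply] at hx
    refine ⟨g * Subgroup.inclusion hPR x, ?_⟩
    rw [map_mul, hx, mul_inv_cancel_left]
  obtain ⟨e, he, heψ⟩ := exists_isIso_of_hom F hψ rfl
  have hθ := F.comp_mem hψ' he.symm hrange
  have hθid : ∀ x : R, (x : Ω) ∈ P →
      ((R.subtype.comp e.symm.toMonoidHom).comp (ψ'.codRestrict ψ.range hrange)) x = x := by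
    intro x hx
    simp only [MonoidHom.coe_comp, Function.comp_apply, Subgroup.coe_subtype, MulEquiv.coe_toMonoidHom]
    congr 1
    rw [MulEquiv.symm_apply_eq]
    apply Subtype.ext
    rw [heψ]
    exact heq x hx
  obtain ⟨z, hzP, hzc, hz⟩ := exists_center_conj_of_restrict_id hS hF hP hPR hRN hθ hθid
  refine ⟨⟨z, hzP⟩, hzc, fun g => ?_⟩
  have h1 := hz g
  simp only [MonoidHom.coe_comp, Function.comp_apply, Subgroup.coe_subtype, MulEquiv.coe_toMonoidHom] at h1
  have h2 : e.symm (ψ'.codRestrict ψ.range hrange g) =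
      Subgroup.inclusion hPR ⟨z, hzP⟩ * g * (Subgroup.inclusion hPR ⟨z, hzP⟩)⁻¹ := Subtype.ext h1
  rw [MulEquiv.symm_apply_eq] at h2
  have h3 := congrArg (fun u : ψ.range => (u : Ω)) h2
  simp only [MonoidHom.codRestrict_apply] at h3
  rw [h3, heψ]

/-- **Extension lemma for centric subgroups**: let `F' ≤ F` be saturated systems over `S`, `P ≤ R ≤ S`
with `P` centric in `F`. A map of `F` on `R` whose restriction to `P` is a map of `F'` is a map of `F'`. -/
theorem hom_of_restrict_centric [Finite S] {p : ℕ} [Fact p.Prime] (hS : IsPGroup p S)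
    {F F' : FusionSystem S} (hF : F.IsSaturated p) (hF' : F'.IsSaturated p) (hle : F' ≤ F) :
    ∀ {P R : Subgroup Ω} (_ : F.IsCentric P) (hPR : P ≤ R) {ψ : R →* Ω} (_ : ψ ∈ F.Hom R)
      (_ : ψ.comp (Subgroup.inclusion hPR) ∈ F'.Hom P), ψ ∈ F'.Hom R := by
  have key : ∀ n : ℕ, ∀ {P R : Subgroup Ω} (_ : F.IsCentric P) (hPR : P ≤ R) {ψ : R →* Ω}
      (_ : ψ ∈ F.Hom R) (_ : ψ.comp (Subgroup.inclusion hPR) ∈ F'.Hom P),
      Nat.card R - Nat.card P = n → ψ ∈ F'.Hom R := by
    intro n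
    induction n using Nat.strong_induction_on with
    | _ n IH =>
    intro P R hP hPR ψ hψ hres hn
    have hRS : R ≤ S := hom_le F hψ
    have hPS : P ≤ S := hP.1
    haveI : Finite R := Finite.of_injective (Subgroup.inclusion hRS) (Subgroup.inclusion_injective hRS)
    rcases eq_or_lt_of_le hPR with hPeq | hPlt
    · refine (hom_cast F' hPeq ?_).mp hres
      intro x hx hx'
      rfl
    · have hRp : IsPGroup p R := hS.of_injective (Subgroup.inclusion hRS) (Subgroup.inclusion_injective hRS)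
      obtain ⟨g₀, hg₀N, hg₀P⟩ := exists_mem_normalizerIn_not_mem hRp hPlt
      have hPR₁ : P ≤ normalizerIn R P := le_normalizerIn hPR
      have hR₁R : normalizerIn R P ≤ R := normalizerIn_le_S R P
      have hR₁S : normalizerIn R P ≤ S := hR₁R.trans hRS
      have hR₁N : normalizerIn R P ≤ normalizerIn S P := fun g hg => ⟨hRS hg.1, hg.2⟩
      -- the restriction of ψ to P, as an isomorphism of F'
      obtain ⟨e, he, heψ⟩ := exists_isIso_of_hom F' hres rfl
      have hP'c : F.IsCentric (ψ.comp (Subgroup.inclusion hPR)).range :=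
        isCentric_of_isConj hP ⟨_, hle _ hres, rfl⟩
      have hrec : F'.IsReceptive (ψ.comp (Subgroup.inclusion hPR)).range :=
        isReceptive_of_fullyCentralized hS hF'
          (isFullyCentralized_of_isCentric (isCentric_of_le_system hle hP'c))
      obtain ⟨ψ', hψ', hψ'e⟩ := receptive_exists_extension hrec he
      have hext : normalizerIn R P ≤ extender S P
          ((ψ.comp (Subgroup.inclusion hPR)).range.subtype.comp e.toMonoidHom) := by
        intro g hg
        rw [mem_extender_iff]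
        refine ⟨hRS hg.1, hg.2, ψ ⟨g, hg.1⟩, (F.le_of_mem hψ).2 _, fun x hx => ?_⟩
        simp only [MonoidHom.coe_comp, Function.comp_apply, Subgroup.coe_subtype, MulEquiv.coe_toMonoidHom]
        rw [heψ, heψ]
        simp only [MonoidHom.coe_comp, Function.comp_apply]
        rw [← map_inv, ← map_mul, ← map_mul]
        congr 1
      -- the two maps on N_R(P)
      have hψ₁ : ψ.comp (Subgroup.inclusion hR₁R) ∈ F.Hom (normalizerIn R P) := hom_restrict F hR₁R hψ
      have hψ'₁ : ψ'.comp (Subgroup.inclusion hext) ∈ F'.Hom (normalizerIn R P) := hom_restrict F' hext hψ'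
      have hagree : ∀ x : normalizerIn R P, (x : Ω) ∈ P →
          (ψ.comp (Subgroup.inclusion hR₁R)) x = (ψ'.comp (Subgroup.inclusion hext)) x := by
        intro x hx
        simp only [MonoidHom.coe_comp, Function.comp_apply]
        have h1 := hψ'e x hx (hext x.2)
        have h2 := heψ ⟨x, hx⟩
        simp only [MonoidHom.coe_comp, Function.comp_apply] at h2
        have h3 : Subgroup.inclusion hext x = ⟨(x : Ω), hext x.2⟩ := rfl
        rw [h3, h1, h2]
        congr 1
      obtain ⟨z, hzc, hz⟩ := exists_center_conj_of_restrict_eq hS hF hP hPR₁ hR₁N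
        (hle _ hψ'₁) hψ₁ hagree
      -- ψ|N_R(P) is ψ' composed with conjugation by z
      have hzS : (z : Ω) ∈ S := hPS z.2
      have hconj : conjHom (normalizerIn R P) (z : Ω) ∈ F'.Hom (normalizerIn R P) :=
        F'.conj_mem hR₁S hzS
      have hcm : ∀ x : normalizerIn R P, conjHom (normalizerIn R P) (z : Ω) x ∈ normalizerIn R P := by
        intro x
        have hzN : (z : Ω) ∈ normalizerIn R P := hPR₁ z.2
        have := (normalizerIn R P).mul_mem ((normalizerIn R P).mul_mem hzN x.2)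
          ((normalizerIn R P).inv_mem hzN)
        simpa [conjHom] using this
      have hcomp := F'.comp_mem hconj hψ'₁ hcm
      have hψ₁' : ψ.comp (Subgroup.inclusion hR₁R) ∈ F'.Hom (normalizerIn R P) := by
        convert hcomp using 1
        ext g
        rw [hz g]
        simp only [MonoidHom.coe_comp, Function.comp_apply]
        congr 1
      -- induction
      have hR₁c : F.IsCentric (normalizerIn R P) := isCentric_of_le hP hPR₁ hR₁S
      have hlt : Nat.card P < Nat.card (normalizerIn R P) := by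
        haveI : Finite (normalizerIn R P) :=
          Finite.of_injective (Subgroup.inclusion hR₁S) (Subgroup.inclusion_injective hR₁S)
        refine lt_of_le_of_ne (Subgroup.card_le_of_le hPR₁) (fun heq => hg₀P ?_)
        have := Subgroup.eq_of_le_of_card_ge hPR₁ heq.ge
        rw [this]; exact hg₀N
      have hle₁ : Nat.card (normalizerIn R P) ≤ Nat.card R := Subgroup.card_le_of_le hR₁R
      exact IH (Nat.card R - Nat.card (normalizerIn R P)) (by omega) hR₁c hR₁R hψ hψ₁' rfl
  intro P R hP hPR ψ hψ hres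
  exact key _ hP hPR hψ hres rfl

end Cfsg.Agent.Lib.Helper27
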