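import Mathlib
import Cfsg.Prelude.Def_FusionComponents
import Cfsg.Agent.H26.FusionFactor
import Cfsg.Agent.Lib.Helper27.FusionBasic

set_option autoImplicit false

namespace Cfsg.Agent.Lib.Helper27

open Cfsg Cfsg.FusionSystem

/-- For an element `Φ` of a finite group and a `p'`-element `α'` of another group, some power `k` fixes `α'`
and makes `Φ ^ k` a `p'`-element. -/
theorem exists_pow_coprime {G H : Type*} [Group G] [Finite G] [Group H] (p : ℕ) [hp : Fact p.Prime]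
    (Φ : G) (α' : H) (h : (orderOf α').Coprime p) :
    ∃ k : ℕ, α' ^ k = α' ∧ (orderOf (Φ ^ k)).Coprime p := by
  have hcard0 : Nat.card G ≠ 0 := Nat.card_pos.ne'
  obtain ⟨a, m, hm, hcard⟩ := Nat.exists_eq_pow_mul_and_not_dvd hcard0 p hp.out.ne_one
  have hpm : Nat.Coprime m p := ((Nat.Prime.coprime_iff_not_dvd hp.out).mpr hm).symm
  obtain ⟨j, hj⟩ := exists_pow_eq_self_of_coprime (x := α') (Nat.Coprime.pow_left a h.symm)
  refine ⟨p ^ a * j, by rw [pow_mul]; exact hj, ?_⟩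
  have h1 : (Φ ^ (p ^ a * j)) ^ m = 1 := by
    rw [← pow_mul, mul_assoc, mul_comm j m, ← mul_assoc, pow_mul, ← hcard, pow_card_eq_one', one_pow]
  exact Nat.Coprime.coprime_dvd_left (orderOf_dvd_of_pow_eq_one h1) hpm

/-- To show `[P, O^p(G)] ≤ D` it suffices to treat the `p'`-elements of `G ≤ Aut(P)`. -/
theorem commutator_mem_of_pResidual {Ω : Type*} [Group Ω] {P : Subgroup Ω} (G : Subgroup (MulAut P)) (p : ℕ)
    (D : Subgroup Ω)
    (h : ∀ α : G, (orderOf α).Coprime p → ∀ x : P, (x : Ω)⁻¹ * (((α : MulAut P) x : P) : Ω) ∈ D) :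
    ∀ α ∈ Cfsg.pResidual p G, ∀ x : P, (x : Ω)⁻¹ * (((α : MulAut P) x : P) : Ω) ∈ D := by
  intro α hα
  unfold Cfsg.pResidual at hα
  induction hα using Subgroup.closure_induction with
  | mem α hα => exact fun x => h α hα x
  | one =>
    intro x
    simp only [Subgroup.coe_one, MulAut.one_apply, inv_mul_cancel]
    exact Subgroup.one_mem _
  | mul α β _ _ ihα ihβ =>
    intro x
    have h1 := ihβ x
    have h2 := ihα ((β : MulAut P) x)
    have h3 : (x : Ω)⁻¹ * ((((α * β : G) : MulAut P) x : P) : Ω) =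
        ((x : Ω)⁻¹ * (((β : MulAut P) x : P) : Ω)) *
          ((((β : MulAut P) x : P) : Ω)⁻¹ * (((α : MulAut P) ((β : MulAut P) x) : P) : Ω)) := by
      simp only [Subgroup.coe_mul, MulAut.mul_apply]
      group
    rw [h3]
    exact Subgroup.mul_mem _ h1 h2
  | inv α _ ih =>
    intro x
    have h1 := ih (((α⁻¹ : G) : MulAut P) x)
    have h2 : ((α : MulAut P) (((α⁻¹ : G) : MulAut P) x)) = x := by simp
    rw [h2] at h1
    have h3 := Subgroup.inv_mem _ h1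
    have h4 : (((((α⁻¹ : G) : MulAut P) x : P) : Ω)⁻¹ * (x : Ω))⁻¹ =
        (x : Ω)⁻¹ * ((((α⁻¹ : G) : MulAut P) x : P) : Ω) := by group
    rw [h4] at h3
    exact h3

variable {Ω : Type*} [Group Ω] {S : Subgroup Ω} {Ω' : Type*} [Group Ω']

/-- A homomorphism `ψ : P → S` compatible with the kernel of `θ` induces a homomorphism on the image of `P`. -/
theorem exists_induced_hom (θ : S →* Ω') {P : Subgroup Ω} (hPS : P ≤ S) (ψ : P →* Ω)
    (hψS : ∀ x : P, ψ x ∈ S)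
    (hker : ∀ x : P, θ ⟨x, hPS x.2⟩ = 1 → θ ⟨ψ x, hψS x⟩ = 1) {P' : Subgroup Ω'}
    (hP' : ∀ x : P, θ ⟨x, hPS x.2⟩ ∈ P') (hsurj : ∀ y ∈ P', ∃ x : P, θ ⟨x, hPS x.2⟩ = y) :
    ∃ ψ' : P' →* Ω', ∀ x : P, ψ' ⟨θ ⟨x, hPS x.2⟩, hP' x⟩ = θ ⟨ψ x, hψS x⟩ := by
  have hf : Function.Surjective ((θ.comp (Subgroup.inclusion hPS)).codRestrict P' hP') := by
    rintro ⟨y, hy⟩
    obtain ⟨x, hx⟩ := hsurj y hy
    exact ⟨x, Subtype.ext hx⟩
  have hg : ((θ.comp (Subgroup.inclusion hPS)).codRestrict P' hP').ker ≤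
      (θ.comp (ψ.codRestrict S hψS)).ker := by
    intro x hx
    rw [MonoidHom.mem_ker] at hx ⊢
    have h1 : θ ⟨x, hPS x.2⟩ = 1 := congrArg Subtype.val hx
    exact hker x h1
  refine ⟨((θ.comp (Subgroup.inclusion hPS)).codRestrict P' hP').liftOfSurjective hf
    ⟨θ.comp (ψ.codRestrict S hψS), hg⟩, fun x => ?_⟩
  have := MonoidHom.liftOfRightInverse_comp_apply
    ((θ.comp (Subgroup.inclusion hPS)).codRestrict P' hP') (Function.surjInv hf)
    (Function.rightInverse_surjInv hf) ⟨θ.comp (ψ.codRestrict S hψS), hg⟩ x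
  exact this

/-- The full preimage of the image of a subgroup containing the kernel. -/
theorem preimageAlong_imageAlong (θ : S →* Ω') {T P : Subgroup Ω}
    (hker : ∀ s : S, θ s = 1 ↔ (s : Ω) ∈ T) (hTP : T ≤ P) (hPS : P ≤ S) :
    preimageAlong θ (imageAlong θ P) = P := by
  ext x
  rw [Cfsg.Agent.H26.mem_preimageAlong]
  constructor
  · rintro ⟨hxS, y, hy, hyx⟩
    have hy' : (y : Ω) ∈ P := Subgroup.mem_subgroupOf.mp hy
    have h1 : θ (y⁻¹ * ⟨x, hxS⟩) = 1 := by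
      rw [map_mul, map_inv, hyx, inv_mul_cancel]
    have h2 := (hker _).mp h1
    have h3 : x = (y : Ω) * ((y : Ω)⁻¹ * x) := by group
    rw [h3]
    exact P.mul_mem hy' (hTP h2)
  · intro hx
    exact ⟨hPS hx, ⟨x, hPS hx⟩, Subgroup.mem_subgroupOf.mpr hx, rfl⟩

end Cfsg.Agent.Lib.Helper27
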