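import Mathlib
import Cfsg.Prelude.Def_FusionSystem
import Cfsg.Agent.Lib.Helper27.FusionNormalCrit
import Cfsg.Agent.Lib.Helper1.Cores

set_option autoImplicit false

namespace Cfsg.Agent.Lib.Helper27

open Cfsg Cfsg.FusionSystem

variable {Ω : Type*} [Group Ω] {S : Subgroup Ω}

/-! ### Transport of the `p`-core and of radical subgroups -/

theorem pCore_map_mulEquiv_le {G H : Type*} [Group G] [Group H] (p : ℕ) (e : G ≃* H) :
    (pCore p G).map e.toMonoidHom ≤ pCore p H := by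
  apply Cfsg.Agent.Lib.Helper1.le_pCore
  · exact Subgroup.Normal.map (Cfsg.Agent.Lib.Helper1.pCore_normal p) _ e.surjective
  · exact (Cfsg.Agent.Lib.Helper1.pCore_isPGroup p).map _

theorem pCore_map_mulEquiv {G H : Type*} [Group G] [Group H] (p : ℕ) (e : G ≃* H) :
    (pCore p G).map e.toMonoidHom = pCore p H := by
  apply le_antisymm (pCore_map_mulEquiv_le p e)
  intro y hy
  have h1 := pCore_map_mulEquiv_le p e.symm ⟨y, hy, rfl⟩
  exact ⟨e.symm y, h1, by simp⟩

/-- The isomorphism `Aut_F(P) ≃ Aut_F(Q)` induced by an isomorphism `e : P ≃ Q` of the system. -/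
noncomputable def autGroupCongr {F : FusionSystem S} {P Q : Subgroup Ω} {e : P ≃* Q} (he : IsIso F e) :
    F.autGroup P ≃* F.autGroup Q :=
  ((MulAut.congr e).subgroupMap (F.autGroup P)).trans (MulEquiv.subgroupCongr (autGroup_map_congr he))

theorem autGroupCongr_coe {F : FusionSystem S} {P Q : Subgroup Ω} {e : P ≃* Q} (he : IsIso F e)
    (α : F.autGroup P) : ((autGroupCongr he α : F.autGroup Q) : MulAut Q) = MulAut.congr e (α : MulAut P) :=
  rfl

theorem pCore_autGroup_map_congr {F : FusionSystem S} {P Q : Subgroup Ω} {e : P ≃* Q} (he : IsIso F e)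
    (p : ℕ) :
    ((pCore p (F.autGroup P)).map (F.autGroup P).subtype).map (MulAut.congr e).toMonoidHom =
      (pCore p (F.autGroup Q)).map (F.autGroup Q).subtype := by
  rw [← pCore_map_mulEquiv p (autGroupCongr he)]
  ext β
  constructor
  · rintro ⟨_, ⟨α, hα, rfl⟩, rfl⟩
    exact ⟨autGroupCongr he α, ⟨α, hα, rfl⟩, rfl⟩
  · rintro ⟨_, ⟨α, hα, rfl⟩, rfl⟩
    exact ⟨(α : MulAut P), ⟨α, hα, rfl⟩, rfl⟩

theorem inn_map_congr {P Q : Type*} [Group P] [Group Q] (e : P ≃* Q) :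
    (Inn P).map (MulAut.congr e).toMonoidHom = Inn Q := by
  ext β
  constructor
  · rintro ⟨α, hα, rfl⟩
    have hα' : α ∈ Inn P := hα
    rw [mem_inn_iff] at hα'
    obtain ⟨g, hg⟩ := hα'
    show MulAut.congr e α ∈ Inn Q
    rw [mem_inn_iff]
    refine ⟨e g, fun x => ?_⟩
    show e (α (e.symm x)) = _
    rw [hg]
    simp
  · intro hβ
    rw [mem_inn_iff] at hβ
    obtain ⟨g, hg⟩ := hβ
    refine ⟨(MulAut.congr e).symm β, ?_, ?_⟩
    · show (MulAut.congr e).symm β ∈ Inn P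
      rw [mem_inn_iff]
      refine ⟨e.symm g, fun x => ?_⟩
      show e.symm (β (e x)) = _
      rw [hg]
      simp
    · show MulAut.congr e ((MulAut.congr e).symm β) = β
      exact (MulAut.congr e).apply_symm_apply β

/-- Being radical is invariant under conjugacy in the system. -/
theorem isRadical_of_isConj {F : FusionSystem S} {p : ℕ} {P Q : Subgroup Ω} (h : F.IsConj P Q)
    (hP : F.IsRadical p P) : F.IsRadical p Q := by
  obtain ⟨e, he⟩ := (isConj_iff F).mp h
  refine ⟨isConj_le_right F h, ?_⟩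
  rw [← pCore_autGroup_map_congr he p, hP.2, inn_map_congr]

/-- An element of `N_S(R)` stabilizing a chain `⊥ = b 0, b 1, …, b m ≥ R` of `Aut_F(R)`-invariant
subgroups induces an element of `O_p(Aut_F(R))`. -/
theorem conjAutHom_mem_pCore_of_stabilizes_chain [Finite S] {p : ℕ} [Fact p.Prime] (hS : IsPGroup p S)
    (F : FusionSystem S) {R : Subgroup Ω} (hRS : R ≤ S) (b : ℕ → Subgroup Ω) (m : ℕ)
    (hinv : ∀ j, ∀ α : R ≃* R, IsIso F α → ∀ x : R, (x : Ω) ∈ b j → ((α x : R) : Ω) ∈ b j)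
    (hb0 : b 0 = ⊥) (hbm : R ≤ b m) {g : Ω} (hg : g ∈ normalizerIn S R)
    (hgb : ∀ j < m, ∀ x ∈ R, x ∈ b (j + 1) → x⁻¹ * (g * x * g⁻¹) ∈ b j) :
    conjAutHom S R ⟨g, hg⟩ ∈ (pCore p (F.autGroup R)).map (F.autGroup R).subtype := by
  have hinv' : ∀ j, ∀ α : F.autGroup R, ∀ x : R, (x : Ω) ∈ b j → ((((α : MulAut R) x : R)) : Ω) ∈ b j :=
    fun j α x hx => hinv j _ ((mem_autGroup_iff F hRS α).mp α.2) x hx
  have hX := Cfsg.Agent.Lib.Helper1.le_pCore (chainStabilizer_normal F R b m hinv')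
    (chainStabilizer_isPGroup hS F hRS b m hinv' hb0 hbm)
  have h1 : conjAutHom S R ⟨g, hg⟩ ∈ autInducedBy S R := by
    rw [← conjAutHom_range]; exact ⟨_, rfl⟩
  have h1A : conjAutHom S R ⟨g, hg⟩ ∈ F.autGroup R := autInducedBy_le_autGroup F hRS h1
  have h2 : (⟨conjAutHom S R ⟨g, hg⟩, h1A⟩ : F.autGroup R) ∈ chainStabilizer F R b m hinv' := by
    intro j hj x hx
    exact hgb j hj x x.2 hx
  exact ⟨_, hX h2, rfl⟩

/-- If `R` is centric and `g ∈ N_S(R) − R` induces an element of `O_p(Aut_F(R))`, then `R` is not radical. -/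
theorem not_isRadical_of_conjAutHom_mem_pCore {F : FusionSystem S} {p : ℕ} {R : Subgroup Ω}
    (hc : F.IsCentric R) {g : Ω} (hg : g ∈ normalizerIn S R) (hgR : g ∉ R)
    (h : conjAutHom S R ⟨g, hg⟩ ∈ (pCore p (F.autGroup R)).map (F.autGroup R).subtype) :
    ¬ F.IsRadical p R := by
  intro hr
  rw [hr.2] at h
  exact hgR (mem_of_conjAutHom_mem_inn hc hg h)

/-- Variant of `le_of_inf_normalizer_le` where `D` is only assumed to be normalized by `R`. -/
theorem le_of_inf_normalizer_le' [Finite S] {p : ℕ} [Fact p.Prime] (hS : IsPGroup p S) {R D : Subgroup Ω}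
    (hRS : R ≤ S) (hDS : D ≤ S) (hDn : ∀ r ∈ R, ∀ d ∈ D, r * d * r⁻¹ ∈ D)
    (h : ∀ d ∈ D, d ∈ Subgroup.normalizer (R : Set Ω) → d ∈ R) : D ≤ R := by
  by_contra hcon
  have hTS : R ⊔ D ≤ S := sup_le hRS hDS
  haveI : Finite ↥(R ⊔ D) := Finite.of_injective (Subgroup.inclusion hTS) (Subgroup.inclusion_injective hTS)
  haveI : Finite D := Finite.of_injective (Subgroup.inclusion hDS) (Subgroup.inclusion_injective hDS)
  have hpT : IsPGroup p ↥(R ⊔ D) := hS.of_injective (Subgroup.inclusion hTS) (Subgroup.inclusion_injective hTS)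
  have hlt : R < R ⊔ D := by
    refine lt_of_le_of_ne le_sup_left (fun heq => hcon ?_)
    rw [heq]; exact le_sup_right
  obtain ⟨g, hgN, hgR⟩ := exists_mem_normalizerIn_not_mem hpT hlt
  have hRD : R ≤ Subgroup.normalizer (D : Set Ω) := by
    intro r hr
    exact mem_normalizer_of_conj_mem (fun d hd => hDn r hr d hd)
  have hg : g ∈ ((R ⊔ D : Subgroup Ω) : Set Ω) := hgN.1
  rw [Subgroup.coe_mul_of_left_le_normalizer_right R D hRD] at hg
  obtain ⟨r, hr, d, hd, rfl⟩ := hg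
  apply hgR
  have hdN : d ∈ Subgroup.normalizer (R : Set Ω) := by
    have h1 : r⁻¹ * (r * d) ∈ Subgroup.normalizer (R : Set Ω) :=
      Subgroup.mul_mem _ (Subgroup.inv_mem _ (Subgroup.le_normalizer hr)) hgN.2
    simpa using h1
  exact R.mul_mem hr (h d hd hdN)

end Cfsg.Agent.Lib.Helper27
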