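import Mathlib
import Cfsg.Prelude.Def_FusionSystem
import Cfsg.Agent.Lib.Helper27.FusionRadical

set_option autoImplicit false

namespace Cfsg.Agent.Lib.Helper27

open Cfsg Cfsg.FusionSystem

/-! ### `p`-stability of fusion systems: quadratic automorphisms -/

/-- `χ` acts quadratically. -/
def Quad {Q : Type*} [Group Q] (χ : MulAut Q) : Prop :=
  ∀ a : Q, (χ a⁻¹) * a * (χ a⁻¹) * (χ (χ a)) = 1

theorem quad_iff {Q : Type*} [Group Q] (χ : MulAut Q) :
    Quad χ ↔ ∀ a : Q, χ (a⁻¹ * χ a) = a⁻¹ * χ a := by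
  unfold Quad
  refine forall_congr' (fun a => ?_)
  rw [map_mul, map_inv]
  constructor
  · intro h
    have : (χ a)⁻¹ * χ (χ a) = ((χ a)⁻¹ * a)⁻¹ * ((χ a)⁻¹ * a * (χ a)⁻¹ * χ (χ a)) := by group
    rw [this, h]
    group
  · intro h
    have : (χ a)⁻¹ * a * (χ a)⁻¹ * χ (χ a) = (χ a)⁻¹ * a * ((χ a)⁻¹ * χ (χ a)) := by group
    rw [this, h]
    group

theorem quad_congr {Q Q' : Type*} [Group Q] [Group Q'] (e : Q ≃* Q') {χ : MulAut Q} (h : Quad χ) :
    Quad (MulAut.congr e χ) := by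
  intro a
  have h1 := h (e.symm a)
  have h2 : ∀ b : Q', (MulAut.congr e χ) b = e (χ (e.symm b)) := fun b => rfl
  rw [h2, h2, h2]
  have h3 := congrArg e h1
  simp only [map_mul, map_inv, map_one, MulEquiv.apply_symm_apply] at h3
  simp only [map_inv, MulEquiv.symm_apply_apply]
  exact h3

theorem quad_pow_apply {Q : Type*} [Group Q] {χ : MulAut Q} (h : Quad χ) (a : Q) (k : ℕ) :
    (χ ^ k) a = a * (a⁻¹ * χ a) ^ k := by
  rw [quad_iff] at h
  induction k with
  | zero => simp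
  | succ k ih =>
    rw [pow_succ', MulAut.mul_apply, ih, map_mul, map_pow, h a]
    rw [pow_succ' (a⁻¹ * χ a) k, ← mul_assoc, mul_inv_cancel_left]

/-- A quadratic automorphism of a finite `p`-group is a `p`-element. -/
theorem quad_pow_card_eq_one {Q : Type*} [Group Q] [Finite Q] {χ : MulAut Q} (h : Quad χ) :
    χ ^ Nat.card Q = 1 := by
  ext a
  rw [quad_pow_apply h, pow_card_eq_one', mul_one]
  rfl

/-- `O_p(B) ∩ A ≤ O_p(A)` for subgroups `A ≤ B`. -/
theorem pCore_map_inf_le {M : Type*} [Group M] (p : ℕ) {A B : Subgroup M} (hAB : A ≤ B) :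
    (pCore p B).map B.subtype ⊓ A ≤ (pCore p A).map A.subtype := by
  rintro x ⟨hxB, hxA⟩
  let Y : Subgroup A := ((pCore p B).map B.subtype).subgroupOf A
  have hYn : Y.Normal := by
    constructor
    intro y hy a
    rw [Subgroup.mem_subgroupOf] at hy ⊢
    obtain ⟨b, hb, hby⟩ := hy
    have hn := Cfsg.Agent.Lib.Helper1.pCore_normal (G := B) p
    refine ⟨⟨a, hAB a.2⟩ * b * ⟨a, hAB a.2⟩⁻¹, hn.conj_mem b hb _, ?_⟩
    simp only [Subgroup.coe_mul, Subgroup.coe_inv, map_mul, map_inv]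
    have : (B.subtype b : M) = y := hby
    rw [this]
    rfl
  have hYp : IsPGroup p Y := by
    have h1 : IsPGroup p ((pCore p B).map B.subtype) :=
      (Cfsg.Agent.Lib.Helper1.pCore_isPGroup p).map _
    exact h1.comap_of_injective A.subtype (Subgroup.subtype_injective _)
  have hle := Cfsg.Agent.Lib.Helper1.le_pCore hYn hYp
  exact ⟨⟨x, hxA⟩, hle (Subgroup.mem_subgroupOf.mpr hxB), rfl⟩

variable {Ω : Type*} [Group Ω] {S : Subgroup Ω}

/-- The `p`-stability condition at `Q`. -/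
def PStableAt (F : FusionSystem S) (p : ℕ) (Q : Subgroup Ω) : Prop :=
  ∀ χ : MulAut Q, χ ∈ F.autGroup Q → Quad χ →
    χ ∈ ((pCore p (F.autGroup Q)).map (F.autGroup Q).subtype : Subgroup (MulAut Q))

theorem pStableAt_of_isConj {F : FusionSystem S} {p : ℕ} {Q Q' : Subgroup Ω} (h : F.IsConj Q Q')
    (hQ' : PStableAt F p Q') : PStableAt F p Q := by
  obtain ⟨e, he⟩ := (isConj_iff F).mp h
  intro χ hχ hquad
  have h1 : MulAut.congr e χ ∈ F.autGroup Q' := by
    rw [← autGroup_map_congr he]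
    exact ⟨χ, hχ, rfl⟩
  have h2 := hQ' _ h1 (quad_congr e hquad)
  rw [← pCore_autGroup_map_congr he p] at h2
  obtain ⟨χ₀, hχ₀, hχ₀eq⟩ := h2
  have : χ₀ = χ := (MulAut.congr e).injective hχ₀eq
  rw [← this]
  exact hχ₀

/-- If the `p`-stability condition holds at the fully normalized subgroups, it holds at all subgroups. -/
theorem pStableAt_of_fullyNormalized {F : FusionSystem S} [Finite S] {p : ℕ}
    (h : ∀ Q : Subgroup Ω, F.IsFullyNormalized Q → PStableAt F p Q) {Q : Subgroup Ω} (hQ : Q ≤ S) :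
    PStableAt F p Q := by
  obtain ⟨Q', hQQ', hfn⟩ := exists_fullyNormalized_conj F hQ
  exact pStableAt_of_isConj hQQ' (h Q' hfn)

/-- Comparison of the `p`-stability condition at `Q` for two systems with `Aut_N(Q) ≤ Aut_F(Q)`. -/
theorem pStableAt_of_autGroup_le {F : FusionSystem S} {p : ℕ} {T : Subgroup Ω} {N : FusionSystem T}
    {Q : Subgroup Ω} (hle : N.autGroup Q ≤ F.autGroup Q) (hQ : PStableAt F p Q) : PStableAt N p Q := by
  intro χ hχ hquad
  exact pCore_map_inf_le p hle ⟨hQ χ (hle hχ) hquad, hχ⟩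

theorem autGroup_le_of_subsystem {F : FusionSystem S} {T : Subgroup Ω} {N : FusionSystem T}
    (hNF : ∀ P : Subgroup Ω, N.Hom P ⊆ F.Hom P) (Q : Subgroup Ω) : N.autGroup Q ≤ F.autGroup Q := by
  unfold FusionSystem.autGroup
  apply Subgroup.closure_mono
  intro α hα
  exact hNF Q hα

/-- `p`-stability passes from `F` to a subsystem (over a subgroup of `S`). -/
theorem pStableAt_of_subsystem {F : FusionSystem S} {p : ℕ} {T : Subgroup Ω} {N : FusionSystem T}
    (hNF : ∀ P : Subgroup Ω, N.Hom P ⊆ F.Hom P) {Q : Subgroup Ω} (hQ : PStableAt F p Q) :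
    PStableAt N p Q :=
  pStableAt_of_autGroup_le (autGroup_le_of_subsystem hNF Q) hQ

theorem normalizerSystem_hom_subset {F : FusionSystem S} {R : Subgroup Ω}
    {N : FusionSystem (normalizerIn S R)} (hN : F.IsNormalizerSystem R N) :
    ∀ P : Subgroup Ω, N.Hom P ⊆ F.Hom P := by
  intro P φ hφ
  rw [hN P] at hφ
  exact hφ.1

/-- `Aut_F(Q) ≤ Aut_{N_F(Q)}(Q)`. -/
theorem autGroup_le_normalizerSystem {F : FusionSystem S} {Q : Subgroup Ω} (hQS : Q ≤ S)
    {N : FusionSystem (normalizerIn S Q)} (hN : F.IsNormalizerSystem Q N) :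
    F.autGroup Q ≤ N.autGroup Q := by
  unfold FusionSystem.autGroup
  apply Subgroup.closure_mono
  intro α hα
  have hα' : Q.subtype.comp α.toMonoidHom ∈ F.Hom Q := hα
  show Q.subtype.comp α.toMonoidHom ∈ N.Hom Q
  rw [hN Q]
  have hle : Q ⊔ Q ≤ Q := sup_le le_rfl le_rfl
  refine ⟨hα', le_normalizerIn hQS, fun x => le_normalizerIn hQS (α x).2,
    (Q.subtype.comp α.toMonoidHom).comp (Subgroup.inclusion hle), hom_restrict F hle hα', fun x => rfl, ?_⟩
  ext y
  constructor
  · rintro ⟨x, -, rfl⟩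
    exact (α _).2
  · intro hy
    refine ⟨Subgroup.inclusion (le_sup_left : Q ≤ Q ⊔ Q) (α.symm ⟨y, hy⟩), ?_, ?_⟩
    · exact Subgroup.mem_subgroupOf.mpr (α.symm ⟨y, hy⟩).2
    · show ((α (α.symm ⟨y, hy⟩) : Q) : Ω) = y
      rw [MulEquiv.apply_symm_apply]

/-- `Q` is fully normalized in its normalizer system. -/
theorem isFullyNormalized_normalizerSystem [Finite S] {Q : Subgroup Ω} (hQS : Q ≤ S)
    (N : FusionSystem (normalizerIn S Q)) : N.IsFullyNormalized Q := by
  refine ⟨le_normalizerIn hQS, fun Q' _ => ?_⟩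
  haveI : Finite (normalizerIn S Q) :=
    Finite.of_injective (Subgroup.inclusion (normalizerIn_le_S S Q)) (Subgroup.inclusion_injective _)
  have h1 : normalizerIn (normalizerIn S Q) Q = normalizerIn S Q := by
    apply le_antisymm inf_le_left
    intro x hx
    exact ⟨hx, hx.2⟩
  rw [h1]
  exact Subgroup.card_le_of_le inf_le_left

/-- An automorphism group of a cyclic group contains its quadratic elements in its `p`-core. -/
theorem pStableAt_of_isCyclic {F : FusionSystem S} [Finite S] {p : ℕ} [Fact p.Prime] (hS : IsPGroup p S)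
    {Q : Subgroup Ω} (hQS : Q ≤ S) (hc : IsCyclic Q) : PStableAt F p Q := by
  intro χ hχ hquad
  haveI : Finite Q := Finite.of_injective (Subgroup.inclusion hQS) (Subgroup.inclusion_injective hQS)
  have hpQ : IsPGroup p Q := hS.of_injective (Subgroup.inclusion hQS) (Subgroup.inclusion_injective hQS)
  obtain ⟨n, hn⟩ := IsPGroup.iff_card.mp hpQ
  have hpow : χ ^ p ^ n = 1 := by rw [← hn]; exact quad_pow_card_eq_one hquad
  have hcomm : ∀ a b : MulAut Q, a * b = b * a := by
    intro a b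
    have e := IsCyclic.mulAutMulEquiv Q
    apply e.injective
    rw [map_mul, map_mul, mul_comm]
  let X : Subgroup (F.autGroup Q) := Subgroup.zpowers ⟨χ, hχ⟩
  have hXn : X.Normal := by
    constructor
    intro y hy a
    have : a * y * a⁻¹ = y := by
      apply Subtype.ext
      simp only [Subgroup.coe_mul, Subgroup.coe_inv]
      rw [hcomm (a : MulAut Q) y, mul_assoc, mul_inv_cancel, mul_one]
    rw [this]
    exact hy
  have hXp : IsPGroup p X := by
    rintro ⟨y, hy⟩
    obtain ⟨k, rfl⟩ := Subgroup.mem_zpowers_iff.mp hy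
    refine ⟨n, ?_⟩
    apply Subtype.ext
    apply Subtype.ext
    simp only [Subgroup.coe_pow, Subgroup.coe_zpow, Subgroup.coe_one]
    rw [← zpow_natCast, ← zpow_mul, mul_comm, zpow_mul, zpow_natCast, hpow, one_zpow]
  have hle := Cfsg.Agent.Lib.Helper1.le_pCore hXn hXp
  exact ⟨⟨χ, hχ⟩, hle (Subgroup.mem_zpowers _), rfl⟩

end Cfsg.Agent.Lib.Helper27
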