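import Mathlib
import Cfsg.Prelude.Def_FusionComponents
import Cfsg.Agent.H26.Realized
import Cfsg.Agent.Lib.Helper27.FusionNormal

set_option autoImplicit false

/-! A fusion system `F` over `S ≤ Ω` realized by `ι : S →* G`: the bridge function `ext1 ι : Ω → G`
(equal to `ι` on `S`), maps of `F` as "conjugations read through `ι`", and the subsystem
`realizedSub hinj N` over `ι⁻¹(N)` induced by a subgroup `N` of `G`. -/

namespace Cfsg.Agent.Lib.Helper27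

open Cfsg Cfsg.FusionSystem Cfsg.Agent.H26

section

variable {Ω : Type*} [Group Ω] {S : Subgroup Ω} {G : Type*} [Group G]

/-- `ι` extended by `1` outside of `S`. -/
noncomputable def ext1 (ι : S →* G) (x : Ω) : G := by
  classical
  exact if h : x ∈ S then ι ⟨x, h⟩ else 1

theorem ext1_of_mem (ι : S →* G) {x : Ω} (h : x ∈ S) : ext1 ι x = ι ⟨x, h⟩ := by
  unfold ext1
  exact dif_pos h

theorem ext1_coe (ι : S →* G) (s : S) : ext1 ι (s : Ω) = ι s := ext1_of_mem ι s.2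

theorem ext1_mul (ι : S →* G) {x y : Ω} (hx : x ∈ S) (hy : y ∈ S) :
    ext1 ι (x * y) = ext1 ι x * ext1 ι y := by
  rw [ext1_of_mem ι hx, ext1_of_mem ι hy, ext1_of_mem ι (S.mul_mem hx hy), ← map_mul]
  rfl

theorem ext1_one (ι : S →* G) : ext1 ι (1 : Ω) = 1 := by
  rw [ext1_of_mem ι S.one_mem]
  exact map_one ι

theorem ext1_inv (ι : S →* G) {x : Ω} (hx : x ∈ S) : ext1 ι x⁻¹ = (ext1 ι x)⁻¹ := by
  rw [ext1_of_mem ι hx, ext1_of_mem ι (S.inv_mem hx), ← map_inv]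
  rfl

theorem ext1_inj {ι : S →* G} (hinj : Function.Injective ι) {x y : Ω} (hx : x ∈ S) (hy : y ∈ S)
    (h : ext1 ι x = ext1 ι y) : x = y := by
  rw [ext1_of_mem ι hx, ext1_of_mem ι hy] at h
  exact congrArg Subtype.val (hinj h)

theorem ext1_mem_range (ι : S →* G) {x : Ω} (hx : x ∈ S) : ext1 ι x ∈ ι.range := by
  rw [ext1_of_mem ι hx]
  exact ⟨_, rfl⟩

theorem exists_ext1_eq {ι : S →* G} {y : G} (hy : y ∈ ι.range) : ∃ x ∈ S, ext1 ι x = y := by
  obtain ⟨s, rfl⟩ := hy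
  exact ⟨s, s.2, ext1_coe ι s⟩

theorem mem_pullback_iff {ι : S →* G} {N : Subgroup G} {x : Ω} :
    x ∈ pullback ι N ↔ x ∈ S ∧ ext1 ι x ∈ N := by
  rw [mem_pullback]
  constructor
  · rintro ⟨h, hx⟩
    exact ⟨h, by rw [ext1_of_mem ι h]; exact hx⟩
  · rintro ⟨h, hx⟩
    exact ⟨h, by rw [ext1_of_mem ι h] at hx; exact hx⟩

/-- The maps of a realized system, through the bridge function. -/
theorem realized_hom_iff {F : FusionSystem S} {ι : S →* G} (hreal : F.IsRealizedBy ι) {P : Subgroup Ω}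
    (φ : P →* Ω) :
    φ ∈ F.Hom P ↔ P ≤ S ∧ (∀ x : P, φ x ∈ S) ∧ ∃ g : G, ∀ x : P, ext1 ι (φ x) = g * ext1 ι x * g⁻¹ := by
  constructor
  · intro h
    obtain ⟨hP, hφ⟩ := F.le_of_mem h
    refine ⟨hP, hφ, ?_⟩
    obtain ⟨g, hg⟩ := (hreal.2 P hP φ hφ).mp h
    refine ⟨g, fun x => ?_⟩
    rw [ext1_of_mem ι (hφ x), ext1_of_mem ι (hP x.2)]
    exact hg x
  · rintro ⟨hP, hφ, g, hg⟩
    refine (hreal.2 P hP φ hφ).mpr ⟨g, fun x => ?_⟩
    have := hg x
    rw [ext1_of_mem ι (hφ x), ext1_of_mem ι (hP x.2)] at this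
    exact this

/-- The map `x ↦ ι⁻¹(g ι(x) g⁻¹)` on `P`. -/
noncomputable def rconj {ι : S →* G} (hinj : Function.Injective ι) (g : G) {P : Subgroup Ω} (hP : P ≤ S)
    (h : ∀ x ∈ P, g * ext1 ι x * g⁻¹ ∈ ι.range) : P →* Ω :=
  (realInv hinj).comp
    (((MulAut.conj g).toMonoidHom.comp (ι.comp (Subgroup.inclusion hP))).codRestrict ι.range
      (fun x => by
        have := h x x.2
        rw [ext1_of_mem ι (hP x.2)] at this
        exact this))

theorem rconj_mem {ι : S →* G} (hinj : Function.Injective ι) (g : G) {P : Subgroup Ω} (hP : P ≤ S)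
    (h : ∀ x ∈ P, g * ext1 ι x * g⁻¹ ∈ ι.range) (x : P) : rconj hinj g hP h x ∈ S :=
  realInv_mem hinj _

theorem ext1_rconj {ι : S →* G} (hinj : Function.Injective ι) (g : G) {P : Subgroup Ω} (hP : P ≤ S)
    (h : ∀ x ∈ P, g * ext1 ι x * g⁻¹ ∈ ι.range) (x : P) :
    ext1 ι (rconj hinj g hP h x) = g * ext1 ι x * g⁻¹ := by
  rw [ext1_of_mem ι (rconj_mem hinj g hP h x), ext1_of_mem ι (hP x.2)]
  exact ι_realInv hinj _

theorem rconj_mem_hom {F : FusionSystem S} {ι : S →* G} (hreal : F.IsRealizedBy ι) (g : G)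
    {P : Subgroup Ω} (hP : P ≤ S) (h : ∀ x ∈ P, g * ext1 ι x * g⁻¹ ∈ ι.range) :
    rconj hreal.1 g hP h ∈ F.Hom P :=
  (realized_hom_iff hreal _).mpr ⟨hP, rconj_mem hreal.1 g hP h, g, ext1_rconj hreal.1 g hP h⟩

/-- The subsystem over `ι⁻¹(N)` of the system realized by `ι`, induced by the subgroup `N`. -/
def realizedSub {ι : S →* G} (hinj : Function.Injective ι) (N : Subgroup G) :
    FusionSystem (pullback ι N) where
  Hom P := {φ | P ≤ pullback ι N ∧ (∀ x : P, φ x ∈ pullback ι N) ∧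
    ∃ g ∈ N, ∀ x : P, ext1 ι (φ x) = g * ext1 ι x * g⁻¹}
  le_of_mem h := ⟨h.1, h.2.1⟩
  injective_of_mem := by
    rintro P φ ⟨hP, -, g, -, hg⟩ a b hab
    have h : g * ext1 ι (a : Ω) * g⁻¹ = g * ext1 ι (b : Ω) * g⁻¹ := by
      rw [← hg a, ← hg b, hab]
    have h2 : ext1 ι (a : Ω) = ext1 ι (b : Ω) := mul_left_cancel (mul_right_cancel h)
    exact Subtype.ext (ext1_inj hinj (pullback_le ι N (hP a.2)) (pullback_le ι N (hP b.2)) h2)
  conj_mem := by
    intro P g hP hg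
    have hgS : g ∈ S := pullback_le ι N hg
    refine ⟨hP, fun x => ?_, ext1 ι g, (mem_pullback_iff.mp hg).2, fun x => ?_⟩
    · show g * (x : Ω) * g⁻¹ ∈ pullback ι N
      exact (pullback ι N).mul_mem ((pullback ι N).mul_mem hg (hP x.2)) ((pullback ι N).inv_mem hg)
    · show ext1 ι (g * (x : Ω) * g⁻¹) = _
      have hxS : (x : Ω) ∈ S := pullback_le ι N (hP x.2)
      rw [ext1_mul ι (S.mul_mem hgS hxS) (S.inv_mem hgS), ext1_mul ι hgS hxS, ext1_inv ι hgS]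
  comp_mem := by
    rintro P Q φ ψ ⟨hP, hφT, g, hgN, hg⟩ ⟨-, hψT, k, hkN, hk⟩ h
    refine ⟨hP, fun x => hψT _, k * g, N.mul_mem hkN hgN, fun x => ?_⟩
    show ext1 ι (ψ (φ.codRestrict Q h x)) = k * g * ext1 ι (x : Ω) * (k * g)⁻¹
    rw [hk]
    show k * ext1 ι (φ x) * k⁻¹ = _
    rw [hg, mul_inv_rev]
    simp only [mul_assoc]
  inv_mem := by
    rintro P φ ⟨hP, hφT, g, hgN, hg⟩
    have hφinj : Function.Injective φ := by
      intro a b hab
      have h : g * ext1 ι (a : Ω) * g⁻¹ = g * ext1 ι (b : Ω) * g⁻¹ := by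
        rw [← hg a, ← hg b, hab]
      have h2 : ext1 ι (a : Ω) = ext1 ι (b : Ω) := mul_left_cancel (mul_right_cancel h)
      exact Subtype.ext (ext1_inj hinj (pullback_le ι N (hP a.2)) (pullback_le ι N (hP b.2)) h2)
    let e : P ≃* φ.range := MonoidHom.ofInjective hφinj
    have he : ∀ x : P, e.symm ⟨φ x, ⟨x, rfl⟩⟩ = x := by
      intro x
      have : e x = ⟨φ x, ⟨x, rfl⟩⟩ := Subtype.ext rfl
      rw [← this]
      exact e.symm_apply_apply x
    refine ⟨P.subtype.comp e.symm.toMonoidHom, ⟨?_, ?_, g⁻¹, N.inv_mem hgN, ?_⟩, ?_⟩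
    · rintro _ ⟨x, rfl⟩
      exact hφT x
    · intro y
      exact hP (e.symm y).2
    · rintro ⟨_, x, rfl⟩
      show ext1 ι ((e.symm ⟨φ x, ⟨x, rfl⟩⟩ : P) : Ω) = g⁻¹ * ext1 ι (φ x) * g⁻¹⁻¹
      rw [he, hg]
      group
    · intro x
      show ((e.symm ⟨φ x, ⟨x, rfl⟩⟩ : P) : Ω) = x
      rw [he]

theorem mem_realizedSub_hom {ι : S →* G} (hinj : Function.Injective ι) (N : Subgroup G) {P : Subgroup Ω}
    (φ : P →* Ω) :
    φ ∈ (realizedSub hinj N).Hom P ↔ P ≤ pullback ι N ∧ (∀ x : P, φ x ∈ pullback ι N) ∧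
      ∃ g ∈ N, ∀ x : P, ext1 ι (φ x) = g * ext1 ι x * g⁻¹ := Iff.rfl

end

end Cfsg.Agent.Lib.Helper27
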