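import Mathlib
import Cfsg.Prelude.Def_FusionSystem
import Cfsg.Agent.Lib.Helper27.FusionBasic

set_option autoImplicit false

namespace Cfsg.Agent.Lib.Helper27

open Cfsg Cfsg.FusionSystem

variable {Ω : Type*} [Group Ω] {S : Subgroup Ω}

/-- Receptivity, phrased for isomorphisms of the system. -/
theorem IsReceptive.exists_extension {F : FusionSystem S} {Q : Subgroup Ω} (hQ : F.IsReceptive Q)
    {P : Subgroup Ω} {e : P ≃* Q} (he : IsIso F e) :
    ∃ ψ ∈ F.Hom (extender S P (Q.subtype.comp e.toMonoidHom)),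
      ∀ (x : Ω) (hP : x ∈ P) (hN : x ∈ extender S P (Q.subtype.comp e.toMonoidHom)),
        ψ ⟨x, hN⟩ = (e ⟨x, hP⟩ : Ω) := by
  have hr : (Q.subtype.comp e.toMonoidHom).range = Q := by
    ext y
    constructor
    · rintro ⟨x, rfl⟩
      exact (e x).2
    · intro hy
      exact ⟨e.symm ⟨y, hy⟩, by simp⟩
  obtain ⟨ψ, hψ, h⟩ := hQ.2 P _ he hr
  exact ⟨ψ, hψ, fun x hP hN => h x hP hN⟩

/-- For abelian `S`: an isomorphism of the system onto a receptive subgroup extends to an automorphism of `S`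
in the system. -/
theorem exists_aut_extension_of_receptive [Finite S] {F : FusionSystem S}
    (hab : ∀ x ∈ S, ∀ y ∈ S, x * y = y * x) {Q : Subgroup Ω} (hQ : F.IsReceptive Q)
    {P : Subgroup Ω} {e : P ≃* Q} (he : IsIso F e) :
    ∃ α : S ≃* S, IsIso F α ∧ ∀ (x : P), ((α ⟨x, he.le_left x.2⟩ : S) : Ω) = (e x : Ω) := by
  obtain ⟨ψ, hψ, h⟩ := IsReceptive.exists_extension hQ he
  have hext : extender S P (Q.subtype.comp e.toMonoidHom) = S := extender_eq_of_comm hab he.le_left _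
  have hψ' : ψ.comp (Subgroup.inclusion hext.ge) ∈ F.Hom S := hom_restrict F hext.ge hψ
  obtain ⟨α, hα, hαψ⟩ := exists_aut_of_hom_top F hψ'
  refine ⟨α, hα, fun x => ?_⟩
  rw [hαψ]
  exact h x.1 x.2 _

/-- For a saturated system on an abelian group `S`, every map of the system extends to an automorphism of `S`
in the system. -/
theorem exists_aut_extension_of_comm [Finite S] {F : FusionSystem S} {p : ℕ} (hF : F.IsSaturated p)
    (hab : ∀ x ∈ S, ∀ y ∈ S, x * y = y * x) {P : Subgroup Ω} {φ : P →* Ω} (hφ : φ ∈ F.Hom P) :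
    ∃ α : S ≃* S, IsIso F α ∧ ∀ (x : P), ((α ⟨x, hom_le F hφ x.2⟩ : S) : Ω) = φ x := by
  obtain ⟨e, he, heφ⟩ := exists_isIso_of_hom F hφ rfl
  obtain ⟨Q, hPQ, -, hQr⟩ := hF P (hom_le F hφ)
  obtain ⟨e₁, he₁⟩ := (isConj_iff F).mp hPQ
  have he₂ : IsIso F (e.symm.trans e₁) := he.symm.trans he₁
  obtain ⟨α₁, hα₁, h₁⟩ := exists_aut_extension_of_receptive hab hQr he₁
  obtain ⟨α₂, hα₂, h₂⟩ := exists_aut_extension_of_receptive hab hQr he₂
  refine ⟨α₁.trans α₂.symm, hα₁.trans hα₂.symm, fun x => ?_⟩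
  rw [← heφ x]
  have h3 := h₂ (e x)
  have h4 := h₁ x
  simp only [MulEquiv.trans_apply, MulEquiv.symm_apply_apply] at h3
  have h5 : α₂ ⟨(e x : Ω), he₂.le_left (e x).2⟩ = α₁ ⟨x, he₁.le_left x.2⟩ := by
    apply Subtype.ext
    rw [h3, h4]
  simp only [MulEquiv.trans_apply]
  rw [← h5]
  simp

/-- For abelian `S`, the automorphisms induced by `S` on a subgroup are trivial. -/
theorem autInducedBy_eq_bot_of_comm (hab : ∀ x ∈ S, ∀ y ∈ S, x * y = y * x) {P : Subgroup Ω} (hP : P ≤ S) :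
    autInducedBy S P = ⊥ := by
  rw [eq_bot_iff]
  intro α hα
  rw [mem_autInducedBy_iff] at hα
  obtain ⟨g, hg, h⟩ := hα
  rw [Subgroup.mem_bot]
  ext x
  rw [h x, hab g hg x (hP x.2)]
  simp

/-- In a saturated system, `S` itself is fully automized. -/
theorem top_isFullyAutomized [Finite S] {p : ℕ} {F : FusionSystem S} (hF : F.IsSaturated p) :
    F.IsFullyAutomized p S := by
  obtain ⟨Q, hSQ, hQ, -⟩ := hF S le_rfl
  obtain ⟨e, he⟩ := (isConj_iff F).mp hSQ
  have hQS : Q = S := by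
    apply Subgroup.eq_of_le_of_card_ge he.le_right
    rw [Nat.card_congr e.toEquiv]
  subst hQS; exact hQ

/-- In a saturated system, `S` itself is receptive. -/
theorem top_isReceptive [Finite S] {p : ℕ} {F : FusionSystem S} (hF : F.IsSaturated p) :
    F.IsReceptive S := by
  obtain ⟨Q, hSQ, -, hQ⟩ := hF S le_rfl
  obtain ⟨e, he⟩ := (isConj_iff F).mp hSQ
  have hQS : Q = S := by
    apply Subgroup.eq_of_le_of_card_ge he.le_right
    rw [Nat.card_congr e.toEquiv]
  subst hQS; exact hQ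

/-- For a saturated system on an abelian `S`, the order of `Aut_F(S)` is prime to `p`. -/
theorem not_dvd_card_autGroup_top [Finite S] {p : ℕ} [Fact p.Prime] {F : FusionSystem S}
    (hF : F.IsSaturated p) (hab : ∀ x ∈ S, ∀ y ∈ S, x * y = y * x) :
    ¬ p ∣ Nat.card (F.autGroup S) := by
  obtain ⟨-, R, hR⟩ := top_isFullyAutomized hF
  rw [autInducedBy_eq_bot_of_comm hab le_rfl] at hR
  have h1 : ¬ p ∣ (R : Subgroup (F.autGroup S)).index := R.not_dvd_index
  rw [hR] at h1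
  have h2 : (⊥ : Subgroup (MulAut S)).subgroupOf (F.autGroup S) = ⊥ := by
    simp
  rwa [h2, Subgroup.index_bot] at h1

end Cfsg.Agent.Lib.Helper27
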