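import Mathlib
import Cfsg.Prelude.Def_FusionSystem
import Cfsg.Agent.Lib.Helper27.FusionAbelian
import Cfsg.Agent.Lib.Helper27.FusionAlperin

set_option autoImplicit false

namespace Cfsg.Agent.Lib.Helper27

open Cfsg Cfsg.FusionSystem

variable {Ω : Type*} [Group Ω] {S : Subgroup Ω}

theorem inner_le (F : FusionSystem S) (P : Subgroup Ω) : (innerFusionSystem S).Hom P ⊆ F.Hom P := by
  rintro φ ⟨hP, g, hg, h⟩
  have : φ = conjHom P g := by
    ext x
    rw [h x]; rfl
  rw [this]
  exact F.conj_mem hP hg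

/-- a finite group whose elements of order prime to `p` are trivial is a `p`-group -/
theorem isPGroup_of_coprime_trivial {A : Type*} [Group A] [Finite A] {p : ℕ} [Fact p.Prime]
    (h : ∀ (β : A) (m : ℕ), Nat.Coprime m p → β ^ m = 1 → β = 1) : IsPGroup p A := by
  intro α
  have hne : orderOf α ≠ 0 := (orderOf_pos α).ne'
  obtain ⟨e, m, hm, heq⟩ := Nat.exists_eq_pow_mul_and_not_dvd hne p (Nat.Prime.ne_one Fact.out)
  refine ⟨e, ?_⟩
  apply h (α ^ p ^ e) m
  · exact (Nat.Coprime.symm ((Nat.Prime.coprime_iff_not_dvd Fact.out).mpr hm))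
  · rw [← pow_mul, ← heq, pow_orderOf_eq_one]

/-- If `Aut_F(R)` is a `p`-group for a fully automized `R`, its elements are induced by `S`. -/
theorem isIso_inner_of_isPGroup {p : ℕ} [Fact p.Prime] {F : FusionSystem S} {R : Subgroup Ω}
    (hfa : F.IsFullyAutomized p R) (hp : IsPGroup p (F.autGroup R)) {α : R ≃* R} (hα : IsIso F α) :
    IsIso (innerFusionSystem S) α := by
  obtain ⟨hRS, R₀, hR₀⟩ := hfa
  have htop : (R₀ : Subgroup (F.autGroup R)) = ⊤ := by
    have h2 : IsPGroup p (⊤ : Subgroup (F.autGroup R)) := hp.to_subgroup _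
    exact (R₀.is_maximal' h2 le_top).symm
  have hαA : (α : MulAut R) ∈ F.autGroup R := (mem_autGroup_iff F hRS α).mpr hα
  have h1 : (⟨α, hαA⟩ : F.autGroup R) ∈ (R₀ : Subgroup (F.autGroup R)) := by
    rw [htop]; exact Subgroup.mem_top _
  rw [hR₀, Subgroup.mem_subgroupOf, mem_autInducedBy_iff] at h1
  obtain ⟨g, hg, h⟩ := h1
  exact ⟨hRS, g, hg, fun x => h x⟩

/-- **Frobenius' criterion**: a saturated system in which every `Aut_F(R)` is a `p`-group is the inner
system. -/
theorem hom_eq_inner_of_autGroup_isPGroup [Finite S] {p : ℕ} [Fact p.Prime] (hS : IsPGroup p S)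
    {F : FusionSystem S} (hF : F.IsSaturated p)
    (h : ∀ R : Subgroup Ω, R ≤ S → IsPGroup p (F.autGroup R)) (P : Subgroup Ω) :
    F.Hom P = (innerFusionSystem S).Hom P := by
  apply Set.Subset.antisymm _ (inner_le F P)
  apply alperin hS hF (innerFusionSystem S)
  · intro α hα
    exact isIso_inner_of_isPGroup (top_isFullyAutomized hF) (h S le_rfl) hα
  · intro R hR hfn _ _ α hα
    exact isIso_inner_of_isPGroup (fa_receptive_of_fullyNormalized hS hF hfn).1 (h R hR.le) hα

end Cfsg.Agent.Lib.Helper27
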