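import Mathlib
import Cfsg.Agent.Lib.Helper27.FusionFrobenius
import Cfsg.Agent.Lib.Helper27.FusionSat
import Cfsg.Agent.Lib.Helper27.FusionNormal

set_option autoImplicit false

/-! Local-to-global reductions for nilpotency criteria of fusion systems: "bad" subgroups. -/

namespace Cfsg.Agent.Lib.Helper27.LG

open Cfsg Cfsg.FusionSystem Cfsg.Agent.Lib.Helper27

variable {Ω : Type*} [Group Ω] {S : Subgroup Ω}

/-- The automorphism `α` has order prime to `p`. -/
def PPrime (p : ℕ) {P : Type*} [Group P] (α : MulAut P) : Prop := ∃ n : ℕ, n.Coprime p ∧ α ^ n = 1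

/-- The system has a nontrivial automorphism of order prime to `p`. -/
def NonInner (p : ℕ) (F : FusionSystem S) : Prop :=
  ∃ (P : Subgroup Ω) (α : MulAut P), IsIso F (α : P ≃* P) ∧ α ≠ 1 ∧ PPrime p α

/-- `N_F(V)` has a nontrivial automorphism of order prime to `p`. -/
def Bad (p : ℕ) (F : FusionSystem S) (V : Subgroup Ω) : Prop :=
  ∃ (P : Subgroup Ω) (α : MulAut P), V ≤ P ∧ P ≤ normalizerIn S V ∧ IsIso F (α : P ≃* P) ∧
    (∀ x : P, (x : Ω) ∈ V → ((α x : P) : Ω) ∈ V) ∧ α ≠ 1 ∧ PPrime p α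

/-- `C_F(V)` has a nontrivial automorphism of order prime to `p`. -/
def BadC (p : ℕ) (F : FusionSystem S) (V : Subgroup Ω) : Prop :=
  ∃ (P : Subgroup Ω) (α : MulAut P), V ≤ P ∧ P ≤ centralizerIn S V ∧ IsIso F (α : P ≃* P) ∧
    (∀ x : P, (x : Ω) ∈ V → α x = x) ∧ α ≠ 1 ∧ PPrime p α

theorem Bad.nonInner {p : ℕ} {F : FusionSystem S} {V : Subgroup Ω} (h : Bad p F V) : NonInner p F := by
  obtain ⟨P, α, -, -, hα, -, h1, h2⟩ := h
  exact ⟨P, α, hα, h1, h2⟩

theorem BadC.bad {p : ℕ} {F : FusionSystem S} {V : Subgroup Ω} (h : BadC p F V) : Bad p F V := by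
  obtain ⟨P, α, hVP, hPC, hα, hfix, h1, h2⟩ := h
  refine ⟨P, α, hVP, hPC.trans (centralizerIn_le_normalizerIn S V), hα, fun x hx => ?_, h1, h2⟩
  rw [hfix x hx]
  exact hx

theorem NonInner.bad {p : ℕ} {F : FusionSystem S} (h : NonInner p F) :
    ∃ R : Subgroup Ω, R ≠ ⊥ ∧ Bad p F R := by
  obtain ⟨P, α, hα, h1, h2⟩ := h
  refine ⟨P, ?_, P, α, le_rfl, le_normalizerIn hα.le_left, hα, fun x _ => (α x).2, h1, h2⟩
  rintro rfl
  apply h1
  ext x
  have h3 : x = 1 := Subtype.ext ((Subgroup.mem_bot).mp x.2)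
  rw [h3, map_one]
  rfl

/-- In a finite group, a suitable `p`-power power of any element has order prime to `p`. -/
theorem exists_pow_pprime {A : Type*} [Group A] [Finite A] (p : ℕ) [Fact p.Prime] (a : A) :
    ∃ k n : ℕ, n.Coprime p ∧ (a ^ p ^ k) ^ n = 1 := by
  have hne : orderOf a ≠ 0 := (orderOf_pos a).ne'
  obtain ⟨e, m, hm, heq⟩ := Nat.exists_eq_pow_mul_and_not_dvd hne p (Nat.Prime.ne_one Fact.out)
  refine ⟨e, m, (Nat.Coprime.symm ((Nat.Prime.coprime_iff_not_dvd Fact.out).mpr hm)), ?_⟩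
  rw [← pow_mul, ← heq, pow_orderOf_eq_one]

/-- If two powers of `a` lie in a subgroup then so does the power with exponent their gcd. -/
theorem pow_gcd_mem {A : Type*} [Group A] (H : Subgroup A) {a : A} {m n : ℕ} (hm : a ^ m ∈ H)
    (hn : a ^ n ∈ H) : a ^ Nat.gcd m n ∈ H := by
  have h1 : a ^ (Nat.gcd m n : ℤ) ∈ H := by
    rw [Nat.gcd_eq_gcd_ab, zpow_add, zpow_mul, zpow_mul]
    apply H.mul_mem
    · apply H.zpow_mem
      simpa using hm
    · apply H.zpow_mem
      simpa using hn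
  simpa using h1

theorem pow_mem_of_coprime {A : Type*} [Group A] (H : Subgroup A) {a : A} {m n : ℕ} (hm : a ^ m ∈ H)
    (hn : a ^ n ∈ H) (hmn : Nat.Coprime m n) : a ∈ H := by
  have := pow_gcd_mem H hm hn
  rwa [hmn, pow_one] at this

/-- An element of order prime to `p` of a `p`-group is trivial. -/
theorem eq_one_of_pprime {A : Type*} [Group A] {p : ℕ} [Fact p.Prime] (hA : IsPGroup p A) {a : A} {n : ℕ}
    (hn : n.Coprime p) (h : a ^ n = 1) : a = 1 := by
  obtain ⟨k, hk⟩ := hA a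
  have h1 : a ^ n ∈ (⊥ : Subgroup A) := by rw [h]; exact Subgroup.one_mem _
  have h2 : a ^ p ^ k ∈ (⊥ : Subgroup A) := by rw [hk]; exact Subgroup.one_mem _
  have := pow_mem_of_coprime ⊥ h1 h2 (Nat.Coprime.pow_right k hn)
  exact Subgroup.mem_bot.mp this

/-- A saturated system which is not inner has a nontrivial automorphism of order prime to `p`. -/
theorem nonInner_of_ne_inner [Finite S] {p : ℕ} [Fact p.Prime] (hS : IsPGroup p S) {F : FusionSystem S}
    (hF : F.IsSaturated p) (h : ¬ ∀ P : Subgroup Ω, F.Hom P = (innerFusionSystem S).Hom P) :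
    NonInner p F := by
  by_contra hcon
  apply h
  apply hom_eq_inner_of_autGroup_isPGroup hS hF
  intro R hR
  haveI : Finite ↥R := Finite.of_injective (Subgroup.inclusion hR) (Subgroup.inclusion_injective hR)
  haveI : Finite (MulAut ↥R) := Finite.of_injective (fun e : MulAut ↥R => (e : ↥R → ↥R))
    (fun e e' h => MulEquiv.ext (congrFun h))
  apply isPGroup_of_coprime_trivial
  intro β m hm hβ
  by_contra hne
  apply hcon
  refine ⟨R, (β : MulAut R), (mem_autGroup_iff F hR _).mp β.2, ?_, m, hm, ?_⟩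
  · intro h1
    apply hne
    exact Subtype.ext h1
  · have := congrArg Subtype.val hβ
    simpa using this

/-- An inner system has no nontrivial automorphism of order prime to `p`. -/
theorem not_nonInner_inner [Finite S] {p : ℕ} [Fact p.Prime] (hS : IsPGroup p S) :
    ¬ NonInner p (innerFusionSystem S) := by
  rintro ⟨P, α, hα, h1, n, hn, h2⟩
  have hP : P ≤ S := hα.le_left
  have hmem : α ∈ autInducedBy S P := by
    rw [mem_autInducedBy_iff]
    obtain ⟨-, g, hg, h⟩ := hα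
    exact ⟨g, hg, fun x => h x⟩
  have hp : IsPGroup p (autInducedBy S P) := isPGroup_autInducedBy hS P
  have h3 : (⟨α, hmem⟩ : autInducedBy S P) = 1 := by
    apply eq_one_of_pprime hp hn
    apply Subtype.ext
    simpa using h2
  exact h1 (congrArg Subtype.val h3)

/-- Maps of a subsystem: badness goes up. -/
theorem Bad.of_le {p : ℕ} {T : Subgroup Ω} {E : FusionSystem T} {F : FusionSystem S} (hTS : T ≤ S)
    (hEF : ∀ P : Subgroup Ω, E.Hom P ⊆ F.Hom P) {V : Subgroup Ω} (h : Bad p E V) : Bad p F V := by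
  obtain ⟨P, α, hVP, hPN, hα, hV, h1, h2⟩ := h
  refine ⟨P, α, hVP, hPN.trans ?_, hEF P hα, hV, h1, h2⟩
  exact inf_le_inf_right _ hTS

theorem BadC.of_le {p : ℕ} {T : Subgroup Ω} {E : FusionSystem T} {F : FusionSystem S} (hTS : T ≤ S)
    (hEF : ∀ P : Subgroup Ω, E.Hom P ⊆ F.Hom P) {V : Subgroup Ω} (h : BadC p E V) : BadC p F V := by
  obtain ⟨P, α, hVP, hPN, hα, hV, h1, h2⟩ := h
  refine ⟨P, α, hVP, hPN.trans ?_, hEF P hα, hV, h1, h2⟩
  exact inf_le_inf_right _ hTS

end Cfsg.Agent.Lib.Helper27.LG
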