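import Mathlib
import Cfsg.Agent.Lib.Helper27.LGBad

set_option autoImplicit false

/-! Transport of bad subgroups to fully normalized conjugates. -/

namespace Cfsg.Agent.Lib.Helper27.LG

open Cfsg Cfsg.FusionSystem Cfsg.Agent.Lib.Helper27

variable {Ω : Type*} [Group Ω] {S : Subgroup Ω}

theorem PPrime.congr {p : ℕ} {P P' : Type*} [Group P] [Group P'] (e : P ≃* P') {α : MulAut P}
    (h : PPrime p α) : PPrime p (MulAut.congr e α) := by
  obtain ⟨n, hn, h1⟩ := h
  exact ⟨n, hn, by rw [← map_pow, h1, map_one]⟩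

theorem congr_ne_one {P P' : Type*} [Group P] [Group P'] (e : P ≃* P') {α : MulAut P}
    (h : α ≠ 1) : MulAut.congr e α ≠ 1 := by
  intro h1
  apply h
  have := (MulAut.congr e).injective (h1.trans (map_one _).symm)
  exact this

theorem isIso_congr_aut {F : FusionSystem S} {P P' : Subgroup Ω} {e : P ≃* P'} (he : IsIso F e)
    {α : MulAut P} (hα : IsIso F (α : P ≃* P)) : IsIso F ((MulAut.congr e α : MulAut P') : P' ≃* P') :=
  IsIso.trans (IsIso.symm he) (IsIso.trans hα he)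

/-- Badness passes to a fully normalized conjugate. -/
theorem Bad.transport [Finite S] {p : ℕ} [Fact p.Prime] (hS : IsPGroup p S) {F : FusionSystem S}
    (hF : F.IsSaturated p) {V V' : Subgroup Ω} (hV' : F.IsFullyNormalized V') (hc : F.IsConj V V')
    (h : Bad p F V) : Bad p F V' := by
  obtain ⟨P, α, hVP, hPN, hα, hαV, h1, h2⟩ := h
  have hVS : V ≤ S := isConj_le_left F hc
  have hV'S : V' ≤ S := hV'.1
  haveI : Finite ↥V' := Finite.of_injective (Subgroup.inclusion hV'S) (Subgroup.inclusion_injective hV'S)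
  obtain ⟨φ, hφ, χ, hχ, hφχ⟩ := exists_hom_normalizerIn_of_fullyNormalized hS hF hV' hc
  have hφχ' : ∀ x : V, φ ⟨x, le_normalizerIn hVS x.2⟩ = χ x := fun x => hφχ x x.2 _
  have hρ : φ.comp (Subgroup.inclusion hPN) ∈ F.Hom P := hom_restrict F hPN hφ
  obtain ⟨e, he, hex⟩ := exists_isIso_of_hom F hρ rfl
  have hex' : ∀ x : P, ((e x : (φ.comp (Subgroup.inclusion hPN)).range) : Ω) =
      φ (Subgroup.inclusion hPN x) := fun x => hex x
  refine ⟨_, MulAut.congr e α, ?_, ?_, isIso_congr_aut he hα, ?_, congr_ne_one e h1, h2.congr e⟩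
  · intro y hy
    refine ⟨⟨(χ.symm ⟨y, hy⟩ : Ω), hVP (χ.symm ⟨y, hy⟩).2⟩, ?_⟩
    have h3 := hφχ' (χ.symm ⟨y, hy⟩)
    rw [MulEquiv.apply_symm_apply] at h3
    exact h3
  · rintro _ ⟨x, rfl⟩
    exact hom_normalizerIn_mem_normalizerIn hVS hφ hφχ' _
  · intro y hy
    -- `y = e x` with `x ∈ V`
    obtain ⟨x, rfl⟩ := e.surjective y
    have hxV : (x : Ω) ∈ V := by
      have h3 := hφχ' (χ.symm ⟨_, hy⟩)
      rw [MulEquiv.apply_symm_apply] at h3
      have h4 : φ ⟨(χ.symm ⟨_, hy⟩ : Ω), le_normalizerIn hVS (χ.symm ⟨_, hy⟩).2⟩ =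
          φ (Subgroup.inclusion hPN x) := by
        rw [h3]
        exact hex' x
      have h5 := F.injective_of_mem hφ h4
      have h6 : ((χ.symm ⟨_, hy⟩ : V) : Ω) = x := congrArg Subtype.val h5
      rw [← h6]
      exact (χ.symm ⟨_, hy⟩).2
    have h7 : (MulAut.congr e α) (e x) = e (α x) := by
      simp [MulAut.congr]
    rw [h7, hex']
    have h8 := hφχ' ⟨((α x : P) : Ω), hαV x hxV⟩
    have h9 : (⟨((⟨((α x : P) : Ω), hαV x hxV⟩ : V) : Ω), le_normalizerIn hVS (hαV x hxV)⟩ :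
        normalizerIn S V) = Subgroup.inclusion hPN (α x) := Subtype.ext rfl
    rw [h9] at h8
    rw [h8]
    exact (χ _).2

end Cfsg.Agent.Lib.Helper27.LG
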