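import Mathlib
import Cfsg.Agent.S5096
import Cfsg.Agent.H26.NormalizerConstrained
import Cfsg.Agent.Lib.Helper27.LGTransport

set_option autoImplicit false

/-! Normalizer systems and bad subgroups. -/

namespace Cfsg.Agent.Lib.Helper27.LG

open Cfsg Cfsg.FusionSystem Cfsg.Agent.Lib.Helper27

variable {Ω : Type*} [Group Ω] {S : Subgroup Ω}

/-- The normalizer system, as a fusion system. -/
def nsys (F : FusionSystem S) (U : Subgroup Ω) (hU : U ≤ S) : FusionSystem (normalizerIn S U) :=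
  Cfsg.Agent.S5096.normalizerSystem F U hU

theorem nsys_spec (F : FusionSystem S) (U : Subgroup Ω) (hU : U ≤ S) :
    F.IsNormalizerSystem U (nsys F U hU) := fun _ => rfl

/-- An automorphism mapping a finite subgroup into itself maps it onto itself. -/
theorem aut_symm_mem {P : Subgroup Ω} (α : MulAut P) {V : Subgroup Ω} [Finite V]
    (hα : ∀ x : P, (x : Ω) ∈ V → ((α x : P) : Ω) ∈ V) (hVP : V ≤ P) (y : P) (hy : (y : Ω) ∈ V) :
    ((α.symm y : P) : Ω) ∈ V := by
  have hinj : Function.Injective (fun v : V => (⟨((α ⟨v, hVP v.2⟩ : P) : Ω), hα _ v.2⟩ : V)) := by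
    intro v v' h
    have h1 : ((α ⟨v, hVP v.2⟩ : P) : Ω) = ((α ⟨v', hVP v'.2⟩ : P) : Ω) :=
      congrArg (fun w : V => (w : Ω)) h
    have h2 := α.injective (Subtype.ext h1)
    exact Subtype.ext (congrArg (fun w : P => (w : Ω)) h2)
  obtain ⟨v, hv⟩ := (Finite.injective_iff_surjective.mp hinj) ⟨y, hy⟩
  have h1 : α ⟨v, hVP v.2⟩ = y := Subtype.ext (congrArg (fun w : V => (w : Ω)) hv)
  rw [← h1, MulEquiv.symm_apply_apply]
  exact v.2

/-- A bad subgroup is bad in its normalizer system. -/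
theorem Bad.to_nsys [Finite S] {p : ℕ} {F : FusionSystem S} {U : Subgroup Ω} (hU : U ≤ S)
    {E : FusionSystem (normalizerIn S U)} (hE : F.IsNormalizerSystem U E) (h : Bad p F U) :
    Bad p E U := by
  obtain ⟨P, α, hUP, hPN, hα, hαU, h1, h2⟩ := h
  haveI : Finite ↥U := Finite.of_injective (Subgroup.inclusion hU) (Subgroup.inclusion_injective hU)
  refine ⟨P, α, hUP, ?_, ?_, hαU, h1, h2⟩
  · intro x hx
    exact ⟨hPN hx, (hPN hx).2⟩
  · show P.subtype.comp (α : P ≃* P).toMonoidHom ∈ E.Hom P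
    rw [hE P]
    have hle : P ⊔ U ≤ P := sup_le le_rfl hUP
    refine ⟨hα, hPN, fun x => hPN (α x).2,
      (P.subtype.comp (α : P ≃* P).toMonoidHom).comp (Subgroup.inclusion hle), hom_restrict F hle hα,
      fun x => rfl, ?_⟩
    ext y
    constructor
    · rintro ⟨x, hx, rfl⟩
      exact hαU (Subgroup.inclusion hle x) (Subgroup.mem_subgroupOf.mp hx)
    · intro hy
      have h3 := aut_symm_mem α hαU hUP ⟨y, hUP hy⟩ hy
      refine ⟨Subgroup.inclusion (le_sup_left : P ≤ P ⊔ U) (α.symm ⟨y, hUP hy⟩),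
        Subgroup.mem_subgroupOf.mpr h3, ?_⟩
      show ((α (α.symm ⟨y, hUP hy⟩) : P) : Ω) = y
      rw [MulEquiv.apply_symm_apply]

end Cfsg.Agent.Lib.Helper27.LG
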