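import Mathlib
import Cfsg.Agent.Lib.Helper27.LGNormalizer
import Cfsg.Agent.Lib.Helper27.FusionNormalCrit

set_option autoImplicit false

/-! Automorphisms of order prime to `p` acting nontrivially on a fully normalized subgroup `U`
give a bad subgroup `U C_S(U)`. -/

namespace Cfsg.Agent.Lib.Helper27.LG

open Cfsg Cfsg.FusionSystem Cfsg.Agent.Lib.Helper27

variable {Ω : Type*} [Group Ω] {S : Subgroup Ω}

theorem exists_pprime_pow_not_mem {A : Type*} [Group A] [Finite A] (p : ℕ) [Fact p.Prime] (H : Subgroup A)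
    {β : A} {n : ℕ} (hn : n.Coprime p) (hβn : β ^ n ∈ H) (hβ : β ∉ H) :
    ∃ k m : ℕ, m.Coprime p ∧ (β ^ p ^ k) ^ m = 1 ∧ β ^ p ^ k ∉ H := by
  obtain ⟨k, m, hm, h1⟩ := exists_pow_pprime p β
  refine ⟨k, m, hm, h1, fun h2 => hβ ?_⟩
  exact pow_mem_of_coprime H hβn h2 (Nat.Coprime.pow_right k hn)

/-- Restriction of an automorphism to an invariant finite subgroup. -/
def resAut {P : Subgroup Ω} (α : MulAut P) {V : Subgroup Ω} [Finite V] (hVP : V ≤ P)
    (hα : ∀ x : P, (x : Ω) ∈ V → ((α x : P) : Ω) ∈ V) : V ≃* V where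
  toFun v := ⟨α ⟨v, hVP v.2⟩, hα _ v.2⟩
  invFun v := ⟨α.symm ⟨v, hVP v.2⟩, aut_symm_mem α hα hVP _ v.2⟩
  left_inv v := by
    apply Subtype.ext
    simp
  right_inv v := by
    apply Subtype.ext
    simp
  map_mul' v w := by
    apply Subtype.ext
    have : (⟨((v * w : V) : Ω), hVP (v * w).2⟩ : P) = ⟨v, hVP v.2⟩ * ⟨w, hVP w.2⟩ := rfl
    simp only [this, map_mul]
    rfl

theorem resAut_apply {P : Subgroup Ω} (α : MulAut P) {V : Subgroup Ω} [Finite V] (hVP : V ≤ P)
    (hα : ∀ x : P, (x : Ω) ∈ V → ((α x : P) : Ω) ∈ V) (v : V) :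
    ((resAut α hVP hα v : V) : Ω) = ((α ⟨v, hVP v.2⟩ : P) : Ω) := rfl

/-- Semiconjugacy passes to powers. -/
theorem pow_apply_of_semiconj {X Y : Type*} [Group X] [Group Y] (f : X → Y) (β : MulAut Y) (e : MulAut X)
    (h : ∀ x, β (f x) = f (e x)) (k : ℕ) (x : X) : (β ^ k) (f x) = f ((e ^ k) x) := by
  induction k generalizing x with
  | zero => simp
  | succ k ih =>
    rw [pow_succ, pow_succ, MulAut.mul_apply, MulAut.mul_apply, h, ih]

theorem bad_sup_centralizer [Finite S] {p : ℕ} [Fact p.Prime] (hS : IsPGroup p S) {F : FusionSystem S}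
    (hF : F.IsSaturated p) {U : Subgroup Ω} (hU : F.IsFullyNormalized U) {P : Subgroup Ω} {α : MulAut P}
    (hUP : U ≤ P) (hα : IsIso F (α : P ≃* P))
    (hαU : ∀ x : P, (x : Ω) ∈ U → ((α x : P) : Ω) ∈ U) (h2 : PPrime p α)
    (hne : ∃ x : P, (x : Ω) ∈ U ∧ α x ≠ x) : Bad p F (U ⊔ centralizerIn S U) := by
  have hUS : U ≤ S := hU.1
  haveI : Finite ↥U := Finite.of_injective (Subgroup.inclusion hUS) (Subgroup.inclusion_injective hUS)
  have hrec : F.IsReceptive U := (fa_receptive_of_fullyNormalized hS hF hU).2.1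
  obtain ⟨e, hedef⟩ : ∃ e : U ≃* U, e = resAut α hUP hαU := ⟨_, rfl⟩
  have he : IsIso F e := by
    have h3 : U.subtype.comp e.toMonoidHom =
        (P.subtype.comp (α : P ≃* P).toMonoidHom).comp (Subgroup.inclusion hUP) := by
      ext u
      rw [hedef]
      rfl
    unfold IsIso
    rw [h3]
    exact hom_restrict F hUP hα
  obtain ⟨ψ, hψ, hψe⟩ := receptive_exists_extension hrec he
  have hRN : U ⊔ centralizerIn S U ≤ extender S U (U.subtype.comp e.toMonoidHom) :=
    sup_le (le_extender_of_isIso he) (centralizerIn_le_extender _)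
  have hRS : U ⊔ centralizerIn S U ≤ S := sup_le hUS (centralizerIn_le_S S U)
  haveI : Finite ↥(U ⊔ centralizerIn S U) :=
    Finite.of_injective (Subgroup.inclusion hRS) (Subgroup.inclusion_injective hRS)
  obtain ⟨β₀, hβ₀def⟩ : ∃ β₀ : ↥(U ⊔ centralizerIn S U) →* Ω, β₀ = ψ.comp (Subgroup.inclusion hRN) :=
    ⟨_, rfl⟩
  have hβ₀ : β₀ ∈ F.Hom (U ⊔ centralizerIn S U) := by
    rw [hβ₀def]
    exact hom_restrict F hRN hψ
  have hβU : ∀ u : U, β₀ (Subgroup.inclusion le_sup_left u) = (e u : Ω) := by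
    intro u
    rw [hβ₀def]
    exact hψe u u.2 _
  have hβC : ∀ c : centralizerIn S U, β₀ (Subgroup.inclusion le_sup_right c) ∈ centralizerIn S U := by
    intro c
    rw [mem_centralizerIn_iff]
    refine ⟨(F.le_of_mem hβ₀).2 _, fun y hy => ?_⟩
    obtain ⟨u, hu⟩ : ∃ u : U, ((e u : U) : Ω) = y := ⟨e.symm ⟨y, hy⟩, by simp⟩
    rw [← hu, ← hβU u, ← map_mul, ← map_mul]
    congr 1
    apply Subtype.ext
    have hc := (mem_centralizerIn_iff.mp c.2).2 u u.2
    exact hc
  have hβR : ∀ z : ↥(U ⊔ centralizerIn S U), β₀ z ∈ U ⊔ centralizerIn S U := by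
    apply map_sup_mem
    · intro u
      rw [hβU]
      exact Subgroup.mem_sup_left (e u).2
    · intro c
      exact Subgroup.mem_sup_right (hβC c)
  have hbij : Function.Bijective (β₀.codRestrict (U ⊔ centralizerIn S U) hβR) := by
    have hinj : Function.Injective (β₀.codRestrict (U ⊔ centralizerIn S U) hβR) := by
      intro a b hab
      exact F.injective_of_mem hβ₀ (congrArg Subtype.val hab)
    exact ⟨hinj, Finite.injective_iff_surjective.mp hinj⟩
  obtain ⟨β, hβdef⟩ : ∃ β : MulAut ↥(U ⊔ centralizerIn S U),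
      β = MulEquiv.ofBijective (β₀.codRestrict (U ⊔ centralizerIn S U) hβR) hbij := ⟨_, rfl⟩
  have hββ₀ : ∀ z, ((β z : ↥(U ⊔ centralizerIn S U)) : Ω) = β₀ z := by
    intro z
    rw [hβdef]
    rfl
  have hβiso : IsIso F (β : ↥(U ⊔ centralizerIn S U) ≃* ↥(U ⊔ centralizerIn S U)) := by
    have h3 : (U ⊔ centralizerIn S U).subtype.comp
        (β : ↥(U ⊔ centralizerIn S U) ≃* ↥(U ⊔ centralizerIn S U)).toMonoidHom = β₀ := by
      ext z
      exact hββ₀ z
    unfold IsIso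
    rw [h3]
    exact hβ₀
  -- the subgroup of automorphisms trivial on `U`
  obtain ⟨H, hH⟩ : ∃ H : Subgroup (MulAut ↥(U ⊔ centralizerIn S U)),
      ∀ δ, δ ∈ H ↔ ∀ u : U, δ (Subgroup.inclusion le_sup_left u) = Subgroup.inclusion le_sup_left u := by
    refine ⟨{ carrier := {δ | ∀ u : U, δ (Subgroup.inclusion le_sup_left u) =
        Subgroup.inclusion le_sup_left u}, mul_mem' := ?_, one_mem' := ?_, inv_mem' := ?_ }, fun δ => Iff.rfl⟩
    · intro a b ha hb u
      rw [MulAut.mul_apply, hb u, ha u]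
    · intro u
      rfl
    · intro a ha u
      rw [MulAut.inv_apply, MulEquiv.symm_apply_eq, ha u]
  have hsemi : ∀ u : U, β (Subgroup.inclusion le_sup_left u) =
      Subgroup.inclusion le_sup_left ((e : MulAut U) u) := by
    intro u
    apply Subtype.ext
    rw [hββ₀, hβU]
    rfl
  obtain ⟨n, hn, hαn⟩ := h2
  have hen : (e : MulAut U) ^ n = 1 := by
    ext u
    have h3 := pow_apply_of_semiconj (fun u : U => (⟨u, hUP u.2⟩ : P)) α (e : MulAut U) (fun u => by
      rw [hedef]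
      rfl) n u
    rw [hαn] at h3
    have h4 : ((⟨u, hUP u.2⟩ : P) : Ω) = ((((e : MulAut U) ^ n) u : U) : Ω) :=
      congrArg (fun w : P => (w : Ω)) h3
    exact h4.symm
  have hβn : β ^ n ∈ H := by
    rw [hH]
    intro u
    rw [pow_apply_of_semiconj _ β (e : MulAut U) hsemi n u, hen]
    rfl
  have hβH : β ∉ H := by
    rw [hH]
    intro h3
    obtain ⟨x, hxU, hx⟩ := hne
    apply hx
    have h4 := h3 ⟨x, hxU⟩
    rw [hsemi] at h4
    have h5 : (((e : MulAut U) ⟨x, hxU⟩ : U) : Ω) = x := congrArg (fun w : ↥(U ⊔ centralizerIn S U) => (w : Ω)) h4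
    apply Subtype.ext
    rw [← h5, hedef]
    rfl
  haveI : Finite (MulAut ↥(U ⊔ centralizerIn S U)) :=
    Finite.of_injective (fun e : MulAut ↥(U ⊔ centralizerIn S U) => (e : _ → _))
      (fun e e' h => MulEquiv.ext (congrFun h))
  obtain ⟨k, m, hm, hγm, hγH⟩ := exists_pprime_pow_not_mem p H hn hβn hβH
  refine ⟨U ⊔ centralizerIn S U, β ^ p ^ k, le_rfl, le_normalizerIn hRS, ?_, fun x _ => (_ : ↥(U ⊔ centralizerIn S U)).2,
    ?_, m, hm, hγm⟩
  · rw [← mem_autGroup_iff F hRS]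
    apply Subgroup.pow_mem
    rw [mem_autGroup_iff F hRS]
    exact hβiso
  · intro h3
    apply hγH
    rw [h3]
    exact H.one_mem

end Cfsg.Agent.Lib.Helper27.LG
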