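import Mathlib
import Cfsg.Prelude.Def_FusionSystem
import Cfsg.Agent.Lib.Helper16.SylowInf
import Cfsg.Agent.Lib.Helper27.FusionSat
import Cfsg.Agent.Lib.Helper27.FusionAlperin
import Cfsg.Agent.Lib.Helper27.FusionNormalCrit

set_option autoImplicit false

namespace Cfsg.Agent.Lib.Helper27

open Cfsg Cfsg.FusionSystem

variable {Ω : Type*} [Group Ω] {S : Subgroup Ω}

/-! ### Lifting maps modulo a strongly closed subgroup -/

theorem stronglyClosed_aut_mem [Finite S] {F : FusionSystem S} {T : Subgroup Ω} (hT : F.StronglyClosed T)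
    {R : Subgroup Ω} {α : R ≃* R} (hα : IsIso F α) {x : R} (hx : (x : Ω) ∈ T) : ((α x : R) : Ω) ∈ T := by
  apply stronglyClosed_map_eq hT hα
  exact ⟨x, Subgroup.mem_subgroupOf.mpr hx, rfl⟩

theorem stronglyClosed_hom_mem [Finite S] {F : FusionSystem S} {T : Subgroup Ω} (hT : F.StronglyClosed T)
    {P : Subgroup Ω} {ψ : P →* Ω} (hψ : ψ ∈ F.Hom P) {x : P} (hx : (x : Ω) ∈ T) : ψ x ∈ T := by
  apply stronglyClosed_map_eq hT hψ
  exact ⟨x, Subgroup.mem_subgroupOf.mpr hx, rfl⟩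

/-- The fusion system over `S` of the maps `φ : P → S` of `F` that lift modulo the strongly closed subgroup `T`
to a map `ψ : PT → S` of `F`, `ψ(x) ∈ φ(x)T`. -/
def liftSystem [Finite S] (F : FusionSystem S) (T : Subgroup Ω) (hT : F.StronglyClosed T) :
    FusionSystem S where
  Hom P := {φ | φ ∈ F.Hom P ∧ ∃ ψ ∈ F.Hom (P ⊔ T),
    ∀ x : P, (φ x)⁻¹ * ψ (Subgroup.inclusion le_sup_left x) ∈ T}
  le_of_mem h := F.le_of_mem h.1
  injective_of_mem h := F.injective_of_mem h.1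
  conj_mem := by
    intro P g hP hg
    refine ⟨F.conj_mem hP hg, conjHom (P ⊔ T) g, F.conj_mem (sup_le hP hT.1) hg, fun x => ?_⟩
    have : (conjHom P g x)⁻¹ * conjHom (P ⊔ T) g (Subgroup.inclusion le_sup_left x) = 1 := by
      simp only [conjHom, MonoidHom.coe_comp, Function.comp_apply, Subgroup.coe_subtype,
        MulEquiv.coe_toMonoidHom, MulAut.conj_apply, Subgroup.coe_inclusion]
      group
    rw [this]
    exact T.one_mem
  comp_mem := by
    rintro P P' φ φ' ⟨hφ, ψ, hψ, hψφ⟩ ⟨hφ', ψ', hψ', hψφ'⟩ h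
    refine ⟨F.comp_mem hφ hφ' h, ?_⟩
    have hval : ∀ z : ↥(P ⊔ T), ψ z ∈ P' ⊔ T := by
      apply map_sup_mem
      · intro x
        have h1 : ψ (Subgroup.inclusion le_sup_left x) =
            φ x * ((φ x)⁻¹ * ψ (Subgroup.inclusion le_sup_left x)) := by group
        rw [h1]
        exact (P' ⊔ T).mul_mem ((le_sup_left : P' ≤ P' ⊔ T) (h x)) ((le_sup_right : T ≤ P' ⊔ T) (hψφ x))
      · intro x
        apply (le_sup_right : T ≤ P' ⊔ T)
        exact stronglyClosed_hom_mem hT hψ x.2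
    refine ⟨ψ'.comp (ψ.codRestrict (P' ⊔ T) hval), F.comp_mem hψ hψ' hval, fun x => ?_⟩
    simp only [MonoidHom.coe_comp, Function.comp_apply]
    -- ψ x = φ x * t
    have ht := hψφ x
    have hmem : (φ x)⁻¹ * ψ (Subgroup.inclusion le_sup_left x) ∈ P' ⊔ T := (le_sup_right : T ≤ P' ⊔ T) ht
    have h1 : ψ.codRestrict (P' ⊔ T) hval (Subgroup.inclusion le_sup_left x) =
        Subgroup.inclusion le_sup_left (φ.codRestrict P' h x) *
          ⟨(φ x)⁻¹ * ψ (Subgroup.inclusion le_sup_left x), hmem⟩ := by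
      apply Subtype.ext
      simp
    rw [h1, map_mul, ← mul_assoc]
    refine T.mul_mem (hψφ' _) ?_
    exact stronglyClosed_hom_mem hT hψ' ht
  inv_mem := by
    rintro P φ ⟨hφ, ψ, hψ, hψφ⟩
    obtain ⟨φi, hφi, hφi'⟩ := F.inv_mem hφ
    obtain ⟨ψi, hψi, hψi'⟩ := F.inv_mem hψ
    refine ⟨φi, ⟨hφi, ?_⟩, hφi'⟩
    have hTmap : (T.subgroupOf (P ⊔ T)).map ψ = T := stronglyClosed_map_eq' hT le_sup_right hψ
    have hTr : T ≤ ψ.range := by
      intro y hy
      rw [← hTmap] at hy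
      obtain ⟨z, -, rfl⟩ := hy
      exact ⟨z, rfl⟩
    have hle : φ.range ⊔ T ≤ ψ.range := by
      rw [sup_le_iff]
      refine ⟨?_, hTr⟩
      rintro _ ⟨x, rfl⟩
      have h1 : φ x = ψ (Subgroup.inclusion le_sup_left x) *
          ((φ x)⁻¹ * ψ (Subgroup.inclusion le_sup_left x))⁻¹ := by group
      rw [h1]
      exact ψ.range.mul_mem ⟨_, rfl⟩ (ψ.range.inv_mem (hTr (hψφ x)))
    refine ⟨ψi.comp (Subgroup.inclusion hle), hom_restrict F hle hψi, ?_⟩
    rintro ⟨_, x, rfl⟩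
    rw [hφi' x]
    simp only [MonoidHom.coe_comp, Function.comp_apply]
    -- φ x = ψ x * t⁻¹ with t ∈ T
    have ht := hψφ x
    have h1 : (Subgroup.inclusion hle (Subgroup.inclusion le_sup_left (⟨φ x, ⟨x, rfl⟩⟩ : φ.range))) =
        ⟨ψ (Subgroup.inclusion le_sup_left x), ⟨_, rfl⟩⟩ *
          ⟨((φ x)⁻¹ * ψ (Subgroup.inclusion le_sup_left x))⁻¹, ψ.range.inv_mem (hTr ht)⟩ := by
      apply Subtype.ext
      simp
    rw [h1, map_mul, hψi', ← mul_assoc]
    simp only [Subgroup.coe_inclusion, inv_mul_cancel, one_mul]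
    exact stronglyClosed_hom_mem hT hψi (T.inv_mem ht)

/-- The automorphisms in `Aut_F(R)` acting trivially on `R` modulo the strongly closed subgroup `T`. -/
def modAutSubgroup [Finite S] (F : FusionSystem S) (R T : Subgroup Ω) (hT : F.StronglyClosed T)
    (hRS : R ≤ S) : Subgroup (F.autGroup R) where
  carrier := {β | ∀ x : R, (x : Ω)⁻¹ * (((β : MulAut R) x : R) : Ω) ∈ T}
  one_mem' := by
    intro x
    simp
  mul_mem' := by
    intro β γ hβ hγ x
    have h1 := hγ x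
    have h2 := hβ ((γ : MulAut R) x)
    have h3 : (x : Ω)⁻¹ * ((((β * γ : F.autGroup R) : MulAut R) x : R) : Ω) =
        ((x : Ω)⁻¹ * (((γ : MulAut R) x : R) : Ω)) *
          ((((γ : MulAut R) x : R) : Ω)⁻¹ * (((β : MulAut R) ((γ : MulAut R) x) : R) : Ω)) := by
      simp only [Subgroup.coe_mul, MulAut.mul_apply]
      group
    rw [h3]
    exact T.mul_mem h1 h2
  inv_mem' := by
    intro β hβ x
    have h1 := hβ (((β⁻¹ : F.autGroup R) : MulAut R) x)
    have h2 : ((β : MulAut R) (((β⁻¹ : F.autGroup R) : MulAut R) x)) = x := by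
      simp
    rw [h2] at h1
    have h3 := T.inv_mem h1
    have h4 : (((((β⁻¹ : F.autGroup R) : MulAut R) x : R) : Ω)⁻¹ * (x : Ω))⁻¹ =
        (x : Ω)⁻¹ * ((((β⁻¹ : F.autGroup R) : MulAut R) x : R) : Ω) := by group
    rw [h4] at h3
    exact h3

theorem mem_modAutSubgroup_iff [Finite S] (F : FusionSystem S) (R T : Subgroup Ω) (hT : F.StronglyClosed T)
    (hRS : R ≤ S) (β : F.autGroup R) :
    β ∈ modAutSubgroup F R T hT hRS ↔ ∀ x : R, (x : Ω)⁻¹ * (((β : MulAut R) x : R) : Ω) ∈ T := Iff.rfl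

theorem modAutSubgroup_normal [Finite S] (F : FusionSystem S) (R T : Subgroup Ω) (hT : F.StronglyClosed T)
    (hRS : R ≤ S) : (modAutSubgroup F R T hT hRS).Normal := by
  constructor
  intro β hβ γ x
  have hγ : IsIso F ((γ : MulAut R) : R ≃* R) := (mem_autGroup_iff F hRS γ).mp γ.2
  have h1 := hβ (((γ⁻¹ : F.autGroup R) : MulAut R) x)
  have hmem : ((((γ⁻¹ : F.autGroup R) : MulAut R) x)⁻¹ *
      (β : MulAut R) (((γ⁻¹ : F.autGroup R) : MulAut R) x) : R).1 ∈ T := h1
  have h2 := stronglyClosed_aut_mem hT hγ hmem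
  have h3 : (((γ : MulAut R) ((((γ⁻¹ : F.autGroup R) : MulAut R) x)⁻¹ *
      (β : MulAut R) (((γ⁻¹ : F.autGroup R) : MulAut R) x)) : R) : Ω) =
      (x : Ω)⁻¹ * ((((γ * β * γ⁻¹ : F.autGroup R) : MulAut R) x : R) : Ω) := by
    simp [MulAut.mul_apply]
  rw [← h3]
  exact h2

theorem le_normalizer_of_stronglyClosed [Finite S] {F : FusionSystem S} {T : Subgroup Ω}
    (hT : F.StronglyClosed T) : S ≤ Subgroup.normalizer (T : Set Ω) := by
  haveI : Finite T := Finite.of_injective (Subgroup.inclusion hT.1) (Subgroup.inclusion_injective hT.1)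
  intro s hs
  exact mem_normalizer_of_conj_mem (fun y hy => stronglyClosed_conj_mem hT hs hy)

open scoped Pointwise in
/-- If `T ≰ R` then some element of `N_T(R)` lies outside `R`. -/
theorem exists_mem_normalizerIn_inf_not_mem [Finite S] {p : ℕ} [Fact p.Prime] (hS : IsPGroup p S)
    {F : FusionSystem S} {T : Subgroup Ω} (hT : F.StronglyClosed T) {R : Subgroup Ω} (hRS : R ≤ S)
    (hTR : ¬ T ≤ R) : ∃ t ∈ T, t ∈ normalizerIn S R ∧ t ∉ R := by
  have hRTS : R ⊔ T ≤ S := sup_le hRS hT.1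
  haveI : Finite ↥(R ⊔ T) := Finite.of_injective (Subgroup.inclusion hRTS) (Subgroup.inclusion_injective hRTS)
  have hRTp : IsPGroup p ↥(R ⊔ T) :=
    hS.of_injective (Subgroup.inclusion hRTS) (Subgroup.inclusion_injective hRTS)
  have hlt : R < R ⊔ T := lt_of_le_of_ne le_sup_left (fun h => hTR (h ▸ le_sup_right))
  obtain ⟨g, hgN, hgR⟩ := exists_mem_normalizerIn_not_mem hRTp hlt
  have hg : g ∈ ((R ⊔ T : Subgroup Ω) : Set Ω) := hgN.1
  rw [Subgroup.coe_mul_of_left_le_normalizer_right R T (hRS.trans (le_normalizer_of_stronglyClosed hT))] at hg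
  obtain ⟨r, hr, t, ht, rfl⟩ := hg
  have hrN : r ∈ Subgroup.normalizer (R : Set Ω) := Subgroup.le_normalizer hr
  refine ⟨t, ht, ⟨hT.1 ht, ?_⟩, fun h => hgR (R.mul_mem hr h)⟩
  have : t = r⁻¹ * (r * t) := by group
  rw [this]
  exact (Subgroup.normalizer (R : Set Ω)).mul_mem ((Subgroup.normalizer (R : Set Ω)).inv_mem hrN) hgN.2

/-- **Lifting lemma**: let `T` be strongly closed in the saturated system `F`. Every map `φ : P → S` of `F`
lifts modulo `T` to a map `ψ : PT → S` of `F`: `ψ(x) ∈ φ(x)T` for all `x ∈ P`. -/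
theorem exists_lift [Finite S] {p : ℕ} [Fact p.Prime] (hS : IsPGroup p S) {F : FusionSystem S}
    (hF : F.IsSaturated p) {T : Subgroup Ω} (hT : F.StronglyClosed T) {P : Subgroup Ω} {φ : P →* Ω}
    (hφ : φ ∈ F.Hom P) :
    ∃ ψ ∈ F.Hom (P ⊔ T), ∀ x : P, (φ x)⁻¹ * ψ (Subgroup.inclusion le_sup_left x) ∈ T := by
  have hstep : ∀ R : Subgroup Ω, T ≤ R → ∀ α : R ≃* R, IsIso F α → IsIso (liftSystem F T hT) α := by
    intro R hTR α hα
    refine ⟨hα, ?_⟩
    have hle : R ⊔ T ≤ R := sup_le le_rfl hTR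
    refine ⟨_, hom_restrict F hle hα, fun x => ?_⟩
    have : ((R.subtype.comp α.toMonoidHom) x)⁻¹ *
        ((R.subtype.comp α.toMonoidHom).comp (Subgroup.inclusion hle)) (Subgroup.inclusion le_sup_left x)
        = 1 := by
      simp only [MonoidHom.coe_comp, Function.comp_apply]
      have : Subgroup.inclusion hle (Subgroup.inclusion le_sup_left x) = x := Subtype.ext rfl
      rw [this, inv_mul_cancel]
    rw [this]
    exact T.one_mem
  have hle : ∀ P, F.Hom P ⊆ (liftSystem F T hT).Hom P := by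
    apply alperin_strong hS hF
    · exact hstep S hT.1
    · intro R hR hfn _ _ IH α hα
      have hRS : R ≤ S := hR.le
      haveI : Finite R := Finite.of_injective (Subgroup.inclusion hRS) (Subgroup.inclusion_injective hRS)
      by_cases hTR : T ≤ R
      · exact hstep R hTR α hα
      · obtain ⟨hfa, hrec, -⟩ := fa_receptive_of_fullyNormalized hS hF hfn
        obtain ⟨-, R₀, hR₀⟩ := hfa
        haveI := modAutSubgroup_normal F R T hT hRS
        have hαA : (α : MulAut R) ∈ F.autGroup R := (mem_autGroup_iff F hRS α).mpr hα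
        obtain ⟨ν, hν, κ, hκ, hακ⟩ := Cfsg.Agent.Lib.Helper16.frattini_inf_normal R₀
          (modAutSubgroup F R T hT hRS) ⟨α, hαA⟩
        have hνiso : IsIso F ((ν : MulAut R) : R ≃* R) := (mem_autGroup_iff F hRS ν).mp ν.2
        have hαν : ∀ x : R, ((((ν : MulAut R) x : R)) : Ω)⁻¹ * ((α x : R) : Ω) ∈ T := by
          intro x
          have h1 : α x = (ν : MulAut R) ((κ : MulAut R) x) := by
            have := congrArg (fun β : F.autGroup R => (β : MulAut R) x) hακ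
            simpa using this
          have h2 : ((x⁻¹ * (κ : MulAut R) x : R) : Ω) ∈ T := hκ x
          have h3 := stronglyClosed_aut_mem hT hνiso h2
          rw [h1]
          simpa [map_mul] using h3
        obtain ⟨t, htT, htN, htR⟩ := exists_mem_normalizerIn_inf_not_mem hS hT hRS hTR
        have htext : t ∈ extender S R (R.subtype.comp ((ν : MulAut R) : R ≃* R).toMonoidHom) := by
          rw [mem_extender_iff]
          refine ⟨hT.1 htT, htN.2, ?_⟩
          have hct : conjAutHom S R ⟨t, htN⟩ ∈ autInducedBy S R := by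
            rw [← conjAutHom_range]; exact ⟨_, rfl⟩
          have hctA : conjAutHom S R ⟨t, htN⟩ ∈ F.autGroup R := autInducedBy_le_autGroup F hRS hct
          have hctK : (⟨_, hctA⟩ : F.autGroup R) ∈
              (R₀ : Subgroup (F.autGroup R)) ⊓ modAutSubgroup F R T hT hRS := by
            refine ⟨?_, ?_⟩
            · show (⟨_, hctA⟩ : F.autGroup R) ∈ (R₀ : Subgroup (F.autGroup R))
              rw [hR₀, Subgroup.mem_subgroupOf]; exact hct
            · intro x
              show (x : Ω)⁻¹ * (t * x * t⁻¹) ∈ T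
              have h1 : (x : Ω)⁻¹ * t * ((x : Ω)⁻¹)⁻¹ ∈ T :=
                stronglyClosed_conj_mem hT (S.inv_mem (hRS x.2)) htT
              have h2 : (x : Ω)⁻¹ * (t * x * t⁻¹) = ((x : Ω)⁻¹ * t * ((x : Ω)⁻¹)⁻¹) * t⁻¹ := by group
              rw [h2]
              exact T.mul_mem h1 (T.inv_mem htT)
          have h1 := (Subgroup.mem_normalizer_iff.mp hν _).mp hctK
          have h2 := h1.1
          have h2' : ν * ⟨_, hctA⟩ * ν⁻¹ ∈ (R₀ : Subgroup (F.autGroup R)) := h2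
          rw [hR₀, Subgroup.mem_subgroupOf, mem_autInducedBy_iff] at h2'
          obtain ⟨h, hh, hh'⟩ := h2'
          refine ⟨h, hh, fun x hx => ?_⟩
          have h3 := hh' ((ν : MulAut R) x)
          simp only [MonoidHom.coe_comp, Function.comp_apply, Subgroup.coe_subtype, MulEquiv.coe_toMonoidHom]
          rw [← h3]
          simp only [Subgroup.coe_mul, Subgroup.coe_inv, MulAut.mul_apply, MulAut.inv_apply_self]
          congr 2
        obtain ⟨ν', hν', hν'ν⟩ := receptive_exists_extension hrec hνiso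
        have hRext : R ≤ extender S R (R.subtype.comp ((ν : MulAut R) : R ≃* R).toMonoidHom) :=
          le_extender_of_isIso hνiso
        have hNS : extender S R (R.subtype.comp ((ν : MulAut R) : R ≃* R).toMonoidHom) ≤ S := extender_le_S _
        haveI : Finite ↥(extender S R (R.subtype.comp ((ν : MulAut R) : R ≃* R).toMonoidHom)) :=
          Finite.of_injective (Subgroup.inclusion hNS) (Subgroup.inclusion_injective hNS)
        have hlt : Nat.card R <
            Nat.card ↥(extender S R (R.subtype.comp ((ν : MulAut R) : R ≃* R).toMonoidHom)) := by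
          refine lt_of_le_of_ne (Subgroup.card_le_of_le hRext) (fun heq => htR ?_)
          have := Subgroup.eq_of_le_of_card_ge hRext heq.ge
          rw [this]; exact htext
        obtain ⟨-, ψ, hψ, hψν⟩ := IH _ hNS hlt hν'
        have hle' : R ⊔ T ≤
            extender S R (R.subtype.comp ((ν : MulAut R) : R ≃* R).toMonoidHom) ⊔ T :=
          sup_le_sup_right hRext T
        refine ⟨hα, ψ.comp (Subgroup.inclusion hle'), hom_restrict F hle' hψ, fun x => ?_⟩
        have h1 := hψν ⟨x, hRext x.2⟩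
        have h2 := hν'ν x x.2 (hRext x.2)
        rw [h2] at h1
        have h3 := T.mul_mem (T.inv_mem (hαν x)) h1
        have h4 : ((R.subtype.comp α.toMonoidHom) x)⁻¹ *
            (ψ.comp (Subgroup.inclusion hle')) (Subgroup.inclusion le_sup_left x) =
            ((((ν : MulAut R) x : R) : Ω)⁻¹ * ((α x : R) : Ω))⁻¹ *
              ((((((ν : MulAut R) : R ≃* R) ⟨x, x.2⟩ : R)) : Ω)⁻¹ *
                ψ (Subgroup.inclusion le_sup_left ⟨x, hRext x.2⟩)) := by
          simp only [MonoidHom.coe_comp, Function.comp_apply, Subgroup.coe_subtype, MulEquiv.coe_toMonoidHom]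
          have : Subgroup.inclusion hle' (Subgroup.inclusion le_sup_left x) =
              Subgroup.inclusion le_sup_left ⟨(x : Ω), hRext x.2⟩ := Subtype.ext rfl
          rw [this]
          group
        rw [h4]
        exact h3
  exact (hle P hφ).2

/-- A `p'`-automorphism `α ∈ Aut_F(P)` lifts modulo the strongly closed subgroup `T` to a `p'`-automorphism
of `PT` in `F`. -/
theorem exists_lift_coprime [Finite S] {p : ℕ} [hp : Fact p.Prime] (hS : IsPGroup p S) {F : FusionSystem S}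
    (hF : F.IsSaturated p) {T : Subgroup Ω} (hT : F.StronglyClosed T) {P : Subgroup Ω} {α : P ≃* P}
    (hα : IsIso F α) (hcop : (orderOf (α : MulAut P)).Coprime p) :
    ∃ u : ↥(P ⊔ T) ≃* ↥(P ⊔ T), IsIso F u ∧ (orderOf (u : MulAut ↥(P ⊔ T))).Coprime p ∧
      ∀ x : P, ((α x : P) : Ω)⁻¹ * ((u (Subgroup.inclusion le_sup_left x) : ↥(P ⊔ T)) : Ω) ∈ T := by
  have hPS : P ≤ S := hα.le_left
  have hPTS : P ⊔ T ≤ S := sup_le hPS hT.1
  haveI : Finite ↥(P ⊔ T) := Finite.of_injective (Subgroup.inclusion hPTS) (Subgroup.inclusion_injective hPTS)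
  obtain ⟨ψ, hψ, hψα⟩ := exists_lift hS hF hT hα
  have hval : ∀ z : ↥(P ⊔ T), ψ z ∈ P ⊔ T := by
    apply map_sup_mem
    · intro x
      have h1 : ψ (Subgroup.inclusion le_sup_left x) = ((α x : P) : Ω) *
          (((α x : P) : Ω)⁻¹ * ψ (Subgroup.inclusion le_sup_left x)) := by group
      rw [h1]
      exact (P ⊔ T).mul_mem ((le_sup_left : P ≤ P ⊔ T) (α x).2) ((le_sup_right : T ≤ P ⊔ T) (hψα x))
    · intro x
      exact (le_sup_right : T ≤ P ⊔ T) (stronglyClosed_hom_mem hT hψ x.2)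
  have hinj : Function.Injective (ψ.codRestrict (P ⊔ T) hval) := by
    intro x y h
    exact F.injective_of_mem hψ (congrArg Subtype.val h)
  let Ψ : ↥(P ⊔ T) ≃* ↥(P ⊔ T) := MulEquiv.ofBijective (ψ.codRestrict (P ⊔ T) hval)
    ⟨hinj, Finite.injective_iff_surjective.mp hinj⟩
  have hΨψ : ∀ z : ↥(P ⊔ T), ((Ψ z : ↥(P ⊔ T)) : Ω) = ψ z := fun z => rfl
  have hΨ : IsIso F Ψ := isIso_of_hom_of_eq hψ hΨψ
  have hΨA : (Ψ : MulAut ↥(P ⊔ T)) ∈ F.autGroup (P ⊔ T) := (mem_autGroup_iff F hPTS Ψ).mpr hΨ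
  -- the lifting relation
  let L : MulAut ↥(P ⊔ T) → MulAut P → Prop := fun Φ γ =>
    (∀ z : ↥(P ⊔ T), (z : Ω) ∈ T → ((Φ z : ↥(P ⊔ T)) : Ω) ∈ T) ∧
      ∀ x : P, ((γ x : P) : Ω)⁻¹ * ((Φ (Subgroup.inclusion le_sup_left x) : ↥(P ⊔ T)) : Ω) ∈ T
  have hL1 : L Ψ α := by
    refine ⟨fun z hz => ?_, fun x => hψα x⟩
    rw [hΨψ]
    exact stronglyClosed_hom_mem hT hψ hz
  have hLone : L 1 1 := by
    refine ⟨fun z hz => hz, fun x => ?_⟩
    simp
  have hLmul : ∀ Φ₁ Φ₂ γ₁ γ₂, L Φ₁ γ₁ → L Φ₂ γ₂ → L (Φ₁ * Φ₂) (γ₁ * γ₂) := by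
    intro Φ₁ Φ₂ γ₁ γ₂ h1 h2
    refine ⟨fun z hz => h1.1 _ (h2.1 z hz), fun x => ?_⟩
    have ht := h2.2 x
    have hmem : ((γ₂ x : P) : Ω)⁻¹ * ((Φ₂ (Subgroup.inclusion le_sup_left x) : ↥(P ⊔ T)) : Ω) ∈ P ⊔ T :=
      (le_sup_right : T ≤ P ⊔ T) ht
    have h3 : Φ₂ (Subgroup.inclusion le_sup_left x) =
        Subgroup.inclusion le_sup_left (γ₂ x) * ⟨_, hmem⟩ := by
      apply Subtype.ext
      simp
    simp only [MulAut.mul_apply]
    rw [h3, map_mul, Subgroup.coe_mul, ← mul_assoc]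
    exact T.mul_mem (h1.2 (γ₂ x)) (h1.1 _ ht)
  have hLpow : ∀ (n : ℕ) Φ γ, L Φ γ → L (Φ ^ n) (γ ^ n) := by
    intro n Φ γ h
    induction n with
    | zero => simpa using hLone
    | succ n ih =>
      rw [pow_succ, pow_succ]
      exact hLmul _ _ _ _ ih h
  -- the exponent
  haveI : Finite P := Finite.of_injective (Subgroup.inclusion hPS) (Subgroup.inclusion_injective hPS)
  have hcard0 : Nat.card (F.autGroup (P ⊔ T)) ≠ 0 := Nat.card_pos.ne'
  obtain ⟨a, m, hm, hcard⟩ := Nat.exists_eq_pow_mul_and_not_dvd hcard0 p hp.out.ne_one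
  have hpm : Nat.Coprime m p := ((Nat.Prime.coprime_iff_not_dvd hp.out).mpr hm).symm
  obtain ⟨j, hj⟩ := exists_pow_eq_self_of_coprime (x := (α : MulAut P)) (Nat.Coprime.pow_left a hcop.symm)
  have hΨcard : (Ψ : MulAut ↥(P ⊔ T)) ^ (p ^ a * m) = 1 := by
    have h1 : (⟨Ψ, hΨA⟩ : F.autGroup (P ⊔ T)) ^ Nat.card (F.autGroup (P ⊔ T)) = 1 := pow_card_eq_one'
    have h2 := congrArg (fun β : F.autGroup (P ⊔ T) => (β : MulAut ↥(P ⊔ T))) h1
    simp only [Subgroup.coe_pow, Subgroup.coe_one] at h2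
    rw [← hcard]
    exact h2
  refine ⟨((Ψ : MulAut ↥(P ⊔ T)) ^ (p ^ a * j) : MulAut ↥(P ⊔ T)), ?_, ?_, ?_⟩
  · rw [← mem_autGroup_iff F hPTS]
    exact Subgroup.pow_mem _ hΨA _
  · have h1 : (((Ψ : MulAut ↥(P ⊔ T)) ^ (p ^ a * j)) : MulAut ↥(P ⊔ T)) ^ m = 1 := by
      rw [← pow_mul, mul_assoc, mul_comm j m, ← mul_assoc, pow_mul, hΨcard, one_pow]
    exact Nat.Coprime.coprime_dvd_left (orderOf_dvd_of_pow_eq_one h1) hpm
  · have h1 := hLpow (p ^ a * j) Ψ α hL1
    have h2 : (α : MulAut P) ^ (p ^ a * j) = α := by rw [pow_mul]; exact hj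
    rw [h2] at h1
    exact h1.2

end Cfsg.Agent.Lib.Helper27
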