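import Mathlib
import Cfsg.Agent.S5133
import Cfsg.Agent.S5134
import Cfsg.Agent.H26.MorphismSat
import Cfsg.Agent.Lib.Helper27.LGCentral
import Cfsg.Agent.Lib.Helper27.FusionInduced

set_option autoImplicit false

/-! Bad subgroups and factor systems. -/

namespace Cfsg.Agent.Lib.Helper27.LG

open Cfsg Cfsg.FusionSystem Cfsg.Agent.Lib.Helper27 Cfsg.Agent.H26

variable {Ω : Type*} [Group Ω] {S : Subgroup Ω} {Ω' : Type*} [Group Ω'] {S' : Subgroup Ω'}

/-- An automorphism of order prime to `p` stabilizing the chain `1 ≤ U ≤ P` (`U` a `p`-group) is trivial. -/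
theorem eq_one_of_stabilizes {p : ℕ} [Fact p.Prime] {P U : Subgroup Ω} (hUp : IsPGroup p U)
    (α : MulAut P) (hfix : ∀ x : P, (x : Ω) ∈ U → α x = x)
    (hmod : ∀ x : P, ((x⁻¹ * α x : P) : Ω) ∈ U) {n : ℕ} (hn : n.Coprime p) (hαn : α ^ n = 1) : α = 1 := by
  have key : ∀ (k : ℕ) (x : P), (α ^ k) x = x * (x⁻¹ * α x) ^ k := by
    intro k
    induction k with
    | zero => intro x; simp
    | succ k ih =>
      intro x
      rw [pow_succ', MulAut.mul_apply, ih x, map_mul]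
      have h1 : α ((x⁻¹ * α x) ^ k) = (x⁻¹ * α x) ^ k := by
        apply hfix
        rw [Subgroup.coe_pow]
        exact U.pow_mem (hmod x) k
      rw [h1, pow_succ', ← mul_assoc x, mul_inv_cancel_left]
  ext x
  have h1 := key n x
  rw [hαn] at h1
  have h2 : (x⁻¹ * α x) ^ n = 1 := by
    have h2' : x * 1 = x * (x⁻¹ * α x) ^ n := by
      rw [mul_one]
      exact h1
    exact (mul_left_cancel h2').symm
  have h3 : (⟨((x⁻¹ * α x : P) : Ω), hmod x⟩ : U) = 1 := by
    apply eq_one_of_pprime hUp hn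
    apply Subtype.ext
    have := congrArg (fun w : P => (w : Ω)) h2
    simpa using this
  have h4 : ((x⁻¹ * α x : P) : Ω) = 1 := congrArg (fun w : U => (w : Ω)) h3
  have h5 : x⁻¹ * α x = 1 := Subtype.ext h4
  have h6 : α x = x := by
    have := congrArg (fun w => x * w) h5
    simpa using this
  rw [h6]
  rfl

section factor

variable [Finite S] {p : ℕ} [Fact p.Prime]

/-- A nontrivial automorphism of order prime to `p`, trivial on the strongly closed `S₀`, survives in the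
factor system. -/
theorem nonInner_factor (hS : IsPGroup p S) {F : FusionSystem S} (hF : F.IsSaturated p) {S₀ : Subgroup Ω}
    (hS₀ : F.StronglyClosed S₀) {θ : S →* Ω'} {E' : FusionSystem S'} (hfac : F.IsFactorSystem S₀ θ E')
    {P : Subgroup Ω} {α : MulAut P} (hS₀P : S₀ ≤ P) (hα : IsIso F (α : P ≃* P))
    (hfix : ∀ x : P, (x : Ω) ∈ S₀ → α x = x) (h1 : α ≠ 1) (h2 : PPrime p α) : NonInner p E' := by
  have hsm : F.IsSurjectiveMorphism E' θ := Cfsg.Agent.S5134.result p hS F hF S₀ hS₀ θ E' hfac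
  have hPS : P ≤ S := hα.le_left
  obtain ⟨hS₀S, hker, hrange, -⟩ := hfac
  have hS₀p : IsPGroup p S₀ := hS.of_injective (Subgroup.inclusion hS₀S) (Subgroup.inclusion_injective hS₀S)
  obtain ⟨Q', hQ', hQ'S'⟩ : ∃ Q' : Subgroup Ω', preimageAlong θ Q' = P ∧ Q' ≤ S' := by
    refine ⟨imageAlong θ P, preimageAlong_imageAlong θ hker hS₀P hPS, ?_⟩
    rintro _ ⟨s, -, rfl⟩
    rw [← hrange]
    exact ⟨s, rfl⟩
  subst hQ'
  obtain ⟨ρ, -, hρ⟩ := exists_rho hsm hQ'S'
  have hαm : α ∈ F.autGroup (preimageAlong θ Q') := (mem_autGroup_iff F hPS α).mpr hα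
  have hind := hρ ⟨α, hαm⟩
  refine ⟨Q', (ρ ⟨α, hαm⟩ : MulAut Q'), (mem_autGroup_iff E' hQ'S' _).mp (ρ ⟨α, hαm⟩).2, ?_, ?_⟩
  · intro h3
    apply h1
    obtain ⟨n, hn, hαn⟩ := h2
    refine eq_one_of_stabilizes hS₀p α hfix (fun x => ?_) hn hαn
    have h4 := hind x
    rw [h3] at h4
    have h5 : θ ⟨x, preimageAlong_le θ Q' x.2⟩ = θ ⟨α x, preimageAlong_le θ Q' (α x).2⟩ :=
      congrArg (fun w : Q' => (w : Ω')) h4
    have h6 : θ (⟨x, preimageAlong_le θ Q' x.2⟩⁻¹ * ⟨α x, preimageAlong_le θ Q' (α x).2⟩) = 1 := by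
      rw [map_mul, map_inv, h5, inv_mul_cancel]
    exact (hker _).mp h6
  · obtain ⟨n, hn, hαn⟩ := h2
    refine ⟨n, hn, ?_⟩
    have h3 : (⟨α, hαm⟩ : F.autGroup (preimageAlong θ Q')) ^ n = 1 := Subtype.ext (by simpa using hαn)
    have h4 := congrArg ρ h3
    rw [map_pow, map_one] at h4
    have := congrArg (fun w : E'.autGroup Q' => (w : MulAut Q')) h4
    simpa using this

/-- Powers of an automorphism preserving a subgroup preserve it. -/
theorem pow_preserves {P' : Subgroup Ω'} (α : MulAut P') {V' : Subgroup Ω'}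
    (h : ∀ y : P', (y : Ω') ∈ V' → ((α y : P') : Ω') ∈ V') (k : ℕ) :
    ∀ y : P', (y : Ω') ∈ V' → (((α ^ k) y : P') : Ω') ∈ V' := by
  induction k with
  | zero => intro y hy; simpa using hy
  | succ k ih =>
    intro y hy
    rw [pow_succ', MulAut.mul_apply]
    exact h _ (ih y hy)

/-- A bad subgroup of the factor system has a bad full preimage. -/
theorem bad_preimage (hS : IsPGroup p S) {F : FusionSystem S} (hF : F.IsSaturated p) {S₀ : Subgroup Ω}
    (hS₀ : F.StronglyClosed S₀) {θ : S →* Ω'} {E' : FusionSystem S'} (hfac : F.IsFactorSystem S₀ θ E')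
    {V' : Subgroup Ω'} (hV' : Bad p E' V') : Bad p F (preimageAlong θ V') := by
  have hsm : F.IsSurjectiveMorphism E' θ := Cfsg.Agent.S5134.result p hS F hF S₀ hS₀ θ E' hfac
  obtain ⟨P', α', hVP, hPN, hα', hαV, h1, n, hn, hαn⟩ := hV'
  have hP'S' : P' ≤ S' := hα'.le_left
  obtain ⟨ρ, hρs, hρ⟩ := exists_rho hsm hP'S'
  have hQS : preimageAlong θ P' ≤ S := preimageAlong_le θ P'
  haveI : Finite ↥(preimageAlong θ P') :=
    Finite.of_injective (Subgroup.inclusion hQS) (Subgroup.inclusion_injective hQS)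
  haveI : Finite (MulAut ↥(preimageAlong θ P')) :=
    Finite.of_injective (fun e : MulAut ↥(preimageAlong θ P') => (e : _ → _))
      (fun e e' h => MulEquiv.ext (congrFun h))
  have hα'm : α' ∈ E'.autGroup P' := (mem_autGroup_iff E' hP'S' α').mpr hα'
  obtain ⟨b, hb⟩ := hρs ⟨α', hα'm⟩
  have hbn : b ^ n ∈ ρ.ker := by
    rw [MonoidHom.mem_ker, map_pow, hb]
    exact Subtype.ext (by simpa using hαn)
  have hbk : b ∉ ρ.ker := by
    rw [MonoidHom.mem_ker, hb]
    intro h3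
    exact h1 (congrArg Subtype.val h3)
  obtain ⟨k, m, hm, hgm, hgk⟩ := exists_pprime_pow_not_mem p ρ.ker hn hbn hbk
  have hind := hρ (b ^ p ^ k)
  have hρg : ((ρ (b ^ p ^ k) : E'.autGroup P') : MulAut P') = α' ^ p ^ k := by
    rw [map_pow, hb]
    rfl
  have hV'fin : Finite ↥(preimageAlong θ V') :=
    Finite.of_injective (Subgroup.inclusion (preimageAlong_le θ V')) (Subgroup.inclusion_injective _)
  refine ⟨preimageAlong θ P', ((b ^ p ^ k : F.autGroup (preimageAlong θ P')) : MulAut _),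
    preimageAlong_mono θ hVP, ?_, (mem_autGroup_iff F hQS _).mp (b ^ p ^ k).2, ?_, ?_, m, hm, ?_⟩
  · intro x hx
    obtain ⟨hxS, hxP⟩ := mem_preimageAlong.mp hx
    refine ⟨hxS, ?_⟩
    apply mem_normalizer_of_conj_mem
    intro y hy
    obtain ⟨hyS, hyV⟩ := mem_preimageAlong.mp hy
    refine mem_preimageAlong.mpr ⟨S.mul_mem (S.mul_mem hxS hyS) (S.inv_mem hxS), ?_⟩
    have h3 : (⟨x * y * x⁻¹, S.mul_mem (S.mul_mem hxS hyS) (S.inv_mem hxS)⟩ : S) =
        ⟨x, hxS⟩ * ⟨y, hyS⟩ * ⟨x, hxS⟩⁻¹ := rfl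
    rw [h3, map_mul, map_mul, map_inv]
    have h4 : θ ⟨x, hxS⟩ ∈ Subgroup.normalizer (V' : Set Ω') := (hPN hxP).2
    rw [Subgroup.mem_normalizer_iff] at h4
    exact (h4 _).mp hyV
  · intro x hx
    obtain ⟨hxS, hxV⟩ := mem_preimageAlong.mp hx
    refine mem_preimageAlong.mpr ⟨hQS (_ : ↥(preimageAlong θ P')).2, ?_⟩
    have h3 := hind x
    have h4 : θ ⟨(((b ^ p ^ k : F.autGroup (preimageAlong θ P')) : MulAut _) x : ↥(preimageAlong θ P')),
        hQS (_ : ↥(preimageAlong θ P')).2⟩ =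
        (((ρ (b ^ p ^ k) : E'.autGroup P') : MulAut P') (projAlong θ P' x) : P') :=
      (congrArg (fun w : P' => (w : Ω')) h3).symm
    rw [h4, hρg]
    exact pow_preserves α' hαV _ _ hxV
  · intro h3
    apply hgk
    rw [MonoidHom.mem_ker]
    have h4 : b ^ p ^ k = 1 := Subtype.ext h3
    rw [h4, map_one]
  · have := congrArg (fun w : F.autGroup (preimageAlong θ P') => (w : MulAut ↥(preimageAlong θ P'))) hgm
    simpa using this

/-- The full preimage of a normal subgroup is normal. -/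
theorem preimage_normalizer {θ : S →* Ω'} (hrange : θ.range = S') {V' : Subgroup Ω'}
    (hV' : S' ≤ Subgroup.normalizer (V' : Set Ω')) : normalizerIn S (preimageAlong θ V') = S := by
  apply le_antisymm inf_le_left
  intro x hxS
  have hV'fin : Finite ↥(preimageAlong θ V') :=
    Finite.of_injective (Subgroup.inclusion (preimageAlong_le θ V')) (Subgroup.inclusion_injective _)
  refine ⟨hxS, ?_⟩
  apply mem_normalizer_of_conj_mem
  intro y hy
  obtain ⟨hyS, hyV⟩ := mem_preimageAlong.mp hy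
  refine mem_preimageAlong.mpr ⟨S.mul_mem (S.mul_mem hxS hyS) (S.inv_mem hxS), ?_⟩
  have h3 : (⟨x * y * x⁻¹, S.mul_mem (S.mul_mem hxS hyS) (S.inv_mem hxS)⟩ : S) =
      ⟨x, hxS⟩ * ⟨y, hyS⟩ * ⟨x, hxS⟩⁻¹ := rfl
  rw [h3, map_mul, map_mul, map_inv]
  have h4 : θ ⟨x, hxS⟩ ∈ Subgroup.normalizer (V' : Set Ω') := by
    apply hV'
    rw [← hrange]
    exact ⟨_, rfl⟩
  rw [Subgroup.mem_normalizer_iff] at h4
  exact (h4 _).mp hyV

/-- The full preimage of a nontrivial subgroup of the image properly contains the kernel. -/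
theorem lt_preimage {S₀ : Subgroup Ω} {θ : S →* Ω'} (hS₀S : S₀ ≤ S) (hker : ∀ s : S, θ s = 1 ↔ (s : Ω) ∈ S₀)
    (hrange : θ.range = S') {V' : Subgroup Ω'} (hV'S' : V' ≤ S') (hV' : V' ≠ ⊥) :
    S₀ < preimageAlong θ V' := by
  have hle : S₀ ≤ preimageAlong θ V' := by
    intro x hx
    refine mem_preimageAlong.mpr ⟨hS₀S hx, ?_⟩
    rw [(hker ⟨x, hS₀S hx⟩).mpr hx]
    exact V'.one_mem
  refine lt_of_le_of_ne hle (fun heq => hV' ?_)
  rw [Subgroup.eq_bot_iff_forall]
  intro y hy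
  obtain ⟨s, hs⟩ : y ∈ θ.range := by
    rw [hrange]
    exact hV'S' hy
  have h1 : (s : Ω) ∈ preimageAlong θ V' := mem_preimageAlong.mpr ⟨s.2, by rw [Subtype.coe_eta, hs]; exact hy⟩
  rw [← heq] at h1
  rw [← hs]
  exact (hker s).mpr h1

end factor

end Cfsg.Agent.Lib.Helper27.LG
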