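import Mathlib

set_option autoImplicit false

/-! Burnside's table-of-marks lemma: two finite `K`-sets with the same numbers of fixed points for all
subgroups of the finite group `K` are isomorphic. The actions are given as permutation
representations, so that two different actions on the same type can be compared. -/

namespace Cfsg.Agent.Lib.Helper27.Park

universe u v

variable {K : Type v} [Group K]

/-- The fixed points of the subgroup `L` in the permutation representation `ρ`. -/
def FixPts {X : Type u} (ρ : K →* Equiv.Perm X) (L : Subgroup K) : Set X := {x | ∀ k ∈ L, ρ k x = x}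

/-- The stabilizer of a point in a permutation representation. -/
def stab {X : Type u} (ρ : K →* Equiv.Perm X) (x : X) : Subgroup K where
  carrier := {k | ρ k x = x}
  one_mem' := by simp
  mul_mem' := by
    intro a b ha hb
    show ρ (a * b) x = x
    rw [map_mul, Equiv.Perm.mul_apply, hb, ha]
  inv_mem' := by
    intro a ha
    show ρ a⁻¹ x = x
    rw [map_inv, Equiv.Perm.inv_eq_iff_eq]
    exact ha.symm

theorem mem_stab {X : Type u} (ρ : K →* Equiv.Perm X) (x : X) (k : K) : k ∈ stab ρ x ↔ ρ k x = x :=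
  Iff.rfl

theorem mem_fixPts_iff {X : Type u} (ρ : K →* Equiv.Perm X) (L : Subgroup K) (x : X) :
    x ∈ FixPts ρ L ↔ L ≤ stab ρ x := Iff.rfl

/-- Restriction of a permutation representation to an invariant subset. -/
def restrictRep {X : Type u} (ρ : K →* Equiv.Perm X) (p : X → Prop)
    (hp : ∀ k x, p x → p (ρ k x)) : K →* Equiv.Perm {x // p x} where
  toFun k :=
    { toFun := fun x => ⟨ρ k x, hp k x x.2⟩
      invFun := fun x => ⟨ρ k⁻¹ x, hp k⁻¹ x x.2⟩
      left_inv := fun x => Subtype.ext (by simp [map_inv])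
      right_inv := fun x => Subtype.ext (by simp [map_inv]) }
  map_one' := by
    ext x
    simp
  map_mul' := by
    intro a b
    ext x
    simp [map_mul]

theorem restrictRep_apply {X : Type u} (ρ : K →* Equiv.Perm X) (p : X → Prop)
    (hp : ∀ k x, p x → p (ρ k x)) (k : K) (x : {x // p x}) :
    ((restrictRep ρ p hp k x : {x // p x}) : X) = ρ k x := rfl

theorem eq_iff_of_stab_eq {X Y : Type u} (ρ : K →* Equiv.Perm X) (σ : K →* Equiv.Perm Y) {x₀ : X}
    {y₀ : Y} (h : stab ρ x₀ = stab σ y₀) (k k' : K) : ρ k x₀ = ρ k' x₀ ↔ σ k y₀ = σ k' y₀ := by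
  have h1 : ρ k x₀ = ρ k' x₀ ↔ k'⁻¹ * k ∈ stab ρ x₀ := by
    rw [mem_stab, map_mul, Equiv.Perm.mul_apply, map_inv, Equiv.Perm.inv_eq_iff_eq]
  have h2 : σ k y₀ = σ k' y₀ ↔ k'⁻¹ * k ∈ stab σ y₀ := by
    rw [mem_stab, map_mul, Equiv.Perm.mul_apply, map_inv, Equiv.Perm.inv_eq_iff_eq]
  rw [h1, h2, h]

variable [Finite K]

theorem burnside_marks : ∀ (n : ℕ) (X Y : Type u) [Finite X] [Finite Y] (ρ : K →* Equiv.Perm X)
    (σ : K →* Equiv.Perm Y), Nat.card X = n →
    (∀ L : Subgroup K, (FixPts ρ L).ncard = (FixPts σ L).ncard) →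
    ∃ e : X ≃ Y, ∀ k x, e (ρ k x) = σ k (e x) := by
  classical
  intro n
  induction n using Nat.strong_induction_on with
  | _ n ih =>
    intro X Y _ _ ρ σ hn hfix
    have hbot : ∀ {Z : Type u} (τ : K →* Equiv.Perm Z), FixPts τ ⊥ = Set.univ := by
      intro Z τ
      ext z
      simp only [FixPts, Set.mem_ofPred_eq, Set.mem_univ, iff_true]
      intro k hk
      rw [Subgroup.mem_bot] at hk
      rw [hk, map_one]; rfl
    rcases isEmpty_or_nonempty X with hX | hX
    · have h1 := hfix ⊥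
      rw [hbot, hbot, Set.ncard_univ, Set.ncard_univ, Nat.card_of_isEmpty] at h1
      haveI : IsEmpty Y := by
        rcases isEmpty_or_nonempty Y with h | h
        · exact h
        · exact absurd h1.symm (Nat.card_pos (α := Y)).ne'
      exact ⟨Equiv.equivOfIsEmpty X Y, fun k x => isEmptyElim x⟩
    · obtain ⟨x₀, hx₀⟩ := Finite.exists_max (fun x : X => Nat.card (stab ρ x))
      have hx₀L : x₀ ∈ FixPts ρ (stab ρ x₀) := (mem_fixPts_iff ρ _ x₀).mpr le_rfl
      have hne : (FixPts σ (stab ρ x₀)).Nonempty := by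
        rw [← Set.ncard_pos, ← hfix]
        exact (Set.ncard_pos).mpr ⟨x₀, hx₀L⟩
      obtain ⟨y₀, hy₀⟩ := hne
      have hle : stab ρ x₀ ≤ stab σ y₀ := (mem_fixPts_iff σ _ y₀).mp hy₀
      have hne2 : (FixPts ρ (stab σ y₀)).Nonempty := by
        rw [← Set.ncard_pos, hfix]
        exact (Set.ncard_pos).mpr ⟨y₀, (mem_fixPts_iff σ _ y₀).mpr le_rfl⟩
      obtain ⟨x₁, hx₁⟩ := hne2
      have hle2 : stab σ y₀ ≤ stab ρ x₁ := (mem_fixPts_iff ρ _ x₁).mp hx₁
      have hstab : stab ρ x₀ = stab σ y₀ := by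
        apply Subgroup.eq_of_le_of_card_ge hle
        exact (Subgroup.card_le_of_le hle2).trans (hx₀ x₁)
      -- the orbits
      let OX : Set X := Set.range (fun k => ρ k x₀)
      let OY : Set Y := Set.range (fun k => σ k y₀)
      have hOX : ∀ k x, x ∈ OX → ρ k x ∈ OX := by
        rintro k _ ⟨k', rfl⟩
        exact ⟨k * k', by simp [map_mul]⟩
      have hOY : ∀ k y, y ∈ OY → σ k y ∈ OY := by
        rintro k _ ⟨k', rfl⟩
        exact ⟨k * k', by simp [map_mul]⟩
      have hOXc : ∀ k x, x ∈ OXᶜ → ρ k x ∈ OXᶜ := by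
        intro k x hx hcon
        apply hx
        have := hOX k⁻¹ _ hcon
        simpa [map_inv] using this
      have hOYc : ∀ k y, y ∈ OYᶜ → σ k y ∈ OYᶜ := by
        intro k y hy hcon
        apply hy
        have := hOY k⁻¹ _ hcon
        simpa [map_inv] using this
      have key := eq_iff_of_stab_eq ρ σ hstab
      -- the bijection between the orbits
      let f₀ : OX → OY := fun x => ⟨σ x.2.choose y₀, ⟨_, rfl⟩⟩
      have hf₀ : ∀ k (h : ρ k x₀ ∈ OX), (f₀ ⟨ρ k x₀, h⟩ : Y) = σ k y₀ := by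
        intro k h
        show σ h.choose y₀ = σ k y₀
        rw [← key]
        exact h.choose_spec
      have hf₀eq : ∀ k (x : OX), (f₀ ⟨ρ k x, hOX k x x.2⟩ : Y) = σ k (f₀ x) := by
        rintro k ⟨_, k', rfl⟩
        have h1 : ρ k (ρ k' x₀) = ρ (k * k') x₀ := by simp [map_mul]
        have h2 : (f₀ ⟨ρ k (ρ k' x₀), hOX k _ ⟨k', rfl⟩⟩ : Y) = σ (k * k') y₀ := by
          have h3 : (⟨ρ k (ρ k' x₀), hOX k _ ⟨k', rfl⟩⟩ : OX) = ⟨ρ (k * k') x₀, ⟨_, rfl⟩⟩ :=
            Subtype.ext h1
          rw [h3]; exact hf₀ _ _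
        rw [h2, hf₀ k' ⟨k', rfl⟩]
        simp [map_mul]
      have hf₀bij : Function.Bijective f₀ := by
        constructor
        · rintro ⟨_, k, rfl⟩ ⟨_, k', rfl⟩ h
          have h1 : (f₀ ⟨ρ k x₀, ⟨k, rfl⟩⟩ : Y) = (f₀ ⟨ρ k' x₀, ⟨k', rfl⟩⟩ : Y) :=
            congrArg (fun z : OY => (z : Y)) h
          rw [hf₀ k ⟨k, rfl⟩, hf₀ k' ⟨k', rfl⟩] at h1
          exact Subtype.ext ((key k k').mpr h1)
        · rintro ⟨_, k, rfl⟩
          exact ⟨⟨ρ k x₀, ⟨k, rfl⟩⟩, Subtype.ext (hf₀ k _)⟩
      let e₀ : OX ≃ OY := Equiv.ofBijective f₀ hf₀bij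
      -- the complements
      let ρ' := restrictRep ρ (· ∈ OXᶜ) hOXc
      let σ' := restrictRep σ (· ∈ OYᶜ) hOYc
      have hfix' : ∀ L : Subgroup K, (FixPts ρ' L).ncard = (FixPts σ' L).ncard := by
        intro L
        have h1 : Subtype.val '' (FixPts ρ' L) = FixPts ρ L \ OX := by
          ext x
          constructor
          · rintro ⟨x', hx', rfl⟩
            refine ⟨fun k hk => ?_, x'.2⟩
            have := congrArg Subtype.val (hx' k hk)
            exact this
          · rintro ⟨hx, hxO⟩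
            exact ⟨⟨x, hxO⟩, fun k hk => Subtype.ext (hx k hk), rfl⟩
        have h2 : Subtype.val '' (FixPts σ' L) = FixPts σ L \ OY := by
          ext y
          constructor
          · rintro ⟨y', hy', rfl⟩
            refine ⟨fun k hk => ?_, y'.2⟩
            have := congrArg Subtype.val (hy' k hk)
            exact this
          · rintro ⟨hy, hyO⟩
            exact ⟨⟨y, hyO⟩, fun k hk => Subtype.ext (hy k hk), rfl⟩
        have h3 : (FixPts ρ L ∩ OX).ncard = (FixPts σ L ∩ OY).ncard := by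
          refine Set.ncard_congr (fun a ha => (f₀ ⟨a, ha.2⟩ : Y)) ?_ ?_ ?_
          · intro a ha
            refine ⟨fun k hk => ?_, (f₀ ⟨a, ha.2⟩).2⟩
            have h4 := hf₀eq k ⟨a, ha.2⟩
            rw [← h4]
            congr 2
            exact Subtype.ext (ha.1 k hk)
          · intro a b ha hb hab
            have := hf₀bij.1 (Subtype.ext hab)
            exact congrArg Subtype.val this
          · intro b hb
            obtain ⟨a, ha⟩ := hf₀bij.2 ⟨b, hb.2⟩
            have hab : (f₀ a : Y) = b := congrArg Subtype.val ha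
            refine ⟨a, ⟨fun k hk => ?_, a.2⟩, hab⟩
            have h4 := hf₀eq k a
            have h5 : (f₀ ⟨ρ k a, hOX k a a.2⟩ : Y) = f₀ a := by
              rw [h4, hab]; exact hb.1 k hk
            have := hf₀bij.1 (Subtype.ext h5)
            exact congrArg Subtype.val this
        have h4 := Set.ncard_inter_add_ncard_sdiff_eq_ncard (FixPts ρ L) OX
        have h5 := Set.ncard_inter_add_ncard_sdiff_eq_ncard (FixPts σ L) OY
        have h6 := hfix L
        rw [← Set.ncard_image_of_injective _ Subtype.val_injective, h1,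
          ← Set.ncard_image_of_injective (FixPts σ' L) Subtype.val_injective, h2]
        omega
      have hcard : Nat.card {x // x ∈ OXᶜ} < n := by
        rw [← hn]
        have h1 : Nat.card {x // x ∈ OXᶜ} = (OXᶜ).ncard := rfl
        rw [h1, ← Set.ncard_univ]
        apply Set.ncard_lt_ncard _ (Set.toFinite _)
        refine ⟨Set.subset_univ _, fun h => ?_⟩
        have : x₀ ∈ OXᶜ := h (Set.mem_univ _)
        exact this ⟨1, by simp⟩
      obtain ⟨e', he'⟩ := ih _ hcard {x // x ∈ OXᶜ} {y // y ∈ OYᶜ} ρ' σ' rfl hfix'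
      refine ⟨(Equiv.Set.sumCompl OX).symm.trans ((Equiv.sumCongr e₀ e').trans (Equiv.Set.sumCompl OY)),
        fun k x => ?_⟩
      by_cases hx : x ∈ OX
      · have hkx : ρ k x ∈ OX := hOX k x hx
        simp only [Equiv.trans_apply, Equiv.Set.sumCompl_symm_apply_of_mem hx,
          Equiv.Set.sumCompl_symm_apply_of_mem hkx, Equiv.sumCongr_apply, Sum.map_inl,
          Equiv.Set.sumCompl_apply_inl]
        exact hf₀eq k ⟨x, hx⟩
      · have hkx : ρ k x ∉ OX := hOXc k x hx
        simp only [Equiv.trans_apply, Equiv.Set.sumCompl_symm_apply_of_notMem hx,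
          Equiv.Set.sumCompl_symm_apply_of_notMem hkx, Equiv.sumCongr_apply, Sum.map_inr,
          Equiv.Set.sumCompl_apply_inr]
        have h1 := he' k ⟨x, hx⟩
        have h2 : (⟨ρ k x, hkx⟩ : {x // x ∈ OXᶜ}) = ρ' k ⟨x, hx⟩ := rfl
        rw [h2, h1]
        rfl

end Cfsg.Agent.Lib.Helper27.Park
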