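import Mathlib

set_option autoImplicit false

/-! Möbius-type coefficients: for any family `𝒟` of subgroups of a finite group `H` there are natural
numbers `γ D`, supported on `𝒟`, whose sums over the overgroups of `L ∈ 𝒟` depend only on the order of
`L`. -/

namespace Cfsg.Agent.Lib.Helper27.Park

open Classical

variable {H : Type*} [Group H] [Finite H]

/-- All subgroups of the finite group `H`, as a finset. -/
noncomputable def allSub (H : Type*) [Group H] [Finite H] : Finset (Subgroup H) :=
  (Set.toFinite (Set.univ : Set (Subgroup H))).toFinset

theorem mem_allSub (D : Subgroup H) : D ∈ allSub H := by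
  simp [allSub]

/-- The sum of `γ` over the overgroups of `L`. -/
noncomputable def upSum (γ : Subgroup H → ℕ) (L : Subgroup H) : ℕ :=
  ∑ D ∈ allSub H, if L ≤ D then γ D else 0

theorem le_upSum (γ : Subgroup H → ℕ) (D : Subgroup H) : γ D ≤ upSum γ D := by
  unfold upSum
  have h := Finset.single_le_sum (f := fun D' => if D ≤ D' then γ D' else 0)
    (fun i _ => Nat.zero_le _) (mem_allSub D)
  simpa using h

theorem exists_coeff (𝒟 : Set (Subgroup H)) :
    ∃ (γ : Subgroup H → ℕ) (τ : ℕ → ℕ), (∀ D, γ D ≠ 0 → D ∈ 𝒟) ∧ (∀ k, 0 < τ k) ∧
      ∀ L ∈ 𝒟, upSum γ L = τ (Nat.card L) := by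
  set N := Nat.card H with hN
  set B := (allSub H).card + 1 with hB
  have hB1 : 1 ≤ B := by omega
  let τ : ℕ → ℕ := fun k => B ^ (N - k)
  have hτpos : ∀ k, 0 < τ k := fun k => Nat.pow_pos (by omega)
  have hcardle : ∀ D : Subgroup H, Nat.card D ≤ N := fun D => Subgroup.card_le_card_group D
  have hτstep : ∀ L D : Subgroup H, L < D → B * τ (Nat.card D) ≤ τ (Nat.card L) := by
    intro L D hLD
    have h1 : Nat.card L < Nat.card D := by
      exact Set.ncard_lt_ncard (s := (L : Set H)) (t := (D : Set H)) (by exact_mod_cast hLD)
        (Set.toFinite _)
    have h2 := hcardle D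
    show B * B ^ (N - Nat.card D) ≤ B ^ (N - Nat.card L)
    rw [← pow_succ']
    exact Nat.pow_le_pow_right hB1 (by omega)
  have key : ∀ j : ℕ, ∃ γ : Subgroup H → ℕ, (∀ D, γ D ≠ 0 → D ∈ 𝒟 ∧ N < Nat.card D + j) ∧
      ∀ L ∈ 𝒟, N < Nat.card L + j → upSum γ L = τ (Nat.card L) := by
    intro j
    induction j with
    | zero =>
      refine ⟨fun _ => 0, fun D h => absurd rfl h, fun L _ hL => ?_⟩
      have := hcardle L
      omega
    | succ j ih =>
      obtain ⟨γ, hsupp, hsum⟩ := ih
      let rest : Subgroup H → ℕ := fun L => ∑ D ∈ allSub H, if L < D then γ D else 0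
      let γ' : Subgroup H → ℕ := fun D =>
        if N < Nat.card D + j then γ D
        else if D ∈ 𝒟 ∧ Nat.card D + j = N then τ (Nat.card D) - rest D else 0
      have hγ'old : ∀ D : Subgroup H, N < Nat.card D + j → γ' D = γ D := by
        intro D h
        simp only [γ', h, if_true]
      have hrest : ∀ L : Subgroup H, rest L ≤ τ (Nat.card L) := by
        intro L
        have hterm : ∀ D ∈ allSub H, (if L < D then γ D else 0) ≤ τ (Nat.card L) / B := by
          intro D _
          split_ifs with hLD
          · rw [Nat.le_div_iff_mul_le (by omega)]
            by_cases h0 : γ D = 0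
            · rw [h0]; simp
            · obtain ⟨hD, hDj⟩ := hsupp D h0
              have h1 : γ D ≤ τ (Nat.card D) := by
                rw [← hsum D hD hDj]; exact le_upSum γ D
              calc γ D * B ≤ τ (Nat.card D) * B := Nat.mul_le_mul_right _ h1
                _ = B * τ (Nat.card D) := Nat.mul_comm _ _
                _ ≤ τ (Nat.card L) := hτstep L D hLD
          · exact Nat.zero_le _
        calc rest L ≤ ∑ _D ∈ allSub H, τ (Nat.card L) / B := Finset.sum_le_sum hterm
          _ = (allSub H).card * (τ (Nat.card L) / B) := by rw [Finset.sum_const, smul_eq_mul]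
          _ ≤ B * (τ (Nat.card L) / B) := Nat.mul_le_mul_right _ (by omega)
          _ ≤ τ (Nat.card L) := Nat.mul_div_le _ _
      refine ⟨γ', ?_, ?_⟩
      · intro D hD
        by_cases h1 : N < Nat.card D + j
        · rw [hγ'old D h1] at hD
          exact ⟨(hsupp D hD).1, by omega⟩
        · simp only [γ', h1, if_false] at hD
          by_cases h2 : D ∈ 𝒟 ∧ Nat.card D + j = N
          · exact ⟨h2.1, by omega⟩
          · simp only [h2, if_false] at hD
            exact absurd rfl hD
      · intro L hL hLj
        by_cases h1 : N < Nat.card L + j
        · rw [← hsum L hL h1]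
          unfold upSum
          apply Finset.sum_congr rfl
          intro D _
          split_ifs with hLD
          · apply hγ'old
            have := Subgroup.card_le_of_le hLD
            omega
          · rfl
        · have h2 : Nat.card L + j = N := by omega
          have h3 : upSum γ' L = γ' L + rest L := by
            unfold upSum
            have h4 : ∀ D ∈ allSub H, (if L ≤ D then γ' D else 0) =
                (if D = L then γ' L else 0) + (if L < D then γ D else 0) := by
              intro D _
              by_cases hDL : D = L
              · subst hDL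
                simp
              · by_cases hLD : L ≤ D
                · have hlt : L < D := lt_of_le_of_ne hLD (Ne.symm hDL)
                  have h5 : Nat.card L < Nat.card D :=
                    Set.ncard_lt_ncard (s := (L : Set H)) (t := (D : Set H)) (by exact_mod_cast hlt)
                      (Set.toFinite _)
                  simp only [hLD, hDL, hlt, if_true, if_false, zero_add]
                  apply hγ'old
                  omega
                · have hlt : ¬ L < D := fun h => hLD h.le
                  simp [hLD, hDL, hlt]
            rw [Finset.sum_congr rfl h4, Finset.sum_add_distrib]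
            congr 1
            rw [Finset.sum_ite_eq' (allSub H) L (fun _ => γ' L)]
            simp [mem_allSub]
          have h6 : γ' L = τ (Nat.card L) - rest L := by
            simp only [γ', h1, if_false]
            rw [if_pos ⟨hL, h2⟩]
          rw [h3, h6]
          exact Nat.sub_add_cancel (hrest L)
  obtain ⟨γ, hsupp, hsum⟩ := key (N + 1)
  exact ⟨γ, τ, fun D hD => (hsupp D hD).1, hτpos, fun L hL => hsum L hL (by omega)⟩

end Cfsg.Agent.Lib.Helper27.Park
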