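import Mathlib
import Cfsg.Agent.Lib.Helper27.BurnsideMarks
import Cfsg.Agent.Lib.Helper27.ParkCoeff

set_option autoImplicit false

/-! The `H`-set `⊔_D n(D) · H/D` and its numbers of fixed points. -/

namespace Cfsg.Agent.Lib.Helper27.Park

open Classical

universe u

variable {H : Type u} [Group H]

/-- The `H`-set `⊔_D n(D) · H/D`. -/
abbrev PX (n : Subgroup H → ℕ) : Type u := Σ D : Subgroup H, Fin (n D) × (H ⧸ D)

/-- The action of `H` on `PX n`, as a permutation representation. -/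
def act (n : Subgroup H → ℕ) : H →* Equiv.Perm (PX n) where
  toFun h :=
    { toFun := fun x => ⟨x.1, x.2.1, h • x.2.2⟩
      invFun := fun x => ⟨x.1, x.2.1, h⁻¹ • x.2.2⟩
      left_inv := by
        rintro ⟨D, i, q⟩
        show (⟨D, i, h⁻¹ • h • q⟩ : PX n) = ⟨D, i, q⟩
        rw [inv_smul_smul]
      right_inv := by
        rintro ⟨D, i, q⟩
        show (⟨D, i, h • h⁻¹ • q⟩ : PX n) = ⟨D, i, q⟩
        rw [smul_inv_smul] }
  map_one' := by
    apply Equiv.ext
    rintro ⟨D, i, q⟩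
    show (⟨D, i, (1 : H) • q⟩ : PX n) = ⟨D, i, q⟩
    rw [one_smul]
  map_mul' := by
    intro a b
    apply Equiv.ext
    rintro ⟨D, i, q⟩
    show (⟨D, i, (a * b) • q⟩ : PX n) = ⟨D, i, a • b • q⟩
    rw [mul_smul]

theorem act_apply (n : Subgroup H → ℕ) (h : H) (D : Subgroup H) (i : Fin (n D)) (q : H ⧸ D) :
    act n h (⟨D, i, q⟩ : PX n) = ⟨D, i, h • q⟩ := rfl

/-- conjugate subgroup `g⁻¹ M g` -/
def conjSub (M : Subgroup H) (g : H) : Subgroup H := M.map (MulAut.conj g⁻¹).toMonoidHom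

theorem mem_conjSub {M : Subgroup H} {g x : H} : x ∈ conjSub M g ↔ g * x * g⁻¹ ∈ M := by
  unfold conjSub
  constructor
  · rintro ⟨y, hy, rfl⟩
    simpa [MulAut.conj_apply, mul_assoc] using hy
  · intro h
    exact ⟨g * x * g⁻¹, h, by simp [MulAut.conj_apply, mul_assoc]⟩

theorem conjSub_le_iff {M D : Subgroup H} {g : H} : conjSub M g ≤ D ↔ ∀ h ∈ M, g⁻¹ * h * g ∈ D := by
  constructor
  · intro hle h hh
    apply hle
    rw [mem_conjSub]
    simpa [mul_assoc] using hh
  · intro hall x hx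
    rw [mem_conjSub] at hx
    have := hall _ hx
    simpa [mul_assoc] using this

theorem conjSub_conjSub (M : Subgroup H) (g : H) : conjSub (conjSub M g) g⁻¹ = M := by
  ext x
  rw [mem_conjSub, mem_conjSub]
  simp [mul_assoc]

theorem card_conjSub [Finite H] (M : Subgroup H) (g : H) : Nat.card (conjSub M g) = Nat.card M := by
  unfold conjSub
  exact Subgroup.card_map_of_injective (MulAut.conj g⁻¹).injective

/-- the fixed cosets -/
def fixq (D M : Subgroup H) : Set (H ⧸ D) := {q | ∀ h ∈ M, h • q = q}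

theorem preimage_fixq (D M : Subgroup H) :
    (QuotientGroup.mk ⁻¹' (fixq D M) : Set H) = {g | ∀ h ∈ M, g⁻¹ * h * g ∈ D} := by
  ext g
  simp only [Set.mem_preimage, fixq, Set.mem_ofPred_eq]
  constructor
  · intro hall h hh
    have h1 := hall h⁻¹ (M.inv_mem hh)
    have h2 : (h⁻¹ • (QuotientGroup.mk g : H ⧸ D)) = QuotientGroup.mk (h⁻¹ * g) := rfl
    rw [h2, QuotientGroup.eq] at h1
    simpa [mul_assoc] using h1
  · intro hall h hh
    have h2 : (h • (QuotientGroup.mk g : H ⧸ D)) = QuotientGroup.mk (h * g) := rfl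
    rw [h2, QuotientGroup.eq]
    have h1 := D.inv_mem (hall h hh)
    simpa [mul_assoc] using h1

variable [Finite H]

theorem ncard_fixq_mul (D M : Subgroup H) :
    (fixq D M).ncard * Nat.card D = ({g : H | ∀ h ∈ M, g⁻¹ * h * g ∈ D} : Set H).ncard := by
  rw [← preimage_fixq]
  have e := QuotientGroup.preimageMkEquivSubgroupProdSet D (fixq D M)
  have h1 := Nat.card_congr e
  rw [Nat.card_prod] at h1
  have h2 : Nat.card ↥(QuotientGroup.mk ⁻¹' (fixq D M) : Set H) =
      (QuotientGroup.mk ⁻¹' (fixq D M) : Set H).ncard := rfl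
  have h3 : Nat.card ↥(fixq D M) = (fixq D M).ncard := rfl
  rw [h2, h3] at h1
  rw [h1, Nat.mul_comm]

theorem mem_fixPts_act (n : Subgroup H → ℕ) (M : Subgroup H) (x : PX n) :
    x ∈ FixPts (act n) M ↔ x.2.2 ∈ fixq x.1 M := by
  obtain ⟨D, i, q⟩ := x
  constructor
  · intro hx h hh
    have := hx h hh
    rw [act_apply] at this
    have h3 := eq_of_heq (Sigma.mk.inj this).2
    exact (Prod.mk.inj h3).2
  · intro hq h hh
    rw [act_apply, hq h hh]

theorem ncard_fixPts_act (n : Subgroup H → ℕ) (M : Subgroup H) :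
    (FixPts (act n) M).ncard = ∑ D ∈ allSub H, n D * (fixq D M).ncard := by
  haveI : Fintype (Subgroup H) := Fintype.ofFinite _
  have e : ↥(FixPts (act n) M) ≃ Σ D : Subgroup H, Fin (n D) × ↥(fixq D M) :=
    { toFun := fun x => ⟨x.1.1, x.1.2.1, ⟨x.1.2.2, (mem_fixPts_act n M x.1).mp x.2⟩⟩
      invFun := fun y => ⟨⟨y.1, y.2.1, y.2.2.1⟩, (mem_fixPts_act n M _).mpr y.2.2.2⟩
      left_inv := by
        rintro ⟨⟨D, i, q⟩, hx⟩
        rfl
      right_inv := by
        rintro ⟨D, i, ⟨q, hq⟩⟩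
        rfl }
  have h1 : (FixPts (act n) M).ncard = Nat.card ↥(FixPts (act n) M) := rfl
  rw [h1, Nat.card_congr e, Nat.card_sigma]
  have h2 : (Finset.univ : Finset (Subgroup H)) = allSub H := by
    ext D
    simp [mem_allSub]
  rw [h2]
  apply Finset.sum_congr rfl
  intro D _
  rw [Nat.card_prod, Nat.card_fin]
  rfl

/-- The numbers of fixed points of `⊔_D (|D| γ(D)) · H/D`. -/
theorem ncard_fixPts_eq (𝒟 : Set (Subgroup H)) (hsub : ∀ D ∈ 𝒟, ∀ L : Subgroup H, L ≤ D → L ∈ 𝒟)
    (hconj : ∀ D ∈ 𝒟, ∀ g : H, conjSub D g ∈ 𝒟)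
    (γ : Subgroup H → ℕ) (τ : ℕ → ℕ) (hγ : ∀ D, γ D ≠ 0 → D ∈ 𝒟)
    (hsum : ∀ L ∈ 𝒟, upSum γ L = τ (Nat.card L)) (M : Subgroup H) :
    (FixPts (act (fun D => Nat.card D * γ D)) M).ncard =
      if M ∈ 𝒟 then Nat.card H * τ (Nat.card M) else 0 := by
  haveI : Fintype H := Fintype.ofFinite _
  rw [ncard_fixPts_act]
  have h1 : ∀ D ∈ allSub H, Nat.card D * γ D * (fixq D M).ncard =
      ∑ g : H, if conjSub M g ≤ D then γ D else 0 := by
    intro D _
    have h2 : Nat.card D * γ D * (fixq D M).ncard = γ D * ((fixq D M).ncard * Nat.card D) := by ring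
    rw [h2, ncard_fixq_mul]
    have h3 : ({g : H | ∀ h ∈ M, g⁻¹ * h * g ∈ D} : Set H).ncard =
        (Finset.univ.filter (fun g : H => conjSub M g ≤ D)).card := by
      rw [Set.ncard_eq_toFinset_card']
      congr 1
      ext g
      simp [conjSub_le_iff]
    rw [h3, Finset.card_filter, Finset.mul_sum]
    apply Finset.sum_congr rfl
    intro g _
    split_ifs <;> simp
  rw [Finset.sum_congr rfl h1, Finset.sum_comm]
  have h4 : ∀ g : H, (∑ D ∈ allSub H, if conjSub M g ≤ D then γ D else 0) = upSum γ (conjSub M g) :=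
    fun g => rfl
  rw [Finset.sum_congr rfl (fun g _ => h4 g)]
  split_ifs with hM
  · have h5 : ∀ g ∈ (Finset.univ : Finset H), upSum γ (conjSub M g) = τ (Nat.card M) := by
      intro g _
      rw [hsum _ (hconj M hM g), card_conjSub]
    rw [Finset.sum_congr rfl h5, Finset.sum_const, smul_eq_mul, Finset.card_univ,
      ← Nat.card_eq_fintype_card]
  · apply Finset.sum_eq_zero
    intro g _
    unfold upSum
    apply Finset.sum_eq_zero
    intro D _
    split_ifs with hle
    · by_contra h0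
      apply hM
      have hD := hγ D h0
      have h6 := hsub D hD _ hle
      have h7 := hconj _ h6 g⁻¹
      rwa [conjSub_conjSub] at h7
    · rfl

end Cfsg.Agent.Lib.Helper27.Park
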