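import Mathlib
import Cfsg.Agent.Lib.Helper27.BurnsideMarks
import Cfsg.Agent.Lib.Helper27.ParkCoeff
import Cfsg.Agent.Lib.Helper27.ParkBiset

set_option autoImplicit false

/-! Marks of the `H`-sets `⊔_D n(D) · H/D`: conjugation invariance, class representatives, and the
contribution of the orbits of a given order. -/

namespace Cfsg.Agent.Lib.Helper27.CB

open Classical Cfsg.Agent.Lib.Helper27.Park

universe u

variable {H : Type u} [Group H]

/-- The number of fixed points of `M` on `⊔_D n(D) · H/D`. -/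
noncomputable def mark (n : Subgroup H → ℕ) (M : Subgroup H) : ℕ := (FixPts (act n) M).ncard

theorem conjSub_mul (M : Subgroup H) (g g' : H) : conjSub (conjSub M g) g' = conjSub M (g * g') := by
  ext x
  rw [mem_conjSub, mem_conjSub, mem_conjSub]
  simp [mul_assoc]

theorem conjSub_one (M : Subgroup H) : conjSub M 1 = M := by
  ext x
  rw [mem_conjSub]
  simp

theorem fixPts_conjSub {K : Type*} [Group K] {X : Type*} (ρ : K →* Equiv.Perm X) (M : Subgroup K) (g : K) :
    FixPts ρ (conjSub M g) = (ρ g⁻¹) '' FixPts ρ M := by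
  ext x
  constructor
  · intro hx
    refine ⟨ρ g x, ?_, ?_⟩
    · intro m hm
      have h1 : g⁻¹ * m * g ∈ conjSub M g := by
        rw [mem_conjSub]
        simpa [mul_assoc] using hm
      have h2 := hx _ h1
      have h3 : ρ m (ρ g x) = ρ g (ρ (g⁻¹ * m * g) x) := by
        rw [← Equiv.Perm.mul_apply, ← Equiv.Perm.mul_apply, ← map_mul, ← map_mul]
        congr 2
        group
      rw [h3, h2]
    · rw [← Equiv.Perm.mul_apply, ← map_mul]
      simp
  · rintro ⟨y, hy, rfl⟩
    intro k hk
    rw [mem_conjSub] at hk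
    have h2 := hy _ hk
    have h3 : ρ k (ρ g⁻¹ y) = ρ g⁻¹ (ρ (g * k * g⁻¹) y) := by
      rw [← Equiv.Perm.mul_apply, ← Equiv.Perm.mul_apply, ← map_mul, ← map_mul]
      congr 2
      group
    rw [h3, h2]

theorem ncard_fixPts_conjSub {K : Type*} [Group K] {X : Type*} (ρ : K →* Equiv.Perm X) (M : Subgroup K)
    (g : K) : (FixPts ρ (conjSub M g)).ncard = (FixPts ρ M).ncard := by
  rw [fixPts_conjSub]
  exact Set.ncard_image_of_injective _ (ρ g⁻¹).injective

theorem mark_conjSub (n : Subgroup H → ℕ) (M : Subgroup H) (g : H) :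
    mark n (conjSub M g) = mark n M :=
  ncard_fixPts_conjSub _ M g

theorem fixPts_comp {K K' : Type*} [Group K] [Group K'] {X : Type*} (ρ : K' →* Equiv.Perm X)
    (f : K →* K') (L : Subgroup K) : FixPts (ρ.comp f) L = FixPts ρ (L.map f) := by
  ext x
  constructor
  · rintro h _ ⟨k, hk, rfl⟩
    exact h k hk
  · intro h k hk
    exact h _ ⟨k, hk, rfl⟩

/-- The number of `M`-fixed cosets of `M`, i.e. `|N_H(M) : M|`. -/
noncomputable def wt (M : Subgroup H) : ℕ := (fixq M M).ncard

/-! ### class representatives -/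

/-- The conjugacy class of a subgroup. -/
def conjClass (D : Subgroup H) : Set (Subgroup H) := {D' | ∃ g, conjSub D g = D'}

theorem conjClass_eq {D D' : Subgroup H} (h : ∃ g, conjSub D g = D') : conjClass D = conjClass D' := by
  obtain ⟨g, rfl⟩ := h
  ext E
  constructor
  · rintro ⟨k, rfl⟩
    refine ⟨g⁻¹ * k, ?_⟩
    rw [conjSub_mul]
    simp
  · rintro ⟨k, rfl⟩
    exact ⟨g * k, (conjSub_mul D g k).symm⟩

/-- A representative of the conjugacy class of `D`. -/
noncomputable def rep (D : Subgroup H) : Subgroup H := Classical.epsilon (fun D' => D' ∈ conjClass D)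

theorem rep_mem (D : Subgroup H) : ∃ g, conjSub D g = rep D :=
  Classical.epsilon_spec (p := fun D' => D' ∈ conjClass D) ⟨D, 1, conjSub_one D⟩

theorem rep_eq {D D' : Subgroup H} (h : ∃ g, conjSub D g = D') : rep D = rep D' := by
  unfold rep
  rw [conjClass_eq h]

theorem rep_rep (D : Subgroup H) : rep (rep D) = rep D := (rep_eq (rep_mem D)).symm

variable [Finite H]

theorem mark_eq_sum (n : Subgroup H → ℕ) (M : Subgroup H) :
    mark n M = ∑ D ∈ allSub H, n D * (fixq D M).ncard :=
  ncard_fixPts_act n M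

theorem mark_le_card (n : Subgroup H → ℕ) (M : Subgroup H) : mark n M ≤ Nat.card (PX n) := by
  unfold mark
  have h1 := Set.ncard_le_ncard (Set.subset_univ (FixPts (act n) M)) (Set.toFinite _)
  rwa [Set.ncard_univ] at h1

omit [Finite H] in
theorem setOf_fix_eq (D M : Subgroup H) :
    ({g : H | ∀ h ∈ M, g⁻¹ * h * g ∈ D} : Set H) = {g | conjSub M g ≤ D} := by
  ext g
  simp only [Set.mem_ofPred_eq]
  rw [conjSub_le_iff]

theorem ncard_fixq_of_card_lt {D M : Subgroup H} (h : Nat.card D < Nat.card M) :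
    (fixq D M).ncard = 0 := by
  have h1 := ncard_fixq_mul D M
  rw [setOf_fix_eq] at h1
  have h2 : ({g | conjSub M g ≤ D} : Set H) = ∅ := by
    ext g
    simp only [Set.mem_ofPred_eq, Set.mem_empty_iff_false, iff_false]
    intro hle
    have := Subgroup.card_le_of_le hle
    rw [card_conjSub] at this
    omega
  rw [h2, Set.ncard_empty] at h1
  have hD : 0 < Nat.card D := Nat.card_pos
  rcases Nat.mul_eq_zero.mp h1 with h3 | h3
  · exact h3
  · omega

theorem conjSub_le_iff_eq {D M : Subgroup H} (h : Nat.card D = Nat.card M) (g : H) :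
    conjSub M g ≤ D ↔ conjSub M g = D := by
  constructor
  · intro hle
    apply Subgroup.eq_of_le_of_card_ge hle
    rw [card_conjSub, h]
  · intro h
    rw [h]

theorem ncard_fixq_of_card_eq {D M : Subgroup H} (h : Nat.card D = Nat.card M) :
    (fixq D M).ncard = if ∃ g, conjSub M g = D then wt M else 0 := by
  have h1 := ncard_fixq_mul D M
  rw [setOf_fix_eq] at h1
  have hD : 0 < Nat.card D := Nat.card_pos
  split_ifs with hex
  · obtain ⟨g₀, hg₀⟩ := hex
    have h2 := ncard_fixq_mul M M
    rw [setOf_fix_eq] at h2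
    have h3 : ({g | conjSub M g ≤ D} : Set H) = (fun g => g * g₀) '' {g | conjSub M g ≤ M} := by
      ext g
      simp only [Set.mem_ofPred_eq, Set.mem_image]
      constructor
      · intro hg
        refine ⟨g * g₀⁻¹, ?_, by group⟩
        rw [conjSub_le_iff_eq h] at hg
        have h4 : conjSub M (g * g₀⁻¹) = conjSub (conjSub M g) g₀⁻¹ := (conjSub_mul M g g₀⁻¹).symm
        rw [h4, hg, ← hg₀, conjSub_conjSub]
      · rintro ⟨k, hk, rfl⟩
        rw [conjSub_le_iff_eq rfl] at hk
        rw [← conjSub_mul, hk, hg₀]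
    rw [h3, Set.ncard_image_of_injective _ (mul_left_injective g₀), ← h2, h] at h1
    unfold wt
    exact Nat.eq_of_mul_eq_mul_right (h ▸ hD) h1
  · have h2 : ({g | conjSub M g ≤ D} : Set H) = ∅ := by
      ext g
      simp only [Set.mem_ofPred_eq, Set.mem_empty_iff_false, iff_false]
      intro hle
      exact hex ⟨g, (conjSub_le_iff_eq h g).mp hle⟩
    rw [h2, Set.ncard_empty] at h1
    rcases Nat.mul_eq_zero.mp h1 with h3 | h3
    · exact h3
    · omega

theorem wt_pos (M : Subgroup H) : 0 < wt M := by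
  unfold wt
  rw [Set.ncard_pos (Set.toFinite _)]
  refine ⟨QuotientGroup.mk 1, ?_⟩
  intro h hh
  have h2 : (h • (QuotientGroup.mk 1 : H ⧸ M)) = QuotientGroup.mk (h * 1) := rfl
  rw [h2, QuotientGroup.eq]
  simpa using M.inv_mem hh

theorem wt_mul_card (M : Subgroup H) :
    wt M * Nat.card M = Nat.card (Subgroup.normalizer (M : Set H)) := by
  have h2 := ncard_fixq_mul M M
  rw [setOf_fix_eq] at h2
  unfold wt
  rw [h2]
  have h3 : ({g | conjSub M g ≤ M} : Set H) = (Subgroup.normalizer (M : Set H) : Set H) := by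
    ext g
    simp only [Set.mem_ofPred_eq, SetLike.mem_coe]
    rw [conjSub_le_iff_eq rfl, Subgroup.mem_normalizer_iff]
    constructor
    · intro hg x
      rw [← mem_conjSub, hg]
    · intro hg
      ext x
      rw [mem_conjSub]
      exact (hg x).symm
  rw [h3]
  rfl

theorem wt_dvd_card (M : Subgroup H) : wt M ∣ Nat.card H := by
  have h1 : wt M ∣ Nat.card (Subgroup.normalizer (M : Set H)) := ⟨Nat.card M, (wt_mul_card M).symm⟩
  exact h1.trans (Subgroup.card_subgroup_dvd_card _)

theorem wt_conjSub (M : Subgroup H) (g : H) : wt (conjSub M g) = wt M := by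
  have h1 := ncard_fixq_of_card_eq (D := conjSub M g) (M := M) (card_conjSub M g)
  rw [if_pos ⟨g, rfl⟩] at h1
  have h2 := ncard_fixq_of_card_eq (D := conjSub M g) (M := conjSub M g) rfl
  rw [if_pos ⟨1, conjSub_one _⟩] at h2
  -- compare the fixed points of `M` and of its conjugate on `H / conjSub M g`
  have h3 : (fixq (conjSub M g) (conjSub M g)).ncard = (fixq (conjSub M g) M).ncard := by
    have h4 := ncard_fixq_mul (conjSub M g) (conjSub M g)
    have h5 := ncard_fixq_mul (conjSub M g) M
    rw [setOf_fix_eq] at h4 h5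
    have h6 : ({k | conjSub M k ≤ conjSub M g} : Set H) =
        (fun k => g * k) '' {k | conjSub (conjSub M g) k ≤ conjSub M g} := by
      ext k
      simp only [Set.mem_ofPred_eq, Set.mem_image]
      constructor
      · intro hk
        refine ⟨g⁻¹ * k, ?_, by group⟩
        rw [conjSub_mul]
        simpa using hk
      · rintro ⟨k', hk', rfl⟩
        rw [conjSub_mul] at hk'
        exact hk'
    rw [h6, Set.ncard_image_of_injective _ (mul_right_injective g), ← h4] at h5
    have hpos : 0 < Nat.card (conjSub M g) := Nat.card_pos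
    exact (Nat.eq_of_mul_eq_mul_right hpos h5).symm
  rw [← h2, h3, h1]

theorem card_rep (D : Subgroup H) : Nat.card (rep D) = Nat.card D := by
  obtain ⟨g, hg⟩ := rep_mem D
  rw [← hg, card_conjSub]

omit [Finite H] in
theorem mark_rep (n : Subgroup H → ℕ) (D : Subgroup H) : mark n (rep D) = mark n D := by
  obtain ⟨g, hg⟩ := rep_mem D
  rw [← hg, mark_conjSub]

theorem wt_rep (D : Subgroup H) : wt (rep D) = wt D := by
  obtain ⟨g, hg⟩ := rep_mem D
  rw [← hg, wt_conjSub]

/-! ### the contribution of one level -/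

theorem sum_level (n' : Subgroup H → ℕ) (r : ℕ)
    (hn' : ∀ D, n' D ≠ 0 → D = rep D ∧ Nat.card D = r) (M : Subgroup H) (hM : Nat.card M = r) :
    ∑ D ∈ allSub H, n' D * (fixq D M).ncard = n' (rep M) * wt M := by
  rw [Finset.sum_eq_single (rep M)]
  · rw [ncard_fixq_of_card_eq (by rw [card_rep]), if_pos (rep_mem M)]
  · intro D _ hD
    by_cases h0 : n' D = 0
    · rw [h0, zero_mul]
    · obtain ⟨h1, h2⟩ := hn' D h0
      rw [ncard_fixq_of_card_eq (by rw [h2, hM])]
      rw [if_neg, mul_zero]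
      intro hex
      apply hD
      rw [h1, rep_eq hex]
  · intro h
    exact absurd (mem_allSub _) h

theorem sum_level_lt (n' : Subgroup H → ℕ) (r : ℕ) (hn' : ∀ D, n' D ≠ 0 → Nat.card D = r)
    (M : Subgroup H) (hM : r < Nat.card M) :
    ∑ D ∈ allSub H, n' D * (fixq D M).ncard = 0 := by
  apply Finset.sum_eq_zero
  intro D _
  by_cases h0 : n' D = 0
  · rw [h0, zero_mul]
  · rw [ncard_fixq_of_card_lt (by rw [hn' D h0]; exact hM), mul_zero]

theorem mark_add (n n' : Subgroup H → ℕ) (M : Subgroup H) :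
    mark (fun D => n D + n' D) M = mark n M + ∑ D ∈ allSub H, n' D * (fixq D M).ncard := by
  rw [mark_eq_sum, mark_eq_sum, ← Finset.sum_add_distrib]
  apply Finset.sum_congr rfl
  intro D _
  rw [add_mul]

/-- Marks vanish outside a family closed under subgroups and conjugation that supports `n`. -/
theorem mark_eq_zero (n : Subgroup H → ℕ) (𝒟 : Set (Subgroup H))
    (hsub : ∀ D ∈ 𝒟, ∀ L : Subgroup H, L ≤ D → L ∈ 𝒟) (hconj : ∀ D ∈ 𝒟, ∀ g : H, conjSub D g ∈ 𝒟)
    (hn : ∀ D, n D ≠ 0 → D ∈ 𝒟) {M : Subgroup H} (hM : M ∉ 𝒟) : mark n M = 0 := by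
  unfold mark
  rw [Set.ncard_eq_zero (Set.toFinite _)]
  ext x
  simp only [Set.mem_empty_iff_false, iff_false]
  intro hx
  rw [mem_fixPts_act] at hx
  obtain ⟨D, i, q⟩ := x
  obtain ⟨g, rfl⟩ := QuotientGroup.mk_surjective q
  have h1 : g ∈ (QuotientGroup.mk ⁻¹' (fixq D M) : Set H) := hx
  rw [preimage_fixq] at h1
  have h2 : conjSub M g ≤ D := conjSub_le_iff.mpr h1
  have hD : D ∈ 𝒟 := by
    apply hn
    intro h0
    have := Fin.pos i
    omega
  have h3 := hconj _ (hsub D hD _ h2) g⁻¹
  rw [conjSub_conjSub] at h3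
  exact hM h3

/-- The cardinality of `⊔_D n(D) · H/D`. -/
theorem card_PX (n : Subgroup H → ℕ) :
    Nat.card (PX n) = ∑ D ∈ allSub H, n D * (Nat.card H / Nat.card D) := by
  haveI : Fintype (Subgroup H) := Fintype.ofFinite _
  rw [Nat.card_sigma]
  have h2 : (Finset.univ : Finset (Subgroup H)) = allSub H := by
    ext D
    simp [mem_allSub]
  rw [h2]
  apply Finset.sum_congr rfl
  intro D _
  rw [Nat.card_prod, Nat.card_fin]
  congr 1
  have h3 := Subgroup.card_eq_card_quotient_mul_card_subgroup D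
  rw [h3, Nat.mul_div_cancel _ Nat.card_pos]

end Cfsg.Agent.Lib.Helper27.CB
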