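import Mathlib
import Cfsg.Agent.Lib.Helper27.CBMarks

set_option autoImplicit false

/-! A congruence between numbers of fixed points obtained from the Cauchy–Frobenius lemma. -/

namespace Cfsg.Agent.Lib.Helper27.CB

open Classical Cfsg.Agent.Lib.Helper27.Park

/-- Cauchy–Frobenius: the order of the group divides the sum of the numbers of fixed points. -/
theorem card_dvd_sum_fixed {K : Type*} [Group K] [Fintype K] {Y : Type*} [Finite Y]
    (σ : K →* Equiv.Perm Y) :
    Nat.card K ∣ ∑ g : K, ({y : Y | σ g y = y} : Set Y).ncard := by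
  haveI : Fintype Y := Fintype.ofFinite Y
  letI : MulAction K Y := MulAction.compHom Y σ
  have h := MulAction.sum_card_fixedBy_eq_card_orbits_mul_card_group K Y
  have h2 : ∀ g : K, Fintype.card (MulAction.fixedBy Y g) = ({y : Y | σ g y = y} : Set Y).ncard := by
    intro g
    rw [← Nat.card_eq_fintype_card]
    rfl
  rw [Finset.sum_congr rfl (fun g _ => h2 g)] at h
  rw [h, Nat.card_eq_fintype_card]
  exact Dvd.intro_left _ rfl

theorem fixPts_sup_zpowers {K : Type*} [Group K] {X : Type*} (ρ : K →* Equiv.Perm X) (M₀ : Subgroup K)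
    (g : K) (x : X) : x ∈ FixPts ρ (M₀ ⊔ Subgroup.zpowers g) ↔ x ∈ FixPts ρ M₀ ∧ ρ g x = x := by
  rw [mem_fixPts_iff, mem_fixPts_iff, sup_le_iff, Subgroup.zpowers_le, mem_stab]

theorem marks_congr {K : Type*} [Group K] [Finite K] {X : Type*} [Finite X] (ρ₁ ρ₂ : K →* Equiv.Perm X)
    (M₀ : Subgroup K) [hM₀ : M₀.Normal]
    (h : ∀ g : K, g ∉ M₀ → (FixPts ρ₁ (M₀ ⊔ Subgroup.zpowers g)).ncard =
      (FixPts ρ₂ (M₀ ⊔ Subgroup.zpowers g)).ncard) :
    (FixPts ρ₁ M₀).ncard ≡ (FixPts ρ₂ M₀).ncard [MOD M₀.index] := by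
  haveI : Fintype K := Fintype.ofFinite K
  have key : ∀ ρ : K →* Equiv.Perm X,
      Nat.card K ∣ ∑ g : K, (FixPts ρ (M₀ ⊔ Subgroup.zpowers g)).ncard := by
    intro ρ
    have hinv : ∀ k x, x ∈ FixPts ρ M₀ → ρ k x ∈ FixPts ρ M₀ := by
      intro k x hx m hm
      have h1 : k⁻¹ * m * k ∈ M₀ := by
        have := hM₀.conj_mem m hm k⁻¹
        simpa using this
      have h2 := hx _ h1
      have h3 : ρ m (ρ k x) = ρ k (ρ (k⁻¹ * m * k) x) := by
        rw [← Equiv.Perm.mul_apply, ← Equiv.Perm.mul_apply, ← map_mul, ← map_mul]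
        congr 2
        group
      rw [h3, h2]
    have h1 := card_dvd_sum_fixed (restrictRep ρ (fun x => x ∈ FixPts ρ M₀) hinv)
    have h2 : ∀ g : K, ({y : {x // x ∈ FixPts ρ M₀} |
        restrictRep ρ (fun x => x ∈ FixPts ρ M₀) hinv g y = y} : Set _).ncard =
        (FixPts ρ (M₀ ⊔ Subgroup.zpowers g)).ncard := by
      intro g
      rw [← Set.ncard_image_of_injective _ Subtype.val_injective]
      congr 1
      ext x
      rw [fixPts_sup_zpowers]
      constructor
      · rintro ⟨y, hy, rfl⟩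
        refine ⟨y.2, ?_⟩
        have := congrArg Subtype.val hy
        rwa [restrictRep_apply] at this
      · rintro ⟨hx, hg⟩
        refine ⟨⟨x, hx⟩, ?_, rfl⟩
        apply Subtype.ext
        rw [restrictRep_apply]
        exact hg
    rwa [Finset.sum_congr rfl (fun g _ => h2 g)] at h1
  have split : ∀ ρ : K →* Equiv.Perm X, ∑ g : K, (FixPts ρ (M₀ ⊔ Subgroup.zpowers g)).ncard =
      Nat.card M₀ * (FixPts ρ M₀).ncard +
        ∑ g ∈ Finset.univ.filter (fun g : K => g ∉ M₀), (FixPts ρ (M₀ ⊔ Subgroup.zpowers g)).ncard := by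
    intro ρ
    rw [← Finset.sum_filter_add_sum_filter_not Finset.univ (fun g : K => g ∈ M₀)]
    congr 1
    have h3 : ∀ g ∈ Finset.univ.filter (fun g : K => g ∈ M₀),
        (FixPts ρ (M₀ ⊔ Subgroup.zpowers g)).ncard = (FixPts ρ M₀).ncard := by
      intro g hg
      rw [Finset.mem_filter] at hg
      have : M₀ ⊔ Subgroup.zpowers g = M₀ := by
        rw [sup_eq_left, Subgroup.zpowers_le]
        exact hg.2
      rw [this]
    rw [Finset.sum_congr rfl h3, Finset.sum_const, smul_eq_mul]
    congr 1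
    rw [Nat.card_eq_fintype_card, Fintype.card_subtype]
  have h1 := key ρ₁
  have h2 := key ρ₂
  rw [split] at h1 h2
  have h3 : ∑ g ∈ Finset.univ.filter (fun g : K => g ∉ M₀), (FixPts ρ₁ (M₀ ⊔ Subgroup.zpowers g)).ncard =
      ∑ g ∈ Finset.univ.filter (fun g : K => g ∉ M₀), (FixPts ρ₂ (M₀ ⊔ Subgroup.zpowers g)).ncard := by
    apply Finset.sum_congr rfl
    intro g hg
    rw [Finset.mem_filter] at hg
    exact h g hg.2
  rw [h3] at h1
  have h4 : Nat.card M₀ * (FixPts ρ₁ M₀).ncard ≡ Nat.card M₀ * (FixPts ρ₂ M₀).ncard [MOD Nat.card K] := by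
    have e1 : (Nat.card M₀ * (FixPts ρ₁ M₀).ncard +
        ∑ g ∈ Finset.univ.filter (fun g : K => g ∉ M₀), (FixPts ρ₂ (M₀ ⊔ Subgroup.zpowers g)).ncard) ≡
        (Nat.card M₀ * (FixPts ρ₂ M₀).ncard +
        ∑ g ∈ Finset.univ.filter (fun g : K => g ∉ M₀), (FixPts ρ₂ (M₀ ⊔ Subgroup.zpowers g)).ncard)
        [MOD Nat.card K] :=
      ((Nat.modEq_zero_iff_dvd.mpr h1).trans (Nat.modEq_zero_iff_dvd.mpr h2).symm)
    exact Nat.ModEq.add_right_cancel' _ e1
  have h5 : Nat.card K = Nat.card M₀ * M₀.index := by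
    rw [mul_comm]; exact (Subgroup.index_mul_card M₀).symm
  rw [h5] at h4
  exact Nat.ModEq.mul_left_cancel' (Nat.card_pos.ne') h4

variable {H : Type*} [Group H] [Finite H]

/-- The congruence used in the construction of characteristic bisets. -/
theorem mark_congr_of_theta (n : Subgroup H → ℕ) (M : Subgroup H)
    (Θ : ↥(Subgroup.normalizer (M : Set H)) →* H)
    (h : ∀ L : Subgroup ↥(Subgroup.normalizer (M : Set H)),
      M.subgroupOf (Subgroup.normalizer (M : Set H)) < L →
      mark n (L.map (Subgroup.normalizer (M : Set H)).subtype) = mark n (L.map Θ)) :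
    mark n M ≡ mark n ((M.subgroupOf (Subgroup.normalizer (M : Set H))).map Θ) [MOD wt M] := by
  haveI : (M.subgroupOf (Subgroup.normalizer (M : Set H))).Normal := Subgroup.normal_in_normalizer
  have h1 := marks_congr ((act n).comp (Subgroup.normalizer (M : Set H)).subtype) ((act n).comp Θ)
    (M.subgroupOf (Subgroup.normalizer (M : Set H))) (by
    intro g hg
    rw [fixPts_comp, fixPts_comp]
    apply h
    apply lt_of_le_of_ne le_sup_left
    intro heq
    apply hg
    rw [heq]
    exact (le_sup_right : Subgroup.zpowers g ≤ _) (Subgroup.mem_zpowers g))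
  rw [fixPts_comp, fixPts_comp] at h1
  have h2 : (M.subgroupOf (Subgroup.normalizer (M : Set H))).map
      (Subgroup.normalizer (M : Set H)).subtype = M := by
    rw [Subgroup.subgroupOf_map_subtype, inf_eq_left]
    exact Subgroup.le_normalizer
  rw [h2] at h1
  have h3 : (M.subgroupOf (Subgroup.normalizer (M : Set H))).index = wt M := by
    have e1 := Subgroup.index_mul_card (M.subgroupOf (Subgroup.normalizer (M : Set H)))
    have e2 := wt_mul_card M
    have e3 : Nat.card (M.subgroupOf (Subgroup.normalizer (M : Set H))) = Nat.card M :=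
      Nat.card_congr (Subgroup.subgroupOfEquivOfLe Subgroup.le_normalizer).toEquiv
    rw [e3, ← e2] at e1
    exact Nat.eq_of_mul_eq_mul_right Nat.card_pos e1
  rw [h3] at h1
  exact h1

end Cfsg.Agent.Lib.Helper27.CB
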