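import Mathlib
import Cfsg.Prelude.Def_FusionSystem
import Cfsg.Agent.Lib.Helper27.FusionBasic
import Cfsg.Agent.Lib.Helper27.ParkBiset

set_option autoImplicit false

/-! Graphs of the maps of a fusion system inside `S × S`, and Park's theorem: every fusion system on a
finite group `S` is realized by a finite group. -/

namespace Cfsg.Agent.Lib.Helper27.Park

open Cfsg Cfsg.FusionSystem Cfsg.Agent.Lib.Helper27 Classical

universe u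

variable {Ω : Type u} [Group Ω] {S : Subgroup Ω}

theorem conjHom_apply' (P : Subgroup Ω) (g : Ω) (x : P) : conjHom P g x = g * (x : Ω) * g⁻¹ := rfl

/-- `D ≤ S × S` is the graph of `θ : Q → Ω`. -/
def IsGraph (D : Subgroup (S × S)) (Q : Subgroup Ω) (θ : Q →* Ω) : Prop :=
  ∀ a b : S, (a, b) ∈ D ↔ ∃ hq : (a : Ω) ∈ Q, θ ⟨a, hq⟩ = (b : Ω)

/-- The graphs of the maps of the system. -/
def fam (F : FusionSystem S) : Set (Subgroup (S × S)) :=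
  {D | ∃ (Q : Subgroup Ω) (θ : Q →* Ω), θ ∈ F.Hom Q ∧ IsGraph D Q θ}

/-- The diagonal of `S × S`. -/
def diagSub (S : Subgroup Ω) : Subgroup (S × S) where
  carrier := {h | h.1 = h.2}
  one_mem' := rfl
  mul_mem' := by
    rintro ⟨a, b⟩ ⟨a', b'⟩ h h'
    simp only [Set.mem_ofPred_eq] at h h'
    show a * a' = b * b'
    rw [h, h']
  inv_mem' := by
    rintro ⟨a, b⟩ h
    simp only [Set.mem_ofPred_eq] at h
    show a⁻¹ = b⁻¹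
    rw [h]

theorem mem_diagSub {a b : S} : (a, b) ∈ diagSub S ↔ a = b := Iff.rfl

theorem diagSub_mem_fam (F : FusionSystem S) : diagSub S ∈ fam F := by
  refine ⟨S, S.subtype, hom_subtype F le_rfl, fun a b => ?_⟩
  rw [mem_diagSub]
  constructor
  · intro h
    exact ⟨a.2, by rw [h]; rfl⟩
  · rintro ⟨_, h⟩
    exact Subtype.ext h

theorem fam_sub (F : FusionSystem S) {D L : Subgroup (S × S)} (hD : D ∈ fam F) (hL : L ≤ D) :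
    L ∈ fam F := by
  obtain ⟨Q, θ, hθ, hg⟩ := hD
  have hRQ : (L.map (MonoidHom.fst S S)).map S.subtype ≤ Q := by
    rintro _ ⟨a, ⟨⟨a', b⟩, hab, rfl⟩, rfl⟩
    obtain ⟨hq, -⟩ := (hg a' b).mp (hL hab)
    exact hq
  refine ⟨(L.map (MonoidHom.fst S S)).map S.subtype, θ.comp (Subgroup.inclusion hRQ),
    hom_restrict F hRQ hθ, fun a b => ?_⟩
  constructor
  · intro hab
    obtain ⟨hq, h⟩ := (hg a b).mp (hL hab)
    exact ⟨⟨a, ⟨(a, b), hab, rfl⟩, rfl⟩, h⟩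
  · rintro ⟨hr, h⟩
    obtain ⟨a', ⟨⟨a'', b'⟩, hab', ha''⟩, ha'⟩ := hr
    have e1 : a'' = a' := ha''
    have e2 : a' = a := Subtype.ext ha'
    rw [e1, e2] at hab'
    obtain ⟨hq', h'⟩ := (hg a b').mp (hL hab')
    have hb : (b : Ω) = (b' : Ω) := by
      rw [← h, ← h']; rfl
    have : b = b' := Subtype.ext hb
    rw [this]; exact hab'

theorem fam_conj (F : FusionSystem S) {D : Subgroup (S × S)} (hD : D ∈ fam F) (g : S × S) :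
    conjSub D g ∈ fam F := by
  obtain ⟨Q, θ, hθ, hg⟩ := hD
  obtain ⟨s, t⟩ := g
  have hQS := hom_le F hθ
  have hQ'S : Q.comap (MulAut.conj (s : Ω)).toMonoidHom ≤ S := by
    intro x hx
    have h1 : (s : Ω) * x * (s : Ω)⁻¹ ∈ S := hQS hx
    have : x = (s : Ω)⁻¹ * ((s : Ω) * x * (s : Ω)⁻¹) * (s : Ω) := by group
    rw [this]; exact S.mul_mem (S.mul_mem (S.inv_mem s.2) h1) s.2
  have h1 : conjHom (Q.comap (MulAut.conj (s : Ω)).toMonoidHom) (s : Ω) ∈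
      F.Hom (Q.comap (MulAut.conj (s : Ω)).toMonoidHom) := F.conj_mem hQ'S s.2
  have h1Q : ∀ x : ↥(Q.comap (MulAut.conj (s : Ω)).toMonoidHom),
      conjHom (Q.comap (MulAut.conj (s : Ω)).toMonoidHom) (s : Ω) x ∈ Q := fun x => x.2
  have h2 := hom_comp F h1 hθ h1Q
  have h2S := fun x => (F.le_of_mem h2).2 x
  have h3 : conjHom S ((t : Ω)⁻¹) ∈ F.Hom S := F.conj_mem le_rfl (S.inv_mem t.2)
  have h4 := hom_comp F h2 h3 h2S
  refine ⟨_, _, h4, fun a b => ?_⟩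
  rw [mem_conjSub]
  have e : ((s, t) : S × S) * (a, b) * ((s, t) : S × S)⁻¹ = (s * a * s⁻¹, t * b * t⁻¹) := rfl
  rw [e, hg]
  constructor
  · rintro ⟨hq, h⟩
    refine ⟨hq, ?_⟩
    show (t : Ω)⁻¹ * θ ⟨(s : Ω) * a * (s : Ω)⁻¹, hq⟩ * ((t : Ω)⁻¹)⁻¹ = b
    have h' : θ ⟨(s : Ω) * a * (s : Ω)⁻¹, hq⟩ = (t : Ω) * b * (t : Ω)⁻¹ := h
    rw [h']
    group
  · rintro ⟨hq, h⟩
    refine ⟨hq, ?_⟩
    have h' : (t : Ω)⁻¹ * θ ⟨(s : Ω) * a * (s : Ω)⁻¹, hq⟩ * ((t : Ω)⁻¹)⁻¹ = b := h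
    show θ ⟨(s : Ω) * a * (s : Ω)⁻¹, hq⟩ = (t : Ω) * b * (t : Ω)⁻¹
    rw [← h']
    group

theorem fam_card_le (F : FusionSystem S) [Finite S] {D : Subgroup (S × S)} (hD : D ∈ fam F) :
    Nat.card D ≤ Nat.card S := by
  obtain ⟨Q, θ, hθ, hg⟩ := hD
  apply Nat.card_le_card_of_injective (fun d : D => (d : S × S).1)
  rintro ⟨⟨a, b⟩, hab⟩ ⟨⟨a', b'⟩, hab'⟩ h
  have ha : a = a' := h
  subst ha
  obtain ⟨hq, h1⟩ := (hg a b).mp hab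
  obtain ⟨hq', h2⟩ := (hg a b').mp hab'
  have hb : (b : Ω) = b' := by rw [← h1, ← h2]
  have : b = b' := Subtype.ext hb
  subst this
  rfl

/-- A homomorphism with a left inverse in the system is in the system. -/
theorem hom_of_left_inverse (F : FusionSystem S) {P Q' : Subgroup Ω} {θ' : Q' →* Ω}
    (hθ' : θ' ∈ F.Hom Q') (φ : P →* Ω) (h : ∀ u : P, ∃ hq : φ u ∈ Q', θ' ⟨φ u, hq⟩ = (u : Ω)) :
    φ ∈ F.Hom P := by
  have hRQ : φ.range ≤ Q' := by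
    rintro _ ⟨u, rfl⟩
    exact (h u).1
  have hθ'' := hom_restrict F hRQ hθ'
  obtain ⟨ψ, hψ, hψi⟩ := F.inv_mem hθ''
  have hval : ∀ u : P, (θ'.comp (Subgroup.inclusion hRQ)) ⟨φ u, ⟨u, rfl⟩⟩ = (u : Ω) := by
    intro u
    obtain ⟨hq, h1⟩ := h u
    exact h1
  have hrange : (θ'.comp (Subgroup.inclusion hRQ)).range = P := by
    ext x
    constructor
    · rintro ⟨⟨_, u, rfl⟩, rfl⟩
      rw [hval u]; exact u.2
    · intro hx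
      exact ⟨⟨φ ⟨x, hx⟩, ⟨⟨x, hx⟩, rfl⟩⟩, hval ⟨x, hx⟩⟩
  refine (hom_cast F hrange ?_).mp hψ
  intro x hx hx'
  have h1 := hψi ⟨φ ⟨x, hx'⟩, ⟨⟨x, hx'⟩, rfl⟩⟩
  have h2 : (⟨x, hx⟩ : ↥(θ'.comp (Subgroup.inclusion hRQ)).range) =
      ⟨(θ'.comp (Subgroup.inclusion hRQ)) ⟨φ ⟨x, hx'⟩, ⟨⟨x, hx'⟩, rfl⟩⟩, ⟨_, rfl⟩⟩ :=
    Subtype.ext (hval ⟨x, hx'⟩).symm
  rw [h2, h1]

section Twist

variable {P : Subgroup Ω}

/-- inclusion of `P × S` in `S × S` -/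
def j₁ (hP : P ≤ S) : ↥P × ↥S →* ↥S × ↥S := MonoidHom.prodMap (Subgroup.inclusion hP) (MonoidHom.id S)

/-- the twisted inclusion `(u, b) ↦ (φ u, b)` -/
def j₂ (φ : P →* Ω) (hφ : ∀ x, φ x ∈ S) : ↥P × ↥S →* ↥S × ↥S :=
  MonoidHom.prodMap (φ.codRestrict S hφ) (MonoidHom.id S)

theorem j₁_injective (hP : P ≤ S) : Function.Injective (j₁ hP) := by
  rintro ⟨u, b⟩ ⟨u', b'⟩ h
  have h1 : Subgroup.inclusion hP u = Subgroup.inclusion hP u' := congrArg Prod.fst h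
  have h2 : b = b' := congrArg Prod.snd h
  rw [Subgroup.inclusion_injective hP h1, h2]

theorem j₂_injective {φ : P →* Ω} (hφ : ∀ x, φ x ∈ S) (hinj : Function.Injective φ) :
    Function.Injective (j₂ φ hφ) := by
  rintro ⟨u, b⟩ ⟨u', b'⟩ h
  have h1 : φ.codRestrict S hφ u = φ.codRestrict S hφ u' := congrArg Prod.fst h
  have h2 : b = b' := congrArg Prod.snd h
  have h3 : φ u = φ u' := congrArg Subtype.val h1
  rw [hinj h3, h2]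

theorem mem_map_j₁ (hP : P ≤ S) (L : Subgroup (↥P × ↥S)) (a b : S) :
    (a, b) ∈ L.map (j₁ hP) ↔ ∃ ha : (a : Ω) ∈ P, ((⟨a, ha⟩ : P), b) ∈ L := by
  constructor
  · rintro ⟨⟨u, b'⟩, hub, h⟩
    have h1 : Subgroup.inclusion hP u = a := congrArg Prod.fst h
    have h2 : b' = b := congrArg Prod.snd h
    have h3 : (u : Ω) = a := congrArg Subtype.val h1
    refine ⟨h3 ▸ u.2, ?_⟩
    have : (⟨(a : Ω), h3 ▸ u.2⟩ : P) = u := Subtype.ext h3.symm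
    rw [this, ← h2]; exact hub
  · rintro ⟨ha, h⟩
    exact ⟨(⟨a, ha⟩, b), h, rfl⟩

theorem mem_map_j₂ (φ : P →* Ω) (hφ : ∀ x, φ x ∈ S) (L : Subgroup (↥P × ↥S)) (a b : S) :
    (a, b) ∈ L.map (j₂ φ hφ) ↔ ∃ u : P, (u, b) ∈ L ∧ φ u = (a : Ω) := by
  constructor
  · rintro ⟨⟨u, b'⟩, hub, h⟩
    have h1 : φ.codRestrict S hφ u = a := congrArg Prod.fst h
    have h2 : b' = b := congrArg Prod.snd h
    refine ⟨u, h2 ▸ hub, congrArg Subtype.val h1⟩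
  · rintro ⟨u, hub, h⟩
    refine ⟨(u, b), hub, ?_⟩
    show (φ.codRestrict S hφ u, b) = (a, b)
    rw [show φ.codRestrict S hφ u = a from Subtype.ext h]

theorem fam_twist (F : FusionSystem S) (hP : P ≤ S) {φ : P →* Ω} (hφ : φ ∈ F.Hom P)
    (L : Subgroup (↥P × ↥S)) :
    L.map (j₁ hP) ∈ fam F ↔ L.map (j₂ φ (fun x => (F.le_of_mem hφ).2 x)) ∈ fam F := by
  have hφS := fun x => (F.le_of_mem hφ).2 x
  have hinj := F.injective_of_mem hφ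
  constructor
  · rintro ⟨Q, θ, hθ, hg⟩
    have hQP : Q ≤ P := by
      intro a ha
      have haS : a ∈ S := hom_le F hθ ha
      have hb : θ ⟨a, ha⟩ ∈ S := (F.le_of_mem hθ).2 _
      have h1 : ((⟨a, haS⟩ : S), (⟨θ ⟨a, ha⟩, hb⟩ : S)) ∈ L.map (j₁ hP) := (hg _ _).mpr ⟨ha, rfl⟩
      obtain ⟨haP, -⟩ := (mem_map_j₁ hP L _ _).mp h1
      exact haP
    have hφQ := hom_restrict F hQP hφ
    obtain ⟨ψ, hψ, hψi⟩ := F.inv_mem hφQ
    have hψQ : ∀ y : ↥(φ.comp (Subgroup.inclusion hQP)).range, ψ y ∈ Q := by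
      rintro ⟨_, x, rfl⟩
      rw [hψi x]; exact x.2
    have hθ' := hom_comp F hψ hθ hψQ
    refine ⟨_, _, hθ', fun a b => ?_⟩
    rw [mem_map_j₂]
    constructor
    · rintro ⟨u, hub, hua⟩
      have h1 : ((⟨u, hP u.2⟩ : S), b) ∈ L.map (j₁ hP) := (mem_map_j₁ hP L _ _).mpr ⟨u.2, hub⟩
      obtain ⟨hq, h2⟩ := (hg _ _).mp h1
      have hmem : (a : Ω) ∈ (φ.comp (Subgroup.inclusion hQP)).range := ⟨⟨u, hq⟩, hua⟩
      refine ⟨hmem, ?_⟩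
      show θ ⟨ψ ⟨a, hmem⟩, _⟩ = b
      have h3 : (⟨(a : Ω), hmem⟩ : ↥(φ.comp (Subgroup.inclusion hQP)).range) =
          ⟨(φ.comp (Subgroup.inclusion hQP)) ⟨u, hq⟩, ⟨_, rfl⟩⟩ := Subtype.ext hua.symm
      have h4 : ψ ⟨a, hmem⟩ = (u : Ω) := by rw [h3]; exact hψi ⟨u, hq⟩
      rw [← h2]
      congr 1
      exact Subtype.ext h4
    · rintro ⟨hmem, h⟩
      obtain ⟨x, hx⟩ := hmem
      have h' : θ ⟨ψ ⟨a, ⟨x, hx⟩⟩, hψQ _⟩ = b := h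
      have h3 : (⟨(a : Ω), ⟨x, hx⟩⟩ : ↥(φ.comp (Subgroup.inclusion hQP)).range) =
          ⟨(φ.comp (Subgroup.inclusion hQP)) x, ⟨_, rfl⟩⟩ := Subtype.ext hx.symm
      have h4 : ψ ⟨a, ⟨x, hx⟩⟩ = (x : Ω) := by rw [h3]; exact hψi x
      have h5 : θ x = b := by
        rw [← h']
        congr 1
        exact Subtype.ext h4.symm
      have hxS : (x : Ω) ∈ S := hom_le F hθ x.2
      have h6 : ((⟨x, hxS⟩ : S), b) ∈ L.map (j₁ hP) := (hg _ _).mpr ⟨x.2, h5⟩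
      obtain ⟨hxP, h7⟩ := (mem_map_j₁ hP L _ _).mp h6
      exact ⟨⟨x, hxP⟩, h7, hx⟩
  · rintro ⟨Q', θ', hθ', hg⟩
    have hQP : (Q'.comap φ).map P.subtype ≤ P := Subgroup.map_subtype_le _
    have hφQ := hom_restrict F hQP hφ
    have hφQ' : ∀ x : ↥((Q'.comap φ).map P.subtype), (φ.comp (Subgroup.inclusion hQP)) x ∈ Q' := by
      rintro ⟨_, u, hu, rfl⟩
      exact hu
    have hθ := hom_comp F hφQ hθ' hφQ'
    refine ⟨_, _, hθ, fun a b => ?_⟩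
    rw [mem_map_j₁]
    constructor
    · rintro ⟨ha, hab⟩
      have h1 : ((⟨φ ⟨a, ha⟩, hφS _⟩ : S), b) ∈ L.map (j₂ φ hφS) :=
        (mem_map_j₂ φ hφS L _ _).mpr ⟨⟨a, ha⟩, hab, rfl⟩
      obtain ⟨hq, h2⟩ := (hg _ _).mp h1
      exact ⟨⟨⟨a, ha⟩, hq, rfl⟩, h2⟩
    · rintro ⟨hmem, h⟩
      obtain ⟨u, hu, hua⟩ := hmem
      have ha : (a : Ω) ∈ P := hua ▸ u.2
      have hu' : u = ⟨a, ha⟩ := Subtype.ext hua
      have hq : φ ⟨a, ha⟩ ∈ Q' := hu' ▸ hu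
      have h' : θ' ⟨φ ⟨a, ha⟩, hq⟩ = b := h
      have h1 : ((⟨φ ⟨a, ha⟩, hφS _⟩ : S), b) ∈ L.map (j₂ φ hφS) := (hg _ _).mpr ⟨hq, h'⟩
      obtain ⟨u', hub, hu'a⟩ := (mem_map_j₂ φ hφS L _ _).mp h1
      have : u' = ⟨a, ha⟩ := hinj hu'a
      rw [this] at hub
      exact ⟨ha, hub⟩

end Twist

end Cfsg.Agent.Lib.Helper27.Park
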