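import Mathlib
import Cfsg.Prelude.Def_FusionSystem
import Cfsg.Agent.Lib.Helper27.FusionBasic
import Cfsg.Agent.Lib.Helper27.FusionSat
import Cfsg.Agent.Lib.Helper27.ParkFusion

set_option autoImplicit false

/-! Graphs of maps of a fusion system in `S × S`: first projections and two-sided twisting. -/

namespace Cfsg.Agent.Lib.Helper27.CB

open Cfsg Cfsg.FusionSystem Cfsg.Agent.Lib.Helper27 Cfsg.Agent.Lib.Helper27.Park Classical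

universe u

variable {Ω : Type u} [Group Ω] {S : Subgroup Ω}

/-- The first projection of a subgroup of `S × S`, as a subgroup of `Ω`. -/
def pr₁ (D : Subgroup (S × S)) : Subgroup Ω := (D.map (MonoidHom.fst S S)).map S.subtype

theorem mem_pr₁ {D : Subgroup (S × S)} {x : Ω} :
    x ∈ pr₁ D ↔ ∃ (hx : x ∈ S) (b : S), ((⟨x, hx⟩ : S), b) ∈ D := by
  unfold pr₁
  constructor
  · rintro ⟨a, ⟨⟨a', b⟩, hab, rfl⟩, rfl⟩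
    exact ⟨a'.2, b, hab⟩
  · rintro ⟨hx, b, hab⟩
    exact ⟨⟨x, hx⟩, ⟨(⟨x, hx⟩, b), hab, rfl⟩, rfl⟩

theorem pr₁_le (D : Subgroup (S × S)) : pr₁ D ≤ S := by
  intro x hx
  obtain ⟨h, -⟩ := mem_pr₁.mp hx
  exact h

theorem pr₁_eq_of_isGraph {F : FusionSystem S} {D : Subgroup (S × S)} {Q : Subgroup Ω} {θ : Q →* Ω}
    (hθ : θ ∈ F.Hom Q) (hg : IsGraph D Q θ) : pr₁ D = Q := by
  ext x
  rw [mem_pr₁]
  constructor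
  · rintro ⟨hx, b, hab⟩
    exact ((hg _ _).mp hab).1
  · intro hx
    exact ⟨hom_le F hθ hx, ⟨θ ⟨x, hx⟩, (F.le_of_mem hθ).2 _⟩, (hg _ _).mpr ⟨hx, rfl⟩⟩

theorem card_eq_of_isGraph {F : FusionSystem S} {D : Subgroup (S × S)} {Q : Subgroup Ω} {θ : Q →* Ω}
    (hθ : θ ∈ F.Hom Q) (hg : IsGraph D Q θ) : Nat.card D = Nat.card Q := by
  apply Nat.card_congr
  refine
    { toFun := fun d => ⟨((d : S × S).1 : Ω), ((hg _ _).mp d.2).1⟩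
      invFun := fun q => ⟨(⟨q, hom_le F hθ q.2⟩, ⟨θ q, (F.le_of_mem hθ).2 _⟩), (hg _ _).mpr ⟨q.2, rfl⟩⟩
      left_inv := ?_
      right_inv := ?_ }
  · rintro ⟨⟨a, b⟩, hab⟩
    obtain ⟨hq, h1⟩ := (hg a b).mp hab
    apply Subtype.ext
    apply Prod.ext
    · rfl
    · exact Subtype.ext h1
  · rintro ⟨q, hq⟩
    rfl

theorem card_eq_card_pr₁ {F : FusionSystem S} {D : Subgroup (S × S)} (hD : D ∈ fam F) :
    Nat.card D = Nat.card (pr₁ D) := by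
  obtain ⟨Q, θ, hθ, hg⟩ := hD
  rw [pr₁_eq_of_isGraph hθ hg]
  exact card_eq_of_isGraph hθ hg

/-- Two-sided twisting of a graph by maps of the system. -/
theorem fam_twist₂ (F : FusionSystem S) {K : Type*} [Group K] (a b a' b' : K →* S) {A B : Subgroup Ω}
    {θ₁ : A →* Ω} {θ₂ : B →* Ω} (h₁ : θ₁ ∈ F.Hom A) (h₂ : θ₂ ∈ F.Hom B)
    (ha : ∀ k, (a k : Ω) ∈ A) (hb : ∀ k, (b k : Ω) ∈ B)
    (ha' : ∀ k, (a' k : Ω) = θ₁ ⟨a k, ha k⟩) (hb' : ∀ k, (b' k : Ω) = θ₂ ⟨b k, hb k⟩)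
    (L : Subgroup K) (hL : L.map (a.prod b) ∈ fam F) :
    L.map (a'.prod b') ∈ fam F ∧ F.IsConj (pr₁ (L.map (a.prod b))) (pr₁ (L.map (a'.prod b'))) := by
  obtain ⟨Q, ρ, hρ, hg⟩ := hL
  have hpr := pr₁_eq_of_isGraph hρ hg
  have hρab : ∀ l ∈ L, ∃ hq : (a l : Ω) ∈ Q, ρ ⟨a l, hq⟩ = (b l : Ω) :=
    fun l hl => (hg (a l) (b l)).mp ⟨l, hl, rfl⟩
  have hQ : ∀ x : Ω, x ∈ Q → ∃ l ∈ L, (a l : Ω) = x := by
    intro x hx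
    have hxS : x ∈ S := hom_le F hρ hx
    have hbS : ρ ⟨x, hx⟩ ∈ S := (F.le_of_mem hρ).2 _
    have h1 : ((⟨x, hxS⟩ : S), (⟨ρ ⟨x, hx⟩, hbS⟩ : S)) ∈ L.map (a.prod b) := (hg _ _).mpr ⟨hx, rfl⟩
    obtain ⟨l, hl, hlx⟩ := h1
    refine ⟨l, hl, ?_⟩
    exact congrArg (fun z : S × S => (z.1 : Ω)) hlx
  have hQA : Q ≤ A := by
    intro x hx
    obtain ⟨l, -, rfl⟩ := hQ x hx
    exact ha l
  have hθ₁Q := hom_restrict F hQA h₁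
  obtain ⟨ψ, hψ, hψi⟩ := F.inv_mem hθ₁Q
  have hψQ : ∀ y : ↥(θ₁.comp (Subgroup.inclusion hQA)).range, ψ y ∈ Q := by
    rintro ⟨_, x, rfl⟩
    rw [hψi x]; exact x.2
  have hρψ := hom_comp F hψ hρ hψQ
  have hval : ∀ (l : K) (hl : l ∈ L) (hm : θ₁ ⟨a l, ha l⟩ ∈ (θ₁.comp (Subgroup.inclusion hQA)).range),
      (ρ.comp (ψ.codRestrict Q hψQ)) ⟨θ₁ ⟨a l, ha l⟩, hm⟩ = (b l : Ω) := by
    intro l hl hm
    obtain ⟨hq, h1⟩ := hρab l hl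
    have h2 : (⟨θ₁ ⟨a l, ha l⟩, hm⟩ : ↥(θ₁.comp (Subgroup.inclusion hQA)).range) =
        ⟨(θ₁.comp (Subgroup.inclusion hQA)) ⟨a l, hq⟩, ⟨_, rfl⟩⟩ := Subtype.ext rfl
    have h3 : ψ ⟨θ₁ ⟨a l, ha l⟩, hm⟩ = (a l : Ω) := by rw [h2, hψi]
    show ρ ⟨ψ ⟨θ₁ ⟨a l, ha l⟩, hm⟩, _⟩ = (b l : Ω)
    rw [← h1]
    congr 1
    exact Subtype.ext h3
  have hρψB : ∀ y : ↥(θ₁.comp (Subgroup.inclusion hQA)).range,
      (ρ.comp (ψ.codRestrict Q hψQ)) y ∈ B := by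
    rintro ⟨_, x, rfl⟩
    obtain ⟨l, hl, hlx⟩ := hQ x x.2
    obtain ⟨hq, h1⟩ := hρab l hl
    have h3 : ψ ⟨(θ₁.comp (Subgroup.inclusion hQA)) x, ⟨x, rfl⟩⟩ = (a l : Ω) := by rw [hψi, hlx]
    have h4 : (ρ.comp (ψ.codRestrict Q hψQ)) ⟨(θ₁.comp (Subgroup.inclusion hQA)) x, ⟨x, rfl⟩⟩ =
        (b l : Ω) := by
      show ρ ⟨ψ ⟨_, _⟩, _⟩ = (b l : Ω)
      rw [← h1]
      congr 1
      exact Subtype.ext h3
    rw [h4]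
    exact hb l
  have hfin := hom_comp F hρψ h₂ hρψB
  have hgraph : IsGraph (L.map (a'.prod b')) (θ₁.comp (Subgroup.inclusion hQA)).range
      (θ₂.comp ((ρ.comp (ψ.codRestrict Q hψQ)).codRestrict B hρψB)) := by
    intro s t
    constructor
    · rintro ⟨l, hl, hlst⟩
      obtain ⟨hq, h1⟩ := hρab l hl
      have hs : (s : Ω) = θ₁ ⟨a l, ha l⟩ := by
        rw [← ha' l]
        exact congrArg (fun z : S × S => (z.1 : Ω)) hlst.symm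
      have ht : (t : Ω) = θ₂ ⟨b l, hb l⟩ := by
        rw [← hb' l]
        exact congrArg (fun z : S × S => (z.2 : Ω)) hlst.symm
      have hm : θ₁ ⟨a l, ha l⟩ ∈ (θ₁.comp (Subgroup.inclusion hQA)).range := ⟨⟨a l, hq⟩, rfl⟩
      refine ⟨hs ▸ hm, ?_⟩
      rw [ht]
      show θ₂ ⟨(ρ.comp (ψ.codRestrict Q hψQ)) ⟨(s : Ω), _⟩, _⟩ = θ₂ ⟨b l, hb l⟩
      congr 1
      apply Subtype.ext
      show (ρ.comp (ψ.codRestrict Q hψQ)) ⟨(s : Ω), _⟩ = (b l : Ω)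
      rw [← hval l hl hm]
      congr 1
      exact Subtype.ext hs
    · rintro ⟨hm, h⟩
      obtain ⟨x, hx⟩ := hm
      obtain ⟨l, hl, hlx⟩ := hQ x x.2
      have hs : (s : Ω) = θ₁ ⟨a l, ha l⟩ := by
        rw [← hx]
        show θ₁ ⟨x, hQA x.2⟩ = θ₁ ⟨a l, ha l⟩
        congr 1
        exact Subtype.ext hlx.symm
      have hm' : θ₁ ⟨a l, ha l⟩ ∈ (θ₁.comp (Subgroup.inclusion hQA)).range := hs ▸ ⟨x, hx⟩
      refine ⟨l, hl, ?_⟩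
      apply Prod.ext
      · apply Subtype.ext
        show (a' l : Ω) = s
        rw [ha' l, hs]
      · apply Subtype.ext
        show (b' l : Ω) = t
        rw [hb' l, ← h]
        show θ₂ ⟨b l, hb l⟩ = θ₂ ⟨(ρ.comp (ψ.codRestrict Q hψQ)) ⟨(s : Ω), _⟩, _⟩
        congr 1
        apply Subtype.ext
        show (b l : Ω) = (ρ.comp (ψ.codRestrict Q hψQ)) ⟨(s : Ω), _⟩
        rw [← hval l hl hm']
        congr 1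
        exact Subtype.ext hs.symm
  refine ⟨⟨_, _, hfin, hgraph⟩, ?_⟩
  rw [hpr, pr₁_eq_of_isGraph hfin hgraph]
  exact ⟨_, hθ₁Q, rfl⟩

/-- The converse of two-sided twisting. -/
theorem fam_twist₂' (F : FusionSystem S) {K : Type*} [Group K] (a b a' b' : K →* S) {A B : Subgroup Ω}
    {θ₁ : A →* Ω} {θ₂ : B →* Ω} (h₁ : θ₁ ∈ F.Hom A) (h₂ : θ₂ ∈ F.Hom B)
    (ha : ∀ k, (a k : Ω) ∈ A) (hb : ∀ k, (b k : Ω) ∈ B)
    (ha' : ∀ k, (a' k : Ω) = θ₁ ⟨a k, ha k⟩) (hb' : ∀ k, (b' k : Ω) = θ₂ ⟨b k, hb k⟩)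
    (L : Subgroup K) (hL : L.map (a'.prod b') ∈ fam F) : L.map (a.prod b) ∈ fam F := by
  obtain ⟨ψ₁, hψ₁, hψ₁i⟩ := F.inv_mem h₁
  obtain ⟨ψ₂, hψ₂, hψ₂i⟩ := F.inv_mem h₂
  have hA' : ∀ k, (a' k : Ω) ∈ θ₁.range := fun k => ⟨⟨a k, ha k⟩, (ha' k).symm⟩
  have hB' : ∀ k, (b' k : Ω) ∈ θ₂.range := fun k => ⟨⟨b k, hb k⟩, (hb' k).symm⟩
  refine (fam_twist₂ F a' b' a b hψ₁ hψ₂ hA' hB' ?_ ?_ L hL).1
  · intro k
    have h2 : (⟨(a' k : Ω), hA' k⟩ : ↥θ₁.range) = ⟨θ₁ ⟨a k, ha k⟩, ⟨_, rfl⟩⟩ := Subtype.ext (ha' k)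
    rw [h2, hψ₁i]
  · intro k
    have h2 : (⟨(b' k : Ω), hB' k⟩ : ↥θ₂.range) = ⟨θ₂ ⟨b k, hb k⟩, ⟨_, rfl⟩⟩ := Subtype.ext (hb' k)
    rw [h2, hψ₂i]

end Cfsg.Agent.Lib.Helper27.CB
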