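import Mathlib
import Cfsg.Agent.Lib.Helper27.CBTwist

set_option autoImplicit false

/-! For a saturated fusion system: the normalizer in `S × S` of the graph of a map of the system embeds,
by a product of two maps of the system, into the normalizer of the diagonal copy of a fully normalized
subgroup. -/

namespace Cfsg.Agent.Lib.Helper27.CB

open Cfsg Cfsg.FusionSystem Cfsg.Agent.Lib.Helper27 Cfsg.Agent.Lib.Helper27.Park Classical

universe u

variable {Ω : Type u} [Group Ω] {S : Subgroup Ω}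

/-- The diagonal copy of `P` in `S × S`. -/
def diagOf (S P : Subgroup Ω) : Subgroup (S × S) where
  carrier := {h | h.1 = h.2 ∧ (h.1 : Ω) ∈ P}
  one_mem' := ⟨rfl, P.one_mem⟩
  mul_mem' := by
    rintro ⟨a, b⟩ ⟨a', b'⟩ ⟨h1, h2⟩ ⟨h1', h2'⟩
    have e1 : a = b := h1
    have e2 : a' = b' := h1'
    refine ⟨?_, P.mul_mem h2 h2'⟩
    show a * a' = b * b'
    rw [e1, e2]
  inv_mem' := by
    rintro ⟨a, b⟩ ⟨h1, h2⟩
    have e1 : a = b := h1
    refine ⟨?_, P.inv_mem h2⟩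
    show a⁻¹ = b⁻¹
    rw [e1]

theorem mem_diagOf {P : Subgroup Ω} {a b : S} : (a, b) ∈ diagOf S P ↔ a = b ∧ (a : Ω) ∈ P := Iff.rfl

theorem isGraph_diagOf {P : Subgroup Ω} : IsGraph (diagOf S P) P P.subtype := by
  intro a b
  rw [mem_diagOf]
  constructor
  · rintro ⟨h1, h2⟩
    exact ⟨h2, by rw [← h1]; rfl⟩
  · rintro ⟨h2, h1⟩
    exact ⟨Subtype.ext h1, h2⟩

theorem diagOf_mem_fam (F : FusionSystem S) {P : Subgroup Ω} (hP : P ≤ S) : diagOf S P ∈ fam F :=
  ⟨P, P.subtype, hom_subtype F hP, isGraph_diagOf⟩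

theorem pr₁_diagOf (F : FusionSystem S) {P : Subgroup Ω} (hP : P ≤ S) : pr₁ (diagOf S P) = P :=
  pr₁_eq_of_isGraph (hom_subtype F hP) isGraph_diagOf

theorem exists_theta [Finite S] {p : ℕ} [Fact p.Prime] (hS : IsPGroup p S) {F : FusionSystem S}
    (hF : F.IsSaturated p) {M : Subgroup (S × S)} (hM : M ∈ fam F) {Pst : Subgroup Ω}
    (hPst : F.IsFullyNormalized Pst) (hconj : F.IsConj (pr₁ M) Pst) :
    ∃ Θ : ↥(Subgroup.normalizer (M : Set (S × S))) →* S × S, Function.Injective Θ ∧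
      (M.subgroupOf (Subgroup.normalizer (M : Set (S × S)))).map Θ = diagOf S Pst ∧
      ∀ L : Subgroup ↥(Subgroup.normalizer (M : Set (S × S))),
        (L.map (Subgroup.normalizer (M : Set (S × S))).subtype ∈ fam F →
          L.map Θ ∈ fam F ∧
          F.IsConj (pr₁ (L.map (Subgroup.normalizer (M : Set (S × S))).subtype)) (pr₁ (L.map Θ))) ∧
        (L.map Θ ∈ fam F → L.map (Subgroup.normalizer (M : Set (S × S))).subtype ∈ fam F) := by
  obtain ⟨P, φ, hφ, hg⟩ := hM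
  rw [pr₁_eq_of_isGraph hφ hg] at hconj
  have hPS : P ≤ S := hom_le F hφ
  haveI : Finite P := Finite.of_injective (Subgroup.inclusion hPS) (Subgroup.inclusion_injective hPS)
  obtain ⟨e, he, heφ⟩ := exists_isIso_of_hom F hφ rfl
  have hQS : φ.range ≤ S := hom_range_le F hφ
  haveI : Finite φ.range :=
    Finite.of_injective (Subgroup.inclusion hQS) (Subgroup.inclusion_injective hQS)
  have hQPst : F.IsConj φ.range Pst := isConj_trans F (isConj_symm F ⟨φ, hφ, rfl⟩) hconj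
  obtain ⟨ψ, hψ, χ, hχ, hψχ⟩ := exists_hom_normalizerIn_of_fullyNormalized hS hF hPst hQPst
  have hec : IsIso F (e.trans χ) := he.trans hχ
  obtain ⟨-, hr, -⟩ := fa_receptive_of_fullyNormalized hS hF hPst
  obtain ⟨ψt, hψt, hψte⟩ := receptive_exists_extension hr hec
  -- elements of the normalizer
  have hnorm : ∀ k : ↥(Subgroup.normalizer (M : Set (S × S))), ∀ u : P,
      ∃ hu : ((k : S × S).1 : Ω) * u * ((k : S × S).1 : Ω)⁻¹ ∈ P,
        φ ⟨((k : S × S).1 : Ω) * u * ((k : S × S).1 : Ω)⁻¹, hu⟩ =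
          ((k : S × S).2 : Ω) * φ u * ((k : S × S).2 : Ω)⁻¹ := by
    intro k u
    have hm : ((⟨u, hPS u.2⟩ : S), (⟨φ u, (F.le_of_mem hφ).2 u⟩ : S)) ∈ M := (hg _ _).mpr ⟨u.2, rfl⟩
    have h1 := (Subgroup.mem_normalizer_iff.mp k.2 _).mp hm
    have h2 : (((k : S × S).1 * (⟨u, hPS u.2⟩ : S) * ((k : S × S).1)⁻¹),
        ((k : S × S).2 * (⟨φ u, (F.le_of_mem hφ).2 u⟩ : S) * ((k : S × S).2)⁻¹)) ∈ M := h1
    exact (hg _ _).mp h2
  have hb : ∀ k : ↥(Subgroup.normalizer (M : Set (S × S))),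
      (((k : S × S).2 : S) : Ω) ∈ normalizerIn S φ.range := by
    intro k
    refine ⟨(k : S × S).2.2, ?_⟩
    apply mem_normalizer_of_conj_mem
    rintro _ ⟨u, rfl⟩
    obtain ⟨hu, h1⟩ := hnorm k u
    rw [← h1]
    exact ⟨_, rfl⟩
  have ha : ∀ k : ↥(Subgroup.normalizer (M : Set (S × S))),
      (((k : S × S).1 : S) : Ω) ∈ extender S P (Pst.subtype.comp (e.trans χ).toMonoidHom) := by
    intro k
    rw [mem_extender_iff]
    refine ⟨(k : S × S).1.2, ?_, ψ ⟨_, hb k⟩, (F.le_of_mem hψ).2 _, fun x hx => ?_⟩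
    · apply mem_normalizer_of_conj_mem
      intro y hy
      exact (hnorm k ⟨y, hy⟩).1
    · obtain ⟨hu, h1⟩ := hnorm k x
      have hmem : ((k : S × S).2 : Ω) * φ x * ((k : S × S).2 : Ω)⁻¹ ∈ φ.range := by
        rw [← h1]
        exact ⟨_, rfl⟩
      have h2 : e ⟨_, hx⟩ = ⟨((k : S × S).2 : Ω) * φ x * ((k : S × S).2 : Ω)⁻¹, hmem⟩ := by
        apply Subtype.ext
        rw [heφ]
        exact h1
      have h3 : e x = ⟨φ x, ⟨x, rfl⟩⟩ := Subtype.ext (heφ x)
      show ((χ (e ⟨_, hx⟩) : Pst) : Ω) = ψ ⟨_, hb k⟩ * ((χ (e x) : Pst) : Ω) * (ψ ⟨_, hb k⟩)⁻¹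
      rw [h2, h3, ← hψχ _ hmem (le_normalizerIn hQS hmem),
        ← hψχ _ ⟨x, rfl⟩ (le_normalizerIn hQS ⟨x, rfl⟩), ← map_inv, ← map_mul, ← map_mul]
      rfl
  obtain ⟨a', ha'⟩ : ∃ a' : ↥(Subgroup.normalizer (M : Set (S × S))) →* S,
      ∀ k, (a' k : Ω) = ψt ⟨(((k : S × S).1 : S) : Ω), ha k⟩ :=
    ⟨(ψt.codRestrict S (fun x => (F.le_of_mem hψt).2 x)).comp
      ((S.subtype.comp ((MonoidHom.fst S S).comp
        (Subgroup.normalizer (M : Set (S × S))).subtype)).codRestrict _ ha), fun k => rfl⟩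
  obtain ⟨b', hb'⟩ : ∃ b' : ↥(Subgroup.normalizer (M : Set (S × S))) →* S,
      ∀ k, (b' k : Ω) = ψ ⟨(((k : S × S).2 : S) : Ω), hb k⟩ :=
    ⟨(ψ.codRestrict S (fun x => (F.le_of_mem hψ).2 x)).comp
      ((S.subtype.comp ((MonoidHom.snd S S).comp
        (Subgroup.normalizer (M : Set (S × S))).subtype)).codRestrict _ hb), fun k => rfl⟩
  have hab : ((MonoidHom.fst S S).comp (Subgroup.normalizer (M : Set (S × S))).subtype).prod
      ((MonoidHom.snd S S).comp (Subgroup.normalizer (M : Set (S × S))).subtype) =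
      (Subgroup.normalizer (M : Set (S × S))).subtype := by
    ext k <;> rfl
  refine ⟨a'.prod b', ?_, ?_, ?_⟩
  · intro k k' hkk
    have h1 : a' k = a' k' := congrArg Prod.fst hkk
    have h2 : b' k = b' k' := congrArg Prod.snd hkk
    have h1' : ψt ⟨(((k : S × S).1 : S) : Ω), ha k⟩ = ψt ⟨(((k' : S × S).1 : S) : Ω), ha k'⟩ := by
      rw [← ha', ← ha', h1]
    have h2' : ψ ⟨(((k : S × S).2 : S) : Ω), hb k⟩ = ψ ⟨(((k' : S × S).2 : S) : Ω), hb k'⟩ := by
      rw [← hb', ← hb', h2]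
    have h3 := congrArg Subtype.val (F.injective_of_mem hψt h1')
    have h4 := congrArg Subtype.val (F.injective_of_mem hψ h2')
    apply Subtype.ext
    exact Prod.ext (Subtype.ext h3) (Subtype.ext h4)
  · ext ⟨s, t⟩
    rw [mem_diagOf]
    constructor
    · rintro ⟨k, hk, hkst⟩
      have hkM : (k : S × S) ∈ M := hk
      obtain ⟨hu, h1⟩ := (hg (k : S × S).1 (k : S × S).2).mp hkM
      have hs : (s : Ω) = ((e.trans χ) ⟨_, hu⟩ : Pst) := by
        have : a' k = s := congrArg Prod.fst hkst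
        rw [← this, ha' k]
        exact hψte _ hu (ha k)
      have hv : (((k : S × S).2 : S) : Ω) ∈ φ.range := by
        rw [← h1]
        exact ⟨_, rfl⟩
      have ht : (t : Ω) = ((e.trans χ) ⟨_, hu⟩ : Pst) := by
        have : b' k = t := congrArg Prod.snd hkst
        rw [← this, hb' k, hψχ _ hv (hb k)]
        show ((χ ⟨_, hv⟩ : Pst) : Ω) = ((χ (e ⟨_, hu⟩) : Pst) : Ω)
        congr 2
        apply Subtype.ext
        rw [heφ]
        exact h1.symm
      refine ⟨Subtype.ext (hs.trans ht.symm), ?_⟩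
      rw [hs]
      exact ((e.trans χ) ⟨_, hu⟩).2
    · rintro ⟨hst, hs⟩
      obtain ⟨y, hy⟩ : ∃ y : P, (e.trans χ) y = ⟨(s : Ω), hs⟩ :=
        ⟨(e.trans χ).symm ⟨(s : Ω), hs⟩, by simp⟩
      have hm : ((⟨y, hPS y.2⟩ : S), (⟨φ y, (F.le_of_mem hφ).2 y⟩ : S)) ∈ M := (hg _ _).mpr ⟨y.2, rfl⟩
      refine ⟨⟨_, Subgroup.le_normalizer hm⟩, hm, ?_⟩
      have h1 : (a' ⟨_, Subgroup.le_normalizer hm⟩ : Ω) = s := by
        rw [ha']
        have := hψte (y : Ω) y.2 (ha ⟨_, Subgroup.le_normalizer hm⟩)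
        rw [this]
        exact congrArg Subtype.val hy
      have h2 : (b' ⟨_, Subgroup.le_normalizer hm⟩ : Ω) = s := by
        rw [hb']
        have hv : φ y ∈ φ.range := ⟨y, rfl⟩
        have := hψχ (φ y) hv (hb ⟨_, Subgroup.le_normalizer hm⟩)
        rw [this]
        have h3 : (⟨φ y, hv⟩ : φ.range) = e y := Subtype.ext (heφ y).symm
        rw [h3]
        exact congrArg Subtype.val hy
      apply Prod.ext
      · exact Subtype.ext h1
      · apply Subtype.ext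
        show (b' ⟨_, Subgroup.le_normalizer hm⟩ : Ω) = t
        rw [h2, hst]
  · intro L
    constructor
    · intro hL
      rw [← hab] at hL ⊢
      exact fam_twist₂ F _ _ a' b' hψt hψ ha hb ha' hb' L hL
    · intro hL
      have := fam_twist₂' F ((MonoidHom.fst S S).comp (Subgroup.normalizer (M : Set (S × S))).subtype)
        ((MonoidHom.snd S S).comp (Subgroup.normalizer (M : Set (S × S))).subtype) a' b' hψt hψ ha hb
        ha' hb' L hL
      rwa [hab] at this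

end Cfsg.Agent.Lib.Helper27.CB
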