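import Mathlib
import Cfsg.Agent.Lib.Helper27.CBCong
import Cfsg.Agent.Lib.Helper27.CBTheta

set_option autoImplicit false

/-! The inductive step in the construction of a characteristic biset of a saturated fusion system. -/

namespace Cfsg.Agent.Lib.Helper27.CB

open Cfsg Cfsg.FusionSystem Cfsg.Agent.Lib.Helper27 Cfsg.Agent.Lib.Helper27.Park Classical

universe u

variable {Ω : Type u} [Group Ω] {S : Subgroup Ω}

/-- A fully normalized representative of the class of `P` in the system. -/
noncomputable def fnRep (F : FusionSystem S) (P : Subgroup Ω) : Subgroup Ω :=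
  Classical.epsilon (fun Q => F.IsConj P Q ∧ F.IsFullyNormalized Q)

theorem fnRep_spec [Finite S] (F : FusionSystem S) {P : Subgroup Ω} (hP : P ≤ S) :
    F.IsConj P (fnRep F P) ∧ F.IsFullyNormalized (fnRep F P) :=
  Classical.epsilon_spec (p := fun Q => F.IsConj P Q ∧ F.IsFullyNormalized Q)
    (exists_fullyNormalized_conj F hP)

theorem fnRep_eq (F : FusionSystem S) {P P' : Subgroup Ω} (h : F.IsConj P P') :
    fnRep F P = fnRep F P' := by
  unfold fnRep
  congr 1
  funext Q
  rw [eq_iff_iff]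
  constructor
  · rintro ⟨h1, h2⟩
    exact ⟨isConj_trans F (isConj_symm F h) h1, h2⟩
  · rintro ⟨h1, h2⟩
    exact ⟨isConj_trans F h h1, h2⟩

theorem card_eq_of_isConj (F : FusionSystem S) {P Q : Subgroup Ω} (h : F.IsConj P Q) :
    Nat.card P = Nat.card Q := by
  obtain ⟨e, -⟩ := (isConj_iff F).mp h
  exact Nat.card_congr e.toEquiv

/-- Conjugate graphs have conjugate first projections. -/
theorem isConj_pr₁_conjSub (F : FusionSystem S) {D : Subgroup (S × S)} (hD : D ∈ fam F) (g : S × S) :
    F.IsConj (pr₁ D) (pr₁ (conjSub D g)) := by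
  obtain ⟨s, t⟩ := g
  have h1 : conjHom S ((s : Ω)⁻¹) ∈ F.Hom S := F.conj_mem le_rfl (S.inv_mem s.2)
  have h2 : conjHom S ((t : Ω)⁻¹) ∈ F.Hom S := F.conj_mem le_rfl (S.inv_mem t.2)
  have hab : ((MonoidHom.fst S S).comp D.subtype).prod ((MonoidHom.snd S S).comp D.subtype) =
      D.subtype := by
    ext k <;> rfl
  have hab' : (((MulAut.conj s⁻¹).toMonoidHom.comp ((MonoidHom.fst S S).comp D.subtype)).prod
      ((MulAut.conj t⁻¹).toMonoidHom.comp ((MonoidHom.snd S S).comp D.subtype))) =
      (MulAut.conj ((s, t) : S × S)⁻¹).toMonoidHom.comp D.subtype := by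
    ext k <;> rfl
  have hL : (⊤ : Subgroup D).map
      (((MonoidHom.fst S S).comp D.subtype).prod ((MonoidHom.snd S S).comp D.subtype)) ∈ fam F := by
    rw [hab, ← MonoidHom.range_eq_map, Subgroup.range_subtype]
    exact hD
  have h3 := (fam_twist₂ F ((MonoidHom.fst S S).comp D.subtype) ((MonoidHom.snd S S).comp D.subtype)
    ((MulAut.conj s⁻¹).toMonoidHom.comp ((MonoidHom.fst S S).comp D.subtype))
    ((MulAut.conj t⁻¹).toMonoidHom.comp ((MonoidHom.snd S S).comp D.subtype)) h1 h2
    (fun k => (k : S × S).1.2) (fun k => (k : S × S).2.2) (fun k => rfl) (fun k => rfl) ⊤ hL).2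
  rw [hab, hab', ← MonoidHom.range_eq_map, Subgroup.range_subtype] at h3
  have h4 : (⊤ : Subgroup D).map ((MulAut.conj ((s, t) : S × S)⁻¹).toMonoidHom.comp D.subtype) =
      conjSub D (s, t) := by
    unfold conjSub
    rw [← Subgroup.map_map, ← MonoidHom.range_eq_map, Subgroup.range_subtype]
  rw [h4] at h3
  exact h3

variable [Finite S] {p : ℕ} [Fact p.Prime]

/-- The invariant of the construction: all orbit types of order `> r` have been adjusted. -/
structure Good (F : FusionSystem S) (ntop : Subgroup (S × S) → ℕ) (n : Subgroup (S × S) → ℕ) (r : ℕ) :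
    Prop where
  supp : ∀ D, n D ≠ 0 → D ∈ fam F ∧ r < Nat.card D
  stable : ∀ D D', D ∈ fam F → D' ∈ fam F → r < Nat.card D → F.IsConj (pr₁ D) (pr₁ D') →
    mark n D = mark n D'
  top : ∀ D : Subgroup (S × S), Nat.card D = Nat.card S → n D = ntop D

theorem Good.mark_zero {F : FusionSystem S} {ntop n : Subgroup (S × S) → ℕ} {r : ℕ}
    (h : Good F ntop n r) {M : Subgroup (S × S)} (hM : M ∉ fam F) : mark n M = 0 :=
  mark_eq_zero n (fam F) (fun _ hD _ hL => fam_sub F hD hL) (fun _ hD g => fam_conj F hD g)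
    (fun D hD => (h.supp D hD).1) hM

/-- The key congruence. -/
theorem Good.mark_congr (hS : IsPGroup p S) {F : FusionSystem S} (hF : F.IsSaturated p)
    {ntop n : Subgroup (S × S) → ℕ} {r : ℕ} (h : Good F ntop n r) {D : Subgroup (S × S)}
    (hD : D ∈ fam F) (hr : Nat.card D = r) :
    mark n D ≡ mark n (diagOf S (fnRep F (pr₁ D))) [MOD wt D] := by
  obtain ⟨hc, hfn⟩ := fnRep_spec F (pr₁_le D)
  obtain ⟨Θ, hinj, hΘM, hΘ⟩ := exists_theta hS hF hD hfn hc
  have h1 := mark_congr_of_theta n D Θ (by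
    intro L hL
    have hcard : r < Nat.card (L.map (Subgroup.normalizer (D : Set (S × S))).subtype) := by
      rw [Subgroup.card_map_of_injective (Subgroup.subtype_injective _)]
      have e3 : Nat.card (D.subgroupOf (Subgroup.normalizer (D : Set (S × S)))) = Nat.card D :=
        Nat.card_congr (Subgroup.subgroupOfEquivOfLe Subgroup.le_normalizer).toEquiv
      rw [← hr, ← e3]
      exact Set.ncard_lt_ncard
        (s := ((D.subgroupOf (Subgroup.normalizer (D : Set (S × S))) :
          Subgroup ↥(Subgroup.normalizer (D : Set (S × S)))) :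
          Set ↥(Subgroup.normalizer (D : Set (S × S)))))
        (t := ((L : Subgroup ↥(Subgroup.normalizer (D : Set (S × S)))) :
          Set ↥(Subgroup.normalizer (D : Set (S × S)))))
        (by exact_mod_cast hL) (Set.toFinite _)
    by_cases hLf : L.map (Subgroup.normalizer (D : Set (S × S))).subtype ∈ fam F
    · obtain ⟨h2, h3⟩ := (hΘ L).1 hLf
      exact h.stable _ _ hLf h2 hcard h3
    · have h2 : L.map Θ ∉ fam F := fun h' => hLf ((hΘ L).2 h')
      rw [h.mark_zero hLf, h.mark_zero h2])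
  rwa [hΘM] at h1

/-- The inductive step. -/
theorem Good.step (hS : IsPGroup p S) {F : FusionSystem S} (hF : F.IsSaturated p)
    {ntop n : Subgroup (S × S) → ℕ} {r : ℕ} (hr : r < Nat.card S) (h : Good F ntop n r) :
    ∃ n', Good F ntop n' (r - 1) := by
  rcases Nat.eq_zero_or_pos r with h0 | hpos
  · subst h0
    exact ⟨n, h⟩
  set T := Nat.card (PX n) with hT
  set Hc := Nat.card (S × S) with hHc
  have hHc1 : 1 ≤ Hc := Nat.card_pos
  obtain ⟨μ, hμ⟩ : ∃ μ : Subgroup (S × S) → ℕ,
      ∀ D, μ D = mark n (diagOf S (fnRep F (pr₁ D))) + Hc * T := ⟨_, fun _ => rfl⟩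
  obtain ⟨c, hc⟩ : ∃ c : Subgroup (S × S) → ℕ, ∀ D, c D = (μ D - mark n D) / wt D := ⟨_, fun _ => rfl⟩
  obtain ⟨nnew, hnnew⟩ : ∃ nnew : Subgroup (S × S) → ℕ,
      ∀ D, nnew D = if D ∈ fam F ∧ Nat.card D = r ∧ D = rep D then c D else 0 := ⟨_, fun _ => rfl⟩
  have hμconj : ∀ D D', F.IsConj (pr₁ D) (pr₁ D') → μ D = μ D' := by
    intro D D' hDD
    rw [hμ, hμ, fnRep_eq F hDD]
  have hkey : ∀ D, D ∈ fam F → Nat.card D = r → mark n D + c D * wt D = μ D := by
    intro D hD hDr
    have h1 := h.mark_congr hS hF hD hDr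
    have h2 : Hc * T ≡ 0 [MOD wt D] := by
      rw [Nat.modEq_zero_iff_dvd]
      exact (wt_dvd_card D).mul_right T
    have h3 : mark n D ≡ μ D [MOD wt D] := by
      rw [hμ]
      have := h1.add h2.symm
      simpa using this
    have hle : mark n D ≤ μ D := by
      rw [hμ]
      have e1 : mark n D ≤ T := mark_le_card n D
      have e2 : T ≤ Hc * T := Nat.le_mul_of_pos_left T hHc1
      omega
    have h4 : wt D ∣ μ D - mark n D := (Nat.modEq_iff_dvd' hle).mp h3
    rw [hc, Nat.div_mul_cancel h4]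
    omega
  have hnnew_supp : ∀ D, nnew D ≠ 0 → D = rep D ∧ Nat.card D = r := by
    intro D hD
    rw [hnnew] at hD
    split_ifs at hD with hcond
    · exact ⟨hcond.2.2, hcond.2.1⟩
    · exact absurd rfl hD
  refine ⟨fun D => n D + nnew D, ?_, ?_, ?_⟩
  · intro D hD
    by_cases h1 : n D = 0
    · have h2 : nnew D ≠ 0 := by
        intro h2
        apply hD
        show n D + nnew D = 0
        rw [h1, h2]
      rw [hnnew] at h2
      split_ifs at h2 with hcond
      · exact ⟨hcond.1, by omega⟩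
      · exact absurd rfl h2
    · obtain ⟨h2, h3⟩ := h.supp D h1
      exact ⟨h2, by omega⟩
  · intro D D' hD hD' hcard hconj
    have hcardeq : Nat.card D = Nat.card D' := by
      rw [card_eq_card_pr₁ hD, card_eq_card_pr₁ hD', card_eq_of_isConj F hconj]
    rw [mark_add, mark_add]
    by_cases hlt : r < Nat.card D
    · rw [sum_level_lt nnew r (fun D₁ h₁ => (hnnew_supp D₁ h₁).2) D hlt,
        sum_level_lt nnew r (fun D₁ h₁ => (hnnew_supp D₁ h₁).2) D' (hcardeq ▸ hlt)]
      rw [h.stable D D' hD hD' hlt hconj]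
    · have hDr : Nat.card D = r := by omega
      have hD'r : Nat.card D' = r := by omega
      have hval : ∀ D₁, D₁ ∈ fam F → Nat.card D₁ = r →
          mark n D₁ + ∑ E ∈ allSub (S × S), nnew E * (fixq E D₁).ncard = μ D₁ := by
        intro D₁ hD₁ hD₁r
        rw [sum_level nnew r hnnew_supp D₁ hD₁r]
        obtain ⟨g, hg⟩ := rep_mem D₁
        have hrf : rep D₁ ∈ fam F := hg ▸ fam_conj F hD₁ g
        have hrc : Nat.card (rep D₁) = r := by rw [card_rep, hD₁r]
        rw [hnnew, if_pos ⟨hrf, hrc, (rep_rep D₁).symm⟩]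
        have hμr : μ (rep D₁) = μ D₁ := by
          apply hμconj
          rw [← hg]
          exact isConj_symm F (isConj_pr₁_conjSub F hD₁ g)
        rw [hc, hμr, mark_rep, wt_rep, ← hc]
        exact hkey D₁ hD₁ hD₁r
      rw [hval D hD hDr, hval D' hD' hD'r]
      exact hμconj D D' hconj
  · intro D hD
    show n D + nnew D = ntop D
    rw [h.top D hD]
    have : nnew D = 0 := by
      rw [hnnew, if_neg]
      rintro ⟨-, h2, -⟩
      omega
    rw [this, add_zero]

end Cfsg.Agent.Lib.Helper27.CB
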