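import Mathlib
import Cfsg.Agent.Lib.Helper27.CBStep

set_option autoImplicit false

/-! The top level of the construction of a characteristic biset: graphs of automorphisms. -/

namespace Cfsg.Agent.Lib.Helper27.CB

open Cfsg Cfsg.FusionSystem Cfsg.Agent.Lib.Helper27 Cfsg.Agent.Lib.Helper27.Park Classical

universe u

variable {Ω : Type u} [Group Ω] {S : Subgroup Ω}

/-- The graph of an automorphism of `S`. -/
def graphAut (α : S ≃* S) : Subgroup (S × S) where
  carrier := {h | α h.1 = h.2}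
  one_mem' := map_one α
  mul_mem' := by
    rintro ⟨a, b⟩ ⟨a', b'⟩ h h'
    have e1 : α a = b := h
    have e2 : α a' = b' := h'
    show α (a * a') = b * b'
    rw [map_mul, e1, e2]
  inv_mem' := by
    rintro ⟨a, b⟩ h
    have e1 : α a = b := h
    show α a⁻¹ = b⁻¹
    rw [map_inv, e1]

theorem mem_graphAut {α : S ≃* S} {a b : S} : (a, b) ∈ graphAut α ↔ α a = b := Iff.rfl

theorem isGraph_graphAut (α : S ≃* S) : IsGraph (graphAut α) S (S.subtype.comp α.toMonoidHom) := by
  intro a b
  rw [mem_graphAut]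
  constructor
  · intro h
    exact ⟨a.2, by rw [← h]; rfl⟩
  · rintro ⟨_, h⟩
    exact Subtype.ext h

theorem graphAut_mem_fam {F : FusionSystem S} {α : S ≃* S} (hα : IsIso F α) : graphAut α ∈ fam F :=
  ⟨S, _, hα, isGraph_graphAut α⟩

theorem card_graphAut (α : S ≃* S) : Nat.card (graphAut α) = Nat.card S := by
  apply Nat.card_congr
  refine
    { toFun := fun d => (d : S × S).1
      invFun := fun a => ⟨(a, α a), rfl⟩
      left_inv := ?_
      right_inv := fun a => rfl }
  rintro ⟨⟨a, b⟩, hab⟩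
  have e1 : α a = b := hab
  apply Subtype.ext
  exact Prod.ext rfl e1

theorem exists_graphAut [Finite S] {F : FusionSystem S} {D : Subgroup (S × S)} (hD : D ∈ fam F)
    (hc : Nat.card D = Nat.card S) : ∃ α : S ≃* S, IsIso F α ∧ D = graphAut α := by
  obtain ⟨Q, θ, hθ, hg⟩ := hD
  have hQS : Q ≤ S := hom_le F hθ
  have hQ : Q = S := by
    apply Subgroup.eq_of_le_of_card_ge hQS
    rw [← card_eq_of_isGraph hθ hg, hc]
  subst hQ
  obtain ⟨α, hα, hαθ⟩ := exists_aut_of_hom_top F hθ
  refine ⟨α, hα, ?_⟩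
  ext ⟨a, b⟩
  rw [hg, mem_graphAut]
  constructor
  · rintro ⟨hq, h⟩
    apply Subtype.ext
    rw [hαθ, ← h]
  · intro h
    refine ⟨a.2, ?_⟩
    rw [← h, hαθ]

theorem map_graphAut (α : S ≃* S) :
    (graphAut α).map ((MulEquiv.refl S).prodCongr α.symm).toMonoidHom = diagSub S := by
  ext ⟨a, b⟩
  rw [Subgroup.mem_map_equiv, mem_diagSub]
  show α a = α.symm.symm b ↔ a = b
  simp

theorem wt_graphAut [Finite S] (α : S ≃* S) :
    wt (graphAut α) * Nat.card S = Nat.card (Subgroup.normalizer (diagSub S : Set (S × S))) := by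
  rw [← card_graphAut α, wt_mul_card, ← map_graphAut α, ← Subgroup.map_equiv_normalizer_eq,
    Subgroup.card_map_of_injective (MulEquiv.injective _)]

/-- The multiplicities at the top level. -/
noncomputable def ntop (F : FusionSystem S) (D : Subgroup (S × S)) : ℕ :=
  if D ∈ fam F ∧ Nat.card D = Nat.card S ∧ D = rep D then 1 else 0

theorem ntop_ne_zero {F : FusionSystem S} {D : Subgroup (S × S)} (h : ntop F D ≠ 0) :
    D ∈ fam F ∧ Nat.card D = Nat.card S ∧ D = rep D := by
  unfold ntop at h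
  split_ifs at h with hc
  · exact hc
  · exact absurd rfl h

variable [Finite S]

theorem good_top (F : FusionSystem S) : Good F (ntop F) (ntop F) (Nat.card S - 1) := by
  have hSpos : 0 < Nat.card S := Nat.card_pos
  refine ⟨?_, ?_, fun _ _ => rfl⟩
  · intro D hD
    obtain ⟨h1, h2, -⟩ := ntop_ne_zero hD
    exact ⟨h1, by omega⟩
  · intro D D' hD hD' hcard hconj
    have hcardeq : Nat.card D = Nat.card D' := by
      rw [card_eq_card_pr₁ hD, card_eq_card_pr₁ hD', card_eq_of_isConj F hconj]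
    have hDS : Nat.card D = Nat.card S := by
      have := fam_card_le F hD
      omega
    have hval : ∀ D₁, D₁ ∈ fam F → Nat.card D₁ = Nat.card S → mark (ntop F) D₁ = wt D₁ := by
      intro D₁ hD₁ hc₁
      rw [mark_eq_sum, sum_level (ntop F) (Nat.card S)
        (fun E hE => ⟨(ntop_ne_zero hE).2.2, (ntop_ne_zero hE).2.1⟩) D₁ hc₁]
      obtain ⟨g, hg⟩ := rep_mem D₁
      have hrf : rep D₁ ∈ fam F := hg ▸ fam_conj F hD₁ g
      have hrc : Nat.card (rep D₁) = Nat.card S := by rw [card_rep, hc₁]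
      unfold ntop
      rw [if_pos ⟨hrf, hrc, (rep_rep D₁).symm⟩, one_mul]
    rw [hval D hD hDS, hval D' hD' (hcardeq ▸ hDS)]
    obtain ⟨α, -, rfl⟩ := exists_graphAut hD hDS
    obtain ⟨β, -, rfl⟩ := exists_graphAut hD' (hcardeq ▸ hDS)
    have h1 := wt_graphAut α
    have h2 := wt_graphAut β
    rw [← h2] at h1
    exact Nat.eq_of_mul_eq_mul_right hSpos h1

/-- The number of orbits at the top level. -/
theorem sum_ntop (F : FusionSystem S) :
    ∑ D ∈ allSub (S × S), ntop F D =
      ({D | D ∈ fam F ∧ Nat.card D = Nat.card S ∧ D = rep D} : Set (Subgroup (S × S))).ncard := by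
  unfold ntop
  rw [Finset.sum_boole, Set.ncard_eq_toFinset_card _ (Set.toFinite _)]
  simp only [Nat.cast_id]
  apply congrArg Finset.card
  ext D
  rw [Finset.mem_filter, Set.Finite.mem_toFinset]
  exact ⟨fun h => h.2, fun h => ⟨mem_allSub D, h⟩⟩

omit [Finite S] in
theorem conjSub_graphAut (α : S ≃* S) (s t : S) :
    conjSub (graphAut α) (s, t) = graphAut ((MulAut.conj s).trans (α.trans (MulAut.conj t⁻¹))) := by
  ext ⟨a, b⟩
  rw [mem_conjSub, mem_graphAut]
  show α (s * a * s⁻¹) = t * b * t⁻¹ ↔ t⁻¹ * α (s * a * s⁻¹) * t⁻¹⁻¹ = b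
  constructor
  · intro h
    rw [h]
    group
  · intro h
    rw [← h]
    group

omit [Finite S] in
theorem graphAut_injective : Function.Injective (graphAut (S := S)) := by
  intro α β h
  ext a
  have h1 : (a, α a) ∈ graphAut β := h ▸ (mem_graphAut.mpr rfl)
  rw [mem_graphAut] at h1
  rw [h1]

theorem not_dvd_sum_ntop {p : ℕ} [Fact p.Prime] (hS : IsPGroup p S) {F : FusionSystem S}
    (hF : F.IsSaturated p) : ¬ p ∣ ∑ D ∈ allSub (S × S), ntop F D := by
  rw [sum_ntop]
  -- `S` is fully normalized, hence fully automized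
  have hfn : F.IsFullyNormalized S := by
    refine ⟨le_rfl, fun Q hQ => ?_⟩
    have hQS := isConj_le_right F hQ
    have : Q = S := by
      apply Subgroup.eq_of_le_of_card_ge hQS
      rw [card_eq_of_isConj F hQ]
    rw [this]
  obtain ⟨⟨-, R, hR⟩, -, -⟩ := fa_receptive_of_fullyNormalized hS hF hfn
  haveI : Finite (MulAut S) := Finite.of_injective (fun α : MulAut S => (α : S → S))
    (fun α β h => by ext x; exact congrArg Subtype.val (congrFun h x))
  have hidx := Sylow.not_dvd_index R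
  rw [hR] at hidx
  -- the bijection
  set A := F.autGroup S with hA
  set J := (autInducedBy S S).subgroupOf A with hJ
  have hiso : ∀ α : A, IsIso F ((α : MulAut S) : S ≃* S) := fun α => (mem_autGroup_iff F le_rfl _).mp α.2
  have hrel : ∀ α β : A, rep (graphAut ((α : MulAut S) : S ≃* S)) = rep (graphAut ((β : MulAut S) : S ≃* S)) ↔
      α⁻¹ * β ∈ J := by
    intro α β
    constructor
    · intro h
      obtain ⟨g₁, hg₁⟩ := rep_mem (graphAut ((α : MulAut S) : S ≃* S))
      obtain ⟨g₂, hg₂⟩ := rep_mem (graphAut ((β : MulAut S) : S ≃* S))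
      have h1 : conjSub (graphAut ((α : MulAut S) : S ≃* S)) (g₁ * g₂⁻¹) =
          graphAut ((β : MulAut S) : S ≃* S) := by
        rw [← conjSub_mul, hg₁, h, ← hg₂, conjSub_conjSub]
      obtain ⟨s, t, ht⟩ : ∃ s t : S, g₁ * g₂⁻¹ = (s, t) := ⟨(g₁ * g₂⁻¹).1, (g₁ * g₂⁻¹).2, rfl⟩
      rw [ht, conjSub_graphAut] at h1
      have h2 := graphAut_injective h1
      show (α⁻¹ * β : A) ∈ (autInducedBy S S).subgroupOf A
      rw [Subgroup.mem_subgroupOf, mem_autInducedBy_iff]
      refine ⟨(((α : MulAut S)⁻¹ t : S) : Ω)⁻¹ * (s : Ω), S.mul_mem (S.inv_mem (SetLike.coe_mem _)) s.2,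
        fun x => ?_⟩
      have h3 : (β : MulAut S) x = t⁻¹ * (α : MulAut S) (s * x * s⁻¹) * t⁻¹⁻¹ := by
        have := DFunLike.congr_fun h2 x
        exact this.symm
      show ((((α : MulAut S)⁻¹ * (β : MulAut S)) x : S) : Ω) = _
      rw [MulAut.mul_apply, h3]
      have h4 : (α : MulAut S)⁻¹ (t⁻¹ * (α : MulAut S) (s * x * s⁻¹) * t⁻¹⁻¹) =
          ((α : MulAut S)⁻¹ t)⁻¹ * (s * x * s⁻¹) * ((α : MulAut S)⁻¹ t) := by
        simp only [map_mul, map_inv, MulAut.inv_apply_self, inv_inv]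
      rw [h4]
      simp only [Subgroup.coe_mul, Subgroup.coe_inv, mul_inv_rev, inv_inv, mul_assoc]
    · intro h
      have h' : ((α⁻¹ * β : A) : MulAut S) ∈ autInducedBy S S := h
      rw [mem_autInducedBy_iff] at h'
      obtain ⟨u, hu, hux⟩ := h'
      apply rep_eq
      refine ⟨((⟨u, hu⟩ : S), (1 : S)), ?_⟩
      rw [conjSub_graphAut]
      congr 1
      ext x
      have h5 := hux x
      have h6 : (β : MulAut S) x = (α : MulAut S) (((α⁻¹ * β : A) : MulAut S) x) := by
        show (β : MulAut S) x = (α : MulAut S) (((α : MulAut S)⁻¹ * (β : MulAut S)) x)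
        rw [MulAut.mul_apply, MulAut.apply_inv_self]
      show (((1 : S)⁻¹ * (α : MulAut S) ((⟨u, hu⟩ : S) * x * (⟨u, hu⟩ : S)⁻¹) * (1 : S)⁻¹⁻¹ : S) : Ω) = _
      rw [h6]
      have h7 : ((⟨u, hu⟩ : S) * x * (⟨u, hu⟩ : S)⁻¹) = ((α⁻¹ * β : A) : MulAut S) x :=
        Subtype.ext h5.symm
      rw [h7]
      simp
  -- the map from the quotient
  let f : A ⧸ J → Subgroup (S × S) :=
    Quotient.lift (s := QuotientGroup.leftRel J) (fun α : A => rep (graphAut ((α : MulAut S) : S ≃* S)))
      (by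
        intro α β hαβ
        have : α⁻¹ * β ∈ J := QuotientGroup.leftRel_apply.mp hαβ
        exact (hrel α β).mpr this)
  have hf_inj : Function.Injective f := by
    intro q q'
    induction q using Quotient.inductionOn with
    | _ α =>
    induction q' using Quotient.inductionOn with
    | _ β =>
    intro h
    apply Quotient.sound
    apply QuotientGroup.leftRel_apply.mpr
    exact (hrel α β).mp h
  have hf_range : Set.range f =
      ({D | D ∈ fam F ∧ Nat.card D = Nat.card S ∧ D = rep D} : Set (Subgroup (S × S))) := by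
    ext D
    constructor
    · rintro ⟨q, rfl⟩
      induction q using Quotient.inductionOn with
      | _ α =>
      show rep (graphAut ((α : MulAut S) : S ≃* S)) ∈ _
      obtain ⟨g, hg⟩ := rep_mem (graphAut ((α : MulAut S) : S ≃* S))
      refine ⟨hg ▸ fam_conj F (graphAut_mem_fam (hiso α)) g, ?_, (rep_rep _).symm⟩
      rw [card_rep, card_graphAut]
    · rintro ⟨h1, h2, h3⟩
      obtain ⟨α, hα, rfl⟩ := exists_graphAut h1 h2
      have hαA : (α : MulAut S) ∈ A := (mem_autGroup_iff F le_rfl _).mpr hα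
      refine ⟨QuotientGroup.mk ⟨α, hαA⟩, ?_⟩
      exact h3.symm
  rw [← hf_range, Set.ncard_range_of_injective hf_inj, ← Subgroup.index_eq_card]
  exact hidx

end Cfsg.Agent.Lib.Helper27.CB
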