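import Mathlib
import Cfsg.Agent.Lib.Helper27.CBTop

set_option autoImplicit false

/-! Existence of a characteristic biset for a saturated fusion system (Broto–Levi–Oliver), in the form
of multiplicities `n : Subgroup (S × S) → ℕ` of the orbit types `(S × S)/D`. -/

namespace Cfsg.Agent.Lib.Helper27.CB

open Cfsg Cfsg.FusionSystem Cfsg.Agent.Lib.Helper27 Cfsg.Agent.Lib.Helper27.Park Classical

universe u

variable {Ω : Type u} [Group Ω] {S : Subgroup Ω} [Finite S] {p : ℕ} [Fact p.Prime]

theorem exists_good (hS : IsPGroup p S) {F : FusionSystem S} (hF : F.IsSaturated p) :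
    ∀ k, ∃ n, Good F (ntop F) n (Nat.card S - 1 - k) := by
  intro k
  induction k with
  | zero => exact ⟨ntop F, good_top F⟩
  | succ k ih =>
    obtain ⟨n, hn⟩ := ih
    have hpos : 0 < Nat.card S := Nat.card_pos
    have hr : Nat.card S - 1 - k < Nat.card S := by omega
    obtain ⟨n', hn'⟩ := hn.step hS hF hr
    refine ⟨n', ?_⟩
    have : Nat.card S - 1 - (k + 1) = Nat.card S - 1 - k - 1 := by omega
    rw [this]
    exact hn'

/-- A saturated fusion system on a finite `p`-group has a characteristic biset. -/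
theorem exists_charBiset (hS : IsPGroup p S) {F : FusionSystem S} (hF : F.IsSaturated p) :
    ∃ n : Subgroup (S × S) → ℕ,
      (∀ D, n D ≠ 0 → D ∈ fam F) ∧
      (∀ D D', D ∈ fam F → D' ∈ fam F → F.IsConj (pr₁ D) (pr₁ D') → mark n D = mark n D') ∧
      ∃ k, Nat.card (PX n) = k * Nat.card S ∧ ¬ p ∣ k := by
  obtain ⟨n, hn⟩ := exists_good hS hF (Nat.card S - 1)
  have h0 : Nat.card S - 1 - (Nat.card S - 1) = 0 := by omega
  rw [h0] at hn
  have hdvd : ∀ D, n D ≠ 0 → Nat.card D ∣ Nat.card S := by
    intro D hD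
    rw [card_eq_card_pr₁ (hn.supp D hD).1]
    exact Subgroup.card_dvd_of_le (pr₁_le D)
  refine ⟨n, fun D hD => (hn.supp D hD).1, fun D D' hD hD' hc => hn.stable D D' hD hD' Nat.card_pos hc,
    ∑ D ∈ allSub (S × S), n D * (Nat.card S / Nat.card D), ?_, ?_⟩
  · rw [card_PX, Finset.sum_mul]
    apply Finset.sum_congr rfl
    intro D _
    by_cases h1 : n D = 0
    · rw [h1, zero_mul, zero_mul, zero_mul]
    · rw [Nat.card_prod, mul_assoc]
      congr 1
      rw [Nat.mul_comm (Nat.card S / Nat.card D), Nat.mul_div_assoc _ (hdvd D h1)]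
  · intro hp
    apply not_dvd_sum_ntop hS hF
    rw [Nat.dvd_iff_mod_eq_zero] at hp ⊢
    rw [Finset.sum_nat_mod] at hp ⊢
    rw [← hp]
    congr 1
    apply Finset.sum_congr rfl
    intro D _
    by_cases hDS : Nat.card D = Nat.card S
    · rw [hn.top D hDS, hDS, Nat.div_self Nat.card_pos, mul_one]
    · have h1 : ntop F D = 0 := by
        unfold ntop
        rw [if_neg]
        rintro ⟨-, h2, -⟩
        exact hDS h2
      rw [h1, Nat.zero_mod]
      by_cases h2 : n D = 0
      · rw [h2, zero_mul, Nat.zero_mod]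
      · symm
        apply Nat.mod_eq_zero_of_dvd
        apply Dvd.dvd.mul_left
        obtain ⟨a, ha⟩ := (IsPGroup.iff_card.mp hS)
        have h3 := hdvd D h2
        rw [ha] at h3
        obtain ⟨b, hb, hb'⟩ := (Nat.dvd_prime_pow (Fact.out : p.Prime)).mp h3
        rw [ha, hb']
        have hne : b ≠ a := by
          intro hba
          apply hDS
          rw [ha, hb', hba]
        rw [Nat.pow_div hb (Fact.out : p.Prime).pos]
        exact dvd_pow_self p (by omega)

end Cfsg.Agent.Lib.Helper27.CB
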