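import Mathlib

set_option autoImplicit false

/-! Generic facts about a free permutation action `τ : K →* Perm X`: the set of orbits, the action of the
centralizer of `τ` on it, counting, and the sign of an involution. -/

namespace Cfsg.Agent.Lib.Helper27.CB

open Classical

section generic

variable {K : Type*} [Group K] {X : Type*} (τ : K →* Equiv.Perm X)

/-- The orbit relation of the action `τ`. -/
def orbSetoid : Setoid X where
  r x y := ∃ k, τ k x = y
  iseqv :=
    { refl := fun x => ⟨1, by rw [map_one]; rfl⟩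
      symm := by
        rintro x y ⟨k, hk⟩
        exact ⟨k⁻¹, by rw [← hk, map_inv]; exact (τ k).symm_apply_apply x⟩
      trans := by
        rintro x y z ⟨k, hk⟩ ⟨k', hk'⟩
        exact ⟨k' * k, by rw [map_mul, Equiv.Perm.mul_apply, hk, hk']⟩ }

/-- The set of orbits. -/
abbrev Orb : Type _ := Quotient (orbSetoid τ)

/-- The class of a point. -/
def orbMk (x : X) : Orb τ := Quotient.mk (orbSetoid τ) x

theorem orbMk_eq_iff {x y : X} : orbMk τ x = orbMk τ y ↔ ∃ k, τ k x = y := by
  unfold orbMk
  rw [Quotient.eq]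
  rfl

theorem orbMk_surjective : Function.Surjective (orbMk τ) := Quotient.mk_surjective

/-- The permutations commuting with the action. -/
def Cent : Subgroup (Equiv.Perm X) := Subgroup.centralizer (Set.range τ)

theorem mem_Cent_iff {g : Equiv.Perm X} : g ∈ Cent τ ↔ ∀ k x, g (τ k x) = τ k (g x) := by
  unfold Cent
  rw [Subgroup.mem_centralizer_iff]
  constructor
  · intro h k x
    have h1 := h (τ k) ⟨k, rfl⟩
    have h2 := congrArg (fun z : Equiv.Perm X => z x) h1
    exact h2.symm
  · rintro h _ ⟨k, rfl⟩
    ext x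
    exact (h k x).symm

theorem Cent_comm (g : Cent τ) (k : K) (x : X) : (g : Equiv.Perm X) (τ k x) = τ k ((g : Equiv.Perm X) x) :=
  (mem_Cent_iff τ).mp g.2 k x

/-- The map induced on orbits by a commuting permutation. -/
def quotMap (g : Cent τ) : Orb τ → Orb τ :=
  Quotient.map (g : Equiv.Perm X) (by
    rintro x y ⟨k, hk⟩
    exact ⟨k, by rw [← Cent_comm, hk]⟩)

theorem quotMap_mk (g : Cent τ) (x : X) : quotMap τ g (orbMk τ x) = orbMk τ ((g : Equiv.Perm X) x) := rfl

/-- The action of the centralizer on the set of orbits. -/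
def quotPerm : Cent τ →* Equiv.Perm (Orb τ) where
  toFun g :=
    { toFun := quotMap τ g
      invFun := quotMap τ g⁻¹
      left_inv := by
        intro q
        obtain ⟨x, rfl⟩ := orbMk_surjective τ q
        rw [quotMap_mk, quotMap_mk]
        congr 1
        simp
      right_inv := by
        intro q
        obtain ⟨x, rfl⟩ := orbMk_surjective τ q
        rw [quotMap_mk, quotMap_mk]
        congr 1
        simp }
  map_one' := by
    ext q
    obtain ⟨x, rfl⟩ := orbMk_surjective τ q
    rfl
  map_mul' := by
    intro g h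
    ext q
    obtain ⟨x, rfl⟩ := orbMk_surjective τ q
    rfl

theorem quotPerm_mk (g : Cent τ) (x : X) :
    quotPerm τ g (orbMk τ x) = orbMk τ ((g : Equiv.Perm X) x) := rfl

variable [Finite X] [Finite K]

/-- Counting the points lying over a set of orbits of a free action. -/
theorem ncard_preimage_orbMk (hfree : ∀ k x, τ k x = x → k = 1) (Z : Set (Orb τ)) :
    (orbMk τ ⁻¹' Z).ncard = Z.ncard * Nat.card K := by
  haveI : Fintype X := Fintype.ofFinite X
  haveI : Fintype K := Fintype.ofFinite K
  haveI : Fintype (Orb τ) := Fintype.ofFinite _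
  rw [Set.ncard_eq_toFinset_card _ (Set.toFinite _), Set.ncard_eq_toFinset_card _ (Set.toFinite _)]
  rw [Finset.card_eq_sum_card_fiberwise (f := orbMk τ) (t := (Set.toFinite Z).toFinset)]
  · rw [Finset.sum_const_nat (m := Nat.card K)]
    intro q hq
    rw [Set.Finite.mem_toFinset] at hq
    obtain ⟨x, rfl⟩ := orbMk_surjective τ q
    have h1 : ((Set.toFinite (orbMk τ ⁻¹' Z)).toFinset.filter (fun y => orbMk τ y = orbMk τ x)) =
        Finset.univ.image (fun k : K => τ k x) := by
      ext y
      rw [Finset.mem_filter, Set.Finite.mem_toFinset, Finset.mem_image]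
      constructor
      · rintro ⟨-, h2⟩
        obtain ⟨k, hk⟩ := (orbMk_eq_iff τ).mp h2.symm
        exact ⟨k, Finset.mem_univ _, hk⟩
      · rintro ⟨k, -, rfl⟩
        have h3 : orbMk τ (τ k x) = orbMk τ x := ((orbMk_eq_iff τ).mpr ⟨k, rfl⟩).symm
        refine ⟨?_, h3⟩
        show orbMk τ (τ k x) ∈ Z
        rw [h3]
        exact hq
    rw [h1, Finset.card_image_of_injective, Finset.card_univ, Nat.card_eq_fintype_card]
    intro k k' hkk
    have h2 : τ (k'⁻¹ * k) x = x := by
      rw [map_mul, Equiv.Perm.mul_apply, map_inv, Equiv.Perm.inv_eq_iff_eq]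
      exact hkk
    have h3 := hfree _ _ h2
    exact (inv_mul_eq_one.mp h3).symm
  · intro y hy
    rw [Finset.mem_coe, Set.Finite.mem_toFinset] at hy ⊢
    exact hy

theorem card_eq_card_orb_mul (hfree : ∀ k x, τ k x = x → k = 1) :
    Nat.card X = Nat.card (Orb τ) * Nat.card K := by
  have h := ncard_preimage_orbMk τ hfree Set.univ
  rwa [Set.preimage_univ, Set.ncard_univ, Set.ncard_univ] at h

/-- An invariant set of a free action has cardinality divisible by the order of the group. -/
theorem card_dvd_ncard_of_invariant (hfree : ∀ k x, τ k x = x → k = 1) (W : Set X)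
    (hW : ∀ k x, x ∈ W → τ k x ∈ W) : Nat.card K ∣ W.ncard := by
  have h1 : W = orbMk τ ⁻¹' (orbMk τ '' W) := by
    ext x
    constructor
    · intro hx
      exact ⟨x, hx, rfl⟩
    · rintro ⟨y, hy, hxy⟩
      obtain ⟨k, hk⟩ := (orbMk_eq_iff τ).mp hxy
      rw [← hk]
      exact hW k y hy
  rw [h1, ncard_preimage_orbMk τ hfree]
  exact Dvd.intro_left _ rfl

end generic

/-- The sign of an involution. -/
theorem sign_of_involution {Y : Type*} [Fintype Y] [DecidableEq Y] (σ : Equiv.Perm Y) (hσ : σ * σ = 1) :
    Equiv.Perm.sign σ = (-1) ^ ((Fintype.card Y - Fintype.card (Function.fixedPoints σ)) / 2) := by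
  by_cases h1 : σ = 1
  · subst h1
    have : Fintype.card (Function.fixedPoints (1 : Equiv.Perm Y)) = Fintype.card Y := by
      apply Fintype.card_of_subtype Finset.univ
      intro x
      simp
    rw [this]
    simp
  · have ho : orderOf σ = 2 := orderOf_eq_prime (by rw [pow_two]; exact hσ) h1
    obtain ⟨m, hm⟩ := Equiv.Perm.cycleType_prime_order (σ := σ) (by rw [ho]; exact Nat.prime_two)
    rw [ho] at hm
    have h2 := Equiv.Perm.sign_of_cycleType_eq_replicate (σ := σ) (n := 2) (by norm_num) (by
      rw [hm, Multiset.card_replicate])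
    rw [h2, if_neg (by decide)]

end Cfsg.Agent.Lib.Helper27.CB
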