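import Mathlib
import Cfsg.Agent.Lib.Helper27.CBMain
import Cfsg.Agent.Lib.Helper27.CBQuot

set_option autoImplicit false

/-! The group of automorphisms of a characteristic biset as a right `S`-set. -/

namespace Cfsg.Agent.Lib.Helper27.CB

open Cfsg Cfsg.FusionSystem Cfsg.Agent.Lib.Helper27 Cfsg.Agent.Lib.Helper27.Park Classical

universe u

variable {Ω : Type u} [Group Ω] {S : Subgroup Ω}

/-- The right action of `S` on the biset. -/
def rS (n : Subgroup (S × S) → ℕ) : S →* Equiv.Perm (PX n) := (act n).comp (MonoidHom.inr S S)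

theorem rS_apply (n : Subgroup (S × S) → ℕ) (b : S) (x : PX n) : rS n b x = act n ((1 : S), b) x := rfl

/-- The left action of `S` on the biset, with values in the centralizer of the right action. -/
def iotaG (n : Subgroup (S × S) → ℕ) : S →* Cent (rS n) :=
  ((act n).comp (MonoidHom.inl S S)).codRestrict (Cent (rS n)) (by
    intro a
    rw [mem_Cent_iff]
    intro b x
    show act n (a, 1) (act n (1, b) x) = act n (1, b) (act n (a, 1) x)
    rw [← Equiv.Perm.mul_apply, ← Equiv.Perm.mul_apply, ← map_mul, ← map_mul]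
    congr 2
    ext <;> simp)

theorem iotaG_apply (n : Subgroup (S × S) → ℕ) (a : S) (x : PX n) :
    ((iotaG n a : Cent (rS n)) : Equiv.Perm (PX n)) x = act n (a, (1 : S)) x := rfl

/-- The stabilizers of the points of the biset. -/
theorem exists_stab (F : FusionSystem S) {n : Subgroup (S × S) → ℕ} (hn : ∀ D, n D ≠ 0 → D ∈ fam F)
    (x : PX n) : ∃ D ∈ fam F, ∀ h : S × S, act n h x = x ↔ h ∈ D := by
  obtain ⟨D₀, i, q⟩ := x
  obtain ⟨g, rfl⟩ := QuotientGroup.mk_surjective q
  have hD₀ : D₀ ∈ fam F := by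
    apply hn
    intro h0
    have := Fin.pos i
    omega
  refine ⟨conjSub D₀ g⁻¹, fam_conj F hD₀ g⁻¹, fun h => ?_⟩
  rw [act_apply, mem_conjSub]
  have h5 : (h • (QuotientGroup.mk g : (S × S) ⧸ D₀)) = QuotientGroup.mk (h * g) := rfl
  constructor
  · intro heq
    have h3 := eq_of_heq (Sigma.mk.inj heq).2
    have h4 : (h • (QuotientGroup.mk g : (S × S) ⧸ D₀)) = QuotientGroup.mk g := (Prod.mk.inj h3).2
    rw [h5, QuotientGroup.eq] at h4
    have := D₀.inv_mem h4
    simpa [mul_assoc] using this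
  · intro hh
    have h6 : (QuotientGroup.mk (h * g) : (S × S) ⧸ D₀) = QuotientGroup.mk g := by
      rw [QuotientGroup.eq]
      have := D₀.inv_mem hh
      simpa [mul_assoc] using this
    rw [h5, h6]

/-- A point fixed by `(a, b)` gives a map of the system sending `a` to `b`. -/
theorem exists_hom_of_fixed (F : FusionSystem S) {n : Subgroup (S × S) → ℕ}
    (hn : ∀ D, n D ≠ 0 → D ∈ fam F) {x : PX n} {a b : S} (h : act n (a, b) x = x) :
    ∃ (Q : Subgroup Ω) (θ : Q →* Ω) (_ : θ ∈ F.Hom Q) (hq : (a : Ω) ∈ Q), θ ⟨a, hq⟩ = (b : Ω) := by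
  obtain ⟨D, ⟨Q, θ, hθ, hg⟩, hD⟩ := exists_stab F hn x
  obtain ⟨hq, h1⟩ := (hg a b).mp ((hD _).mp h)
  exact ⟨Q, θ, hθ, hq, h1⟩

/-- The right action is free. -/
theorem rS_free (F : FusionSystem S) {n : Subgroup (S × S) → ℕ} (hn : ∀ D, n D ≠ 0 → D ∈ fam F)
    (b : S) (x : PX n) (h : rS n b x = x) : b = 1 := by
  rw [rS_apply] at h
  obtain ⟨Q, θ, hθ, hq, h1⟩ := exists_hom_of_fixed F hn h
  have h2 : (⟨((1 : S) : Ω), hq⟩ : Q) = 1 := Subtype.ext rfl
  rw [h2, map_one] at h1
  exact Subtype.ext h1.symm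

variable [Finite S]

/-- Maps of the system are induced by conjugation in the automorphism group of the biset. -/
theorem exists_conj (F : FusionSystem S) {n : Subgroup (S × S) → ℕ} (hn : ∀ D, n D ≠ 0 → D ∈ fam F)
    (hst : ∀ D D', D ∈ fam F → D' ∈ fam F → F.IsConj (pr₁ D) (pr₁ D') → mark n D = mark n D')
    {P : Subgroup Ω} {φ : P →* Ω} (hφ : φ ∈ F.Hom P) :
    ∃ e : Cent (rS n), ∀ u : P, iotaG n ⟨φ u, (F.le_of_mem hφ).2 u⟩ =
      e * iotaG n ⟨u, hom_le F hφ u.2⟩ * e⁻¹ := by
  have hP := hom_le F hφ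
  have hφS := fun x => (F.le_of_mem hφ).2 x
  haveI : Finite ↥P := Finite.of_injective (Subgroup.inclusion hP) (Subgroup.inclusion_injective hP)
  have hfix : ∀ L : Subgroup (↥P × ↥S), (FixPts ((act n).comp (j₁ hP)) L).ncard =
      (FixPts ((act n).comp (j₂ φ hφS)) L).ncard := by
    intro L
    rw [fixPts_comp, fixPts_comp]
    show mark n (L.map (j₁ hP)) = mark n (L.map (j₂ φ hφS))
    have htw := fam_twist₂ F ((Subgroup.inclusion hP).comp (MonoidHom.fst P S))
      ((MonoidHom.id S).comp (MonoidHom.snd P S))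
      ((φ.codRestrict S hφS).comp (MonoidHom.fst P S)) ((MonoidHom.id S).comp (MonoidHom.snd P S))
      hφ (hom_subtype F le_rfl) (fun k => k.1.2) (fun k => k.2.2) (fun k => rfl) (fun k => rfl) L
    have htw' := fam_twist₂' F ((Subgroup.inclusion hP).comp (MonoidHom.fst P S))
      ((MonoidHom.id S).comp (MonoidHom.snd P S))
      ((φ.codRestrict S hφS).comp (MonoidHom.fst P S)) ((MonoidHom.id S).comp (MonoidHom.snd P S))
      hφ (hom_subtype F le_rfl) (fun k => k.1.2) (fun k => k.2.2) (fun k => rfl) (fun k => rfl) L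
    by_cases hL : L.map (j₁ hP) ∈ fam F
    · obtain ⟨h1, h2⟩ := htw hL
      exact hst _ _ hL h1 h2
    · have hL' : L.map (j₂ φ hφS) ∉ fam F := fun h' => hL (htw' h')
      have hz := fun M hM => mark_eq_zero n (fam F) (fun _ hD _ hL => fam_sub F hD hL)
        (fun _ hD g => fam_conj F hD g) hn (M := M) hM
      rw [hz _ hL, hz _ hL']
  obtain ⟨e, he⟩ := burnside_marks (K := ↥P × ↥S) _ (PX n) (PX n) _ _ rfl hfix
  have heC : (e : Equiv.Perm (PX n)) ∈ Cent (rS n) := by
    rw [mem_Cent_iff]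
    intro b x
    have h1 := he ((1 : P), b) x
    have h2 : ((act n).comp (j₁ hP)) ((1 : P), b) = act n ((1 : S), b) := by
      show act n (j₁ hP ((1 : P), b)) = _
      congr 1
    have h3 : ((act n).comp (j₂ φ hφS)) ((1 : P), b) = act n ((1 : S), b) := by
      show act n (j₂ φ hφS ((1 : P), b)) = _
      congr 1
      show (φ.codRestrict S hφS 1, b) = (1, b)
      rw [map_one]
    rw [h2, h3] at h1
    exact h1
  refine ⟨⟨e, heC⟩, fun u => ?_⟩
  rw [eq_mul_inv_iff_mul_eq]
  apply Subtype.ext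
  apply Equiv.ext
  intro x
  have h1 := he (u, (1 : S)) x
  exact h1.symm

end Cfsg.Agent.Lib.Helper27.CB
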