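import Mathlib
import Cfsg.Agent.Lib.Helper27.CBGroup
import Cfsg.Agent.Lib.Helper27.FusionNormal
import Cfsg.Agent.Lib.Helper27.FusionSat

set_option autoImplicit false

/-! The points of a characteristic biset whose stabilizer contains a graph over a normal subgroup `Q`
of the system, and the automorphism `gam x` of `Q` attached to such a point. -/

namespace Cfsg.Agent.Lib.Helper27.Mod

open Cfsg Cfsg.FusionSystem Cfsg.Agent.Lib.Helper27 Cfsg.Agent.Lib.Helper27.Park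
open Cfsg.Agent.Lib.Helper27.CB Classical

universe u

variable {Ω : Type u} [Group Ω] {S : Subgroup Ω}

/-- The left action of `S` on the biset. -/
def lS (n : Subgroup (S × S) → ℕ) : S →* Equiv.Perm (PX n) := (act n).comp (MonoidHom.inl S S)

theorem lS_apply (n : Subgroup (S × S) → ℕ) (a : S) (x : PX n) : lS n a x = act n (a, (1 : S)) x := rfl

theorem act_eq (n : Subgroup (S × S) → ℕ) (a b : S) (x : PX n) :
    act n (a, b) x = lS n a (rS n b x) := by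
  rw [lS_apply, rS_apply, ← Equiv.Perm.mul_apply, ← map_mul]
  congr 2
  ext <;> simp

theorem lS_rS_comm (n : Subgroup (S × S) → ℕ) (a b : S) (x : PX n) :
    lS n a (rS n b x) = rS n b (lS n a x) := by
  rw [lS_apply, rS_apply, lS_apply, rS_apply, ← Equiv.Perm.mul_apply, ← Equiv.Perm.mul_apply, ← map_mul,
    ← map_mul]
  congr 2
  ext <;> simp

theorem lS_mem_Cent (n : Subgroup (S × S) → ℕ) (a : S) : lS n a ∈ Cent (rS n) := by
  rw [mem_Cent_iff]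
  intro b x
  exact lS_rS_comm n a b x

theorem lS_free (F : FusionSystem S) {n : Subgroup (S × S) → ℕ} (hn : ∀ D, n D ≠ 0 → D ∈ fam F)
    (a : S) (x : PX n) (h : lS n a x = x) : a = 1 := by
  rw [lS_apply] at h
  obtain ⟨Q, θ, hθ, hq, h1⟩ := exists_hom_of_fixed F hn h
  have h2 : θ ⟨a, hq⟩ = θ 1 := by
    rw [h1, map_one]; rfl
  have h3 := F.injective_of_mem hθ h2
  exact Subtype.ext (congrArg (fun z : Q => (z : Ω)) h3)

theorem lS_injective (F : FusionSystem S) {n : Subgroup (S × S) → ℕ} (hn : ∀ D, n D ≠ 0 → D ∈ fam F)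
    (hne : Nonempty (PX n)) : Function.Injective (lS n) := by
  intro a a' h
  obtain ⟨x⟩ := hne
  have h1 : lS n (a'⁻¹ * a) x = x := by
    rw [map_mul, Equiv.Perm.mul_apply, h, map_inv]
    exact Equiv.symm_apply_apply _ _
  exact (inv_mul_eq_one.mp (lS_free F hn _ _ h1)).symm

/-- The points whose stabilizer contains a graph over `Q`. -/
def InY (n : Subgroup (S × S) → ℕ) (Q : Subgroup Ω) (x : PX n) : Prop :=
  ∀ q : S, (q : Ω) ∈ Q → ∃ b : S, act n (q, b) x = x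

/-- `γ` is an automorphism attached to the point `x`. -/
def IsGam (n : Subgroup (S × S) → ℕ) (Q : Subgroup Ω) (x : PX n) (γ : MulAut Q) : Prop :=
  ∀ (q : Q) (a b : S), (a : Ω) = q → (b : Ω) = ((γ q : Q) : Ω) → act n (a, b) x = x

variable [Finite S]

theorem exists_isGam (F : FusionSystem S) {n : Subgroup (S × S) → ℕ} (hn : ∀ D, n D ≠ 0 → D ∈ fam F)
    {Q : Subgroup Ω} (hQ : F.IsNormal Q) {x : PX n} (hx : InY n Q x) :
    ∃ γ : MulAut Q, γ ∈ F.autGroup Q ∧ IsGam n Q x γ := by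
  have hQS : Q ≤ S := hQ.1
  haveI : Finite Q := Finite.of_injective (Subgroup.inclusion hQS) (Subgroup.inclusion_injective hQS)
  obtain ⟨D, ⟨R, θ, hθ, hg⟩, hD⟩ := exists_stab F hn x
  have hQR : Q ≤ R := by
    intro q hq
    obtain ⟨b, hb⟩ := hx ⟨q, hQS hq⟩ hq
    obtain ⟨hqR, -⟩ := (hg _ _).mp ((hD _).mp hb)
    exact hqR
  have hsc := normal_stronglyClosed hQ
  have hT : ∀ y : R, (y : Ω) ∈ Q → θ y ∈ Q := by
    intro y hy
    exact hsc.2 Q le_rfl _ (hom_restrict F hQR hθ) ⟨y, hy⟩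
  obtain ⟨α, hα, h3⟩ := exists_aut_restrict F hQR hθ hT
  refine ⟨α, (mem_autGroup_iff F hQS α).mpr hα, ?_⟩
  intro q a b ha hb
  apply (hD _).mpr
  apply (hg _ _).mpr
  have haR : (a : Ω) ∈ R := ha ▸ hQR q.2
  refine ⟨haR, ?_⟩
  rw [hb]
  have : (⟨(a : Ω), haR⟩ : R) = ⟨q, hQR q.2⟩ := Subtype.ext ha
  rw [this]
  exact (h3 q).symm

/-- The automorphism of `Q` attached to a point of the biset. -/
noncomputable def gam (F : FusionSystem S) (n : Subgroup (S × S) → ℕ) (Q : Subgroup Ω) (x : PX n) :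
    MulAut Q :=
  if h : ∃ γ : MulAut Q, γ ∈ F.autGroup Q ∧ IsGam n Q x γ then Classical.choose h else 1

theorem gam_spec (F : FusionSystem S) {n : Subgroup (S × S) → ℕ} (hn : ∀ D, n D ≠ 0 → D ∈ fam F)
    {Q : Subgroup Ω} (hQ : F.IsNormal Q) {x : PX n} (hx : InY n Q x) :
    gam F n Q x ∈ F.autGroup Q ∧ IsGam n Q x (gam F n Q x) := by
  have h := exists_isGam F hn hQ hx
  unfold gam
  rw [dif_pos h]
  exact Classical.choose_spec h

theorem gam_mem (F : FusionSystem S) {n : Subgroup (S × S) → ℕ} (hn : ∀ D, n D ≠ 0 → D ∈ fam F)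
    {Q : Subgroup Ω} (hQ : F.IsNormal Q) {x : PX n} (hx : InY n Q x) : gam F n Q x ∈ F.autGroup Q :=
  (gam_spec F hn hQ hx).1

/-- The defining property: `q · x = x · γ_x(q)`. -/
theorem gam_fix (F : FusionSystem S) {n : Subgroup (S × S) → ℕ} (hn : ∀ D, n D ≠ 0 → D ∈ fam F)
    {Q : Subgroup Ω} (hQ : F.IsNormal Q) {x : PX n} (hx : InY n Q x) (q : Q) :
    act n (⟨q, hQ.1 q.2⟩, ⟨(gam F n Q x q : Q), hQ.1 (gam F n Q x q).2⟩) x = x :=
  (gam_spec F hn hQ hx).2 q _ _ rfl rfl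

theorem eq_of_act_eq (F : FusionSystem S) {n : Subgroup (S × S) → ℕ} (hn : ∀ D, n D ≠ 0 → D ∈ fam F)
    {x : PX n} {a b b' : S} (h : act n (a, b) x = x) (h' : act n (a, b') x = x) : b = b' := by
  have h1 : act n ((a, b)⁻¹ * (a, b')) x = x := by
    rw [map_mul, Equiv.Perm.mul_apply, h', map_inv, Equiv.Perm.inv_eq_iff_eq, h]
  have h2 : ((a, b)⁻¹ * (a, b') : S × S) = ((1 : S), b⁻¹ * b') := by
    ext <;> simp
  rw [h2, ← rS_apply] at h1
  have h3 := rS_free F hn _ _ h1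
  exact inv_mul_eq_one.mp h3

theorem gam_unique (F : FusionSystem S) {n : Subgroup (S × S) → ℕ} (hn : ∀ D, n D ≠ 0 → D ∈ fam F)
    {Q : Subgroup Ω} (hQ : F.IsNormal Q) {x : PX n} (hx : InY n Q x) (q : Q) {a b : S}
    (ha : (a : Ω) = q) (h : act n (a, b) x = x) : (b : Ω) = ((gam F n Q x q : Q) : Ω) := by
  have h1 := gam_fix F hn hQ hx q
  have ha' : a = ⟨q, hQ.1 q.2⟩ := Subtype.ext ha
  rw [ha'] at h
  have := eq_of_act_eq F hn h h1
  rw [this]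

/-- If `γ` is attached to `x` then `γ = gam x`. -/
theorem gam_eq_of_isGam (F : FusionSystem S) {n : Subgroup (S × S) → ℕ} (hn : ∀ D, n D ≠ 0 → D ∈ fam F)
    {Q : Subgroup Ω} (hQ : F.IsNormal Q) {x : PX n} (hx : InY n Q x) {γ : MulAut Q}
    (h : IsGam n Q x γ) : gam F n Q x = γ := by
  ext q
  have h1 := h q ⟨q, hQ.1 q.2⟩ ⟨(γ q : Q), hQ.1 (γ q).2⟩ rfl rfl
  exact (gam_unique F hn hQ hx q rfl h1).symm

/-- Behaviour under a permutation commuting with the right action and normalizing the left action of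
`Q`. -/
theorem gam_conj (F : FusionSystem S) {n : Subgroup (S × S) → ℕ} (hn : ∀ D, n D ≠ 0 → D ∈ fam F)
    {Q : Subgroup Ω} (hQ : F.IsNormal Q) {g : Equiv.Perm (PX n)} (hg : g ∈ Cent (rS n)) (ν : MulAut Q)
    (hν : ∀ (q : Q) (y : PX n), g (lS n ⟨q, hQ.1 q.2⟩ y) = lS n ⟨(ν q : Q), hQ.1 (ν q).2⟩ (g y))
    {x : PX n} (hx : InY n Q x) : InY n Q (g x) ∧ gam F n Q (g x) = gam F n Q x * ν⁻¹ := by
  have hfix : IsGam n Q (g x) (gam F n Q x * ν⁻¹) := by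
    intro q a b ha hb
    have h1 := gam_fix F hn hQ hx (ν⁻¹ q)
    rw [act_eq] at h1 ⊢
    have hb' : b = ⟨(gam F n Q x (ν⁻¹ q) : Q), hQ.1 (gam F n Q x (ν⁻¹ q)).2⟩ := Subtype.ext hb
    have ha' : a = ⟨(ν (ν⁻¹ q) : Q), hQ.1 (ν (ν⁻¹ q)).2⟩ := by
      apply Subtype.ext
      rw [ha]
      simp
    rw [hb', ← (mem_Cent_iff (rS n)).mp hg, ha', ← hν, h1]
  have hY : InY n Q (g x) := by
    intro q hq
    exact ⟨⟨(((gam F n Q x * ν⁻¹) ⟨q, hq⟩ : Q) : Ω), hQ.1 ((gam F n Q x * ν⁻¹) ⟨q, hq⟩).2⟩,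
      hfix ⟨q, hq⟩ q _ rfl rfl⟩
  exact ⟨hY, gam_eq_of_isGam F hn hQ hY hfix⟩

/-- Behaviour under the right action. -/
theorem gam_rS (F : FusionSystem S) {n : Subgroup (S × S) → ℕ} (hn : ∀ D, n D ≠ 0 → D ∈ fam F)
    {Q : Subgroup Ω} (hQ : F.IsNormal Q) (s : S) {x : PX n} (hx : InY n Q x) :
    InY n Q (rS n s x) ∧ ∀ q : Q, ((gam F n Q (rS n s x) q : Q) : Ω) =
      (s : Ω) * ((gam F n Q x q : Q) : Ω) * (s : Ω)⁻¹ := by
  have hconj : ∀ q : Q, (s : Ω) * ((gam F n Q x q : Q) : Ω) * (s : Ω)⁻¹ ∈ Q :=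
    fun q => normal_conj_mem hQ s.2 (gam F n Q x q).2
  have hfix : ∀ (q : Q) (a b : S), (a : Ω) = q →
      (b : Ω) = (s : Ω) * ((gam F n Q x q : Q) : Ω) * (s : Ω)⁻¹ → act n (a, b) (rS n s x) = rS n s x := by
    intro q a b ha hb
    have h1 := gam_fix F hn hQ hx q
    have ha' : a = ⟨q, hQ.1 q.2⟩ := Subtype.ext ha
    have hb' : b = s * ⟨(gam F n Q x q : Q), hQ.1 (gam F n Q x q).2⟩ * s⁻¹ := Subtype.ext hb
    rw [act_eq] at h1 ⊢
    have e1 : ∀ g' : S, rS n (s * g' * s⁻¹) (rS n s x) = rS n s (rS n g' x) := by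
      intro g'
      rw [← Equiv.Perm.mul_apply, ← map_mul, ← Equiv.Perm.mul_apply, ← map_mul, inv_mul_cancel_right]
    rw [ha', hb', e1, lS_rS_comm, h1]
  have hY : InY n Q (rS n s x) := by
    intro q hq
    exact ⟨⟨_, hQ.1 (hconj ⟨q, hq⟩)⟩, hfix ⟨q, hq⟩ q _ rfl rfl⟩
  refine ⟨hY, fun q => ?_⟩
  have h2 := hfix q ⟨q, hQ.1 q.2⟩ ⟨_, hQ.1 (hconj q)⟩ rfl rfl
  exact (gam_unique F hn hQ hY q rfl h2).symm

end Cfsg.Agent.Lib.Helper27.Mod
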