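import Mathlib
import Cfsg.Agent.Lib.Helper27.ModelGam

set_option autoImplicit false

/-! The normalizer and the centralizer of the left action of `Q` in the group of automorphisms of a
characteristic biset, and the homomorphism onto `Aut_F(Q)`. -/

namespace Cfsg.Agent.Lib.Helper27.Mod

open Cfsg Cfsg.FusionSystem Cfsg.Agent.Lib.Helper27 Cfsg.Agent.Lib.Helper27.Park
open Cfsg.Agent.Lib.Helper27.CB Classical

universe u

variable {Ω : Type u} [Group Ω] {S : Subgroup Ω}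

/-- The left action of `Q` on the biset. -/
def lQ (n : Subgroup (S × S) → ℕ) {Q : Subgroup Ω} (hQS : Q ≤ S) : Q →* Equiv.Perm (PX n) :=
  (lS n).comp (Subgroup.inclusion hQS)

theorem lQ_apply (n : Subgroup (S × S) → ℕ) {Q : Subgroup Ω} (hQS : Q ≤ S) (q : Q) :
    lQ n hQS q = lS n ⟨q, hQS q.2⟩ := rfl

/-- The permutation `g` induces the automorphism `ν` on the left action of `Q`. -/
def Induces (n : Subgroup (S × S) → ℕ) {Q : Subgroup Ω} (hQS : Q ≤ S) (g : Equiv.Perm (PX n))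
    (ν : MulAut Q) : Prop :=
  ∀ q : Q, g * lQ n hQS q = lQ n hQS (ν q) * g

section

variable {n : Subgroup (S × S) → ℕ} {Q : Subgroup Ω} {hQS : Q ≤ S}

theorem induces_one : Induces n hQS 1 1 := by
  intro q
  rw [one_mul, mul_one]
  rfl

theorem Induces.mul {g g' : Equiv.Perm (PX n)} {ν ν' : MulAut Q} (h : Induces n hQS g ν)
    (h' : Induces n hQS g' ν') : Induces n hQS (g * g') (ν * ν') := by
  intro q
  rw [mul_assoc, h' q, ← mul_assoc, h (ν' q), mul_assoc]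
  rfl

theorem Induces.inv {g : Equiv.Perm (PX n)} {ν : MulAut Q} (h : Induces n hQS g ν) :
    Induces n hQS g⁻¹ ν⁻¹ := by
  intro q
  have h1 := h (ν⁻¹ q)
  rw [MulAut.apply_inv_self] at h1
  rw [eq_mul_inv_iff_mul_eq, mul_assoc, ← h1, ← mul_assoc, inv_mul_cancel, one_mul]

theorem Induces.apply {g : Equiv.Perm (PX n)} {ν : MulAut Q} (h : Induces n hQS g ν) (q : Q)
    (y : PX n) : g (lS n ⟨q, hQS q.2⟩ y) = lS n ⟨(ν q : Q), hQS (ν q).2⟩ (g y) := by
  have := congrArg (fun z : Equiv.Perm (PX n) => z y) (h q)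
  exact this

theorem lQ_injective (F : FusionSystem S) (hn : ∀ D, n D ≠ 0 → D ∈ fam F) (hne : Nonempty (PX n)) :
    Function.Injective (lQ n hQS) := by
  intro q q' h
  have h1 := lS_injective F hn hne h
  exact Subgroup.inclusion_injective hQS h1

theorem Induces.unique (F : FusionSystem S) (hn : ∀ D, n D ≠ 0 → D ∈ fam F) (hne : Nonempty (PX n))
    {g : Equiv.Perm (PX n)} {ν ν' : MulAut Q} (h : Induces n hQS g ν) (h' : Induces n hQS g ν') :
    ν = ν' := by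
  ext q
  have h1 : lQ n hQS (ν q) * g = lQ n hQS (ν' q) * g := by rw [← h q, ← h' q]
  have h2 := mul_right_cancel h1
  rw [lQ_injective F hn hne h2]

end

/-- The normalizer of the left action of `Q` inducing automorphisms in `Γ`. -/
def NQ (n : Subgroup (S × S) → ℕ) {Q : Subgroup Ω} (hQS : Q ≤ S) (Γ : Subgroup (MulAut Q)) :
    Subgroup (Equiv.Perm (PX n)) where
  carrier := {g | g ∈ Cent (rS n) ∧ ∃ ν ∈ Γ, Induces n hQS g ν}
  one_mem' := ⟨(Cent (rS n)).one_mem, 1, Γ.one_mem, induces_one⟩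
  mul_mem' := by
    rintro g g' ⟨hg, ν, hν, h⟩ ⟨hg', ν', hν', h'⟩
    exact ⟨(Cent (rS n)).mul_mem hg hg', ν * ν', Γ.mul_mem hν hν', h.mul h'⟩
  inv_mem' := by
    rintro g ⟨hg, ν, hν, h⟩
    exact ⟨(Cent (rS n)).inv_mem hg, ν⁻¹, Γ.inv_mem hν, h.inv⟩

/-- The centralizer of the left action of `Q`. -/
def CQ (n : Subgroup (S × S) → ℕ) {Q : Subgroup Ω} (hQS : Q ≤ S) : Subgroup (Equiv.Perm (PX n)) where
  carrier := {g | g ∈ Cent (rS n) ∧ Induces n hQS g 1}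
  one_mem' := ⟨(Cent (rS n)).one_mem, induces_one⟩
  mul_mem' := by
    rintro g g' ⟨hg, h⟩ ⟨hg', h'⟩
    refine ⟨(Cent (rS n)).mul_mem hg hg', ?_⟩
    have := h.mul h'
    rwa [one_mul] at this
  inv_mem' := by
    rintro g ⟨hg, h⟩
    refine ⟨(Cent (rS n)).inv_mem hg, ?_⟩
    have := h.inv
    rwa [inv_one] at this

section

variable {n : Subgroup (S × S) → ℕ} {Q : Subgroup Ω} {hQS : Q ≤ S} {Γ : Subgroup (MulAut Q)}

theorem mem_NQ_iff {g : Equiv.Perm (PX n)} :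
    g ∈ NQ n hQS Γ ↔ g ∈ Cent (rS n) ∧ ∃ ν ∈ Γ, Induces n hQS g ν := Iff.rfl

theorem mem_CQ_iff {g : Equiv.Perm (PX n)} :
    g ∈ CQ n hQS ↔ g ∈ Cent (rS n) ∧ Induces n hQS g 1 := Iff.rfl

theorem CQ_le_NQ : CQ n hQS ≤ NQ n hQS Γ := by
  rintro g ⟨hg, h⟩
  exact ⟨hg, 1, Γ.one_mem, h⟩

theorem CQ_comm {g : Equiv.Perm (PX n)} (hg : g ∈ CQ n hQS) (q : Q) :
    g * lQ n hQS q = lQ n hQS q * g := hg.2 q

/-- `CQ` is normalized by `NQ`. -/
theorem conj_mem_CQ {g c : Equiv.Perm (PX n)} (hg : g ∈ NQ n hQS Γ) (hc : c ∈ CQ n hQS) :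
    g * c * g⁻¹ ∈ CQ n hQS := by
  obtain ⟨hg1, ν, -, h⟩ := hg
  refine ⟨(Cent (rS n)).mul_mem ((Cent (rS n)).mul_mem hg1 hc.1) ((Cent (rS n)).inv_mem hg1), ?_⟩
  have := (h.mul hc.2).mul h.inv
  rwa [mul_one, mul_inv_cancel] at this

end

/-- Conjugation by elements of `S` on the normal subgroup `Q`. -/
def cQ {F : FusionSystem S} {Q : Subgroup Ω} (hQ : F.IsNormal Q) : S →* MulAut Q :=
  (conjAutHom S Q).comp (Subgroup.inclusion (le_inf le_rfl (normal_le_normalizer hQ)))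

theorem cQ_apply {F : FusionSystem S} {Q : Subgroup Ω} (hQ : F.IsNormal Q) (s : S) (q : Q) :
    ((cQ hQ s q : Q) : Ω) = (s : Ω) * q * (s : Ω)⁻¹ := rfl

theorem cQ_mem_autInducedBy {F : FusionSystem S} {Q : Subgroup Ω} (hQ : F.IsNormal Q) (s : S) :
    cQ hQ s ∈ autInducedBy S Q := by
  rw [mem_autInducedBy_iff]
  exact ⟨s, s.2, fun x => rfl⟩

theorem exists_cQ_eq {F : FusionSystem S} {Q : Subgroup Ω} (hQ : F.IsNormal Q) {σ : MulAut Q}
    (hσ : σ ∈ autInducedBy S Q) : ∃ s : S, cQ hQ s = σ := by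
  rw [mem_autInducedBy_iff] at hσ
  obtain ⟨g, hg, h⟩ := hσ
  refine ⟨⟨g, hg⟩, ?_⟩
  ext q
  rw [cQ_apply, h q]

theorem cQ_mem_autGroup {F : FusionSystem S} {Q : Subgroup Ω} (hQ : F.IsNormal Q) (s : S) :
    cQ hQ s ∈ F.autGroup Q :=
  autInducedBy_le_autGroup F hQ.1 (cQ_mem_autInducedBy hQ s)

theorem lS_induces {F : FusionSystem S} {Q : Subgroup Ω} (hQ : F.IsNormal Q) (n : Subgroup (S × S) → ℕ)
    (s : S) : Induces n hQ.1 (lS n s) (cQ hQ s) := by
  intro q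
  rw [lQ_apply, lQ_apply, ← map_mul, ← map_mul]
  congr 1
  apply Subtype.ext
  show (s : Ω) * q = (s : Ω) * q * (s : Ω)⁻¹ * s
  group

theorem lS_mem_NQ {F : FusionSystem S} {Q : Subgroup Ω} (hQ : F.IsNormal Q) (n : Subgroup (S × S) → ℕ)
    (s : S) : lS n s ∈ NQ n hQ.1 (F.autGroup Q) :=
  ⟨lS_mem_Cent n s, cQ hQ s, cQ_mem_autGroup hQ s, lS_induces hQ n s⟩

/-- An element of `S` whose left action centralizes the left action of `Q` centralizes `Q`. -/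
theorem mem_centralizer_of_lS_mem_CQ {F : FusionSystem S} {Q : Subgroup Ω} (hQ : F.IsNormal Q)
    {n : Subgroup (S × S) → ℕ} (hn : ∀ D, n D ≠ 0 → D ∈ fam F) (hne : Nonempty (PX n)) {s : S}
    (hs : lS n s ∈ CQ n hQ.1) : ∀ q ∈ Q, q * (s : Ω) = s * q := by
  intro q hq
  have h1 := hs.2 ⟨q, hq⟩
  rw [lQ_apply, lQ_apply, ← map_mul, ← map_mul] at h1
  have h3 := lS_injective F hn hne h1
  have h4 := congrArg (fun z : S => (z : Ω)) h3
  exact h4.symm

section nu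

variable [Finite S] {F : FusionSystem S} {n : Subgroup (S × S) → ℕ} {Q : Subgroup Ω}

theorem exists_induces (hn : ∀ D, n D ≠ 0 → D ∈ fam F)
    (hst : ∀ D D', D ∈ fam F → D' ∈ fam F → F.IsConj (pr₁ D) (pr₁ D') → mark n D = mark n D')
    (hQS : Q ≤ S) {ν : MulAut Q} (hν : ν ∈ F.autGroup Q) :
    ∃ g ∈ Cent (rS n), Induces n hQS g ν := by
  have hiso := (mem_autGroup_iff F hQS ν).mp hν
  obtain ⟨e, he⟩ := exists_conj F hn hst hiso
  refine ⟨e, e.2, fun q => ?_⟩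
  have h1 := he q
  rw [eq_mul_inv_iff_mul_eq] at h1
  have h2 := congrArg (fun z : Cent (rS n) => (z : Equiv.Perm (PX n))) h1
  exact h2.symm

end nu

end Cfsg.Agent.Lib.Helper27.Mod
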