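import Mathlib
import Cfsg.Agent.Lib.Helper27.CBQuot

set_option autoImplicit false

/-! The monomial determinant: for a commutative group `A` acting freely on a finite set `X` and an
`A`-stable subset `W`, every permutation of `X` commuting with `A` and preserving `W` has a determinant
in `A` (the product of its "matrix entries" on the orbits contained in `W`). -/

namespace Cfsg.Agent.Lib.Helper27.MD

open Classical Cfsg.Agent.Lib.Helper27.CB

variable {A : Type*} [CommGroup A] {X : Type*} (α : A →* Equiv.Perm X)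

/-- The chosen point of the orbit of `x`. -/
noncomputable def base (x : X) : X := Quotient.out (orbMk α x)

theorem orbMk_base (x : X) : orbMk α (base α x) = orbMk α x := Quotient.out_eq _

theorem base_rel (x : X) : ∃ a, α a (base α x) = x :=
  (orbMk_eq_iff α).mp (orbMk_base α x)

/-- The coordinate of `x` with respect to the chosen point of its orbit. -/
noncomputable def coord (x : X) : A := Classical.choose (base_rel α x)

theorem coord_spec (x : X) : α (coord α x) (base α x) = x := Classical.choose_spec (base_rel α x)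

theorem base_congr {x y : X} (h : orbMk α x = orbMk α y) : base α x = base α y := by
  unfold base
  rw [h]

theorem base_smul (a : A) (x : X) : base α (α a x) = base α x :=
  base_congr α ((orbMk_eq_iff α).mpr ⟨a, rfl⟩).symm

theorem base_out (o : Orb α) : base α (Quotient.out o) = Quotient.out o := by
  unfold base orbMk
  rw [Quotient.out_eq]

variable {α}

theorem coord_unique (hfree : ∀ a x, α a x = x → a = 1) {x : X} {a : A} (h : α a (base α x) = x) :
    a = coord α x := by
  have h1 := coord_spec α x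
  have h2 : α ((coord α x)⁻¹ * a) (base α x) = base α x := by
    rw [map_mul, Equiv.Perm.mul_apply, h, map_inv, Equiv.Perm.inv_eq_iff_eq]
    exact h1.symm
  have h3 := hfree _ _ h2
  exact (inv_mul_eq_one.mp h3).symm

theorem coord_smul (hfree : ∀ a x, α a x = x → a = 1) (a : A) (x : X) :
    coord α (α a x) = a * coord α x := by
  symm
  apply coord_unique hfree
  rw [base_smul, map_mul, Equiv.Perm.mul_apply, coord_spec]

theorem coord_of_eq (hfree : ∀ a x, α a x = x → a = 1) {x y : X} {a : A} (h : α a y = x)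
    (hy : base α y = y) : coord α x = a := by
  symm
  apply coord_unique hfree
  have : base α x = y := by
    rw [← h, base_smul, hy]
  rw [this, h]

variable (α)

/-- The orbits whose chosen point lies in `W`. -/
abbrev Ow (W : Set X) : Type _ := {o : Orb α // Quotient.out o ∈ W}

/-- The determinant. -/
noncomputable def det (W : Set X) (g : Equiv.Perm X) : A :=
  ∏ᶠ o : Ow α W, coord α (g (Quotient.out o.1))

variable {α}

/-- The permutation of the orbits in `W` induced by a commuting permutation preserving `W`. -/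
noncomputable def qW {W : Set X} (hWA : ∀ a x, x ∈ W ↔ α a x ∈ W) (g : Cent α)
    (hg : ∀ x, x ∈ W ↔ (g : Equiv.Perm X) x ∈ W) : Ow α W ≃ Ow α W where
  toFun o := ⟨quotPerm α g o.1, by
    have h1 : quotPerm α g o.1 = orbMk α ((g : Equiv.Perm X) (Quotient.out o.1)) := by
      conv_lhs => rw [← Quotient.out_eq o.1]
      rfl
    rw [h1]
    have h2 : Quotient.out (orbMk α ((g : Equiv.Perm X) (Quotient.out o.1))) =
        base α ((g : Equiv.Perm X) (Quotient.out o.1)) := rfl
    rw [h2]
    obtain ⟨a, ha⟩ := base_rel α ((g : Equiv.Perm X) (Quotient.out o.1))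
    rw [hWA a, ha, ← hg]
    exact o.2⟩
  invFun o := ⟨quotPerm α g⁻¹ o.1, by
    have h1 : quotPerm α g⁻¹ o.1 = orbMk α ((g⁻¹ : Cent α).1 (Quotient.out o.1)) := by
      conv_lhs => rw [← Quotient.out_eq o.1]
      rfl
    rw [h1]
    have h2 : Quotient.out (orbMk α ((g⁻¹ : Cent α).1 (Quotient.out o.1))) =
        base α ((g⁻¹ : Cent α).1 (Quotient.out o.1)) := rfl
    rw [h2]
    obtain ⟨a, ha⟩ := base_rel α ((g⁻¹ : Cent α).1 (Quotient.out o.1))
    rw [hWA a, ha, hg]
    have : (g : Equiv.Perm X) ((g⁻¹ : Cent α).1 (Quotient.out o.1)) = Quotient.out o.1 := by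
      show (g : Equiv.Perm X) ((g : Equiv.Perm X)⁻¹ (Quotient.out o.1)) = _
      simp
    rw [this]
    exact o.2⟩
  left_inv o := by
    apply Subtype.ext
    show quotPerm α g⁻¹ (quotPerm α g o.1) = o.1
    rw [← Equiv.Perm.mul_apply, ← map_mul, inv_mul_cancel, map_one]
    rfl
  right_inv o := by
    apply Subtype.ext
    show quotPerm α g (quotPerm α g⁻¹ o.1) = o.1
    rw [← Equiv.Perm.mul_apply, ← map_mul, mul_inv_cancel, map_one]
    rfl

theorem qW_out {W : Set X} (hWA : ∀ a x, x ∈ W ↔ α a x ∈ W) (g : Cent α)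
    (hg : ∀ x, x ∈ W ↔ (g : Equiv.Perm X) x ∈ W) (o : Ow α W) :
    Quotient.out (qW hWA g hg o).1 = base α ((g : Equiv.Perm X) (Quotient.out o.1)) := by
  show Quotient.out (quotPerm α g o.1) = _
  have h1 : quotPerm α g o.1 = orbMk α ((g : Equiv.Perm X) (Quotient.out o.1)) := by
    conv_lhs => rw [← Quotient.out_eq o.1]
    rfl
  rw [h1]
  rfl

variable [Finite X]

instance (W : Set X) : Finite (Ow α W) := inferInstance

theorem det_mul (hfree : ∀ a x, α a x = x → a = 1) {W : Set X} (hWA : ∀ a x, x ∈ W ↔ α a x ∈ W)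
    (g g' : Cent α) (hg' : ∀ x, x ∈ W ↔ (g' : Equiv.Perm X) x ∈ W) :
    det α W ((g : Equiv.Perm X) * (g' : Equiv.Perm X)) =
      det α W (g : Equiv.Perm X) * det α W (g' : Equiv.Perm X) := by
  unfold det
  have h1 : ∀ o : Ow α W, coord α (((g : Equiv.Perm X) * (g' : Equiv.Perm X)) (Quotient.out o.1)) =
      coord α ((g' : Equiv.Perm X) (Quotient.out o.1)) *
        coord α ((g : Equiv.Perm X) (Quotient.out (qW hWA g' hg' o).1)) := by
    intro o
    rw [Equiv.Perm.mul_apply, qW_out]
    have h2 := coord_spec α ((g' : Equiv.Perm X) (Quotient.out o.1))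
    conv_lhs => rw [← h2]
    rw [Cent_comm, coord_smul hfree]
  rw [finprod_congr h1, finprod_mul_distrib (Set.toFinite _) (Set.toFinite _), mul_comm]
  congr 1
  exact finprod_comp_equiv (qW hWA g' hg')
    (f := fun o : Ow α W => coord α ((g : Equiv.Perm X) (Quotient.out o.1)))

theorem det_smul (hfree : ∀ a x, α a x = x → a = 1) (W : Set X) (a : A) :
    det α W (α a) = a ^ Nat.card (Ow α W) := by
  unfold det
  have h1 : ∀ o : Ow α W, coord α (α a (Quotient.out o.1)) = a := by
    intro o
    rw [coord_smul hfree]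
    have : coord α (Quotient.out o.1) = 1 := by
      apply coord_of_eq hfree (y := Quotient.out o.1)
      · rw [map_one]; rfl
      · exact base_out α o.1
    rw [this, mul_one]
  rw [finprod_congr h1]
  haveI : Fintype (Ow α W) := Fintype.ofFinite _
  rw [finprod_eq_prod_of_fintype, Finset.prod_const, Finset.card_univ, Nat.card_eq_fintype_card]

/-- Transport of the determinant along a semilinear injective self-map of `W`. -/
theorem det_transport (hfree : ∀ a x, α a x = x → a = 1) {W : Set X}
    (hWA : ∀ a x, x ∈ W ↔ α a x ∈ W) (g g' : Cent α)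
    (hg : ∀ x, x ∈ W ↔ (g : Equiv.Perm X) x ∈ W) (hg' : ∀ x, x ∈ W ↔ (g' : Equiv.Perm X) x ∈ W)
    (f : X → X) (θ : A ≃* A) (hf1 : ∀ x ∈ W, f x ∈ W)
    (hf2 : ∀ x ∈ W, ∀ x' ∈ W, f x = f x' → x = x')
    (hf4 : ∀ a, ∀ x ∈ W, f (α a x) = α (θ a) (f x))
    (hf5 : ∀ x ∈ W, f ((g : Equiv.Perm X) x) = (g' : Equiv.Perm X) (f x)) :
    det α W (g' : Equiv.Perm X) = θ (det α W (g : Equiv.Perm X)) := by
  -- the map on orbits
  have hΦmem : ∀ o : Ow α W, Quotient.out (orbMk α (f (Quotient.out o.1))) ∈ W := by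
    intro o
    have h2 : Quotient.out (orbMk α (f (Quotient.out o.1))) = base α (f (Quotient.out o.1)) := rfl
    rw [h2]
    obtain ⟨a, ha⟩ := base_rel α (f (Quotient.out o.1))
    rw [hWA a, ha]
    exact hf1 _ o.2
  let Φ : Ow α W → Ow α W := fun o => ⟨orbMk α (f (Quotient.out o.1)), hΦmem o⟩
  have hΦout : ∀ o : Ow α W, Quotient.out (Φ o).1 = base α (f (Quotient.out o.1)) := fun o => rfl
  have hΦinj : Function.Injective Φ := by
    intro o o' h
    have h1 : orbMk α (f (Quotient.out o.1)) = orbMk α (f (Quotient.out o'.1)) :=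
      congrArg Subtype.val h
    obtain ⟨a', ha'⟩ := (orbMk_eq_iff α).mp h1
    obtain ⟨a, rfl⟩ := θ.surjective a'
    rw [← hf4 a _ o.2] at ha'
    have h2 := hf2 _ ((hWA a _).mp o.2) _ o'.2 ha'
    apply Subtype.ext
    rw [← Quotient.out_eq o.1, ← Quotient.out_eq o'.1]
    exact (orbMk_eq_iff α).mpr ⟨a, h2⟩
  have hΦbij : Function.Bijective Φ := Finite.injective_iff_bijective.mp hΦinj
  let e : Ow α W ≃ Ow α W := Equiv.ofBijective Φ hΦbij
  -- the correction terms
  let b : Ow α W → A := fun o => coord α (f (Quotient.out o.1))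
  have hb : ∀ o : Ow α W, f (Quotient.out o.1) = α (b o) (Quotient.out (Φ o).1) := by
    intro o
    rw [hΦout]
    exact (coord_spec α _).symm
  have key : ∀ o : Ow α W, coord α ((g' : Equiv.Perm X) (Quotient.out (e o).1)) =
      (b o)⁻¹ * θ (coord α ((g : Equiv.Perm X) (Quotient.out o.1))) * b (qW hWA g hg o) := by
    intro o
    obtain ⟨c, hc⟩ : ∃ c, c = coord α ((g : Equiv.Perm X) (Quotient.out o.1)) := ⟨_, rfl⟩
    obtain ⟨o2, ho2⟩ : ∃ o2, o2 = qW hWA g hg o := ⟨_, rfl⟩
    rw [← hc, ← ho2]
    have e1 : Quotient.out (e o).1 = α (b o)⁻¹ (f (Quotient.out o.1)) := by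
      show Quotient.out (Φ o).1 = _
      rw [hb o, map_inv]
      exact (Equiv.symm_apply_apply (α (b o)) _).symm
    have e2 : (g : Equiv.Perm X) (Quotient.out o.1) = α c (Quotient.out o2.1) := by
      rw [ho2, qW_out hWA g hg o, hc]
      exact (coord_spec α _).symm
    have e3 : (g' : Equiv.Perm X) (Quotient.out (e o).1) =
        α ((b o)⁻¹ * θ c * b o2) (Quotient.out (Φ o2).1) := by
      rw [e1, Cent_comm, ← hf5 _ o.2, e2, hf4 _ _ o2.2, hb o2, map_mul, map_mul,
        Equiv.Perm.mul_apply, Equiv.Perm.mul_apply]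
    rw [e3]
    exact coord_of_eq hfree rfl (base_out α _)
  unfold det
  rw [← finprod_comp_equiv e (f := fun o : Ow α W => coord α ((g' : Equiv.Perm X) (Quotient.out o.1)))]
  rw [finprod_congr key, finprod_mul_distrib (Set.toFinite _) (Set.toFinite _),
    finprod_mul_distrib (Set.toFinite _) (Set.toFinite _), finprod_inv_distrib]
  have h3 : (∏ᶠ o : Ow α W, b (qW hWA g hg o)) = ∏ᶠ o : Ow α W, b o :=
    finprod_comp_equiv (qW hWA g hg) (f := b)
  have h5 : θ (∏ᶠ o : Ow α W, coord α ((g : Equiv.Perm X) (Quotient.out o.1))) =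
      ∏ᶠ o : Ow α W, θ (coord α ((g : Equiv.Perm X) (Quotient.out o.1))) :=
    map_finprod θ.toMonoidHom (Set.toFinite _)
  rw [h3, h5, mul_comm, ← mul_assoc, mul_inv_cancel, one_mul]

end Cfsg.Agent.Lib.Helper27.MD
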