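import Mathlib
import Cfsg.Agent.Lib.Helper27.ModelNQ
import Cfsg.Agent.Lib.Helper27.MonDet

set_option autoImplicit false

/-! The set `W` of points of the biset whose automorphism lies in a transversal, as a free set over the
centre of `Q`. -/

namespace Cfsg.Agent.Lib.Helper27.Mod

open Cfsg Cfsg.FusionSystem Cfsg.Agent.Lib.Helper27 Cfsg.Agent.Lib.Helper27.Park
open Cfsg.Agent.Lib.Helper27.CB Cfsg.Agent.Lib.Helper27.MD Classical

universe u

variable {Ω : Type u} [Group Ω] {S : Subgroup Ω}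

/-- The data of the construction. -/
structure Ctx (p : ℕ) (F : FusionSystem S) (Q : Subgroup Ω) (n : Subgroup (S × S) → ℕ) : Prop where
  hS : IsPGroup p S
  hF : F.IsSaturated p
  hQ : F.IsNormal Q
  hQc : F.IsCentric Q
  hn : ∀ D, n D ≠ 0 → D ∈ fam F
  hst : ∀ D D', D ∈ fam F → D' ∈ fam F → F.IsConj (pr₁ D) (pr₁ D') → mark n D = mark n D'
  hk : ∃ k, Nat.card (PX n) = k * Nat.card S ∧ ¬ p ∣ k

/-- A transversal of `Aut_S(Q)` in `Aut_F(Q)`. -/
structure IsTr {F : FusionSystem S} {Q : Subgroup Ω} (hQ : F.IsNormal Q) (T : Set (MulAut Q)) : Prop where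
  mem : ∀ t ∈ T, t ∈ F.autGroup Q
  ex : ∀ γ ∈ F.autGroup Q, ∃ s : S, cQ hQ s * γ ∈ T
  uniq : ∀ t ∈ T, ∀ s : S, cQ hQ s * t ∈ T → cQ hQ s * t = t

theorem exists_isTr {F : FusionSystem S} {Q : Subgroup Ω} (hQ : F.IsNormal Q) :
    ∃ T : Set (MulAut Q), IsTr hQ T := by
  obtain ⟨T', hT', -⟩ := Subgroup.exists_isComplement_right
    ((autInducedBy S Q).subgroupOf (F.autGroup Q)) (1 : F.autGroup Q)
  refine ⟨Subtype.val '' T', ?_, ?_, ?_⟩
  · rintro _ ⟨t, -, rfl⟩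
    exact t.2
  · intro γ hγ
    obtain ⟨⟨h, t⟩, hht, -⟩ := hT'.existsUnique ⟨γ, hγ⟩
    have hh : (h : F.autGroup Q).1 ∈ autInducedBy S Q := h.2
    obtain ⟨s, hs⟩ := exists_cQ_eq hQ hh
    refine ⟨s⁻¹, (t : F.autGroup Q), t.2, ?_⟩
    have h1 : ((h : F.autGroup Q) : MulAut Q) * ((t : F.autGroup Q) : MulAut Q) = γ :=
      congrArg Subtype.val hht
    rw [map_inv, hs, ← h1, inv_mul_cancel_left]
  · rintro _ ⟨t, ht, rfl⟩ s ⟨t', ht', h⟩
    have hmem : (⟨cQ hQ s, cQ_mem_autGroup hQ s⟩ : F.autGroup Q) ∈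
        (autInducedBy S Q).subgroupOf (F.autGroup Q) := cQ_mem_autInducedBy hQ s
    obtain ⟨x, -, hx⟩ := hT'.existsUnique (t' : F.autGroup Q)
    have h1 := hx (⟨⟨cQ hQ s, cQ_mem_autGroup hQ s⟩, hmem⟩, ⟨t, ht⟩) (Subtype.ext h.symm)
    have h2 := hx (1, ⟨t', ht'⟩) (one_mul _)
    have h3 := h1.trans h2.symm
    have h4 : t = t' := congrArg (fun z : _ × T' => (z.2 : F.autGroup Q)) h3
    rw [← h, h4]

/-- Automorphisms preserve the centre. -/
theorem aut_mem_center {Q : Type*} [Group Q] (ν : MulAut Q) {z : Q} (hz : z ∈ Subgroup.center Q) :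
    ν z ∈ Subgroup.center Q := by
  rw [Subgroup.mem_center_iff] at hz ⊢
  intro g
  have h1 := hz (ν⁻¹ g)
  have h2 := congrArg ν h1
  rw [map_mul, map_mul, MulAut.apply_inv_self] at h2
  exact h2

/-- The automorphism of the centre induced by an automorphism. -/
def cenAut {Q : Type*} [Group Q] (ν : MulAut Q) : Subgroup.center Q ≃* Subgroup.center Q where
  toFun z := ⟨ν z, aut_mem_center ν z.2⟩
  invFun z := ⟨ν⁻¹ z, aut_mem_center ν⁻¹ z.2⟩
  left_inv z := by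
    apply Subtype.ext
    show ν⁻¹ (ν z) = z
    simp
  right_inv z := by
    apply Subtype.ext
    show ν (ν⁻¹ z) = z
    simp
  map_mul' a b := by
    apply Subtype.ext
    show ν (a * b) = ν a * ν b
    exact map_mul ν _ _

theorem cenAut_apply {Q : Type*} [Group Q] (ν : MulAut Q) (z : Subgroup.center Q) :
    ((cenAut ν z : Subgroup.center Q) : Q) = ν z := rfl

/-- The action of the centre of `Q` on the biset. -/
def aZ (n : Subgroup (S × S) → ℕ) {Q : Subgroup Ω} (hQS : Q ≤ S) :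
    Subgroup.center ↥Q →* Equiv.Perm (PX n) :=
  (lQ n hQS).comp (Subgroup.center ↥Q).subtype

theorem aZ_apply (n : Subgroup (S × S) → ℕ) {Q : Subgroup Ω} (hQS : Q ≤ S) (z : Subgroup.center ↥Q) :
    aZ n hQS z = lS n ⟨(z : Q), hQS (z : Q).2⟩ := rfl

/-- The set `W`. -/
def WT (F : FusionSystem S) (n : Subgroup (S × S) → ℕ) (Q : Subgroup Ω) [Finite S] (T : Set (MulAut Q)) :
    Set (PX n) :=
  {x | InY n Q x ∧ gam F n Q x ∈ T}

variable [Finite S] {p : ℕ} [Fact p.Prime] {F : FusionSystem S} {Q : Subgroup Ω}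
  {n : Subgroup (S × S) → ℕ}

theorem Ctx.nonempty (cx : Ctx p F Q n) : Nonempty (PX n) := by
  obtain ⟨k, hk, hpk⟩ := cx.hk
  by_contra h
  rw [not_nonempty_iff] at h
  have h1 : Nat.card (PX n) = 0 := Nat.card_of_isEmpty
  rw [h1] at hk
  have h2 : k = 0 := by
    have hpos : 0 < Nat.card S := Nat.card_pos
    rcases Nat.eq_zero_or_pos k with h0 | h0
    · exact h0
    · have := Nat.mul_pos h0 hpos
      omega
  rw [h2] at hpk
  exact hpk (dvd_zero p)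

theorem aZ_free (cx : Ctx p F Q n) (a : Subgroup.center ↥Q) (x : PX n) (h : aZ n cx.hQ.1 a x = x) :
    a = 1 := by
  rw [aZ_apply] at h
  have h1 := lS_free F cx.hn _ _ h
  apply Subtype.ext
  apply Subtype.ext
  exact congrArg (fun z : S => (z : Ω)) h1

theorem CQ_le_CentZ {hQS : Q ≤ S} {c : Equiv.Perm (PX n)} (hc : c ∈ CQ n hQS) : c ∈ Cent (aZ n hQS) := by
  rw [mem_Cent_iff]
  intro z x
  have := congrArg (fun w : Equiv.Perm (PX n) => w x) (hc.2 (z : Q))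
  exact this

/-- Elements of `CQ` preserve `gam`. -/
theorem gam_CQ (cx : Ctx p F Q n) {c : Equiv.Perm (PX n)} (hc : c ∈ CQ n cx.hQ.1) {x : PX n}
    (hx : InY n Q x) : InY n Q (c x) ∧ gam F n Q (c x) = gam F n Q x := by
  have h := gam_conj F cx.hn cx.hQ hc.1 1 (fun q y => Induces.apply hc.2 q y) hx
  rwa [inv_one, mul_one] at h

theorem aZ_mem_CQ (cx : Ctx p F Q n) (z : Subgroup.center ↥Q) : aZ n cx.hQ.1 z ∈ CQ n cx.hQ.1 := by
  refine ⟨lS_mem_Cent n _, fun q => ?_⟩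
  show lQ n cx.hQ.1 (z : Q) * lQ n cx.hQ.1 q = lQ n cx.hQ.1 q * lQ n cx.hQ.1 (z : Q)
  rw [← map_mul, ← map_mul]
  congr 1
  exact (Subgroup.mem_center_iff.mp z.2 q).symm

theorem mem_WT_of_CQ (cx : Ctx p F Q n) {T : Set (MulAut Q)} {c : Equiv.Perm (PX n)}
    (hc : c ∈ CQ n cx.hQ.1) (x : PX n) : x ∈ WT F n Q T ↔ c x ∈ WT F n Q T := by
  constructor
  · rintro ⟨hx, ht⟩
    obtain ⟨h1, h2⟩ := gam_CQ cx hc hx
    exact ⟨h1, h2 ▸ ht⟩
  · rintro ⟨hx, ht⟩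
    obtain ⟨h1, h2⟩ := gam_CQ cx ((CQ n cx.hQ.1).inv_mem hc) hx
    have e : c⁻¹ (c x) = x := by simp
    rw [e] at h1 h2
    exact ⟨h1, h2 ▸ ht⟩

theorem mem_WT_aZ (cx : Ctx p F Q n) {T : Set (MulAut Q)} (a : Subgroup.center ↥Q) (x : PX n) :
    x ∈ WT F n Q T ↔ aZ n cx.hQ.1 a x ∈ WT F n Q T :=
  mem_WT_of_CQ cx (aZ_mem_CQ cx a) x

/-- `gam` and the right action, as an equality of automorphisms. -/
theorem gam_rS_eq (cx : Ctx p F Q n) (s : S) {x : PX n} (hx : InY n Q x) :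
    gam F n Q (rS n s x) = cQ cx.hQ s * gam F n Q x := by
  ext q
  rw [(gam_rS F cx.hn cx.hQ s hx).2 q]
  rfl

/-- For a point `x` with `InY`, the left action of `q` moves `x` inside its right orbit. -/
theorem lS_eq_rS (cx : Ctx p F Q n) {x : PX n} (hx : InY n Q x) (q : Q) :
    lS n ⟨q, cx.hQ.1 q.2⟩ x =
      rS n (⟨(gam F n Q x q : Q), cx.hQ.1 (gam F n Q x q).2⟩ : S)⁻¹ x := by
  have h1 := gam_fix F cx.hn cx.hQ hx q
  rw [act_eq, lS_rS_comm] at h1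
  rw [map_inv, Equiv.Perm.eq_inv_iff_eq]
  exact h1

/-- Two points of `W` in the same right orbit are in the same orbit of the centre of `Q`. -/
theorem exists_aZ_of_rS (cx : Ctx p F Q n) {T : Set (MulAut Q)} (hT : IsTr cx.hQ T) {x : PX n} {s : S}
    (hx : x ∈ WT F n Q T) (hx' : rS n s x ∈ WT F n Q T) :
    ∃ z : Subgroup.center ↥Q, aZ n cx.hQ.1 z x = rS n s x := by
  have h1 := gam_rS_eq cx s hx.1
  have h2 := hT.uniq _ hx.2 s (h1 ▸ hx'.2)
  have h3 : cQ cx.hQ s = 1 := by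
    have := mul_right_cancel (h2.trans (one_mul _).symm)
    exact this
  -- `s` centralizes `Q`
  have hsC : (s : Ω) ∈ centralizerIn S Q := by
    rw [mem_centralizerIn_iff]
    refine ⟨s.2, fun q hq => ?_⟩
    have h4 : ((cQ cx.hQ s ⟨q, hq⟩ : Q) : Ω) = q := by rw [h3]; rfl
    rw [cQ_apply] at h4
    calc q * (s : Ω) = ((s : Ω) * q * (s : Ω)⁻¹) * s := by rw [h4]
      _ = s * q := by group
  have hsQ : (s : Ω) ∈ Q := cx.hQc.2 Q (isConj_refl F cx.hQ.1) hsC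
  have hsZ : (⟨s, hsQ⟩ : Q) ∈ Subgroup.center ↥Q := by
    rw [Subgroup.mem_center_iff]
    intro g
    apply Subtype.ext
    exact (mem_centralizerIn_iff.mp hsC).2 g g.2
  refine ⟨cenAut (gam F n Q x)⁻¹ ⟨⟨s, hsQ⟩, hsZ⟩⁻¹, ?_⟩
  rw [aZ_apply, lS_eq_rS cx hx.1]
  congr 2
  apply Subtype.ext
  rw [cenAut_apply]
  show (((gam F n Q x) ((gam F n Q x)⁻¹ ((⟨⟨s, hsQ⟩, hsZ⟩ : Subgroup.center ↥Q)⁻¹ : Subgroup.center ↥Q).1) : Q) : Ω)⁻¹ = s
  rw [MulAut.apply_inv_self]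
  simp

end Cfsg.Agent.Lib.Helper27.Mod
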