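import Mathlib
import Cfsg.Agent.Lib.Helper27.ModelW

set_option autoImplicit false

/-! The retraction `r0 : C_H(Q) → Z(Q)`: a homomorphism, equivariant under the normalizer, and a power
map prime to `p` on `Z(Q)`. -/

namespace Cfsg.Agent.Lib.Helper27.Mod

open Cfsg Cfsg.FusionSystem Cfsg.Agent.Lib.Helper27 Cfsg.Agent.Lib.Helper27.Park
open Cfsg.Agent.Lib.Helper27.CB Cfsg.Agent.Lib.Helper27.MD Classical IsMulCommutative

universe u

variable {Ω : Type u} [Group Ω] {S : Subgroup Ω} [Finite S] {p : ℕ} [Fact p.Prime]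
  {F : FusionSystem S} {Q : Subgroup Ω} {n : Subgroup (S × S) → ℕ}

/-- The retraction, as a homomorphism on `CQ`. -/
noncomputable def r0 (cx : Ctx p F Q n) (T : Set (MulAut Q)) : CQ n cx.hQ.1 →* Subgroup.center ↥Q :=
  MonoidHom.mk' (fun c => det (aZ n cx.hQ.1) (WT F n Q T) (c : Equiv.Perm (PX n))) (by
    intro c c'
    exact det_mul (aZ_free cx) (fun a x => mem_WT_aZ cx a x) ⟨c.1, CQ_le_CentZ c.2⟩
      ⟨c'.1, CQ_le_CentZ c'.2⟩ (fun x => mem_WT_of_CQ cx c'.2 x))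

theorem r0_apply (cx : Ctx p F Q n) (T : Set (MulAut Q)) (c : CQ n cx.hQ.1) :
    r0 cx T c = det (aZ n cx.hQ.1) (WT F n Q T) (c : Equiv.Perm (PX n)) := rfl

theorem r0_aZ (cx : Ctx p F Q n) (T : Set (MulAut Q)) (z : Subgroup.center ↥Q) :
    r0 cx T ⟨aZ n cx.hQ.1 z, aZ_mem_CQ cx z⟩ =
      z ^ Nat.card (Ow (aZ n cx.hQ.1) (WT F n Q T)) := by
  rw [r0_apply]
  exact det_smul (aZ_free cx) _ z

/-! ### Counting -/

theorem card_Orb (cx : Ctx p F Q n) : ¬ p ∣ Nat.card (Orb (rS n)) := by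
  obtain ⟨k, hk, hpk⟩ := cx.hk
  have h1 := card_eq_card_orb_mul (rS n) (fun b x h => rS_free F cx.hn b x h)
  rw [hk] at h1
  have h2 := Nat.eq_of_mul_eq_mul_right Nat.card_pos h1
  rw [← h2]
  exact hpk

theorem inY_of_fixed (cx : Ctx p F Q n) {x : PX n}
    (h : ∀ q : Q, orbMk (rS n) (lS n ⟨q, cx.hQ.1 q.2⟩ x) = orbMk (rS n) x) : InY n Q x := by
  intro q hq
  obtain ⟨b₀, hb₀⟩ := (orbMk_eq_iff (rS n)).mp (h ⟨q, hq⟩).symm
  refine ⟨b₀⁻¹, ?_⟩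
  rw [act_eq, lS_rS_comm]
  have : lS n q x = rS n b₀ x := hb₀.symm
  rw [this, map_inv]
  exact Equiv.symm_apply_apply _ _

theorem card_Ow (cx : Ctx p F Q n) {T : Set (MulAut Q)} (hT : IsTr cx.hQ T) :
    ¬ p ∣ Nat.card (Ow (aZ n cx.hQ.1) (WT F n Q T)) := by
  have hQS := cx.hQ.1
  letI : MulAction ↥Q (Orb (rS n)) := MulAction.compHom _ ((quotPerm (rS n)).comp
    ((lQ n hQS).codRestrict (Cent (rS n)) (fun q => lS_mem_Cent n _)))
  have hsmul : ∀ (q : Q) (x : PX n), q • orbMk (rS n) x = orbMk (rS n) (lS n ⟨q, hQS q.2⟩ x) :=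
    fun q x => rfl
  have hQp : IsPGroup p ↥Q :=
    cx.hS.of_injective (Subgroup.inclusion hQS) (Subgroup.inclusion_injective hQS)
  have h1 := hQp.card_modEq_card_fixedPoints (Orb (rS n))
  -- the bijection
  have hmem : ∀ o : Ow (aZ n hQS) (WT F n Q T),
      orbMk (rS n) (Quotient.out o.1) ∈ MulAction.fixedPoints ↥Q (Orb (rS n)) := by
    intro o q
    rw [hsmul, lS_eq_rS cx o.2.1]
    exact ((orbMk_eq_iff (rS n)).mpr ⟨_, rfl⟩).symm
  let Ψ : Ow (aZ n hQS) (WT F n Q T) → MulAction.fixedPoints ↥Q (Orb (rS n)) :=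
    fun o => ⟨orbMk (rS n) (Quotient.out o.1), hmem o⟩
  have hinj : Function.Injective Ψ := by
    intro o o' h
    have h2 : orbMk (rS n) (Quotient.out o.1) = orbMk (rS n) (Quotient.out o'.1) :=
      congrArg Subtype.val h
    obtain ⟨s, hs⟩ := (orbMk_eq_iff (rS n)).mp h2
    have h3 : rS n s (Quotient.out o.1) ∈ WT F n Q T := hs ▸ o'.2
    obtain ⟨z, hz⟩ := exists_aZ_of_rS cx hT o.2 h3
    apply Subtype.ext
    rw [← Quotient.out_eq o.1, ← Quotient.out_eq o'.1]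
    exact (orbMk_eq_iff (aZ n hQS)).mpr ⟨z, hz.trans hs⟩
  have hsurj : Function.Surjective Ψ := by
    rintro ⟨o', ho'⟩
    obtain ⟨x, hx⟩ : ∃ x, x = Quotient.out o' := ⟨_, rfl⟩
    have ho'x : o' = orbMk (rS n) x := by
      rw [hx]
      exact (Quotient.out_eq o').symm
    have hxY : InY n Q x := by
      apply inY_of_fixed cx
      intro q
      rw [← hsmul, ← ho'x]
      exact ho' q
    obtain ⟨s, hs⟩ := hT.ex _ (gam_mem F cx.hn cx.hQ hxY)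
    have hx'W : rS n s x ∈ WT F n Q T := by
      refine ⟨(gam_rS F cx.hn cx.hQ s hxY).1, ?_⟩
      rw [gam_rS_eq cx s hxY]
      exact hs
    obtain ⟨a, ha⟩ := base_rel (aZ n hQS) (rS n s x)
    have hbW : base (aZ n hQS) (rS n s x) ∈ WT F n Q T := by
      rw [mem_WT_aZ cx a, ha]
      exact hx'W
    refine ⟨⟨orbMk (aZ n hQS) (rS n s x), hbW⟩, ?_⟩
    apply Subtype.ext
    show orbMk (rS n) (base (aZ n hQS) (rS n s x)) = o'
    rw [ho'x]
    have h5 : base (aZ n hQS) (rS n s x) = aZ n hQS a⁻¹ (rS n s x) := by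
      rw [map_inv, Equiv.Perm.eq_inv_iff_eq]
      exact ha
    rw [h5, aZ_apply, lS_eq_rS cx hx'W.1, ← Equiv.Perm.mul_apply, ← map_mul]
    exact ((orbMk_eq_iff (rS n)).mpr ⟨_, rfl⟩).symm
  have h2 : Nat.card (Ow (aZ n hQS) (WT F n Q T)) =
      Nat.card (MulAction.fixedPoints ↥Q (Orb (rS n))) :=
    Nat.card_congr (Equiv.ofBijective Ψ ⟨hinj, hsurj⟩)
  rw [h2]
  intro hdvd
  apply card_Orb cx
  exact (Nat.modEq_zero_iff_dvd.mp (h1.trans (Nat.modEq_zero_iff_dvd.mpr hdvd)))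

/-! ### Equivariance -/

/-- An element of `S` moving `γ` into the transversal. -/
noncomputable def uOf {F : FusionSystem S} {Q : Subgroup Ω} (hQ : F.IsNormal Q) (T : Set (MulAut Q))
    (γ : MulAut Q) : S :=
  if h : ∃ s : S, cQ hQ s * γ ∈ T then Classical.choose h else 1

theorem uOf_spec {hQ : F.IsNormal Q} {T : Set (MulAut Q)} (hT : IsTr hQ T) {γ : MulAut Q}
    (hγ : γ ∈ F.autGroup Q) : cQ hQ (uOf hQ T γ) * γ ∈ T := by
  have h := hT.ex γ hγ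
  unfold uOf
  rw [dif_pos h]
  exact Classical.choose_spec h

theorem r0_conj (cx : Ctx p F Q n) {T : Set (MulAut Q)} (hT : IsTr cx.hQ T) {g : Equiv.Perm (PX n)}
    (hg : g ∈ Cent (rS n)) {ν : MulAut Q} (hν : ν ∈ F.autGroup Q) (hgν : Induces n cx.hQ.1 g ν)
    (c : CQ n cx.hQ.1) (hc' : g * (c : Equiv.Perm (PX n)) * g⁻¹ ∈ CQ n cx.hQ.1) :
    r0 cx T ⟨g * (c : Equiv.Perm (PX n)) * g⁻¹, hc'⟩ = cenAut ν (r0 cx T c) := by
  have hQS := cx.hQ.1
  rw [r0_apply, r0_apply]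
  obtain ⟨f, hf⟩ : ∃ f : PX n → PX n,
      f = fun x => rS n (uOf cx.hQ T (gam F n Q x * ν⁻¹)) (g x) := ⟨_, rfl⟩
  have hgx : ∀ x, InY n Q x → InY n Q (g x) ∧ gam F n Q (g x) = gam F n Q x * ν⁻¹ :=
    fun x hx => gam_conj F cx.hn cx.hQ hg ν (fun q y => Induces.apply hgν q y) hx
  have hγmem : ∀ x, InY n Q x → gam F n Q x * ν⁻¹ ∈ F.autGroup Q :=
    fun x hx => (F.autGroup Q).mul_mem (gam_mem F cx.hn cx.hQ hx) ((F.autGroup Q).inv_mem hν)
  have hf1 : ∀ x ∈ WT F n Q T, f x ∈ WT F n Q T := by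
    intro x hx
    rw [hf]
    obtain ⟨h1, h2⟩ := hgx x hx.1
    refine ⟨(gam_rS F cx.hn cx.hQ _ h1).1, ?_⟩
    rw [gam_rS_eq cx _ h1, h2]
    exact uOf_spec hT (hγmem x hx.1)
  have hf2 : ∀ x ∈ WT F n Q T, ∀ x' ∈ WT F n Q T, f x = f x' → x = x' := by
    intro x hx x' hx' hxx
    rw [hf] at hxx
    obtain ⟨u, hu⟩ : ∃ u, u = uOf cx.hQ T (gam F n Q x * ν⁻¹) := ⟨_, rfl⟩
    obtain ⟨u', hu'⟩ : ∃ u', u' = uOf cx.hQ T (gam F n Q x' * ν⁻¹) := ⟨_, rfl⟩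
    have hxx' : rS n u (g x) = rS n u' (g x') := by rw [hu, hu']; exact hxx
    have h1 : x' = rS n (u'⁻¹ * u) x := by
      have h2 : g x' = rS n (u'⁻¹ * u) (g x) := by
        rw [map_mul, Equiv.Perm.mul_apply, hxx', map_inv]
        exact (Equiv.symm_apply_apply _ _).symm
      rw [← (mem_Cent_iff (rS n)).mp hg] at h2
      exact g.injective h2
    have h3 : gam F n Q x' = gam F n Q x := by
      rw [h1, gam_rS_eq cx _ hx.1]
      apply hT.uniq _ hx.2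
      rw [← gam_rS_eq cx _ hx.1, ← h1]
      exact hx'.2
    have h4 : u' = u := by rw [hu, hu', h3]
    rw [h1, h4, inv_mul_cancel, map_one]
    rfl
  have hf4 : ∀ a : Subgroup.center ↥Q, ∀ x ∈ WT F n Q T,
      f (aZ n hQS a x) = aZ n hQS (cenAut ν a) (f x) := by
    intro a x hx
    rw [hf]
    show rS n (uOf cx.hQ T (gam F n Q (aZ n hQS a x) * ν⁻¹)) (g (aZ n hQS a x)) = _
    rw [(gam_CQ cx (aZ_mem_CQ cx a) hx.1).2, aZ_apply, Induces.apply hgν, aZ_apply, lS_rS_comm]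
    rfl
  have hcW : ∀ x, x ∈ WT F n Q T ↔ (c : Equiv.Perm (PX n)) x ∈ WT F n Q T :=
    fun x => mem_WT_of_CQ cx c.2 x
  have hf5 : ∀ x ∈ WT F n Q T,
      f ((c : Equiv.Perm (PX n)) x) = (g * (c : Equiv.Perm (PX n)) * g⁻¹) (f x) := by
    intro x hx
    rw [hf]
    show rS n (uOf cx.hQ T (gam F n Q ((c : Equiv.Perm (PX n)) x) * ν⁻¹))
      (g ((c : Equiv.Perm (PX n)) x)) = _
    rw [(gam_CQ cx c.2 hx.1).2, (mem_Cent_iff (rS n)).mp hc'.1]
    congr 1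
    simp
  exact det_transport (aZ_free cx) (fun a x => mem_WT_aZ cx a x) ⟨c.1, CQ_le_CentZ c.2⟩
    ⟨_, CQ_le_CentZ hc'⟩ hcW (fun x => mem_WT_of_CQ cx hc' x) f (cenAut ν) hf1 hf2 hf4 hf5

end Cfsg.Agent.Lib.Helper27.Mod
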