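import Mathlib
import Cfsg.Agent.Lib.Helper27.ModelR0

set_option autoImplicit false

/-! The model `G = N / K` of a constrained fusion system: definition, order, Sylow subgroup. -/

namespace Cfsg.Agent.Lib.Helper27.Mod

open Cfsg Cfsg.FusionSystem Cfsg.Agent.Lib.Helper27 Cfsg.Agent.Lib.Helper27.Park
open Cfsg.Agent.Lib.Helper27.CB Cfsg.Agent.Lib.Helper27.MD Classical IsMulCommutative

universe u

variable {Ω : Type u} [Group Ω] {S : Subgroup Ω} [Finite S] {p : ℕ} [Fact p.Prime]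
  {F : FusionSystem S} {Q : Subgroup Ω} {n : Subgroup (S × S) → ℕ}

/-- The group `N`. -/
abbrev NN (cx : Ctx p F Q n) : Subgroup (Equiv.Perm (PX n)) := NQ n cx.hQ.1 (F.autGroup Q)

/-- The kernel of `r0`, as a subgroup of `N`. -/
noncomputable def KN (cx : Ctx p F Q n) (T : Set (MulAut Q)) : Subgroup ↥(NN cx) where
  carrier := {g | ∃ h : (g : Equiv.Perm (PX n)) ∈ CQ n cx.hQ.1, r0 cx T ⟨g, h⟩ = 1}
  one_mem' := ⟨(CQ n cx.hQ.1).one_mem, map_one (r0 cx T)⟩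
  mul_mem' := by
    rintro g g' ⟨h, hr⟩ ⟨h', hr'⟩
    refine ⟨(CQ n cx.hQ.1).mul_mem h h', ?_⟩
    have : (⟨((g * g' : NN cx) : Equiv.Perm (PX n)), (CQ n cx.hQ.1).mul_mem h h'⟩ : CQ n cx.hQ.1) =
        ⟨g, h⟩ * ⟨g', h'⟩ := rfl
    rw [this, map_mul, hr, hr', one_mul]
  inv_mem' := by
    rintro g ⟨h, hr⟩
    refine ⟨(CQ n cx.hQ.1).inv_mem h, ?_⟩
    have : (⟨((g⁻¹ : NN cx) : Equiv.Perm (PX n)), (CQ n cx.hQ.1).inv_mem h⟩ : CQ n cx.hQ.1) =
        (⟨g, h⟩ : CQ n cx.hQ.1)⁻¹ := rfl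
    rw [this, map_inv, hr, inv_one]

theorem mem_KN_iff (cx : Ctx p F Q n) (T : Set (MulAut Q)) (g : NN cx) :
    g ∈ KN cx T ↔ ∃ h : (g : Equiv.Perm (PX n)) ∈ CQ n cx.hQ.1, r0 cx T ⟨g, h⟩ = 1 := Iff.rfl

theorem KN_normal (cx : Ctx p F Q n) {T : Set (MulAut Q)} (hT : IsTr cx.hQ T) : (KN cx T).Normal := by
  constructor
  rintro k ⟨h, hr⟩ g
  obtain ⟨hg1, ν, hν, hgν⟩ := g.2
  have hc' : (g : Equiv.Perm (PX n)) * (k : Equiv.Perm (PX n)) * (g : Equiv.Perm (PX n))⁻¹ ∈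
      CQ n cx.hQ.1 := conj_mem_CQ g.2 h
  refine ⟨hc', ?_⟩
  have := r0_conj cx hT hg1 hν hgν ⟨k, h⟩ hc'
  rw [hr, map_one] at this
  exact this

/-- Transversals, bundled. -/
abbrev Tr (hQ : F.IsNormal Q) : Type u := {T : Set (MulAut Q) // IsTr hQ T}

instance KN_normal' (cx : Ctx p F Q n) (T : Tr cx.hQ) : (KN cx T.1).Normal := KN_normal cx T.2

/-- The model. -/
abbrev GG (cx : Ctx p F Q n) (T : Tr cx.hQ) : Type u := ↥(NN cx) ⧸ KN cx T.1

/-- The embedding of `S` in `N`. -/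
def iotaN (cx : Ctx p F Q n) : S →* ↥(NN cx) :=
  (lS n).codRestrict (NN cx) (fun s => lS_mem_NQ cx.hQ n s)

theorem iotaN_coe (cx : Ctx p F Q n) (s : S) : ((iotaN cx s : NN cx) : Equiv.Perm (PX n)) = lS n s := rfl

/-- An element of `S` whose left action lies in `CQ` lies in the centre of `Q`. -/
theorem exists_center_of_lS_mem_CQ (cx : Ctx p F Q n) {s : S} (hs : lS n s ∈ CQ n cx.hQ.1) :
    ∃ z : Subgroup.center ↥Q, ((z : Q) : Ω) = s := by
  have h1 := mem_centralizer_of_lS_mem_CQ cx.hQ cx.hn cx.nonempty hs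
  have hsC : (s : Ω) ∈ centralizerIn S Q := by
    rw [mem_centralizerIn_iff]
    exact ⟨s.2, h1⟩
  have hsQ : (s : Ω) ∈ Q := cx.hQc.2 Q (isConj_refl F cx.hQ.1) hsC
  refine ⟨⟨⟨s, hsQ⟩, ?_⟩, rfl⟩
  rw [Subgroup.mem_center_iff]
  intro g
  apply Subtype.ext
  exact h1 g g.2

theorem isPGroup_center (cx : Ctx p F Q n) : IsPGroup p (Subgroup.center ↥Q) := by
  have hQp : IsPGroup p ↥Q :=
    cx.hS.of_injective (Subgroup.inclusion cx.hQ.1) (Subgroup.inclusion_injective cx.hQ.1)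
  exact hQp.to_subgroup _

/-- In a `p`-group, a power map with exponent prime to `p` is injective at `1`. -/
theorem eq_one_of_pow_eq_one {A : Type*} [Group A] (hA : IsPGroup p A) {N : ℕ} (hN : ¬ p ∣ N) {z : A}
    (hz : z ^ N = 1) : z = 1 := by
  obtain ⟨k, hk⟩ := hA z
  have h1 : z ^ (Nat.gcd (p ^ k) N) = 1 := by
    rw [pow_gcd_eq_one]
    exact ⟨hk, hz⟩
  have h2 : Nat.gcd (p ^ k) N = 1 := by
    apply Nat.Coprime.pow_left
    exact (Nat.Prime.coprime_iff_not_dvd (Fact.out : p.Prime)).mpr hN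
  rwa [h2, pow_one] at h1

theorem eq_one_of_lS_mem_KN (cx : Ctx p F Q n) {T : Set (MulAut Q)} (hT : IsTr cx.hQ T) {s : S}
    (hs : iotaN cx s ∈ KN cx T) : s = 1 := by
  obtain ⟨h, hr⟩ := hs
  obtain ⟨z, hz⟩ := exists_center_of_lS_mem_CQ cx h
  have h1 : (⟨((iotaN cx s : NN cx) : Equiv.Perm (PX n)), h⟩ : CQ n cx.hQ.1) =
      ⟨aZ n cx.hQ.1 z, aZ_mem_CQ cx z⟩ := by
    apply Subtype.ext
    show lS n s = aZ n cx.hQ.1 z
    rw [aZ_apply]
    congr 1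
    exact Subtype.ext hz.symm
  rw [h1, r0_aZ] at hr
  have h2 := eq_one_of_pow_eq_one (isPGroup_center cx) (card_Ow cx hT) hr
  apply Subtype.ext
  rw [← hz, h2]
  rfl

/-- The embedding of `S` in the model. -/
noncomputable def iotaG' (cx : Ctx p F Q n) (T : Tr cx.hQ) : S →* GG cx T :=
  (QuotientGroup.mk' (KN cx T.1)).comp (iotaN cx)

theorem iotaG'_apply (cx : Ctx p F Q n) (T : Tr cx.hQ) (s : S) :
    iotaG' cx T s = QuotientGroup.mk (iotaN cx s) := rfl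

theorem iotaG'_injective (cx : Ctx p F Q n) (T : Tr cx.hQ) : Function.Injective (iotaG' cx T) := by
  rw [injective_iff_map_eq_one]
  intro s hs
  have h1 : (QuotientGroup.mk (iotaN cx s) : GG cx T) = 1 := hs
  rw [QuotientGroup.eq_one_iff] at h1
  exact eq_one_of_lS_mem_KN cx T.2 h1

end Cfsg.Agent.Lib.Helper27.Mod
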