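import Mathlib
import Cfsg.Agent.Lib.Helper27.ModelGroup

set_option autoImplicit false

/-! The order of the model, and its Sylow `p`-subgroup. -/

namespace Cfsg.Agent.Lib.Helper27.Mod

open Cfsg Cfsg.FusionSystem Cfsg.Agent.Lib.Helper27 Cfsg.Agent.Lib.Helper27.Park
open Cfsg.Agent.Lib.Helper27.CB Cfsg.Agent.Lib.Helper27.MD Classical IsMulCommutative

universe u

variable {Ω : Type u} [Group Ω] {S : Subgroup Ω} [Finite S] {p : ℕ} [Fact p.Prime]
  {F : FusionSystem S} {Q : Subgroup Ω} {n : Subgroup (S × S) → ℕ}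

/-- The automorphism of `Q` induced by an element of `N`. -/
noncomputable def nuN (cx : Ctx p F Q n) : ↥(NN cx) →* ↥(F.autGroup Q) :=
  MonoidHom.mk' (fun g => ⟨Classical.choose g.2.2, (Classical.choose_spec g.2.2).1⟩) (by
    intro g g'
    apply Subtype.ext
    exact Induces.unique F cx.hn cx.nonempty (Classical.choose_spec (g * g').2.2).2
      ((Classical.choose_spec g.2.2).2.mul (Classical.choose_spec g'.2.2).2))

theorem nuN_induces (cx : Ctx p F Q n) (g : NN cx) :
    Induces n cx.hQ.1 (g : Equiv.Perm (PX n)) ((nuN cx g : F.autGroup Q) : MulAut Q) :=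
  (Classical.choose_spec g.2.2).2

theorem nuN_eq (cx : Ctx p F Q n) {g : NN cx} {ν : MulAut Q}
    (h : Induces n cx.hQ.1 (g : Equiv.Perm (PX n)) ν) : ((nuN cx g : F.autGroup Q) : MulAut Q) = ν :=
  Induces.unique F cx.hn cx.nonempty (nuN_induces cx g) h

theorem nuN_surjective (cx : Ctx p F Q n) : Function.Surjective (nuN cx) := by
  rintro ⟨ν, hν⟩
  obtain ⟨g, hg, hgν⟩ := exists_induces cx.hn cx.hst cx.hQ.1 hν
  refine ⟨⟨g, hg, ν, hν, hgν⟩, ?_⟩
  apply Subtype.ext
  exact nuN_eq cx hgν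

theorem mem_ker_nuN (cx : Ctx p F Q n) (g : NN cx) :
    g ∈ (nuN cx).ker ↔ (g : Equiv.Perm (PX n)) ∈ CQ n cx.hQ.1 := by
  rw [MonoidHom.mem_ker]
  constructor
  · intro h
    refine ⟨g.2.1, ?_⟩
    have h1 := nuN_induces cx g
    rw [h] at h1
    exact h1
  · intro h
    apply Subtype.ext
    exact nuN_eq cx h.2

theorem card_NN (cx : Ctx p F Q n) :
    Nat.card (NN cx) = Nat.card (CQ n cx.hQ.1) * Nat.card (F.autGroup Q) := by
  have h1 := Subgroup.card_mul_index (nuN cx).ker
  rw [Subgroup.index_ker, MonoidHom.range_eq_top.mpr (nuN_surjective cx), Subgroup.card_top] at h1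
  rw [← h1]
  congr 1
  apply Nat.card_congr
  exact
    { toFun := fun g => ⟨g.1.1, (mem_ker_nuN cx g.1).mp g.2⟩
      invFun := fun c => ⟨⟨c.1, CQ_le_NQ c.2⟩, (mem_ker_nuN cx _).mpr c.2⟩
      left_inv := fun c => rfl
      right_inv := fun g => rfl }

theorem r0_surjective (cx : Ctx p F Q n) {T : Set (MulAut Q)} (hT : IsTr cx.hQ T) :
    Function.Surjective (r0 cx T) := by
  have hQS := cx.hQ.1
  haveI : Finite ↥Q := Finite.of_injective (Subgroup.inclusion hQS) (Subgroup.inclusion_injective hQS)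
  have hinj : Function.Injective
      (fun z : Subgroup.center ↥Q => z ^ Nat.card (Ow (aZ n hQS) (WT F n Q T))) := by
    intro z z' h
    have h1 : (z * z'⁻¹) ^ Nat.card (Ow (aZ n hQS) (WT F n Q T)) = 1 := by
      rw [mul_pow, inv_pow]
      have : z ^ Nat.card (Ow (aZ n hQS) (WT F n Q T)) =
          z' ^ Nat.card (Ow (aZ n hQS) (WT F n Q T)) := h
      rw [this, mul_inv_cancel]
    have h2 := eq_one_of_pow_eq_one (isPGroup_center cx) (card_Ow cx hT) h1
    exact mul_inv_eq_one.mp h2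
  have hsurj := Finite.injective_iff_surjective.mp hinj
  intro z
  obtain ⟨z', hz'⟩ := hsurj z
  refine ⟨⟨aZ n hQS z', aZ_mem_CQ cx z'⟩, ?_⟩
  rw [r0_aZ]
  exact hz'

theorem card_CQ (cx : Ctx p F Q n) {T : Set (MulAut Q)} (hT : IsTr cx.hQ T) :
    Nat.card (CQ n cx.hQ.1) = Nat.card (r0 cx T).ker * Nat.card (Subgroup.center ↥Q) := by
  have h1 := Subgroup.card_mul_index (r0 cx T).ker
  rw [Subgroup.index_ker, MonoidHom.range_eq_top.mpr (r0_surjective cx hT), Subgroup.card_top] at h1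
  exact h1.symm

theorem card_KN (cx : Ctx p F Q n) (T : Set (MulAut Q)) :
    Nat.card (KN cx T) = Nat.card (r0 cx T).ker := by
  apply Nat.card_congr
  exact
    { toFun := fun g => ⟨⟨g.1.1, g.2.1⟩, g.2.2⟩
      invFun := fun c => ⟨⟨c.1.1, CQ_le_NQ c.1.2⟩, c.1.2, c.2⟩
      left_inv := fun g => rfl
      right_inv := fun c => rfl }

theorem card_GG (cx : Ctx p F Q n) (T : Tr cx.hQ) :
    Nat.card (GG cx T) = Nat.card (Subgroup.center ↥Q) * Nat.card (F.autGroup Q) := by
  have h1 := Subgroup.card_eq_card_quotient_mul_card_subgroup (KN cx T.1)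
  rw [card_NN cx, card_CQ cx T.2, card_KN cx T.1] at h1
  have hpos : 0 < Nat.card (r0 cx T.1).ker := Nat.card_pos
  have h2 : Nat.card (r0 cx T.1).ker * (Nat.card (Subgroup.center ↥Q) * Nat.card (F.autGroup Q)) =
      Nat.card (r0 cx T.1).ker * Nat.card (GG cx T) := by
    rw [← mul_assoc, h1, mul_comm]
  exact (Nat.eq_of_mul_eq_mul_left hpos h2).symm

theorem card_S_eq (cx : Ctx p F Q n) :
    Nat.card S = Nat.card (Subgroup.center ↥Q) * Nat.card (autInducedBy S Q) := by
  have h1 := card_normalizerIn (S := S) Q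
  have h2 : normalizerIn S Q = S := le_antisymm inf_le_left (le_inf le_rfl (normal_le_normalizer cx.hQ))
  rw [h2] at h1
  rw [h1]
  congr 1
  apply Nat.card_congr
  exact
    { toFun := fun c => ⟨⟨c.1, cx.hQc.2 Q (isConj_refl F cx.hQ.1) c.2⟩, by
        rw [Subgroup.mem_center_iff]
        intro g
        apply Subtype.ext
        exact (mem_centralizerIn_iff.mp c.2).2 g g.2⟩
      invFun := fun z => ⟨((z : Q) : Ω), by
        rw [mem_centralizerIn_iff]
        refine ⟨cx.hQ.1 (z : Q).2, fun x hx => ?_⟩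
        have := Subgroup.mem_center_iff.mp z.2 ⟨x, hx⟩
        exact congrArg (fun w : Q => (w : Ω)) this⟩
      left_inv := fun c => rfl
      right_inv := fun z => rfl }

theorem exists_sylow_GG (cx : Ctx p F Q n) (T : Tr cx.hQ) :
    Finite (GG cx T) ∧ ∃ P : Sylow p (GG cx T), (P : Subgroup (GG cx T)) = (iotaG' cx T).range := by
  have hQS := cx.hQ.1
  haveI : Finite ↥Q := Finite.of_injective (Subgroup.inclusion hQS) (Subgroup.inclusion_injective hQS)
  haveI : Finite (MulAut ↥Q) := Finite.of_injective (fun e : MulAut ↥Q => (e : ↥Q → ↥Q))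
    (fun e e' h => MulEquiv.ext (congrFun h))
  haveI : Finite (GG cx T) := inferInstance
  refine ⟨inferInstance, ?_⟩
  obtain ⟨-, R, hR⟩ := weaklyClosed_isFullyAutomized cx.hF (normal_weaklyClosed cx.hQ)
  have h1 := Subgroup.card_mul_index (R : Subgroup (F.autGroup Q))
  have h2 : Nat.card (R : Subgroup (F.autGroup Q)) = Nat.card (autInducedBy S Q) := by
    rw [hR]
    exact card_subgroupOf_autInducedBy F cx.hQ.1
  have h3 : ¬ p ∣ (R : Subgroup (F.autGroup Q)).index := R.not_dvd_index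
  have h4 := Subgroup.card_mul_index (iotaG' cx T).range
  have h5 : Nat.card (iotaG' cx T).range = Nat.card S :=
    (Nat.card_congr (MonoidHom.ofInjective (iotaG'_injective cx T)).toEquiv).symm
  have h6 : (iotaG' cx T).range.index = (R : Subgroup (F.autGroup Q)).index := by
    rw [h5, card_GG cx T, ← h1, h2, card_S_eq cx] at h4
    have hpos : 0 < Nat.card (Subgroup.center ↥Q) * Nat.card (autInducedBy S Q) :=
      Nat.mul_pos Nat.card_pos Nat.card_pos
    apply Nat.eq_of_mul_eq_mul_left hpos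
    rw [h4]
    ring
  have hp : IsPGroup p (iotaG' cx T).range :=
    cx.hS.of_surjective (iotaG' cx T).rangeRestrict (iotaG' cx T).rangeRestrict_surjective
  exact ⟨hp.toSylow (h6 ▸ h3), hp.toSylow_coe _⟩

end Cfsg.Agent.Lib.Helper27.Mod
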