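import Mathlib
import Cfsg.Agent.Lib.Helper27.ModelOrder
import Cfsg.Agent.Lib.Helper16.PCore

set_option autoImplicit false

/-! In the model, the centralizer of the largest normal `p`-subgroup lies in it. -/

namespace Cfsg.Agent.Lib.Helper27.Mod

open Cfsg Cfsg.FusionSystem Cfsg.Agent.Lib.Helper27 Cfsg.Agent.Lib.Helper27.Park
open Cfsg.Agent.Lib.Helper27.CB Cfsg.Agent.Lib.Helper27.MD Classical IsMulCommutative

universe u

variable {Ω : Type u} [Group Ω] {S : Subgroup Ω} [Finite S] {p : ℕ} [Fact p.Prime]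
  {F : FusionSystem S} {Q : Subgroup Ω} {n : Subgroup (S × S) → ℕ}

/-- Conjugation in `N` of the left action of `Q`. -/
theorem conj_iotaN (cx : Ctx p F Q n) (g : NN cx) {ν : MulAut Q}
    (hν : Induces n cx.hQ.1 (g : Equiv.Perm (PX n)) ν) (q : Q) :
    g * iotaN cx ⟨q, cx.hQ.1 q.2⟩ * g⁻¹ = iotaN cx ⟨(ν q : Q), cx.hQ.1 (ν q).2⟩ := by
  apply Subtype.ext
  show (g : Equiv.Perm (PX n)) * lS n ⟨q, cx.hQ.1 q.2⟩ * (g : Equiv.Perm (PX n))⁻¹ =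
    lS n ⟨(ν q : Q), cx.hQ.1 (ν q).2⟩
  rw [mul_inv_eq_iff_eq_mul]
  exact hν q

/-- The image of `Q` in the model. -/
noncomputable def Qbar (cx : Ctx p F Q n) (T : Tr cx.hQ) : Subgroup (GG cx T) :=
  (Q.subgroupOf S).map (iotaG' cx T)

theorem mem_Qbar (cx : Ctx p F Q n) (T : Tr cx.hQ) (q : Q) :
    iotaG' cx T ⟨q, cx.hQ.1 q.2⟩ ∈ Qbar cx T :=
  ⟨⟨q, cx.hQ.1 q.2⟩, q.2, rfl⟩

theorem Qbar_normal (cx : Ctx p F Q n) (T : Tr cx.hQ) : (Qbar cx T).Normal := by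
  constructor
  rintro _ ⟨s, hs, rfl⟩ x
  obtain ⟨g, rfl⟩ := QuotientGroup.mk_surjective x
  have h1 := conj_iotaN cx g (nuN_induces cx g) ⟨s, hs⟩
  have h2 : (QuotientGroup.mk g : GG cx T) * iotaG' cx T s * (QuotientGroup.mk g : GG cx T)⁻¹ =
      QuotientGroup.mk (g * iotaN cx s * g⁻¹) := rfl
  rw [h2]
  have h3 : (⟨((⟨s, hs⟩ : Q) : Ω), cx.hQ.1 hs⟩ : S) = s := rfl
  rw [h3] at h1
  rw [h1]
  exact mem_Qbar cx T _

theorem Qbar_isPGroup (cx : Ctx p F Q n) (T : Tr cx.hQ) : IsPGroup p (Qbar cx T) := by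
  have h1 : IsPGroup p (Q.subgroupOf S) := cx.hS.to_subgroup _
  exact h1.map _

theorem Qbar_le_pCore (cx : Ctx p F Q n) (T : Tr cx.hQ) : Qbar cx T ≤ pCore p (GG cx T) :=
  Cfsg.Agent.Lib.Helper16.le_pCore _ (Qbar_normal cx T) (Qbar_isPGroup cx T)

theorem centralizer_pCore_le (cx : Ctx p F Q n) (T : Tr cx.hQ) :
    Subgroup.centralizer ((pCore p (GG cx T) : Subgroup (GG cx T)) : Set (GG cx T)) ≤
      pCore p (GG cx T) := by
  intro x hx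
  rw [Subgroup.mem_centralizer_iff] at hx
  obtain ⟨g, rfl⟩ := QuotientGroup.mk_surjective x
  -- `g` centralizes `Q`
  have hν1 : ((nuN cx g : F.autGroup Q) : MulAut Q) = 1 := by
    ext q
    have h1 := hx _ (Qbar_le_pCore cx T (mem_Qbar cx T q))
    have h2 : (QuotientGroup.mk g : GG cx T) * iotaG' cx T ⟨q, cx.hQ.1 q.2⟩ *
        (QuotientGroup.mk g : GG cx T)⁻¹ = iotaG' cx T ⟨q, cx.hQ.1 q.2⟩ := by
      rw [← h1, mul_inv_cancel_right]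
    have h3 : (QuotientGroup.mk g : GG cx T) * iotaG' cx T ⟨q, cx.hQ.1 q.2⟩ *
        (QuotientGroup.mk g : GG cx T)⁻¹ = QuotientGroup.mk (g * iotaN cx ⟨q, cx.hQ.1 q.2⟩ * g⁻¹) := rfl
    rw [h3, conj_iotaN cx g (nuN_induces cx g) q] at h2
    have h4 := iotaG'_injective cx T h2
    exact congrArg (fun z : S => (z : Ω)) h4
  have hgC : (g : Equiv.Perm (PX n)) ∈ CQ n cx.hQ.1 := by
    refine ⟨g.2.1, ?_⟩
    have := nuN_induces cx g
    rwa [hν1] at this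
  -- split off the central part
  obtain ⟨⟨c', hc'⟩, hc'r⟩ : ∃ c' : CQ n cx.hQ.1, ∃ z : Subgroup.center ↥Q,
      c' = ⟨aZ n cx.hQ.1 z, aZ_mem_CQ cx z⟩ ∧ r0 cx T.1 c' = r0 cx T.1 ⟨g, hgC⟩ := by
    have hQS := cx.hQ.1
    haveI : Finite ↥Q := Finite.of_injective (Subgroup.inclusion hQS) (Subgroup.inclusion_injective hQS)
    have hinj : Function.Injective
        (fun z : Subgroup.center ↥Q => z ^ Nat.card (Ow (aZ n hQS) (WT F n Q T.1))) := by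
      intro z z' h
      have h1 : (z * z'⁻¹) ^ Nat.card (Ow (aZ n hQS) (WT F n Q T.1)) = 1 := by
        rw [mul_pow, inv_pow]
        have : z ^ Nat.card (Ow (aZ n hQS) (WT F n Q T.1)) =
            z' ^ Nat.card (Ow (aZ n hQS) (WT F n Q T.1)) := h
        rw [this, mul_inv_cancel]
      have h2 := eq_one_of_pow_eq_one (isPGroup_center cx) (card_Ow cx T.2) h1
      exact mul_inv_eq_one.mp h2
    obtain ⟨z, hz⟩ := Finite.injective_iff_surjective.mp hinj (r0 cx T.1 ⟨g, hgC⟩)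
    refine ⟨_, z, rfl, ?_⟩
    rw [r0_aZ]
    exact hz
  obtain ⟨z, hz, hr⟩ := hc'r
  have hc'1 : c' = aZ n cx.hQ.1 z := congrArg Subtype.val hz
  have hmem : (⟨c', CQ_le_NQ hc'⟩ : NN cx)⁻¹ * g ∈ KN cx T.1 := by
    have hmemC : (((⟨c', CQ_le_NQ hc'⟩ : NN cx)⁻¹ * g : NN cx) : Equiv.Perm (PX n)) ∈ CQ n cx.hQ.1 :=
      (CQ n cx.hQ.1).mul_mem ((CQ n cx.hQ.1).inv_mem hc') hgC
    refine ⟨hmemC, ?_⟩
    have : (⟨(((⟨c', CQ_le_NQ hc'⟩ : NN cx)⁻¹ * g : NN cx) : Equiv.Perm (PX n)), hmemC⟩ :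
        CQ n cx.hQ.1) = (⟨c', hc'⟩ : CQ n cx.hQ.1)⁻¹ * ⟨g, hgC⟩ := rfl
    rw [this, map_mul, map_inv, hr, inv_mul_cancel]
  have heq : (QuotientGroup.mk g : GG cx T) = QuotientGroup.mk (⟨c', CQ_le_NQ hc'⟩ : NN cx) :=
    (QuotientGroup.eq.mpr hmem).symm
  rw [heq]
  apply Qbar_le_pCore cx T
  have h5 : (⟨c', CQ_le_NQ hc'⟩ : NN cx) = iotaN cx ⟨((z : Q) : Ω), cx.hQ.1 (z : Q).2⟩ := by
    apply Subtype.ext
    show c' = lS n _
    rw [hc'1, aZ_apply]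
  rw [h5]
  exact mem_Qbar cx T (z : Q)

end Cfsg.Agent.Lib.Helper27.Mod
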