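import Mathlib
import Cfsg.Agent.Lib.Helper27.ModelCore

set_option autoImplicit false

/-! The model realizes the fusion system. -/

namespace Cfsg.Agent.Lib.Helper27.Mod

open Cfsg Cfsg.FusionSystem Cfsg.Agent.Lib.Helper27 Cfsg.Agent.Lib.Helper27.Park
open Cfsg.Agent.Lib.Helper27.CB Cfsg.Agent.Lib.Helper27.MD Classical IsMulCommutative

universe u

variable {Ω : Type u} [Group Ω] {S : Subgroup Ω} [Finite S] {p : ℕ} [Fact p.Prime]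
  {F : FusionSystem S} {Q : Subgroup Ω} {n : Subgroup (S × S) → ℕ}

theorem iotaN_injective (cx : Ctx p F Q n) : Function.Injective (iotaN cx) := by
  intro s s' h
  have h1 : lS n s = lS n s' := congrArg Subtype.val h
  exact lS_injective F cx.hn cx.nonempty h1

/-- Maps of the system are induced by conjugation in the model. -/
theorem realized_forward (cx : Ctx p F Q n) (T : Tr cx.hQ) {P : Subgroup Ω} (hP : P ≤ S) {φ : P →* Ω}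
    (hφS : ∀ x : P, φ x ∈ S) (hφ : φ ∈ F.Hom P) :
    ∃ g : GG cx T, ∀ x : P, iotaG' cx T ⟨φ x, hφS x⟩ = g * iotaG' cx T ⟨x, hP x.2⟩ * g⁻¹ := by
  have hQS := cx.hQ.1
  haveI : Finite ↥Q := Finite.of_injective (Subgroup.inclusion hQS) (Subgroup.inclusion_injective hQS)
  obtain ⟨ψ, hψ, h1, α, hα, h3⟩ := normal_exists_extension cx.hQ hφ
  obtain ⟨e, he⟩ := exists_conj F cx.hn cx.hst hψ
  have heP : ∀ u : ↥(P ⊔ Q), lS n ⟨ψ u, (F.le_of_mem hψ).2 u⟩ =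
      (e : Equiv.Perm (PX n)) * lS n ⟨u, hom_le F hψ u.2⟩ * (e : Equiv.Perm (PX n))⁻¹ := by
    intro u
    exact congrArg (fun z : Cent (rS n) => (z : Equiv.Perm (PX n))) (he u)
  have hind : Induces n hQS (e : Equiv.Perm (PX n)) α := by
    intro q
    have h4 := heP (Subgroup.inclusion le_sup_right q)
    rw [eq_mul_inv_iff_mul_eq] at h4
    rw [lQ_apply, lQ_apply]
    have e5 : (⟨((α q : Q) : Ω), hQS (α q).2⟩ : S) =
        ⟨ψ (Subgroup.inclusion le_sup_right q), (F.le_of_mem hψ).2 _⟩ := Subtype.ext (h3 q)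
    rw [e5]
    exact h4.symm
  have hαΓ : (α : MulAut Q) ∈ F.autGroup Q := (mem_autGroup_iff F hQS α).mpr hα
  obtain ⟨gN, hgN⟩ : ∃ gN : NN cx, (gN : Equiv.Perm (PX n)) = e := ⟨⟨e, e.2, α, hαΓ, hind⟩, rfl⟩
  refine ⟨QuotientGroup.mk gN, fun x => ?_⟩
  have h5 : (QuotientGroup.mk gN : GG cx T) * iotaG' cx T ⟨x, hP x.2⟩ *
      (QuotientGroup.mk gN : GG cx T)⁻¹ = QuotientGroup.mk (gN * iotaN cx ⟨x, hP x.2⟩ * gN⁻¹) := rfl
  rw [h5, iotaG'_apply]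
  congr 1
  apply Subtype.ext
  show lS n ⟨φ x, hφS x⟩ = (gN : Equiv.Perm (PX n)) * lS n ⟨x, hP x.2⟩ * (gN : Equiv.Perm (PX n))⁻¹
  rw [hgN]
  have h6 := heP (Subgroup.inclusion le_sup_left x)
  have e7 : (⟨φ x, hφS x⟩ : S) =
      ⟨ψ (Subgroup.inclusion le_sup_left x), (F.le_of_mem hψ).2 _⟩ := Subtype.ext (h1 x).symm
  rw [e7]
  exact h6

/-- If `g ι(x) g⁻¹ ≡ ι(y)` modulo `K` then `ν c_x = c_y ν`. -/
theorem nu_conj (cx : Ctx p F Q n) (T : Tr cx.hQ) (gN : NN cx) {ν : MulAut Q}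
    (hν : Induces n cx.hQ.1 (gN : Equiv.Perm (PX n)) ν) (x y : S)
    (hk : (gN * iotaN cx x * gN⁻¹)⁻¹ * iotaN cx y ∈ KN cx T.1) :
    ν * cQ cx.hQ x = cQ cx.hQ y * ν := by
  ext q
  obtain ⟨k, hkdef⟩ : ∃ k : NN cx, k = (gN * iotaN cx x * gN⁻¹)⁻¹ * iotaN cx y := ⟨_, rfl⟩
  rw [← hkdef] at hk
  obtain ⟨hkC, -⟩ := hk
  have h1 := conj_iotaN cx gN hν q
  have h2 := conj_iotaN cx gN hν (cQ cx.hQ x q)
  have h3 : iotaN cx ⟨((cQ cx.hQ x q : Q) : Ω), cx.hQ.1 (cQ cx.hQ x q).2⟩ =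
      iotaN cx x * iotaN cx ⟨q, cx.hQ.1 q.2⟩ * (iotaN cx x)⁻¹ := by
    rw [← map_inv, ← map_mul, ← map_mul]
    congr 1
  have hkc : k * iotaN cx ⟨(ν q : Q), cx.hQ.1 (ν q).2⟩ = iotaN cx ⟨(ν q : Q), cx.hQ.1 (ν q).2⟩ * k := by
    apply Subtype.ext
    exact CQ_comm hkC (ν q)
  have e2 : gN * iotaN cx x * gN⁻¹ = iotaN cx y * k⁻¹ := by
    rw [hkdef]
    group
  have e4 : k⁻¹ * iotaN cx ⟨(ν q : Q), cx.hQ.1 (ν q).2⟩ * k = iotaN cx ⟨(ν q : Q), cx.hQ.1 (ν q).2⟩ := by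
    rw [mul_assoc, ← hkc, inv_mul_cancel_left]
  have h5 : iotaN cx ⟨((ν (cQ cx.hQ x q) : Q) : Ω), cx.hQ.1 (ν (cQ cx.hQ x q)).2⟩ =
      iotaN cx (y * ⟨(ν q : Q), cx.hQ.1 (ν q).2⟩ * y⁻¹) := by
    rw [← h2, h3]
    have e1 : gN * (iotaN cx x * iotaN cx ⟨q, cx.hQ.1 q.2⟩ * (iotaN cx x)⁻¹) * gN⁻¹ =
        (gN * iotaN cx x * gN⁻¹) * (gN * iotaN cx ⟨q, cx.hQ.1 q.2⟩ * gN⁻¹) *
          (gN * iotaN cx x * gN⁻¹)⁻¹ := by group
    rw [e1, h1, e2]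
    have e3 : iotaN cx y * k⁻¹ * iotaN cx ⟨(ν q : Q), cx.hQ.1 (ν q).2⟩ * (iotaN cx y * k⁻¹)⁻¹ =
        iotaN cx y * (k⁻¹ * iotaN cx ⟨(ν q : Q), cx.hQ.1 (ν q).2⟩ * k) * (iotaN cx y)⁻¹ := by group
    rw [e3, e4, map_mul, map_mul, map_inv]
  have h6 := iotaN_injective cx h5
  exact congrArg (fun z : S => (z : Ω)) h6

end Cfsg.Agent.Lib.Helper27.Mod
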