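import Mathlib
import Cfsg.Agent.Lib.Helper27.ModelFusion

set_option autoImplicit false

/-! Conjugation in the model induces maps of the fusion system. -/

namespace Cfsg.Agent.Lib.Helper27.Mod

open Cfsg Cfsg.FusionSystem Cfsg.Agent.Lib.Helper27 Cfsg.Agent.Lib.Helper27.Park
open Cfsg.Agent.Lib.Helper27.CB Cfsg.Agent.Lib.Helper27.MD Classical IsMulCommutative

universe u

variable {Ω : Type u} [Group Ω] {S : Subgroup Ω} [Finite S] {p : ℕ} [Fact p.Prime]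
  {F : FusionSystem S} {Q : Subgroup Ω} {n : Subgroup (S × S) → ℕ}

/-- The exponent of the power map induced by `r0` on the centre of `Q`. -/
noncomputable abbrev NOw (cx : Ctx p F Q n) (T : Tr cx.hQ) : ℕ :=
  Nat.card (Ow (aZ n cx.hQ.1) (WT F n Q T.1))

theorem pow_injective (cx : Ctx p F Q n) (T : Tr cx.hQ) :
    Function.Injective (fun z : Subgroup.center ↥Q => z ^ NOw cx T) := by
  intro z z' h
  have h1 : (z * z'⁻¹) ^ NOw cx T = 1 := by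
    rw [mul_pow, inv_pow]
    have : z ^ NOw cx T = z' ^ NOw cx T := h
    rw [this, mul_inv_cancel]
  have h2 := eq_one_of_pow_eq_one (isPGroup_center cx) (card_Ow cx T.2) h1
  exact mul_inv_eq_one.mp h2

theorem pow_surjective (cx : Ctx p F Q n) (T : Tr cx.hQ) :
    Function.Surjective (fun z : Subgroup.center ↥Q => z ^ NOw cx T) := by
  have hQS := cx.hQ.1
  haveI : Finite ↥Q := Finite.of_injective (Subgroup.inclusion hQS) (Subgroup.inclusion_injective hQS)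
  exact Finite.injective_iff_surjective.mp (pow_injective cx T)

/-- Extension of an automorphism of `Q` to `P ⊔ Q`. -/
theorem exists_ext (cx : Ctx p F Q n) {ν : MulAut Q} (hν : ν ∈ F.autGroup Q) {P : Subgroup Ω}
    (hP : P ≤ S) (φ : P →* Ω) (hφS : ∀ x : P, φ x ∈ S)
    (hA : ∀ x : P, ν * cQ cx.hQ ⟨x, hP x.2⟩ = cQ cx.hQ ⟨φ x, hφS x⟩ * ν) :
    ∃ ψ ∈ F.Hom (P ⊔ Q), ∀ q : Q, ψ (Subgroup.inclusion le_sup_right q) = ((ν q : Q) : Ω) := by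
  have hQS := cx.hQ.1
  have he : IsIso F (ν : Q ≃* Q) := (mem_autGroup_iff F hQS ν).mp hν
  have hrec := weaklyClosed_isReceptive cx.hF (normal_weaklyClosed cx.hQ)
  obtain ⟨ψ, hψ, hψe⟩ := receptive_exists_extension hrec he
  have hle : P ⊔ Q ≤ extender S Q (Q.subtype.comp (ν : Q ≃* Q).toMonoidHom) := by
    apply sup_le
    · intro x hx
      rw [mem_extender_iff]
      refine ⟨hP hx, normal_le_normalizer cx.hQ (hP hx), φ ⟨x, hx⟩, hφS _, fun q hq => ?_⟩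
      have h1 := congrArg (fun μ : MulAut Q => ((μ q : Q) : Ω)) (hA ⟨x, hx⟩)
      simp only [MulAut.mul_apply] at h1
      rw [cQ_apply] at h1
      have h2 : cQ cx.hQ ⟨x, hP hx⟩ q = ⟨x * (q : Ω) * x⁻¹, hq⟩ := Subtype.ext rfl
      rw [h2] at h1
      exact h1
    · exact le_extender_of_isIso he
  refine ⟨ψ.comp (Subgroup.inclusion hle), hom_restrict F hle hψ, fun q => ?_⟩
  exact hψe q q.2 _

/-- The two extensions differ by an element centralizing `Q`. -/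
theorem zeta_mem (cx : Ctx p F Q n) {ν : MulAut Q} {P : Subgroup Ω} (hP : P ≤ S) (φ : P →* Ω)
    (hφS : ∀ x : P, φ x ∈ S)
    (hA : ∀ x : P, ν * cQ cx.hQ ⟨x, hP x.2⟩ = cQ cx.hQ ⟨φ x, hφS x⟩ * ν)
    {ψ : ↥(P ⊔ Q) →* Ω} (hψ : ψ ∈ F.Hom (P ⊔ Q))
    (hψν : ∀ q : Q, ψ (Subgroup.inclusion le_sup_right q) = ((ν q : Q) : Ω)) (x : P) :
    (φ x)⁻¹ * ψ (Subgroup.inclusion le_sup_left x) ∈ centralizerIn S Q := by
  rw [mem_centralizerIn_iff]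
  refine ⟨S.mul_mem (S.inv_mem (hφS x)) ((F.le_of_mem hψ).2 _), fun y hy => ?_⟩
  obtain ⟨q, hq⟩ : ∃ q : Q, ((ν q : Q) : Ω) = y := ⟨ν⁻¹ ⟨y, hy⟩, by simp⟩
  have hconj : ψ (Subgroup.inclusion le_sup_left x) * y * (ψ (Subgroup.inclusion le_sup_left x))⁻¹ =
      φ x * y * (φ x)⁻¹ := by
    rw [← hq, ← hψν q, ← map_inv, ← map_mul, ← map_mul]
    have h2 : (Subgroup.inclusion le_sup_left x * Subgroup.inclusion le_sup_right q *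
        (Subgroup.inclusion le_sup_left x)⁻¹ : ↥(P ⊔ Q)) =
        Subgroup.inclusion le_sup_right (cQ cx.hQ ⟨x, hP x.2⟩ q) := Subtype.ext rfl
    rw [h2, hψν]
    have h1 := congrArg (fun μ : MulAut Q => ((μ q : Q) : Ω)) (hA x)
    simp only [MulAut.mul_apply] at h1
    rw [h1, cQ_apply, hψν q]
  have h3 : ψ (Subgroup.inclusion le_sup_left x) * y =
      φ x * y * (φ x)⁻¹ * ψ (Subgroup.inclusion le_sup_left x) := by
    rw [← hconj]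
    group
  calc y * ((φ x)⁻¹ * ψ (Subgroup.inclusion le_sup_left x))
      = (φ x)⁻¹ * (φ x * y * (φ x)⁻¹ * ψ (Subgroup.inclusion le_sup_left x)) := by group
    _ = (φ x)⁻¹ * ψ (Subgroup.inclusion le_sup_left x) * y := by rw [← h3]; group

theorem cenAut_mul {Q : Type*} [Group Q] (ν μ : MulAut Q) (z : Subgroup.center Q) :
    cenAut (ν * μ) z = cenAut ν (cenAut μ z) := rfl

/-- The key computation with the retraction. -/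
theorem r0_key (cx : Ctx p F Q n) (T : Tr cx.hQ) (gN hN : NN cx) {ν : MulAut Q}
    (hνΓ : ν ∈ F.autGroup Q) (hgν : Induces n cx.hQ.1 (gN : Equiv.Perm (PX n)) ν)
    (hhν : Induces n cx.hQ.1 (hN : Equiv.Perm (PX n)) ν) (x y y' : S) (z : Subgroup.center ↥Q)
    (hk : (gN * iotaN cx x * gN⁻¹)⁻¹ * iotaN cx y ∈ KN cx T.1)
    (hy' : iotaN cx y' = hN * iotaN cx x * hN⁻¹)
    (hz : ((z : Q) : Ω) = (y : Ω)⁻¹ * y')
    (hcC : ((hN⁻¹ * gN : NN cx) : Equiv.Perm (PX n)) ∈ CQ n cx.hQ.1) :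
    z ^ NOw cx T = cenAut ν (r0 cx T.1 ⟨_, hcC⟩) *
      cenAut (ν * (cQ cx.hQ x)⁻¹) (r0 cx T.1 ⟨_, hcC⟩)⁻¹ := by
  obtain ⟨c, hc⟩ : ∃ c : NN cx, c = hN⁻¹ * gN := ⟨_, rfl⟩
  obtain ⟨a, ha⟩ : ∃ a : NN cx, a = iotaN cx x := ⟨_, rfl⟩
  obtain ⟨k, hkdef⟩ : ∃ k : NN cx, k = (gN * iotaN cx x * gN⁻¹)⁻¹ * iotaN cx y := ⟨_, rfl⟩
  rw [← hkdef] at hk
  obtain ⟨hkC, hkr⟩ := hk
  have hcC' : (c : Equiv.Perm (PX n)) ∈ CQ n cx.hQ.1 := hc ▸ hcC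
  -- the identity in `N`
  have hid : iotaN cx (y⁻¹ * y') = k⁻¹ * (hN * (c * (a⁻¹ * c⁻¹ * a⁻¹⁻¹)) * hN⁻¹) := by
    rw [map_mul, map_inv, hy', hkdef, hc, ha]
    group
  have hidP : aZ n cx.hQ.1 z = (k : Equiv.Perm (PX n))⁻¹ * ((hN : Equiv.Perm (PX n)) *
      ((c : Equiv.Perm (PX n)) * ((a : Equiv.Perm (PX n))⁻¹ * (c : Equiv.Perm (PX n))⁻¹ *
        (a : Equiv.Perm (PX n))⁻¹⁻¹)) * (hN : Equiv.Perm (PX n))⁻¹) := by
    have h1 := congrArg (fun w : NN cx => (w : Equiv.Perm (PX n))) hid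
    rw [aZ_apply]
    have h2 : (⟨((z : Q) : Ω), cx.hQ.1 (z : Q).2⟩ : S) = y⁻¹ * y' := Subtype.ext hz
    rw [h2]
    exact h1
  -- memberships
  have haN : (a : Equiv.Perm (PX n))⁻¹ ∈ NN cx := (NN cx).inv_mem a.2
  have hm1 : (a : Equiv.Perm (PX n))⁻¹ * (c : Equiv.Perm (PX n))⁻¹ * (a : Equiv.Perm (PX n))⁻¹⁻¹ ∈
      CQ n cx.hQ.1 := conj_mem_CQ haN ((CQ n cx.hQ.1).inv_mem hcC')
  have hm2 : (c : Equiv.Perm (PX n)) * ((a : Equiv.Perm (PX n))⁻¹ * (c : Equiv.Perm (PX n))⁻¹ *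
      (a : Equiv.Perm (PX n))⁻¹⁻¹) ∈ CQ n cx.hQ.1 := (CQ n cx.hQ.1).mul_mem hcC' hm1
  have hm3 : (hN : Equiv.Perm (PX n)) * ((c : Equiv.Perm (PX n)) * ((a : Equiv.Perm (PX n))⁻¹ *
      (c : Equiv.Perm (PX n))⁻¹ * (a : Equiv.Perm (PX n))⁻¹⁻¹)) * (hN : Equiv.Perm (PX n))⁻¹ ∈
      CQ n cx.hQ.1 := conj_mem_CQ hN.2 hm2
  -- apply `r0`
  have hr1 : r0 cx T.1 ⟨aZ n cx.hQ.1 z, aZ_mem_CQ cx z⟩ = z ^ NOw cx T := r0_aZ cx T.1 z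
  have hr2 : r0 cx T.1 ⟨aZ n cx.hQ.1 z, aZ_mem_CQ cx z⟩ =
      (r0 cx T.1 ⟨k, hkC⟩)⁻¹ * r0 cx T.1 ⟨_, hm3⟩ := by
    rw [← map_inv, ← map_mul]
    congr 1
    exact Subtype.ext hidP
  have hr3 : r0 cx T.1 ⟨_, hm3⟩ = cenAut ν (r0 cx T.1 ⟨_, hm2⟩) :=
    r0_conj cx T.2 hN.2.1 hνΓ hhν ⟨_, hm2⟩ hm3
  have hr4 : r0 cx T.1 ⟨_, hm2⟩ = r0 cx T.1 ⟨c, hcC'⟩ * r0 cx T.1 ⟨_, hm1⟩ := by
    rw [← map_mul]
    rfl
  have hxinv : Induces n cx.hQ.1 (a : Equiv.Perm (PX n))⁻¹ (cQ cx.hQ x)⁻¹ := by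
    rw [ha]
    exact (lS_induces cx.hQ n x).inv
  have hr5 : r0 cx T.1 ⟨_, hm1⟩ = cenAut (cQ cx.hQ x)⁻¹ (r0 cx T.1 ⟨(c : Equiv.Perm (PX n))⁻¹,
      (CQ n cx.hQ.1).inv_mem hcC'⟩) :=
    r0_conj cx T.2 haN.1 ((F.autGroup Q).inv_mem (cQ_mem_autGroup cx.hQ x)) hxinv
      ⟨_, (CQ n cx.hQ.1).inv_mem hcC'⟩ hm1
  have hr6 : r0 cx T.1 ⟨(c : Equiv.Perm (PX n))⁻¹, (CQ n cx.hQ.1).inv_mem hcC'⟩ =
      (r0 cx T.1 ⟨c, hcC'⟩)⁻¹ := by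
    rw [← map_inv]
    rfl
  have hcc : (⟨((hN⁻¹ * gN : NN cx) : Equiv.Perm (PX n)), hcC⟩ : CQ n cx.hQ.1) = ⟨c, hcC'⟩ := by
    apply Subtype.ext
    show ((hN⁻¹ * gN : NN cx) : Equiv.Perm (PX n)) = (c : Equiv.Perm (PX n))
    exact congrArg (fun w : NN cx => (w : Equiv.Perm (PX n))) hc.symm
  rw [hcc, ← hr1, hr2, hkr, inv_one, one_mul, hr3, hr4, hr5, hr6, map_mul, cenAut_mul]

end Cfsg.Agent.Lib.Helper27.Mod
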