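import Mathlib
import Cfsg.Agent.Lib.Helper27.ModelFusionB

set_option autoImplicit false

/-! Conjugation in the model induces maps of the fusion system: the converse direction. -/

namespace Cfsg.Agent.Lib.Helper27.Mod

open Cfsg Cfsg.FusionSystem Cfsg.Agent.Lib.Helper27 Cfsg.Agent.Lib.Helper27.Park
open Cfsg.Agent.Lib.Helper27.CB Cfsg.Agent.Lib.Helper27.MD Classical IsMulCommutative

universe u

variable {Ω : Type u} [Group Ω] {S : Subgroup Ω} [Finite S] {p : ℕ} [Fact p.Prime]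
  {F : FusionSystem S} {Q : Subgroup Ω} {n : Subgroup (S × S) → ℕ}

/-- Pure group computation used at the end. -/
theorem conj_of_eq {G : Type*} [Group G] {a b v : G} (hE : a⁻¹ * b = v * (a⁻¹ * v⁻¹ * a⁻¹⁻¹))
    (hC : (a * v * a⁻¹) * v = v * (a * v * a⁻¹)) : a = v * b * v⁻¹ := by
  have hb : b = a * v * a⁻¹ * v⁻¹ * a := by
    have h1 : b = a * (a⁻¹ * b) := by group
    rw [h1, hE]
    group
  calc a = (a * v * a⁻¹) * v * v⁻¹ * a * v⁻¹ := by group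
    _ = v * (a * v * a⁻¹) * v⁻¹ * a * v⁻¹ := by rw [hC]
    _ = v * b * v⁻¹ := by rw [hb]; group

/-- Conjugating a map of the system by an element of `S`. -/
theorem conj_hom_mem (F : FusionSystem S) {P : Subgroup Ω} {χ φ : P →* Ω} (hχ : χ ∈ F.Hom P) {v : Ω}
    (hv : v ∈ S) (h : ∀ x : P, φ x = v * χ x * v⁻¹) : φ ∈ F.Hom P := by
  have h1 : conjHom χ.range v ∈ F.Hom χ.range := F.conj_mem (hom_range_le F hχ) hv
  have h2 := hom_comp F hχ h1 (fun x => ⟨x, rfl⟩)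
  have h3 : φ = (conjHom χ.range v).comp (χ.codRestrict χ.range (fun x => ⟨x, rfl⟩)) := by
    ext x
    rw [h x]
    rfl
  rw [h3]
  exact h2

/-- Conjugation in the model between subgroups of `S` is a map of the system. -/
theorem realized_backward (cx : Ctx p F Q n) (T : Tr cx.hQ) {P : Subgroup Ω} (hP : P ≤ S) {φ : P →* Ω}
    (hφS : ∀ x : P, φ x ∈ S) (g : GG cx T)
    (hg : ∀ x : P, iotaG' cx T ⟨φ x, hφS x⟩ = g * iotaG' cx T ⟨x, hP x.2⟩ * g⁻¹) :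
    φ ∈ F.Hom P := by
  have hQS := cx.hQ.1
  haveI : Finite ↥Q := Finite.of_injective (Subgroup.inclusion hQS) (Subgroup.inclusion_injective hQS)
  obtain ⟨gN, rfl⟩ := QuotientGroup.mk_surjective g
  obtain ⟨hg1, ν, hνΓ, hgν⟩ := gN.2
  have hk : ∀ x : P, (gN * iotaN cx ⟨x, hP x.2⟩ * gN⁻¹)⁻¹ * iotaN cx ⟨φ x, hφS x⟩ ∈ KN cx T.1 := by
    intro x
    have h := hg x
    rw [iotaG'_apply, iotaG'_apply] at h
    have h5 : (QuotientGroup.mk gN : GG cx T) * QuotientGroup.mk (iotaN cx ⟨x, hP x.2⟩) *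
        (QuotientGroup.mk gN : GG cx T)⁻¹ = QuotientGroup.mk (gN * iotaN cx ⟨x, hP x.2⟩ * gN⁻¹) := rfl
    rw [h5] at h
    exact QuotientGroup.eq.mp h.symm
  have hA : ∀ x : P, ν * cQ cx.hQ ⟨x, hP x.2⟩ = cQ cx.hQ ⟨φ x, hφS x⟩ * ν :=
    fun x => nu_conj cx T gN hgν _ _ (hk x)
  obtain ⟨ψ, hψ, hψν⟩ := exists_ext cx hνΓ hP φ hφS hA
  obtain ⟨e, he⟩ := exists_conj F cx.hn cx.hst hψ
  have heP : ∀ u : ↥(P ⊔ Q), lS n ⟨ψ u, (F.le_of_mem hψ).2 u⟩ =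
      (e : Equiv.Perm (PX n)) * lS n ⟨u, hom_le F hψ u.2⟩ * (e : Equiv.Perm (PX n))⁻¹ := by
    intro u
    exact congrArg (fun z : Cent (rS n) => (z : Equiv.Perm (PX n))) (he u)
  have hind : Induces n hQS (e : Equiv.Perm (PX n)) ν := by
    intro q
    have h4 := heP (Subgroup.inclusion le_sup_right q)
    rw [eq_mul_inv_iff_mul_eq] at h4
    rw [lQ_apply, lQ_apply]
    have e5 : (⟨((ν q : Q) : Ω), hQS (ν q).2⟩ : S) =
        ⟨ψ (Subgroup.inclusion le_sup_right q), (F.le_of_mem hψ).2 _⟩ := Subtype.ext (hψν q).symm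
    rw [e5]
    exact h4.symm
  obtain ⟨hN, hhN⟩ : ∃ hN : NN cx, (hN : Equiv.Perm (PX n)) = e := ⟨⟨e, e.2, ν, hνΓ, hind⟩, rfl⟩
  have hhν : Induces n hQS (hN : Equiv.Perm (PX n)) ν := by
    rw [hhN]
    exact hind
  have hcC : ((hN⁻¹ * gN : NN cx) : Equiv.Perm (PX n)) ∈ CQ n hQS := by
    refine ⟨(hN⁻¹ * gN).2.1, ?_⟩
    have h1 := hhν.inv.mul hgν
    rw [inv_mul_cancel] at h1
    exact h1
  obtain ⟨v₀, hv₀⟩ := pow_surjective cx T (cenAut ν (r0 cx T.1 ⟨_, hcC⟩))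
  have hv₀' : v₀ ^ NOw cx T = cenAut ν (r0 cx T.1 ⟨_, hcC⟩) := hv₀
  have hmain : ∀ x : P, φ x = ((v₀ : Q) : Ω) * (ψ.comp (Subgroup.inclusion le_sup_left)) x *
      ((v₀ : Q) : Ω)⁻¹ := by
    intro x
    have hzmem := zeta_mem cx hP φ hφS hA hψ hψν x
    have hzQ : (φ x)⁻¹ * ψ (Subgroup.inclusion le_sup_left x) ∈ Q :=
      cx.hQc.2 Q (isConj_refl F hQS) hzmem
    obtain ⟨z, hz⟩ : ∃ z : Subgroup.center ↥Q,
        ((z : Q) : Ω) = (φ x)⁻¹ * ψ (Subgroup.inclusion le_sup_left x) := by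
      rw [mem_centralizerIn_iff] at hzmem
      refine ⟨⟨⟨_, hzQ⟩, ?_⟩, rfl⟩
      rw [Subgroup.mem_center_iff]
      intro q
      apply Subtype.ext
      exact hzmem.2 q q.2
    have hy' : iotaN cx ⟨ψ (Subgroup.inclusion le_sup_left x), (F.le_of_mem hψ).2 _⟩ =
        hN * iotaN cx ⟨x, hP x.2⟩ * hN⁻¹ := by
      apply Subtype.ext
      show lS n _ = (hN : Equiv.Perm (PX n)) * lS n ⟨x, _⟩ * (hN : Equiv.Perm (PX n))⁻¹
      rw [hhN]
      exact heP (Subgroup.inclusion le_sup_left x)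
    have key := r0_key cx T gN hN hνΓ hgν hhν ⟨x, hP x.2⟩ ⟨φ x, hφS x⟩
      ⟨ψ (Subgroup.inclusion le_sup_left x), (F.le_of_mem hψ).2 _⟩ z (hk x) hy' hz hcC
    have hB : ν * (cQ cx.hQ ⟨x, hP x.2⟩)⁻¹ = (cQ cx.hQ ⟨φ x, hφS x⟩)⁻¹ * ν := by
      rw [eq_inv_mul_iff_mul_eq, ← mul_assoc, mul_inv_eq_iff_eq_mul]
      exact (hA x).symm
    rw [hB, cenAut_mul, map_inv, ← hv₀', ← map_inv (cQ cx.hQ), ← inv_pow, map_pow, ← mul_pow] at key
    have hzv := pow_injective cx T key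
    -- read in `Ω`
    have hE : (φ x)⁻¹ * ψ (Subgroup.inclusion le_sup_left x) =
        ((v₀ : Q) : Ω) * ((φ x)⁻¹ * ((v₀ : Q) : Ω)⁻¹ * (φ x)⁻¹⁻¹) := by
      rw [← hz, hzv]
      rfl
    have hC : (φ x * ((v₀ : Q) : Ω) * (φ x)⁻¹) * ((v₀ : Q) : Ω) =
        ((v₀ : Q) : Ω) * (φ x * ((v₀ : Q) : Ω) * (φ x)⁻¹) := by
      have h1 := (Subgroup.mem_center_iff.mp v₀.2) (cQ cx.hQ ⟨φ x, hφS x⟩ (v₀ : Q))
      exact congrArg (fun q : Q => (q : Ω)) h1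
    exact conj_of_eq hE hC
  have hχ := hom_restrict F (le_sup_left : P ≤ P ⊔ Q) hψ
  exact conj_hom_mem F hχ (hQS (v₀ : Q).2) hmain

end Cfsg.Agent.Lib.Helper27.Mod
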