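import Mathlib
import Cfsg.Agent.Lib.Helper27.ModelFusionC

set_option autoImplicit false

/-! The Model Theorem (existence). -/

namespace Cfsg.Agent.Lib.Helper27.Mod

open Cfsg Cfsg.FusionSystem Cfsg.Agent.Lib.Helper27 Cfsg.Agent.Lib.Helper27.Park
open Cfsg.Agent.Lib.Helper27.CB Cfsg.Agent.Lib.Helper27.MD Classical IsMulCommutative

universe u

variable {Ω : Type u} [Group Ω] {S : Subgroup Ω} [Finite S] {p : ℕ} [Fact p.Prime]
  {F : FusionSystem S} {Q : Subgroup Ω} {n : Subgroup (S × S) → ℕ}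

theorem isModel_GG (cx : Ctx p F Q n) (T : Tr cx.hQ) : F.IsModel p (GG cx T) (iotaG' cx T) := by
  refine ⟨(exists_sylow_GG cx T).1, ⟨iotaG'_injective cx T, fun P hP φ hφ => ⟨fun h => ?_, ?_⟩⟩,
    (exists_sylow_GG cx T).2, centralizer_pCore_le cx T⟩
  · exact realized_forward cx T hP hφ h
  · rintro ⟨g, hg⟩
    exact realized_backward cx T hP hφ g hg

/-- Model Theorem, existence, relative to a given normal centric subgroup. -/
theorem exists_model_of_normal_centric (hS : IsPGroup p S) (hF : F.IsSaturated p)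
    (hQ : F.IsNormal Q) (hQc : F.IsCentric Q) :
    ∃ (G : Type u) (_ : Group G) (ι : S →* G), F.IsModel p G ι := by
  obtain ⟨n, hn, hst, hk⟩ := exists_charBiset hS hF
  have cx : Ctx p F Q n := ⟨hS, hF, hQ, hQc, hn, hst, hk⟩
  obtain ⟨T⟩ : Nonempty (Tr cx.hQ) := by
    obtain ⟨T, hT⟩ := exists_isTr cx.hQ
    exact ⟨⟨T, hT⟩⟩
  exact ⟨GG cx T, inferInstance, iotaG' cx T, isModel_GG cx T⟩

/-- Model Theorem, existence. -/
theorem exists_model (hS : IsPGroup p S) (hF : F.IsConstrained p) :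
    ∃ (G : Type u) (_ : Group G) (ι : S →* G), F.IsModel p G ι := by
  obtain ⟨hsat, Q, hQ, hQc⟩ := hF
  exact exists_model_of_normal_centric hS hsat hQ hQc

end Cfsg.Agent.Lib.Helper27.Mod
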