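import Mathlib
import Cfsg.Agent.S5132
import Cfsg.Agent.Lib.Helper27.LGQuot
import Cfsg.Agent.Lib.Helper27.ModelMain

set_option autoImplicit false

/-! Auxiliary lemmas for the local-to-global theorem. -/

namespace Cfsg.Agent.Lib.Helper27.LG

open Cfsg Cfsg.FusionSystem Cfsg.Agent.Lib.Helper27 Cfsg.Agent.H26

universe u

section aux

variable {Ω : Type*} [Group Ω] {S : Subgroup Ω}

/-- Conjugation by an element normalizing `T` preserves a characteristic subgroup of `T`. -/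
theorem char_conj_mem {T V : Subgroup Ω} (hVT : V ≤ T) (hchar : (V.subgroupOf T).Characteristic) {g : Ω}
    (hg : g ∈ Subgroup.normalizer (T : Set Ω)) {y : Ω} (hy : y ∈ V) : g * y * g⁻¹ ∈ V := by
  have hgN : g ∈ normalizerIn ⊤ T := ⟨Subgroup.mem_top g, hg⟩
  have h7 : (V.subgroupOf T).map (conjAutHom ⊤ T ⟨g, hgN⟩ : T ≃* T).toMonoidHom = V.subgroupOf T :=
    Subgroup.characteristic_iff_map_eq.mp hchar _
  have h8 : (conjAutHom ⊤ T ⟨g, hgN⟩ : T ≃* T).toMonoidHom ⟨y, hVT hy⟩ ∈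
      (V.subgroupOf T).map (conjAutHom ⊤ T ⟨g, hgN⟩ : T ≃* T).toMonoidHom :=
    Subgroup.mem_map_of_mem _ (Subgroup.mem_subgroupOf.mpr hy)
  rw [h7] at h8
  exact Subgroup.mem_subgroupOf.mp h8

/-- The normalizer in `S` of a characteristic subgroup of `T` contains that of `T`. -/
theorem normalizerIn_le_of_char {T V : Subgroup Ω} [Finite V] (hVT : V ≤ T)
    (hchar : (V.subgroupOf T).Characteristic) : normalizerIn S T ≤ normalizerIn S V := by
  intro g hg
  refine ⟨hg.1, ?_⟩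
  apply mem_normalizer_of_conj_mem
  intro y hy
  exact char_conj_mem hVT hchar hg.2 hy

/-- A characteristic subgroup of `S` is normalized by `S`. -/
theorem normalizerIn_eq_of_char {V : Subgroup Ω} [Finite V] (hVS : V ≤ S)
    (hchar : (V.subgroupOf S).Characteristic) : normalizerIn S V = S := by
  apply le_antisymm inf_le_left
  intro g hg
  refine ⟨hg, ?_⟩
  apply mem_normalizer_of_conj_mem
  intro y hy
  exact char_conj_mem hVS hchar (Subgroup.le_normalizer hg) hy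

/-- If `S` normalizes `U` it normalizes `U C_S(U)`. -/
theorem normalizerIn_sup_centralizerIn [Finite S] {U : Subgroup Ω} (hUS : U ≤ S)
    (hU : normalizerIn S U = S) : normalizerIn S (U ⊔ centralizerIn S U) = S := by
  apply le_antisymm inf_le_left
  intro g hg
  have hRS : U ⊔ centralizerIn S U ≤ S := sup_le hUS (centralizerIn_le_S S U)
  haveI : Finite ↥(U ⊔ centralizerIn S U) :=
    Finite.of_injective (Subgroup.inclusion hRS) (Subgroup.inclusion_injective hRS)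
  have hgN : g ∈ normalizerIn S U := by rw [hU]; exact hg
  have hgN' : g⁻¹ ∈ normalizerIn S U := (normalizerIn S U).inv_mem hgN
  refine ⟨hg, ?_⟩
  apply mem_normalizer_of_conj_mem
  have hle : U ⊔ centralizerIn S U ≤
      (U ⊔ centralizerIn S U).comap (MulAut.conj g).toMonoidHom := by
    apply sup_le
    · intro y hy
      rw [Subgroup.mem_comap]
      exact Subgroup.mem_sup_left (conj_mem_of_mem_normalizerIn hgN hy)
    · intro c hc
      rw [Subgroup.mem_comap]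
      apply Subgroup.mem_sup_right
      rw [mem_centralizerIn_iff] at hc ⊢
      refine ⟨S.mul_mem (S.mul_mem hg hc.1) (S.inv_mem hg), fun u hu => ?_⟩
      have hu' : g⁻¹ * u * g⁻¹⁻¹ ∈ U := conj_mem_of_mem_normalizerIn hgN' hu
      have h1 := hc.2 _ hu'
      show u * (g * c * g⁻¹) = g * c * g⁻¹ * u
      have h2 : u * (g * c * g⁻¹) = g * ((g⁻¹ * u * g⁻¹⁻¹) * c) * g⁻¹ := by group
      rw [h2, h1]
      group
  intro y hy
  exact hle hy

/-- A subgroup normalized by `S` is fully normalized. -/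
theorem isFullyNormalized_of_normal [Finite S] (F : FusionSystem S) {V : Subgroup Ω} (hVS : V ≤ S)
    (hV : normalizerIn S V = S) : F.IsFullyNormalized V := by
  refine ⟨hVS, fun Q _ => ?_⟩
  rw [hV]
  exact Subgroup.card_le_of_le inf_le_left

theorem ne_bot_of_isConj {F : FusionSystem S} {V V' : Subgroup Ω} (h : F.IsConj V V') (hV : V ≠ ⊥) :
    V' ≠ ⊥ := by
  obtain ⟨e, -⟩ := (isConj_iff F).mp h
  rintro rfl
  apply hV
  rw [Subgroup.eq_bot_iff_forall]
  intro x hx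
  have h1 : e ⟨x, hx⟩ = 1 := Subtype.ext (Subgroup.mem_bot.mp (e ⟨x, hx⟩).2)
  have h2 : (⟨x, hx⟩ : V) = 1 := by
    rw [← e.map_eq_one_iff]
    exact h1
  exact congrArg Subtype.val h2

/-- If `Aut_F(V)` is not a `p`-group then `V` is bad. -/
theorem bad_of_not_isPGroup [Finite S] {p : ℕ} [Fact p.Prime] {F : FusionSystem S} {V : Subgroup Ω}
    (hVS : V ≤ S) (h : ¬ IsPGroup p (F.autGroup V)) : Bad p F V := by
  haveI : Finite ↥V := Finite.of_injective (Subgroup.inclusion hVS) (Subgroup.inclusion_injective hVS)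
  haveI : Finite (MulAut ↥V) := Finite.of_injective (fun e : MulAut ↥V => (e : ↥V → ↥V))
    (fun e e' h => MulEquiv.ext (congrFun h))
  by_contra hcon
  apply h
  apply isPGroup_of_coprime_trivial
  intro β m hm hβ
  by_contra hne
  apply hcon
  refine ⟨V, (β : MulAut V), le_rfl, le_normalizerIn hVS, (mem_autGroup_iff F hVS _).mp β.2,
    fun x _ => (_ : V).2, ?_, m, hm, ?_⟩
  · intro h1
    apply hne
    exact Subtype.ext h1
  · have := congrArg Subtype.val hβ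
    simpa using this

/-- A system over the trivial group has no nontrivial automorphisms. -/
theorem ne_bot_of_nonInner {p : ℕ} {F : FusionSystem S} (h : NonInner p F) : S ≠ ⊥ := by
  obtain ⟨P, α, hα, h1, -⟩ := h
  intro hS
  apply h1
  ext x
  have hx : (x : Ω) ∈ (⊥ : Subgroup Ω) := by
    rw [← hS]
    exact hα.le_left x.2
  have hαx : ((α x : P) : Ω) ∈ (⊥ : Subgroup Ω) := by
    rw [← hS]
    exact hα.le_left (α x).2
  rw [Subgroup.mem_bot] at hx hαx
  rw [hαx, MulAut.one_apply, hx]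

end aux

/-! ### The conclusion of the local-to-global theorem -/

/-- The conclusion: one of the designated subgroups is bad. -/
def Concl (𝒩 𝒞 𝒜 : ∀ (Ω : Type u) [Group Ω], Subgroup Ω → Set (Subgroup Ω)) (p : ℕ) {Ω : Type u} [Group Ω]
    {S : Subgroup Ω} (F : FusionSystem S) : Prop :=
  (∃ V ∈ 𝒩 Ω S, Bad p F V) ∨ (∃ V ∈ 𝒞 Ω S, BadC p F V) ∨ (∃ V ∈ 𝒜 Ω S, ¬ IsPGroup p (F.autGroup V))

/-- The hypotheses on the designated subgroups. -/
structure Good (𝒩 𝒞 𝒜 : ∀ (Ω : Type u) [Group Ω], Subgroup Ω → Set (Subgroup Ω)) (p : ℕ) : Prop where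
  char : ∀ (Ω : Type u) [Group Ω] (S : Subgroup Ω) [Finite S], IsPGroup p S → S ≠ ⊥ →
    ∀ V, (V ∈ 𝒩 Ω S ∨ V ∈ 𝒞 Ω S ∨ V ∈ 𝒜 Ω S) → V ≠ ⊥ ∧ V ≤ S ∧ (V.subgroupOf S).Characteristic
  model : ∀ (Ω : Type u) [Group Ω] (S : Subgroup Ω) [Finite S], IsPGroup p S → ∀ F : FusionSystem S,
    ∀ (G : Type u) [Group G] (ι : S →* G), F.IsModel p G ι → NonInner p F → Concl 𝒩 𝒞 𝒜 p F

theorem Concl.exists_bad {𝒩 𝒞 𝒜 : ∀ (Ω : Type u) [Group Ω], Subgroup Ω → Set (Subgroup Ω)} {p : ℕ}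
    [Fact p.Prime] (hgood : Good 𝒩 𝒞 𝒜 p) {Ω : Type u} [Group Ω] {S : Subgroup Ω} [Finite S]
    (hS : IsPGroup p S) (hS1 : S ≠ ⊥) {F : FusionSystem S} (h : Concl 𝒩 𝒞 𝒜 p F) :
    ∃ V : Subgroup Ω, V ≠ ⊥ ∧ V ≤ S ∧ (V.subgroupOf S).Characteristic ∧ Bad p F V := by
  rcases h with ⟨V, hV, hb⟩ | ⟨V, hV, hb⟩ | ⟨V, hV, hb⟩
  · obtain ⟨h1, h2, h3⟩ := hgood.char Ω S hS hS1 V (Or.inl hV)
    exact ⟨V, h1, h2, h3, hb⟩
  · obtain ⟨h1, h2, h3⟩ := hgood.char Ω S hS hS1 V (Or.inr (Or.inl hV))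
    exact ⟨V, h1, h2, h3, hb.bad⟩
  · obtain ⟨h1, h2, h3⟩ := hgood.char Ω S hS hS1 V (Or.inr (Or.inr hV))
    exact ⟨V, h1, h2, h3, bad_of_not_isPGroup h2 hb⟩

end Cfsg.Agent.Lib.Helper27.LG
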