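import Mathlib
import Cfsg.Agent.Lib.Helper27.LG2Sub
import Cfsg.Agent.Lib.Helper27.LGAux

set_option autoImplicit false

/-! The extremal choice in local-to-global arguments: a fully normalized subgroup whose normalizer
system is not contained in a given subsystem, with normalizer (and then order) as large as possible. -/

namespace Cfsg.Agent.Lib.Helper27.LG2

open Cfsg Cfsg.FusionSystem Cfsg.Agent.Lib.Helper27 Cfsg.Agent.Lib.Helper27.LG Cfsg.Agent.H26

variable {Ω : Type*} [Group Ω] {S : Subgroup Ω}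

/-- A map of `F` defined on `P ≥ V`, `P ≤ N_S(V)`, mapping `V` into itself is a map of `N_F(V)`. -/
theorem mem_normalizerHom_of_preserves (F : FusionSystem S) {V P : Subgroup Ω} [Finite V] (hVP : V ≤ P)
    (hPN : P ≤ normalizerIn S V) {φ : P →* Ω} (hφ : φ ∈ F.Hom P)
    (hV : ∀ x : P, (x : Ω) ∈ V → φ x ∈ V) : φ ∈ F.normalizerHom V P := by
  have hinj : Function.Injective (fun v : V => (⟨φ ⟨v, hVP v.2⟩, hV _ v.2⟩ : V)) := by
    intro v v' h
    have h1 : φ ⟨v, hVP v.2⟩ = φ ⟨v', hVP v'.2⟩ := congrArg (fun w : V => (w : Ω)) h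
    have h2 := F.injective_of_mem hφ h1
    exact Subtype.ext (congrArg (fun w : P => (w : Ω)) h2)
  have hsurj := Finite.injective_iff_surjective.mp hinj
  have hsurj' : ∀ y ∈ V, ∃ v : P, (v : Ω) ∈ V ∧ φ v = y := by
    intro y hy
    obtain ⟨v, hv⟩ := hsurj ⟨y, hy⟩
    exact ⟨⟨v, hVP v.2⟩, v.2, congrArg (fun w : V => (w : Ω)) hv⟩
  have hle : P ⊔ V ≤ P := sup_le le_rfl hVP
  refine ⟨hφ, hPN, fun x => ⟨(F.le_of_mem hφ).2 x, ?_⟩, φ.comp (Subgroup.inclusion hle),
    hom_restrict F hle hφ, fun x => rfl, ?_⟩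
  · apply mem_normalizer_of_conj_mem
    intro y hy
    obtain ⟨v, hv, rfl⟩ := hsurj' y hy
    have h1 : φ x * φ v * (φ x)⁻¹ = φ (x * v * x⁻¹) := by
      rw [map_mul, map_mul, map_inv]
    rw [h1]
    apply hV
    exact conj_mem_of_mem_normalizerIn (hPN x.2) hv
  · ext y
    constructor
    · rintro ⟨x, hx, rfl⟩
      exact hV (Subgroup.inclusion hle x) (Subgroup.mem_subgroupOf.mp hx)
    · intro hy
      obtain ⟨v, hv, rfl⟩ := hsurj' y hy
      exact ⟨Subgroup.inclusion (le_sup_left : P ≤ P ⊔ V) v, Subgroup.mem_subgroupOf.mpr hv, rfl⟩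

/-- A map of `N_F(V)` extends to a map of `F` on `P ⊔ V` mapping `V` onto `V`. -/
theorem normalizerHom_ext {F : FusionSystem S} {V P : Subgroup Ω} {φ : P →* Ω}
    (h : φ ∈ F.normalizerHom V P) :
    ∃ ψ ∈ F.Hom (P ⊔ V), φ = ψ.comp (Subgroup.inclusion le_sup_left) ∧
      (∀ x : ↥(P ⊔ V), (x : Ω) ∈ V → ψ x ∈ V) ∧ P ⊔ V ≤ normalizerIn S V ∧
      ∀ x : ↥(P ⊔ V), ψ x ∈ normalizerIn S V := by
  obtain ⟨hφ, hPN, hφN, ψ, hψ, hψφ, hψV⟩ := h
  have hVS : V ≤ S := le_sup_right.trans (hom_le F hψ)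
  have hVN : V ≤ normalizerIn S V := le_normalizerIn hVS
  have h1 : ∀ x : ↥(P ⊔ V), (x : Ω) ∈ V → ψ x ∈ V := by
    intro x hx
    have h0 : ψ x ∈ (V.subgroupOf (P ⊔ V)).map ψ := ⟨x, Subgroup.mem_subgroupOf.mpr hx, rfl⟩
    rwa [hψV] at h0
  refine ⟨ψ, hψ, ?_, h1, sup_le hPN hVN, ?_⟩
  · ext x
    exact (hψφ x).symm
  · have h2 := Cfsg.Agent.S5096.map_sup_le (R := normalizerIn S V) ψ
      (fun x => by rw [hψφ x]; exact hφN x)
      (fun x => h1 _ x.2)
    intro x
    have h3 := h2 x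
    have h4 : normalizerIn S V ⊔ V ≤ normalizerIn S V := sup_le le_rfl hVN
    exact h4 h3

/-- `V` is bad: some map of the normalizer system of `V` in `F` is not a map of `E`. -/
def BadN (F E : FusionSystem S) (V : Subgroup Ω) : Prop :=
  ∃ (P : Subgroup Ω) (φ : P →* Ω), φ ∈ F.normalizerHom V P ∧ φ ∉ E.Hom P

theorem BadN.le {F E : FusionSystem S} {V : Subgroup Ω} (h : BadN F E V) : V ≤ S := by
  obtain ⟨P, φ, hφ, -⟩ := h
  obtain ⟨ψ, hψ, -⟩ := normalizerHom_ext hφ
  exact le_sup_right.trans (hom_le F hψ)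

/-- An automorphism of `R` in `F` not in `E` makes `R` bad. -/
theorem badN_of_aut [Finite S] {F E : FusionSystem S} {R : Subgroup Ω} {α : R ≃* R} (hα : IsIso F α)
    (hE : ¬ IsIso E α) : BadN F E R := by
  have hRS : R ≤ S := hα.le_left
  haveI : Finite ↥R := Finite.of_injective (Subgroup.inclusion hRS) (Subgroup.inclusion_injective hRS)
  exact ⟨R, _, mem_normalizerHom_of_preserves F le_rfl (le_normalizerIn hRS) hα
    (fun x _ => (α x).2), hE⟩

/-- Isomorphisms of a subsystem between subgroups of order at least `m`, provided the bad subgroups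
have normalizers of order at most `m`. -/
theorem hom_mem_of_card_le [Finite S] {p : ℕ} [Fact p.Prime] (hS : IsPGroup p S) {F : FusionSystem S}
    (hF : F.IsSaturated p) (E : FusionSystem S) (hEF : ∀ P : Subgroup Ω, E.Hom P ⊆ F.Hom P)
    (htop : ∀ α : S ≃* S, IsIso F α → IsIso E α) {m : ℕ} (hm : 2 ≤ m)
    (hmax : ∀ R : Subgroup Ω, R ≠ ⊥ → BadN F E R → Nat.card (normalizerIn S R) ≤ m) :
    ∀ P : Subgroup Ω, m ≤ Nat.card P → F.Hom P ⊆ E.Hom P := by
  apply alperin_bounded hS hF E hEF m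
  intro R hRS hmR α hα
  by_cases hR : R = S
  · subst hR
    exact htop α hα
  · by_contra hE
    have hlt : R < S := lt_of_le_of_ne hRS hR
    have h1 := card_lt_card_normalizerIn hS hlt
    have hR1 : R ≠ ⊥ := by
      rintro rfl
      rw [Subgroup.card_bot] at hmR
      omega
    have h2 := hmax R hR1 (badN_of_aut hα hE)
    omega

/-- Transport of badness to a conjugate along a map of `E` defined on the normalizer. -/
theorem BadN.transport [Finite S] {F E : FusionSystem S} (hEF : ∀ P : Subgroup Ω, E.Hom P ⊆ F.Hom P)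
    {V V' : Subgroup Ω} (hVS : V ≤ S) {φ : normalizerIn S V →* Ω} (hφ : φ ∈ E.Hom (normalizerIn S V))
    {χ : V ≃* V'} (hφχ : ∀ x : V, φ ⟨x, le_normalizerIn hVS x.2⟩ = χ x) (h : BadN F E V) :
    BadN F E V' := by
  obtain ⟨P, ρ, hρ, hρE⟩ := h
  obtain ⟨ψ, hψ, hρψ, hψV, hP₁N, hψN⟩ := normalizerHom_ext hρ
  have hV'S : V' ≤ S := by
    intro y hy
    have h1 := hφχ (χ.symm ⟨y, hy⟩)
    rw [MulEquiv.apply_symm_apply] at h1
    have h2 : φ ⟨_, le_normalizerIn hVS (χ.symm ⟨y, hy⟩).2⟩ = y := h1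
    rw [← h2]
    exact (E.le_of_mem hφ).2 _
  haveI : Finite ↥V := Finite.of_injective (Subgroup.inclusion hVS) (Subgroup.inclusion_injective hVS)
  haveI : Finite ↥V' := Finite.of_injective (Subgroup.inclusion hV'S) (Subgroup.inclusion_injective hV'S)
  have hψE : ψ ∉ E.Hom (P ⊔ V) := by
    intro h1
    apply hρE
    rw [hρψ]
    exact hom_restrict E le_sup_left h1
  -- the three isomorphisms
  have hφ₁ : φ.comp (Subgroup.inclusion hP₁N) ∈ E.Hom (P ⊔ V) := hom_restrict E hP₁N hφ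
  obtain ⟨e₁, he₁, hex₁⟩ := exists_isIso_of_hom E hφ₁ rfl
  obtain ⟨f, hf, hfx⟩ := exists_isIso_of_hom F hψ rfl
  have hP₂N : ψ.range ≤ normalizerIn S V := by
    rintro _ ⟨x, rfl⟩
    exact hψN x
  have hφ₂ : φ.comp (Subgroup.inclusion hP₂N) ∈ E.Hom ψ.range := hom_restrict E hP₂N hφ
  obtain ⟨e₂, he₂, hex₂⟩ := exists_isIso_of_hom E hφ₂ rfl
  have he₁F : IsIso F e₁ := hEF _ he₁
  have he₂F : IsIso F e₂ := hEF _ he₂
  have hρ'F : IsIso F (e₁.symm.trans (f.trans e₂)) := IsIso.trans (IsIso.symm he₁F) (IsIso.trans hf he₂F)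
  have hρ'E : ¬ IsIso E (e₁.symm.trans (f.trans e₂)) := by
    intro h1
    have h2 : IsIso E (e₁.trans ((e₁.symm.trans (f.trans e₂)).trans e₂.symm)) :=
      IsIso.trans he₁ (IsIso.trans h1 (IsIso.symm he₂))
    have h3 : e₁.trans ((e₁.symm.trans (f.trans e₂)).trans e₂.symm) = f := by
      ext x
      simp
    rw [h3] at h2
    apply hψE
    have h4 : ψ = (ψ.range).subtype.comp f.toMonoidHom := by
      ext x
      exact (hfx x).symm
    rw [h4]
    exact h2
  have hφmem : ∀ n : normalizerIn S V, φ n ∈ normalizerIn S V' :=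
    hom_normalizerIn_mem_normalizerIn hVS (hEF _ hφ) hφχ
  refine ⟨_, _, mem_normalizerHom_of_preserves F ?_ ?_ hρ'F ?_, hρ'E⟩
  · -- `V' ≤ φ(P ⊔ V)`
    intro y hy
    refine ⟨⟨(χ.symm ⟨y, hy⟩ : Ω), (le_sup_right : V ≤ P ⊔ V) (χ.symm ⟨y, hy⟩).2⟩, ?_⟩
    have h3 := hφχ (χ.symm ⟨y, hy⟩)
    rw [MulEquiv.apply_symm_apply] at h3
    exact h3
  · rintro _ ⟨x, rfl⟩
    exact hφmem _
  · intro y hy
    obtain ⟨x, rfl⟩ := e₁.surjective y
    have hxV : (x : Ω) ∈ V := by
      have h3 := hφχ (χ.symm ⟨_, hy⟩)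
      rw [MulEquiv.apply_symm_apply] at h3
      have h4 : φ ⟨(χ.symm ⟨_, hy⟩ : Ω), le_normalizerIn hVS (χ.symm ⟨_, hy⟩).2⟩ =
          φ (Subgroup.inclusion hP₁N x) := by
        rw [h3]
        exact hex₁ x
      have h5 := E.injective_of_mem hφ h4
      have h6 : ((χ.symm ⟨_, hy⟩ : V) : Ω) = x := congrArg Subtype.val h5
      rw [← h6]
      exact (χ.symm ⟨_, hy⟩).2
    show (((e₁.symm.trans (f.trans e₂)) (e₁ x) : (φ.comp (Subgroup.inclusion hP₂N)).range) : Ω) ∈ V'
    have h7 : (e₁.symm.trans (f.trans e₂)) (e₁ x) = e₂ (f x) := by simp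
    rw [h7, hex₂ (f x)]
    have h8 : ((f x : ψ.range) : Ω) ∈ V := by
      rw [hfx x]
      exact hψV x hxV
    have h9 := hφχ ⟨_, h8⟩
    have h10 : (⟨((⟨((f x : ψ.range) : Ω), h8⟩ : V) : Ω), le_normalizerIn hVS h8⟩ : normalizerIn S V) =
        Subgroup.inclusion hP₂N (f x) := Subtype.ext rfl
    rw [h10] at h9
    show φ (Subgroup.inclusion hP₂N (f x)) ∈ V'
    rw [h9]
    exact (χ _).2


theorem card_eq_of_isConj' (F : FusionSystem S) {P Q : Subgroup Ω} (h : F.IsConj P Q) :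
    Nat.card P = Nat.card Q := by
  obtain ⟨e, -⟩ := (isConj_iff F).mp h
  exact Nat.card_congr e.toEquiv

/-- **The extremal choice.** If the saturated system `F` is not contained in the subsystem `E`, which
contains the automorphisms of `S` in `F`, then some nontrivial fully normalized subgroup `V` is bad, with
`(|N_S(V)|, |V|)` lexicographically largest among the nontrivial bad subgroups. -/
theorem exists_extremal [Finite S] {p : ℕ} [Fact p.Prime] (hS : IsPGroup p S) {F : FusionSystem S}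
    (hF : F.IsSaturated p) (E : FusionSystem S) (hEF : ∀ P : Subgroup Ω, E.Hom P ⊆ F.Hom P)
    (htop : ∀ α : S ≃* S, IsIso F α → IsIso E α) (hne : ¬ ∀ P : Subgroup Ω, F.Hom P ⊆ E.Hom P) :
    ∃ V : Subgroup Ω, V ≠ ⊥ ∧ F.IsFullyNormalized V ∧ BadN F E V ∧
      ∀ V' : Subgroup Ω, V' ≠ ⊥ → BadN F E V' →
        Nat.card (normalizerIn S V') ≤ Nat.card (normalizerIn S V) ∧
        (Nat.card (normalizerIn S V') = Nat.card (normalizerIn S V) → Nat.card V' ≤ Nat.card V) := by
  have hfin : {U : Subgroup Ω | U ≠ ⊥ ∧ BadN F E U}.Finite :=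
    (finite_setOf_le S).subset (fun U hU => hU.2.le)
  have hne' : {U : Subgroup Ω | U ≠ ⊥ ∧ BadN F E U}.Nonempty := by
    by_contra hcon
    rw [Set.not_nonempty_iff_eq_empty] at hcon
    apply hne
    apply alperin hS hF E htop
    intro R hR _ _ _ α hα
    by_contra hE
    have hRS : R ≤ S := hR.le
    by_cases hR1 : R = ⊥
    · subst hR1
      apply hE
      have h1 : IsIso E (MulEquiv.refl (⊥ : Subgroup Ω)) := isIso_refl E hRS
      have h2 : α = MulEquiv.refl (⊥ : Subgroup Ω) := by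
        ext x
        have h3 : x = 1 := Subtype.ext (Subgroup.mem_bot.mp x.2)
        rw [h3, map_one, map_one]
      rw [h2]
      exact h1
    · have : R ∈ {U : Subgroup Ω | U ≠ ⊥ ∧ BadN F E U} := ⟨hR1, badN_of_aut hα hE⟩
      rw [hcon] at this
      exact this
  obtain ⟨U, ⟨hU1, hUb⟩, hmax⟩ := Set.exists_max_image _
    (fun U : Subgroup Ω => Nat.card (normalizerIn S U) * (Nat.card S + 1) + Nat.card U) hfin hne'
  have hUS : U ≤ S := hUb.le
  have hcardle : ∀ V : Subgroup Ω, V ≤ S → Nat.card V ≤ Nat.card S := fun V hV =>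
    Subgroup.card_le_of_le hV
  have hmax1 : ∀ U' : Subgroup Ω, U' ≠ ⊥ → BadN F E U' →
      Nat.card (normalizerIn S U') ≤ Nat.card (normalizerIn S U) := by
    intro U' h1 h3
    have h4 : Nat.card (normalizerIn S U') * (Nat.card S + 1) + Nat.card U' ≤
        Nat.card (normalizerIn S U) * (Nat.card S + 1) + Nat.card U := hmax U' ⟨h1, h3⟩
    by_contra hlt
    push Not at hlt
    have h5 := hcardle U hUS
    have h6 : (Nat.card (normalizerIn S U) + 1) * (Nat.card S + 1) ≤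
        Nat.card (normalizerIn S U') * (Nat.card S + 1) := Nat.mul_le_mul_right _ hlt
    have h7 : (Nat.card (normalizerIn S U) + 1) * (Nat.card S + 1) =
        Nat.card (normalizerIn S U) * (Nat.card S + 1) + (Nat.card S + 1) := by ring
    generalize Nat.card (normalizerIn S U') * (Nat.card S + 1) = a at h4 h6
    generalize Nat.card (normalizerIn S U) * (Nat.card S + 1) = b at h4 h7
    generalize (Nat.card (normalizerIn S U) + 1) * (Nat.card S + 1) = c at h6 h7
    omega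
  have hmax2 : ∀ U' : Subgroup Ω, U' ≠ ⊥ → BadN F E U' →
      Nat.card (normalizerIn S U') = Nat.card (normalizerIn S U) → Nat.card U' ≤ Nat.card U := by
    intro U' h1 h3 h4
    have h5 : Nat.card (normalizerIn S U') * (Nat.card S + 1) + Nat.card U' ≤
        Nat.card (normalizerIn S U) * (Nat.card S + 1) + Nat.card U := hmax U' ⟨h1, h3⟩
    rw [h4] at h5
    exact Nat.le_of_add_le_add_left h5
  -- transport to a fully normalized conjugate
  obtain ⟨U', hc, hfn⟩ := exists_fullyNormalized_conj F hUS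
  obtain ⟨φ, hφ, χ, hχ, hφχ⟩ := exists_hom_normalizerIn_of_fullyNormalized hS hF hfn hc
  have hφχ' : ∀ x : U, φ ⟨x, le_normalizerIn hUS x.2⟩ = χ x := fun x => hφχ x x.2 _
  haveI : Finite ↥U := Finite.of_injective (Subgroup.inclusion hUS) (Subgroup.inclusion_injective hUS)
  have hNS : normalizerIn S U ≤ S := inf_le_left
  haveI : Finite ↥(normalizerIn S U) :=
    Finite.of_injective (Subgroup.inclusion hNS) (Subgroup.inclusion_injective hNS)
  have hU2 : 2 ≤ Nat.card U := by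
    have := (Subgroup.one_lt_card_iff_ne_bot U).mpr hU1
    omega
  have hm2 : 2 ≤ Nat.card (normalizerIn S U) :=
    hU2.trans (Subgroup.card_le_of_le (le_normalizerIn hUS))
  have hφE : φ ∈ E.Hom (normalizerIn S U) :=
    hom_mem_of_card_le hS hF E hEF htop hm2 hmax1 _ le_rfl hφ
  have hU'b : BadN F E U' := hUb.transport hEF hUS hφE hφχ'
  have hU'1 : U' ≠ ⊥ := ne_bot_of_isConj hc hU1
  have h1 := hfn.2 U (isConj_symm F hc)
  have h2 := hmax1 U' hU'1 hU'b
  have h3 : Nat.card (normalizerIn S U') = Nat.card (normalizerIn S U) := le_antisymm h2 h1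
  have h4 : Nat.card U' = Nat.card U := (card_eq_of_isConj' F hc).symm
  refine ⟨U', hU'1, hfn, hU'b, fun V' hV'1 hV'b => ⟨?_, fun h5 => ?_⟩⟩
  · rw [h3]
    exact hmax1 V' hV'1 hV'b
  · rw [h4]
    rw [h3] at h5
    exact hmax2 V' hV'1 hV'b h5

end Cfsg.Agent.Lib.Helper27.LG2
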