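import Mathlib
import Cfsg.Agent.Lib.Helper27.LG2Extremal
import Cfsg.Agent.Lib.Helper27.LGNormalizer
import Cfsg.Prelude.Def_ConjugacyFunctors

set_option autoImplicit false

/-! Tools for the functor-form local-to-global theorems: the subgroup `W(S)` of a positive
characteristic `p`-functor, and normalizer systems inside normalizer systems. -/

namespace Cfsg.Agent.Lib.Helper27.LG2

open Cfsg Cfsg.FusionSystem Cfsg.Agent.Lib.Helper27 Cfsg.Agent.Lib.Helper27.LG Cfsg.Agent.H26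

universe u

section wsub

variable (W : ∀ (Q : Type u) [Group Q], Subgroup Q) {Ω : Type u} [Group Ω]

/-- `W(S)` as a subgroup of the ambient group. -/
def wsub (S : Subgroup Ω) : Subgroup Ω := (W ↥S).map S.subtype

theorem wsub_le (S : Subgroup Ω) : wsub W S ≤ S := by
  rintro _ ⟨x, -, rfl⟩
  exact x.2

theorem subgroupOf_wsub (S : Subgroup Ω) : (wsub W S).subgroupOf S = W ↥S :=
  Subgroup.comap_map_eq_self_of_injective S.subtype_injective _

theorem wsub_congr {S₁ S : Subgroup Ω} (h : S₁ = S) : wsub W S₁ = wsub W S := by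
  subst h
  rfl

variable {W} {p : ℕ}

theorem wsub_char (hW : Cfsg.IsCharPFunctor.{u} p W) (S : Subgroup Ω) [Finite S] (hS : IsPGroup p S) :
    ((wsub W S).subgroupOf S).Characteristic := by
  rw [subgroupOf_wsub]
  exact Subgroup.characteristic_iff_map_eq.mpr (fun φ => hW.2 S S hS φ)

theorem wsub_ne_bot (hW : Cfsg.IsCharPFunctor.{u} p W) (S : Subgroup Ω) [Finite S] (hS : IsPGroup p S)
    (hS1 : S ≠ ⊥) : wsub W S ≠ ⊥ := by
  intro h
  haveI : Nontrivial ↥S := (Subgroup.nontrivial_iff_ne_bot S).mpr hS1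
  apply hW.1 S hS inferInstance
  rw [← subgroupOf_wsub W S, h]
  exact Subgroup.bot_subgroupOf S

theorem finite_wsub (S : Subgroup Ω) [Finite S] : Finite ↥(wsub W S) :=
  Finite.of_injective (Subgroup.inclusion (wsub_le W S)) (Subgroup.inclusion_injective _)

theorem normalizerIn_wsub (hW : Cfsg.IsCharPFunctor.{u} p W) (S : Subgroup Ω) [Finite S]
    (hS : IsPGroup p S) : normalizerIn S (wsub W S) = S := by
  haveI := finite_wsub (W := W) S
  exact normalizerIn_eq_of_char (wsub_le W S) (wsub_char hW S hS)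

theorem wsub_aut_mem (hW : Cfsg.IsCharPFunctor.{u} p W) (S : Subgroup Ω) [Finite S] (hS : IsPGroup p S)
    (α : S ≃* S) {x : S} (hx : (x : Ω) ∈ wsub W S) : ((α x : S) : Ω) ∈ wsub W S := by
  obtain ⟨y, hy, hyx⟩ := hx
  have hyx' : y = x := Subtype.ext hyx
  subst hyx'
  have h1 : α y ∈ (W ↥S).map α.toMonoidHom := ⟨y, hy, rfl⟩
  rw [hW.2 S S hS α] at h1
  exact ⟨α y, h1, rfl⟩

/-- Automorphisms of `S` in `F` are maps of the normalizer system of `W(S)`. -/
theorem aut_top_mem_normalizerHom (hW : Cfsg.IsCharPFunctor.{u} p W) {S : Subgroup Ω} [Finite S]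
    (hS : IsPGroup p S) (F : FusionSystem S) {α : S ≃* S} (hα : IsIso F α) :
    S.subtype.comp α.toMonoidHom ∈ F.normalizerHom (wsub W S) S := by
  haveI := finite_wsub (W := W) S
  refine mem_normalizerHom_of_preserves F (wsub_le W S) ?_ hα (fun x hx => wsub_aut_mem hW S hS α hx)
  rw [normalizerIn_wsub hW S hS]

end wsub

variable {Ω : Type*} [Group Ω] {S : Subgroup Ω}

/-- Maps of `N_{N_F(V)}(R)` are maps of `N_F(R)`. -/
theorem nsys_nsys_hom_subset {F : FusionSystem S} {V R : Subgroup Ω}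
    {E : FusionSystem (normalizerIn S V)} (hE : F.IsNormalizerSystem V E)
    {N₁ : FusionSystem (normalizerIn (normalizerIn S V) R)} (hN₁ : E.IsNormalizerSystem R N₁)
    {P : Subgroup Ω} {φ : P →* Ω} (hφ : φ ∈ N₁.Hom P) : φ ∈ F.normalizerHom R P := by
  rw [hN₁ P] at hφ
  obtain ⟨h1, h2, h3, ψ, hψ, h4, h5⟩ := hφ
  rw [hE P] at h1
  rw [hE (P ⊔ R)] at hψ
  have hle : normalizerIn (normalizerIn S V) R ≤ normalizerIn S R := fun x hx => ⟨hx.1.1, hx.2⟩
  exact ⟨h1.1, h2.trans hle, fun x => hle (h3 x), ψ, hψ.1, h4, h5⟩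

/-- The focal subgroup lies in `T` as soon as all maps are trivial modulo `T`. -/
theorem focal_le_of_good {F : FusionSystem S} {T : Subgroup Ω}
    (h : ∀ (P : Subgroup Ω) (φ : P →* Ω), φ ∈ F.Hom P → ∀ x : P, (x : Ω)⁻¹ * φ x ∈ T) :
    F.focalSubgroup ≤ T := by
  unfold focalSubgroup
  rw [Subgroup.closure_le]
  rintro _ ⟨P, φ, x, hφ, rfl⟩
  exact h P φ hφ x

theorem mem_focal {F : FusionSystem S} {P : Subgroup Ω} {φ : P →* Ω} (hφ : φ ∈ F.Hom P) (x : P) :
    (x : Ω)⁻¹ * φ x ∈ F.focalSubgroup :=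
  Subgroup.subset_closure ⟨P, φ, x, hφ, rfl⟩

end Cfsg.Agent.Lib.Helper27.LG2
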