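import Mathlib
import Cfsg.Agent.Lib.Helper27.LG2Tools
import Cfsg.Agent.Lib.Helper27.LGQuot

set_option autoImplicit false

/-! Factor systems in local-to-global arguments: images of focal elements, and lifting of maps of
normalizer systems of the factor system. -/

namespace Cfsg.Agent.Lib.Helper27.LG2

open Cfsg Cfsg.FusionSystem Cfsg.Agent.Lib.Helper27 Cfsg.Agent.Lib.Helper27.LG Cfsg.Agent.H26

variable {Ω : Type*} [Group Ω] {S : Subgroup Ω} {Ω' : Type*} [Group Ω'] {S' : Subgroup Ω'}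

/-- Maps of `N_{N_F(V)}(R)` are maps of `N_F(R)` (in terms of the map sets). -/
theorem normalizerHom_nsys_subset {F : FusionSystem S} {V R : Subgroup Ω}
    {E : FusionSystem (normalizerIn S V)} (hE : F.IsNormalizerSystem V E)
    {P : Subgroup Ω} {φ : P →* Ω} (hφ : φ ∈ E.normalizerHom R P) : φ ∈ F.normalizerHom R P := by
  obtain ⟨h1, h2, h3, ψ, hψ, h4, h5⟩ := hφ
  rw [hE P] at h1
  rw [hE (P ⊔ R)] at hψ
  have hle : normalizerIn (normalizerIn S V) R ≤ normalizerIn S R := fun x hx => ⟨hx.1.1, hx.2⟩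
  exact ⟨h1.1, h2.trans hle, fun x => hle (h3 x), ψ, hψ.1, h4, h5⟩

/-- The image of a focal element is a focal element of the factor system. -/
theorem induced_focal [Finite S] {p : ℕ} [Fact p.Prime] (hS : IsPGroup p S) {F : FusionSystem S}
    (hF : F.IsSaturated p) {S₀ : Subgroup Ω} (hS₀ : F.StronglyClosed S₀) {θ : S →* Ω'}
    {E' : FusionSystem S'} (hfac : F.IsFactorSystem S₀ θ E') {P : Subgroup Ω} {φ : P →* Ω}
    (hφ : φ ∈ F.Hom P) (x : P) :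
    θ ⟨(x : Ω)⁻¹ * φ x, S.mul_mem (S.inv_mem (hom_le F hφ x.2)) ((F.le_of_mem hφ).2 x)⟩ ∈
      E'.focalSubgroup := by
  have hsm : F.IsSurjectiveMorphism E' θ := Cfsg.Agent.S5134.result p hS F hF S₀ hS₀ θ E' hfac
  obtain ⟨φ', hφ', hP, hφS, hP', hind⟩ := hsm.1.2 P φ hφ
  have h1 := mem_focal hφ' ⟨θ ⟨x, hP x.2⟩, hP' x⟩
  rw [hind x] at h1
  have h2 : θ ⟨(x : Ω)⁻¹ * φ x, S.mul_mem (S.inv_mem (hom_le F hφ x.2)) ((F.le_of_mem hφ).2 x)⟩ =
      (θ ⟨x, hP x.2⟩)⁻¹ * θ ⟨φ x, hφS x⟩ := by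
    rw [← map_inv, ← map_mul]
    rfl
  rw [h2]
  exact h1

/-- A map of the normalizer system of `V'` in the factor system lifts to a map of the normalizer
system of the preimage of `V'`. -/
theorem lift_normalizerHom [Finite S] {F : FusionSystem S} {S₀ : Subgroup Ω} {θ : S →* Ω'}
    {E' : FusionSystem S'} (hfac : F.IsFactorSystem S₀ θ E') {V' P' : Subgroup Ω'} {φ' : P' →* Ω'}
    (hφ' : φ' ∈ E'.normalizerHom V' P') :
    ∃ (P : Subgroup Ω) (φ : P →* Ω), φ ∈ F.normalizerHom (preimageAlong θ V') P ∧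
      ∀ x' : P', ∃ (x : P) (hx : (x : Ω) ∈ S) (hφx : φ x ∈ S),
        θ ⟨x, hx⟩ = x' ∧ θ ⟨φ x, hφx⟩ = φ' x' := by
  obtain ⟨hS₀S, hker, hrange, hhom⟩ := hfac
  obtain ⟨ψ', hψ', hψφ, hψV, hP₁N, hψN⟩ := normalizerHom_ext hφ'
  obtain ⟨hP₁S', ψ, hψ, hPS, hψS, hPP', hind⟩ := (hhom _ ψ').mp hψ'
  have hV'le : V' ≤ P' ⊔ V' := le_sup_right
  have hRP : preimageAlong θ V' ≤ preimageAlong θ (P' ⊔ V') := preimageAlong_mono θ hV'le
  have hRS : preimageAlong θ V' ≤ S := preimageAlong_le θ V'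
  haveI : Finite ↥(preimageAlong θ V') :=
    Finite.of_injective (Subgroup.inclusion hRS) (Subgroup.inclusion_injective hRS)
  refine ⟨preimageAlong θ (P' ⊔ V'), ψ, mem_normalizerHom_of_preserves F hRP ?_ hψ ?_, ?_⟩
  · -- the preimage normalizes the preimage of `V'`
    intro x hx
    obtain ⟨hxS, hx'⟩ := mem_preimageAlong.mp hx
    refine ⟨hxS, ?_⟩
    apply mem_normalizer_of_conj_mem
    intro r hr
    obtain ⟨hrS, hr'⟩ := mem_preimageAlong.mp hr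
    refine mem_preimageAlong.mpr ⟨S.mul_mem (S.mul_mem hxS hrS) (S.inv_mem hxS), ?_⟩
    have h1 : θ ⟨x * r * x⁻¹, S.mul_mem (S.mul_mem hxS hrS) (S.inv_mem hxS)⟩ =
        θ ⟨x, hxS⟩ * θ ⟨r, hrS⟩ * (θ ⟨x, hxS⟩)⁻¹ := by
      rw [← map_inv, ← map_mul, ← map_mul]
      rfl
    rw [h1]
    have h2 : θ ⟨x, hxS⟩ ∈ normalizerIn S' V' := hP₁N hx'
    exact conj_mem_of_mem_normalizerIn h2 hr'
  · -- the lift preserves the preimage of `V'`
    intro x hx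
    obtain ⟨hxS, hx'⟩ := mem_preimageAlong.mp hx
    refine mem_preimageAlong.mpr ⟨hψS x, ?_⟩
    rw [← hind x]
    exact hψV _ hx'
  · intro x'
    have hx'1 : (x' : Ω') ∈ P' ⊔ V' := (le_sup_left : P' ≤ P' ⊔ V') x'.2
    have hx'S : (x' : Ω') ∈ θ.range := by
      rw [hrange]
      exact hP₁S' hx'1
    obtain ⟨s, hs⟩ := hx'S
    have hsP : (s : Ω) ∈ preimageAlong θ (P' ⊔ V') := by
      refine mem_preimageAlong.mpr ⟨s.2, ?_⟩
      rw [show (⟨(s : Ω), s.2⟩ : S) = s from rfl, hs]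
      exact hx'1
    refine ⟨⟨s, hsP⟩, s.2, hψS _, hs, ?_⟩
    rw [← hind ⟨s, hsP⟩]
    have h3 : (⟨θ ⟨((⟨s, hsP⟩ : preimageAlong θ (P' ⊔ V')) : Ω), hPS hsP⟩, hPP' ⟨s, hsP⟩⟩ :
        ↥(P' ⊔ V')) = Subgroup.inclusion le_sup_left x' := Subtype.ext hs
    rw [h3, hψφ]
    rfl

end Cfsg.Agent.Lib.Helper27.LG2
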