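import Mathlib
import Cfsg.Agent.Lib.Helper27.LG2Quot
import Cfsg.Agent.Lib.Helper27.LG2Extremal
import Cfsg.Agent.Lib.Helper27.LG2Sub
import Cfsg.Agent.Lib.Helper27.FusionNormal

set_option autoImplicit false

/-! Tools for the local-to-global theorem on control of weak closure of elements: powers of central
elements, maps fixing a central subgroup, centrality in normalizer systems. -/

namespace Cfsg.Agent.Lib.Helper27.LG2

open Cfsg Cfsg.FusionSystem Cfsg.Agent.Lib.Helper27 Cfsg.Agent.Lib.Helper27.LG Cfsg.Agent.H26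

variable {Ω : Type*} [Group Ω] {S : Subgroup Ω} {Ω' : Type*} [Group Ω'] {S' : Subgroup Ω'}

/-- The subgroup generated by the `e`-th powers of the elements of `Z(S)`. -/
def powCenter (e : ℕ) (S : Subgroup Ω) : Subgroup Ω :=
  Subgroup.closure ((fun z => z ^ e) '' ((S ⊓ Subgroup.centralizer (S : Set Ω) : Subgroup Ω) : Set Ω))

theorem powCenter_le (e : ℕ) (S : Subgroup Ω) :
    powCenter e S ≤ S ⊓ Subgroup.centralizer (S : Set Ω) := by
  unfold powCenter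
  rw [Subgroup.closure_le]
  rintro _ ⟨z, hz, rfl⟩
  exact Subgroup.pow_mem _ hz e

theorem powCenter_mono (e : ℕ) {S S₁ : Subgroup Ω}
    (h : S ⊓ Subgroup.centralizer (S : Set Ω) ≤ S₁ ⊓ Subgroup.centralizer (S₁ : Set Ω)) :
    powCenter e S ≤ powCenter e S₁ :=
  Subgroup.closure_mono (Set.image_mono h)

theorem powCenter_one (S : Subgroup Ω) :
    powCenter 1 S = S ⊓ Subgroup.centralizer (S : Set Ω) := by
  apply le_antisymm (powCenter_le 1 S)
  intro z hz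
  exact Subgroup.subset_closure ⟨z, hz, pow_one z⟩

/-- A map fixing `Z ≤ P` elementwise, `Z ≤ Z(S)`, is a map of the centralizer system of `Z`. -/
theorem mem_centralizerHom_of_fixes (F : FusionSystem S) {Z P : Subgroup Ω} (hZP : Z ≤ P)
    (hZ : Z ≤ Subgroup.centralizer (S : Set Ω)) {φ : P →* Ω} (hφ : φ ∈ F.Hom P)
    (hfix : ∀ x : P, (x : Ω) ∈ Z → φ x = x) : φ ∈ F.centralizerHom Z P := by
  have hPS := hom_le F hφ
  have hcen : ∀ s ∈ S, s ∈ centralizerIn S Z := fun s hs =>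
    ⟨hs, Subgroup.mem_centralizer_iff.mpr fun z hz =>
      ((Subgroup.mem_centralizer_iff.mp (hZ hz)) s hs).symm⟩
  refine ⟨hφ, fun x hx => hcen x (hPS hx), fun x => hcen _ ((F.le_of_mem hφ).2 x), ?_⟩
  have hle : P ⊔ Z ≤ P := sup_le le_rfl hZP
  refine ⟨φ.comp (Subgroup.inclusion hle), hom_restrict F hle hφ, fun x => ?_, fun z => ?_⟩
  · show φ (Subgroup.inclusion hle (Subgroup.inclusion le_sup_left x)) = φ x
    congr 1
  · show φ (Subgroup.inclusion hle (Subgroup.inclusion le_sup_right z)) = z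
    exact hfix _ z.2

/-- A map of the centralizer system of `Z` fixes the elements of `Z` in its source. -/
theorem centralizerHom_fixes {F : FusionSystem S} {Z P : Subgroup Ω} {φ : P →* Ω}
    (hφ : φ ∈ F.centralizerHom Z P) (x : P) (hx : (x : Ω) ∈ Z) : φ x = x := by
  obtain ⟨-, -, -, ψ, -, h1, h2⟩ := hφ
  rw [← h1 x]
  have h3 := h2 ⟨x, hx⟩
  have h4 : (Subgroup.inclusion (le_sup_left : P ≤ P ⊔ Z) x) =
      Subgroup.inclusion (le_sup_right : Z ≤ P ⊔ Z) ⟨x, hx⟩ := Subtype.ext rfl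
  rw [h4, h3]

/-- A subgroup of a central subgroup is central. -/
theorem isCentral_of_le {F : FusionSystem S} {Q Q' : Subgroup Ω} (hQ : F.IsCentral Q) (h : Q' ≤ Q) :
    F.IsCentral Q' := by
  refine ⟨h.trans hQ.1, fun P φ hφ => ?_⟩
  obtain ⟨ψ, hψ, h1, h2⟩ := hQ.2 P φ hφ
  have hle : P ⊔ Q' ≤ P ⊔ Q := sup_le_sup_left h P
  refine ⟨ψ.comp (Subgroup.inclusion hle), hom_restrict F hle hψ, fun x => ?_, fun z => ?_⟩
  · rw [← h1 x]
    rfl
  · have := h2 ⟨z, h z.2⟩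
    rw [← this]
    rfl

/-- Maps of the system fix the elements of a central subgroup. -/
theorem isCentral_fixes {F : FusionSystem S} {Z Q : Subgroup Ω} (hZ : F.IsCentral Z) {φ : Q →* Ω}
    (hφ : φ ∈ F.Hom Q) (x : Q) (hx : (x : Ω) ∈ Z) : φ x = x := by
  obtain ⟨ψ, -, h1, h2⟩ := hZ.2 Q φ hφ
  rw [← h1 x]
  have h3 := h2 ⟨x, hx⟩
  have h4 : (Subgroup.inclusion (le_sup_left : Q ≤ Q ⊔ Z) x) =
      Subgroup.inclusion (le_sup_right : Z ≤ Q ⊔ Z) ⟨x, hx⟩ := Subtype.ext rfl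
  rw [h4, h3]

/-- If `Z ≤ Z(S)` is central in the system then all maps are maps of the centralizer system. -/
theorem mem_centralizerHom_of_isCentral {F : FusionSystem S} {Z : Subgroup Ω} (hZc : F.IsCentral Z)
    (hZ : Z ≤ Subgroup.centralizer (S : Set Ω)) {P : Subgroup Ω} {φ : P →* Ω} (hφ : φ ∈ F.Hom P) :
    φ ∈ F.centralizerHom Z P := by
  have hPS := hom_le F hφ
  have hcen : ∀ s ∈ S, s ∈ centralizerIn S Z := fun s hs =>
    ⟨hs, Subgroup.mem_centralizer_iff.mpr fun z hz =>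
      ((Subgroup.mem_centralizer_iff.mp (hZ hz)) s hs).symm⟩
  exact ⟨hφ, fun x hx => hcen x (hPS hx), fun x => hcen _ ((F.le_of_mem hφ).2 x), hZc.2 P φ hφ⟩

/-- Centrality in a normalizer system: if the maps of `N_E(R)` fix the elements of `Z ≤ R`, then `Z` is
central in `N_E(R)`. -/
theorem central_nsys {E : FusionSystem S} {R Z : Subgroup Ω} [Finite R] (hRS : R ≤ S)
    {N₁ : FusionSystem (normalizerIn S R)} (hN₁ : E.IsNormalizerSystem R N₁) (hZR : Z ≤ R)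
    (hfix : ∀ (Q : Subgroup Ω) (φ : Q →* Ω), φ ∈ E.normalizerHom R Q →
      ∀ x : Q, (x : Ω) ∈ Z → φ x = x) :
    N₁.IsCentral Z := by
  refine ⟨hZR.trans (le_normalizerIn hRS), fun P φ hφ => ?_⟩
  rw [hN₁ P] at hφ
  obtain ⟨ψ, hψ, hφψ, hψV, hPN, hψN⟩ := normalizerHom_ext hφ
  have hψn : ψ ∈ E.normalizerHom R (P ⊔ R) :=
    mem_normalizerHom_of_preserves E le_sup_right hPN hψ hψV
  have hle : P ⊔ Z ≤ P ⊔ R := sup_le_sup_left hZR P
  refine ⟨ψ.comp (Subgroup.inclusion hle), ?_, fun x => ?_, fun z => ?_⟩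
  · have h1 : ψ ∈ N₁.Hom (P ⊔ R) := by rw [hN₁]; exact hψn
    exact hom_restrict N₁ hle h1
  · rw [hφψ]
    rfl
  · exact hfix _ ψ hψn _ z.2

/-- A normal subgroup of a finite group containing a Sylow `p`-subgroup and a fixed `p`-power of every
element is the whole group. -/
theorem eq_top_of_sylow_le_of_pow_mem {A : Type*} [Group A] [Finite A] {p : ℕ} [Fact p.Prime]
    (K : Subgroup A) [K.Normal] (R : Sylow p A) (hRK : (R : Subgroup A) ≤ K) (k : ℕ)
    (hpow : ∀ a : A, a ^ (p ^ k) ∈ K) : K = ⊤ := by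
  have h1 : IsPGroup p (A ⧸ K) := by
    intro g
    obtain ⟨a, rfl⟩ := QuotientGroup.mk_surjective g
    refine ⟨k, ?_⟩
    rw [← QuotientGroup.mk_pow, QuotientGroup.eq_one_iff]
    exact hpow a
  have h2 : ¬ p ∣ K.index := fun h =>
    (Sylow.not_dvd_index R) (dvd_trans h (Subgroup.index_dvd_of_le hRK))
  rw [← Subgroup.index_eq_one]
  obtain ⟨j, hj⟩ := IsPGroup.iff_card.mp h1
  rw [Subgroup.index_eq_card, hj]
  rw [Subgroup.index_eq_card, hj] at h2
  rcases Nat.eq_zero_or_pos j with h | h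
  · rw [h, pow_zero]
  · exact absurd (dvd_pow_self p h.ne') h2

/-- A stronger form of the lifting of maps of normalizer systems of a factor system. -/
theorem lift_normalizerHom' [Finite S] {F : FusionSystem S} {S₀ : Subgroup Ω} {θ : S →* Ω'}
    {E' : FusionSystem S'} (hfac : F.IsFactorSystem S₀ θ E') {V' P' : Subgroup Ω'} {φ' : P' →* Ω'}
    (hφ' : φ' ∈ E'.normalizerHom V' P') :
    ∃ φ : ↥(preimageAlong θ (P' ⊔ V')) →* Ω,
      φ ∈ F.normalizerHom (preimageAlong θ V') (preimageAlong θ (P' ⊔ V')) ∧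
      ∀ (x : ↥(preimageAlong θ (P' ⊔ V'))) (hx : (x : Ω) ∈ S) (hx' : θ ⟨x, hx⟩ ∈ P'),
        ∃ hφx : φ x ∈ S, θ ⟨φ x, hφx⟩ = φ' ⟨θ ⟨x, hx⟩, hx'⟩ := by
  obtain ⟨hS₀S, hker, hrange, hhom⟩ := hfac
  obtain ⟨ψ', hψ', hψφ, hψV, hP₁N, hψN⟩ := normalizerHom_ext hφ'
  obtain ⟨hP₁S', ψ, hψ, hPS, hψS, hPP', hind⟩ := (hhom _ ψ').mp hψ'
  have hV'le : V' ≤ P' ⊔ V' := le_sup_right
  have hRP : preimageAlong θ V' ≤ preimageAlong θ (P' ⊔ V') := preimageAlong_mono θ hV'le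
  have hRS : preimageAlong θ V' ≤ S := preimageAlong_le θ V'
  haveI : Finite ↥(preimageAlong θ V') :=
    Finite.of_injective (Subgroup.inclusion hRS) (Subgroup.inclusion_injective hRS)
  refine ⟨ψ, mem_normalizerHom_of_preserves F hRP ?_ hψ ?_, ?_⟩
  · intro x hx
    obtain ⟨hxS, hx'⟩ := mem_preimageAlong.mp hx
    refine ⟨hxS, ?_⟩
    apply mem_normalizer_of_conj_mem
    intro r hr
    obtain ⟨hrS, hr'⟩ := mem_preimageAlong.mp hr
    refine mem_preimageAlong.mpr ⟨S.mul_mem (S.mul_mem hxS hrS) (S.inv_mem hxS), ?_⟩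
    have h1 : θ ⟨x * r * x⁻¹, S.mul_mem (S.mul_mem hxS hrS) (S.inv_mem hxS)⟩ =
        θ ⟨x, hxS⟩ * θ ⟨r, hrS⟩ * (θ ⟨x, hxS⟩)⁻¹ := by
      rw [← map_inv, ← map_mul, ← map_mul]
      rfl
    rw [h1]
    have h2 : θ ⟨x, hxS⟩ ∈ normalizerIn S' V' := hP₁N hx'
    exact conj_mem_of_mem_normalizerIn h2 hr'
  · intro x hx
    obtain ⟨hxS, hx'⟩ := mem_preimageAlong.mp hx
    refine mem_preimageAlong.mpr ⟨hψS x, ?_⟩
    rw [← hind x]
    exact hψV _ hx'
  · intro x hx hx'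
    refine ⟨hψS x, ?_⟩
    rw [← hind x, hψφ]
    rfl

end Cfsg.Agent.Lib.Helper27.LG2
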