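import Mathlib
import Cfsg.Prelude.Def_FusionSystem
import Cfsg.Agent.Lib.Helper16.SylowInf
import Cfsg.Agent.Lib.Helper27.FusionSat

set_option autoImplicit false

/-! Pure group theory behind "`F_{S ∩ N}(N)` is normal in `F_S(G)`": Sylow conjugacy inside a subgroup
given by a maximality condition, and the extension lemma. -/

namespace Cfsg.Agent.Lib.Helper27

open Cfsg Cfsg.FusionSystem

section

variable {G : Type*} [Group G] [Finite G] {p : ℕ} [Fact p.Prime]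

/-- Sylow conjugacy inside a subgroup `M`, elementwise: if `R ≤ M` is a maximal `p`-subgroup of `M`,
every `p`-subgroup of `M` is `M`-conjugate into `R`. -/
theorem exists_conj_le_of_max {M R P : Subgroup G} (hRM : R ≤ M) (hRp : IsPGroup p R)
    (hmax : ∀ Q : Subgroup G, IsPGroup p Q → R ≤ Q → Q ≤ M → Q = R) (hPM : P ≤ M) (hP : IsPGroup p P) :
    ∃ m ∈ M, ∀ x ∈ P, m * x * m⁻¹ ∈ R := by
  classical
  have hR' : IsPGroup p (R.subgroupOf M) := hRp.comap_of_injective M.subtype Subtype.coe_injective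
  have hmax' : ∀ {Q : Subgroup M}, IsPGroup p Q → R.subgroupOf M ≤ Q → Q = R.subgroupOf M := by
    intro Q hQ hRQ
    have h1 : IsPGroup p (Q.map M.subtype) := hQ.map _
    have h2 : R ≤ Q.map M.subtype := by
      intro x hx
      exact ⟨⟨x, hRM hx⟩, hRQ (Subgroup.mem_subgroupOf.mpr hx), rfl⟩
    have h3 : Q.map M.subtype ≤ M := Subgroup.map_subtype_le _
    have h4 := hmax _ h1 h2 h3
    ext x
    rw [Subgroup.mem_subgroupOf, ← h4]
    constructor
    · intro hx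
      exact ⟨x, hx, rfl⟩
    · rintro ⟨y, hy, hyx⟩
      have : y = x := Subtype.ext hyx
      rw [← this]; exact hy
  let Rs : Sylow p M := ⟨R.subgroupOf M, hR', hmax'⟩
  have hP' : IsPGroup p (P.subgroupOf M) := hP.comap_of_injective M.subtype Subtype.coe_injective
  obtain ⟨Q, hQ⟩ := hP'.exists_le_sylow
  obtain ⟨m, hm⟩ := MulAction.exists_smul_eq M Q Rs
  refine ⟨m, m.2, fun x hx => ?_⟩
  have hxQ : (⟨x, hPM hx⟩ : M) ∈ (Q : Subgroup M) := hQ (Subgroup.mem_subgroupOf.mpr hx)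
  have h1 : m * (⟨x, hPM hx⟩ : M) * m⁻¹ ∈ ((m • Q : Sylow p M) : Subgroup M) := by
    rw [Sylow.coe_subgroup_smul]
    rw [Subgroup.mem_pointwise_smul_iff_inv_smul_mem]
    simpa [MulAut.smul_def, mul_assoc] using hxQ
  rw [hm] at h1
  exact Subgroup.mem_subgroupOf.mp h1

omit [Finite G] in
/-- Conjugation by an element normalizing `T` preserves the centralizer of `T`. -/
theorem conj_mem_centralizer_of_mem_normalizer {T : Subgroup G} {h c : G}
    (hh : h ∈ Subgroup.normalizer (T : Set G)) (hc : c ∈ Subgroup.centralizer (T : Set G)) :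
    h * c * h⁻¹ ∈ Subgroup.centralizer (T : Set G) := by
  rw [Subgroup.mem_centralizer_iff] at hc ⊢
  intro t ht
  have ht' : h⁻¹ * t * h ∈ T := by
    have := (Subgroup.mem_normalizer_iff.mp (Subgroup.inv_mem _ hh) t).mp ht
    simpa using this
  have h1 := hc _ ht'
  have e1 : t * (h * c * h⁻¹) = h * ((h⁻¹ * t * h) * c) * h⁻¹ := by group
  have e2 : h * c * h⁻¹ * t = h * (c * (h⁻¹ * t * h)) * h⁻¹ := by group
  rw [e1, e2, h1]

/-- The extension lemma: for `N ⊴ G`, `S` Sylow in `G`, `T = S ∩ N` and `n ∈ N_N(T)`, some `g ∈ N` acts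
on `T` as `n` does, normalizes `T C_S(T)`, and satisfies `[g, C_S(T)] ≤ Z(T)`. -/
theorem exists_extension_normal (S : Sylow p G) (N : Subgroup G) [hN : N.Normal] {n : G} (hnN : n ∈ N)
    (hn : ∀ t ∈ (S : Subgroup G) ⊓ N, n * t * n⁻¹ ∈ (S : Subgroup G) ⊓ N) :
    ∃ g ∈ N, (∀ t ∈ (S : Subgroup G) ⊓ N, g * t * g⁻¹ = n * t * n⁻¹) ∧
      (∀ r ∈ ((S : Subgroup G) ⊓ N) ⊔ centralizerIn (S : Subgroup G) ((S : Subgroup G) ⊓ N),
        g * r * g⁻¹ ∈ ((S : Subgroup G) ⊓ N) ⊔ centralizerIn (S : Subgroup G) ((S : Subgroup G) ⊓ N)) ∧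
      ∀ c ∈ centralizerIn (S : Subgroup G) ((S : Subgroup G) ⊓ N),
        c⁻¹ * (g * c * g⁻¹) ∈ ((S : Subgroup G) ⊓ N) ⊓
          Subgroup.centralizer ((((S : Subgroup G) ⊓ N : Subgroup G)) : Set G) := by
  classical
  obtain ⟨T, hT⟩ : ∃ T : Subgroup G, T = (S : Subgroup G) ⊓ N := ⟨_, rfl⟩
  rw [← hT] at hn ⊢
  have hTS : T ≤ (S : Subgroup G) := hT ▸ inf_le_left
  have hTN : T ≤ N := hT ▸ inf_le_right
  have hTp : IsPGroup p T := S.isPGroup'.to_le hTS
  set CG := Subgroup.centralizer (T : Set G) with hCG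
  set C := centralizerIn (S : Subgroup G) T with hC
  have hCS : C ≤ (S : Subgroup G) := inf_le_left
  have hCCG : C ≤ CG := inf_le_right
  set R := T ⊔ C with hR
  have hRS : R ≤ (S : Subgroup G) := sup_le hTS hCS
  have hRp : IsPGroup p R := S.isPGroup'.to_le hRS
  set L₀ := N ⊓ CG with hL₀
  have hnT : n ∈ Subgroup.normalizer (T : Set G) := mem_normalizer_of_conj_mem hn
  have hSnorm : (S : Subgroup G) ≤ Subgroup.normalizer (T : Set G) := by
    intro s hs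
    apply mem_normalizer_of_conj_mem
    intro t ht
    rw [hT]
    exact ⟨(S : Subgroup G).mul_mem ((S : Subgroup G).mul_mem hs (hTS ht)) ((S : Subgroup G).inv_mem hs),
      hN.conj_mem t (hTN ht) s⟩
  have hCGnorm : CG ≤ Subgroup.normalizer (T : Set G) := Subgroup.centralizer_le_normalizer _
  -- the normalizer of `T` normalizes `L₀`
  have hL₀conj : ∀ h ∈ Subgroup.normalizer (T : Set G), ∀ l ∈ L₀, h * l * h⁻¹ ∈ L₀ := by
    intro h hh l hl
    exact ⟨hN.conj_mem l hl.1 h, conj_mem_centralizer_of_mem_normalizer hh hl.2⟩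
  -- the subgroup `M = L₀ R`
  let M : Subgroup G :=
    { carrier := {x | ∃ l ∈ L₀, ∃ r ∈ R, x = l * r}
      mul_mem' := by
        rintro _ _ ⟨l, hl, r, hr, rfl⟩ ⟨l', hl', r', hr', rfl⟩
        refine ⟨l * (r * l' * r⁻¹), L₀.mul_mem hl (hL₀conj r (hSnorm (hRS hr)) l' hl'), r * r',
          R.mul_mem hr hr', ?_⟩
        group
      one_mem' := ⟨1, L₀.one_mem, 1, R.one_mem, by simp⟩
      inv_mem' := by
        rintro _ ⟨l, hl, r, hr, rfl⟩
        refine ⟨r⁻¹ * l⁻¹ * r⁻¹⁻¹, hL₀conj r⁻¹ (hSnorm (hRS (R.inv_mem hr))) l⁻¹ (L₀.inv_mem hl), r⁻¹,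
          R.inv_mem hr, ?_⟩
        group }
  have hmemM : ∀ x, x ∈ M ↔ ∃ l ∈ L₀, ∃ r ∈ R, x = l * r := fun x => Iff.rfl
  have hRM : R ≤ M := fun r hr => ⟨1, L₀.one_mem, r, hr, by simp⟩
  -- `R` is a maximal `p`-subgroup of `M`
  have hmax : ∀ Q : Subgroup G, IsPGroup p Q → R ≤ Q → Q ≤ M → Q = R := by
    intro Q hQp hRQ hQM
    apply le_antisymm _ hRQ
    intro x hx
    obtain ⟨l, hl, r, hr, rfl⟩ := hQM hx
    have hlQ : l ∈ Q := by
      have : l = l * r * r⁻¹ := by group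
      rw [this]
      exact Q.mul_mem hx (Q.inv_mem (hRQ hr))
    set Q₀ := Q ⊓ L₀ with hQ₀
    have hQ₀p : IsPGroup p Q₀ := hQp.to_le inf_le_left
    have hQ₀norm : Q₀ ≤ Subgroup.normalizer (T : Set G) :=
      le_trans inf_le_right (le_trans inf_le_right hCGnorm)
    have hsup : IsPGroup p (Q₀ ⊔ T : Subgroup G) := IsPGroup.to_sup_of_normal_right' hQ₀p hTp hQ₀norm
    have hsupN : Q₀ ⊔ T ≤ N := sup_le (le_trans inf_le_right inf_le_left) hTN
    have heq := Helper16.eq_sylowInf_of_le S N (Q₀ ⊔ T) hsup hsupN (hT ▸ le_sup_right)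
    have hlT : l ∈ T := by
      rw [hT, ← heq]
      exact le_sup_left (a := Q₀) ⟨hlQ, hl⟩
    exact R.mul_mem (le_sup_left (a := T) hlT) hr
  -- the conjugate `n R n⁻¹` lies in `M`
  have hconjM : ∀ x ∈ R, n * x * n⁻¹ ∈ M := by
    intro x hx
    rw [hR, Subgroup.sup_eq_closure] at hx
    induction hx using Subgroup.closure_induction with
    | mem y hy =>
      rcases hy with hy | hy
      · exact hRM (le_sup_left (a := T) (hn y hy))
      · refine ⟨n * y * n⁻¹ * y⁻¹, ⟨?_, ?_⟩, y, le_sup_right (a := T) hy, by group⟩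
        · have : n * y * n⁻¹ * y⁻¹ = n * (y * n⁻¹ * y⁻¹) := by group
          rw [this]
          exact N.mul_mem hnN (hN.conj_mem _ (N.inv_mem hnN) y)
        · exact CG.mul_mem (conj_mem_centralizer_of_mem_normalizer hnT (hCCG hy)) (CG.inv_mem (hCCG hy))
    | one => simp [M.one_mem]
    | mul y z _ _ hy hz =>
      have : n * (y * z) * n⁻¹ = (n * y * n⁻¹) * (n * z * n⁻¹) := by group
      rw [this]; exact M.mul_mem hy hz
    | inv y _ hy =>
      have : n * y⁻¹ * n⁻¹ = (n * y * n⁻¹)⁻¹ := by group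
      rw [this]; exact M.inv_mem hy
  set P := R.map (MulAut.conj n).toMonoidHom with hPdef
  have hPp : IsPGroup p P := hRp.map _
  have hPM : P ≤ M := by
    rintro _ ⟨x, hx, rfl⟩
    exact hconjM x hx
  obtain ⟨m, hmM, hm⟩ := exists_conj_le_of_max hRM hRp hmax hPM hPp
  obtain ⟨l, hl, r, hr, rfl⟩ := hmM
  have hrnorm : r ∈ Subgroup.normalizer (T : Set G) := hSnorm (hRS hr)
  have hl' : r⁻¹ * l * r ∈ L₀ := by
    have := hL₀conj r⁻¹ (Subgroup.inv_mem _ hrnorm) l hl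
    simpa using this
  have hgR : ∀ x ∈ R, (r⁻¹ * l * r * n) * x * (r⁻¹ * l * r * n)⁻¹ ∈ R := by
    intro x hx
    have h1 : l * r * (n * x * n⁻¹) * (l * r)⁻¹ ∈ R := hm _ ⟨x, hx, rfl⟩
    have e : (r⁻¹ * l * r * n) * x * (r⁻¹ * l * r * n)⁻¹ = r⁻¹ * (l * r * (n * x * n⁻¹) * (l * r)⁻¹) * r := by
      group
    rw [e]
    exact R.mul_mem (R.mul_mem (R.inv_mem hr) h1) hr
  have hgnorm : r⁻¹ * l * r * n ∈ Subgroup.normalizer (T : Set G) :=
    Subgroup.mul_mem _ (hCGnorm hl'.2) hnT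
  have hgN : r⁻¹ * l * r * n ∈ N := N.mul_mem hl'.1 hnN
  refine ⟨r⁻¹ * l * r * n, hgN, ?_, hgR, ?_⟩
  · intro t ht
    have h1 : n * t * n⁻¹ ∈ T := hn t ht
    have h2 := (Subgroup.mem_centralizer_iff.mp hl'.2) _ h1
    have e : (r⁻¹ * l * r * n) * t * (r⁻¹ * l * r * n)⁻¹ = (r⁻¹ * l * r) * (n * t * n⁻¹) * (r⁻¹ * l * r)⁻¹ := by
      group
    rw [e, ← h2]
    group
  · intro c hc
    set g := r⁻¹ * l * r * n with hg
    have h1 : g * c * g⁻¹ ∈ (S : Subgroup G) := hRS (hgR c (le_sup_right (a := T) hc))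
    have h2 : g * c * g⁻¹ ∈ CG := conj_mem_centralizer_of_mem_normalizer hgnorm (hCCG hc)
    refine ⟨?_, CG.mul_mem (CG.inv_mem (hCCG hc)) h2⟩
    rw [hT]
    refine ⟨(S : Subgroup G).mul_mem ((S : Subgroup G).inv_mem (hCS hc)) h1, ?_⟩
    have e : c⁻¹ * (g * c * g⁻¹) = (c⁻¹ * g * c⁻¹⁻¹) * g⁻¹ := by group
    rw [e]
    exact N.mul_mem (hN.conj_mem g hgN c⁻¹) (N.inv_mem hgN)

end

end Cfsg.Agent.Lib.Helper27
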