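import Mathlib
import Cfsg.Prelude.Def_FusionComponents
import Cfsg.Agent.H26.Realized
import Cfsg.Agent.Lib.Helper1.Cores
import Cfsg.Agent.Lib.Helper16.SylowInf
import Cfsg.Agent.Lib.Helper27.GroupNormalExt
import Cfsg.Agent.Lib.Helper27.FusionRealizedSub

set_option autoImplicit false

/-! For a fusion system `F` over `S` realized by `ι : S →* G` on a Sylow subgroup of the finite group
`G`, and `N ⊴ G`: the subsystem `realizedSub _ N` over `ι⁻¹(N)` is normal in `F`.  Consequence: a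
minimal group realizing a simple system is simple. -/

namespace Cfsg.Agent.Lib.Helper27

open Cfsg Cfsg.FusionSystem Cfsg.Agent.H26

section

variable {Ω : Type*} [Group Ω] {S : Subgroup Ω} {G : Type*} [Group G]

theorem mem_range_inf_iff {ι : S →* G} {N : Subgroup G} {y : G} :
    y ∈ ι.range ⊓ N ↔ ∃ x ∈ pullback ι N, ext1 ι x = y := by
  constructor
  · rintro ⟨hy, hyN⟩
    obtain ⟨x, hx, rfl⟩ := exists_ext1_eq hy
    exact ⟨x, mem_pullback_iff.mpr ⟨hx, hyN⟩, rfl⟩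
  · rintro ⟨x, hx, rfl⟩
    obtain ⟨hxS, hxN⟩ := mem_pullback_iff.mp hx
    exact ⟨ext1_mem_range ι hxS, hxN⟩

theorem mem_centralizerIn_pullback_iff {ι : S →* G} (hinj : Function.Injective ι) {N : Subgroup G}
    {x : Ω} (hx : x ∈ S) :
    x ∈ centralizerIn S (pullback ι N) ↔ ext1 ι x ∈ centralizerIn ι.range (ι.range ⊓ N) := by
  rw [mem_centralizerIn_iff, mem_centralizerIn_iff]
  constructor
  · rintro ⟨-, h⟩
    refine ⟨ext1_mem_range ι hx, fun y hy => ?_⟩
    obtain ⟨t, ht, rfl⟩ := mem_range_inf_iff.mp hy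
    have htS := pullback_le ι N ht
    rw [← ext1_mul ι htS hx, ← ext1_mul ι hx htS, h t ht]
  · rintro ⟨-, h⟩
    refine ⟨hx, fun t ht => ?_⟩
    have htS := pullback_le ι N ht
    apply ext1_inj hinj (S.mul_mem htS hx) (S.mul_mem hx htS)
    rw [ext1_mul ι htS hx, ext1_mul ι hx htS]
    exact h _ (mem_range_inf_iff.mpr ⟨t, ht, rfl⟩)

/-- Membership in a join of subgroups of `S`, read through the bridge function. -/
theorem mem_sup_iff_ext1 {ι : S →* G} (hinj : Function.Injective ι) {A B : Subgroup Ω}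
    {A' B' : Subgroup G} (hA : A ≤ S) (hB : B ≤ S) (hA' : A' ≤ ι.range) (hB' : B' ≤ ι.range)
    (hAA' : ∀ x ∈ S, x ∈ A ↔ ext1 ι x ∈ A') (hBB' : ∀ x ∈ S, x ∈ B ↔ ext1 ι x ∈ B') {x : Ω}
    (hx : x ∈ S) : x ∈ A ⊔ B ↔ ext1 ι x ∈ A' ⊔ B' := by
  constructor
  · intro h
    have key : ∀ y ∈ A ⊔ B, y ∈ S ∧ ext1 ι y ∈ A' ⊔ B' := by
      intro y hy
      rw [Subgroup.sup_eq_closure] at hy
      induction hy using Subgroup.closure_induction with
      | mem z hz =>
        rcases hz with hz | hz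
        · exact ⟨hA hz, le_sup_left (a := A') ((hAA' z (hA hz)).mp hz)⟩
        · exact ⟨hB hz, le_sup_right (a := A') ((hBB' z (hB hz)).mp hz)⟩
      | one => exact ⟨S.one_mem, by rw [ext1_one]; exact Subgroup.one_mem _⟩
      | mul a b _ _ ha hb =>
        exact ⟨S.mul_mem ha.1 hb.1, by rw [ext1_mul ι ha.1 hb.1]; exact Subgroup.mul_mem _ ha.2 hb.2⟩
      | inv a _ ha => exact ⟨S.inv_mem ha.1, by rw [ext1_inv ι ha.1]; exact Subgroup.inv_mem _ ha.2⟩
    exact (key x h).2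
  · intro h
    have hAB : A ⊔ B ≤ S := sup_le hA hB
    have key : ∀ y ∈ A' ⊔ B', ∃ z ∈ A ⊔ B, ext1 ι z = y := by
      intro y hy
      rw [Subgroup.sup_eq_closure] at hy
      induction hy using Subgroup.closure_induction with
      | mem z hz =>
        rcases hz with hz | hz
        · obtain ⟨w, hw, rfl⟩ := exists_ext1_eq (hA' hz)
          exact ⟨w, le_sup_left (a := A) ((hAA' w hw).mpr hz), rfl⟩
        · obtain ⟨w, hw, rfl⟩ := exists_ext1_eq (hB' hz)
          exact ⟨w, le_sup_right (a := A) ((hBB' w hw).mpr hz), rfl⟩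
      | one => exact ⟨1, Subgroup.one_mem _, ext1_one ι⟩
      | mul a b _ _ ha hb =>
        obtain ⟨a', ha', rfl⟩ := ha
        obtain ⟨b', hb', rfl⟩ := hb
        exact ⟨a' * b', Subgroup.mul_mem _ ha' hb', ext1_mul ι (hAB ha') (hAB hb')⟩
      | inv a _ ha =>
        obtain ⟨a', ha', rfl⟩ := ha
        exact ⟨a'⁻¹, Subgroup.inv_mem _ ha', ext1_inv ι (hAB ha')⟩
    obtain ⟨z, hz, hzx⟩ := key _ h
    have := ext1_inj hinj (hAB hz) hx hzx
    rw [← this]; exact hz

variable [Finite G] {p : ℕ} [Fact p.Prime]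

/-- The subsystem induced by a normal subgroup is saturated. -/
theorem realizedSub_saturated {ι : S →* G} (hinj : Function.Injective ι) (Sy : Sylow p G)
    (hSy : (Sy : Subgroup G) = ι.range) (N : Subgroup G) [N.Normal] :
    (realizedSub hinj N).IsSaturated p := by
  have hmem : ∀ x : ↥(pullback ι N), (ι.comp (Subgroup.inclusion (pullback_le ι N))) x ∈ N :=
    fun x => (mem_pullback.mp x.2).2
  let ι' : ↥(pullback ι N) →* ↥N := (ι.comp (Subgroup.inclusion (pullback_le ι N))).codRestrict N hmem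
  have hι' : ∀ x : ↥(pullback ι N), ((ι' x : N) : G) = ι ⟨x, pullback_le ι N x.2⟩ := fun x => rfl
  have hι'inj : Function.Injective ι' := by
    intro a b hab
    have h1 : ι ⟨a, pullback_le ι N a.2⟩ = ι ⟨b, pullback_le ι N b.2⟩ := by
      rw [← hι', ← hι', hab]
    have h2 := hinj h1
    exact Subtype.ext (congrArg (fun z : S => (z : Ω)) h2)
  have hreal' : (realizedSub hinj N).IsRealizedBy ι' := by
    refine ⟨hι'inj, fun P hP φ hφ => ?_⟩
    rw [mem_realizedSub_hom]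
    constructor
    · rintro ⟨-, -, g, hgN, hg⟩
      refine ⟨⟨g, hgN⟩, fun x => Subtype.ext ?_⟩
      show ι ⟨φ x, _⟩ = g * ι ⟨x, _⟩ * g⁻¹
      have := hg x
      rw [ext1_of_mem ι (pullback_le ι N (hφ x)), ext1_of_mem ι (pullback_le ι N (hP x.2))] at this
      exact this
    · rintro ⟨g, hg⟩
      refine ⟨hP, hφ, g, g.2, fun x => ?_⟩
      rw [ext1_of_mem ι (pullback_le ι N (hφ x)), ext1_of_mem ι (pullback_le ι N (hP x.2))]
      exact congrArg Subtype.val (hg x)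
  have hrange : ((Helper16.sylowInf Sy N : Sylow p N) : Subgroup N) = ι'.range := by
    rw [Helper16.coe_sylowInf, hSy]
    ext y
    rw [Subgroup.mem_subgroupOf]
    constructor
    · rintro ⟨s, hs⟩
      have : (s : Ω) ∈ pullback ι N := mem_pullback.mpr ⟨s.2, by
        show ι s ∈ N
        rw [hs]; exact y.2⟩
      exact ⟨⟨s, this⟩, Subtype.ext hs⟩
    · rintro ⟨x, rfl⟩
      exact ⟨⟨x, pullback_le ι N x.2⟩, rfl⟩
  exact realized_saturated hreal' (Helper16.sylowInf Sy N) hrange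

omit [Finite G] in
theorem pullback_stronglyClosed {F : FusionSystem S} {ι : S →* G} (hreal : F.IsRealizedBy ι)
    (N : Subgroup G) [hN : N.Normal] : F.StronglyClosed (pullback ι N) := by
  refine ⟨pullback_le ι N, fun R hR φ hφ x => ?_⟩
  obtain ⟨hRS, hφS, g, hg⟩ := (realized_hom_iff hreal φ).mp hφ
  rw [mem_pullback_iff]
  refine ⟨hφS x, ?_⟩
  rw [hg]
  exact hN.conj_mem _ (mem_pullback_iff.mp (hR x.2)).2 g

omit [Finite G] in
theorem realizedSub_isSubsystemOf {F : FusionSystem S} {ι : S →* G} (hreal : F.IsRealizedBy ι)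
    (N : Subgroup G) : (realizedSub hreal.1 N).IsSubsystemOf F := by
  rintro P φ ⟨hP, hφ, g, -, hg⟩
  exact (realized_hom_iff hreal φ).mpr
    ⟨le_trans hP (pullback_le ι N), fun x => pullback_le ι N (hφ x), g, hg⟩

omit [Finite G] in
theorem realizedSub_invariance {F : FusionSystem S} {ι : S →* G} (hreal : F.IsRealizedBy ι)
    (N : Subgroup G) [hN : N.Normal] :
    ∀ (P : Subgroup Ω) (hPT : P ≤ pullback ι N) (φ : P →* Ω), φ ∈ (realizedSub hreal.1 N).Hom P →
      ∀ α ∈ F.autGroup (pullback ι N),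
      ∃ χ ∈ (realizedSub hreal.1 N).Hom
          ((P.subgroupOf (pullback ι N)).map ((pullback ι N).subtype.comp α.toMonoidHom)),
        ∀ (x : P) (hφx : φ x ∈ pullback ι N)
          (hαx : ((α ⟨x, hPT x.2⟩ : ↥(pullback ι N)) : Ω) ∈
            (P.subgroupOf (pullback ι N)).map ((pullback ι N).subtype.comp α.toMonoidHom)),
          χ ⟨(α ⟨x, hPT x.2⟩ : ↥(pullback ι N)), hαx⟩ = ((α ⟨φ x, hφx⟩ : ↥(pullback ι N)) : Ω) := by
  intro P hPT φ hφ α hα
  obtain ⟨-, hφT, n, hnN, hn⟩ := hφ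
  have hTS := pullback_le ι N
  have hα' := (mem_autGroup_iff F hTS α).mp hα
  obtain ⟨-, -, h, hh⟩ := (realized_hom_iff hreal _).mp hα'
  have hh' : ∀ x : ↥(pullback ι N), ext1 ι ((α x : ↥(pullback ι N)) : Ω) = h * ext1 ι (x : Ω) * h⁻¹ := hh
  have hP'T : (P.subgroupOf (pullback ι N)).map ((pullback ι N).subtype.comp α.toMonoidHom) ≤
      pullback ι N := by
    rintro _ ⟨y, -, rfl⟩
    exact (α y).2
  have hP'mem : ∀ y ∈ (P.subgroupOf (pullback ι N)).map ((pullback ι N).subtype.comp α.toMonoidHom),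
      ∃ x : P, y = (α ⟨x, hPT x.2⟩ : ↥(pullback ι N)) := by
    rintro _ ⟨y, hy, rfl⟩
    exact ⟨⟨y, Subgroup.mem_subgroupOf.mp hy⟩, rfl⟩
  have key : ∀ x : P, (h * n * h⁻¹) * ext1 ι ((α ⟨x, hPT x.2⟩ : ↥(pullback ι N)) : Ω) * (h * n * h⁻¹)⁻¹ =
      ext1 ι ((α ⟨φ x, hφT x⟩ : ↥(pullback ι N)) : Ω) := by
    intro x
    rw [hh', hh']
    show _ = h * ext1 ι (φ x) * h⁻¹
    rw [hn x]
    show h * n * h⁻¹ * (h * ext1 ι (x : Ω) * h⁻¹) * (h * n * h⁻¹)⁻¹ = _
    group
  have hrange : ∀ y ∈ (P.subgroupOf (pullback ι N)).map ((pullback ι N).subtype.comp α.toMonoidHom),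
      (h * n * h⁻¹) * ext1 ι y * (h * n * h⁻¹)⁻¹ ∈ ι.range := by
    intro y hy
    obtain ⟨x, rfl⟩ := hP'mem y hy
    rw [key]
    exact ext1_mem_range ι (hTS (α _).2)
  have hval : ∀ (y : ↥((P.subgroupOf (pullback ι N)).map ((pullback ι N).subtype.comp α.toMonoidHom)))
      (x : P), (y : Ω) = (α ⟨x, hPT x.2⟩ : ↥(pullback ι N)) →
      rconj hreal.1 (h * n * h⁻¹) (le_trans hP'T hTS) hrange y = (α ⟨φ x, hφT x⟩ : ↥(pullback ι N)) := by
    intro y x hyx
    apply ext1_inj hreal.1 (rconj_mem _ _ _ _ _) (hTS (α _).2)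
    rw [ext1_rconj, hyx, key]
  refine ⟨rconj hreal.1 (h * n * h⁻¹) (le_trans hP'T hTS) hrange,
    ⟨hP'T, ?_, h * n * h⁻¹, hN.conj_mem n hnN h, ext1_rconj _ _ _ _⟩, ?_⟩
  · intro y
    obtain ⟨x, hx⟩ := hP'mem y y.2
    rw [hval y x hx]
    exact (α _).2
  · intro x hφx hαx
    exact hval _ x rfl

theorem realizedSub_frattini {F : FusionSystem S} {ι : S →* G} (hreal : F.IsRealizedBy ι)
    (Sy : Sylow p G) (hSy : (Sy : Subgroup G) = ι.range) (N : Subgroup G) [hN : N.Normal] :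
    ∀ (P : Subgroup Ω), P ≤ pullback ι N → ∀ (φ : P →* Ω), φ ∈ F.Hom P →
      ∃ α ∈ F.autGroup (pullback ι N), ∃ φ₀ ∈ (realizedSub hreal.1 N).Hom P,
        ∀ (x : P) (hx : φ₀ x ∈ pullback ι N), φ x = ((α ⟨φ₀ x, hx⟩ : ↥(pullback ι N)) : Ω) := by
  intro P hPT φ hφ
  have : Finite S := Finite.of_injective ι hreal.1
  have hTS := pullback_le ι N
  have : Finite ↥(pullback ι N) :=
    Finite.of_injective (Subgroup.inclusion hTS) (Subgroup.inclusion_injective hTS)
  obtain ⟨-, hφS, g, hg⟩ := (realized_hom_iff hreal φ).mp hφ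
  obtain ⟨a, ha, c, hc, rfl⟩ := Helper16.frattini_inf_normal Sy N g
  rw [hSy] at ha
  have hconj : ∀ b ∈ Subgroup.normalizer ((ι.range ⊓ N : Subgroup G) : Set G), ∀ y ∈ ι.range ⊓ N,
      b * y * b⁻¹ ∈ ι.range ⊓ N := fun b hb y hy => (Subgroup.mem_normalizer_iff.mp hb y).mp hy
  have hrangeT : ∀ x ∈ pullback ι N, a * ext1 ι x * a⁻¹ ∈ ι.range :=
    fun x hx => (hconj a ha _ (mem_range_inf_iff.mpr ⟨x, hx, rfl⟩)).1
  have hψ : rconj hreal.1 a hTS hrangeT ∈ F.Hom (pullback ι N) := rconj_mem_hom hreal a hTS hrangeT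
  have hψT : ∀ x : ↥(pullback ι N), (x : Ω) ∈ pullback ι N →
      rconj hreal.1 a hTS hrangeT x ∈ pullback ι N := by
    intro x _
    rw [mem_pullback_iff]
    refine ⟨rconj_mem _ _ _ _ _, ?_⟩
    rw [ext1_rconj]
    exact (hconj a ha _ (mem_range_inf_iff.mpr ⟨x, x.2, rfl⟩)).2
  obtain ⟨α, hα, hαψ⟩ := exists_aut_restrict F (le_refl (pullback ι N)) hψ hψT
  have hαmem : (α : MulAut ↥(pullback ι N)) ∈ F.autGroup (pullback ι N) :=
    (mem_autGroup_iff F hTS α).mpr hα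
  have hφT : ∀ x : P, φ x ∈ pullback ι N := fun x => (pullback_stronglyClosed hreal N).2 P hPT φ hφ x
  have hc_eq : ∀ x : P, c * ext1 ι (x : Ω) * c⁻¹ = a⁻¹ * ext1 ι (φ x) * a⁻¹⁻¹ := by
    intro x
    rw [hg]
    group
  have hrangeP : ∀ x ∈ P, c * ext1 ι x * c⁻¹ ∈ ι.range := by
    intro x hx
    rw [hc_eq ⟨x, hx⟩]
    exact (hconj a⁻¹ (Subgroup.inv_mem _ ha) _ (mem_range_inf_iff.mpr ⟨φ ⟨x, hx⟩, hφT _, rfl⟩)).1
  have hφ₀T : ∀ x : P, rconj hreal.1 c (le_trans hPT hTS) hrangeP x ∈ pullback ι N := by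
    intro x
    rw [mem_pullback_iff]
    refine ⟨rconj_mem _ _ _ _ _, ?_⟩
    rw [ext1_rconj]
    exact hN.conj_mem _ (mem_pullback_iff.mp (hPT x.2)).2 c
  refine ⟨α, hαmem, rconj hreal.1 c (le_trans hPT hTS) hrangeP,
    ⟨hPT, hφ₀T, c, hc, ext1_rconj _ _ _ _⟩, fun x hx => ?_⟩
  apply ext1_inj hreal.1 (hφS x) (hTS (α _).2)
  rw [hg, hαψ, ext1_rconj]
  show _ = a * ext1 ι (rconj hreal.1 c (le_trans hPT hTS) hrangeP x) * a⁻¹
  rw [ext1_rconj]
  group

theorem realizedSub_extension {F : FusionSystem S} {ι : S →* G} (hreal : F.IsRealizedBy ι)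
    (Sy : Sylow p G) (hSy : (Sy : Subgroup G) = ι.range) (N : Subgroup G) [hN : N.Normal] :
    ∀ α ∈ (realizedSub hreal.1 N).autGroup (pullback ι N),
      ∃ β ∈ F.autGroup (pullback ι N ⊔ centralizerIn S (pullback ι N)),
      (∀ x : ↥(pullback ι N), ((β (Subgroup.inclusion le_sup_left x) :
          ↥(pullback ι N ⊔ centralizerIn S (pullback ι N))) : Ω) = ((α x : ↥(pullback ι N)) : Ω)) ∧
      ∀ c : ↥(pullback ι N ⊔ centralizerIn S (pullback ι N)), (c : Ω) ∈ centralizerIn S (pullback ι N) →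
        (c : Ω)⁻¹ * ((β c : ↥(pullback ι N ⊔ centralizerIn S (pullback ι N))) : Ω) ∈
          pullback ι N ⊓ Subgroup.centralizer ((pullback ι N : Subgroup Ω) : Set Ω) := by
  intro α hα
  have : Finite S := Finite.of_injective ι hreal.1
  have hinj := hreal.1
  have hTS := pullback_le ι N
  have hCS : centralizerIn S (pullback ι N) ≤ S := inf_le_left
  have hRS : pullback ι N ⊔ centralizerIn S (pullback ι N) ≤ S := sup_le hTS hCS
  have : Finite ↥(pullback ι N ⊔ centralizerIn S (pullback ι N)) :=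
    Finite.of_injective (Subgroup.inclusion hRS) (Subgroup.inclusion_injective hRS)
  have hα' := (mem_autGroup_iff (realizedSub hreal.1 N) (le_refl _) α).mp hα
  obtain ⟨-, -, n, hnN, hn⟩ := hα'
  have hn' : ∀ x : ↥(pullback ι N), ext1 ι ((α x : ↥(pullback ι N)) : Ω) = n * ext1 ι (x : Ω) * n⁻¹ := hn
  have hnT : ∀ t ∈ (Sy : Subgroup G) ⊓ N, n * t * n⁻¹ ∈ (Sy : Subgroup G) ⊓ N := by
    rw [hSy]
    intro t ht
    obtain ⟨x, hx, rfl⟩ := mem_range_inf_iff.mp ht
    rw [← hn' ⟨x, hx⟩]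
    exact mem_range_inf_iff.mpr ⟨_, (α ⟨x, hx⟩).2, rfl⟩
  obtain ⟨g, hgN, hg1, hg2, hg3⟩ := exists_extension_normal Sy N hnN hnT
  rw [hSy] at hg1 hg2 hg3
  -- membership in `R`, read through the bridge function
  have hRiff : ∀ x ∈ S, x ∈ pullback ι N ⊔ centralizerIn S (pullback ι N) ↔
      ext1 ι x ∈ (ι.range ⊓ N) ⊔ centralizerIn ι.range (ι.range ⊓ N) := by
    intro x hx
    refine mem_sup_iff_ext1 hinj hTS hCS inf_le_left inf_le_left ?_ ?_ hx
    · intro y hy
      constructor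
      · intro h
        exact mem_range_inf_iff.mpr ⟨y, h, rfl⟩
      · intro h
        exact mem_pullback_iff.mpr ⟨hy, h.2⟩
    · intro y hy
      exact mem_centralizerIn_pullback_iff hinj hy
  have hrangeR : ∀ x ∈ pullback ι N ⊔ centralizerIn S (pullback ι N), g * ext1 ι x * g⁻¹ ∈ ι.range := by
    intro x hx
    have h1 := hg2 _ ((hRiff x (hRS hx)).mp hx)
    exact (sup_le (inf_le_left : ι.range ⊓ N ≤ ι.range)
      (inf_le_left : centralizerIn ι.range (ι.range ⊓ N) ≤ ι.range)) h1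
  have hψ : rconj hinj g hRS hrangeR ∈ F.Hom (pullback ι N ⊔ centralizerIn S (pullback ι N)) :=
    rconj_mem_hom hreal g hRS hrangeR
  have hψR : ∀ x : ↥(pullback ι N ⊔ centralizerIn S (pullback ι N)),
      (x : Ω) ∈ pullback ι N ⊔ centralizerIn S (pullback ι N) →
      rconj hinj g hRS hrangeR x ∈ pullback ι N ⊔ centralizerIn S (pullback ι N) := by
    intro x _
    rw [hRiff _ (rconj_mem _ _ _ _ _), ext1_rconj]
    exact hg2 _ ((hRiff x (hRS x.2)).mp x.2)
  obtain ⟨β, hβ, hβψ⟩ := exists_aut_restrict F (le_refl _) hψ hψR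
  have hβmem : (β : MulAut ↥(pullback ι N ⊔ centralizerIn S (pullback ι N))) ∈
      F.autGroup (pullback ι N ⊔ centralizerIn S (pullback ι N)) :=
    (mem_autGroup_iff F hRS β).mpr hβ
  refine ⟨β, hβmem, fun x => ?_, fun c hc => ?_⟩
  · show ((β (Subgroup.inclusion le_sup_left x) : ↥(pullback ι N ⊔ centralizerIn S (pullback ι N))) : Ω) = _
    rw [hβψ]
    apply ext1_inj hinj (rconj_mem _ _ _ _ _) (hTS (α x).2)
    rw [ext1_rconj, hn']
    exact hg1 _ (mem_range_inf_iff.mpr ⟨x, x.2, rfl⟩)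
  · show (c : Ω)⁻¹ * ((β c : ↥(pullback ι N ⊔ centralizerIn S (pullback ι N))) : Ω) ∈ _
    rw [hβψ]
    have hcS : (c : Ω) ∈ S := hCS hc
    have hψS : rconj hinj g hRS hrangeR ⟨c, c.2⟩ ∈ S := rconj_mem _ _ _ _ _
    have hzS : (c : Ω)⁻¹ * rconj hinj g hRS hrangeR ⟨c, c.2⟩ ∈ S :=
      S.mul_mem (S.inv_mem hcS) hψS
    have hz : ext1 ι ((c : Ω)⁻¹ * rconj hinj g hRS hrangeR ⟨c, c.2⟩) ∈
        (ι.range ⊓ N) ⊓ Subgroup.centralizer ((ι.range ⊓ N : Subgroup G) : Set G) := by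
      rw [ext1_mul ι (S.inv_mem hcS) hψS, ext1_inv ι hcS, ext1_rconj]
      exact hg3 _ ((mem_centralizerIn_pullback_iff hinj hcS).mp hc)
    rw [Subgroup.mem_inf]
    refine ⟨mem_pullback_iff.mpr ⟨hzS, hz.1.2⟩, ?_⟩
    rw [Subgroup.mem_centralizer_iff]
    intro t ht
    have htS : t ∈ S := hTS ht
    apply ext1_inj hinj (S.mul_mem htS hzS) (S.mul_mem hzS htS)
    rw [ext1_mul ι htS hzS, ext1_mul ι hzS htS]
    exact (Subgroup.mem_centralizer_iff.mp hz.2) _ (mem_range_inf_iff.mpr ⟨t, ht, rfl⟩)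

/-- **Main theorem**: the subsystem induced by a normal subgroup of the realizing group is normal. -/
theorem realizedSub_isNormalIn {F : FusionSystem S} {ι : S →* G} (hreal : F.IsRealizedBy ι)
    (Sy : Sylow p G) (hSy : (Sy : Subgroup G) = ι.range) (N : Subgroup G) [N.Normal] :
    (realizedSub hreal.1 N).IsNormalIn F p :=
  ⟨⟨realizedSub_saturated hreal.1 Sy hSy N, realized_saturated hreal Sy hSy,
    realizedSub_isSubsystemOf hreal N, pullback_stronglyClosed hreal N,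
    realizedSub_invariance hreal N, realizedSub_frattini hreal Sy hSy N⟩,
    realizedSub_extension hreal Sy hSy N⟩

/-- A group realizing a simple fusion system on a Sylow subgroup, with trivial `p'`-core and no proper
subgroup containing the Sylow subgroup and inducing the whole system, is simple. -/
theorem isSimpleGroup_of_realized_minimal {F : FusionSystem S} {ι : S →* G} (hreal : F.IsRealizedBy ι)
    (Sy : Sylow p G) (hSy : (Sy : Subgroup G) = ι.range) (hsimple : F.IsSimple p)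
    (hcore : pPrimeCore p G = ⊥)
    (hmin : ∀ H : Subgroup G, ι.range ≤ H → H ≠ ⊤ → ∃ (P : Subgroup Ω) (φ : P →* Ω), φ ∈ F.Hom P ∧
      ¬ ∃ g ∈ H, ∀ x : P, ext1 ι (φ x) = g * ext1 ι (x : Ω) * g⁻¹) :
    IsSimpleGroup G := by
  have hSne : S ≠ ⊥ := hsimple.2.1
  have : Nontrivial G := by
    obtain ⟨a, ha⟩ := (Subgroup.ne_bot_iff_exists_ne_one (H := S)).mp hSne
    refine ⟨⟨ι a, 1, fun h => ha ?_⟩⟩
    exact hreal.1 (h.trans (map_one ι).symm)
  refine ⟨fun N hN => ?_⟩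
  have := hN
  rcases hsimple.2.2 _ (realizedSub hreal.1 N) (realizedSub_isNormalIn hreal Sy hSy N) with hT | ⟨hT, hHom⟩
  · left
    have h1 : (Sy : Subgroup G) ⊓ N = ⊥ := by
      rw [hSy, eq_bot_iff]
      intro y hy
      obtain ⟨x, hx, rfl⟩ := mem_range_inf_iff.mp hy
      rw [hT, Subgroup.mem_bot] at hx
      rw [hx, ext1_one]
      exact Subgroup.mem_bot.mpr rfl
    have hcard : Nat.card (Helper16.sylowInf Sy N : Sylow p N) = 1 := by
      have h2 : ((Helper16.sylowInf Sy N : Sylow p N) : Subgroup N) = ⊥ := by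
        rw [Helper16.coe_sylowInf, eq_bot_iff]
        intro y hy
        rw [Subgroup.mem_subgroupOf] at hy
        have : (y : G) ∈ (Sy : Subgroup G) ⊓ N := ⟨hy, y.2⟩
        rw [h1, Subgroup.mem_bot] at this
        exact Subgroup.mem_bot.mpr (Subtype.ext this)
      show Nat.card ((Helper16.sylowInf Sy N : Sylow p N) : Subgroup N) = 1
      rw [h2]
      exact Subgroup.card_bot
    have hcop : (Nat.card N).Coprime p := by
      rw [Sylow.card_eq_multiplicity] at hcard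
      have hp : p.Prime := Fact.out
      have h0 : (Nat.card N).factorization p = 0 := by
        by_contra hne
        have : 1 < p ^ (Nat.card N).factorization p := Nat.one_lt_pow hne hp.one_lt
        omega
      have hndvd : ¬ p ∣ Nat.card N := by
        intro hdvd
        have := (hp.dvd_iff_one_le_factorization (Nat.card_pos (α := N)).ne').mp hdvd
        omega
      exact (Nat.Coprime.symm ((Nat.Prime.coprime_iff_not_dvd hp).mpr hndvd))
    have := Helper1.le_pPrimeCore hN hcop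
    rw [hcore] at this
    exact eq_bot_iff.mpr this
  · right
    by_contra hne
    have hle : ι.range ≤ N := by
      rintro _ ⟨s, rfl⟩
      have : (s : Ω) ∈ pullback ι N := by rw [hT]; exact s.2
      exact (mem_pullback.mp this).2
    obtain ⟨P, φ, hφ, hno⟩ := hmin N hle hne
    rw [← hHom P] at hφ
    obtain ⟨-, -, g, hgN, hg⟩ := hφ
    exact hno ⟨g, hgN, hg⟩

end

end Cfsg.Agent.Lib.Helper27
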