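import Mathlib
import Cfsg.Prelude.Def_FusionSystem
import Cfsg.Agent.Lib.Helper27.FusionSat

set_option autoImplicit false

namespace Cfsg.Agent.Lib.Helper27

open Cfsg Cfsg.FusionSystem

variable {Ω : Type*} [Group Ω]

/-! ### The inner fusion system of a finite `p`-group is saturated -/

theorem mem_inner_iff {Q P : Subgroup Ω} (φ : P →* Ω) :
    φ ∈ (innerFusionSystem Q).Hom P ↔ P ≤ Q ∧ ∃ g ∈ Q, ∀ x : P, φ x = g * (x : Ω) * g⁻¹ := Iff.rfl

theorem inner_autGroup_eq {Q P : Subgroup Ω} (hP : P ≤ Q) :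
    (innerFusionSystem Q).autGroup P = autInducedBy Q P := by
  ext α
  rw [mem_autGroup_iff _ hP, mem_autInducedBy_iff]
  constructor
  · rintro ⟨-, g, hg, h⟩
    exact ⟨g, hg, fun x => h x⟩
  · rintro ⟨g, hg, h⟩
    exact ⟨hP, g, hg, fun x => h x⟩

theorem inner_isSaturated {Q : Subgroup Ω} [Finite Q] {p : ℕ} [Fact p.Prime] (hQ : IsPGroup p Q) :
    (innerFusionSystem Q).IsSaturated p := by
  intro P hP
  haveI : Finite P := Finite.of_injective (Subgroup.inclusion hP) (Subgroup.inclusion_injective hP)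
  refine ⟨P, isConj_refl _ hP, ⟨hP, ?_⟩, hP, ?_⟩
  · obtain ⟨R⟩ : Nonempty (Sylow p ((innerFusionSystem Q).autGroup P)) := inferInstance
    refine ⟨R, ?_⟩
    have hp : IsPGroup p ((innerFusionSystem Q).autGroup P) := by
      rw [inner_autGroup_eq hP]
      exact isPGroup_autInducedBy hQ P
    have htop : (R : Subgroup ((innerFusionSystem Q).autGroup P)) = ⊤ :=
      (R.is_maximal' (hp.to_subgroup _) le_top).symm
    rw [htop, ← inner_autGroup_eq hP]
    simp
  · intro P' φ hφ _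
    obtain ⟨hP', g, hg, h⟩ := hφ
    refine ⟨conjHom _ g, ⟨extender_le_S φ, g, hg, fun x => rfl⟩, ?_⟩
    intro x hxP' hxN
    rw [h ⟨x, hxP'⟩]
    rfl

/-! ### The upper central series of a subgroup, inside the ambient group -/

/-- the `j`-th term of the upper central series of `Q`, as a subgroup of the ambient group -/
def ucs (Q : Subgroup Ω) (j : ℕ) : Subgroup Ω := (Subgroup.upperCentralSeries Q j).map Q.subtype

theorem ucs_zero (Q : Subgroup Ω) : ucs Q 0 = ⊥ := by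
  unfold ucs
  rw [Subgroup.upperCentralSeries_zero, Subgroup.map_bot]

theorem ucs_le (Q : Subgroup Ω) (j : ℕ) : ucs Q j ≤ Q := by
  rintro _ ⟨x, -, rfl⟩
  exact x.2

theorem ucs_mono (Q : Subgroup Ω) : Monotone (ucs Q) := by
  intro i j hij
  exact Subgroup.map_mono (Subgroup.upperCentralSeries_mono Q hij)

theorem exists_ucs_eq {Q : Subgroup Ω} [Finite Q] {p : ℕ} [Fact p.Prime] (hQ : IsPGroup p Q) :
    ∃ n, ucs Q n = Q := by
  haveI : Group.IsNilpotent Q := hQ.isNilpotent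
  obtain ⟨n, hn⟩ := Group.IsNilpotent.nilpotent Q
  refine ⟨n, ?_⟩
  unfold ucs
  rw [hn, ← MonoidHom.range_eq_map, Subgroup.range_subtype]

theorem ucs_comm_mem (Q : Subgroup Ω) (j : ℕ) {x : Ω} (hx : x ∈ ucs Q (j + 1)) {q : Ω} (hq : q ∈ Q) :
    x * q * x⁻¹ * q⁻¹ ∈ ucs Q j := by
  obtain ⟨x', hx', rfl⟩ := hx
  have := Subgroup.mem_upperCentralSeries_succ_iff.mp hx' ⟨q, hq⟩
  exact ⟨_, this, rfl⟩

theorem ucs_aut_mem (Q : Subgroup Ω) (j : ℕ) (β : Q ≃* Q) (x : Q) :
    ((β x : Q) : Ω) ∈ ucs Q j ↔ (x : Ω) ∈ ucs Q j := by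
  have hchar : (Subgroup.upperCentralSeries Q j).Characteristic := inferInstance
  have h1 : (Subgroup.upperCentralSeries Q j).comap β.toMonoidHom = Subgroup.upperCentralSeries Q j :=
    hchar.fixed β
  have h2 : ∀ y : Q, (y : Ω) ∈ ucs Q j ↔ y ∈ Subgroup.upperCentralSeries Q j := by
    intro y
    constructor
    · rintro ⟨y', hy', hyy'⟩
      have : y' = y := Subtype.ext hyy'
      rw [← this]; exact hy'
    · intro hy
      exact ⟨y, hy, rfl⟩
  rw [h2, h2]
  conv_rhs => rw [← h1]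
  rfl

/-- A term of the upper central series of `Q` is weakly closed as soon as every map of the system defined
on it is the restriction of some automorphism of the group `Q`. -/
theorem ucs_weaklyClosed {S : Subgroup Ω} (F : FusionSystem S) {Q : Subgroup Ω} (hQS : Q ≤ S) (j : ℕ)
    (h : ∀ φ ∈ F.Hom (ucs Q j), ∃ β : Q ≃* Q, ∀ x : ucs Q j, φ x = ((β ⟨x, ucs_le Q j x.2⟩ : Q) : Ω)) :
    F.WeaklyClosed (ucs Q j) := by
  refine ⟨le_trans (ucs_le Q j) hQS, fun φ hφ => ?_⟩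
  obtain ⟨β, hβ⟩ := h φ hφ
  ext y
  constructor
  · rintro ⟨x, rfl⟩
    rw [hβ x]
    exact (ucs_aut_mem Q j β _).mpr x.2
  · intro hy
    have hyQ : y ∈ Q := ucs_le Q j hy
    have h1 : ((β.symm ⟨y, hyQ⟩ : Q) : Ω) ∈ ucs Q j := by
      rw [← ucs_aut_mem Q j β]
      simpa using hy
    refine ⟨⟨_, h1⟩, ?_⟩
    rw [hβ]
    simp

end Cfsg.Agent.Lib.Helper27
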