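import Mathlib
import Cfsg.Prelude.Def_FusionSystem
import Cfsg.Agent.Lib.Helper27.FusionNormal
import Cfsg.Agent.Lib.Helper27.FusionNormalCrit
import Cfsg.Agent.Lib.Helper27.FusionUCS
import Cfsg.Agent.Lib.Helper27.FusionCentric

set_option autoImplicit false

namespace Cfsg.Agent.Lib.Helper27

open Cfsg Cfsg.FusionSystem

variable {Ω : Type*} [Group Ω] {S : Subgroup Ω}

/-! ### Strongly closed subgroups attached to a normal subgroup -/

theorem ucs_stronglyClosed_of_normal {F : FusionSystem S} {Q : Subgroup Ω} [Finite Q] (hQ : F.IsNormal Q)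
    (j : ℕ) : F.StronglyClosed (ucs Q j) := by
  refine ⟨(ucs_le Q j).trans hQ.1, fun R hR φ hφ x => ?_⟩
  obtain ⟨ψ, -, h1, α, -, h2⟩ := normal_exists_extension hQ hφ
  have hxQ : (x : Ω) ∈ Q := ucs_le Q j (hR x.2)
  have h3 : Subgroup.inclusion (le_sup_left : R ≤ R ⊔ Q) x =
      Subgroup.inclusion (le_sup_right : Q ≤ R ⊔ Q) ⟨x, hxQ⟩ := Subtype.ext rfl
  rw [← h1 x, h3, ← h2]
  exact (ucs_aut_mem Q j α ⟨x, hxQ⟩).mpr (hR x.2)

theorem stronglyClosed_inf {F : FusionSystem S} {A B : Subgroup Ω} (hA : F.StronglyClosed A)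
    (hB : F.StronglyClosed B) : F.StronglyClosed (A ⊓ B) :=
  ⟨inf_le_left.trans hA.1, fun R hR φ hφ x =>
    ⟨hA.2 R (hR.trans inf_le_left) φ hφ x, hB.2 R (hR.trans inf_le_right) φ hφ x⟩⟩

theorem stronglyClosed_of_subsystem {T : Subgroup Ω} {E : FusionSystem T} {F : FusionSystem S}
    (hEF : E.IsSubsystemOf F) {A : Subgroup Ω} (hA : F.StronglyClosed A) (hAT : A ≤ T) :
    E.StronglyClosed A :=
  ⟨hAT, fun R hR φ hφ x => hA.2 R hR φ (hEF R hφ) x⟩

/-- The centralizer in `S` of a subgroup normal in the system is strongly closed. -/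
theorem centralizerIn_stronglyClosed_of_normal {F : FusionSystem S} {Q : Subgroup Ω} (hQ : F.IsNormal Q) :
    F.StronglyClosed (centralizerIn S Q) := by
  refine ⟨centralizerIn_le_S S Q, fun R hR φ hφ x => ?_⟩
  obtain ⟨ψ, hψ, h1, h2⟩ := hQ.2 R φ hφ
  rw [mem_centralizerIn_iff]
  refine ⟨(F.le_of_mem hφ).2 x, fun y hy => ?_⟩
  rw [← h2] at hy
  obtain ⟨z, hz, rfl⟩ := hy
  rw [← h1 x, ← map_mul, ← map_mul]
  congr 1
  apply Subtype.ext
  exact (mem_centralizerIn_iff.mp (hR x.2)).2 z (Subgroup.mem_subgroupOf.mp hz)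

theorem mem_ucs_one_iff {Q : Subgroup Ω} {x : Ω} : x ∈ ucs Q 1 ↔ x ∈ Q ∧ ∀ q ∈ Q, q * x = x * q := by
  unfold ucs
  rw [Subgroup.upperCentralSeries_one]
  constructor
  · rintro ⟨y, hy, rfl⟩
    refine ⟨y.2, fun q hq => ?_⟩
    have := Subgroup.mem_center_iff.mp hy ⟨q, hq⟩
    exact congrArg Subtype.val this
  · rintro ⟨hx, h⟩
    have hc : (⟨x, hx⟩ : Q) ∈ Subgroup.center Q := by
      rw [Subgroup.mem_center_iff]
      intro q
      exact Subtype.ext (h q q.2)
    exact ⟨⟨x, hx⟩, hc, rfl⟩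

/-- The intersection of a subgroup normal in `F` with a strongly closed subgroup `T` is normal in every
saturated subsystem over a subgroup containing `T`. -/
theorem isNormal_inf_of_subsystem {p : ℕ} [Fact p.Prime] {U : Subgroup Ω} [Finite U] (hU : IsPGroup p U)
    {E : FusionSystem U} (hE : E.IsSaturated p) {F : FusionSystem S} (hEF : E.IsSubsystemOf F)
    {T : Subgroup Ω} (hTF : F.StronglyClosed T) (hTU : T ≤ U) {Q : Subgroup Ω} [Finite Q]
    (hQ : F.IsNormal Q) (hQp : IsPGroup p Q) :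
    E.IsNormal (Q ⊓ T) := by
  obtain ⟨n, hn⟩ := exists_ucs_eq hQp
  have hsc : ∀ j, E.StronglyClosed (ucs Q j ⊓ T) := fun j =>
    stronglyClosed_of_subsystem hEF (stronglyClosed_inf (ucs_stronglyClosed_of_normal hQ j) hTF)
      (inf_le_right.trans hTU)
  have hQT : E.StronglyClosed (Q ⊓ T) := by
    have := hsc n
    rwa [hn] at this
  refine isNormal_of_central_series hU hE hQT (fun j => ucs Q j ⊓ T) n ?_ ?_ ?_ ?_ ?_
  · show ucs Q 0 ⊓ T = ⊥
    rw [ucs_zero, bot_inf_eq]
  · show ucs Q n ⊓ T = Q ⊓ T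
    rw [hn]
  · intro j _
    exact inf_le_inf_right T (ucs_le Q j)
  · intro j _
    exact weaklyClosed_of_stronglyClosed (hsc j)
  · intro j _ x hx q hq
    refine ⟨ucs_comm_mem Q j hx.1 hq.1, ?_⟩
    exact T.mul_mem (T.mul_mem (T.mul_mem hx.2 hq.2) (T.inv_mem hx.2)) (T.inv_mem hq.2)

open scoped commutatorElement in
/-- In a constrained system, for a strongly closed subgroup `T`, the subgroup `O_p(F) ∩ T` contains its
centralizer in `T`. -/
theorem centralizerIn_core_inf_le [Finite S] {p : ℕ} [Fact p.Prime] (hS : IsPGroup p S) {F : FusionSystem S}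
    (hF : F.IsConstrained p) {T : Subgroup Ω} (hT : F.StronglyClosed T) :
    centralizerIn T (F.core ⊓ T) ≤ F.core ⊓ T := by
  obtain ⟨hsat, Q₀, hQ₀n, hQ₀c⟩ := hF
  have hQn : F.IsNormal F.core := isNormal_core F
  have hQS : F.core ≤ S := hQn.1
  have hQc : F.IsCentric F.core := isCentric_of_le hQ₀c (le_core hQ₀n) hQS
  haveI : Finite F.core := Finite.of_injective (Subgroup.inclusion hQS) (Subgroup.inclusion_injective hQS)
  have hQp : IsPGroup p F.core := hS.of_injective (Subgroup.inclusion hQS) (Subgroup.inclusion_injective hQS)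
  have hQ'n : F.IsNormal (F.core ⊓ T) :=
    isNormal_inf_of_subsystem hS hsat (fun P => subset_rfl) hT hT.1 hQn hQp
  have hCsc : F.StronglyClosed (centralizerIn S (F.core ⊓ T) ⊓ T) :=
    stronglyClosed_inf (centralizerIn_stronglyClosed_of_normal hQ'n) hT
  have hZsc : F.StronglyClosed ((centralizerIn S (F.core ⊓ T) ⊓ T) ⊓ ucs F.core 1) :=
    stronglyClosed_inf hCsc (ucs_stronglyClosed_of_normal hQn 1)
  -- the three subgroups lemma
  have h1 : ⁅centralizerIn S (F.core ⊓ T) ⊓ T, F.core⁆ ≤ F.core ⊓ T := by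
    rw [Subgroup.commutator_le]
    intro g₁ hg₁ g₂ hg₂
    rw [commutatorElement_def]
    refine ⟨?_, ?_⟩
    · exact F.core.mul_mem (normal_conj_mem hQn hg₁.1.1 hg₂) (F.core.inv_mem hg₂)
    · have h := stronglyClosed_conj_mem hT (hQS hg₂) (T.inv_mem hg₁.2)
      have h' := T.mul_mem hg₁.2 h
      simpa [mul_assoc] using h'
  have h2 : ⁅F.core ⊓ T, centralizerIn S (F.core ⊓ T) ⊓ T⁆ = ⊥ := by
    rw [Subgroup.commutator_eq_bot_iff_le_centralizer]
    intro y hy
    rw [Subgroup.mem_centralizer_iff]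
    intro c hc
    exact ((mem_centralizerIn_iff.mp hc.1).2 y hy).symm
  have h3 : ⁅⁅centralizerIn S (F.core ⊓ T) ⊓ T, F.core⁆, centralizerIn S (F.core ⊓ T) ⊓ T⁆ = ⊥ :=
    le_bot_iff.mp ((Subgroup.commutator_mono h1 le_rfl).trans h2.le)
  have h4 : ⁅⁅F.core, centralizerIn S (F.core ⊓ T) ⊓ T⁆, centralizerIn S (F.core ⊓ T) ⊓ T⁆ = ⊥ := by
    rw [Subgroup.commutator_comm F.core]; exact h3
  have h5 := Subgroup.commutator_commutator_eq_bot_of_rotate h3 h4
  rw [Subgroup.commutator_eq_bot_iff_le_centralizer] at h5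
  -- C is normal in F
  have hCn : F.IsNormal (centralizerIn S (F.core ⊓ T) ⊓ T) := by
    refine isNormal_of_central_series hS hsat hCsc
      (fun j => match j with
        | 0 => ⊥
        | 1 => (centralizerIn S (F.core ⊓ T) ⊓ T) ⊓ ucs F.core 1
        | _ => centralizerIn S (F.core ⊓ T) ⊓ T) 2 rfl rfl ?_ ?_ ?_
    · intro j hj
      interval_cases j
      · exact bot_le
      · exact inf_le_left
      · exact le_rfl
    · intro j hj
      interval_cases j
      · exact ⟨bot_le, fun φ hφ => by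
          apply le_antisymm
          · rintro _ ⟨x, rfl⟩
            have : x = 1 := Subtype.ext (Subgroup.mem_bot.mp x.2)
            rw [this, map_one]; exact Subgroup.one_mem _
          · exact bot_le⟩
      · exact weaklyClosed_of_stronglyClosed hZsc
      · exact weaklyClosed_of_stronglyClosed hCsc
    · intro j hj x hx q hq
      interval_cases j
      · -- x ∈ C ⊓ Z(Q), q ∈ C
        show x * q * x⁻¹ * q⁻¹ ∈ (⊥ : Subgroup Ω)
        rw [Subgroup.mem_bot]
        have hx' : x ∈ (centralizerIn S (F.core ⊓ T) ⊓ T) ⊓ ucs F.core 1 := hx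
        have hxQT : x ∈ F.core ⊓ T := ⟨ucs_le _ 1 hx'.2, hx'.1.2⟩
        have := (mem_centralizerIn_iff.mp hq.1).2 x hxQT
        rw [this]; group
      · show x * q * x⁻¹ * q⁻¹ ∈ (centralizerIn S (F.core ⊓ T) ⊓ T) ⊓ ucs F.core 1
        have hx' : x ∈ centralizerIn S (F.core ⊓ T) ⊓ T := hx
        have hw : ⁅x, q⁆ ∈ ⁅centralizerIn S (F.core ⊓ T) ⊓ T, centralizerIn S (F.core ⊓ T) ⊓ T⁆ :=
          Subgroup.commutator_mem_commutator hx' hq
        have hwc := h5 hw
        rw [Subgroup.mem_centralizer_iff] at hwc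
        rw [commutatorElement_def] at hwc
        have hwC : x * q * x⁻¹ * q⁻¹ ∈ centralizerIn S (F.core ⊓ T) ⊓ T :=
          Subgroup.mul_mem _ (Subgroup.mul_mem _ (Subgroup.mul_mem _ hx' hq) (Subgroup.inv_mem _ hx'))
            (Subgroup.inv_mem _ hq)
        refine ⟨hwC, ?_⟩
        show x * q * x⁻¹ * q⁻¹ ∈ ucs F.core 1
        rw [mem_ucs_one_iff]
        have hwQ : x * q * x⁻¹ * q⁻¹ ∈ F.core := by
          apply hQc.2 F.core (isConj_refl F hQS)
          rw [mem_centralizerIn_iff]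
          exact ⟨hwC.1.1, fun y hy => hwc y hy⟩
        exact ⟨hwQ, fun y hy => hwc y hy⟩
  have hCQ : centralizerIn S (F.core ⊓ T) ⊓ T ≤ F.core := le_core hCn
  intro g hg
  have hgC : g ∈ centralizerIn S (F.core ⊓ T) ⊓ T := ⟨⟨hT.1 hg.1, hg.2⟩, hg.1⟩
  exact ⟨hCQ hgC, hg.1⟩

/-- A subsystem over a strongly closed subgroup `T` of a constrained system `F`, saturated and contained in
`F`, is constrained. -/
theorem isConstrained_of_subsystem [Finite S] {p : ℕ} [Fact p.Prime] (hS : IsPGroup p S) {F : FusionSystem S}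
    (hF : F.IsConstrained p) {T : Subgroup Ω} (hT : F.StronglyClosed T) {E : FusionSystem T}
    (hE : E.IsSaturated p) (hEF : E.IsSubsystemOf F) : E.IsConstrained p := by
  have hTS : T ≤ S := hT.1
  haveI : Finite T := Finite.of_injective (Subgroup.inclusion hTS) (Subgroup.inclusion_injective hTS)
  have hTp : IsPGroup p T := hS.of_injective (Subgroup.inclusion hTS) (Subgroup.inclusion_injective hTS)
  have hQn : F.IsNormal F.core := isNormal_core F
  have hQS : F.core ≤ S := hQn.1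
  haveI : Finite F.core := Finite.of_injective (Subgroup.inclusion hQS) (Subgroup.inclusion_injective hQS)
  have hQp : IsPGroup p F.core := hS.of_injective (Subgroup.inclusion hQS) (Subgroup.inclusion_injective hQS)
  have hn : E.IsNormal (F.core ⊓ T) := isNormal_inf_of_subsystem hTp hE hEF hT le_rfl hQn hQp
  refine ⟨hE, F.core ⊓ T, hn, inf_le_right, fun Q' hQ' => ?_⟩
  have := weaklyClosed_eq_of_isConj (normal_weaklyClosed hn) hQ'
  rw [this]
  exact centralizerIn_core_inf_le hS hF hT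

end Cfsg.Agent.Lib.Helper27
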