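import Mathlib
import Cfsg.Prelude.Def_FusionComponents
import Cfsg.Agent.Lib.Helper27.FusionAlperin
import Cfsg.Agent.Lib.Helper27.FusionPStable
import Cfsg.Agent.Lib.Helper27.FusionNormal
import Cfsg.Agent.Lib.Helper17.PResidual

set_option autoImplicit false

/-! Subsystems of `p`-power index: equality of maps for systems over possibly different subgroups
(`HomEq`), uniqueness of the saturated subsystem of `p`-power index over a given subgroup, and
invariance of the hyperfocal subgroup. -/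

namespace Cfsg.Agent.Lib.Helper27

open Cfsg Cfsg.FusionSystem

section HomEq

variable {Ω : Type*} [Group Ω]

/-- Two fusion systems (over possibly different subgroups) have the same maps. -/
def HomEq {U₁ U₂ : Subgroup Ω} (D₁ : FusionSystem U₁) (D₂ : FusionSystem U₂) : Prop :=
  ∀ P : Subgroup Ω, D₁.Hom P = D₂.Hom P

theorem HomEq.refl {U : Subgroup Ω} (D : FusionSystem U) : HomEq D D := fun _ => rfl

theorem HomEq.symm {U₁ U₂ : Subgroup Ω} {D₁ : FusionSystem U₁} {D₂ : FusionSystem U₂} (h : HomEq D₁ D₂) :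
    HomEq D₂ D₁ := fun P => (h P).symm

theorem HomEq.trans {U₁ U₂ U₃ : Subgroup Ω} {D₁ : FusionSystem U₁} {D₂ : FusionSystem U₂}
    {D₃ : FusionSystem U₃} (h : HomEq D₁ D₂) (h' : HomEq D₂ D₃) : HomEq D₁ D₃ :=
  fun P => (h P).trans (h' P)

theorem HomEq.base_le {U₁ U₂ : Subgroup Ω} {D₁ : FusionSystem U₁} {D₂ : FusionSystem U₂}
    (h : HomEq D₁ D₂) : U₁ ≤ U₂ := by
  have h1 : U₁.subtype ∈ D₁.Hom U₁ := hom_subtype D₁ le_rfl
  rw [h U₁] at h1
  exact (D₂.le_of_mem h1).1

theorem HomEq.base_eq {U₁ U₂ : Subgroup Ω} {D₁ : FusionSystem U₁} {D₂ : FusionSystem U₂}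
    (h : HomEq D₁ D₂) : U₁ = U₂ := le_antisymm h.base_le h.symm.base_le

theorem fusionSystem_ext {U : Subgroup Ω} {D₁ D₂ : FusionSystem U} (h : ∀ P, D₁.Hom P = D₂.Hom P) :
    D₁ = D₂ := by
  obtain ⟨H₁, _, _, _, _, _⟩ := D₁
  obtain ⟨H₂, _, _, _, _, _⟩ := D₂
  have : H₁ = H₂ := funext h
  subst this
  rfl

/-- Transport of any property along `HomEq`. -/
theorem HomEq.transport {motive : ∀ U : Subgroup Ω, FusionSystem U → Prop} {U₁ U₂ : Subgroup Ω}
    {D₁ : FusionSystem U₁} {D₂ : FusionSystem U₂} (h : HomEq D₁ D₂) (h1 : motive U₁ D₁) :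
    motive U₂ D₂ := by
  have hU := h.base_eq
  subst hU
  have := fusionSystem_ext h
  subst this
  exact h1

end HomEq

section Comm

/-- For an automorphism `α` of order prime to `p` of a finite `p`-group `P`: `x⁻¹ α(x) ∈ [[P,α],α]`. -/
theorem comm_mem_comm_comm {P : Type*} [Group P] [Finite P] {p : ℕ} [Fact p.Prime] (hP : IsPGroup p P)
    (α : MulAut P) {m : ℕ} (hm : m.Coprime p) (hαm : α ^ m = 1) (x : P) :
    x⁻¹ * α x ∈ Subgroup.closure {y : P | ∃ v ∈ Subgroup.closure {y : P | ∃ x : P, y = x⁻¹ * α x},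
      y = v⁻¹ * α v} := by
  set W : Subgroup P := Subgroup.closure {y : P | ∃ x : P, y = x⁻¹ * α x} with hW
  set W₂ : Subgroup P := Subgroup.closure {y : P | ∃ v ∈ W, y = v⁻¹ * α v} with hW₂
  have hαW : ∀ w ∈ W, α w ∈ W := by
    intro w hw
    induction hw using Subgroup.closure_induction with
    | mem y hy =>
      obtain ⟨x, rfl⟩ := hy
      apply Subgroup.subset_closure
      exact ⟨α x, by rw [map_mul, map_inv]⟩
    | one => rw [map_one]; exact W.one_mem
    | mul y z _ _ hy hz => rw [map_mul]; exact W.mul_mem hy hz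
    | inv y _ hy => rw [map_inv]; exact W.inv_mem hy
  have hαW₂ : ∀ w ∈ W₂, α w ∈ W₂ := by
    intro w hw
    induction hw using Subgroup.closure_induction with
    | mem y hy =>
      obtain ⟨v, hv, rfl⟩ := hy
      apply Subgroup.subset_closure
      exact ⟨α v, hαW v hv, by rw [map_mul, map_inv]⟩
    | one => rw [map_one]; exact W₂.one_mem
    | mul y z _ _ hy hz => rw [map_mul]; exact W₂.mul_mem hy hz
    | inv y _ hy => rw [map_inv]; exact W₂.inv_mem hy
  have hgen : ∀ v ∈ W, v⁻¹ * α v ∈ W₂ := fun v hv => Subgroup.subset_closure ⟨v, hv, rfl⟩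
  -- `W₂` is normalized by `W`
  have hnorm : ∀ g ∈ W, ∀ u ∈ W₂, g⁻¹ * u * g ∈ W₂ := by
    intro g hg u hu
    induction hu using Subgroup.closure_induction with
    | mem y hy =>
      obtain ⟨v, hv, rfl⟩ := hy
      have e : g⁻¹ * (v⁻¹ * α v) * g = ((v * g)⁻¹ * α (v * g)) * (g⁻¹ * α g)⁻¹ := by
        rw [map_mul]; group
      rw [e]
      exact W₂.mul_mem (hgen _ (W.mul_mem hv hg)) (W₂.inv_mem (hgen g hg))
    | one => simp
    | mul y z _ _ hy hz =>
      have e : g⁻¹ * (y * z) * g = (g⁻¹ * y * g) * (g⁻¹ * z * g) := by group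
      rw [e]; exact W₂.mul_mem hy hz
    | inv y _ hy =>
      have e : g⁻¹ * y⁻¹ * g = (g⁻¹ * y * g)⁻¹ := by group
      rw [e]; exact W₂.inv_mem hy
  set w := x⁻¹ * α x with hw
  have hwW : w ∈ W := Subgroup.subset_closure ⟨x, rfl⟩
  -- `(w u)^j ∈ w^j W₂`
  have hpowmul : ∀ u ∈ W₂, ∀ j : ℕ, ∃ u' ∈ W₂, (w * u) ^ j = w ^ j * u' := by
    intro u hu j
    induction j with
    | zero => exact ⟨1, W₂.one_mem, by simp⟩
    | succ j ih =>
      obtain ⟨u', hu', h⟩ := ih
      refine ⟨(w⁻¹ * u' * w) * u, W₂.mul_mem (hnorm w hwW u' hu') hu, ?_⟩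
      rw [pow_succ, h, pow_succ]
      group
  have hαw : α w = w * (w⁻¹ * α w) := by group
  have key : ∀ j : ℕ, ∃ v ∈ W₂, (α ^ j) x = x * w ^ j * v := by
    intro j
    induction j with
    | zero => exact ⟨1, W₂.one_mem, by simp⟩
    | succ j ih =>
      obtain ⟨v, hv, h⟩ := ih
      obtain ⟨u', hu', hu⟩ := hpowmul (w⁻¹ * α w) (hgen w hwW) j
      refine ⟨u' * α v, W₂.mul_mem hu' (hαW₂ v hv), ?_⟩
      rw [pow_succ', MulAut.mul_apply, h, map_mul, map_mul, map_pow, hαw, hu]
      have hax : α x = x * w := by rw [hw]; group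
      rw [hax, pow_succ']
      group
  obtain ⟨v, hv, h⟩ := key m
  rw [hαm] at h
  have hwm : w ^ m = v⁻¹ := by
    have h1 : x = x * (w ^ m * v) := by
      have : (1 : MulAut P) x = x := rfl
      rw [this] at h
      rw [← mul_assoc]; exact h
    have h2 : w ^ m * v = 1 := by
      have := mul_eq_left.mp h1.symm
      exact this
    exact eq_inv_of_mul_eq_one_left h2
  have hwm' : w ^ m ∈ W₂ := by rw [hwm]; exact W₂.inv_mem hv
  obtain ⟨n, hn⟩ := hP w
  have hcop : m.Coprime (orderOf w) := by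
    have hd : orderOf w ∣ p ^ n := orderOf_dvd_of_pow_eq_one hn
    exact Nat.Coprime.coprime_dvd_right hd (Nat.Coprime.pow_right n hm)
  obtain ⟨k, hk⟩ := exists_pow_eq_self_of_coprime hcop
  rw [← hk]
  exact W₂.pow_mem hwm' k

end Comm

section PPower

variable {Ω : Type*} [Group Ω] {S : Subgroup Ω}

theorem hyperfocal_le (F : FusionSystem S) (p : ℕ) : F.hyperfocalSubgroup p ≤ S := by
  unfold hyperfocalSubgroup
  rw [Subgroup.closure_le]
  rintro y ⟨P, α, x, hP, -, rfl⟩
  exact S.mul_mem (S.inv_mem (hP x.2)) (hP ((α : MulAut P) x).2)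

/-- The full subsystem of a fusion system over `U` on a subgroup `T ≤ U`. -/
def restrictTo {U : Subgroup Ω} (F : FusionSystem U) (T : Subgroup Ω) (hTU : T ≤ U) :
    FusionSystem T where
  Hom P := {φ | φ ∈ F.Hom P ∧ P ≤ T ∧ ∀ x : P, φ x ∈ T}
  le_of_mem h := ⟨h.2.1, h.2.2⟩
  injective_of_mem h := F.injective_of_mem h.1
  conj_mem := by
    intro P g hP hg
    refine ⟨F.conj_mem (le_trans hP hTU) (hTU hg), hP, fun x => ?_⟩
    show g * (x : Ω) * g⁻¹ ∈ T
    exact T.mul_mem (T.mul_mem hg (hP x.2)) (T.inv_mem hg)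
  comp_mem := by
    rintro P Q φ ψ ⟨hφ, hP, hφT⟩ ⟨hψ, hQ, hψT⟩ h
    exact ⟨F.comp_mem hφ hψ h, hP, fun x => hψT _⟩
  inv_mem := by
    rintro P φ ⟨hφ, hP, hφT⟩
    obtain ⟨ψ, hψ, hinv⟩ := F.inv_mem hφ
    refine ⟨ψ, ⟨hψ, ?_, ?_⟩, hinv⟩
    · rintro _ ⟨x, rfl⟩
      exact hφT x
    · rintro ⟨_, x, rfl⟩
      rw [hinv x]
      exact hP x.2

/-- The `p'`-elements of `Aut_E(P)` lie in `O^p(Aut_F(P))` for a subsystem `E` of `F`. -/
theorem pResidual_map_le_of_subsystem {F : FusionSystem S} {T : Subgroup Ω} {E : FusionSystem T}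
    (hEF : E.IsSubsystemOf F) (p : ℕ) (P : Subgroup Ω) :
    (pResidual p (E.autGroup P)).map (E.autGroup P).subtype ≤
      (pResidual p (F.autGroup P)).map (F.autGroup P).subtype := by
  rw [Cfsg.Agent.Lib.Helper17.map_subtype_pResidual, Cfsg.Agent.Lib.Helper17.map_subtype_pResidual]
  apply Subgroup.closure_mono
  rintro α ⟨hα, hcop⟩
  exact ⟨autGroup_le_of_subsystem hEF P hα, hcop⟩

variable [Finite S] {p : ℕ} [Fact p.Prime]

/-- A saturated subsystem `E` of `F` over `T` lies in any system `F₀` over `U ≥ T` whose automorphism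
groups contain `O^p(Aut_F(P))` for all `P ≤ T`. -/
theorem le_of_saturated_of_pResidual_le (hS : IsPGroup p S) (F : FusionSystem S) {T U : Subgroup Ω}
    (E : FusionSystem T) (hEsat : E.IsSaturated p) (hEF : E.IsSubsystemOf F) (hTU : T ≤ U)
    (F₀ : FusionSystem U)
    (h : ∀ P : Subgroup Ω, P ≤ T →
      (pResidual p (F.autGroup P)).map (F.autGroup P).subtype ≤ F₀.autGroup P) :
    E.IsSubsystemOf F₀ := by
  have hTS : T ≤ S := (F.le_of_mem (hEF T (hom_subtype E le_rfl))).1
  have hfinT : Finite T := Finite.of_injective (Subgroup.inclusion hTS) (Subgroup.inclusion_injective hTS)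
  have hTp : IsPGroup p T := hS.to_le hTS
  have key : ∀ R : Subgroup Ω, E.IsFullyNormalized R → E.autGroup R ≤ F₀.autGroup R := by
    intro R hR
    have hRT : R ≤ T := hR.1
    have hfinR : Finite R := Finite.of_injective (Subgroup.inclusion hRT) (Subgroup.inclusion_injective hRT)
    obtain ⟨⟨_, Sy, hSy⟩, -, -⟩ := fa_receptive_of_fullyNormalized hTp hEsat hR
    have h1 := Cfsg.Agent.Lib.Helper17.sylow_sup_pResidual Sy
    have h2 : E.autGroup R = ((Sy : Subgroup (E.autGroup R)) ⊔ pResidual p (E.autGroup R)).map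
        (E.autGroup R).subtype := by
      rw [h1, ← MonoidHom.range_eq_map, Subgroup.range_subtype]
    rw [h2, Subgroup.map_sup]
    apply sup_le
    · rw [hSy, Subgroup.subgroupOf_map_subtype]
      refine le_trans inf_le_left ?_
      refine le_trans ?_ (autInducedBy_le_autGroup F₀ (le_trans hRT hTU))
      apply Subgroup.closure_mono
      rintro α ⟨g, hg, h⟩
      exact ⟨g, hTU hg, h⟩
    · exact le_trans (pResidual_map_le_of_subsystem hEF p R) (h R hRT)
  have hiso : ∀ R : Subgroup Ω, E.IsFullyNormalized R → ∀ α : R ≃* R, IsIso E α →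
      IsIso (restrictTo F₀ T hTU) α := by
    intro R hR α hα
    have hRT : R ≤ T := hR.1
    have h1 : (α : MulAut R) ∈ E.autGroup R := (mem_autGroup_iff E hRT α).mpr hα
    have h2 := (mem_autGroup_iff F₀ (le_trans hRT hTU) α).mp (key R hR h1)
    exact ⟨h2, hRT, fun x => hRT (α x).2⟩
  have hTfn : E.IsFullyNormalized T := by
    refine ⟨le_refl T, fun Q _ => ?_⟩
    have hle : normalizerIn T T ≤ T := inf_le_left
    have : Finite ↥(normalizerIn T T) :=
      Finite.of_injective (Subgroup.inclusion hle) (Subgroup.inclusion_injective hle)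
    apply Subgroup.card_le_of_le
    intro x hx
    exact ⟨hx.1, Subgroup.le_normalizer hx.1⟩
  intro P φ hφ
  exact (alperin hTp hEsat (restrictTo F₀ T hTU) (hiso T hTfn)
    (fun R _ hfn _ _ => hiso R hfn) P hφ).1

/-- Uniqueness of the saturated subsystem of `p`-power index over a given subgroup. -/
theorem homEq_of_pPowerIndex (hS : IsPGroup p S) (F : FusionSystem S) {U₁ U₂ : Subgroup Ω}
    (D₁ : FusionSystem U₁) (D₂ : FusionSystem U₂) (hU : U₁ = U₂)
    (h1s : D₁.IsSaturated p) (h1 : D₁.HasPPowerIndexIn F p)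
    (h2s : D₂.IsSaturated p) (h2 : D₂.HasPPowerIndexIn F p) : HomEq D₁ D₂ := by
  intro P
  apply Set.Subset.antisymm
  · exact le_of_saturated_of_pResidual_le hS F D₁ h1s h1.1 hU.le D₂
      (fun Q hQ => h2.2.2 Q (hQ.trans hU.le)) P
  · exact le_of_saturated_of_pResidual_le hS F D₂ h2s h2.1 hU.ge D₁
      (fun Q hQ => h1.2.2 Q (hQ.trans hU.ge)) P

/-- A subsystem of `p`-power index over a strongly closed subgroup has the same hyperfocal
subgroup. -/
theorem hyperfocal_eq_of_pPowerIndex (hS : IsPGroup p S) (F : FusionSystem S) {T : Subgroup Ω}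
    (E : FusionSystem T) (hidx : E.HasPPowerIndexIn F p) (hT : F.StronglyClosed T) :
    E.hyperfocalSubgroup p = F.hyperfocalSubgroup p := by
  obtain ⟨hEF, hhypT, hAut⟩ := hidx
  have hTS : T ≤ S := hT.1
  apply le_antisymm
  · -- `hyp(E) ≤ hyp(F)`
    unfold hyperfocalSubgroup
    rw [Subgroup.closure_le]
    rintro y ⟨P, α, x, hP, hα, rfl⟩
    have h1 : (α : MulAut P) ∈ (pResidual p (F.autGroup P)).map (F.autGroup P).subtype :=
      pResidual_map_le_of_subsystem hEF p P ⟨α, hα, rfl⟩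
    obtain ⟨α', hα', hαα'⟩ := h1
    apply Subgroup.subset_closure
    refine ⟨P, α', x, hP.trans hTS, hα', ?_⟩
    have : (α' : MulAut P) = (α : MulAut P) := hαα'
    rw [this]
  · -- `hyp(F) ≤ hyp(E)`
    have hgen : ∀ (P : Subgroup Ω), P ≤ S → ∀ α : F.autGroup P, α ∈ pResidual p (F.autGroup P) →
        ∀ x : P, (x : Ω)⁻¹ * (((α : MulAut P) x : P) : Ω) ∈ E.hyperfocalSubgroup p := by
      intro P hPS α hα
      unfold pResidual at hα
      induction hα using Subgroup.closure_induction with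
      | mem β hβ =>
        intro x
        -- `β` has order prime to `p`
        have hfinP : Finite P := Finite.of_injective (Subgroup.inclusion hPS) (Subgroup.inclusion_injective hPS)
        have hPp : IsPGroup p P := hS.to_le hPS
        have hβcop : (orderOf (β : MulAut P)).Coprime p := by
          rw [Subgroup.orderOf_coe]; exact hβ
        have hβpow : (β : MulAut P) ^ orderOf (β : MulAut P) = 1 := pow_orderOf_eq_one _
        -- the restriction of `β` to `P ⊓ T`
        have hP₀P : P ⊓ T ≤ P := inf_le_left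
        have hP₀T : P ⊓ T ≤ T := inf_le_right
        have hψ : P.subtype.comp ((β : MulAut P) : P ≃* P).toMonoidHom ∈ F.Hom P :=
          (mem_autGroup_iff F hPS _).mp β.2
        have hψT : ∀ z : P, (z : Ω) ∈ P ⊓ T →
            (P.subtype.comp ((β : MulAut P) : P ≃* P).toMonoidHom) z ∈ P ⊓ T := by
          intro z hz
          refine ⟨((β : MulAut P) z).2, ?_⟩
          have hres := hom_restrict F hP₀P hψ
          exact hT.2 (P ⊓ T) hP₀T _ hres ⟨z, hz⟩
        have hfinP₀ : Finite ↥(P ⊓ T) :=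
          Finite.of_injective (Subgroup.inclusion hP₀P) (Subgroup.inclusion_injective hP₀P)
        obtain ⟨β₀, hβ₀iso, hβ₀⟩ := exists_aut_restrict F hP₀P hψ hψT
        have hβ₀' : ∀ z : ↥(P ⊓ T), ((β₀ z : ↥(P ⊓ T)) : Ω) = (((β : MulAut P) ⟨z, hP₀P z.2⟩ : P) : Ω) := hβ₀
        have hβ₀pow : ∀ (k : ℕ) (z : ↥(P ⊓ T)),
            ((((β₀ : MulAut ↥(P ⊓ T)) ^ k) z : ↥(P ⊓ T)) : Ω) =
              ((((β : MulAut P) ^ k) ⟨z, hP₀P z.2⟩ : P) : Ω) := by
          intro k
          induction k with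
          | zero => intro z; simp
          | succ k ih =>
            intro z
            rw [pow_succ, pow_succ, MulAut.mul_apply, MulAut.mul_apply, ih]
            have h3 := hβ₀' z
            have h4 : (⟨((β₀ : MulAut ↥(P ⊓ T)) z : ↥(P ⊓ T)), hP₀P ((β₀ : MulAut ↥(P ⊓ T)) z).2⟩ : P) =
                (β : MulAut P) ⟨z, hP₀P z.2⟩ := Subtype.ext h3
            rw [h4]
        have hβ₀ord : (β₀ : MulAut ↥(P ⊓ T)) ^ orderOf (β : MulAut P) = 1 := by
          ext z
          rw [hβ₀pow, hβpow]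
          simp
        have hβ₀cop : (orderOf (β₀ : MulAut ↥(P ⊓ T))).Coprime p :=
          Nat.Coprime.coprime_dvd_left (orderOf_dvd_of_pow_eq_one hβ₀ord) hβcop
        have hβ₀F : (β₀ : MulAut ↥(P ⊓ T)) ∈ F.autGroup (P ⊓ T) :=
          (mem_autGroup_iff F (hP₀T.trans hTS) β₀).mpr hβ₀iso
        have hβ₀res : (β₀ : MulAut ↥(P ⊓ T)) ∈
            (pResidual p (F.autGroup (P ⊓ T))).map (F.autGroup (P ⊓ T)).subtype := by
          rw [Cfsg.Agent.Lib.Helper17.map_subtype_pResidual]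
          exact Subgroup.subset_closure ⟨hβ₀F, hβ₀cop⟩
        have hβ₀E : (β₀ : MulAut ↥(P ⊓ T)) ∈ E.autGroup (P ⊓ T) := hAut (P ⊓ T) hP₀T hβ₀res
        have hβ₀Eres : (⟨β₀, hβ₀E⟩ : E.autGroup (P ⊓ T)) ∈ pResidual p (E.autGroup (P ⊓ T)) := by
          apply Subgroup.subset_closure
          show (orderOf (⟨β₀, hβ₀E⟩ : E.autGroup (P ⊓ T))).Coprime p
          rw [Subgroup.orderOf_mk]
          exact hβ₀cop
        -- generators `v⁻¹ β(v)`, `v ∈ P ⊓ T`, lie in `hyp(E)`
        have hgenE : ∀ v : P, (v : Ω) ∈ T →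
            (v : Ω)⁻¹ * (((β : MulAut P) v : P) : Ω) ∈ E.hyperfocalSubgroup p := by
          intro v hv
          have hvP₀ : (v : Ω) ∈ P ⊓ T := ⟨v.2, hv⟩
          have := hβ₀' ⟨v, hvP₀⟩
          have e : (((β : MulAut P) v : P) : Ω) = ((β₀ ⟨v, hvP₀⟩ : ↥(P ⊓ T)) : Ω) := this.symm
          rw [e]
          apply Subgroup.subset_closure
          exact ⟨P ⊓ T, ⟨β₀, hβ₀E⟩, ⟨v, hvP₀⟩, hP₀T, hβ₀Eres, rfl⟩
        -- `[P, β] ≤ hyp(F) ≤ T`
        have hWT : ∀ w ∈ Subgroup.closure {y : P | ∃ x : P, y = x⁻¹ * (β : MulAut P) x}, (w : Ω) ∈ T := by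
          intro w hw
          have hle : Subgroup.closure {y : P | ∃ x : P, y = x⁻¹ * (β : MulAut P) x} ≤
              T.comap P.subtype := by
            rw [Subgroup.closure_le]
            rintro y ⟨z, rfl⟩
            apply hhypT
            apply Subgroup.subset_closure
            refine ⟨P, β, z, hPS, ?_, rfl⟩
            exact Subgroup.subset_closure hβ
          exact hle hw
        have hmem := comm_mem_comm_comm hPp (β : MulAut P) hβcop hβpow x
        have hle2 : Subgroup.closure {y : P | ∃ v ∈ Subgroup.closure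
            {y : P | ∃ x : P, y = x⁻¹ * (β : MulAut P) x}, y = v⁻¹ * (β : MulAut P) v} ≤
              (E.hyperfocalSubgroup p).comap P.subtype := by
          rw [Subgroup.closure_le]
          rintro y ⟨v, hv, rfl⟩
          exact hgenE v (hWT v hv)
        exact hle2 hmem
      | one => intro x; simp
      | mul β γ _ _ hβ hγ =>
        intro x
        have e : (x : Ω)⁻¹ * ((((β * γ : F.autGroup P) : MulAut P) x : P) : Ω) =
            ((x : Ω)⁻¹ * (((γ : MulAut P) x : P) : Ω)) *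
              ((((γ : MulAut P) x : P) : Ω)⁻¹ * (((β : MulAut P) ((γ : MulAut P) x) : P) : Ω)) := by
          show (x : Ω)⁻¹ * (((β : MulAut P) ((γ : MulAut P) x) : P) : Ω) = _
          group
        rw [e]
        exact (E.hyperfocalSubgroup p).mul_mem (hγ x) (hβ _)
      | inv β _ hβ =>
        intro x
        have h1 := hβ (((β : MulAut P))⁻¹ x)
        rw [MulAut.apply_inv_self] at h1
        have e : (x : Ω)⁻¹ * ((((β⁻¹ : F.autGroup P) : MulAut P) x : P) : Ω) =
            (((((β : MulAut P))⁻¹ x : P) : Ω)⁻¹ * (x : Ω))⁻¹ := by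
          show (x : Ω)⁻¹ * (((((β : MulAut P))⁻¹ x : P)) : Ω) = _
          group
        rw [e]
        exact (E.hyperfocalSubgroup p).inv_mem h1
    unfold hyperfocalSubgroup
    rw [Subgroup.closure_le]
    rintro y ⟨P, α, x, hP, hα, rfl⟩
    exact hgen P hP α hα x

/-- Transitivity of `p`-power index (over a strongly closed intermediate subgroup). -/
theorem hasPPowerIndexIn_trans (hS : IsPGroup p S) (F : FusionSystem S) {T V : Subgroup Ω}
    (E : FusionSystem T) (hidx : E.HasPPowerIndexIn F p) (hT : F.StronglyClosed T)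
    (D : FusionSystem V) (hD : D.HasPPowerIndexIn E p) : D.HasPPowerIndexIn F p := by
  have hhyp := hyperfocal_eq_of_pPowerIndex hS F E hidx hT
  have hVT : V ≤ T := (E.le_of_mem (hD.1 V (hom_subtype D le_rfl))).1
  refine ⟨fun P φ hφ => hidx.1 P (hD.1 P hφ), hhyp ▸ hD.2.1, fun P hP => ?_⟩
  refine le_trans ?_ (hD.2.2 P hP)
  rw [Cfsg.Agent.Lib.Helper17.map_subtype_pResidual, Cfsg.Agent.Lib.Helper17.map_subtype_pResidual]
  apply Subgroup.closure_mono
  rintro α ⟨hα, hcop⟩
  refine ⟨hidx.2.2 P (hP.trans hVT) ?_, hcop⟩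
  rw [Cfsg.Agent.Lib.Helper17.map_subtype_pResidual]
  exact Subgroup.subset_closure ⟨hα, hcop⟩

end PPower

end Cfsg.Agent.Lib.Helper27
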