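import Mathlib
import Cfsg.Prelude.Def_FusionSystem
import Cfsg.Agent.Lib.Helper1.AutSmall
import Cfsg.Agent.Lib.Helper1.Extraspecial
import Cfsg.Agent.Lib.Helper27.FusionSat

set_option autoImplicit false

/-! Elements of order `p` (or `4` when `p = 2`) and `p'`-automorphisms: a `p'`-automorphism of a
`p`-group fixing the small elements of its commutator subgroup is trivial; conjugation on small normal
cyclic subgroups of a `p`-group. -/

namespace Cfsg.Agent.Lib.Helper27

open Cfsg Cfsg.FusionSystem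

/-- `x` has order dividing `p`, or `p = 2` and `x` has order dividing `4`. -/
def Small {Ω : Type*} [Group Ω] (p : ℕ) (x : Ω) : Prop := x ^ p = 1 ∨ (p = 2 ∧ x ^ 4 = 1)

theorem small_inv {Ω : Type*} [Group Ω] {p : ℕ} {x : Ω} (h : Small p x) : Small p x⁻¹ := by
  rcases h with h | ⟨h2, h⟩
  · exact Or.inl (by rw [inv_pow, h, inv_one])
  · exact Or.inr ⟨h2, by rw [inv_pow, h, inv_one]⟩

theorem small_map {Ω Ω' : Type*} [Group Ω] [Group Ω'] {p : ℕ} (f : Ω →* Ω') {x : Ω} (h : Small p x) :
    Small p (f x) := by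
  rcases h with h | ⟨h2, h⟩
  · exact Or.inl (by rw [← map_pow, h, map_one])
  · exact Or.inr ⟨h2, by rw [← map_pow, h, map_one]⟩

theorem small_of_map {Ω Ω' : Type*} [Group Ω] [Group Ω'] {p : ℕ} (f : Ω →* Ω')
    (hf : Function.Injective f) {x : Ω} (h : Small p (f x)) : Small p x := by
  rcases h with h | ⟨h2, h⟩
  · exact Or.inl (hf (by rw [map_pow, h, map_one]))
  · exact Or.inr ⟨h2, hf (by rw [map_pow, h, map_one])⟩

/-- A `p'`-automorphism of a finite `p`-group fixing every small element of `[P, a]` is trivial. -/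
theorem mulAut_eq_one_of_fix_small_comm {P : Type*} [Group P] [Finite P] {p : ℕ} [Fact p.Prime]
    (hP : IsPGroup p P) (a : MulAut P) {m : ℕ} (hm : m.Coprime p) (ham : a ^ m = 1)
    (h : ∀ w ∈ Subgroup.closure {y : P | ∃ x : P, y = x⁻¹ * a x}, Small p w → a w = w) : a = 1 := by
  classical
  set W : Subgroup P := Subgroup.closure {y : P | ∃ x : P, y = x⁻¹ * a x} with hW
  -- `a` maps `W` into `W`
  have haW : ∀ w ∈ W, a w ∈ W := by
    intro w hw
    induction hw using Subgroup.closure_induction with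
    | mem y hy =>
      obtain ⟨x, rfl⟩ := hy
      apply Subgroup.subset_closure
      exact ⟨a x, by rw [map_mul, map_inv]⟩
    | one => rw [map_one]; exact W.one_mem
    | mul y z _ _ hy hz => rw [map_mul]; exact W.mul_mem hy hz
    | inv y _ hy => rw [map_inv]; exact W.inv_mem hy
  -- the restriction of `a` to `W`
  let f : W →* W := (a.toMonoidHom.comp W.subtype).codRestrict W (fun w => haW w w.2)
  have hf : ∀ w : W, ((f w : W) : P) = a w := fun w => rfl
  have hfinj : Function.Injective f := by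
    intro u v huv
    have : a (u : P) = a (v : P) := by rw [← hf, ← hf, huv]
    exact Subtype.ext (a.injective this)
  have hfbij : Function.Bijective f := ⟨hfinj, Finite.injective_iff_surjective.mp hfinj⟩
  let aW : MulAut W := MulEquiv.ofBijective f hfbij
  have haWapp : ∀ w : W, ((aW w : W) : P) = a w := fun w => rfl
  have haWpow : ∀ (k : ℕ) (w : W), (((aW ^ k) w : W) : P) = (a ^ k) w := by
    intro k
    induction k with
    | zero => intro w; simp
    | succ k ih =>
      intro w
      rw [pow_succ, pow_succ, MulAut.mul_apply, MulAut.mul_apply, ih, haWapp]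
  have haWm : aW ^ m = 1 := by
    ext w
    rw [haWpow, ham]
    simp
  have hcop : Nat.Coprime (orderOf aW) p :=
    Nat.Coprime.coprime_dvd_left (orderOf_dvd_of_pow_eq_one haWm) hm
  have hWp : IsPGroup p W := hP.to_subgroup W
  have haW1 : aW = 1 := by
    apply Helper1.mulAut_eq_one_of_small hWp aW hcop
    intro w hw
    apply Subtype.ext
    rw [haWapp]
    apply h w w.2
    exact small_map W.subtype hw
  have hfix : ∀ w ∈ W, a w = w := by
    intro w hw
    have := haWapp ⟨w, hw⟩
    rw [haW1] at this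
    exact this.symm
  ext x
  have hwW : x⁻¹ * a x ∈ W := Subgroup.subset_closure ⟨x, rfl⟩
  have hpow : ∀ k : ℕ, (a ^ k) x = x * (x⁻¹ * a x) ^ k := by
    intro k
    induction k with
    | zero => simp
    | succ k ih =>
      have hax : a x = x * (x⁻¹ * a x) := by group
      rw [pow_succ', MulAut.mul_apply, ih, map_mul, map_pow, hfix _ hwW, pow_succ', ← mul_assoc, ← hax]
  have h1 := hpow m
  rw [ham] at h1
  have h2 : (x⁻¹ * a x) ^ m = 1 := by
    have : x = x * (x⁻¹ * a x) ^ m := by simpa using h1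
    exact (mul_eq_left.mp this.symm)
  obtain ⟨j, hj⟩ := hP (x⁻¹ * a x)
  have h3 : x⁻¹ * a x = 1 := by
    have hd1 : orderOf (x⁻¹ * a x) ∣ m := orderOf_dvd_of_pow_eq_one h2
    have hd2 : orderOf (x⁻¹ * a x) ∣ p ^ j := orderOf_dvd_of_pow_eq_one hj
    have hc : Nat.Coprime m (p ^ j) := Nat.Coprime.pow_right j hm
    have : orderOf (x⁻¹ * a x) = 1 := Nat.eq_one_of_dvd_coprimes hc hd1 hd2
    exact orderOf_eq_one_iff.mp this
  have : a x = x := by
    have := congrArg (fun z => x * z) h3
    simpa using this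
  simpa using this

/-- In a `p`-group, a normal cyclic subgroup of order dividing `p` is central. -/
theorem conj_eq_of_pow_p {Ω : Type*} [Group Ω] {S : Subgroup Ω} [Finite S] {p : ℕ} [Fact p.Prime]
    (hS : IsPGroup p S) {x : Ω} (hxS : x ∈ S) (hx : x ^ p = 1)
    (hn : ∀ s ∈ S, s * x * s⁻¹ ∈ Subgroup.zpowers x) : ∀ s ∈ S, s * x * s⁻¹ = x := by
  intro s hs
  by_cases hx1 : x = 1
  · rw [hx1]; group
  have hp : p.Prime := Fact.out
  have hord : orderOf x = p := orderOf_eq_prime hx hx1
  set xs : S := ⟨x, hxS⟩ with hxs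
  have hordS : orderOf xs = p := by
    rw [← hord]
    exact (Subgroup.orderOf_mk x hxS)
  have hnorm : (Subgroup.zpowers xs).Normal := by
    refine ⟨fun z hz t => ?_⟩
    obtain ⟨k, rfl⟩ := Subgroup.mem_zpowers_iff.mp hz
    have h1 : t * xs * t⁻¹ ∈ Subgroup.zpowers xs := by
      obtain ⟨j, hj⟩ := Subgroup.mem_zpowers_iff.mp (hn t t.2)
      refine Subgroup.mem_zpowers_iff.mpr ⟨j, Subtype.ext ?_⟩
      rw [Subgroup.coe_zpow]
      exact hj
    have e : t * xs ^ k * t⁻¹ = (t * xs * t⁻¹) ^ k := by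
      rw [conj_zpow]
    rw [e]
    exact Subgroup.zpow_mem _ h1 k
  have hcard : Nat.card (Subgroup.zpowers xs) = p := by
    rw [Nat.card_zpowers, hordS]
  have hcen := Helper1.le_center_of_normal_of_card_prime hS (Subgroup.zpowers xs) hcard
  have hxc : xs ∈ Subgroup.center S := hcen (Subgroup.mem_zpowers xs)
  have h2 := (Subgroup.mem_center_iff.mp hxc) ⟨s, hs⟩
  have h3 : s * x = x * s := congrArg Subtype.val h2
  rw [h3]
  group

/-- A conjugate of an element of order dividing `4` inside its cyclic group is the element or its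
inverse. -/
theorem conj_eq_or_inv_of_pow_four {Ω : Type*} [Group Ω] {x s : Ω} (hx : x ^ 4 = 1)
    (h : s * x * s⁻¹ ∈ Subgroup.zpowers x) : s * x * s⁻¹ = x ∨ s * x * s⁻¹ = x⁻¹ := by
  obtain ⟨k, hk⟩ := Subgroup.mem_zpowers_iff.mp h
  have hk' : x ^ (k % 4) = s * x * s⁻¹ := by
    rw [← hk]
    exact (zpow_eq_zpow_emod' k hx).symm
  have h0 : 0 ≤ k % 4 := Int.emod_nonneg k (by norm_num)
  have h4 : k % 4 < 4 := Int.emod_lt_of_pos k (by norm_num)
  have hone : s * x * s⁻¹ = 1 → x = 1 := by
    intro h1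
    have : x = s⁻¹ * (s * x * s⁻¹) * s := by group
    rw [this, h1]; group
  interval_cases (k % 4)
  · left
    have h1 : s * x * s⁻¹ = 1 := by rw [← hk']; simp
    have hx1 := hone h1
    rw [hx1]; group
  · left
    rw [← hk']; simp
  · left
    have h2 : (s * x * s⁻¹) ^ 2 = 1 := by
      rw [← hk']
      have : (x ^ (2 : ℤ)) ^ 2 = x ^ 4 := by
        have h2' : x ^ (2 : ℤ) = x ^ 2 := zpow_natCast x 2
        rw [h2', ← pow_mul]
      rw [this, hx]
    have h3 : s * x ^ 2 * s⁻¹ = 1 := by
      rw [← h2, conj_pow]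
    have h4 : x ^ 2 = 1 := by
      have : x ^ 2 = s⁻¹ * (s * x ^ 2 * s⁻¹) * s := by group
      rw [this, h3]; group
    have h5 : s * x * s⁻¹ = 1 := by
      rw [← hk']
      have : x ^ (2 : ℤ) = x ^ 2 := zpow_natCast x 2
      rw [this, h4]
    have hx1 := hone h5
    rw [hx1]; group
  · right
    rw [← hk']
    have : x ^ (3 : ℤ) * x = 1 := by
      have h1 : x ^ (3 : ℤ) * x = x ^ (4 : ℤ) := by
        rw [show (4 : ℤ) = 3 + 1 by norm_num, zpow_add, zpow_one]
      rw [h1]
      have : x ^ (4 : ℤ) = x ^ 4 := zpow_natCast x 4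
      rw [this, hx]
    exact eq_inv_of_mul_eq_one_left this

end Cfsg.Agent.Lib.Helper27
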