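import Mathlib
import Cfsg.Prelude.Def_FusionSystem
import Cfsg.Agent.Lib.Helper27.FusionAlperin

set_option autoImplicit false

namespace Cfsg.Agent.Lib.Helper27

open Cfsg Cfsg.FusionSystem

variable {Ω : Type*} [Group Ω] {S : Subgroup Ω}

/-- The fusion system over `S` whose maps are the restrictions of the `F`-automorphisms of `S`
(this is `N_F(S)`). -/
def autRestrictSystem (F : FusionSystem S) : FusionSystem S where
  Hom P := {φ | ∃ (hP : P ≤ S) (α : S ≃* S), IsIso F α ∧ ∀ x : P, φ x = (α ⟨x, hP x.2⟩ : S)}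
  le_of_mem := by
    rintro P φ ⟨hP, α, -, h⟩
    exact ⟨hP, fun x => by rw [h x]; exact (α _).2⟩
  injective_of_mem := by
    rintro P φ ⟨hP, α, -, h⟩ a b hab
    rw [h a, h b] at hab
    have := α.injective (Subtype.ext hab)
    exact Subtype.ext (congrArg (fun z : S => (z : Ω)) this)
  conj_mem := by
    intro P g hP hg
    refine ⟨hP, MulAut.conj (⟨g, hg⟩ : S), ?_, fun x => rfl⟩
    have : S.subtype.comp ((MulAut.conj (⟨g, hg⟩ : S) : S ≃* S)).toMonoidHom = conjHom S g := by
      ext x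
      rfl
    unfold IsIso
    rw [this]
    exact F.conj_mem le_rfl hg
  comp_mem := by
    rintro P Q φ ψ ⟨hP, α, hα, hφ⟩ ⟨hQ, β, hβ, hψ⟩ h
    refine ⟨hP, α.trans β, hα.trans hβ, fun x => ?_⟩
    show ψ (φ.codRestrict Q h x) = _
    rw [hψ]
    simp only [MulEquiv.trans_apply]
    congr 2
    exact Subtype.ext (hφ x)
  inv_mem := by
    rintro P φ ⟨hP, α, hα, hφ⟩
    have hle : φ.range ≤ S := by
      rintro _ ⟨x, rfl⟩
      rw [hφ x]; exact (α _).2
    refine ⟨(S.subtype.comp α.symm.toMonoidHom).comp (Subgroup.inclusion hle),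
      ⟨hle, α.symm, hα.symm, fun y => rfl⟩, fun x => ?_⟩
    simp only [MonoidHom.coe_comp, Function.comp_apply, Subgroup.coe_subtype, MulEquiv.coe_toMonoidHom]
    have : (Subgroup.inclusion hle ⟨φ x, ⟨x, rfl⟩⟩ : S) = α ⟨x, hP x.2⟩ := Subtype.ext (hφ x)
    rw [this]
    simp

theorem mem_autRestrictSystem_iff (F : FusionSystem S) {P : Subgroup Ω} (φ : P →* Ω) :
    φ ∈ (autRestrictSystem F).Hom P ↔
      ∃ (hP : P ≤ S) (α : S ≃* S), IsIso F α ∧ ∀ x : P, φ x = (α ⟨x, hP x.2⟩ : S) := Iff.rfl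

/-- `S` is normal in `F` iff every map of `F` is the restriction of an `F`-automorphism of `S`. -/
theorem isNormal_top_of_le_autRestrictSystem {F : FusionSystem S}
    (h : ∀ P : Subgroup Ω, F.Hom P ⊆ (autRestrictSystem F).Hom P) : F.IsNormal S := by
  refine ⟨le_rfl, fun P φ hφ => ?_⟩
  obtain ⟨hP, α, hα, hαφ⟩ := h P hφ
  have hle : P ⊔ S ≤ S := sup_le hP le_rfl
  refine ⟨(S.subtype.comp α.toMonoidHom).comp (Subgroup.inclusion hle), hom_restrict F hle hα, ?_, ?_⟩
  · intro x
    rw [hαφ x]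
    rfl
  · ext y
    constructor
    · rintro ⟨z, -, rfl⟩
      exact (α _).2
    · intro hy
      have hSle : S ≤ P ⊔ S := le_sup_right
      refine ⟨⟨(α.symm ⟨y, hy⟩ : S), hSle (α.symm ⟨y, hy⟩).2⟩, ?_, ?_⟩
      · exact Subgroup.mem_subgroupOf.mpr (α.symm ⟨y, hy⟩).2
      · simp only [MonoidHom.coe_comp, Function.comp_apply, Subgroup.coe_subtype, MulEquiv.coe_toMonoidHom]
        have : (Subgroup.inclusion hle ⟨(α.symm ⟨y, hy⟩ : S), hSle (α.symm ⟨y, hy⟩).2⟩ : S) =
            α.symm ⟨y, hy⟩ := Subtype.ext rfl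
        rw [this]
        simp

/-- If a saturated system has no proper fully normalized centric radical subgroup, `S` is normal in it. -/
theorem isNormal_top_of_no_proper_frc [Finite S] {p : ℕ} [Fact p.Prime] (hS : IsPGroup p S)
    {F : FusionSystem S} (hF : F.IsSaturated p)
    (h : ∀ R : Subgroup Ω, R < S → F.IsFullyNormalized R → F.IsCentric R → F.IsRadical p R → False) :
    F.IsNormal S := by
  apply isNormal_top_of_le_autRestrictSystem
  apply alperin hS hF (autRestrictSystem F)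
  · intro α hα
    unfold IsIso
    exact ⟨le_rfl, α, hα, fun x => rfl⟩
  · intro R hR hfn hc hr
    exact (h R hR hfn hc hr).elim

end Cfsg.Agent.Lib.Helper27
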