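import Mathlib
import Cfsg.Prelude.Def_LocalEven

set_option autoImplicit false

namespace Cfsg.Agent.Lib.Helper27

open Cfsg

universe u v w

/-- `H` is involved in `G` iff `H` is a homomorphic image of a subgroup of `G`. -/
theorem involves_iff {H : Type u} [Group H] {G : Type v} [Group G] :
    Involves H G ↔ ∃ (K : Subgroup G) (f : K →* H), Function.Surjective f := by
  constructor
  · rintro ⟨K, R, hn, ⟨e⟩⟩
    refine ⟨K, e.toMonoidHom.comp (QuotientGroup.mk' _), ?_⟩
    exact e.surjective.comp (QuotientGroup.mk'_surjective _)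
  · rintro ⟨K, f, hf⟩
    have hker : (f.ker.map K.subtype).subgroupOf K = f.ker := by
      rw [Subgroup.subgroupOf]
      exact Subgroup.comap_map_eq_self_of_injective K.subtype_injective _
    have hn : ((f.ker.map K.subtype).subgroupOf K).Normal := by
      rw [hker]; infer_instance
    refine ⟨K, f.ker.map K.subtype, hn, ⟨?_⟩⟩
    exact (QuotientGroup.quotientMulEquivOfEq hker).trans
      (QuotientGroup.quotientKerEquivOfSurjective f hf)

theorem involves_of_surjective {H : Type u} [Group H] {G : Type v} [Group G] (f : G →* H)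
    (hf : Function.Surjective f) : Involves H G := by
  rw [involves_iff]
  refine ⟨⊤, f.comp (Subgroup.topEquiv : (⊤ : Subgroup G) ≃* G).toMonoidHom, ?_⟩
  exact hf.comp (Subgroup.topEquiv : (⊤ : Subgroup G) ≃* G).surjective

theorem involves_of_injective {H : Type u} [Group H] {G₁ : Type v} [Group G₁] {G₂ : Type w} [Group G₂]
    (i : G₁ →* G₂) (hi : Function.Injective i) (h : Involves H G₁) : Involves H G₂ := by
  rw [involves_iff] at h ⊢
  obtain ⟨K, f, hf⟩ := h
  refine ⟨K.map i, f.comp (K.equivMapOfInjective i hi).symm.toMonoidHom, ?_⟩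
  exact hf.comp (K.equivMapOfInjective i hi).symm.surjective

theorem involves_of_le {H : Type u} [Group H] {G : Type v} [Group G] {A B : Subgroup G} (hAB : A ≤ B)
    (h : Involves H A) : Involves H B :=
  involves_of_injective (Subgroup.inclusion hAB) (Subgroup.inclusion_injective hAB) h

theorem involves_subgroup {H : Type u} [Group H] {G : Type v} [Group G] (Q : Subgroup H)
    (h : Involves H G) : Involves Q G := by
  obtain ⟨K, f, hf⟩ := involves_iff.mp h
  refine involves_of_injective K.subtype K.subtype_injective ?_
  rw [involves_iff]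
  exact ⟨Q.comap f, f.subgroupComap Q, f.subgroupComap_surjective_of_surjective Q hf⟩

theorem involves_trans {H : Type u} [Group H] {G₁ : Type v} [Group G₁] {G₂ : Type w} [Group G₂]
    (h₁ : Involves H G₁) (h₂ : Involves G₁ G₂) : Involves H G₂ := by
  obtain ⟨K₁, f₁, hf₁⟩ := involves_iff.mp h₁
  obtain ⟨K₂, f₂, hf₂⟩ := involves_iff.mp h₂
  refine involves_of_injective K₂.subtype K₂.subtype_injective ?_
  rw [involves_iff]
  refine ⟨K₁.comap f₂, f₁.comp (f₂.subgroupComap K₁), ?_⟩
  exact hf₁.comp (f₂.subgroupComap_surjective_of_surjective K₁ hf₂)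

/-- A `p`-group involved in a finite group is involved in each of its Sylow `p`-subgroups. -/
theorem involves_sylow_of_isPGroup {p : ℕ} [Fact p.Prime] {Q : Type u} [Group Q] (hQ : IsPGroup p Q)
    {L : Type v} [Group L] [Finite L] (T : Sylow p L) (h : Involves Q L) : Involves Q T := by
  obtain ⟨K, f, hf⟩ := involves_iff.mp h
  -- a Sylow subgroup of K maps onto Q
  obtain ⟨P⟩ : Nonempty (Sylow p K) := inferInstance
  have htop : (P : Subgroup K).map f = ⊤ := by
    have h1 : ((P.mapSurjective hf : Sylow p Q) : Subgroup Q) = (P : Subgroup K).map f := rfl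
    rw [← h1]
    have h2 : IsPGroup p (⊤ : Subgroup Q) := hQ.to_subgroup _
    exact ((P.mapSurjective hf).is_maximal' h2 le_top).symm ▸ rfl
  -- so Q is involved in P, which lies in a conjugate of T
  have hPQ : Involves Q (P : Subgroup K) := by
    refine involves_of_surjective (f.comp (P : Subgroup K).subtype) ?_
    intro y
    have : y ∈ (P : Subgroup K).map f := htop ▸ Subgroup.mem_top y
    obtain ⟨x, hx, rfl⟩ := this
    exact ⟨⟨x, hx⟩, rfl⟩
  have hPL : Involves Q ((P : Subgroup K).map K.subtype) :=
    involves_of_injective ((P : Subgroup K).equivMapOfInjective K.subtype K.subtype_injective).toMonoidHom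
      ((P : Subgroup K).equivMapOfInjective K.subtype K.subtype_injective).injective hPQ
  have hp : IsPGroup p ((P : Subgroup K).map K.subtype) := P.isPGroup'.map _
  obtain ⟨T', hT'⟩ := hp.exists_le_sylow
  have hT'Q : Involves Q T' := involves_of_le hT' hPL
  exact involves_of_injective (Sylow.equiv T' T).toMonoidHom (Sylow.equiv T' T).injective hT'Q

end Cfsg.Agent.Lib.Helper27
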