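import Mathlib
import Cfsg.Agent.Lib.Helper27.LG2Tools
import Cfsg.Agent.Lib.Helper27.LGCentral
import Cfsg.Agent.Lib.Helper27.FusionNormalCrit

set_option autoImplicit false

/-! Extension of automorphisms normalizing a fully normalized subgroup `V` to `P V C_S(V)`. -/

namespace Cfsg.Agent.Lib.Helper27.LG2

open Cfsg Cfsg.FusionSystem Cfsg.Agent.Lib.Helper27 Cfsg.Agent.Lib.Helper27.LG Cfsg.Agent.H26

variable {Ω : Type*} [Group Ω] {S : Subgroup Ω}

/-- An automorphism `α` of `P ≥ V` in the saturated system `F` with `α(V) = V`, `V` fully normalized and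
`P ≤ N_S(V)`: the restriction of `α` to `V` extends to a map `ψ` of `F` on `P C_S(V)`, whose restriction
to `V C_S(V)` is a map of the normalizer system of `V C_S(V)`. -/
theorem exists_ext_sup_centralizer [Finite S] {p : ℕ} [Fact p.Prime] (hS : IsPGroup p S)
    {F : FusionSystem S} (hF : F.IsSaturated p) {V : Subgroup Ω} (hV : F.IsFullyNormalized V)
    {P : Subgroup Ω} {α : MulAut P} (hVP : V ≤ P) (hPN : P ≤ normalizerIn S V)
    (hα : IsIso F (α : P ≃* P)) (hαV : ∀ x : P, (x : Ω) ∈ V → ((α x : P) : Ω) ∈ V) :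
    ∃ ψ ∈ F.Hom (P ⊔ centralizerIn S V),
      (∀ v : V, ψ ⟨v, (le_sup_left : P ≤ P ⊔ centralizerIn S V) (hVP v.2)⟩ =
        ((α ⟨v, hVP v.2⟩ : P) : Ω)) ∧
      ψ.comp (Subgroup.inclusion (sup_le_sup_right hVP (centralizerIn S V))) ∈
        F.normalizerHom (V ⊔ centralizerIn S V) (V ⊔ centralizerIn S V) := by
  have hVS : V ≤ S := hV.1
  have hPS : P ≤ S := hα.le_left
  haveI : Finite ↥V := Finite.of_injective (Subgroup.inclusion hVS) (Subgroup.inclusion_injective hVS)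
  have hrec : F.IsReceptive V := (fa_receptive_of_fullyNormalized hS hF hV).2.1
  obtain ⟨e, hedef⟩ : ∃ e : V ≃* V, e = resAut α hVP hαV := ⟨_, rfl⟩
  have hev : ∀ v : V, ((e v : V) : Ω) = ((α ⟨v, hVP v.2⟩ : P) : Ω) := by
    intro v
    rw [hedef]
    rfl
  have he : IsIso F e := by
    have h3 : V.subtype.comp e.toMonoidHom =
        (P.subtype.comp (α : P ≃* P).toMonoidHom).comp (Subgroup.inclusion hVP) := by
      ext u
      rw [hedef]
      rfl
    unfold IsIso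
    rw [h3]
    exact hom_restrict F hVP hα
  obtain ⟨ψ, hψ, hψe⟩ := receptive_exists_extension hrec he
  have hPext : P ≤ extender S V (V.subtype.comp e.toMonoidHom) := by
    intro g hg
    rw [mem_extender_iff]
    refine ⟨hPS hg, (hPN hg).2, ((α ⟨g, hg⟩ : P) : Ω), hPS (α ⟨g, hg⟩).2, ?_⟩
    intro x hx
    show ((e ⟨g * x * g⁻¹, hx⟩ : V) : Ω) = ((α ⟨g, hg⟩ : P) : Ω) * ((e x : V) : Ω) * ((α ⟨g, hg⟩ : P) : Ω)⁻¹
    rw [hev, hev]
    have h1 : (⟨((⟨g * x * g⁻¹, hx⟩ : V) : Ω), hVP hx⟩ : P) =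
        ⟨g, hg⟩ * ⟨x, hVP x.2⟩ * (⟨g, hg⟩ : P)⁻¹ := Subtype.ext rfl
    rw [h1, map_mul, map_mul, map_inv]
    rfl
  have hle : P ⊔ centralizerIn S V ≤ extender S V (V.subtype.comp e.toMonoidHom) :=
    sup_le hPext (centralizerIn_le_extender _)
  have hRle : V ⊔ centralizerIn S V ≤ P ⊔ centralizerIn S V := sup_le_sup_right hVP _
  have hRS : V ⊔ centralizerIn S V ≤ S := sup_le hVS (centralizerIn_le_S S V)
  haveI : Finite ↥(V ⊔ centralizerIn S V) :=
    Finite.of_injective (Subgroup.inclusion hRS) (Subgroup.inclusion_injective hRS)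
  have hψ₁ : ψ.comp (Subgroup.inclusion hle) ∈ F.Hom (P ⊔ centralizerIn S V) := hom_restrict F hle hψ
  have hψv : ∀ v : V, (ψ.comp (Subgroup.inclusion hle))
      ⟨v, (le_sup_left : P ≤ P ⊔ centralizerIn S V) (hVP v.2)⟩ = ((α ⟨v, hVP v.2⟩ : P) : Ω) := by
    intro v
    rw [← hev]
    exact hψe v v.2 _
  refine ⟨ψ.comp (Subgroup.inclusion hle), hψ₁, hψv, ?_⟩
  obtain ⟨β₀, hβ₀def⟩ : ∃ β₀ : ↥(V ⊔ centralizerIn S V) →* Ω,
      β₀ = (ψ.comp (Subgroup.inclusion hle)).comp (Subgroup.inclusion hRle) := ⟨_, rfl⟩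
  rw [← hβ₀def]
  have hβ₀ : β₀ ∈ F.Hom (V ⊔ centralizerIn S V) := by
    rw [hβ₀def]
    exact hom_restrict F hRle hψ₁
  have hβU : ∀ u : V, β₀ (Subgroup.inclusion le_sup_left u) = (e u : Ω) := by
    intro u
    rw [hβ₀def]
    exact hψe u u.2 _
  have hβC : ∀ c : centralizerIn S V, β₀ (Subgroup.inclusion le_sup_right c) ∈ centralizerIn S V := by
    intro c
    rw [mem_centralizerIn_iff]
    refine ⟨(F.le_of_mem hβ₀).2 _, fun y hy => ?_⟩
    obtain ⟨u, hu⟩ : ∃ u : V, ((e u : V) : Ω) = y := ⟨e.symm ⟨y, hy⟩, by simp⟩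
    rw [← hu, ← hβU u, ← map_mul, ← map_mul]
    congr 1
    apply Subtype.ext
    have hc := (mem_centralizerIn_iff.mp c.2).2 u u.2
    exact hc
  have hβR : ∀ z : ↥(V ⊔ centralizerIn S V), β₀ z ∈ V ⊔ centralizerIn S V := by
    apply map_sup_mem
    · intro u
      rw [hβU]
      exact Subgroup.mem_sup_left (e u).2
    · intro c
      exact Subgroup.mem_sup_right (hβC c)
  exact mem_normalizerHom_of_preserves F le_rfl (le_normalizerIn hRS) hβ₀ (fun x _ => hβR x)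

end Cfsg.Agent.Lib.Helper27.LG2
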