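import Mathlib
import Cfsg.Prelude.Def_FusionSystem
import Cfsg.Agent.Lib.Helper27.FusionRadical
import Cfsg.Agent.Lib.Helper27.FusionNormal

set_option autoImplicit false

namespace Cfsg.Agent.Lib.Helper27

open Cfsg Cfsg.FusionSystem

variable {Ω : Type*} [Group Ω] {S : Subgroup Ω}

/-! ### The subgroup `{g ∈ N_S(R) | c_g ∈ O_p(Aut_F(R))}` -/

/-- `O_p(Aut_F(R))` as a subgroup of `Aut(R)`. -/
def opAut (F : FusionSystem S) (p : ℕ) (R : Subgroup Ω) : Subgroup (MulAut R) :=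
  (pCore p (F.autGroup R)).map (F.autGroup R).subtype

theorem opAut_le_autGroup (F : FusionSystem S) (p : ℕ) (R : Subgroup Ω) : opAut F p R ≤ F.autGroup R := by
  rintro _ ⟨k, -, rfl⟩
  exact k.2

theorem opAut_conj_mem (F : FusionSystem S) (p : ℕ) {R : Subgroup Ω} {k α : MulAut R}
    (hk : k ∈ opAut F p R) (hα : α ∈ F.autGroup R) : α * k * α⁻¹ ∈ opAut F p R := by
  obtain ⟨k', hk', rfl⟩ := hk
  have := (Cfsg.Agent.Lib.Helper1.pCore_normal (G := F.autGroup R) p).conj_mem k' hk' ⟨α, hα⟩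
  exact ⟨_, this, rfl⟩

theorem opAut_le_autInducedBy {F : FusionSystem S} {p : ℕ} [Fact p.Prime] {R : Subgroup Ω}
    (hfa : F.IsFullyAutomized p R) : opAut F p R ≤ autInducedBy S R := by
  obtain ⟨-, R₀, hR₀⟩ := hfa
  rintro _ ⟨k', hk', rfl⟩
  have h1 : k' ∈ (R₀ : Subgroup (F.autGroup R)) := Cfsg.Agent.Lib.Helper1.pCore_le_sylow R₀ hk'
  rw [hR₀] at h1
  exact h1

/-- `{g ∈ N_S(R) | c_g ∈ O_p(Aut_F(R))}` -/
def opNormalizer (F : FusionSystem S) (p : ℕ) (R : Subgroup Ω) : Subgroup Ω :=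
  ((opAut F p R).comap (conjAutHom S R)).map (normalizerIn S R).subtype

theorem mem_opNormalizer_iff {F : FusionSystem S} {p : ℕ} {R : Subgroup Ω} {g : Ω} :
    g ∈ opNormalizer F p R ↔ ∃ hg : g ∈ normalizerIn S R, conjAutHom S R ⟨g, hg⟩ ∈ opAut F p R := by
  constructor
  · rintro ⟨n, hn, rfl⟩
    exact ⟨n.2, hn⟩
  · rintro ⟨hg, h⟩
    exact ⟨⟨g, hg⟩, h, rfl⟩

theorem opNormalizer_le_normalizerIn (F : FusionSystem S) (p : ℕ) (R : Subgroup Ω) :
    opNormalizer F p R ≤ normalizerIn S R := by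
  intro g hg
  exact (mem_opNormalizer_iff.mp hg).1

theorem opNormalizer_le (F : FusionSystem S) (p : ℕ) (R : Subgroup Ω) : opNormalizer F p R ≤ S :=
  le_trans (opNormalizer_le_normalizerIn F p R) (normalizerIn_le_S S R)

theorem le_opNormalizer [Finite S] {p : ℕ} [Fact p.Prime] (hS : IsPGroup p S) (F : FusionSystem S)
    {R : Subgroup Ω} (hRS : R ≤ S) : R ≤ opNormalizer F p R := by
  intro g hg
  rw [mem_opNormalizer_iff]
  refine ⟨le_normalizerIn hRS hg, inn_le_pCore_map hS F hRS ?_⟩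
  rw [mem_inn_iff]
  exact ⟨⟨g, hg⟩, fun x => rfl⟩

theorem centralizerIn_le_opNormalizer (F : FusionSystem S) (p : ℕ) (R : Subgroup Ω) :
    centralizerIn S R ≤ opNormalizer F p R := by
  intro g hg
  rw [mem_opNormalizer_iff]
  refine ⟨centralizerIn_le_normalizerIn S R hg, ?_⟩
  have : conjAutHom S R ⟨g, centralizerIn_le_normalizerIn S R hg⟩ = 1 := by
    rw [← MonoidHom.mem_ker, conjAutHom_ker, Subgroup.mem_subgroupOf]
    exact hg
  rw [this]
  exact Subgroup.one_mem _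

/-- If the fully normalized `R` is not both centric and radical, then `opNormalizer` is strictly bigger. -/
theorem exists_mem_opNormalizer_not_mem [Finite S] {p : ℕ} [Fact p.Prime] (hS : IsPGroup p S)
    {F : FusionSystem S} (hF : F.IsSaturated p) {R : Subgroup Ω} (hfn : F.IsFullyNormalized R)
    (hnot : ¬ (F.IsCentric R ∧ F.IsRadical p R)) : ∃ g ∈ opNormalizer F p R, g ∉ R := by
  obtain ⟨hfa, -, hfc⟩ := fa_receptive_of_fullyNormalized hS hF hfn
  have hRS : R ≤ S := hfn.1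
  by_cases hc : F.IsCentric R
  · have hnr : ¬ F.IsRadical p R := fun h => hnot ⟨hc, h⟩
    have hne : opAut F p R ≠ Inn R := fun h => hnr ⟨hRS, h⟩
    have hlt : Inn R < opAut F p R := lt_of_le_of_ne (inn_le_pCore_map hS F hRS) hne.symm
    obtain ⟨k, hkK, hkI⟩ := SetLike.exists_of_lt hlt
    have hk1 := opAut_le_autInducedBy hfa hkK
    rw [← conjAutHom_range] at hk1
    obtain ⟨n, rfl⟩ := hk1
    refine ⟨n, mem_opNormalizer_iff.mpr ⟨n.2, hkK⟩, fun hnR => hkI ?_⟩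
    rw [mem_inn_iff]
    exact ⟨⟨n, hnR⟩, fun x => rfl⟩
  · obtain ⟨g, hg, hgR⟩ := exists_mem_centralizerIn_not_mem_of_not_centric hfc hc
    exact ⟨g, centralizerIn_le_opNormalizer F p R hg, hgR⟩

/-- `N_S(R)` normalizes `opNormalizer`. -/
theorem normalizerIn_le_normalizerIn_opNormalizer [Finite S] (F : FusionSystem S) (p : ℕ) {R : Subgroup Ω}
    (hRS : R ≤ S) : normalizerIn S R ≤ normalizerIn S (opNormalizer F p R) := by
  intro n hn
  have hfin : Finite (opNormalizer F p R) :=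
    Finite.of_injective (Subgroup.inclusion (opNormalizer_le F p R)) (Subgroup.inclusion_injective _)
  refine ⟨hn.1, mem_normalizer_of_conj_mem (fun g hg => ?_)⟩
  obtain ⟨hgN, hgk⟩ := mem_opNormalizer_iff.mp hg
  rw [mem_opNormalizer_iff]
  have hN : n * g * n⁻¹ ∈ normalizerIn S R :=
    (normalizerIn S R).mul_mem ((normalizerIn S R).mul_mem hn hgN) ((normalizerIn S R).inv_mem hn)
  refine ⟨hN, ?_⟩
  have h1 : conjAutHom S R ⟨n * g * n⁻¹, hN⟩ =
      conjAutHom S R ⟨n, hn⟩ * conjAutHom S R ⟨g, hgN⟩ * (conjAutHom S R ⟨n, hn⟩)⁻¹ := by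
    rw [← map_inv, ← map_mul, ← map_mul]
    rfl
  rw [h1]
  apply opAut_conj_mem F p hgk
  apply autInducedBy_le_autGroup F hRS
  rw [← conjAutHom_range]
  exact ⟨_, rfl⟩

/-- Every `F`-automorphism of the fully normalized `R` extends to an `F`-automorphism of `opNormalizer`. -/
theorem exists_extension_opNormalizer [Finite S] {p : ℕ} [Fact p.Prime] (hS : IsPGroup p S)
    {F : FusionSystem S} (hF : F.IsSaturated p) {R : Subgroup Ω} (hfn : F.IsFullyNormalized R)
    {β : R ≃* R} (hβ : IsIso F β) :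
    ∃ β₂ : opNormalizer F p R ≃* opNormalizer F p R, IsIso F β₂ ∧
      ∀ x : R, ((β₂ ⟨x, le_opNormalizer hS F hfn.1 x.2⟩ : opNormalizer F p R) : Ω) = β x := by
  obtain ⟨hfa, hrec, -⟩ := fa_receptive_of_fullyNormalized hS hF hfn
  have hRS : R ≤ S := hfn.1
  have hfin : Finite (opNormalizer F p R) :=
    Finite.of_injective (Subgroup.inclusion (opNormalizer_le F p R)) (Subgroup.inclusion_injective _)
  have hβA : (β : MulAut R) ∈ F.autGroup R := (mem_autGroup_iff F hRS β).mpr hβ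
  obtain ⟨ψ, hψ, hψβ⟩ := receptive_exists_extension hrec hβ
  -- conjugation formula
  have hconj : ∀ g (hgN : g ∈ normalizerIn S R),
      conjAutHom S R ⟨g, hgN⟩ ∈ opAut F p R → ∃ h ∈ S, ∀ x : R,
        (((β : MulAut R) * conjAutHom S R ⟨g, hgN⟩ * (β : MulAut R)⁻¹) x : Ω) = h * x * h⁻¹ := by
    intro g hgN hgk
    have h2 := opAut_le_autInducedBy hfa (opAut_conj_mem F p hgk hβA)
    rw [mem_autInducedBy_iff] at h2
    exact h2
  have hle : opNormalizer F p R ≤ extender S R (R.subtype.comp β.toMonoidHom) := by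
    intro g hg
    obtain ⟨hgN, hgk⟩ := mem_opNormalizer_iff.mp hg
    rw [mem_extender_iff]
    refine ⟨hgN.1, hgN.2, ?_⟩
    obtain ⟨h, hhS, hh⟩ := hconj g hgN hgk
    refine ⟨h, hhS, fun x hx => ?_⟩
    have h4 := hh (β x)
    simp only [MulAut.mul_apply, MulAut.inv_apply_self] at h4
    exact h4
  have hRle : R ≤ extender S R (R.subtype.comp β.toMonoidHom) := le_extender_of_isIso hβ
  have hψR : ∀ x : R, ψ ⟨x, hRle x.2⟩ = β x := fun x => hψβ x x.2 _
  have hmaps : ∀ x : ↥(extender S R (R.subtype.comp β.toMonoidHom)),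
      (x : Ω) ∈ opNormalizer F p R → ψ x ∈ opNormalizer F p R := by
    intro g hg
    obtain ⟨hgN, hgk⟩ := mem_opNormalizer_iff.mp hg
    have hψS : ψ g ∈ S := (F.le_of_mem hψ).2 g
    -- conjugation by `ψ g` on `R` is `β c_g β⁻¹`
    have hact : ∀ x : R, ψ g * x * (ψ g)⁻¹ =
        (((β : MulAut R) * conjAutHom S R ⟨g, hgN⟩ * (β : MulAut R)⁻¹) x : Ω) := by
      intro x
      simp only [MulAut.mul_apply, MulAut.inv_apply]
      have hy : (x : Ω) = ψ ⟨(β.symm x : R), hRle (β.symm x).2⟩ := by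
        rw [hψR]
        simp
      have h5 : ψ g * ψ ⟨(β.symm x : R), hRle (β.symm x).2⟩ * (ψ g)⁻¹ =
          ψ (g * ⟨(β.symm x : R), hRle (β.symm x).2⟩ * g⁻¹) := by
        rw [map_mul, map_mul, map_inv]
      have h6 : g * ⟨(β.symm x : R), hRle (β.symm x).2⟩ * g⁻¹ =
          ⟨((conjAutHom S R ⟨g, hgN⟩ (β.symm x) : R) : Ω), hRle (conjAutHom S R ⟨g, hgN⟩ (β.symm x)).2⟩ := by
        apply Subtype.ext
        rfl
      rw [hy, h5, h6, hψR]
    have hψN : ψ g ∈ normalizerIn S R := by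
      haveI : Finite R := Finite.of_injective (Subgroup.inclusion hRS) (Subgroup.inclusion_injective hRS)
      refine ⟨hψS, mem_normalizer_of_conj_mem (fun y hy => ?_)⟩
      rw [hact ⟨y, hy⟩]
      exact (_ : R).2
    rw [mem_opNormalizer_iff]
    refine ⟨hψN, ?_⟩
    have h7 : conjAutHom S R ⟨ψ g, hψN⟩ = (β : MulAut R) * conjAutHom S R ⟨g, hgN⟩ * (β : MulAut R)⁻¹ := by
      ext x
      exact hact x
    rw [h7]
    exact opAut_conj_mem F p hgk hβA
  obtain ⟨β₂, hβ₂, hβ₂ψ⟩ := exists_aut_restrict F hle hψ hmaps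
  refine ⟨β₂, hβ₂, fun x => ?_⟩
  rw [hβ₂ψ]
  exact hψR x

end Cfsg.Agent.Lib.Helper27
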