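import Mathlib
import Cfsg.Agent.Lib.Helper10.PGroup

/-!
# P. Hall-lite (helper27)

A finite `2`-group `G` with `x ^ 4 = 1` for all `x`, centre of order `2`, in which every characteristic abelian subgroup
is cyclic, has class at most two: every commutator is central.

`Z2` = second centre, `C = C_G(Z2)`, `T = Z2 ⊓ C = Z(Z2)` (characteristic abelian, hence cyclic).
Three subgroups: `G' ≤ C`.  `C ≤ Z2` (centre of `G ⧸ T` against `C ⧸ T`, using `x ^ 4 = 1`).  `C_G(T) ≤ Z2`.  Finally
`|G : C_G(T)| ≤ 2` by hand.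
-/

set_option autoImplicit false
set_option linter.unusedSectionVars false
set_option linter.unusedVariables false

namespace Cfsg.Agent.Lib.Helper27.HallLite

open Subgroup
open scoped commutatorElement

variable {G : Type*} [Group G]

/-- the second centre -/
def Z2 (G : Type*) [Group G] : Subgroup G := Subgroup.upperCentralSeriesStep (center G)

/-- the centraliser of the second centre -/
def CC (G : Type*) [Group G] : Subgroup G := centralizer (Z2 G : Set G)

/-- the centre of the second centre -/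
def TT (G : Type*) [Group G] : Subgroup G := Z2 G ⊓ CC G

theorem mem_Z2 (x : G) : x ∈ Z2 G ↔ ∀ y : G, ⁅x, y⁆ ∈ center G := Iff.rfl

theorem mem_Z2' (x : G) : x ∈ Z2 G ↔ ∀ y : G, ⁅y, x⁆ ∈ center G := by
  rw [mem_Z2]
  constructor
  · intro h y
    rw [← commutatorElement_inv]
    exact inv_mem (h y)
  · intro h y
    rw [← commutatorElement_inv]
    exact inv_mem (h y)

theorem mem_CC (c : G) : c ∈ CC G ↔ ∀ x ∈ Z2 G, x * c = c * x := mem_centralizer_iff

theorem center_le_Z2 : center G ≤ Z2 G := by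
  intro w hw
  rw [mem_Z2]
  intro y
  have : ⁅w, y⁆ = 1 := by
    rw [commutatorElement_eq_one_iff_commute]
    exact ((mem_center_iff.1 hw) y).symm
  rw [this]
  exact one_mem _

theorem center_le_CC : center G ≤ CC G := by
  intro w hw
  rw [mem_CC]
  intro x _
  exact (mem_center_iff.1 hw) x

theorem center_le_TT : center G ≤ TT G := le_inf center_le_Z2 center_le_CC

instance : (Z2 G).Characteristic := by
  unfold Z2
  infer_instance

instance : (CC G).Characteristic := by
  unfold CC
  infer_instance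

instance : (TT G).Characteristic := by
  unfold TT
  infer_instance

instance : IsMulCommutative ↥(TT G) :=
  ⟨⟨fun a b => Subtype.ext ((mem_CC _).1 b.2.2 a.1 a.2.1)⟩⟩

theorem conj_eq (h x : G) : h * x * h⁻¹ = ⁅h, x⁆ * x := by
  rw [commutatorElement_def]
  group

theorem conj_sq (h x : G) (hc : ⁅h, x⁆ * x = x * ⁅h, x⁆) :
    h * (x * x) * h⁻¹ = (⁅h, x⁆ * ⁅h, x⁆) * (x * x) := by
  have h1 : h * (x * x) * h⁻¹ = (h * x * h⁻¹) * (h * x * h⁻¹) := by group
  rw [h1, conj_eq]
  calc ⁅h, x⁆ * x * (⁅h, x⁆ * x) = ⁅h, x⁆ * (x * ⁅h, x⁆) * x := by group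
    _ = ⁅h, x⁆ * (⁅h, x⁆ * x) * x := by rw [hc]
    _ = ⁅h, x⁆ * ⁅h, x⁆ * (x * x) := by group

section main

variable [Finite G] (hp : IsPGroup 2 G) (h4 : ∀ x : G, x ^ 4 = 1) (hZ : Nat.card (center G) = 2)
  (hchar : ∀ A : Subgroup G, A.Characteristic → IsMulCommutative A → IsCyclic A)

include hZ in
/-- the central involution -/
theorem exists_z : ∃ z : G, z ∈ center G ∧ z ≠ 1 ∧ ∀ w ∈ center G, w = 1 ∨ w = z := by
  obtain ⟨a, b, hab, huniv⟩ := Nat.card_eq_two_iff.1 hZ
  have hone : (1 : center G) ∈ ({a, b} : Set (center G)) := huniv ▸ Set.mem_univ _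
  rcases hone with h1 | h1
  · refine ⟨b, b.2, ?_, ?_⟩
    · intro hb
      apply hab
      rw [← h1]
      exact (Subtype.ext hb).symm
    · intro w hw
      have : (⟨w, hw⟩ : center G) ∈ ({a, b} : Set (center G)) := huniv ▸ Set.mem_univ _
      rcases this with h2 | h2
      · left
        rw [← h1] at h2
        exact congrArg Subtype.val h2
      · right
        exact congrArg Subtype.val h2
  · rw [Set.mem_singleton_iff] at h1
    refine ⟨a, a.2, ?_, ?_⟩
    · intro ha
      apply hab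
      rw [← h1]
      exact Subtype.ext ha
    · intro w hw
      have : (⟨w, hw⟩ : center G) ∈ ({a, b} : Set (center G)) := huniv ▸ Set.mem_univ _
      rcases this with h2 | h2
      · right
        exact congrArg Subtype.val h2
      · left
        rw [Set.mem_singleton_iff, ← h1] at h2
        exact congrArg Subtype.val h2

include hZ in
theorem center_sq (w : G) (hw : w ∈ center G) : w * w = 1 := by
  obtain ⟨z, hz, hz1, hall⟩ := exists_z hZ
  have hzz : z * z = 1 := by
    rcases hall (z * z) (mul_mem hz hz) with h | h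
    · exact h
    · exfalso
      apply hz1
      calc z = z⁻¹ * (z * z) := by group
        _ = z⁻¹ * z := by rw [h]
        _ = 1 := by group
  rcases hall w hw with h | h
  · rw [h, one_mul]
  · rw [h, hzz]

include hZ in
/-- squares of elements of the second centre are central -/
theorem sq_mem_center_of_mem_Z2 (x : G) (hx : x ∈ Z2 G) : x * x ∈ center G := by
  rw [mem_center_iff]
  intro h
  have hσ : ⁅h, x⁆ ∈ center G := (mem_Z2' x).1 hx h
  have hc : ⁅h, x⁆ * x = x * ⁅h, x⁆ := ((mem_center_iff.1 hσ) x).symm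
  have h1 := conj_sq h x hc
  rw [center_sq hZ _ hσ, one_mul] at h1
  calc h * (x * x) = (h * (x * x) * h⁻¹) * h := by group
    _ = x * x * h := by rw [h1]

/-- three subgroups: commutators centralise the second centre -/
theorem commutator_mem_CC (g h : G) : ⁅g, h⁆ ∈ CC G := by
  have h1 : ⁅⁅(⊤ : Subgroup G), Z2 G⁆, (⊤ : Subgroup G)⁆ = ⊥ := by
    rw [commutator_eq_bot_iff_le_centralizer, commutator_le]
    intro a _ b hb
    rw [mem_centralizer_iff]
    intro c _
    exact (mem_center_iff.1 ((mem_Z2' b).1 hb a)) c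
  have h2 : ⁅⁅Z2 G, (⊤ : Subgroup G)⁆, (⊤ : Subgroup G)⁆ = ⊥ := by
    rw [commutator_eq_bot_iff_le_centralizer, commutator_le]
    intro a ha b _
    rw [mem_centralizer_iff]
    intro c _
    exact (mem_center_iff.1 ((mem_Z2 a).1 ha b)) c
  have h3 := commutator_commutator_eq_bot_of_rotate h1 h2
  rw [commutator_eq_bot_iff_le_centralizer] at h3
  exact h3 (commutator_mem_commutator (mem_top g) (mem_top h))

include hZ hchar in
/-- an element of `T` of order at most two is central -/
theorem mem_center_of_sq_eq_one (τ : G) (hτ : τ ∈ TT G) (h2 : τ * τ = 1) : τ ∈ center G := by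
  classical
  by_contra hcon
  obtain ⟨z, hz, hz1, hall⟩ := exists_z hZ
  have hcyc : IsCyclic ↥(TT G) := hchar (TT G) inferInstance inferInstance
  have : Fintype ↥(TT G) := Fintype.ofFinite _
  have hle := IsCyclic.card_pow_eq_one_le (α := ↥(TT G)) (n := 2) (by norm_num)
  have hzT : z ∈ TT G := center_le_TT hz
  have hτ1 : τ ≠ 1 := fun h => hcon (h ▸ one_mem _)
  have hτz : τ ≠ z := fun h => hcon (h ▸ hz)
  have hsub : ({1, ⟨z, hzT⟩, ⟨τ, hτ⟩} : Finset ↥(TT G)) ⊆ Finset.univ.filter (fun a => a ^ 2 = 1) := by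
    intro a ha
    rw [Finset.mem_filter]
    refine ⟨Finset.mem_univ _, ?_⟩
    rw [Finset.mem_insert, Finset.mem_insert, Finset.mem_singleton] at ha
    rcases ha with rfl | rfl | rfl
    · exact one_pow 2
    · apply Subtype.ext
      rw [pow_two]
      exact center_sq hZ z hz
    · apply Subtype.ext
      rw [pow_two]
      exact h2
  have hcard : ({1, ⟨z, hzT⟩, ⟨τ, hτ⟩} : Finset ↥(TT G)).card = 3 := by
    rw [Finset.card_insert_of_notMem, Finset.card_pair]
    · intro h
      exact hτz (congrArg Subtype.val h).symm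
    · rw [Finset.mem_insert, Finset.mem_singleton]
      rintro (h | h)
      · exact hz1 (congrArg Subtype.val h).symm
      · exact hτ1 (congrArg Subtype.val h).symm
  have := Finset.card_le_card hsub
  omega

theorem comm_sq (k x : G) (hc : ⁅k, x⁆ * x = x * ⁅k, x⁆) : ⁅k, x * x⁆ = ⁅k, x⁆ * ⁅k, x⁆ := by
  have h1 := conj_sq k x hc
  rw [commutatorElement_def (g₁ := k) (g₂ := x * x), h1]
  group

include hp h4 hZ hchar in
/-- the centraliser of the second centre lies in the second centre -/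
theorem CC_le_Z2 : CC G ≤ Z2 G := by
  by_contra hcon
  have hNn : ((CC G).map (QuotientGroup.mk' (TT G))).Normal :=
    Subgroup.Normal.map inferInstance _ (QuotientGroup.mk'_surjective _)
  have hNbot : (CC G).map (QuotientGroup.mk' (TT G)) ≠ ⊥ := by
    intro h
    apply hcon
    intro c hc
    have : (QuotientGroup.mk' (TT G)) c ∈ (CC G).map (QuotientGroup.mk' (TT G)) := Subgroup.mem_map_of_mem _ hc
    rw [h, Subgroup.mem_bot, QuotientGroup.mk'_apply, QuotientGroup.eq_one_iff] at this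
    exact this.1
  have hQp : IsPGroup 2 (G ⧸ TT G) := hp.to_quotient (TT G)
  have hfact : Fact (Nat.Prime 2) := ⟨Nat.prime_two⟩
  have hne := Cfsg.Agent.Lib.Helper10.normal_inf_center_ne_bot hQp ((CC G).map (QuotientGroup.mk' (TT G))) hNbot
  obtain ⟨a, ha⟩ := (Subgroup.ne_bot_iff_exists_ne_one).1 hne
  obtain ⟨c, hc, hca⟩ := Subgroup.mem_map.1 a.2.1
  have hacen : (QuotientGroup.mk' (TT G)) c ∈ center (G ⧸ TT G) := hca ▸ a.2.2
  have hcT : c ∉ TT G := by
    intro h
    apply ha
    apply Subtype.ext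
    rw [← hca, QuotientGroup.mk'_apply, Subgroup.coe_one, QuotientGroup.eq_one_iff]
    exact h
  have hcomm : ∀ g : G, ⁅g, c⁆ ∈ TT G := by
    intro g
    rw [← QuotientGroup.eq_one_iff, ← QuotientGroup.mk'_apply, map_commutatorElement,
      commutatorElement_eq_one_iff_commute]
    exact (Subgroup.mem_center_iff.1 hacen _)
  apply hcT
  refine Subgroup.mem_inf.2 ⟨?_, hc⟩
  rw [mem_Z2']
  intro h
  have hτT : ⁅h, c⁆ ∈ TT G := hcomm h
  have hτc : ⁅h, c⁆ * c = c * ⁅h, c⁆ := (mem_CC c).1 hc _ hτT.1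
  have hconj := conj_sq h c hτc
  have hccZ2 : c * c ∈ Z2 G := by
    rw [mem_Z2']
    intro k
    rw [comm_sq k c ((mem_CC c).1 hc _ (hcomm k).1)]
    exact sq_mem_center_of_mem_Z2 hZ _ (hcomm k).1
  have hccT : c * c ∈ TT G := ⟨hccZ2, mul_mem hc hc⟩
  have hcc4 : (c * c) * (c * c) = 1 := by
    rw [← h4 c]
    simp only [pow_succ, pow_zero, one_mul, mul_assoc]
  have hccZ : c * c ∈ center G := mem_center_of_sq_eq_one hZ hchar _ hccT hcc4
  have h5 : h * (c * c) * h⁻¹ = c * c := by
    rw [(mem_center_iff.1 hccZ) h]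
    group
  have h6 : ⁅h, c⁆ * ⁅h, c⁆ = 1 := by
    rw [h5] at hconj
    exact (mul_eq_right.1 hconj.symm)
  exact mem_center_of_sq_eq_one hZ hchar _ hτT h6

include hp h4 hZ hchar in
theorem commutator_mem_TT (g h : G) : ⁅g, h⁆ ∈ TT G :=
  ⟨CC_le_Z2 hp h4 hZ hchar (commutator_mem_CC g h), commutator_mem_CC g h⟩

include hp h4 hZ hchar in
/-- the centraliser of `T` lies in the second centre -/
theorem centralizer_TT_le_Z2 : centralizer (TT G : Set G) ≤ Z2 G := by
  intro x hx
  rw [mem_centralizer_iff] at hx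
  have hCT := commutator_mem_TT hp h4 hZ hchar
  rw [mem_Z2']
  intro h
  have hσT := hCT h x
  have hσx : ⁅h, x⁆ * x = x * ⁅h, x⁆ := hx _ hσT
  have hconj := conj_sq h x hσx
  have hxxZ2 : x * x ∈ Z2 G := by
    rw [mem_Z2']
    intro k
    rw [comm_sq k x (hx _ (hCT k x))]
    exact sq_mem_center_of_mem_Z2 hZ _ (hCT k x).1
  have hxxC : x * x ∈ CC G := by
    rw [mem_CC]
    intro w hw
    have hζ : ⁅w, x⁆ ∈ center G := (mem_Z2 w).1 hw x
    have hζx : ⁅w, x⁆ * x = x * ⁅w, x⁆ := ((mem_center_iff.1 hζ) x).symm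
    have h1 := conj_sq w x hζx
    rw [center_sq hZ _ hζ, one_mul] at h1
    calc w * (x * x) = (w * (x * x) * w⁻¹) * w := by group
      _ = x * x * w := by rw [h1]
  have hxxT : x * x ∈ TT G := ⟨hxxZ2, hxxC⟩
  have hxx4 : (x * x) * (x * x) = 1 := by
    rw [← h4 x]
    simp only [pow_succ, pow_zero, one_mul, mul_assoc]
  have hxxZ : x * x ∈ center G := mem_center_of_sq_eq_one hZ hchar _ hxxT hxx4
  have h5 : h * (x * x) * h⁻¹ = x * x := by
    rw [(mem_center_iff.1 hxxZ) h]
    group
  have h6 : ⁅h, x⁆ * ⁅h, x⁆ = 1 := by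
    rw [h5] at hconj
    exact (mul_eq_right.1 hconj.symm)
  exact mem_center_of_sq_eq_one hZ hchar _ hσT h6

include hp h4 hZ hchar in
/-- **P. Hall-lite**: every commutator is central -/
theorem commutator_mem_center (g h : G) : ⁅g, h⁆ ∈ center G := by
  obtain ⟨z, hz, hz1, hall⟩ := exists_z hZ
  have hcyc : IsCyclic ↥(TT G) := hchar _ inferInstance inferInstance
  obtain ⟨t, ht⟩ := hcyc.exists_generator
  have hcent : ∀ g : G, g * (t : G) = (t : G) * g → g ∈ Z2 G := by
    intro g hg
    apply centralizer_TT_le_Z2 hp h4 hZ hchar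
    rw [mem_centralizer_iff]
    intro τ hτ
    obtain ⟨i, hi⟩ := Subgroup.mem_zpowers_iff.1 (ht ⟨τ, hτ⟩)
    have hτi : τ = (t : G) ^ i := by
      rw [← Subgroup.coe_zpow, hi]
    rw [hτi]
    exact ((Commute.zpow_right (show Commute g (t : G) from hg) i).eq).symm
  by_cases hg : g * (t : G) = (t : G) * g
  · exact (mem_Z2 g).1 (hcent g hg) h
  by_cases hh : h * (t : G) = (t : G) * h
  · exact (mem_Z2' h).1 (hcent h hh) g
  have hgt : ⁅g, (t : G)⁆ = z := by
    rcases hall _ ((mem_Z2' (t : G)).1 t.2.1 g) with h1 | h1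
    · exfalso
      apply hg
      exact (commutatorElement_eq_one_iff_commute.1 h1).eq
    · exact h1
  have hht : ⁅h, (t : G)⁆ = z := by
    rcases hall _ ((mem_Z2' (t : G)).1 t.2.1 h) with h1 | h1
    · exfalso
      apply hh
      exact (commutatorElement_eq_one_iff_commute.1 h1).eq
    · exact h1
  have hu : (g⁻¹ * h) * (t : G) = (t : G) * (g⁻¹ * h) := by
    have e1 : g * (t : G) * g⁻¹ = z * (t : G) := by rw [conj_eq, hgt]
    have e2 : h * (t : G) * h⁻¹ = z * (t : G) := by rw [conj_eq, hht]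
    have e3 : h * (t : G) * h⁻¹ = g * (t : G) * g⁻¹ := by rw [e1, e2]
    calc g⁻¹ * h * (t : G) = g⁻¹ * (h * (t : G) * h⁻¹) * h := by group
      _ = g⁻¹ * (g * (t : G) * g⁻¹) * h := by rw [e3]
      _ = (t : G) * (g⁻¹ * h) := by group
  have huZ2 := hcent _ hu
  have hrew : ⁅g, h⁆ = g * ⁅g, g⁻¹ * h⁆ * g⁻¹ := by
    rw [commutatorElement_def, commutatorElement_def]
    group
  rw [hrew]
  exact (inferInstance : (center G).Normal).conj_mem _ ((mem_Z2' _).1 huZ2 g) g

end main

end Cfsg.Agent.Lib.Helper27.HallLite
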