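import Mathlib
import Cfsg.Prelude.Def_GeometricClasses
import Cfsg.Agent.Lib.Helper7.AschCore
import Cfsg.Agent.Lib.Helper3.AschC6Basic
import Cfsg.Agent.Lib.Helper27.HallLite

/-!
# Sp corollary family, piece E-C6-EXACT (index-generic)

An absolutely irreducible `2`-group `R ≤ GL_ι(F)` (`char F ≠ 2`) of symplectic type with centre of order `2` has
`|R| = 2 |ι|²`:  P. Hall-lite gives class two; the coset representatives of `R` modulo its centre are joint eigenvectors
of the conjugation operators with separating sign systems, hence linearly independent (helper3's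
`linearIndependent_of_separating`), and they span the matrix algebra (Burnside, helper7).
-/

set_option autoImplicit false
set_option linter.unusedSectionVars false
set_option linter.unusedVariables false

namespace Cfsg.Agent.Lib.Helper27.SpCorC6X

open Matrix Module Cfsg Cfsg.Geo
open scoped commutatorElement

variable {ι : Type} [Fintype ι] [DecidableEq ι] {F : Type*} [Field F]

/-- conjugation by `g` on the matrix algebra -/
def conjOp (g : GL ι F) : Module.End F (Matrix ι ι F) where
  toFun M := (g : Matrix ι ι F) * M * ((g⁻¹ : GL ι F) : Matrix ι ι F)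
  map_add' M N := by rw [Matrix.mul_add, Matrix.add_mul]
  map_smul' c M := by
    rw [Matrix.mul_smul, Matrix.smul_mul]
    rfl

theorem conjOp_apply (g : GL ι F) (M : Matrix ι ι F) :
    conjOp g M = (g : Matrix ι ι F) * M * ((g⁻¹ : GL ι F) : Matrix ι ι F) := rfl

/-- central elements of an absolutely irreducible group are scalar matrices -/
theorem exists_scalar_of_mem_center (R : Subgroup (GL ι F)) (hirr : ActsAbsolutelyIrreducibly (matrixSet R))
    (w : ↥R) (hw : w ∈ Subgroup.center ↥R) :
    ∃ c : F, ((w : GL ι F) : Matrix ι ι F) = c • (1 : Matrix ι ι F) := by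
  apply hirr.2
  rintro _ ⟨g, hg, rfl⟩
  have h := (Subgroup.mem_center_iff.1 hw) ⟨g, hg⟩
  have h' := congrArg (fun x : ↥R => ((x : GL ι F) : Matrix ι ι F)) h
  simp only [Subgroup.coe_mul, Units.val_mul] at h'
  exact h'.symm

/-- **class two + centre of order two + absolutely irreducible** gives `|R| = 2 |ι|²` -/
theorem card_eq_of_class_two [Finite F] (R : Subgroup (GL ι F)) (h2 : (2 : F) ≠ 0)
    (hirr : ActsAbsolutelyIrreducibly (matrixSet R))
    (hcomm : ∀ x y : ↥R, ⁅x, y⁆ ∈ Subgroup.center ↥R) (hZ : Nat.card (Subgroup.center ↥R) = 2) :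
    Nat.card R = 2 * Fintype.card ι ^ 2 := by
  classical
  have hfin : Finite (GL ι F) := inferInstance
  obtain ⟨z, hz, hz1, hall⟩ := Cfsg.Agent.Lib.Helper27.HallLite.exists_z (G := ↥R) hZ
  -- `ι` is non-empty
  have hne : Nonempty ι := by
    by_contra hemp
    rw [not_nonempty_iff] at hemp
    apply hz1
    apply Subtype.ext
    apply Units.ext
    ext i
    exact (hemp.false i).elim
  have hnt : Nontrivial (Matrix ι ι F) := inferInstance
  have hone : (1 : F) ≠ -1 := by
    intro h
    apply h2
    have : (2 : F) = 1 + 1 := by norm_num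
    rw [this]
    nth_rewrite 1 [h]
    ring
  -- the sign system
  have hsign : ∀ g x : ↥R, ∃ μ : F, (μ = 1 ∨ μ = -1) ∧ (μ = 1 ↔ ⁅g, x⁆ = 1) ∧
      conjOp (g : GL ι F) ((x : GL ι F) : Matrix ι ι F) = μ • ((x : GL ι F) : Matrix ι ι F) := by
    intro g x
    have hconj : conjOp (g : GL ι F) ((x : GL ι F) : Matrix ι ι F) =
        (((⁅g, x⁆ : ↥R) : GL ι F) : Matrix ι ι F) * ((x : GL ι F) : Matrix ι ι F) := by
      rw [conjOp_apply, ← Units.val_mul, ← Units.val_mul, ← Units.val_mul]
      congr 1
      rw [← Subgroup.coe_inv, ← Subgroup.coe_mul, ← Subgroup.coe_mul, ← Subgroup.coe_mul]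
      congr 1
      exact Cfsg.Agent.Lib.Helper27.HallLite.conj_eq g x
    rcases hall _ (hcomm g x) with h1 | h1
    · refine ⟨1, Or.inl rfl, ⟨fun _ => h1, fun _ => rfl⟩, ?_⟩
      rw [hconj, h1, Subgroup.coe_one, Units.val_one, one_mul, one_smul]
    · obtain ⟨c, hc⟩ := exists_scalar_of_mem_center R hirr z hz
      have hzz : z * z = 1 := Cfsg.Agent.Lib.Helper27.HallLite.center_sq hZ z hz
      have hcc : c * c = 1 := by
        have h3 := congrArg (fun x : ↥R => ((x : GL ι F) : Matrix ι ι F)) hzz
        simp only [Subgroup.coe_mul, Units.val_mul, Subgroup.coe_one, Units.val_one] at h3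
        rw [hc, Matrix.smul_mul, Matrix.mul_smul, one_mul, smul_smul] at h3
        obtain ⟨i⟩ := hne
        have h4 := congrFun (congrFun h3 i) i
        simpa using h4
      have hc1 : c ≠ 1 := by
        intro h
        apply hz1
        apply Subtype.ext
        apply Units.ext
        rw [hc, h, one_smul]
        rfl
      have hcm : c = -1 := by
        have : (c - 1) * (c + 1) = 0 := by ring_nf; rw [show c ^ 2 = c * c by ring, hcc]; ring
        rcases mul_eq_zero.1 this with h | h
        · exact absurd (sub_eq_zero.1 h) hc1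
        · exact eq_neg_of_add_eq_zero_left h
      refine ⟨-1, Or.inr rfl, ⟨fun h => absurd h.symm hone, fun h => absurd (h1 ▸ h) hz1⟩, ?_⟩
      rw [hconj, h1, hc, hcm, Matrix.smul_mul, one_mul]
  choose μ hμ1 hμ2 hμ3 using hsign
  -- the family of coset representatives
  have hQfin : Fintype (↥R ⧸ Subgroup.center ↥R) := Fintype.ofFinite _
  let v : (↥R ⧸ Subgroup.center ↥R) → Matrix ι ι F := fun q => (((Quotient.out q : ↥R) : GL ι F) : Matrix ι ι F)
  have hli : LinearIndependent F v := by
    apply Cfsg.Agent.Lib.Helper3.AschC6.linearIndependent_of_separating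
      (fun g : ↥R => conjOp (g : GL ι F)) v (fun g q => μ g (Quotient.out q))
    · intro q
      exact Units.ne_zero _
    · intro g q
      exact hμ3 g (Quotient.out q)
    · intro q q' hqq
      by_contra hcon
      push Not at hcon
      apply hqq
      rw [← QuotientGroup.out_eq' q, ← QuotientGroup.out_eq' q', QuotientGroup.eq]
      rw [Subgroup.mem_center_iff]
      intro g
      have heq : ⁅g, Quotient.out q⁆ = ⁅g, Quotient.out q'⁆ := by
        have h5 := hcon g
        rcases hall _ (hcomm g (Quotient.out q)) with h6 | h6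
        · have : μ g (Quotient.out q') = 1 := by rw [← h5]; exact (hμ2 g _).2 h6
          rw [h6, (hμ2 g _).1 this]
        · rcases hall _ (hcomm g (Quotient.out q')) with h7 | h7
          · have : μ g (Quotient.out q) = 1 := by rw [h5]; exact (hμ2 g _).2 h7
            rw [h7, (hμ2 g _).1 this]
          · rw [h6, h7]
      have e1 := Cfsg.Agent.Lib.Helper27.HallLite.conj_eq g (Quotient.out q)
      have e2 := Cfsg.Agent.Lib.Helper27.HallLite.conj_eq g (Quotient.out q')
      rw [heq] at e1
      have hcen := hcomm g (Quotient.out q')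
      have e3 : g * ((Quotient.out q)⁻¹ * Quotient.out q') * g⁻¹ = (Quotient.out q)⁻¹ * Quotient.out q' := by
        calc g * ((Quotient.out q)⁻¹ * Quotient.out q') * g⁻¹
            = (g * Quotient.out q * g⁻¹)⁻¹ * (g * Quotient.out q' * g⁻¹) := by group
          _ = (⁅g, Quotient.out q'⁆ * Quotient.out q)⁻¹ * (⁅g, Quotient.out q'⁆ * Quotient.out q') := by rw [e1, e2]
          _ = (Quotient.out q)⁻¹ * Quotient.out q' := by group
      calc g * ((Quotient.out q)⁻¹ * Quotient.out q')
          = (g * ((Quotient.out q)⁻¹ * Quotient.out q') * g⁻¹) * g := by group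
        _ = (Quotient.out q)⁻¹ * Quotient.out q' * g := by rw [e3]
  have hspan : ⊤ ≤ Submodule.span F (Set.range v) := by
    have hB : Submodule.span F (matrixSet R) = ⊤ := by
      apply Cfsg.Agent.Lib.Helper7.Asch.span_eq_top_of_absIrr _ _ _ hirr
      · exact ⟨1, R.one_mem, rfl⟩
      · rintro _ ⟨a, ha, rfl⟩ _ ⟨b, hb, rfl⟩
        exact ⟨a * b, R.mul_mem ha hb, rfl⟩
    rw [← hB, Submodule.span_le]
    rintro _ ⟨g, hg, rfl⟩
    set q : ↥R ⧸ Subgroup.center ↥R := QuotientGroup.mk ⟨g, hg⟩ with hq
    have hmem : (Quotient.out q)⁻¹ * ⟨g, hg⟩ ∈ Subgroup.center ↥R := by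
      rw [← QuotientGroup.eq, QuotientGroup.out_eq']
    obtain ⟨c, hc⟩ := exists_scalar_of_mem_center R hirr _ hmem
    have hg' : (g : Matrix ι ι F) = c • v q := by
      have h6 : ((Quotient.out q * ((Quotient.out q)⁻¹ * ⟨g, hg⟩) : ↥R) : GL ι F) = g := by
        rw [mul_inv_cancel_left]
      rw [Subgroup.coe_mul] at h6
      have h7 := congrArg Units.val h6
      rw [Units.val_mul, hc, Matrix.mul_smul, mul_one] at h7
      exact h7.symm
    show (g : Matrix ι ι F) ∈ _
    rw [hg']
    exact Submodule.smul_mem _ _ (Submodule.subset_span ⟨q, rfl⟩)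
  have hbasis := Module.finrank_eq_card_basis (Basis.mk hli hspan)
  rw [Module.finrank_matrix, Module.finrank_self, mul_one] at hbasis
  rw [Subgroup.card_eq_card_quotient_mul_card_subgroup (Subgroup.center ↥R), hZ, Nat.card_eq_fintype_card, ← hbasis]
  ring

/-- **E-C6-EXACT, general form** -/
theorem card_eq_two_mul_sq_of_symplecticType [Finite F] (R : Subgroup (GL ι F)) (hR : IsSymplecticTypeGroup 2 R)
    (hirr : ActsAbsolutelyIrreducibly (matrixSet R)) (h2 : (2 : F) ≠ 0)
    (hcen : Nat.card (Subgroup.center R) = 2) : Nat.card R = 2 * Fintype.card ι ^ 2 := by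
  have hfin : Finite (GL ι F) := inferInstance
  apply card_eq_of_class_two R h2 hirr _ hcen
  intro x y
  refine Cfsg.Agent.Lib.Helper27.HallLite.commutator_mem_center hR.pGroup ?_ hcen hR.cyclic_of_characteristic x y
  intro g
  have h4 : Monoid.exponent ↥R = 4 := by
    rw [hR.exponent_eq]
    rfl
  rw [← h4]
  exact Monoid.pow_exponent_eq_one g

/-- **E-C6-EXACT** (the original stub of `notes/SpCorSkel_helper27.lean.txt`): the degree of an absolutely irreducible
`2`-group of symplectic type of order `2^(1+2k)` with centre of order `2` is `2^k` -/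
theorem card_eq_pow_of_c6_exact [Fintype F] {m : ℕ} (R : Subgroup (GL (Fin m ⊕ Fin m) F)) (k : ℕ)
    (hR : IsSymplecticTypeGroup 2 R) (hirr : ActsAbsolutelyIrreducibly (matrixSet R))
    (hodd : Odd (Fintype.card F)) (hcard : Nat.card R = 2 ^ (1 + 2 * k))
    (hcen : Nat.card (Subgroup.center R) = 2) : 2 * m = 2 ^ k := by
  have h2 : (2 : F) ≠ 0 := by
    have hch : ringChar F ≠ 2 := by
      intro h
      have := (FiniteField.even_card_iff_char_two (F := F)).1 h
      rcases hodd with ⟨t, ht⟩
      omega
    exact Ring.two_ne_zero hch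
  have h := card_eq_two_mul_sq_of_symplecticType R hR hirr h2 hcen
  rw [hcard, Fintype.card_sum, Fintype.card_fin] at h
  have h3 : (2 ^ k) ^ 2 = (2 * m) ^ 2 := by
    have : 2 ^ (1 + 2 * k) = 2 * (2 ^ k) ^ 2 := by ring
    rw [this] at h
    have h5 : m + m = 2 * m := by ring
    rw [h5] at h
    omega
  exact (Nat.pow_left_injective (by norm_num : (2 : ℕ) ≠ 0) h3).symm

end Cfsg.Agent.Lib.Helper27.SpCorC6X
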