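import Mathlib
import Cfsg.Prelude.Def_GeometricClasses
import Cfsg.Agent.Lib.Helper13.SpDecomp
import Cfsg.Agent.Lib.Helper13.SpMax
import Cfsg.Agent.Lib.Helper18.S5704FOBRIDGE

/-!
# Corollaries of the symplectic hub S5662: generic facts (helper27)

`Sp_2m(F)` is transitive on the non-zero vectors; `hproper` from maximality; properness of subspace and decomposition
stabilisers; small facts.
-/

set_option autoImplicit false
set_option linter.unusedSectionVars false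
set_option linter.unusedVariables false

namespace Cfsg.Agent.Lib.Helper27.SpCorBasic

open Matrix Module Cfsg Cfsg.Geo
open Cfsg.Agent.Lib.Helper6 (sympForm_add_left sympForm_add_right sympForm_smul_left sympForm_smul_right sympForm_self
  sympForm_swap sympForm_sub_right sympForm_sub_left sympForm_zero_left sympForm_zero_right sympTransvection_mul)
open Cfsg.Agent.Lib.Helper13 (sympTransvGL sympTransvGL_mulVec sympTransvGL_mem spGL_le_of_transvections)
open Cfsg.Agent.Lib.Helper15 (stdSymp stdSymp_apply stdSymp_nondeg)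

variable {F : Type*} [Field F] {m : ℕ}

local notation "ff" => Cfsg.sympForm m F
local notation "Sp" => Cfsg.spGL m F
local notation "V" => (Fin m ⊕ Fin m → F)

/-- non-degeneracy on the left -/
theorem exists_form_ne_zero (x : V) (hx : x ≠ 0) : ∃ y, ff x y ≠ 0 := by
  by_contra hcon
  push Not at hcon
  exact hx (stdSymp_nondeg x (fun y => by rw [stdSymp_apply]; exact hcon y))

/-- `y ↦ f(u, y)` -/
def fL (u : V) : V →ₗ[F] F where
  toFun y := ff u y
  map_add' y y' := sympForm_add_right u y y'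
  map_smul' c y := by
    rw [sympForm_smul_right]
    rfl

/-- `y ↦ f(y, v)` -/
def fR (v : V) : V →ₗ[F] F where
  toFun y := ff y v
  map_add' y y' := sympForm_add_left y y' v
  map_smul' c y := by
    rw [sympForm_smul_left]
    rfl

theorem exists_both_ne_zero {E : Type*} [AddCommGroup E] [Module F E] (φ ψ : E →ₗ[F] F)
    (hφ : ∃ x, φ x ≠ 0) (hψ : ∃ x, ψ x ≠ 0) : ∃ x, φ x ≠ 0 ∧ ψ x ≠ 0 := by
  obtain ⟨x1, h1⟩ := hφ
  obtain ⟨x2, h2⟩ := hψ
  by_cases h3 : ψ x1 = 0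
  · by_cases h4 : φ x2 = 0
    · refine ⟨x1 + x2, ?_, ?_⟩
      · rw [map_add, h4, add_zero]; exact h1
      · rw [map_add, h3, zero_add]; exact h2
    · exact ⟨x2, h4, h2⟩
  · exact ⟨x1, h1, h3⟩

theorem exists_sp_map_of_ne (u v : V) (h : ff u v ≠ 0) :
    ∃ g : GL (Fin m ⊕ Fin m) F, g ∈ Sp ∧ (g : Matrix (Fin m ⊕ Fin m) (Fin m ⊕ Fin m) F) *ᵥ u = v := by
  refine ⟨sympTransvGL (v - u) (1 / ff u v), sympTransvGL_mem _ _, ?_⟩
  rw [sympTransvGL_mulVec, sympForm_sub_right, sympForm_self, sub_zero, one_div, inv_mul_cancel₀ h, one_smul,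
    add_sub_cancel]

/-- G-TRANS: `Sp` is transitive on the non-zero vectors -/
theorem exists_sp_map (u v : V) (hu : u ≠ 0) (hv : v ≠ 0) :
    ∃ g : GL (Fin m ⊕ Fin m) F, g ∈ Sp ∧ (g : Matrix (Fin m ⊕ Fin m) (Fin m ⊕ Fin m) F) *ᵥ u = v := by
  by_cases huv : ff u v = 0
  · have hφ : ∃ x, fL u x ≠ 0 := exists_form_ne_zero u hu
    have hψ : ∃ x, fR v x ≠ 0 := by
      obtain ⟨y, hy⟩ := exists_form_ne_zero v hv
      refine ⟨y, ?_⟩
      change ff y v ≠ 0
      rw [sympForm_swap]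
      exact neg_ne_zero.2 hy
    obtain ⟨y, h1, h2⟩ := exists_both_ne_zero (fL u) (fR v) hφ hψ
    obtain ⟨g1, hg1, e1⟩ := exists_sp_map_of_ne u y h1
    obtain ⟨g2, hg2, e2⟩ := exists_sp_map_of_ne y v h2
    refine ⟨g2 * g1, (Sp).mul_mem hg2 hg1, ?_⟩
    rw [Units.val_mul, ← Matrix.mulVec_mulVec, e1, e2]
  · exact exists_sp_map_of_ne u v huv

/-- `scalars ⊓ Sp` is central, hence normal -/
theorem scalar_comm (z g : GL (Fin m ⊕ Fin m) F) (hz : z ∈ scalars (Fin m ⊕ Fin m) F) : z * g = g * z := by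
  rw [mem_scalars_iff] at hz
  obtain ⟨c, hc⟩ := hz
  apply Units.ext
  rw [Units.val_mul, Units.val_mul, hc, Matrix.smul_mul, Matrix.mul_smul, Matrix.one_mul, Matrix.mul_one]

instance normal_scalars_inf : (scalars (Fin m ⊕ Fin m) F ⊓ Sp).Normal := by
  refine ⟨fun z hz g => ?_⟩
  have : g * z * g⁻¹ = z := by
    rw [← scalar_comm z g (Subgroup.mem_inf.1 hz).1, mul_inv_cancel_right]
  rw [this]
  exact hz

/-- an element of `scalars ⊓ Sp` squares to one -/
theorem sq_eq_one_of_mem (hm : 1 ≤ m) (z : GL (Fin m ⊕ Fin m) F) (hz : z ∈ scalars (Fin m ⊕ Fin m) F ⊓ Sp) :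
    z * z = 1 := by
  have hz1 : z ∈ scalars (Fin m ⊕ Fin m) F := (Subgroup.mem_inf.1 hz).1
  have hz2 : z ∈ Sp := (Subgroup.mem_inf.1 hz).2
  rw [mem_scalars_iff] at hz1
  obtain ⟨c, hc⟩ := hz1
  have hx : (Pi.single (Sum.inl (⟨0, by omega⟩ : Fin m)) (1 : F) : V) ≠ 0 := by
    intro h
    have := congrFun h (Sum.inl ⟨0, by omega⟩)
    simp at this
  obtain ⟨y, hy⟩ := exists_form_ne_zero _ hx
  have h1 := hz2 (Pi.single (Sum.inl (⟨0, by omega⟩ : Fin m)) (1 : F)) y
  change ff ((z : Matrix (Fin m ⊕ Fin m) (Fin m ⊕ Fin m) F) *ᵥ _) ((z : Matrix (Fin m ⊕ Fin m) (Fin m ⊕ Fin m) F) *ᵥ _) = _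
    at h1
  rw [hc, Matrix.smul_mulVec, Matrix.smul_mulVec, Matrix.one_mulVec, Matrix.one_mulVec, sympForm_smul_left,
    sympForm_smul_right] at h1
  have hcc : (c : F) * (c : F) = 1 := by
    have h2 : ((c : F) * (c : F) - 1) * ff (Pi.single (Sum.inl (⟨0, by omega⟩ : Fin m)) (1 : F)) y = 0 := by
      linear_combination h1
    rcases mul_eq_zero.1 h2 with h | h
    · linear_combination h
    · exact absurd h hy
  apply Units.ext
  rw [Units.val_mul, hc, Matrix.smul_mul, Matrix.mul_smul, Matrix.mul_one, smul_smul, hcc, one_smul, Units.val_one]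

/-- in characteristic two `scalars ⊓ Sp` is trivial -/
theorem eq_one_of_mem_of_two (hm : 1 ≤ m) (h2 : (2 : F) = 0) (z : GL (Fin m ⊕ Fin m) F)
    (hz : z ∈ scalars (Fin m ⊕ Fin m) F ⊓ Sp) : z = 1 := by
  have hsq := sq_eq_one_of_mem hm z hz
  have hz1 : z ∈ scalars (Fin m ⊕ Fin m) F := (Subgroup.mem_inf.1 hz).1
  rw [mem_scalars_iff] at hz1
  obtain ⟨c, hc⟩ := hz1
  have hcc : (c : F) * (c : F) = 1 := by
    have h := congrArg (fun g : GL (Fin m ⊕ Fin m) F => (g : Matrix (Fin m ⊕ Fin m) (Fin m ⊕ Fin m) F)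
      (Sum.inl ⟨0, by omega⟩) (Sum.inl ⟨0, by omega⟩)) hsq
    simp only [Units.val_mul, hc, Matrix.smul_mul, Matrix.mul_smul, Matrix.mul_one, smul_smul, Units.val_one,
      Matrix.smul_apply, Matrix.one_apply_eq, smul_eq_mul, mul_one] at h
    exact h
  have hc1 : (c : F) = 1 := by
    have h : ((c : F) - 1) * ((c : F) - 1) = 0 := by
      linear_combination hcc + (1 - (c : F)) * h2
    have := mul_self_eq_zero.1 h
    linear_combination this
  apply Units.ext
  rw [hc, hc1, one_smul, Units.val_one]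

/-- G-PROPER -/
theorem hproper_of_max (hm : 1 ≤ m) (H : Subgroup (GL (Fin m ⊕ Fin m) F)) (hH : IsMaximalIn Sp H) :
    H ⊔ (scalars (Fin m ⊕ Fin m) F ⊓ Sp) ≠ Sp := by
  intro heq
  have hle : Sp ≤ H := by
    apply spGL_le_of_transvections
    intro v c
    by_cases h2 : (2 : F) = 0
    · have hmem : sympTransvGL v c ∈ H ⊔ (scalars (Fin m ⊕ Fin m) F ⊓ Sp) := by
        rw [heq]
        exact sympTransvGL_mem v c
      rw [Subgroup.mem_sup_of_normal_right] at hmem
      obtain ⟨h, hh, z, hz, hhz⟩ := hmem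
      rw [eq_one_of_mem_of_two hm h2 z hz, mul_one] at hhz
      rw [← hhz]
      exact hh
    · have hmem : sympTransvGL v (c / 2) ∈ H ⊔ (scalars (Fin m ⊕ Fin m) F ⊓ Sp) := by
        rw [heq]
        exact sympTransvGL_mem v (c / 2)
      rw [Subgroup.mem_sup_of_normal_right] at hmem
      obtain ⟨h, hh, z, hz, hhz⟩ := hmem
      have hsq : sympTransvGL v c = sympTransvGL v (c / 2) * sympTransvGL v (c / 2) := by
        apply Units.ext
        rw [Units.val_mul]
        change Cfsg.sympTransvection m v c = Cfsg.sympTransvection m v (c / 2) * Cfsg.sympTransvection m v (c / 2)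
        rw [sympTransvection_mul]
        congr 1
        field_simp
        ring
      rw [hsq, ← hhz]
      have : h * z * (h * z) = h * h * (z * z) := by
        rw [mul_assoc h z, ← mul_assoc z h z, scalar_comm z h (Subgroup.mem_inf.1 hz).1]
        group
      rw [this, sq_eq_one_of_mem hm z hz, mul_one]
      exact H.mul_mem hh hh
  exact absurd hle (not_le_of_gt hH.1)

/-- G-EQ -/
theorem eq_of_le_member (H X : Subgroup (GL (Fin m ⊕ Fin m) F)) (hH : IsMaximalIn Sp H) (hHX : H ≤ X)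
    (hX : ¬ Sp ≤ X) : H = X ⊓ Sp := by
  have h1 : H ≤ X ⊓ Sp := le_inf hHX hH.1.le
  rcases hH.2 _ h1 inf_le_right with h | h
  · exact h.symm
  · exact absurd (h ▸ inf_le_left) hX

/-- P1 -/
theorem not_sp_le_subspaceStabilizer (W : Submodule F V) (h0 : W ≠ ⊥) (h1 : W ≠ ⊤) :
    ¬ Sp ≤ subspaceStabilizer W := by
  intro hle
  obtain ⟨w, hwW, hw0⟩ := Submodule.exists_mem_ne_zero_of_ne_bot h0
  obtain ⟨a, -, haW⟩ := SetLike.exists_of_lt (lt_top_iff_ne_top.mpr h1)
  have ha0 : a ≠ 0 := by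
    rintro rfl
    exact haW W.zero_mem
  obtain ⟨g, hg, hgw⟩ := exists_sp_map w a hw0 ha0
  have h2 : w ∈ W ↔ (g : Matrix (Fin m ⊕ Fin m) (Fin m ⊕ Fin m) F) *ᵥ w ∈ W := hle hg w
  rw [hgw] at h2
  exact haW (h2.1 hwW)

/-- P2 -/
theorem not_sp_le_decompositionStabilizer {t k : ℕ} (D : Fin t → Submodule F V) (hD : IsMDecomposition k D) :
    ¬ Sp ≤ decompositionStabilizer D := by
  intro hle
  have ht2 := hD.two_le
  let i₀ : Fin t := ⟨0, by omega⟩
  let i₁ : Fin t := ⟨1, by omega⟩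
  have h01 : i₀ ≠ i₁ := by
    intro h
    have := congrArg Fin.val h
    simp [i₀, i₁] at this
  have hne : ∀ i, D i ≠ ⊥ := by
    intro i h
    have := hD.finrank_eq i
    rw [h, finrank_bot] at this
    have := hD.pos
    omega
  obtain ⟨a, haD, ha0⟩ := Submodule.exists_mem_ne_zero_of_ne_bot (hne i₀)
  obtain ⟨w, hwD, hw0⟩ := Submodule.exists_mem_ne_zero_of_ne_bot (hne i₁)
  have hdisj := hD.indep i₁
  have ha_sup : a ∈ ⨆ (j) (_ : j ≠ i₁), D j :=
    (le_iSup₂ (f := fun j (_ : j ≠ i₁) => D j) i₀ h01) haD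
  have hwa0 : w + a ≠ 0 := by
    intro h
    have hw : w = -a := eq_neg_of_add_eq_zero_left h
    have : w ∈ D i₁ ⊓ ⨆ (j) (_ : j ≠ i₁), D j := ⟨hwD, by rw [hw]; exact Submodule.neg_mem _ ha_sup⟩
    rw [hdisj.eq_bot] at this
    exact hw0 ((Submodule.mem_bot F).mp this)
  obtain ⟨g, hg, hgw⟩ := exists_sp_map w (w + a) hw0 hwa0
  obtain ⟨σ, hσ⟩ := hle hg
  have himg : w + a ∈ D (σ i₁) := by
    rw [← hσ i₁]
    refine ⟨w, hwD, ?_⟩
    rw [Matrix.toLin'_apply, hgw]
  by_cases hj : σ i₁ = i₁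
  · rw [hj] at himg
    have haD1 : a ∈ D i₁ := by
      have : a = (w + a) - w := by abel
      rw [this]
      exact (D i₁).sub_mem himg hwD
    have : a ∈ D i₁ ⊓ ⨆ (j) (_ : j ≠ i₁), D j := ⟨haD1, ha_sup⟩
    rw [hdisj.eq_bot] at this
    exact ha0 ((Submodule.mem_bot F).mp this)
  · have hwa_sup : w + a ∈ ⨆ (j) (_ : j ≠ i₁), D j :=
      (le_iSup₂ (f := fun j (_ : j ≠ i₁) => D j) (σ i₁) hj) himg
    have hw_sup : w ∈ ⨆ (j) (_ : j ≠ i₁), D j := by
      have : w = (w + a) - a := by abel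
      rw [this]
      exact Submodule.sub_mem _ hwa_sup ha_sup
    have : w ∈ D i₁ ⊓ ⨆ (j) (_ : j ≠ i₁), D j := ⟨hwD, hw_sup⟩
    rw [hdisj.eq_bot] at this
    exact hw0 ((Submodule.mem_bot F).mp this)

theorem ne_top_of_totallySingular (hm : 1 ≤ m) (W : Submodule F V) (hW : IsTotallySingularFor ff W) : W ≠ ⊤ := by
  rintro rfl
  have hx : (Pi.single (Sum.inl (⟨0, by omega⟩ : Fin m)) (1 : F) : V) ≠ 0 := by
    intro h
    have := congrFun h (Sum.inl ⟨0, by omega⟩)
    simp at this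
  obtain ⟨y, hy⟩ := exists_form_ne_zero _ hx
  exact hy (hW _ Submodule.mem_top _ Submodule.mem_top)

/-- E-TENS-EVEN -/
theorem even_of_symp {k : ℕ} (f₁ : (Fin k → F) → (Fin k → F) → F) (hf₁ : IsSymplecticForm f₁) : Even k :=
  Cfsg.Agent.Lib.Helper18.S5704BRIDGE.even_of_symplectic hf₁

theorem not_maximal_of_between (H : Subgroup (GL (Fin m ⊕ Fin m) F)) (hH : IsMaximalIn Sp H)
    (h : ∃ K : Subgroup (GL (Fin m ⊕ Fin m) F), H < K ∧ K < Sp) : False := by
  obtain ⟨K, h1, h2⟩ := h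
  rcases hH.2 K h1.le h2.le with h | h
  · exact absurd h (ne_of_gt h1)
  · exact absurd h (ne_of_lt h2)

end Cfsg.Agent.Lib.Helper27.SpCorBasic
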