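import Mathlib
import Cfsg.Prelude.Def_GeometricClasses
import Cfsg.Agent.Lib.Helper7.AschCore
import Cfsg.Agent.Lib.Helper18.HubCorRPOW

/-!
# Sp corollary family, piece E-C6 (index-generic; reusable for the SU / Omega rows)

An absolutely irreducible `r`-group of symplectic type (exponent `r·gcd(2,r)`), `r` different from the characteristic,
lives in dimension a power of `r`: Burnside (helper7) + base change to the algebraic closure + helper18's `HubCorRPOW`.
-/

set_option autoImplicit false
set_option linter.unusedSectionVars false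
set_option linter.unusedVariables false

namespace Cfsg.Agent.Lib.Helper27.SpCorC6

open Matrix Module Cfsg Cfsg.Geo

variable {ι : Type} [Fintype ι] [DecidableEq ι] {F : Type*} [Field F]

/-- the representation on `E^ι` of a matrix group over `F`, for an extension `E` of `F` -/
noncomputable def extRep (E : Type*) [Field E] [Algebra F E] (R : Subgroup (GL ι F)) :
    ↥R →* Module.End E (ι → E) where
  toFun g := Matrix.toLin' ((algebraMap F E).mapMatrix ((g : GL ι F) : Matrix ι ι F))
  map_one' := by
    rw [Subgroup.coe_one, Units.val_one, map_one, Matrix.toLin'_one]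
    rfl
  map_mul' a b := by
    rw [Subgroup.coe_mul, Units.val_mul, map_mul, Matrix.toLin'_mul]
    rfl

theorem extRep_apply (E : Type*) [Field E] [Algebra F E] (R : Subgroup (GL ι F)) (g : ↥R) (w : ι → E) :
    extRep E R g w = ((algebraMap F E).mapMatrix ((g : GL ι F) : Matrix ι ι F)) *ᵥ w := rfl

/-- base change keeps a spanning matrix group irreducible -/
theorem extRep_irr (E : Type*) [Field E] [Algebra F E] (R : Subgroup (GL ι F))
    (hspan : Submodule.span F (matrixSet R) = ⊤) (W : Submodule E (ι → E))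
    (hW : ∀ g, W.map (extRep E R g) ≤ W) : W = ⊥ ∨ W = ⊤ := by
  classical
  let A : Submodule F (Matrix ι ι F) :=
    { carrier := {M | ∀ w ∈ W, ((algebraMap F E).mapMatrix M) *ᵥ w ∈ W}
      add_mem' := by
        intro M N hM hN w hw
        rw [map_add, Matrix.add_mulVec]
        exact W.add_mem (hM w hw) (hN w hw)
      zero_mem' := by
        intro w hw
        rw [map_zero, Matrix.zero_mulVec]
        exact W.zero_mem
      smul_mem' := by
        intro c M hM w hw
        have h1 : (algebraMap F E).mapMatrix (c • M) = (algebraMap F E c) • (algebraMap F E).mapMatrix M := by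
          ext a b
          rw [RingHom.mapMatrix_apply, Matrix.map_apply, Matrix.smul_apply, Matrix.smul_apply, smul_eq_mul, map_mul,
            RingHom.mapMatrix_apply, Matrix.map_apply, smul_eq_mul]
        rw [h1, Matrix.smul_mulVec]
        exact W.smul_mem _ (hM w hw) }
  have hA : A = ⊤ := by
    rw [eq_top_iff, ← hspan, Submodule.span_le]
    rintro _ ⟨g, hg, rfl⟩ w hw
    exact hW ⟨g, hg⟩ (Submodule.mem_map_of_mem hw)
  have hall : ∀ (M : Matrix ι ι F), ∀ w ∈ W, ((algebraMap F E).mapMatrix M) *ᵥ w ∈ W := by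
    intro M
    have : M ∈ A := hA ▸ Submodule.mem_top
    exact this
  by_cases hbot : W = ⊥
  · exact Or.inl hbot
  right
  obtain ⟨w, hw, hw0⟩ := (Submodule.ne_bot_iff W).1 hbot
  obtain ⟨j, hj⟩ : ∃ j, w j ≠ 0 := by
    by_contra hcon
    push Not at hcon
    exact hw0 (funext hcon)
  have hsingle : ∀ i : ι, (Pi.single i 1 : ι → E) ∈ W := by
    intro i
    have h1 := hall (Matrix.of fun a b => if a = i ∧ b = j then (1 : F) else 0) w hw
    have h2 : ((algebraMap F E).mapMatrix (Matrix.of fun a b => if a = i ∧ b = j then (1 : F) else 0)) *ᵥ w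
        = (w j) • (Pi.single i 1 : ι → E) := by
      funext a
      rw [Matrix.mulVec, dotProduct, Pi.smul_apply, Pi.single_apply, smul_eq_mul]
      rw [Finset.sum_eq_single j]
      · by_cases ha : a = i
        · simp [ha]
        · simp [ha]
      · intro b _ hb
        simp [hb]
      · intro h
        exact absurd (Finset.mem_univ j) h
    rw [h2] at h1
    have h3 := W.smul_mem (w j)⁻¹ h1
    rwa [smul_smul, inv_mul_cancel₀ hj, one_smul] at h3
  rw [eq_top_iff]
  intro x _
  have hx : x = ∑ i, x i • (Pi.single i 1 : ι → E) := by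
    funext a
    simp [Finset.sum_apply, Pi.single_apply]
  rw [hx]
  exact W.sum_mem (fun i _ => W.smul_mem _ (hsingle i))

/-- **E-C6, general form**: an absolutely irreducible `r`-group of symplectic type in `GL_ι(F)`, `r ≠ char F`, has
`|ι|` a power of `r` -/
theorem card_eq_pow_of_symplecticType [Finite F] [Nonempty ι] (r : ℕ) (R : Subgroup (GL ι F))
    (hR : IsSymplecticTypeGroup r R) (hirr : ActsAbsolutelyIrreducibly (matrixSet R)) (hr : (r : F) ≠ 0) :
    ∃ k : ℕ, Fintype.card ι = r ^ k := by
  classical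
  have hprime := hR.prime
  have : NeZero (r : F) := ⟨hr⟩
  -- the exponent is a power of `r`
  obtain ⟨j, hj⟩ : ∃ j : ℕ, r * Nat.gcd 2 r = r ^ j := by
    by_cases h2 : r = 2
    · subst h2
      exact ⟨2, rfl⟩
    · refine ⟨1, ?_⟩
      have : Nat.gcd 2 r = 1 := (Nat.coprime_primes Nat.prime_two hprime).2 (Ne.symm h2)
      rw [this, mul_one, pow_one]
  obtain ⟨ζ, hζ⟩ := HasEnoughRootsOfUnity.exists_primitiveRoot (AlgebraicClosure F) (r ^ j)
  have hspan : Submodule.span F (matrixSet R) = ⊤ := by
    apply Cfsg.Agent.Lib.Helper7.Asch.span_eq_top_of_absIrr _ _ _ hirr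
    · exact ⟨1, R.one_mem, rfl⟩
    · rintro _ ⟨a, ha, rfl⟩ _ ⟨b, hb, rfl⟩
      exact ⟨a * b, R.mul_mem ha hb, rfl⟩
  have hexp : ∀ g : ↥R, g ^ (r ^ j) = 1 := by
    intro g
    rw [← hj, ← hR.exponent_eq]
    exact Monoid.pow_exponent_eq_one g
  have : Finite (GL ι F) := inferInstance
  obtain ⟨k, hk⟩ := Cfsg.Agent.Lib.Helper18.HubCorRPOW.exists_finrank_eq_pow hprime j hζ
    (extRep (AlgebraicClosure F) R) hexp (extRep_irr (AlgebraicClosure F) R hspan)
  rw [Module.finrank_fintype_fun_eq_card] at hk
  exact ⟨k, hk⟩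

/-- **E-C6** for the symplectic rows (the exponent `k'` need not be the `k` of `|R| = 2^(1+2k)`) -/
theorem card_eq_pow_of_c6 [Fintype F] {m : ℕ} (R : Subgroup (GL (Fin m ⊕ Fin m) F))
    (hR : IsSymplecticTypeGroup 2 R) (hirr : ActsAbsolutelyIrreducibly (matrixSet R))
    (hodd : Odd (Fintype.card F)) : ∃ k' : ℕ, 2 * m = 2 ^ k' := by
  rcases Nat.eq_zero_or_pos m with hm0 | hm0
  · -- `m = 0`: the exponent of the trivial group is `1 ≠ 4`
    subst hm0
    exfalso
    have h4 := hR.exponent_eq
    have h1 : Monoid.exponent ↥R = 1 := by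
      have : Subsingleton ↥R := by
        constructor
        intro a b
        apply Subtype.ext
        apply Units.ext
        ext i
        rcases i with i | i <;> exact i.elim0
      exact Monoid.exp_eq_one_of_subsingleton
    rw [h1] at h4
    norm_num at h4
  have : Nonempty (Fin m ⊕ Fin m) := ⟨Sum.inl ⟨0, hm0⟩⟩
  have h2 : ((2 : ℕ) : F) ≠ 0 := by
    have hch : ringChar F ≠ 2 := by
      intro h
      have := (FiniteField.even_card_iff_char_two (F := F)).1 h
      rcases hodd with ⟨t, ht⟩
      omega
    exact_mod_cast Ring.two_ne_zero hch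
  obtain ⟨k, hk⟩ := card_eq_pow_of_symplecticType 2 R hR hirr h2
  rw [Fintype.card_sum, Fintype.card_fin] at hk
  exact ⟨k, by omega⟩

end Cfsg.Agent.Lib.Helper27.SpCorC6
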