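import Mathlib
import Cfsg.Prelude.Def_GeometricClasses
import Cfsg.Agent.Lib.Helper27.SpCorBasic
import Cfsg.Agent.Lib.Helper13.AltRank

/-!
# Sp corollary family, piece E-EVEN

A subspace on which the symplectic form is non-degenerate has even dimension.
-/

set_option autoImplicit false
set_option linter.unusedSectionVars false
set_option linter.unusedVariables false

namespace Cfsg.Agent.Lib.Helper27.SpCorEven

open Matrix Module Cfsg Cfsg.Geo
open Cfsg.Agent.Lib.Helper15 (stdSymp stdSymp_apply stdSymp_nondeg stdSymp_alt)

variable {F : Type*} [Field F] {m : ℕ}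

local notation "ff" => Cfsg.sympForm m F
local notation "V" => (Fin m ⊕ Fin m → F)

/-- E-EVEN -/
theorem even_finrank_of_nondeg (W : Submodule F V) (hW : IsNondegenerateOn ff W) : Even (finrank F W) := by
  have h := Cfsg.Agent.Lib.Helper13.even_finrank_sub_radical
    (((stdSymp m F).domRestrict W).compl₂ W.subtype) (fun x => by
      simp only [LinearMap.compl₂_apply, LinearMap.domRestrict_apply, Submodule.subtype_apply]
      exact stdSymp_alt _) ⊥ (by
      intro x
      rw [Submodule.mem_bot]
      constructor
      · rintro rfl y
        exact map_zero _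
      · intro hx
        by_contra hne
        have hne' : (x : V) ≠ 0 := fun h0 => hne (Subtype.ext h0)
        obtain ⟨⟨y, hy, hyx⟩, _⟩ := hW x x.2 hne'
        apply hyx
        have := hx ⟨y, hy⟩
        simpa only [LinearMap.compl₂_apply, LinearMap.domRestrict_apply, Submodule.subtype_apply,
          stdSymp_apply] using this)
  rwa [finrank_bot, Nat.sub_zero] at h

end Cfsg.Agent.Lib.Helper27.SpCorEven
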