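import Mathlib
import Cfsg.Prelude.Def_GeometricClasses
import Cfsg.Agent.Lib.Helper27.SpCorBasic
import Cfsg.Agent.Lib.Helper29.S5814AFLD

/-!
# Sp corollary family, piece E-FIELD

A self-adjoint field subalgebra `K` of degree `r` with `f(k v, v) = 0` for the symplectic form of `F^{2m}` has
`r ∣ m`: a maximal `K`-invariant totally isotropic subspace is its own perpendicular, hence of dimension `m`.
-/

set_option autoImplicit false
set_option linter.unusedSectionVars false
set_option linter.unusedVariables false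

namespace Cfsg.Agent.Lib.Helper27.SpCorField

open Matrix Module Cfsg Cfsg.Geo
open Cfsg.Agent.Lib.Helper6 (sympForm_add_left sympForm_add_right sympForm_smul_left sympForm_smul_right sympForm_self
  sympForm_swap sympForm_sub_right sympForm_sub_left sympForm_zero_left sympForm_zero_right)
open Cfsg.Agent.Lib.Helper15 (stdSymp stdSymp_apply stdSymp_nondeg stdSymp_alt)

variable {F : Type*} [Field F] {m : ℕ}

local notation "ff" => Cfsg.sympForm m F
local notation "V" => (Fin m ⊕ Fin m → F)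

/-- the subspace `K v` -/
def orbitSpan (K : Subalgebra F (Matrix (Fin m ⊕ Fin m) (Fin m ⊕ Fin m) F)) (v : V) : Submodule F V where
  carrier := {w | ∃ k ∈ K, w = k *ᵥ v}
  add_mem' := by
    rintro _ _ ⟨k, hk, rfl⟩ ⟨k', hk', rfl⟩
    exact ⟨k + k', K.add_mem hk hk', by rw [Matrix.add_mulVec]⟩
  zero_mem' := ⟨0, K.zero_mem, (Matrix.zero_mulVec _).symm⟩
  smul_mem' := by
    rintro c _ ⟨k, hk, rfl⟩
    exact ⟨c • k, K.smul_mem hk c, by rw [Matrix.smul_mulVec]⟩

theorem mem_orbitSpan (K : Subalgebra F (Matrix (Fin m ⊕ Fin m) (Fin m ⊕ Fin m) F)) (v w : V) :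
    w ∈ orbitSpan K v ↔ ∃ k ∈ K, w = k *ᵥ v := Iff.rfl

theorem self_mem_orbitSpan (K : Subalgebra F (Matrix (Fin m ⊕ Fin m) (Fin m ⊕ Fin m) F)) (v : V) :
    v ∈ orbitSpan K v := ⟨1, K.one_mem, (Matrix.one_mulVec v).symm⟩

/-- a `K`-invariant totally isotropic subspace which is its own perpendicular -/
theorem exists_invariant_lagrangian (K : Subalgebra F (Matrix (Fin m ⊕ Fin m) (Fin m ⊕ Fin m) F))
    (hsa : IsSelfAdjointFor ff K) (halt : ∀ k ∈ K, ∀ v, ff (k *ᵥ v) v = 0) :
    ∃ U : Submodule F V, (∀ k ∈ K, ∀ v ∈ U, k *ᵥ v ∈ U) ∧ (∀ u ∈ U, ∀ v ∈ U, ff u v = 0) ∧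
      ∀ v : V, (∀ u ∈ U, ff u v = 0) → v ∈ U := by
  classical
  let S : Set (Submodule F V) := {U | (∀ k ∈ K, ∀ v ∈ U, k *ᵥ v ∈ U) ∧ (∀ u ∈ U, ∀ v ∈ U, ff u v = 0)}
  have hne : S.Nonempty := by
    refine ⟨⊥, ?_, ?_⟩
    · intro k _ v hv
      rw [Submodule.mem_bot] at hv ⊢
      rw [hv, Matrix.mulVec_zero]
    · intro u hu v _
      rw [Submodule.mem_bot] at hu
      rw [hu, sympForm_zero_left]
  obtain ⟨U, hUS, hmax⟩ := (wellFounded_gt (α := Submodule F V)).has_min S hne
  refine ⟨U, hUS.1, hUS.2, ?_⟩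
  intro v hv
  by_contra hvU
  -- the bigger subspace
  have hS' : U ⊔ orbitSpan K v ∈ S := by
    constructor
    · intro k hk x hx
      obtain ⟨u, hu, w, ⟨k', hk', rfl⟩, rfl⟩ := Submodule.mem_sup.1 hx
      rw [Matrix.mulVec_add]
      refine Submodule.add_mem _ (Submodule.mem_sup_left (hUS.1 k hk u hu)) (Submodule.mem_sup_right ?_)
      exact ⟨k * k', K.mul_mem hk hk', by rw [Matrix.mulVec_mulVec]⟩
    · intro x hx y hy
      obtain ⟨u, hu, w, ⟨k, hk, rfl⟩, rfl⟩ := Submodule.mem_sup.1 hx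
      obtain ⟨u', hu', w', ⟨k', hk', rfl⟩, rfl⟩ := Submodule.mem_sup.1 hy
      rw [sympForm_add_left, sympForm_add_right, sympForm_add_right, hUS.2 u hu u' hu', zero_add]
      have h1 : ff u (k' *ᵥ v) = 0 := by
        rw [← hsa k' hk' u v]
        exact hv _ (hUS.1 k' hk' u hu)
      have h2 : ff (k *ᵥ v) u' = 0 := by
        rw [hsa k hk v u', sympForm_swap]
        rw [hv _ (hUS.1 k hk u' hu'), neg_zero]
      have h3 : ff (k *ᵥ v) (k' *ᵥ v) = 0 := by
        rw [← hsa k' hk' (k *ᵥ v) v, Matrix.mulVec_mulVec]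
        exact halt _ (K.mul_mem hk' hk) v
      rw [h1, h2, h3, add_zero, add_zero]
  apply hmax _ hS'
  refine lt_of_le_of_ne le_sup_left ?_
  intro heq
  apply hvU
  rw [heq]
  exact Submodule.mem_sup_right (self_mem_orbitSpan K v)

/-- E-FIELD: a self-adjoint field with `f(kv,v) = 0` of degree `r` needs `r ∣ m` -/
theorem dvd_of_selfAdjoint_field (r : ℕ) (K : Subalgebra F (Matrix (Fin m ⊕ Fin m) (Fin m ⊕ Fin m) F))
    (hK : IsFieldSubalgebra r K) (hsa : IsSelfAdjointFor ff K) (halt : ∀ k ∈ K, ∀ v, ff (k *ᵥ v) v = 0) :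
    r ∣ m := by
  classical
  rcases Nat.eq_zero_or_pos m with hm0 | hm0
  · subst hm0
    exact dvd_zero r
  have : Nonempty (Fin m ⊕ Fin m) := ⟨Sum.inl ⟨0, hm0⟩⟩
  obtain ⟨U, hinv, hti, hperp⟩ := exists_invariant_lagrangian K hsa halt
  have hdvd := Cfsg.Agent.Lib.Helper29.S5814.dvd_finrank_of_invariant r K hK U hinv
  have horth : LinearMap.BilinForm.orthogonal (stdSymp m F) U = U := by
    ext v
    rw [LinearMap.BilinForm.mem_orthogonal_iff]
    constructor
    · intro h
      exact hperp v (fun u hu => by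
        have := h u hu
        rwa [stdSymp_apply] at this)
    · intro hv u hu
      rw [stdSymp_apply]
      exact hti u hu v hv
  have hker : LinearMap.ker (stdSymp m F) = ⊥ := by
    rw [LinearMap.ker_eq_bot']
    intro x hx
    exact stdSymp_nondeg x (fun y => by rw [hx]; rfl)
  have hfin := LinearMap.BilinForm.finrank_add_finrank_orthogonal' (B := stdSymp m F) U
  rw [horth, hker, inf_bot_eq, finrank_bot, add_zero, Module.finrank_fintype_fun_eq_card, Fintype.card_sum,
    Fintype.card_fin] at hfin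
  have : finrank F U = m := by omega
  rwa [this] at hdvd

end Cfsg.Agent.Lib.Helper27.SpCorField
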