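import Mathlib
import Cfsg.Prelude.Def_GeometricClasses
import Cfsg.Agent.Lib.Helper13.SpDecomp
import Cfsg.Agent.Lib.Helper13.SpMax
import Cfsg.Agent.Lib.Helper9.HubCorA1
import Cfsg.Agent.Lib.Helper27.SpCorBasic
import Cfsg.Agent.Lib.Helper27.SpCorTens3
import Cfsg.Agent.Lib.Helper27.SpCorEven
import Cfsg.Agent.Lib.Helper27.SpCorField
import Cfsg.Agent.Lib.Helper27.SpCorC6
import Cfsg.Agent.H5.SpCorB
import Cfsg.Agent.H5.SpCorC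
import Cfsg.Agent.Lib.Helper1.SpCorB4
import Cfsg.Agent.Lib.Helper1.SpCorB8

/-!
# Corollaries of the symplectic hub S5662: the wiring (helper27)

`Hub m F` = the conclusion of the frozen S5662 at `m`, `F`.  A maximal subgroup of `Sp_2m(F)` is itself a member of the
symplectic class or of the residual class (`member_of_max_aux`, `member_of_max_arith`); `cases10`, `cases12`, `cases6`
are the verbatim conclusions of the rows S5844, S5868, S5805.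

Pieces: generic facts and P1, P2 (helper27, `SpCorBasic`), P3 (helper5, `H5.SpCorC`), P4 (helper5, `H5.SpCorB`),
P5 (helper1, `SpCorB4`), P8 (helper1, `SpCorB8`), E-EVEN / E-FIELD / E-TENS3 / E-C6 (helper27).
-/

set_option autoImplicit false
set_option linter.unusedSectionVars false
set_option linter.unusedVariables false

namespace Cfsg.Agent.Lib.Helper27.SpCorMain

open Matrix Module Cfsg Cfsg.Geo
open Cfsg.Agent.Lib.Helper27.SpCorBasic (eq_of_le_member not_sp_le_subspaceStabilizer not_sp_le_decompositionStabilizer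
  even_of_symp not_maximal_of_between)

variable {F : Type*} [Field F] [Fintype F] {m : ℕ}

local notation "ff" => Cfsg.sympForm m F
local notation "Sp" => Cfsg.spGL m F
local notation "V" => (Fin m ⊕ Fin m → F)

/-- the conclusion of the frozen hub S5662 at `m`, `F` -/
def Hub (m : ℕ) (F : Type*) [Field F] [Fintype F] : Prop :=
  ∀ H : Subgroup (GL (Fin m ⊕ Fin m) F), H ≤ Cfsg.spGL m F →
    H ⊔ (scalars (Fin m ⊕ Fin m) F ⊓ Cfsg.spGL m F) ≠ Cfsg.spGL m F →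
    (∃ M : Subgroup (GL (Fin m ⊕ Fin m) F), InSymplecticClass m F M ∧ H ≤ M) ∨ InSymplecticResidualClass H

/-! ## the pieces (citations) -/

/-- G-PROPER -/
theorem hproper_of_max (hm : 1 ≤ m) (H : Subgroup (GL (Fin m ⊕ Fin m) F)) (hH : IsMaximalIn Sp H) :
    H ⊔ (scalars (Fin m ⊕ Fin m) F ⊓ Sp) ≠ Sp :=
  Cfsg.Agent.Lib.Helper27.SpCorBasic.hproper_of_max hm H hH

theorem ne_top_of_totallySingular (hm : 1 ≤ m) (W : Submodule F V) (hW : IsTotallySingularFor ff W) : W ≠ ⊤ :=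
  Cfsg.Agent.Lib.Helper27.SpCorBasic.ne_top_of_totallySingular hm W hW

/-- P3 (helper5) -/
theorem not_sp_le_subfieldSubgroup (hm : 1 ≤ m) (F₀ : Subfield F) (r : ℕ) (P : GL (Fin m ⊕ Fin m) F) (ζ : F) (hr : r.Prime)
    (hcard : Fintype.card F = Nat.card F₀ ^ r) (hζ : ζ ≠ 0) (hP : IsFormRationalStructure ff F₀ ζ P) :
    ¬ Sp ≤ subfieldSubgroup F₀ P :=
  Cfsg.H5.SpCor.not_sp_le_subfieldSubgroup_of_card hm F₀ r P ζ hr hcard hζ hP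

/-- P4 (helper5) -/
theorem not_sp_le_subalgebraNormalizer (hm : 2 ≤ m) (r : ℕ) (hr : r.Prime)
    (K : Subalgebra F (Matrix (Fin m ⊕ Fin m) (Fin m ⊕ Fin m) F)) (hK : IsFieldSubalgebra r K) :
    ¬ Sp ≤ subalgebraNormalizer K :=
  Cfsg.H5.SpCor.not_sp_le_subalgebraNormalizer hm hr K hK

/-- P5 (helper1) -/
theorem not_sp_le_tensorProductSubgroup (hm : 1 ≤ m) (n₁ n₂ : ℕ) (h1 : 2 ≤ n₁) (h2 : 2 ≤ n₂)
    (e : (Fin m ⊕ Fin m) ≃ Fin n₁ × Fin n₂) (P : GL (Fin m ⊕ Fin m) F) :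
    ¬ Sp ≤ tensorProductSubgroup n₁ n₂ e P :=
  Cfsg.Agent.Lib.Helper1.SpCorB4.not_sp_le_tensorProductSubgroup hm h1 h2 e P

/-- P8 (helper1) -/
theorem not_sp_le_quadSimilarityGroup (hm : 2 ≤ m) (Q : V → F) (hQ : IsNondegenerateQuadraticForm Q)
    (hpol : ∀ u v, QuadraticMap.polar Q u v = ff u v) : ¬ Sp ≤ quadSimilarityGroup Q :=
  Cfsg.Agent.Lib.Helper1.SpCorB8.not_sp_le_quadSimilarityGroup hm Q hQ hpol

/-- E-EVEN -/
theorem even_finrank_of_nondeg (W : Submodule F V) (hW : IsNondegenerateOn ff W) : Even (finrank F W) :=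
  Cfsg.Agent.Lib.Helper27.SpCorEven.even_finrank_of_nondeg W hW

/-- E-FIELD: a self-adjoint field with `f(kv,v) = 0` of degree `r` needs `r ∣ m` -/
theorem dvd_of_selfAdjoint_field (r : ℕ) (K : Subalgebra F (Matrix (Fin m ⊕ Fin m) (Fin m ⊕ Fin m) F))
    (hK : IsFieldSubalgebra r K) (hsa : IsSelfAdjointFor ff K) (halt : ∀ k ∈ K, ∀ v, ff (k *ᵥ v) v = 0) :
    r ∣ m :=
  Cfsg.Agent.Lib.Helper27.SpCorField.dvd_of_selfAdjoint_field r K hK hsa halt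

/-- E-TENS3: `Sp_{n₁}(3) ⊗ O_3(3)` is not maximal (the proof of S5667 without `7 ≤ m`) -/
theorem tensor_three_not_maximal (hm : 1 ≤ m) (hq : Fintype.card F = 3) (n₁ : ℕ)
    (e : (Fin m ⊕ Fin m) ≃ Fin n₁ × Fin 3) (P : GL (Fin m ⊕ Fin m) F)
    (f₁ : (Fin n₁ → F) → (Fin n₁ → F) → F) (f₂ : (Fin 3 → F) → (Fin 3 → F) → F)
    (hf₁ : IsSymplecticForm f₁) (hf₂ : IsSymmetricForm f₂)
    (hT : IsTensorFormStructure id ff f₁ f₂ e P) :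
    ∃ K : Subgroup (GL (Fin m ⊕ Fin m) F), tensorProductSubgroup n₁ 3 e P ⊓ Sp < K ∧ K < Sp :=
  Cfsg.Agent.Lib.Helper27.SpCorTens3.tensor_three_not_maximal hm hq n₁ e P f₁ f₂ hf₁ hf₂ hT

/-- E-C6: the degree of an absolutely irreducible `2`-group of symplectic type is a power of `2` -/
theorem card_eq_pow_of_c6 (R : Subgroup (GL (Fin m ⊕ Fin m) F))
    (hR : IsSymplecticTypeGroup 2 R) (hirr : ActsAbsolutelyIrreducibly (matrixSet R))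
    (hodd : Odd (Fintype.card F)) : ∃ k' : ℕ, 2 * m = 2 ^ k' :=
  Cfsg.Agent.Lib.Helper27.SpCorC6.card_eq_pow_of_c6 R hR hirr hodd

/-! ## the generic step -/

/-- (assembly, generic in the two properness facts for the classes 6 and 7) -/
theorem member_of_max_aux (hm : 2 ≤ m) (hub : Hub m F) (H : Subgroup (GL (Fin m ⊕ Fin m) F)) (hH : IsMaximalIn Sp H)
    (hP6 : ∀ (R : Subgroup (GL (Fin m ⊕ Fin m) F)) (k : ℕ), IsSymplecticTypeGroup 2 R →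
      ActsAbsolutelyIrreducibly (matrixSet R) → Odd (Fintype.card F) → Nat.card R = 2 ^ (1 + 2 * k) →
      Nat.card (Subgroup.center R) = 2 → ¬ Sp ≤ subgroupNormalizer R)
    (hP7 : ∀ (k t : ℕ) (e : (Fin m ⊕ Fin m) ≃ (Fin t → Fin k)) (P : GL (Fin m ⊕ Fin m) F), 2 ≤ k → 3 ≤ t →
      ¬ Sp ≤ tensorWreathSubgroup k t e P) :
    InSymplecticClass m F H ∨ InSymplecticResidualClass H := by
  rcases hub H hH.1.le (hproper_of_max (by omega) H hH) with ⟨M, hM, hle⟩ | hres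
  swap
  · exact Or.inr hres
  left
  have key : ∀ X : Subgroup (GL (Fin m ⊕ Fin m) F), M = X ⊓ Sp → ¬ Sp ≤ X → H = X ⊓ Sp := by
    intro X hMX hX
    exact eq_of_le_member H X hH (hMX ▸ hle |>.trans inf_le_left) hX
  rcases hM with (⟨W, h0, hW, hMe⟩ | ⟨W, h0, hW, hlt, hMe⟩ | ⟨t, k, D, hD, hMe⟩ | ⟨D, hodd, hD, hts, hMe⟩ |
      ⟨F₀, r, P, ζ, hr, hcard, hζ, hP, hMe⟩ | ⟨R, p, k, hR, hirr, hsim, hp, hpo, hFp, hRc, hcen, hmin, hMe⟩ |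
      ⟨Q, heven, hQ, hpol, hMe⟩) | ⟨r, K, hr, hK, hsa, halt, hMe⟩ | ⟨K, hodd, hK, hac, hnsa, hMe⟩ |
      ⟨n₁, n₂, e, P, f₁, f₂, hodd, hn₂, hf₁, hf₂, hT, hMe⟩ | ⟨k, t, e, P, f₁, hodd, hto, ht, hex, hf₁, hT, hMe⟩
  · exact Or.inl (Or.inl ⟨W, h0, hW, key _ hMe
      (not_sp_le_subspaceStabilizer W h0 (ne_top_of_totallySingular (by omega) W hW))⟩)
  · refine Or.inl (Or.inr (Or.inl ⟨W, h0, hW, hlt, key _ hMe (not_sp_le_subspaceStabilizer W h0 ?_)⟩))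
    rintro rfl
    rw [finrank_top, Module.finrank_fintype_fun_eq_card, Fintype.card_sum, Fintype.card_fin] at hlt
    omega
  · exact Or.inl (Or.inr (Or.inr (Or.inl ⟨t, k, D, hD, key _ hMe
      (not_sp_le_decompositionStabilizer D hD.decomp)⟩)))
  · exact Or.inl (Or.inr (Or.inr (Or.inr (Or.inl ⟨D, hodd, hD, hts, key _ hMe
      (not_sp_le_decompositionStabilizer D hD)⟩))))
  · exact Or.inl (Or.inr (Or.inr (Or.inr (Or.inr (Or.inl ⟨F₀, r, P, ζ, hr, hcard, hζ, hP, key _ hMe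
      (not_sp_le_subfieldSubgroup (by omega) F₀ r P ζ hr hcard hζ hP)⟩)))))
  · have hoddF : Odd (Fintype.card F) := by rw [hFp]; exact hpo
    exact Or.inl (Or.inr (Or.inr (Or.inr (Or.inr (Or.inr (Or.inl ⟨R, p, k, hR, hirr, hsim, hp, hpo, hFp, hRc, hcen,
      hmin, key _ hMe (hP6 R k hR hirr hoddF hRc hcen)⟩))))))
  · exact Or.inl (Or.inr (Or.inr (Or.inr (Or.inr (Or.inr (Or.inr ⟨Q, heven, hQ, hpol, key _ hMe
      (not_sp_le_quadSimilarityGroup hm Q hQ hpol)⟩))))))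
  · exact Or.inr (Or.inl ⟨r, K, hr, hK, hsa, halt, key _ hMe
      (not_sp_le_subalgebraNormalizer hm r hr K hK)⟩)
  · exact Or.inr (Or.inr (Or.inl ⟨K, hodd, hK, hac, hnsa, key _ hMe
      (not_sp_le_subalgebraNormalizer hm 2 Nat.prime_two K hK)⟩))
  · have hn₁ : 2 ≤ n₁ := by
      obtain ⟨j, hj⟩ := even_of_symp f₁ hf₁
      have hc := Fintype.card_congr e
      rw [Fintype.card_sum, Fintype.card_fin, Fintype.card_prod, Fintype.card_fin, Fintype.card_fin] at hc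
      rcases Nat.eq_zero_or_pos j with h | h
      · subst h
        simp at hj
        subst hj
        simp at hc
        omega
      · omega
    exact Or.inr (Or.inr (Or.inr (Or.inl ⟨n₁, n₂, e, P, f₁, f₂, hodd, hn₂, hf₁, hf₂, hT, key _ hMe
      (not_sp_le_tensorProductSubgroup (by omega) n₁ n₂ hn₁ (by omega) e P)⟩)))
  · have hk : 2 ≤ k := by
      obtain ⟨j, hj⟩ := even_of_symp f₁ hf₁
      have hc := Fintype.card_congr e
      rw [Fintype.card_sum, Fintype.card_fin, Fintype.card_fun, Fintype.card_fin, Fintype.card_fin] at hc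
      rcases Nat.eq_zero_or_pos j with h | h
      · subst h
        simp at hj
        subst hj
        rw [zero_pow (by omega)] at hc
        omega
      · omega
    exact Or.inr (Or.inr (Or.inr (Or.inr ⟨k, t, e, P, f₁, hodd, hto, ht, hex, hf₁, hT, key _ hMe
      (hP7 k t e P hk ht)⟩)))

/-- (assembly) the same when `2 m` is neither a power of two nor a proper power `k ^ t`, `t ≥ 3`:
no use of P6 / P7 -/
theorem member_of_max_arith (hm : 2 ≤ m) (h6 : ∀ k : ℕ, 2 ^ k ≠ 2 * m) (h7 : ∀ k t : ℕ, 3 ≤ t → k ^ t ≠ 2 * m)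
    (hub : Hub m F) (H : Subgroup (GL (Fin m ⊕ Fin m) F)) (hH : IsMaximalIn Sp H) :
    InSymplecticClass m F H ∨ InSymplecticResidualClass H :=
  member_of_max_aux hm hub H hH
    (fun R k hR hirr hodd hRc hcen => by
      obtain ⟨k', hk'⟩ := card_eq_pow_of_c6 R hR hirr hodd
      exact absurd hk'.symm (h6 k'))
    (fun k t e P hk ht => by
      exfalso
      have hc := Fintype.card_congr e
      rw [Fintype.card_sum, Fintype.card_fin, Fintype.card_fun, Fintype.card_fin, Fintype.card_fin] at hc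
      exact h7 k t ht (by omega))

/-! ## arithmetic helpers -/

theorem pow_two_ne (n : ℕ) (hn : ∀ k < 5, 2 ^ k ≠ n) (hlt : n < 32) (k : ℕ) : 2 ^ k ≠ n := by
  intro h
  rcases Nat.lt_or_ge k 5 with hk | hk
  · exact hn k hk h
  · have : 2 ^ 5 ≤ 2 ^ k := Nat.pow_le_pow_right (by norm_num) hk
    omega

theorem pow_ne_of_three_le (n : ℕ) (hn : n < 16) (hn8 : n ≠ 8) (hn0 : 2 ≤ n) (k t : ℕ) (ht : 3 ≤ t) : k ^ t ≠ n := by
  intro h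
  rcases Nat.lt_or_ge k 2 with hk | hk
  · interval_cases k
    · rw [zero_pow (by omega)] at h
      omega
    · rw [one_pow] at h
      omega
  · rcases Nat.lt_or_ge k 3 with hk3 | hk3
    · have hk2 : k = 2 := by omega
      subst hk2
      rcases Nat.lt_or_ge t 4 with ht4 | ht4
      · have : t = 3 := by omega
        subst this
        omega
      · have : 2 ^ 4 ≤ 2 ^ t := Nat.pow_le_pow_right (by norm_num) ht4
        omega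
    · have h1 : 3 ^ 3 ≤ k ^ 3 := Nat.pow_le_pow_left hk3 3
      have h2 : k ^ 3 ≤ k ^ t := Nat.pow_le_pow_right (by omega) ht
      omega

theorem card_eq_two_of_lt_three (h : ¬ 3 ≤ Fintype.card F) : Fintype.card F = 2 := by
  have := Fintype.one_lt_card (α := F)
  omega

theorem card_eq_three_of_odd_lt_five (hodd : Odd (Fintype.card F)) (h : ¬ 5 ≤ Fintype.card F) :
    Fintype.card F = 3 := by
  have := Fintype.one_lt_card (α := F)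
  obtain ⟨j, hj⟩ := hodd
  omega

/-- the decomposition arithmetic: `t * k = 2 m`, `k` even -/
theorem dec_arith {t k : ℕ} (D : Fin t → Submodule F V) (hD : IsNondegenerateMDecomposition ff k D) :
    t * k = 2 * m ∧ Even k ∧ 2 ≤ t := by
  refine ⟨?_, ?_, hD.decomp.two_le⟩
  · have := Cfsg.Agent.Lib.Helper9.HubCor.mul_eq_card_of_isMDecomposition D hD.decomp
    rw [this, Fintype.card_sum, Fintype.card_fin]
    ring
  · have h2 := hD.decomp.two_le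
    have := even_finrank_of_nondeg (D ⟨0, by omega⟩) (hD.nondegenerate ⟨0, by omega⟩)
    rwa [hD.decomp.finrank_eq] at this

/-- the tensor arithmetic: `n₁ * n₂ = 2 m`, `n₁` even -/
theorem tens_arith {n₁ n₂ : ℕ} (e : (Fin m ⊕ Fin m) ≃ Fin n₁ × Fin n₂) (f₁ : (Fin n₁ → F) → (Fin n₁ → F) → F)
    (hf₁ : IsSymplecticForm f₁) : n₁ * n₂ = 2 * m ∧ Even n₁ := by
  refine ⟨?_, even_of_symp f₁ hf₁⟩
  have hc := Fintype.card_congr e
  rw [Fintype.card_sum, Fintype.card_fin, Fintype.card_prod, Fintype.card_fin, Fintype.card_fin] at hc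
  omega

/-! ## the rows -/

/-- S5844 (`Sp_10`) from the hub -/
theorem cases10 (hub : Hub 5 F) (H : Subgroup (Matrix.GeneralLinearGroup (Fin 5 ⊕ Fin 5) F))
    (hH : Cfsg.Geo.IsMaximalIn (Cfsg.spGL 5 F) H) :

    (∃ W : Submodule F (Fin 5 ⊕ Fin 5 → F), W ≠ ⊥ ∧ Cfsg.Geo.IsTotallySingularFor (Cfsg.sympForm 5 F) W ∧ H = Cfsg.Geo.subspaceStabilizer W ⊓ Cfsg.spGL 5 F) ∨
    (∃ W : Submodule F (Fin 5 ⊕ Fin 5 → F), W ≠ ⊥ ∧ Cfsg.Geo.IsNondegenerateOn (Cfsg.sympForm 5 F) W ∧ Module.finrank F W < 5 ∧ H = Cfsg.Geo.subspaceStabilizer W ⊓ Cfsg.spGL 5 F) ∨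
    (3 ≤ Fintype.card F ∧ ∃ D : Fin 5 → Submodule F (Fin 5 ⊕ Fin 5 → F), Cfsg.Geo.IsNondegenerateMDecomposition (Cfsg.sympForm 5 F) 2 D ∧ H = Cfsg.Geo.decompositionStabilizer D ⊓ Cfsg.spGL 5 F) ∨
    (Odd (Fintype.card F) ∧ ∃ D : Fin 2 → Submodule F (Fin 5 ⊕ Fin 5 → F), Cfsg.Geo.IsMDecomposition 5 D ∧ (∀ i, Cfsg.Geo.IsTotallySingularFor (Cfsg.sympForm 5 F) (D i)) ∧ H = Cfsg.Geo.decompositionStabilizer D ⊓ Cfsg.spGL 5 F) ∨
    (∃ K : Subalgebra F (Matrix (Fin 5 ⊕ Fin 5) (Fin 5 ⊕ Fin 5) F), Cfsg.Geo.IsFieldSubalgebra 5 K ∧ Cfsg.Geo.IsSelfAdjointFor (Cfsg.sympForm 5 F) K ∧ (∀ k ∈ K, ∀ v : (Fin 5 ⊕ Fin 5 → F), (Cfsg.sympForm 5 F) (Matrix.mulVec k v) v = 0) ∧ H = Cfsg.Geo.subalgebraNormalizer K ⊓ Cfsg.spGL 5 F) ∨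
    (Odd (Fintype.card F) ∧ ∃ K : Subalgebra F (Matrix (Fin 5 ⊕ Fin 5) (Fin 5 ⊕ Fin 5) F), Cfsg.Geo.IsFieldSubalgebra 2 K ∧ Cfsg.Geo.IsAdjointClosedFor (Cfsg.sympForm 5 F) K ∧ ¬ Cfsg.Geo.IsSelfAdjointFor (Cfsg.sympForm 5 F) K ∧ H = Cfsg.Geo.subalgebraNormalizer K ⊓ Cfsg.spGL 5 F) ∨
    (Odd (Fintype.card F) ∧ ∃ (e : (Fin 5 ⊕ Fin 5) ≃ Fin 2 × Fin 5) (P : Matrix.GeneralLinearGroup (Fin 5 ⊕ Fin 5) F) (f₁ : (Fin 2 → F) → (Fin 2 → F) → F) (f₂ : (Fin 5 → F) → (Fin 5 → F) → F), Cfsg.Geo.IsSymplecticForm f₁ ∧ Cfsg.Geo.IsSymmetricForm f₂ ∧ Cfsg.Geo.IsTensorFormStructure id (Cfsg.sympForm 5 F) f₁ f₂ e P ∧ H = Cfsg.Geo.tensorProductSubgroup 2 5 e P ⊓ Cfsg.spGL 5 F) ∨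
    (∃ (F₀ : Subfield F) (r : ℕ) (P : Matrix.GeneralLinearGroup (Fin 5 ⊕ Fin 5) F) (ζ : F), r.Prime ∧ Fintype.card F = Nat.card F₀ ^ r ∧ ζ ≠ 0 ∧ Cfsg.Geo.IsFormRationalStructure (Cfsg.sympForm 5 F) F₀ ζ P ∧ H = Cfsg.Geo.subfieldSubgroup F₀ P ⊓ Cfsg.spGL 5 F) ∨
    (¬ Odd (Fintype.card F) ∧ ∃ Q : (Fin 5 ⊕ Fin 5 → F) → F, Cfsg.Geo.IsNondegenerateQuadraticForm Q ∧ (∀ u v : (Fin 5 ⊕ Fin 5 → F), QuadraticMap.polar Q u v = (Cfsg.sympForm 5 F) u v) ∧ H = Cfsg.Geo.quadSimilarityGroup Q ⊓ Cfsg.spGL 5 F) ∨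
    Cfsg.Geo.InSymplecticResidualClass H := by
  rcases member_of_max_arith (by norm_num) (pow_two_ne 10 (by decide) (by norm_num))
      (pow_ne_of_three_le 10 (by norm_num) (by norm_num) (by norm_num)) hub H hH with hM | hres
  swap
  · exact Or.inr (Or.inr (Or.inr (Or.inr (Or.inr (Or.inr (Or.inr (Or.inr (Or.inr hres))))))))
  rcases hM with (⟨W, h0, hW, hMe⟩ | ⟨W, h0, hW, hlt, hMe⟩ | ⟨t, k, D, hD, hMe⟩ | ⟨D, hodd, hD, hts, hMe⟩ |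
      ⟨F₀, r, P, ζ, hr, hcard, hζ, hP, hMe⟩ | ⟨R, p, k, hR, hirr, hsim, hp, hpo, hFp, hRc, hcen, hmin, hMe⟩ |
      ⟨Q, heven, hQ, hpol, hMe⟩) | ⟨r, K, hr, hK, hsa, halt, hMe⟩ | ⟨K, hodd, hK, hac, hnsa, hMe⟩ |
      ⟨n₁, n₂, e, P, f₁, f₂, hodd, hn₂, hf₁, hf₂, hT, hMe⟩ | ⟨k, t, e, P, f₁, hodd, hto, ht, hex, hf₁, hT, hMe⟩
  · exact Or.inl ⟨W, h0, hW, hMe⟩
  · exact Or.inr (Or.inl ⟨W, h0, hW, hlt, hMe⟩)
  · -- decompositions: `(k,t) = (2,5)`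
    obtain ⟨h1, ⟨j, hj⟩, h2⟩ := dec_arith D hD
    have hk : k = 2 := by
      have hj5 : j ∣ 5 := ⟨t, by nlinarith⟩
      rcases (Nat.dvd_prime (by norm_num : Nat.Prime 5)).1 hj5 with h | h
      · omega
      · subst h
        have : t = 1 := by nlinarith
        omega
    subst hk
    have ht : t = 5 := by omega
    subst ht
    by_cases hq : 3 ≤ Fintype.card F
    · exact Or.inr (Or.inr (Or.inl ⟨hq, D, hD, hMe⟩))
    · exfalso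
      have hq2 := card_eq_two_of_lt_three hq
      exact not_maximal_of_between H hH (hMe ▸ Cfsg.Agent.Lib.Helper13.sp_decomp_not_maximal (by norm_num) hq2 D hD)
  · exact Or.inr (Or.inr (Or.inr (Or.inl ⟨hodd, D, hD, hts, hMe⟩)))
  · exact Or.inr (Or.inr (Or.inr (Or.inr (Or.inr (Or.inr (Or.inr (Or.inl ⟨F₀, r, P, ζ, hr, hcard, hζ, hP, hMe⟩)))))))
  · exfalso
    have hoddF : Odd (Fintype.card F) := by rw [hFp]; exact hpo
    obtain ⟨k', hk'⟩ := card_eq_pow_of_c6 R hR hirr hoddF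
    exact pow_two_ne 10 (by decide) (by norm_num) k' hk'.symm
  · exact Or.inr (Or.inr (Or.inr (Or.inr (Or.inr (Or.inr (Or.inr (Or.inr (Or.inl ⟨heven, Q, hQ, hpol, hMe⟩))))))))
  · -- self-adjoint field: `r ∣ 5`
    have hr5 : r = 5 := (Nat.prime_dvd_prime_iff_eq hr (by norm_num)).1 (dvd_of_selfAdjoint_field r K hK hsa halt)
    subst hr5
    exact Or.inr (Or.inr (Or.inr (Or.inr (Or.inl ⟨K, hK, hsa, halt, hMe⟩))))
  · exact Or.inr (Or.inr (Or.inr (Or.inr (Or.inr (Or.inl ⟨hodd, K, hK, hac, hnsa, hMe⟩)))))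
  · -- tensor: `(n₁,n₂) = (2,5)`
    obtain ⟨h1, ⟨j, hj⟩⟩ := tens_arith e f₁ hf₁
    have hn1 : n₁ = 2 := by
      have hj5 : j ∣ 5 := ⟨n₂, by nlinarith⟩
      rcases (Nat.dvd_prime (by norm_num : Nat.Prime 5)).1 hj5 with h | h
      · omega
      · subst h
        have : n₂ = 1 := by nlinarith
        omega
    subst hn1
    have hn2 : n₂ = 5 := by omega
    subst hn2
    exact Or.inr (Or.inr (Or.inr (Or.inr (Or.inr (Or.inr (Or.inl ⟨hodd, e, P, f₁, f₂, hf₁, hf₂, hT, hMe⟩))))))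
  · exfalso
    have hc := Fintype.card_congr e
    rw [Fintype.card_sum, Fintype.card_fin, Fintype.card_fun, Fintype.card_fin, Fintype.card_fin] at hc
    exact pow_ne_of_three_le 10 (by norm_num) (by norm_num) (by norm_num) k t ht hc.symm


/-- S5868 (`Sp_12`) from the hub -/
theorem cases12 (hub : Hub 6 F) (H : Subgroup (Matrix.GeneralLinearGroup (Fin 6 ⊕ Fin 6) F))
    (hH : Cfsg.Geo.IsMaximalIn (Cfsg.spGL 6 F) H) :

    (∃ W : Submodule F (Fin 6 ⊕ Fin 6 → F), W ≠ ⊥ ∧ Cfsg.Geo.IsTotallySingularFor (Cfsg.sympForm 6 F) W ∧ H = Cfsg.Geo.subspaceStabilizer W ⊓ Cfsg.spGL 6 F) ∨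
    (∃ W : Submodule F (Fin 6 ⊕ Fin 6 → F), W ≠ ⊥ ∧ Cfsg.Geo.IsNondegenerateOn (Cfsg.sympForm 6 F) W ∧ Module.finrank F W < 6 ∧ H = Cfsg.Geo.subspaceStabilizer W ⊓ Cfsg.spGL 6 F) ∨
    (3 ≤ Fintype.card F ∧ ∃ D : Fin 6 → Submodule F (Fin 6 ⊕ Fin 6 → F), Cfsg.Geo.IsNondegenerateMDecomposition (Cfsg.sympForm 6 F) 2 D ∧ H = Cfsg.Geo.decompositionStabilizer D ⊓ Cfsg.spGL 6 F) ∨
    (∃ D : Fin 3 → Submodule F (Fin 6 ⊕ Fin 6 → F), Cfsg.Geo.IsNondegenerateMDecomposition (Cfsg.sympForm 6 F) 4 D ∧ H = Cfsg.Geo.decompositionStabilizer D ⊓ Cfsg.spGL 6 F) ∨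
    (∃ D : Fin 2 → Submodule F (Fin 6 ⊕ Fin 6 → F), Cfsg.Geo.IsNondegenerateMDecomposition (Cfsg.sympForm 6 F) 6 D ∧ H = Cfsg.Geo.decompositionStabilizer D ⊓ Cfsg.spGL 6 F) ∨
    (Odd (Fintype.card F) ∧ ∃ D : Fin 2 → Submodule F (Fin 6 ⊕ Fin 6 → F), Cfsg.Geo.IsMDecomposition 6 D ∧ (∀ i, Cfsg.Geo.IsTotallySingularFor (Cfsg.sympForm 6 F) (D i)) ∧ H = Cfsg.Geo.decompositionStabilizer D ⊓ Cfsg.spGL 6 F) ∨
    (∃ K : Subalgebra F (Matrix (Fin 6 ⊕ Fin 6) (Fin 6 ⊕ Fin 6) F), Cfsg.Geo.IsFieldSubalgebra 2 K ∧ Cfsg.Geo.IsSelfAdjointFor (Cfsg.sympForm 6 F) K ∧ (∀ k ∈ K, ∀ v : (Fin 6 ⊕ Fin 6 → F), (Cfsg.sympForm 6 F) (Matrix.mulVec k v) v = 0) ∧ H = Cfsg.Geo.subalgebraNormalizer K ⊓ Cfsg.spGL 6 F) ∨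
    (∃ K : Subalgebra F (Matrix (Fin 6 ⊕ Fin 6) (Fin 6 ⊕ Fin 6) F), Cfsg.Geo.IsFieldSubalgebra 3 K ∧ Cfsg.Geo.IsSelfAdjointFor (Cfsg.sympForm 6 F) K ∧ (∀ k ∈ K, ∀ v : (Fin 6 ⊕ Fin 6 → F), (Cfsg.sympForm 6 F) (Matrix.mulVec k v) v = 0) ∧ H = Cfsg.Geo.subalgebraNormalizer K ⊓ Cfsg.spGL 6 F) ∨
    (Odd (Fintype.card F) ∧ ∃ K : Subalgebra F (Matrix (Fin 6 ⊕ Fin 6) (Fin 6 ⊕ Fin 6) F), Cfsg.Geo.IsFieldSubalgebra 2 K ∧ Cfsg.Geo.IsAdjointClosedFor (Cfsg.sympForm 6 F) K ∧ ¬ Cfsg.Geo.IsSelfAdjointFor (Cfsg.sympForm 6 F) K ∧ H = Cfsg.Geo.subalgebraNormalizer K ⊓ Cfsg.spGL 6 F) ∨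
    (Odd (Fintype.card F) ∧ ∃ (e : (Fin 6 ⊕ Fin 6) ≃ Fin 2 × Fin 6) (P : Matrix.GeneralLinearGroup (Fin 6 ⊕ Fin 6) F) (f₁ : (Fin 2 → F) → (Fin 2 → F) → F) (f₂ : (Fin 6 → F) → (Fin 6 → F) → F), Cfsg.Geo.IsSymplecticForm f₁ ∧ Cfsg.Geo.IsSymmetricForm f₂ ∧ Cfsg.Geo.IsTensorFormStructure id (Cfsg.sympForm 6 F) f₁ f₂ e P ∧ H = Cfsg.Geo.tensorProductSubgroup 2 6 e P ⊓ Cfsg.spGL 6 F) ∨
    (Odd (Fintype.card F) ∧ 5 ≤ Fintype.card F ∧ ∃ (e : (Fin 6 ⊕ Fin 6) ≃ Fin 4 × Fin 3) (P : Matrix.GeneralLinearGroup (Fin 6 ⊕ Fin 6) F) (f₁ : (Fin 4 → F) → (Fin 4 → F) → F) (f₂ : (Fin 3 → F) → (Fin 3 → F) → F), Cfsg.Geo.IsSymplecticForm f₁ ∧ Cfsg.Geo.IsSymmetricForm f₂ ∧ Cfsg.Geo.IsTensorFormStructure id (Cfsg.sympForm 6 F) f₁ f₂ e P ∧ H = Cfsg.Geo.tensorProductSubgroup 4 3 e P ⊓ Cfsg.spGL 6 F) ∨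
    (∃ (F₀ : Subfield F) (r : ℕ) (P : Matrix.GeneralLinearGroup (Fin 6 ⊕ Fin 6) F) (ζ : F), r.Prime ∧ Fintype.card F = Nat.card F₀ ^ r ∧ ζ ≠ 0 ∧ Cfsg.Geo.IsFormRationalStructure (Cfsg.sympForm 6 F) F₀ ζ P ∧ H = Cfsg.Geo.subfieldSubgroup F₀ P ⊓ Cfsg.spGL 6 F) ∨
    (¬ Odd (Fintype.card F) ∧ ∃ Q : (Fin 6 ⊕ Fin 6 → F) → F, Cfsg.Geo.IsNondegenerateQuadraticForm Q ∧ (∀ u v : (Fin 6 ⊕ Fin 6 → F), QuadraticMap.polar Q u v = (Cfsg.sympForm 6 F) u v) ∧ H = Cfsg.Geo.quadSimilarityGroup Q ⊓ Cfsg.spGL 6 F) ∨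
    Cfsg.Geo.InSymplecticResidualClass H := by
  rcases member_of_max_arith (by norm_num) (pow_two_ne 12 (by decide) (by norm_num))
      (pow_ne_of_three_le 12 (by norm_num) (by norm_num) (by norm_num)) hub H hH with hM | hres
  swap
  · exact Or.inr (Or.inr (Or.inr (Or.inr (Or.inr (Or.inr (Or.inr (Or.inr (Or.inr (Or.inr (Or.inr (Or.inr
      (Or.inr hres))))))))))))
  rcases hM with (⟨W, h0, hW, hMe⟩ | ⟨W, h0, hW, hlt, hMe⟩ | ⟨t, k, D, hD, hMe⟩ | ⟨D, hodd, hD, hts, hMe⟩ |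
      ⟨F₀, r, P, ζ, hr, hcard, hζ, hP, hMe⟩ | ⟨R, p, k, hR, hirr, hsim, hp, hpo, hFp, hRc, hcen, hmin, hMe⟩ |
      ⟨Q, heven, hQ, hpol, hMe⟩) | ⟨r, K, hr, hK, hsa, halt, hMe⟩ | ⟨K, hodd, hK, hac, hnsa, hMe⟩ |
      ⟨n₁, n₂, e, P, f₁, f₂, hodd, hn₂, hf₁, hf₂, hT, hMe⟩ | ⟨k, t, e, P, f₁, hodd, hto, ht, hex, hf₁, hT, hMe⟩
  · exact Or.inl ⟨W, h0, hW, hMe⟩
  · exact Or.inr (Or.inl ⟨W, h0, hW, hlt, hMe⟩)
  · -- decompositions: `(k,t) ∈ {(2,6), (4,3), (6,2)}`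
    obtain ⟨h1, ⟨j, hj⟩, h2⟩ := dec_arith D hD
    have hj6 : t * j = 6 := by nlinarith
    have hjle : j ≤ 3 := by nlinarith
    have hj0 : 0 < j := by
      have := hD.decomp.pos
      omega
    interval_cases j
    · have hk : k = 2 := by omega
      subst hk
      have ht : t = 6 := by omega
      subst ht
      by_cases hq : 3 ≤ Fintype.card F
      · exact Or.inr (Or.inr (Or.inl ⟨hq, D, hD, hMe⟩))
      · exfalso
        have hq2 := card_eq_two_of_lt_three hq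
        exact not_maximal_of_between H hH
          (hMe ▸ Cfsg.Agent.Lib.Helper13.sp_decomp_not_maximal (by norm_num) hq2 D hD)
    · have hk : k = 4 := by omega
      subst hk
      have ht : t = 3 := by omega
      subst ht
      exact Or.inr (Or.inr (Or.inr (Or.inl ⟨D, hD, hMe⟩)))
    · have hk : k = 6 := by omega
      subst hk
      have ht : t = 2 := by omega
      subst ht
      exact Or.inr (Or.inr (Or.inr (Or.inr (Or.inl ⟨D, hD, hMe⟩))))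
  · exact Or.inr (Or.inr (Or.inr (Or.inr (Or.inr (Or.inl ⟨hodd, D, hD, hts, hMe⟩)))))
  · exact Or.inr (Or.inr (Or.inr (Or.inr (Or.inr (Or.inr (Or.inr (Or.inr (Or.inr (Or.inr (Or.inr (Or.inl
      ⟨F₀, r, P, ζ, hr, hcard, hζ, hP, hMe⟩)))))))))))
  · exfalso
    have hoddF : Odd (Fintype.card F) := by rw [hFp]; exact hpo
    obtain ⟨k', hk'⟩ := card_eq_pow_of_c6 R hR hirr hoddF
    exact pow_two_ne 12 (by decide) (by norm_num) k' hk'.symm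
  · exact Or.inr (Or.inr (Or.inr (Or.inr (Or.inr (Or.inr (Or.inr (Or.inr (Or.inr (Or.inr (Or.inr (Or.inr
      (Or.inl ⟨heven, Q, hQ, hpol, hMe⟩))))))))))))
  · -- self-adjoint field: `r ∣ 6`
    have hr6 : r ∣ 6 := dvd_of_selfAdjoint_field r K hK hsa halt
    have hr23 : r = 2 ∨ r = 3 := by
      have hle : r ≤ 6 := Nat.le_of_dvd (by norm_num) hr6
      have h2 := hr.two_le
      interval_cases r
      · exact Or.inl rfl
      · exact Or.inr rfl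
      · exact absurd hr (by decide)
      · omega
      · exact absurd hr (by decide)
    rcases hr23 with rfl | rfl
    · exact Or.inr (Or.inr (Or.inr (Or.inr (Or.inr (Or.inr (Or.inl ⟨K, hK, hsa, halt, hMe⟩))))))
    · exact Or.inr (Or.inr (Or.inr (Or.inr (Or.inr (Or.inr (Or.inr (Or.inl ⟨K, hK, hsa, halt, hMe⟩)))))))
  · exact Or.inr (Or.inr (Or.inr (Or.inr (Or.inr (Or.inr (Or.inr (Or.inr (Or.inl
      ⟨hodd, K, hK, hac, hnsa, hMe⟩))))))))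
  · -- tensor: `(n₁,n₂) ∈ {(2,6), (4,3)}`
    obtain ⟨h1, ⟨j, hj⟩⟩ := tens_arith e f₁ hf₁
    have hj6 : j * n₂ = 6 := by nlinarith
    have hjle : j ≤ 2 := by nlinarith
    have hj0 : 0 < j := by
      rcases Nat.eq_zero_or_pos j with h | h
      · subst h
        simp at hj6
      · exact h
    interval_cases j
    · have hn1 : n₁ = 2 := by omega
      subst hn1
      have hn2 : n₂ = 6 := by omega
      subst hn2
      exact Or.inr (Or.inr (Or.inr (Or.inr (Or.inr (Or.inr (Or.inr (Or.inr (Or.inr (Or.inl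
        ⟨hodd, e, P, f₁, f₂, hf₁, hf₂, hT, hMe⟩)))))))))
    · have hn1 : n₁ = 4 := by omega
      subst hn1
      have hn2 : n₂ = 3 := by omega
      subst hn2
      by_cases h5 : 5 ≤ Fintype.card F
      · exact Or.inr (Or.inr (Or.inr (Or.inr (Or.inr (Or.inr (Or.inr (Or.inr (Or.inr (Or.inr (Or.inl
          ⟨hodd, h5, e, P, f₁, f₂, hf₁, hf₂, hT, hMe⟩))))))))))
      · exfalso
        have hq3 := card_eq_three_of_odd_lt_five hodd h5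
        exact not_maximal_of_between H hH (hMe ▸ tensor_three_not_maximal (by norm_num) hq3 4 e P f₁ f₂ hf₁ hf₂ hT)
  · exfalso
    have hc := Fintype.card_congr e
    rw [Fintype.card_sum, Fintype.card_fin, Fintype.card_fun, Fintype.card_fin, Fintype.card_fin] at hc
    exact pow_ne_of_three_le 12 (by norm_num) (by norm_num) (by norm_num) k t ht hc.symm

/-- S5805 (`Sp_6`) from the hub -/
theorem cases6 (hub : Hub 3 F) (H : Subgroup (Matrix.GeneralLinearGroup (Fin 3 ⊕ Fin 3) F))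
    (hH : Cfsg.Geo.IsMaximalIn (Cfsg.spGL 3 F) H) :

    (∃ W : Submodule F (Fin 3 ⊕ Fin 3 → F), W ≠ ⊥ ∧ Cfsg.Geo.IsTotallySingularFor (Cfsg.sympForm 3 F) W ∧ H = Cfsg.Geo.subspaceStabilizer W ⊓ Cfsg.spGL 3 F) ∨
    (∃ W : Submodule F (Fin 3 ⊕ Fin 3 → F), W ≠ ⊥ ∧ Cfsg.Geo.IsNondegenerateOn (Cfsg.sympForm 3 F) W ∧ Module.finrank F W < 3 ∧ H = Cfsg.Geo.subspaceStabilizer W ⊓ Cfsg.spGL 3 F) ∨
    (3 ≤ Fintype.card F ∧ ∃ D : Fin 3 → Submodule F (Fin 3 ⊕ Fin 3 → F), Cfsg.Geo.IsNondegenerateMDecomposition (Cfsg.sympForm 3 F) 2 D ∧ H = Cfsg.Geo.decompositionStabilizer D ⊓ Cfsg.spGL 3 F) ∨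
    (Odd (Fintype.card F) ∧ ∃ D : Fin 2 → Submodule F (Fin 3 ⊕ Fin 3 → F), Cfsg.Geo.IsMDecomposition 3 D ∧ (∀ i, Cfsg.Geo.IsTotallySingularFor (Cfsg.sympForm 3 F) (D i)) ∧ H = Cfsg.Geo.decompositionStabilizer D ⊓ Cfsg.spGL 3 F) ∨
    (∃ K : Subalgebra F (Matrix (Fin 3 ⊕ Fin 3) (Fin 3 ⊕ Fin 3) F), Cfsg.Geo.IsFieldSubalgebra 3 K ∧ Cfsg.Geo.IsSelfAdjointFor (Cfsg.sympForm 3 F) K ∧ (∀ k ∈ K, ∀ v : (Fin 3 ⊕ Fin 3 → F), (Cfsg.sympForm 3 F) (Matrix.mulVec k v) v = 0) ∧ H = Cfsg.Geo.subalgebraNormalizer K ⊓ Cfsg.spGL 3 F) ∨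
    (Odd (Fintype.card F) ∧ ∃ K : Subalgebra F (Matrix (Fin 3 ⊕ Fin 3) (Fin 3 ⊕ Fin 3) F), Cfsg.Geo.IsFieldSubalgebra 2 K ∧ Cfsg.Geo.IsAdjointClosedFor (Cfsg.sympForm 3 F) K ∧ ¬ Cfsg.Geo.IsSelfAdjointFor (Cfsg.sympForm 3 F) K ∧ H = Cfsg.Geo.subalgebraNormalizer K ⊓ Cfsg.spGL 3 F) ∨
    (Odd (Fintype.card F) ∧ 5 ≤ Fintype.card F ∧ ∃ (e : (Fin 3 ⊕ Fin 3) ≃ Fin 2 × Fin 3) (P : Matrix.GeneralLinearGroup (Fin 3 ⊕ Fin 3) F) (f₁ : (Fin 2 → F) → (Fin 2 → F) → F) (f₂ : (Fin 3 → F) → (Fin 3 → F) → F), Cfsg.Geo.IsSymplecticForm f₁ ∧ Cfsg.Geo.IsSymmetricForm f₂ ∧ Cfsg.Geo.IsTensorFormStructure id (Cfsg.sympForm 3 F) f₁ f₂ e P ∧ H = Cfsg.Geo.tensorProductSubgroup 2 3 e P ⊓ Cfsg.spGL 3 F) ∨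
    (∃ (F₀ : Subfield F) (r : ℕ) (P : Matrix.GeneralLinearGroup (Fin 3 ⊕ Fin 3) F) (ζ : F), r.Prime ∧ Fintype.card F = Nat.card F₀ ^ r ∧ ζ ≠ 0 ∧ Cfsg.Geo.IsFormRationalStructure (Cfsg.sympForm 3 F) F₀ ζ P ∧ H = Cfsg.Geo.subfieldSubgroup F₀ P ⊓ Cfsg.spGL 3 F) ∨
    (¬ Odd (Fintype.card F) ∧ ∃ Q : (Fin 3 ⊕ Fin 3 → F) → F, Cfsg.Geo.IsNondegenerateQuadraticForm Q ∧ (∀ u v : (Fin 3 ⊕ Fin 3 → F), QuadraticMap.polar Q u v = (Cfsg.sympForm 3 F) u v) ∧ H = Cfsg.Geo.quadSimilarityGroup Q ⊓ Cfsg.spGL 3 F) ∨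
    Cfsg.Geo.InSymplecticResidualClass H := by
  rcases member_of_max_arith (by norm_num) (pow_two_ne 6 (by decide) (by norm_num))
      (pow_ne_of_three_le 6 (by norm_num) (by norm_num) (by norm_num)) hub H hH with hM | hres
  swap
  · exact Or.inr (Or.inr (Or.inr (Or.inr (Or.inr (Or.inr (Or.inr (Or.inr (Or.inr hres))))))))
  rcases hM with (⟨W, h0, hW, hMe⟩ | ⟨W, h0, hW, hlt, hMe⟩ | ⟨t, k, D, hD, hMe⟩ | ⟨D, hodd, hD, hts, hMe⟩ |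
      ⟨F₀, r, P, ζ, hr, hcard, hζ, hP, hMe⟩ | ⟨R, p, k, hR, hirr, hsim, hp, hpo, hFp, hRc, hcen, hmin, hMe⟩ |
      ⟨Q, heven, hQ, hpol, hMe⟩) | ⟨r, K, hr, hK, hsa, halt, hMe⟩ | ⟨K, hodd, hK, hac, hnsa, hMe⟩ |
      ⟨n₁, n₂, e, P, f₁, f₂, hodd, hn₂, hf₁, hf₂, hT, hMe⟩ | ⟨k, t, e, P, f₁, hodd, hto, ht, hex, hf₁, hT, hMe⟩
  · exact Or.inl ⟨W, h0, hW, hMe⟩
  · exact Or.inr (Or.inl ⟨W, h0, hW, hlt, hMe⟩)
  · -- decompositions: `(k,t) = (2,3)`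
    obtain ⟨h1, ⟨j, hj⟩, h2⟩ := dec_arith D hD
    have hk : k = 2 := by
      have hj3 : j ∣ 3 := ⟨t, by nlinarith⟩
      rcases (Nat.dvd_prime (by norm_num : Nat.Prime 3)).1 hj3 with h | h
      · omega
      · subst h
        have : t = 1 := by nlinarith
        omega
    subst hk
    have ht : t = 3 := by omega
    subst ht
    by_cases hq : 3 ≤ Fintype.card F
    · exact Or.inr (Or.inr (Or.inl ⟨hq, D, hD, hMe⟩))
    · exfalso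
      have hq2 := card_eq_two_of_lt_three hq
      exact not_maximal_of_between H hH (hMe ▸ Cfsg.Agent.Lib.Helper13.sp_decomp_not_maximal (by norm_num) hq2 D hD)
  · exact Or.inr (Or.inr (Or.inr (Or.inl ⟨hodd, D, hD, hts, hMe⟩)))
  · exact Or.inr (Or.inr (Or.inr (Or.inr (Or.inr (Or.inr (Or.inr (Or.inl ⟨F₀, r, P, ζ, hr, hcard, hζ, hP, hMe⟩)))))))
  · exfalso
    have hoddF : Odd (Fintype.card F) := by rw [hFp]; exact hpo
    obtain ⟨k', hk'⟩ := card_eq_pow_of_c6 R hR hirr hoddF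
    exact pow_two_ne 6 (by decide) (by norm_num) k' hk'.symm
  · exact Or.inr (Or.inr (Or.inr (Or.inr (Or.inr (Or.inr (Or.inr (Or.inr (Or.inl ⟨heven, Q, hQ, hpol, hMe⟩))))))))
  · -- self-adjoint field: `r ∣ 3`
    have hr3 : r = 3 := (Nat.prime_dvd_prime_iff_eq hr (by norm_num)).1 (dvd_of_selfAdjoint_field r K hK hsa halt)
    subst hr3
    exact Or.inr (Or.inr (Or.inr (Or.inr (Or.inl ⟨K, hK, hsa, halt, hMe⟩))))
  · exact Or.inr (Or.inr (Or.inr (Or.inr (Or.inr (Or.inl ⟨hodd, K, hK, hac, hnsa, hMe⟩)))))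
  · -- tensor: `(n₁,n₂) = (2,3)`
    obtain ⟨h1, ⟨j, hj⟩⟩ := tens_arith e f₁ hf₁
    have hn1 : n₁ = 2 := by
      have hj3 : j ∣ 3 := ⟨n₂, by nlinarith⟩
      rcases (Nat.dvd_prime (by norm_num : Nat.Prime 3)).1 hj3 with h | h
      · omega
      · subst h
        have : n₂ = 1 := by nlinarith
        omega
    subst hn1
    have hn2 : n₂ = 3 := by omega
    subst hn2
    by_cases h5 : 5 ≤ Fintype.card F
    · exact Or.inr (Or.inr (Or.inr (Or.inr (Or.inr (Or.inr (Or.inl ⟨hodd, h5, e, P, f₁, f₂, hf₁, hf₂, hT, hMe⟩))))))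
    · exfalso
      have hq3 := card_eq_three_of_odd_lt_five hodd h5
      exact not_maximal_of_between H hH (hMe ▸ tensor_three_not_maximal (by norm_num) hq3 2 e P f₁ f₂ hf₁ hf₂ hT)
  · exfalso
    have hc := Fintype.card_congr e
    rw [Fintype.card_sum, Fintype.card_fin, Fintype.card_fun, Fintype.card_fin, Fintype.card_fin] at hc
    exact pow_ne_of_three_le 6 (by norm_num) (by norm_num) (by norm_num) k t ht hc.symm

end Cfsg.Agent.Lib.Helper27.SpCorMain
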