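import Mathlib
import Cfsg.Prelude.Def_FusionComponents
import Cfsg.Agent.H26.Realized
import Cfsg.Agent.Lib.Helper27.FusionRealizedSub
import Cfsg.Agent.Lib.Helper27.FusionAlperin

set_option autoImplicit false

/-! The fusion system on `T` realized by an injective homomorphism `ι : T →* G`, and the fusion system
of the semidirect product `T ⋊ ⟨γ⟩` for a `p'`-automorphism `γ` of the finite `p`-group `T`: it is
saturated, and contained in any fusion system having `γ` among its automorphisms of `T`. -/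

namespace Cfsg.Agent.Lib.Helper27

open Cfsg Cfsg.FusionSystem Cfsg.Agent.H26

section

variable {Ω : Type*} [Group Ω] {T : Subgroup Ω} {G : Type*} [Group G]

/-- The fusion system on `T` realized by the injective homomorphism `ι : T →* G`. -/
def realizedBy (ι : T →* G) (hinj : Function.Injective ι) : FusionSystem T where
  Hom P := {φ | P ≤ T ∧ (∀ x : P, φ x ∈ T) ∧ ∃ g : G, ∀ x : P, ext1 ι (φ x) = g * ext1 ι x * g⁻¹}
  le_of_mem h := ⟨h.1, h.2.1⟩
  injective_of_mem := by
    rintro P φ ⟨hP, -, g, hg⟩ a b hab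
    have h : g * ext1 ι (a : Ω) * g⁻¹ = g * ext1 ι (b : Ω) * g⁻¹ := by
      rw [← hg a, ← hg b, hab]
    have h2 : ext1 ι (a : Ω) = ext1 ι (b : Ω) := mul_left_cancel (mul_right_cancel h)
    exact Subtype.ext (ext1_inj hinj (hP a.2) (hP b.2) h2)
  conj_mem := by
    intro P g hP hg
    refine ⟨hP, fun x => ?_, ext1 ι g, fun x => ?_⟩
    · show g * (x : Ω) * g⁻¹ ∈ T
      exact T.mul_mem (T.mul_mem hg (hP x.2)) (T.inv_mem hg)
    · show ext1 ι (g * (x : Ω) * g⁻¹) = _
      have hxT : (x : Ω) ∈ T := hP x.2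
      rw [ext1_mul ι (T.mul_mem hg hxT) (T.inv_mem hg), ext1_mul ι hg hxT, ext1_inv ι hg]
  comp_mem := by
    rintro P Q φ ψ ⟨hP, hφT, g, hg⟩ ⟨-, hψT, k, hk⟩ h
    refine ⟨hP, fun x => hψT _, k * g, fun x => ?_⟩
    show ext1 ι (ψ (φ.codRestrict Q h x)) = k * g * ext1 ι (x : Ω) * (k * g)⁻¹
    rw [hk]
    show k * ext1 ι (φ x) * k⁻¹ = _
    rw [hg, mul_inv_rev]
    simp only [mul_assoc]
  inv_mem := by
    rintro P φ ⟨hP, hφT, g, hg⟩
    have hφinj : Function.Injective φ := by
      intro a b hab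
      have h : g * ext1 ι (a : Ω) * g⁻¹ = g * ext1 ι (b : Ω) * g⁻¹ := by
        rw [← hg a, ← hg b, hab]
      have h2 : ext1 ι (a : Ω) = ext1 ι (b : Ω) := mul_left_cancel (mul_right_cancel h)
      exact Subtype.ext (ext1_inj hinj (hP a.2) (hP b.2) h2)
    let e : P ≃* φ.range := MonoidHom.ofInjective hφinj
    have he : ∀ x : P, e.symm ⟨φ x, ⟨x, rfl⟩⟩ = x := by
      intro x
      have : e x = ⟨φ x, ⟨x, rfl⟩⟩ := Subtype.ext rfl
      rw [← this]
      exact e.symm_apply_apply x
    refine ⟨P.subtype.comp e.symm.toMonoidHom, ⟨?_, ?_, g⁻¹, ?_⟩, ?_⟩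
    · rintro _ ⟨x, rfl⟩
      exact hφT x
    · intro y
      exact hP (e.symm y).2
    · rintro ⟨_, x, rfl⟩
      show ext1 ι ((e.symm ⟨φ x, ⟨x, rfl⟩⟩ : P) : Ω) = g⁻¹ * ext1 ι (φ x) * g⁻¹⁻¹
      rw [he, hg]
      group
    · intro x
      show ((e.symm ⟨φ x, ⟨x, rfl⟩⟩ : P) : Ω) = x
      rw [he]

theorem realizedBy_isRealizedBy (ι : T →* G) (hinj : Function.Injective ι) :
    (realizedBy ι hinj).IsRealizedBy ι := by
  refine ⟨hinj, fun P hP φ hφ => ?_⟩
  constructor
  · rintro ⟨-, -, g, hg⟩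
    refine ⟨g, fun x => ?_⟩
    have := hg x
    rw [ext1_of_mem ι (hφ x), ext1_of_mem ι (hP x.2)] at this
    exact this
  · rintro ⟨g, hg⟩
    refine ⟨hP, hφ, g, fun x => ?_⟩
    rw [ext1_of_mem ι (hφ x), ext1_of_mem ι (hP x.2)]
    exact hg x

end

section

variable {Ω : Type*} [Group Ω] {T : Subgroup Ω}

/-- The fusion system of `T ⋊ ⟨γ⟩` on `T`. -/
def semidirectSys (T : Subgroup Ω) (γ : MulAut T) : FusionSystem T :=
  realizedBy (SemidirectProduct.inl : T →* T ⋊[(Subgroup.zpowers γ).subtype] (Subgroup.zpowers γ))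
    SemidirectProduct.inl_injective

theorem mem_semidirectSys_hom (γ : MulAut T) {P : Subgroup Ω} (φ : P →* Ω) :
    φ ∈ (semidirectSys T γ).Hom P ↔ ∃ hP : P ≤ T, ∃ t : T, ∃ c ∈ Subgroup.zpowers γ,
      ∀ x : P, φ x = (t : Ω) * ((c ⟨x, hP x.2⟩ : T) : Ω) * (t : Ω)⁻¹ := by
  constructor
  · rintro ⟨hP, hφT, g, hg⟩
    refine ⟨hP, g.left, g.right, g.right.2, fun x => ?_⟩
    have h1 := hg x
    rw [ext1_of_mem _ (hφT x), ext1_of_mem _ (hP x.2)] at h1
    have h2 : g = SemidirectProduct.inl g.left * SemidirectProduct.inr g.right :=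
      (SemidirectProduct.inl_left_mul_inr_right g).symm
    have h3 : g * SemidirectProduct.inl (⟨x, hP x.2⟩ : T) * g⁻¹ =
        SemidirectProduct.inl (g.left * ((g.right : MulAut T) ⟨x, hP x.2⟩) * g.left⁻¹) := by
      rw [map_mul, map_mul, map_inv]
      have h4 := SemidirectProduct.inl_aut (φ := (Subgroup.zpowers γ).subtype) g.right (⟨x, hP x.2⟩ : T)
      have h5 : ((Subgroup.zpowers γ).subtype g.right) = (g.right : MulAut T) := rfl
      rw [h5] at h4
      rw [h4]
      conv_lhs => rw [h2]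
      simp only [mul_inv_rev, map_inv, mul_assoc]
    rw [h3] at h1
    have h6 := SemidirectProduct.inl_injective h1
    have h7 := congrArg (fun z : T => (z : Ω)) h6
    exact h7
  · rintro ⟨hP, t, c, hc, h⟩
    have hφT : ∀ x : P, φ x ∈ T := by
      intro x
      rw [h x]
      exact T.mul_mem (T.mul_mem t.2 (c _).2) (T.inv_mem t.2)
    refine ⟨hP, hφT, SemidirectProduct.inl t * SemidirectProduct.inr ⟨c, hc⟩, fun x => ?_⟩
    rw [ext1_of_mem _ (hφT x), ext1_of_mem _ (hP x.2)]
    have h4 := SemidirectProduct.inl_aut (φ := (Subgroup.zpowers γ).subtype) ⟨c, hc⟩ (⟨x, hP x.2⟩ : T)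
    have h5 : ((Subgroup.zpowers γ).subtype ⟨c, hc⟩) = c := rfl
    rw [h5] at h4
    have h8 : (⟨φ x, hφT x⟩ : T) = t * (c ⟨x, hP x.2⟩) * t⁻¹ := Subtype.ext (h x)
    rw [h8, map_mul, map_mul, map_inv, h4]
    simp only [mul_inv_rev, map_inv, mul_assoc]

/-- `γ` is an automorphism of `T` in the system of `T ⋊ ⟨γ⟩`. -/
theorem mem_autGroup_semidirectSys (γ : MulAut T) : γ ∈ (semidirectSys T γ).autGroup T := by
  apply Subgroup.subset_closure
  show T.subtype.comp (γ : T ≃* T).toMonoidHom ∈ (semidirectSys T γ).Hom T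
  rw [mem_semidirectSys_hom]
  refine ⟨le_refl T, 1, γ, Subgroup.mem_zpowers γ, fun x => ?_⟩
  simp

/-- The system of `T ⋊ ⟨γ⟩` lies in every fusion system having `γ` as an automorphism of `T`. -/
theorem semidirectSys_isSubsystemOf {S : Subgroup Ω} (F : FusionSystem S) (hTS : T ≤ S) {γ : MulAut T}
    (hγ : γ ∈ F.autGroup T) : (semidirectSys T γ).IsSubsystemOf F := by
  intro P φ hφ
  rw [mem_semidirectSys_hom] at hφ
  obtain ⟨hP, t, c, hc, h⟩ := hφ
  have hcF : c ∈ F.autGroup T := by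
    have : Subgroup.zpowers γ ≤ F.autGroup T := by
      rw [Subgroup.zpowers_le]; exact hγ
    exact this hc
  have htF : conjAutHom S T ⟨t, le_normalizerIn hTS t.2⟩ ∈ F.autGroup T :=
    autInducedBy_le_autGroup F hTS (by rw [← conjAutHom_range]; exact ⟨_, rfl⟩)
  have hα := (mem_autGroup_iff F hTS _).mp ((F.autGroup T).mul_mem htF hcF)
  have hres := hom_restrict F hP hα
  refine (hom_cast F rfl ?_).mp hres
  intro x hx hx'
  rw [h ⟨x, hx'⟩]
  rfl

variable [Finite T] {p : ℕ} [Fact p.Prime]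

/-- The system of `T ⋊ ⟨γ⟩` is saturated when `T` is a finite `p`-group and `γ` has order prime to
`p`. -/
theorem semidirectSys_saturated (hT : IsPGroup p T) {γ : MulAut T} (hγ : (orderOf γ).Coprime p) :
    (semidirectSys T γ).IsSaturated p := by
  classical
  set G := T ⋊[(Subgroup.zpowers γ).subtype] (Subgroup.zpowers γ) with hG
  have : Finite G := Finite.of_equiv _ (SemidirectProduct.equivProd (φ := (Subgroup.zpowers γ).subtype)).symm
  set ι : T →* G := SemidirectProduct.inl with hι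
  have hcardG : Nat.card G = Nat.card T * Nat.card (Subgroup.zpowers γ) := by
    rw [Nat.card_congr (SemidirectProduct.equivProd (φ := (Subgroup.zpowers γ).subtype)), Nat.card_prod]
  have hcardR : Nat.card ι.range = Nat.card T :=
    (Nat.card_congr (MonoidHom.ofInjective SemidirectProduct.inl_injective).toEquiv).symm
  have hindex : ι.range.index = Nat.card (Subgroup.zpowers γ) := by
    have h1 := Subgroup.index_mul_card ι.range
    rw [hcardR, hcardG, mul_comm] at h1
    exact Nat.eq_of_mul_eq_mul_left Nat.card_pos h1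
  have hRp : IsPGroup p ι.range :=
    IsPGroup.of_surjective hT ι.rangeRestrict ι.rangeRestrict_surjective
  have hnd : ¬ p ∣ ι.range.index := by
    rw [hindex, Nat.card_zpowers]
    intro hdvd
    have hp : p.Prime := Fact.out
    have := Nat.Coprime.eq_one_of_dvd hγ.symm hdvd
    exact hp.one_lt.ne' this
  exact realized_saturated (realizedBy_isRealizedBy ι SemidirectProduct.inl_injective)
    (hRp.toSylow hnd) rfl

end

end Cfsg.Agent.Lib.Helper27
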