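import Mathlib
import Cfsg.Prelude.Def_FischerSpaces
import Cfsg.Agent.Lib.Helper21.BaerSuzuki
import Cfsg.Agent.Lib.Helper16.PCore

/-!
# Basic facts on 3-transpositions (helper27)

* involution facts, the braid relation, `Same D x y` (same commuting sets), and
  `same_mul_mem_pCore`: if `x`, `y` commute with the same members of `D`, then `x * y ∈ O₂(G)`
  (Baer–Suzuki).
-/

set_option autoImplicit false

namespace Cfsg.Agent.Lib.Helper27.TT

open Cfsg

variable {G : Type*} [Group G] {D : Set G}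

theorem mul_self_of_mem (hD : IsThreeTranspositionSet D) {x : G} (hx : x ∈ D) : x * x = 1 := by
  have h := pow_orderOf_eq_one x
  rw [hD.1 x hx, pow_two] at h
  exact h

theorem inv_of_mem (hD : IsThreeTranspositionSet D) {x : G} (hx : x ∈ D) : x⁻¹ = x :=
  inv_eq_of_mul_eq_one_right (mul_self_of_mem hD hx)

theorem ne_one_of_mem (hD : IsThreeTranspositionSet D) {x : G} (hx : x ∈ D) : x ≠ 1 := by
  intro h
  have h2 := hD.1 x hx
  rw [h, orderOf_one] at h2
  omega

theorem commute_of_sq (hD : IsThreeTranspositionSet D) {x y : G} (hx : x ∈ D) (hy : y ∈ D)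
    (h2 : (x * y) ^ 2 = 1) : Commute x y := by
  rw [pow_two] at h2
  have h4 : x * y = (x * y)⁻¹ := eq_inv_of_mul_eq_one_left h2
  rw [mul_inv_rev, inv_of_mem hD hx, inv_of_mem hD hy] at h4
  exact h4

theorem pow_three_of_not_commute (hD : IsThreeTranspositionSet D) {x y : G} (hx : x ∈ D)
    (hy : y ∈ D) (h : ¬ Commute x y) : (x * y) ^ 3 = 1 := by
  rcases hD.2 x hx y hy with h2 | h3
  · exact absurd (commute_of_sq hD hx hy h2) h
  · exact h3

theorem braid (hD : IsThreeTranspositionSet D) {x y : G} (hx : x ∈ D) (hy : y ∈ D)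
    (h : ¬ Commute x y) : x * y * x = y * x * y := by
  have h3 := pow_three_of_not_commute hD hx hy h
  have h4 : (x * y * x) * (y * x * y) = 1 := by
    rw [← h3, pow_three]; simp only [mul_assoc]
  have h5 : x * y * x = (y * x * y)⁻¹ := eq_inv_of_mul_eq_one_left h4
  rw [h5]
  simp only [mul_inv_rev, inv_of_mem hD hx, inv_of_mem hD hy, mul_assoc]

theorem mul_mul_self_of_commute {a b : G} (h : Commute a b) (ha : a * a = 1) (hb : b * b = 1) :
    (a * b) * (a * b) = 1 := by
  calc a * b * (a * b) = a * (b * a) * b := by simp only [mul_assoc]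
    _ = a * (a * b) * b := by rw [h.symm.eq]
    _ = (a * a) * (b * b) := by simp only [mul_assoc]
    _ = 1 := by rw [ha, hb, one_mul]

/-- `x` and `y` are members of `D` commuting with the same members of `D`. -/
def Same (D : Set G) (x y : G) : Prop :=
  x ∈ D ∧ y ∈ D ∧ ∀ e ∈ D, Commute x e ↔ Commute y e

theorem Same.symm {x y : G} (h : Same D x y) : Same D y x :=
  ⟨h.2.1, h.1, fun e he => (h.2.2 e he).symm⟩

theorem Same.commute {x y : G} (h : Same D x y) : Commute x y :=
  ((h.2.2 x h.1).mp (Commute.refl x)).symm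

theorem Same.conj (hc : ∀ g : G, ∀ d ∈ D, g * d * g⁻¹ ∈ D) {x y : G} (h : Same D x y) (g : G) :
    Same D (g * x * g⁻¹) (g * y * g⁻¹) := by
  refine ⟨hc g x h.1, hc g y h.2.1, ?_⟩
  intro e he
  obtain ⟨e', he', rfl⟩ : ∃ e' ∈ D, e = g * e' * g⁻¹ :=
    ⟨g⁻¹ * e * g⁻¹⁻¹, hc g⁻¹ e he, by group⟩
  rw [Commute.conj_iff, Commute.conj_iff]
  exact h.2.2 e' he'

/-- If `x`, `y` have the same commuting sets, then conjugating any `e ∈ D` by `x * y` gives an
element commuting with `e`. -/
theorem commute_conj_of_same (hD : IsThreeTranspositionSet D) {x y e : G} (h : Same D x y)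
    (he : e ∈ D) : Commute e (x * y * e * (x * y)⁻¹) := by
  have hx := h.1
  have hy := h.2.1
  have hxy := h.commute
  have iy := inv_of_mem hD hy
  have ie := inv_of_mem hD he
  by_cases hxe : Commute x e
  · have hye : Commute y e := (h.2.2 e he).mp hxe
    have h1 : Commute (x * y) e := hxe.mul_left hye
    have h2 : x * y * e * (x * y)⁻¹ = e := by
      rw [h1.eq, mul_assoc, mul_inv_cancel, mul_one]
    exact Eq.mpr (congrArg (Commute e) h2) (Commute.refl e)
  · have hye : ¬ Commute y e := fun hc => hxe ((h.2.2 e he).mpr hc)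
    have b1 := braid hD hx he hxe
    have b2 := braid hD hy he hye
    have h1 : Commute (e * x * e⁻¹) (e * y * e⁻¹) := (Commute.conj_iff e).mpr hxy
    rw [ie, ← b1, ← b2] at h1
    have h2 : Commute (x * (x * e * x) * x⁻¹) (x * (y * e * y) * x⁻¹) :=
      (Commute.conj_iff x).mpr h1
    have e1 : x * (x * e * x) * x⁻¹ = e := by
      have : x * (x * e * x) * x⁻¹ = (x * x) * e := by group
      rw [this, mul_self_of_mem hD hx, one_mul]
    have e2 : x * (y * e * y) * x⁻¹ = x * y * e * (x * y)⁻¹ := by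
      rw [mul_inv_rev, iy]; simp only [mul_assoc]
    rw [e1, e2] at h2
    exact h2

/-- For two pairs with equal commuting sets, the products generate a dihedral group of order
dividing 8. -/
theorem pow_four_of_same (hD : IsThreeTranspositionSet D)
    (hc : ∀ g : G, ∀ d ∈ D, g * d * g⁻¹ ∈ D)
    {x y x' y' : G} (h : Same D x y) (h' : Same D x' y') :
    ((x' * y') * (x * y)) ^ 4 = 1 := by
  obtain ⟨t, ht⟩ : ∃ t, t = x * y := ⟨_, rfl⟩
  have htt : t * t = 1 := by
    rw [ht]
    exact mul_mul_self_of_commute h.commute (mul_self_of_mem hD h.1) (mul_self_of_mem hD h.2.1)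
  have it : t⁻¹ = t := inv_eq_of_mul_eq_one_right htt
  have hu : t * x' * t⁻¹ ∈ D := hc t x' h'.1
  have hw : t * y' * t⁻¹ ∈ D := hc t y' h'.2.1
  have A1 : Commute x' (t * x' * t⁻¹) := by
    rw [ht]; exact commute_conj_of_same hD h h'.1
  have A2 : Commute y' (t * y' * t⁻¹) := by
    rw [ht]; exact commute_conj_of_same hD h h'.2.1
  have A3 : Commute y' (t * x' * t⁻¹) := (h'.2.2 _ hu).mp A1
  have A4 : Commute x' (t * y' * t⁻¹) := (h'.2.2 _ hw).mpr A2
  have A5 : Commute x' y' := h'.commute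
  have A6 : Commute (t * x' * t⁻¹) (t * y' * t⁻¹) := (Commute.conj_iff t).mpr A5
  obtain ⟨u, hu_def⟩ : ∃ u, u = t * x' * t⁻¹ := ⟨_, rfl⟩
  obtain ⟨w, hw_def⟩ : ∃ w, w = t * y' * t⁻¹ := ⟨_, rfl⟩
  rw [← hu_def] at hu A1 A3 A6
  rw [← hw_def] at hw A2 A4 A6
  have C1 : Commute (x' * y') (u * w) := (A1.mul_right A4).mul_left (A3.mul_right A2)
  have s1 : (x' * y') * (x' * y') = 1 :=
    mul_mul_self_of_commute A5 (mul_self_of_mem hD h'.1) (mul_self_of_mem hD h'.2.1)
  have s2 : (u * w) * (u * w) = 1 :=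
    mul_mul_self_of_commute A6 (mul_self_of_mem hD hu) (mul_self_of_mem hD hw)
  have hs : ((x' * y') * (u * w)) * ((x' * y') * (u * w)) = 1 :=
    mul_mul_self_of_commute C1 s1 s2
  have key : (x' * y') * t * ((x' * y') * t) = (x' * y') * (u * w) := by
    calc (x' * y') * t * ((x' * y') * t) = (x' * y') * t * ((x' * y') * t⁻¹) := by rw [it]
      _ = (x' * y') * ((t * x' * t⁻¹) * (t * y' * t⁻¹)) := by group
      _ = (x' * y') * (u * w) := by rw [hu_def, hw_def]
  have hsq : ((x' * y') * t) ^ 4 = 1 := by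
    have e4 : ((x' * y') * t) ^ 4 =
        (((x' * y') * t) * ((x' * y') * t)) * (((x' * y') * t) * ((x' * y') * t)) := by
      rw [show (4 : ℕ) = 2 * 2 from rfl, pow_mul, pow_two, pow_two]
    rw [e4, key]
    exact hs
  subst ht
  exact hsq

theorem isPGroup_zpowers_of_pow {p k : ℕ} {x : G} (h : x ^ (p ^ k) = 1) :
    IsPGroup p (Subgroup.zpowers x) := by
  rintro ⟨g, hg⟩
  obtain ⟨n, rfl⟩ := Subgroup.mem_zpowers_iff.mp hg
  refine ⟨k, Subtype.ext ?_⟩
  rw [Subgroup.coe_pow, Subgroup.coe_one]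
  show (x ^ n) ^ (p ^ k) = 1
  calc (x ^ n) ^ (p ^ k) = x ^ (n * ((p ^ k : ℕ) : ℤ)) := by rw [zpow_mul, zpow_natCast]
    _ = x ^ (((p ^ k : ℕ) : ℤ) * n) := by rw [mul_comm]
    _ = (x ^ (p ^ k)) ^ n := by rw [zpow_mul, zpow_natCast]
    _ = 1 := by rw [h, one_zpow]

/-- Two involutions whose product has order dividing 4 generate a 2-group. -/
theorem isPGroup_closure_pair {a b : G} (ha : a * a = 1) (hb : b * b = 1) (h : (a * b) ^ 4 = 1) :
    IsPGroup 2 (Subgroup.closure ({a, b} : Set G)) := by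
  have ia : a⁻¹ = a := inv_eq_of_mul_eq_one_right ha
  have ib : b⁻¹ = b := inv_eq_of_mul_eq_one_right hb
  have h' : (a * b) ^ (2 ^ 2) = 1 := by
    rw [show (2 : ℕ) ^ 2 = 4 from rfl]; exact h
  have hH : IsPGroup 2 (Subgroup.zpowers (a * b)) := isPGroup_zpowers_of_pow h'
  have hK : IsPGroup 2 (Subgroup.zpowers a) :=
    isPGroup_zpowers_of_pow (p := 2) (k := 1) (by rw [pow_one, pow_two]; exact ha)
  have hconj : a * (a * b) * a⁻¹ = (a * b)⁻¹ := by
    rw [mul_inv_rev, ia, ib, ← mul_assoc a a b, ha, one_mul]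
  have hnorm1 : ∀ h ∈ Subgroup.zpowers (a * b), a * h * a⁻¹ ∈ Subgroup.zpowers (a * b) := by
    intro h hh
    obtain ⟨n, rfl⟩ := Subgroup.mem_zpowers_iff.mp hh
    rw [← conj_zpow, hconj]
    exact Subgroup.zpow_mem _ (Subgroup.inv_mem _ (Subgroup.mem_zpowers _)) n
  have hnorm : Subgroup.zpowers a ≤ Subgroup.normalizer (Subgroup.zpowers (a * b) : Set G) := by
    rw [Subgroup.zpowers_le, Subgroup.mem_normalizer_iff]
    intro h
    constructor
    · exact hnorm1 h
    · intro hh
      have h3 := hnorm1 _ hh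
      rw [ia] at h3
      have e : a * (a * h * a) * a = h := by
        calc a * (a * h * a) * a = (a * a) * h * (a * a) := by simp only [mul_assoc]
          _ = h := by rw [ha, one_mul, mul_one]
      rwa [e] at h3
  have hsup := IsPGroup.to_sup_of_normal_right' hK hH hnorm
  apply hsup.to_le
  rw [Subgroup.closure_le]
  intro z hz
  rcases hz with h1 | h1
  · rw [h1]
    exact Subgroup.mem_sup_left (Subgroup.mem_zpowers _)
  · rw [Set.mem_singleton_iff] at h1
    have e : z = a * (a * z) := by rw [← mul_assoc, ha, one_mul]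
    rw [e, h1]
    exact Subgroup.mul_mem _ (Subgroup.mem_sup_left (Subgroup.mem_zpowers _))
      (Subgroup.mem_sup_right (Subgroup.mem_zpowers _))

/-- If `x` and `y` commute with the same members of `D`, then `x * y` lies in `O₂(G)`. -/
theorem same_mul_mem_pCore [Finite G] (hD : IsThreeTranspositionSet D)
    (hc : ∀ g : G, ∀ d ∈ D, g * d * g⁻¹ ∈ D) {x y : G} (h : Same D x y) :
    x * y ∈ Cfsg.pCore 2 G := by
  let K : Set G := {k | ∃ x y, Same D x y ∧ k = x * y}
  have hK : ∀ g : G, ∀ k ∈ K, g * k * g⁻¹ ∈ K := by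
    rintro g k ⟨x, y, hxy, rfl⟩
    exact ⟨g * x * g⁻¹, g * y * g⁻¹, hxy.conj hc g, by group⟩
  have h2 : ∀ a ∈ K, ∀ b ∈ K, IsPGroup 2 (Subgroup.closure ({a, b} : Set G)) := by
    rintro a ⟨x, y, hxy, rfl⟩ b ⟨x', y', hxy', rfl⟩
    apply isPGroup_closure_pair
    · exact mul_mul_self_of_commute hxy.commute (mul_self_of_mem hD hxy.1)
        (mul_self_of_mem hD hxy.2.1)
    · exact mul_mul_self_of_commute hxy'.commute (mul_self_of_mem hD hxy'.1)
        (mul_self_of_mem hD hxy'.2.1)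
    · exact pow_four_of_same hD hc hxy' hxy
  have hp := Cfsg.Agent.Lib.Helper21.baer_suzuki_set (p := 2) K hK h2
  have hn := Cfsg.Agent.Lib.Helper21.closure_normal_of_conj_invariant K hK
  exact Cfsg.Agent.Lib.Helper16.le_pCore _ hn hp (Subgroup.subset_closure ⟨x, y, h, rfl⟩)

/-- Members of `D` congruent modulo `O₂(G)` commute with the same members of `D`. -/
theorem commute_of_mem_pCore [Finite G] (hD : IsThreeTranspositionSet D) {a b e : G}
    (ha : a ∈ D) (hb : b ∈ D) (he : e ∈ D) (hq : a⁻¹ * b ∈ Cfsg.pCore 2 G)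
    (hae : Commute a e) : Commute b e := by
  by_contra hbe
  have hQn : (Cfsg.pCore 2 G).Normal := Cfsg.Agent.Lib.Helper16.pCore_normal
  have hQp : IsPGroup 2 (Cfsg.pCore 2 G) := Cfsg.Agent.Lib.Helper16.pCore_isPGroup
  have h3 := pow_three_of_not_commute hD hb he hbe
  have ia := inv_of_mem hD ha
  have ie := inv_of_mem hD he
  have ha2 := mul_self_of_mem hD ha
  obtain ⟨q, hq_def⟩ : ∃ q, q = a⁻¹ * b := ⟨_, rfl⟩
  rw [← hq_def] at hq
  have hb_eq : b = a * q := by rw [hq_def, mul_inv_cancel_left]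
  have hsq : (b * e) * (b * e) = (a * q * a⁻¹) * (e * q * e⁻¹) := by
    rw [hb_eq, ia, ie]
    calc a * q * e * (a * q * e) = a * q * (e * a) * q * e := by simp only [mul_assoc]
      _ = a * q * (a * e) * q * e := by rw [hae.symm.eq]
      _ = a * q * a * (e * q * e) := by simp only [mul_assoc]
  have hmem2 : (b * e) * (b * e) ∈ Cfsg.pCore 2 G := by
    rw [hsq]
    exact Subgroup.mul_mem _ (hQn.conj_mem q hq a) (hQn.conj_mem q hq e)
  have hmem : b * e ∈ Cfsg.pCore 2 G := by
    have h4 : (b * e) * (b * e) * (b * e) = 1 := by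
      rw [← h3, pow_three]; simp only [mul_assoc]
    have h5 : b * e = ((b * e) * (b * e))⁻¹ := eq_inv_of_mul_eq_one_right h4
    rw [h5]
    exact Subgroup.inv_mem _ hmem2
  obtain ⟨k, hk⟩ := hQp ⟨b * e, hmem⟩
  have hk' : (b * e) ^ (2 ^ k) = 1 := by
    have := congrArg Subtype.val hk
    simpa using this
  have ho1 : orderOf (b * e) ∣ 2 ^ k := orderOf_dvd_of_pow_eq_one hk'
  have ho2 : orderOf (b * e) ∣ 3 := orderOf_dvd_of_pow_eq_one h3
  have hcop : Nat.Coprime (2 ^ k) 3 := Nat.Coprime.pow_left k (by norm_num)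
  have ho : orderOf (b * e) = 1 := Nat.eq_one_of_dvd_coprimes hcop ho1 ho2
  have hbe1 : b * e = 1 := orderOf_eq_one_iff.mp ho
  have hbe2 : b = e := by
    have h6 := eq_inv_of_mul_eq_one_left hbe1
    rw [ie] at h6
    exact h6
  subst hbe2
  exact hbe (Commute.refl _)

theorem conj_mem_of_class (hD : IsThreeTranspositionClass D) (g : G) {x : G} (hx : x ∈ D) :
    g * x * g⁻¹ ∈ D := by
  obtain ⟨d0, _, hDeq⟩ := hD.2.1
  rw [hDeq] at hx ⊢
  have hx' : IsConj d0 x := hx
  show IsConj d0 (g * x * g⁻¹)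
  exact hx'.trans (isConj_iff.mpr ⟨g, rfl⟩)

/-- In a generating class of 3-transpositions with at least two members, each member fails to
commute with some member. -/
theorem exists_not_commute (hD : IsThreeTranspositionClass D)
    (hD2 : ∃ a ∈ D, ∃ b ∈ D, a ≠ b) {d : G} (hd : d ∈ D) : ∃ e ∈ D, ¬ Commute d e := by
  by_contra hcon
  push Not at hcon
  obtain ⟨d0, _, hDeq⟩ := hD.2.1
  have hcen : ∀ g : G, Commute d g := by
    intro g
    have hle : (⊤ : Subgroup G) ≤ Subgroup.centralizer ({d} : Set G) := by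
      rw [← hD.2.2, Subgroup.closure_le]
      intro e he
      rw [SetLike.mem_coe, Subgroup.mem_centralizer_iff]
      intro h hh
      rw [Set.mem_singleton_iff] at hh
      rw [hh]
      exact (hcon e he).eq
    have hg := hle (Subgroup.mem_top g)
    rw [Subgroup.mem_centralizer_iff] at hg
    exact hg d rfl
  have hall : ∀ a ∈ D, a = d := by
    intro a ha
    rw [hDeq] at ha hd
    have ha' : IsConj d0 a := ha
    have hd' : IsConj d0 d := hd
    obtain ⟨c1, h1⟩ := isConj_iff.mp ha'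
    obtain ⟨c2, h2⟩ := isConj_iff.mp hd'
    have e : a = (c1 * c2⁻¹) * d * (c1 * c2⁻¹)⁻¹ := by
      rw [← h1, ← h2]; group
    rw [e, (hcen (c1 * c2⁻¹)).symm.eq, mul_assoc, mul_inv_cancel, mul_one]
  obtain ⟨a, ha, b, hb, hab⟩ := hD2
  exact hab ((hall a ha).trans (hall b hb).symm)

end Cfsg.Agent.Lib.Helper27.TT
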