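import Mathlib
import Cfsg.Prelude.Def_FischerSpaces
import Cfsg.Agent.Lib.Helper27.ThreeTransp

/-!
# Helper27: conjugation-invariant equivalence relations on a set of 3-transpositions

`Cong D θ`: `θ` is an equivalence relation on `D` invariant under conjugation.
* `Cong.rel_of_commute`: a member of `D` commuting with one but not the other of two related
  members is related to them;
* `Cong.conj_mul`: for `θ x y`, conjugation by `x * y` preserves every class;
* `Cong.conj_closure`: so does the normal subgroup generated by these products;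
* `mul_not_mem_center`: the product of two different members of `D` is not central (when one of
  them does not commute with some member).
-/

set_option autoImplicit false

namespace Cfsg.Agent.Lib.Helper27.TT

open Cfsg

variable {G : Type*} [Group G] {D : Set G}

structure Cong (D : Set G) (θ : G → G → Prop) : Prop where
  refl : ∀ a ∈ D, θ a a
  symm : ∀ {a b : G}, θ a b → θ b a
  trans : ∀ {a b c : G}, θ a b → θ b c → θ a c
  mem : ∀ {a b : G}, θ a b → a ∈ D ∧ b ∈ D
  conj : ∀ (g : G) {a b : G}, θ a b → θ (g * a * g⁻¹) (g * b * g⁻¹)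

theorem conj_eq_of_commute {e a : G} (h : Commute e a) : e * a * e⁻¹ = a := by
  rw [h.eq, mul_assoc, mul_inv_cancel, mul_one]

theorem conj_self_eq (a : G) : a * a * a⁻¹ = a := by
  rw [mul_assoc, mul_inv_cancel, mul_one]

namespace Cong

variable {θ : G → G → Prop}

/-- all-or-nothing: a member of `D` commuting with `a` but not with the related `a'` is related
to `a`. -/
theorem rel_of_commute (hD : IsThreeTranspositionSet D) (hθ : Cong D θ) {a a' e : G}
    (hab : θ a a') (he : e ∈ D) (h1 : Commute e a) (h2 : ¬ Commute e a') : θ e a := by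
  have ha' := (hθ.mem hab).2
  have ie := inv_of_mem hD he
  have ia' := inv_of_mem hD ha'
  have k1 : θ (e * a * e⁻¹) (e * a' * e⁻¹) := hθ.conj e hab
  rw [conj_eq_of_commute h1, ie, braid hD he ha' h2] at k1
  have k2 : θ (a' * a * a'⁻¹) (a' * (a' * e * a') * a'⁻¹) := hθ.conj a' k1
  have e2 : a' * (a' * e * a') * a'⁻¹ = e := by
    calc a' * (a' * e * a') * a'⁻¹ = (a' * a') * e * (a' * a'⁻¹) := by simp only [mul_assoc]
      _ = e := by rw [mul_self_of_mem hD ha', mul_inv_cancel, one_mul, mul_one]
  rw [e2] at k2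
  have k3 : θ (a' * a * a'⁻¹) (a' * a' * a'⁻¹) := hθ.conj a' hab
  rw [conj_self_eq] at k3
  exact hθ.trans (hθ.trans (hθ.symm k2) k3) (hθ.symm hab)

/-- conjugation by the product of two related members preserves every class -/
theorem conj_mul (hD : IsThreeTranspositionSet D) (hθ : Cong D θ) {x y z : G}
    (hxy : θ x y) (hz : z ∈ D) : θ ((x * y) * z * (x * y)⁻¹) z := by
  have hx := (hθ.mem hxy).1
  have hy := (hθ.mem hxy).2
  have ix := inv_of_mem hD hx
  have iy := inv_of_mem hD hy
  have iz := inv_of_mem hD hz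
  have e0 : (x * y) * z * (x * y)⁻¹ = x * (y * z * y⁻¹) * x⁻¹ := by
    rw [mul_inv_rev]; simp only [mul_assoc]
  by_cases hzx : θ z x
  · have k1 : θ (y * z * y⁻¹) (y * x * y⁻¹) := hθ.conj y hzx
    have k2 : θ (y * x * y⁻¹) (y * y * y⁻¹) := hθ.conj y hxy
    rw [conj_self_eq] at k2
    have k3 : θ (y * z * y⁻¹) x := hθ.trans (hθ.trans k1 k2) (hθ.symm hxy)
    have k4 : θ (x * (y * z * y⁻¹) * x⁻¹) (x * x * x⁻¹) := hθ.conj x k3
    rw [conj_self_eq] at k4
    rw [e0]
    exact hθ.trans k4 (hθ.symm hzx)
  · by_cases hcx : Commute z x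
    · have hcy : Commute z y := by
        by_contra hcy
        exact hzx (rel_of_commute hD hθ hxy hz hcx hcy)
      have h1 : Commute (x * y) z := (hcx.symm).mul_left hcy.symm
      rw [conj_eq_of_commute h1]
      exact hθ.refl z hz
    · have hcy : ¬ Commute z y := by
        intro hcy
        exact hzx (hθ.trans (rel_of_commute hD hθ (hθ.symm hxy) hz hcy hcx) (hθ.symm hxy))
      have k1 : θ (z * y * z⁻¹) (z * x * z⁻¹) := hθ.conj z (hθ.symm hxy)
      rw [iz, braid hD hz hx hcx] at k1
      have k2 : θ (x * (z * y * z) * x⁻¹) (x * (x * z * x) * x⁻¹) := hθ.conj x k1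
      have e2 : x * (x * z * x) * x⁻¹ = z := by
        calc x * (x * z * x) * x⁻¹ = (x * x) * z * (x * x⁻¹) := by simp only [mul_assoc]
          _ = z := by rw [mul_self_of_mem hD hx, mul_inv_cancel, one_mul, mul_one]
      rw [e2] at k2
      rw [e0, iy, ← braid hD hz hy hcy]
      exact k2

/-- the normal subgroup generated by the products of related pairs preserves every class -/
theorem conj_closure (hD : IsThreeTranspositionSet D) (hθ : Cong D θ) {n : G}
    (hn : n ∈ Subgroup.closure {k : G | ∃ x y, θ x y ∧ k = x * y}) {z : G} (hz : z ∈ D) :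
    θ (n * z * n⁻¹) z := by
  induction hn using Subgroup.closure_induction'' generalizing z with
  | mem k hk =>
    obtain ⟨x, y, hxy, rfl⟩ := hk
    exact conj_mul hD hθ hxy hz
  | inv_mem k hk =>
    obtain ⟨x, y, hxy, rfl⟩ := hk
    have hx := (hθ.mem hxy).1
    have hy := (hθ.mem hxy).2
    have e : (x * y)⁻¹ = y * x := by
      rw [mul_inv_rev, inv_of_mem hD hx, inv_of_mem hD hy]
    rw [e]
    exact conj_mul hD hθ (hθ.symm hxy) hz
  | one =>
    rw [one_mul, inv_one, mul_one]
    exact hθ.refl z hz
  | mul a b _ _ ha hb =>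
    have k1 := hθ.conj a (hb hz)
    have e : a * b * z * (a * b)⁻¹ = a * (b * z * b⁻¹) * a⁻¹ := by
      rw [mul_inv_rev]; simp only [mul_assoc]
    rw [e]
    exact hθ.trans k1 (ha hz)

theorem closure_normal (hθ : Cong D θ) :
    (Subgroup.closure {k : G | ∃ x y, θ x y ∧ k = x * y}).Normal := by
  apply Cfsg.Agent.Lib.Helper21.closure_normal_of_conj_invariant
  rintro g k ⟨x, y, hxy, rfl⟩
  exact ⟨g * x * g⁻¹, g * y * g⁻¹, hθ.conj g hxy, by group⟩

end Cong

/-- The product of two different members of `D`, one of which fails to commute with some member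
of `D`, is not central. -/
theorem mul_not_mem_center (hD : IsThreeTranspositionSet D) {a a' e : G} (ha : a ∈ D)
    (ha' : a' ∈ D) (he : e ∈ D) (hne : a ≠ a') (hae : ¬ Commute a e) :
    a * a' ∉ Subgroup.center G := by
  intro hz
  rw [Subgroup.mem_center_iff] at hz
  obtain ⟨z, hzdef⟩ : ∃ z, z = a * a' := ⟨_, rfl⟩
  rw [← hzdef] at hz
  have ha2 := mul_self_of_mem hD ha
  have ha'2 := mul_self_of_mem hD ha'
  have e1 : a' = a * z := by rw [hzdef, ← mul_assoc, ha2, one_mul]
  have hz2 : z * z = 1 := by
    have h1 : (a * z) * (a * z) = 1 := by rw [← e1]; exact ha'2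
    have h2 : (a * z) * (a * z) = (a * a) * (z * z) := by
      calc (a * z) * (a * z) = a * (z * a) * z := by simp only [mul_assoc]
        _ = a * (a * z) * z := by rw [← hz a]
        _ = (a * a) * (z * z) := by simp only [mul_assoc]
    rw [h2, ha2, one_mul] at h1
    exact h1
  have e2 : a' * e = z * (a * e) := by
    rw [e1, hz a, mul_assoc]
  have hc : Commute z (a * e) := (hz (a * e)).symm
  have h3 := pow_three_of_not_commute hD ha he hae
  rcases hD.2 a' ha' e he with h | h
  · rw [e2, hc.mul_pow, pow_two z, hz2, one_mul] at h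
    exact hae (commute_of_sq hD ha he h)
  · rw [e2, hc.mul_pow, h3, mul_one, pow_three, hz2, mul_one] at h
    rw [h] at hzdef
    have := eq_inv_of_mul_eq_one_left hzdef.symm
    rw [inv_of_mem hD ha'] at this
    exact hne this

end Cfsg.Agent.Lib.Helper27.TT
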