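import Mathlib
import Cfsg.Prelude
import Cfsg.Agent.Lib.Helper27.TTCong
import Cfsg.Agent.Lib.Helper9.Layer2
import Cfsg.Agent.Lib.Helper17.GfsAction
import Cfsg.Agent.Lib.Helper1.Cores
import Cfsg.Agent.Lib.Helper1.Fitting

/-!
# Helper27: classes of 3-transpositions with `O₂(G)`, `O₃(G)` central and `F*(G) = L Z(G)`

Context `Ctx D L`: `D` a generating class of 3-transpositions with at least two members,
`O₂(G), O₃(G) ≤ Z(G)`, `L` a normal quasisimple subgroup with `F*(G) = L Z(G)`.
* `Ctx.centralizer_le_center`: `C_G(L) ≤ Z(G)`;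
* `Ctx.le_of_normal`: a non-central normal subgroup contains `L`;
* `Ctx.mul_mem_of_commute`: commuting different members of `D` have product in `L`;
* `Ctx.index_le_two_of_connected`, `Ctx.primitive_of_index_le_two` (= S5353).
-/

set_option autoImplicit false

namespace Cfsg.Agent.Lib.Helper27.TT

open Cfsg
open scoped Pointwise

variable {G : Type*} [Group G] [Finite G] {D : Set G}

/-- `O_p(G)` is central for `p > 3`. -/
theorem pCore_le_center_of_three_lt (hD : IsThreeTranspositionClass D) {p : ℕ} (hp : p.Prime)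
    (h3 : 3 < p) : Cfsg.pCore p G ≤ Subgroup.center G := by
  have : Fact p.Prime := ⟨hp⟩
  have hQn : (Cfsg.pCore p G).Normal := Cfsg.Agent.Lib.Helper16.pCore_normal
  have hQp : IsPGroup p (Cfsg.pCore p G) := Cfsg.Agent.Lib.Helper16.pCore_isPGroup
  intro x hx
  have hle : (⊤ : Subgroup G) ≤ Subgroup.centralizer ({x} : Set G) := by
    rw [← hD.2.2, Subgroup.closure_le]
    intro d hd
    rw [SetLike.mem_coe, Subgroup.mem_centralizer_iff]
    intro h hh
    rw [Set.mem_singleton_iff] at hh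
    rw [hh]
    have id := inv_of_mem hD.1 hd
    have he : x * d * x⁻¹ ∈ D := conj_mem_of_class hD x hd
    have hc : d * x * d⁻¹ * x⁻¹ ∈ Cfsg.pCore p G :=
      Subgroup.mul_mem _ (hQn.conj_mem x hx d) (Subgroup.inv_mem _ hx)
    have hce : d * x * d⁻¹ * x⁻¹ = d * (x * d * x⁻¹) := by
      rw [id]; simp only [mul_assoc]
    obtain ⟨k, hk⟩ := hQp ⟨_, hc⟩
    have hk' : (d * x * d⁻¹ * x⁻¹) ^ (p ^ k) = 1 := by
      have := congrArg Subtype.val hk
      simpa using this
    have ho1 := orderOf_dvd_of_pow_eq_one hk'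
    have hc1 : d * x * d⁻¹ * x⁻¹ = 1 := by
      rcases hD.1.2 d hd _ he with h | h
      · rw [← hce] at h
        have ho2 := orderOf_dvd_of_pow_eq_one h
        have hcop : Nat.Coprime (p ^ k) 2 :=
          Nat.Coprime.pow_left k ((Nat.coprime_primes hp Nat.prime_two).mpr (by omega))
        exact orderOf_eq_one_iff.mp (Nat.eq_one_of_dvd_coprimes hcop ho1 ho2)
      · rw [← hce] at h
        have ho2 := orderOf_dvd_of_pow_eq_one h
        have hcop : Nat.Coprime (p ^ k) 3 :=
          Nat.Coprime.pow_left k ((Nat.coprime_primes hp Nat.prime_three).mpr (by omega))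
        exact orderOf_eq_one_iff.mp (Nat.eq_one_of_dvd_coprimes hcop ho1 ho2)
    have h6 : d * x * d⁻¹ = x := mul_inv_eq_one.mp hc1
    calc x * d = (d * x * d⁻¹) * d := by rw [h6]
      _ = d * x := by group
  rw [Subgroup.mem_center_iff]
  intro g
  have := hle (Subgroup.mem_top g)
  rw [Subgroup.mem_centralizer_iff] at this
  exact (this x (Set.mem_singleton x)).symm

/-- Standing hypotheses of S5352–S5353. -/
structure Ctx (D : Set G) (L : Subgroup G) : Prop where
  hD : IsThreeTranspositionClass D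
  hD2 : ∃ a ∈ D, ∃ b ∈ D, a ≠ b
  h2 : Cfsg.pCore 2 G ≤ Subgroup.center G
  h3 : Cfsg.pCore 3 G ≤ Subgroup.center G
  hn : L.Normal
  hL : Cfsg.IsQuasisimple L
  hF : Cfsg.generalizedFittingSubgroup G = L ⊔ Subgroup.center G

namespace Ctx

variable {L : Subgroup G}

theorem fitting_le_center (c : Ctx D L) : Cfsg.fittingSubgroup G ≤ Subgroup.center G := by
  rw [Cfsg.Agent.Lib.Helper1.fittingSubgroup_eq_iSup_primes]
  refine iSup_le fun p => ?_
  have hp : (p : ℕ).Prime := p.2
  rcases Nat.lt_or_ge 3 (p : ℕ) with h | h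
  · exact pCore_le_center_of_three_lt c.hD hp h
  · have h2 := hp.two_le
    rcases (by omega : (p : ℕ) = 2 ∨ (p : ℕ) = 3) with h1 | h1
    · rw [h1]; exact c.h2
    · rw [h1]; exact c.h3

theorem centralizer_le_center (c : Ctx D L) :
    Subgroup.centralizer (L : Set G) ≤ Subgroup.center G := by
  have := c.hn
  intro x hx
  have hx' := Subgroup.mem_centralizer_iff.mp hx
  -- `x` centralizes `F*(G)`
  have h1 : L ⊔ Subgroup.center G ≤ Subgroup.centralizer ({x} : Set G) := by
    refine sup_le ?_ ?_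
    · intro y hy
      rw [Subgroup.mem_centralizer_iff]
      intro h hh
      rw [Set.mem_singleton_iff] at hh
      rw [hh]
      exact (hx' y hy).symm
    · intro y hy
      rw [Subgroup.mem_centralizer_iff]
      intro h hh
      rw [Set.mem_singleton_iff] at hh
      rw [hh]
      exact (Subgroup.mem_center_iff.mp hy x)
  have h2 : x ∈ Subgroup.centralizer (Cfsg.generalizedFittingSubgroup G : Set G) := by
    rw [c.hF, Subgroup.mem_centralizer_iff]
    intro y hy
    have := Subgroup.mem_centralizer_iff.mp (h1 hy) x (Set.mem_singleton x)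
    exact this.symm
  have h3 := Cfsg.Agent.Lib.Helper9.centralizer_gfs_le h2
  rw [c.hF] at h3
  have hmul : (↑(L ⊔ Subgroup.center G) : Set G) = (L : Set G) * (Subgroup.center G : Set G) :=
    Subgroup.normal_mul _ _
  have h4 : x ∈ (L : Set G) * (Subgroup.center G : Set G) := by rw [← hmul]; exact h3
  obtain ⟨l, hl, z, hz, hlz⟩ := Set.mem_mul.mp h4
  have hzc := Subgroup.mem_center_iff.mp hz
  -- `l` lies in `Z(L)`, an abelian normal subgroup
  have hlC : l ∈ Subgroup.centralizer (L : Set G) := by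
    have e : l = x * z⁻¹ := by rw [← hlz, mul_inv_cancel_right]
    rw [e]
    exact Subgroup.mul_mem _ hx
      (Subgroup.inv_mem _ (Subgroup.center_le_centralizer _ hz))
  have hA : L ⊓ Subgroup.centralizer (L : Set G) ≤ Cfsg.fittingSubgroup G := by
    have hAn : (L ⊓ Subgroup.centralizer (L : Set G)).Normal := inferInstance
    apply Cfsg.Agent.Lib.Helper1.le_fittingSubgroup hAn
    apply Cfsg.Agent.Lib.Helper1.isNilpotent_of_commutator_commutator_eq_bot
    have h5 : ⁅L ⊓ Subgroup.centralizer (L : Set G), L ⊓ Subgroup.centralizer (L : Set G)⁆ = ⊥ := by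
      rw [Subgroup.commutator_eq_bot_iff_le_centralizer]
      exact inf_le_right.trans (Subgroup.centralizer_le inf_le_left)
    rw [h5, Subgroup.commutator_bot_left]
  have hl2 : l ∈ Subgroup.center G := c.fitting_le_center (hA ⟨hl, hlC⟩)
  rw [← hlz]
  exact Subgroup.mul_mem _ hl2 hz

/-- A normal subgroup which is not central contains `L`. -/
theorem le_of_normal (c : Ctx D L) (K : Subgroup G) [K.Normal]
    (hK : ¬ K ≤ Subgroup.center G) : L ≤ K := by
  have := c.hn
  have hY : K ≤ Subgroup.normalizer (L : Set G) := by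
    rw [Subgroup.normalizer_eq_top]; exact le_top
  rcases Cfsg.Agent.Lib.Helper17.commutator_eq_self_or_bot_of_isQuasisimple c.hL hY with h | h
  · exact h.symm.le.trans (Subgroup.commutator_le_right L K)
  · exfalso
    apply hK
    rw [Subgroup.commutator_comm L K, Subgroup.commutator_eq_bot_iff_le_centralizer] at h
    exact h.trans c.centralizer_le_center

theorem not_mem_center (c : Ctx D L) {a : G} (ha : a ∈ D) : a ∉ Subgroup.center G := by
  intro h
  obtain ⟨e, he, hae⟩ := exists_not_commute c.hD c.hD2 ha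
  exact hae ((Subgroup.mem_center_iff.mp h e).symm)

theorem commutator_zpowers_eq (c : Ctx D L) {a : G} (ha : a ∈ D) :
    ⁅L, Subgroup.zpowers a⁆ = L := by
  have := c.hn
  have hY : Subgroup.zpowers a ≤ Subgroup.normalizer (L : Set G) := by
    rw [Subgroup.normalizer_eq_top]; exact le_top
  rcases Cfsg.Agent.Lib.Helper17.commutator_eq_self_or_bot_of_isQuasisimple c.hL hY with h | h
  · exact h
  · exfalso
    rw [Subgroup.commutator_comm L (Subgroup.zpowers a),
      Subgroup.commutator_eq_bot_iff_le_centralizer] at h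
    exact c.not_mem_center ha (c.centralizer_le_center (h (Subgroup.mem_zpowers a)))

/-- Commuting different members of `D` have their product in `L`. -/
theorem mul_mem_of_commute (c : Ctx D L) {a b : G} (ha : a ∈ D) (hb : b ∈ D)
    (hab : Commute a b) : a * b ∈ L := by
  have := c.hn
  have hD3 := c.hD.1
  by_contra hnot
  -- `b` commutes with every `L`-conjugate of `a`
  have hcl : ∀ x ∈ L, Commute b (x * a * x⁻¹) := by
    intro x hx
    by_contra hbe
    have he : x * a * x⁻¹ ∈ D := conj_mem_of_class c.hD x ha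
    have h3 := pow_three_of_not_commute hD3 hb he hbe
    have h2 : (b * a) * (b * a) = 1 :=
      mul_mul_self_of_commute hab.symm (mul_self_of_mem hD3 hb) (mul_self_of_mem hD3 ha)
    have hπ : (QuotientGroup.mk' L) (x * a * x⁻¹) = (QuotientGroup.mk' L) a := by
      have hx1 : (QuotientGroup.mk' L) x = 1 := (QuotientGroup.eq_one_iff x).mpr hx
      rw [map_mul, map_mul, map_inv, hx1, one_mul, inv_one, mul_one]
    have h3' : ((QuotientGroup.mk' L) (b * a)) ^ 3 = 1 := by
      have := congrArg (QuotientGroup.mk' L) h3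
      rw [map_pow, map_mul, hπ, map_one, ← map_mul] at this
      exact this
    have h2' : ((QuotientGroup.mk' L) (b * a)) ^ 2 = 1 := by
      have := congrArg (QuotientGroup.mk' L) h2
      rw [map_mul, map_one, ← pow_two] at this
      exact this
    have h1' : (QuotientGroup.mk' L) (b * a) = 1 := by
      have e : ((QuotientGroup.mk' L) (b * a)) ^ 3 =
          ((QuotientGroup.mk' L) (b * a)) ^ 2 * (QuotientGroup.mk' L) (b * a) := pow_succ _ 2
      rw [h3', h2', one_mul] at e
      exact e.symm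
    have h4 : b * a ∈ L := (QuotientGroup.eq_one_iff (b * a)).mp h1'
    rw [← hab.eq] at h4
    exact hnot h4
  have hbC : b ∈ Subgroup.centralizer (L : Set G) := by
    have hle : L ≤ Subgroup.centralizer ({b} : Set G) := by
      rw [← c.commutator_zpowers_eq ha, Subgroup.commutator_le]
      intro x hx y hy
      obtain ⟨k, rfl⟩ := Subgroup.mem_zpowers_iff.mp hy
      rw [Subgroup.mem_centralizer_iff]
      intro h hh
      rw [Set.mem_singleton_iff] at hh
      rw [hh]
      have h1 : Commute b (x * a ^ k * x⁻¹) := by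
        rw [← conj_zpow]
        exact (hcl x hx).zpow_right k
      have h2 : Commute b (a ^ k)⁻¹ := (hab.symm.zpow_right k).inv_right
      have h3 : Commute b (x * a ^ k * x⁻¹ * (a ^ k)⁻¹) := h1.mul_right h2
      exact h3.eq
    rw [Subgroup.mem_centralizer_iff]
    intro y hy
    have := Subgroup.mem_centralizer_iff.mp (hle hy) b (Set.mem_singleton b)
    exact this.symm
  exact c.not_mem_center hb (c.centralizer_le_center hbC)

theorem index_le_two_of_sup_eq_top (c : Ctx D L) {d : G} (hd : d ∈ D)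
    (htop : L ⊔ Subgroup.zpowers d = ⊤) : L.index ≤ 2 := by
  have := c.hn
  have h1 : L.relIndex (L ⊔ Subgroup.zpowers d) * (L ⊔ Subgroup.zpowers d).index = L.index :=
    Subgroup.relIndex_mul_index le_sup_left
  rw [htop, Subgroup.index_top, mul_one, ← htop, Subgroup.relIndex_sup_left] at h1
  rw [← h1]
  have h2 : L.relIndex (Subgroup.zpowers d) ∣ Nat.card (Subgroup.zpowers d) :=
    Subgroup.relIndex_dvd_card _ _
  rw [Nat.card_zpowers, c.hD.1.1 d hd] at h2
  exact Nat.le_of_dvd (by norm_num) h2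

/-- **S5353, second half**: if the commuting graph is connected then `|G : L| ≤ 2`. -/
theorem index_le_two_of_connected (c : Ctx D L)
    (hconn : (Cfsg.commutingGraph D).Connected) : L.index ≤ 2 := by
  have := c.hn
  have hD3 := c.hD.1
  obtain ⟨d, hd, -⟩ := c.hD2
  have hreach : ∀ u v : D, (Cfsg.commutingGraph D).Reachable u v →
      (u : G)⁻¹ * (v : G) ∈ L := by
    intro u v h
    obtain ⟨w⟩ := h
    induction w with
    | nil => rw [inv_mul_cancel]; exact Subgroup.one_mem _
    | @cons u v w hadj _ ih =>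
      have hadj' : u ≠ v ∧ (Commute (u : G) (v : G) ∨ Commute (v : G) (u : G)) := by
        unfold Cfsg.commutingGraph at hadj
        rw [SimpleGraph.fromRel_adj] at hadj
        exact hadj
      have hcom : Commute (u : G) (v : G) := by
        rcases hadj'.2 with h | h
        · exact h
        · exact h.symm
      have h1 := c.mul_mem_of_commute u.2 v.2 hcom
      rw [← inv_of_mem hD3 u.2] at h1
      have e : (u : G)⁻¹ * (w : G) = ((u : G)⁻¹ * (v : G)) * ((v : G)⁻¹ * (w : G)) := by group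
      rw [e]
      exact Subgroup.mul_mem _ h1 ih
  apply c.index_le_two_of_sup_eq_top hd
  rw [eq_top_iff, ← c.hD.2.2, Subgroup.closure_le]
  intro e he
  have h1 := hreach ⟨d, hd⟩ ⟨e, he⟩ (hconn.preconnected _ _)
  have e1 : e = d * (d⁻¹ * e) := by rw [mul_inv_cancel_left]
  rw [SetLike.mem_coe, e1]
  have h2 : d * (d⁻¹ * e) = (d * (d⁻¹ * e) * d⁻¹) * d := by group
  rw [h2]
  exact Subgroup.mul_mem _ (Subgroup.mem_sup_left (c.hn.conj_mem _ h1 d))
    (Subgroup.mem_sup_right (Subgroup.mem_zpowers d))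

/-- **S5353, first half**: if `|G : L| ≤ 2` then `G` is primitive on `D`. -/
theorem primitive_of_index_le_two (c : Ctx D L) (hidx : L.index ≤ 2) :
    Cfsg.IsPrimitiveUnderConj D := by
  have := c.hn
  have hD3 := c.hD.1
  have hconjD : ∀ g : G, ∀ d ∈ D, g * d * g⁻¹ ∈ D := fun g d hd => conj_mem_of_class c.hD g hd
  have htrans : ∀ a ∈ D, ∀ b ∈ D, ∃ g : G, g * a * g⁻¹ = b := by
    intro a ha b hb
    obtain ⟨d0, _, hDeq⟩ := c.hD.2.1
    rw [hDeq] at ha hb
    have h1 : IsConj a b := (IsConj.symm ha).trans hb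
    obtain ⟨g, hg⟩ := isConj_iff.mp h1
    exact ⟨g, hg⟩
  refine ⟨htrans, c.hD2, ?_⟩
  intro B hBD hblock
  rcases Set.subsingleton_or_nontrivial B with hs | hnt
  · exact Or.inl hs
  right
  obtain ⟨a₀, ha₀, b₀, hb₀, hne⟩ := hnt
  -- the congruence defined by the block
  let θ : G → G → Prop := fun x y =>
    ∃ g : G, x ∈ (fun z => g * z * g⁻¹) '' B ∧ y ∈ (fun z => g * z * g⁻¹) '' B
  have himg : ∀ g h : G, (fun z => h * z * h⁻¹) '' ((fun z => g * z * g⁻¹) '' B) =
      (fun z => (h * g) * z * (h * g)⁻¹) '' B := by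
    intro g h
    rw [Set.image_image]
    congr 1
    funext z
    rw [mul_inv_rev]; simp only [mul_assoc]
  have heq : ∀ g h : G, ∀ y, y ∈ (fun z => g * z * g⁻¹) '' B → y ∈ (fun z => h * z * h⁻¹) '' B →
      (fun z => g * z * g⁻¹) '' B = (fun z => h * z * h⁻¹) '' B := by
    intro g h y hyg hyh
    obtain ⟨b₁, hb₁, rfl⟩ := hyg
    obtain ⟨b₂, hb₂, hb₂e⟩ := hyh
    have hb₂e' : h * b₂ * h⁻¹ = g * b₁ * g⁻¹ := hb₂e
    rcases hblock (h⁻¹ * g) with h1 | h1
    · have h2 := himg (h⁻¹ * g) h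
      rw [h1] at h2
      rw [h2, mul_inv_cancel_left]
    · exfalso
      rw [Set.disjoint_left] at h1
      apply h1 ⟨b₁, hb₁, rfl⟩
      have e : (h⁻¹ * g) * b₁ * (h⁻¹ * g)⁻¹ = b₂ := by
        have : (h⁻¹ * g) * b₁ * (h⁻¹ * g)⁻¹ = h⁻¹ * (g * b₁ * g⁻¹) * h := by
          rw [mul_inv_rev, inv_inv]; simp only [mul_assoc]
        rw [this, ← hb₂e']
        group
      show (h⁻¹ * g) * b₁ * (h⁻¹ * g)⁻¹ ∈ B
      rw [e]; exact hb₂
  have hθ : Cong D θ := by
    refine ⟨?_, ?_, ?_, ?_, ?_⟩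
    · intro a ha
      obtain ⟨g, hg⟩ := htrans a₀ (hBD ha₀) a ha
      exact ⟨g, ⟨a₀, ha₀, hg⟩, ⟨a₀, ha₀, hg⟩⟩
    · rintro a b ⟨g, h1, h2⟩
      exact ⟨g, h2, h1⟩
    · rintro a b c' ⟨g, h1, h2⟩ ⟨h, h3, h4⟩
      refine ⟨h, ?_, h4⟩
      rw [← heq g h b h2 h3]
      exact h1
    · rintro a b ⟨g, ⟨x, hx, rfl⟩, ⟨y, hy, rfl⟩⟩
      exact ⟨hconjD g x (hBD hx), hconjD g y (hBD hy)⟩
    · rintro k a b ⟨g, h1, h2⟩
      refine ⟨k * g, ?_, ?_⟩
      · rw [← himg g k]; exact ⟨a, h1, rfl⟩
      · rw [← himg g k]; exact ⟨b, h2, rfl⟩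
  have hθB : ∀ x, θ x a₀ → x ∈ B := by
    rintro x ⟨g, h1, h2⟩
    have h3 : a₀ ∈ (fun z => (1 : G) * z * (1 : G)⁻¹) '' B := ⟨a₀, ha₀, by simp⟩
    have h4 := heq g 1 a₀ h2 h3
    rw [h4] at h1
    obtain ⟨y, hy, rfl⟩ := h1
    simpa using hy
  -- the normal subgroup generated by products of related pairs
  have hNn := hθ.closure_normal
  have hθab : θ a₀ b₀ := ⟨1, ⟨a₀, ha₀, by simp⟩, ⟨b₀, hb₀, by simp⟩⟩
  have hNc : ¬ Subgroup.closure {k : G | ∃ x y, θ x y ∧ k = x * y} ≤ Subgroup.center G := by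
    intro hle
    obtain ⟨e, he, hae⟩ := exists_not_commute c.hD c.hD2 (hBD ha₀)
    exact mul_not_mem_center hD3 (hBD ha₀) (hBD hb₀) he hne hae
      (hle (Subgroup.subset_closure ⟨a₀, b₀, hθab, rfl⟩))
  have hLN := c.le_of_normal _ hNc
  -- `G = L ⟨a₀⟩`
  have htop : L ⊔ Subgroup.zpowers a₀ = ⊤ := by
    by_cases haL : a₀ ∈ L
    · rw [eq_top_iff, ← c.hD.2.2, Subgroup.closure_le]
      intro e he
      obtain ⟨g, hg⟩ := htrans a₀ (hBD ha₀) e he
      rw [← hg]
      exact Subgroup.mem_sup_left (c.hn.conj_mem _ haL g)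
    · have h1 : L.relIndex (L ⊔ Subgroup.zpowers a₀) * (L ⊔ Subgroup.zpowers a₀).index = L.index :=
        Subgroup.relIndex_mul_index le_sup_left
      have h2 : L.relIndex (L ⊔ Subgroup.zpowers a₀) ≠ 1 := by
        intro h
        rw [Subgroup.relIndex_eq_one] at h
        exact haL (h (Subgroup.mem_sup_right (Subgroup.mem_zpowers a₀)))
      have h3 : L.relIndex (L ⊔ Subgroup.zpowers a₀) ≠ 0 := by
        intro h
        rw [h, zero_mul] at h1
        exact Subgroup.index_ne_zero_of_finite h1.symm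
      have h4 : (L ⊔ Subgroup.zpowers a₀).index ≠ 0 := Subgroup.index_ne_zero_of_finite
      have h5 : (L ⊔ Subgroup.zpowers a₀).index = 1 := by
        by_contra h
        have h6 : 2 ≤ (L ⊔ Subgroup.zpowers a₀).index := by omega
        have h7 : 2 ≤ L.relIndex (L ⊔ Subgroup.zpowers a₀) := by omega
        have := Nat.mul_le_mul h7 h6
        rw [h1] at this
        omega
      exact Subgroup.index_eq_one.mp h5
  -- every member of `D` is related to `a₀`
  apply Set.Subset.antisymm hBD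
  intro e he
  apply hθB
  obtain ⟨g, hg⟩ := htrans a₀ (hBD ha₀) e he
  have hgm : g ∈ (L : Set G) * (Subgroup.zpowers a₀ : Set G) := by
    rw [← Subgroup.normal_mul, htop]; exact Subgroup.mem_top g
  obtain ⟨l, hl, z, hz, hlz⟩ := Set.mem_mul.mp hgm
  obtain ⟨k, rfl⟩ := Subgroup.mem_zpowers_iff.mp hz
  have e1 : e = l * a₀ * l⁻¹ := by
    rw [← hg, ← hlz]
    have : a₀ ^ k * a₀ * (a₀ ^ k)⁻¹ = a₀ := by
      rw [← zpow_add_one, ← zpow_neg, ← zpow_add]; simp
    calc l * a₀ ^ k * a₀ * (l * a₀ ^ k)⁻¹ = l * (a₀ ^ k * a₀ * (a₀ ^ k)⁻¹) * l⁻¹ := by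
          rw [mul_inv_rev]; simp only [mul_assoc]
      _ = l * a₀ * l⁻¹ := by rw [this]
  rw [e1]
  exact hθ.conj_closure hD3 (hLN hl) (hBD ha₀)

end Ctx

end Cfsg.Agent.Lib.Helper27.TT
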