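import Mathlib
import Cfsg.Prelude
import Cfsg.Agent.Lib.Helper27.TTPrimitive
import Cfsg.Agent.Lib.Helper2.BurnsidePQ
import Cfsg.Agent.Lib.Helper12.Components

/-!
# Helper27: components of a group generated by a class of 3-transpositions

* `comp_conj_eq` / `comp_normal`: every component is normal (a component moved by `d ∈ D` would have
  all elements of order `≤ 3` modulo its centre, hence be soluble by Burnside);
* `QCtx`: a normal quasisimple subgroup `K`; `QCtx.mul_mem_of_commute`;
* `exists_quasisimple`: if `O₂(G), O₃(G)` are central and two different members of `D` commute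
  there is a normal quasisimple `L` with `F*(G) = L Z(G)`.
-/

set_option autoImplicit false

namespace Cfsg.Agent.Lib.Helper27.TT

open Cfsg
open scoped Pointwise

universe u

theorem exists_two_three_pow {n : ℕ} (hn : n ≠ 0)
    (h : ∀ q : ℕ, q.Prime → q ∣ n → q = 2 ∨ q = 3) : ∃ a b : ℕ, n = 2 ^ a * 3 ^ b := by
  obtain ⟨k, m, hm, rfl⟩ := Nat.exists_eq_two_pow_mul_odd hn
  have hm0 : m ≠ 0 := by rintro rfl; simp at hn
  have hprime : ∀ {q : ℕ}, q.Prime → q ∣ m → q = 3 := by
    intro q hq hqm
    rcases h q hq (Dvd.dvd.mul_left hqm _) with h2 | h3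
    · exfalso
      rw [h2] at hqm
      rcases hm with ⟨j, rfl⟩
      omega
    · exact h3
  exact ⟨k, _, by rw [← Nat.eq_prime_pow_of_unique_prime_dvd hm0 hprime]⟩

/-- A finite simple group all of whose elements have order at most 3 is commutative. -/
theorem comm_of_simple_of_orders {S : Type u} [Group S] [Finite S] [IsSimpleGroup S]
    (h : ∀ s : S, s ^ 2 = 1 ∨ s ^ 3 = 1) : ∀ a b : S, a * b = b * a := by
  have hcard : ∃ a b : ℕ, Nat.card S = 2 ^ a * 3 ^ b := by
    apply exists_two_three_pow Nat.card_pos.ne'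
    intro q hq hdvd
    have : Fact q.Prime := ⟨hq⟩
    obtain ⟨x, hx⟩ := exists_prime_orderOf_dvd_card' q hdvd
    rcases h x with h2 | h3
    · left
      have := orderOf_dvd_of_pow_eq_one h2
      rw [hx] at this
      exact (Nat.prime_dvd_prime_iff_eq hq Nat.prime_two).mp this
    · right
      have := orderOf_dvd_of_pow_eq_one h3
      rw [hx] at this
      exact (Nat.prime_dvd_prime_iff_eq hq Nat.prime_three).mp this
  have hs : Group.IsSolvable S :=
    Cfsg.Agent.Lib.Helper2.isSolvable_of_card_eq_prime_pow_mul_prime_pow 2 3 Nat.prime_two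
      Nat.prime_three _ S rfl hcard
  exact IsSimpleGroup.comm_iff_isSolvable.mpr hs

variable {G : Type u} [Group G] [Finite G] {D : Set G}

theorem fitting_le_center_of (hD : IsThreeTranspositionClass D)
    (h2 : Cfsg.pCore 2 G ≤ Subgroup.center G) (h3 : Cfsg.pCore 3 G ≤ Subgroup.center G) :
    Cfsg.fittingSubgroup G ≤ Subgroup.center G := by
  rw [Cfsg.Agent.Lib.Helper1.fittingSubgroup_eq_iSup_primes]
  refine iSup_le fun p => ?_
  have hp : (p : ℕ).Prime := p.2
  rcases Nat.lt_or_ge 3 (p : ℕ) with h | h
  · exact pCore_le_center_of_three_lt hD hp h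
  · have h2' := hp.two_le
    rcases (by omega : (p : ℕ) = 2 ∨ (p : ℕ) = 3) with h1 | h1
    · rw [h1]; exact h2
    · rw [h1]; exact h3

/-- A component is normalized by every member of `D`. -/
theorem comp_conj_eq (hD : IsThreeTranspositionClass D) {K : Subgroup G}
    (hK : Cfsg.IsComponent K) {d : G} (hd : d ∈ D) :
    K.map (MulAut.conj d).toMonoidHom = K := by
  by_contra hne
  have hK' := Cfsg.Agent.Lib.Helper9.isComponent_conj hK d
  have hcomm := Cfsg.Agent.Lib.Helper9.comp_commutator_eq_bot_of_ne hK hK' (Ne.symm hne)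
  rw [Subgroup.commutator_eq_bot_iff_le_centralizer] at hcomm
  have id := inv_of_mem hD.1 hd
  -- every element of `K` has square or cube in the centre
  have hpow : ∀ x : ↥K, x ^ 2 ∈ Subgroup.center ↥K ∨ x ^ 3 ∈ Subgroup.center ↥K := by
    intro x
    have hy : d * (x : G) * d⁻¹ ∈ K.map (MulAut.conj d).toMonoidHom :=
      Subgroup.mem_map.mpr ⟨x, x.2, rfl⟩
    have hxy : Commute (d * (x : G) * d⁻¹) ((x : G)⁻¹) := by
      have h1 := Subgroup.mem_centralizer_iff.mp (hcomm (K.inv_mem x.2)) _ hy
      exact h1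
    have he : (x : G) * d * (x : G)⁻¹ ∈ D := conj_mem_of_class hD _ hd
    have hce : d * (x : G) * d⁻¹ * (x : G)⁻¹ = d * ((x : G) * d * (x : G)⁻¹) := by
      rw [id]; simp only [mul_assoc]
    have key : ∀ k : ℕ, (d * ((x : G) * d * (x : G)⁻¹)) ^ k = 1 →
        x ^ k ∈ Subgroup.center ↥K := by
      intro k hk
      rw [← hce, hxy.mul_pow, inv_pow, mul_inv_eq_one] at hk
      -- `x ^ k = (d x d⁻¹) ^ k` lies in the conjugate component
      have hmem : (x : G) ^ k ∈ K.map (MulAut.conj d).toMonoidHom := by
        rw [← hk]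
        exact Subgroup.pow_mem _ hy k
      rw [Subgroup.mem_center_iff]
      intro g
      apply Subtype.ext
      rw [Subgroup.coe_mul, Subgroup.coe_mul, Subgroup.coe_pow]
      exact (Subgroup.mem_centralizer_iff.mp (hcomm g.2) _ hmem).symm
    rcases hD.1.2 d hd _ he with h | h
    · exact Or.inl (key 2 h)
    · exact Or.inr (key 3 h)
  have hsimple : IsSimpleGroup (↥K ⧸ Subgroup.center ↥K) := hK.2.2
  have hord : ∀ s : ↥K ⧸ Subgroup.center ↥K, s ^ 2 = 1 ∨ s ^ 3 = 1 := by
    intro s
    induction s using QuotientGroup.induction_on with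
    | H x =>
      rcases hpow x with h | h
      · left
        rw [← QuotientGroup.mk_pow]
        exact (QuotientGroup.eq_one_iff _).mpr h
      · right
        rw [← QuotientGroup.mk_pow]
        exact (QuotientGroup.eq_one_iff _).mpr h
  have hc := comm_of_simple_of_orders hord
  exact Cfsg.Agent.Lib.Helper12.quasisimple_quotient_not_comm hK.2 ⟨⟨hc⟩⟩

theorem comp_normal (hD : IsThreeTranspositionClass D) {K : Subgroup G}
    (hK : Cfsg.IsComponent K) : K.Normal := by
  rw [← Subgroup.normalizer_eq_top_iff, eq_top_iff, ← hD.2.2, Subgroup.closure_le]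
  intro d hd
  have h := comp_conj_eq hD hK hd
  rw [SetLike.mem_coe, Subgroup.mem_normalizer_iff]
  intro x
  constructor
  · intro hx
    rw [← h]
    exact Subgroup.mem_map.mpr ⟨x, hx, rfl⟩
  · intro hx
    rw [← h] at hx
    obtain ⟨y, hy, hyx⟩ := Subgroup.mem_map.mp hx
    have : y = x := by
      have h1 : d * y * d⁻¹ = d * x * d⁻¹ := hyx
      exact mul_left_cancel (mul_right_cancel h1)
    rw [← this]; exact hy

/-- A normal quasisimple subgroup of a group generated by a class of 3-transpositions. -/
structure QCtx (D : Set G) (K : Subgroup G) : Prop where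
  hD : IsThreeTranspositionClass D
  hD2 : ∃ a ∈ D, ∃ b ∈ D, a ≠ b
  hn : K.Normal
  hK : Cfsg.IsQuasisimple K

namespace QCtx

variable {K : Subgroup G}

theorem not_le_centralizer (c : QCtx D K) : ¬ K ≤ Subgroup.centralizer (K : Set G) := by
  intro h
  have h1 : ⁅K, K⁆ = ⊥ := Subgroup.commutator_eq_bot_iff_le_centralizer.mpr h
  rw [Cfsg.Agent.Lib.Helper17.commutator_self_of_isQuasisimple c.hK] at h1
  have := Cfsg.Agent.Lib.Helper9.qs_nontrivial c.hK
  rw [h1] at this
  exact not_nontrivial _ this

theorem not_mem_centralizer (c : QCtx D K) {a : G} (ha : a ∈ D) :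
    a ∉ Subgroup.centralizer (K : Set G) := by
  have := c.hn
  intro h
  apply c.not_le_centralizer
  have hCn : (Subgroup.centralizer (K : Set G)).Normal := Subgroup.normal_centralizer
  have htop : (⊤ : Subgroup G) ≤ Subgroup.centralizer (K : Set G) := by
    rw [← c.hD.2.2, Subgroup.closure_le]
    intro e he
    obtain ⟨d0, _, hDeq⟩ := c.hD.2.1
    rw [hDeq] at ha he
    have h1 : IsConj a e := (IsConj.symm ha).trans he
    obtain ⟨g, hg⟩ := isConj_iff.mp h1
    rw [← hg]
    exact hCn.conj_mem a h g
  exact le_top.trans htop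

theorem commutator_zpowers_eq (c : QCtx D K) {a : G} (ha : a ∈ D) :
    ⁅K, Subgroup.zpowers a⁆ = K := by
  have := c.hn
  have hY : Subgroup.zpowers a ≤ Subgroup.normalizer (K : Set G) := by
    rw [Subgroup.normalizer_eq_top]; exact le_top
  rcases Cfsg.Agent.Lib.Helper17.commutator_eq_self_or_bot_of_isQuasisimple c.hK hY with h | h
  · exact h
  · exfalso
    rw [Subgroup.commutator_comm K (Subgroup.zpowers a),
      Subgroup.commutator_eq_bot_iff_le_centralizer] at h
    exact c.not_mem_centralizer ha (h (Subgroup.mem_zpowers a))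

/-- Commuting members of `D` have their product in `K`. -/
theorem mul_mem_of_commute (c : QCtx D K) {a b : G} (ha : a ∈ D) (hb : b ∈ D)
    (hab : Commute a b) : a * b ∈ K := by
  have := c.hn
  have hD3 := c.hD.1
  by_contra hnot
  have hcl : ∀ x ∈ K, Commute b (x * a * x⁻¹) := by
    intro x hx
    by_contra hbe
    have he : x * a * x⁻¹ ∈ D := conj_mem_of_class c.hD x ha
    have h3 := pow_three_of_not_commute hD3 hb he hbe
    have h2 : (b * a) * (b * a) = 1 :=
      mul_mul_self_of_commute hab.symm (mul_self_of_mem hD3 hb) (mul_self_of_mem hD3 ha)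
    have hπ : (QuotientGroup.mk' K) (x * a * x⁻¹) = (QuotientGroup.mk' K) a := by
      have hx1 : (QuotientGroup.mk' K) x = 1 := (QuotientGroup.eq_one_iff x).mpr hx
      rw [map_mul, map_mul, map_inv, hx1, one_mul, inv_one, mul_one]
    have h3' : ((QuotientGroup.mk' K) (b * a)) ^ 3 = 1 := by
      have := congrArg (QuotientGroup.mk' K) h3
      rw [map_pow, map_mul, hπ, map_one, ← map_mul] at this
      exact this
    have h2' : ((QuotientGroup.mk' K) (b * a)) ^ 2 = 1 := by
      have := congrArg (QuotientGroup.mk' K) h2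
      rw [map_mul, map_one, ← pow_two] at this
      exact this
    have h1' : (QuotientGroup.mk' K) (b * a) = 1 := by
      have e : ((QuotientGroup.mk' K) (b * a)) ^ 3 =
          ((QuotientGroup.mk' K) (b * a)) ^ 2 * (QuotientGroup.mk' K) (b * a) := pow_succ _ 2
      rw [h3', h2', one_mul] at e
      exact e.symm
    have h4 : b * a ∈ K := (QuotientGroup.eq_one_iff (b * a)).mp h1'
    rw [← hab.eq] at h4
    exact hnot h4
  have hbC : b ∈ Subgroup.centralizer (K : Set G) := by
    have hle : K ≤ Subgroup.centralizer ({b} : Set G) := by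
      rw [← c.commutator_zpowers_eq ha, Subgroup.commutator_le]
      intro x hx y hy
      obtain ⟨k, rfl⟩ := Subgroup.mem_zpowers_iff.mp hy
      rw [Subgroup.mem_centralizer_iff]
      intro h hh
      rw [Set.mem_singleton_iff] at hh
      rw [hh]
      have h1 : Commute b (x * a ^ k * x⁻¹) := by
        rw [← conj_zpow]
        exact (hcl x hx).zpow_right k
      have h2 : Commute b (a ^ k)⁻¹ := (hab.symm.zpow_right k).inv_right
      have h3 : Commute b (x * a ^ k * x⁻¹ * (a ^ k)⁻¹) := h1.mul_right h2
      exact h3.eq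
    rw [Subgroup.mem_centralizer_iff]
    intro y hy
    have := Subgroup.mem_centralizer_iff.mp (hle hy) b (Set.mem_singleton b)
    exact this.symm
  exact c.not_mem_centralizer hb hbC

end QCtx

/-- **Existence of `L`**: if `O₂(G)`, `O₃(G)` are central and two different members of `D`
commute, then `G` has a normal quasisimple subgroup `L` with `F*(G) = L Z(G)`. -/
theorem exists_quasisimple (hD : IsThreeTranspositionClass D)
    (h2 : Cfsg.pCore 2 G ≤ Subgroup.center G) (h3 : Cfsg.pCore 3 G ≤ Subgroup.center G)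
    (hw : ∃ a ∈ D, ∃ b ∈ D, a ≠ b ∧ Commute a b) :
    ∃ L : Subgroup G, L.Normal ∧ Cfsg.IsQuasisimple L ∧
      Cfsg.generalizedFittingSubgroup G = L ⊔ Subgroup.center G := by
  obtain ⟨a, ha, b, hb, hab, hcom⟩ := hw
  have hD2 : ∃ a ∈ D, ∃ b ∈ D, a ≠ b := ⟨a, ha, b, hb, hab⟩
  have hFZ := fitting_le_center_of hD h2 h3
  obtain ⟨e, he, hae⟩ := exists_not_commute hD hD2 ha
  -- the centre lies in the Fitting subgroup
  have hZF : Subgroup.center G ≤ Cfsg.fittingSubgroup G := by
    apply Cfsg.Agent.Lib.Helper1.le_fittingSubgroup inferInstance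
    apply Cfsg.Agent.Lib.Helper1.isNilpotent_of_commutator_commutator_eq_bot
    have h5 : ⁅Subgroup.center G, Subgroup.center G⁆ = ⊥ := by
      rw [Subgroup.commutator_eq_bot_iff_le_centralizer]
      exact Subgroup.center_le_centralizer _
    rw [h5, Subgroup.commutator_bot_left]
  have hFeq : Cfsg.fittingSubgroup G = Subgroup.center G := le_antisymm hFZ hZF
  -- there is a component
  have hex : ∃ K : Subgroup G, Cfsg.IsComponent K := by
    by_contra hno
    push Not at hno
    have hlayer : Cfsg.layer G = ⊥ := by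
      unfold Cfsg.layer
      rw [eq_bot_iff]
      apply sSup_le
      intro K hK
      exact absurd hK (hno K)
    have hgfs : Cfsg.generalizedFittingSubgroup G ≤ Subgroup.center G := by
      unfold Cfsg.generalizedFittingSubgroup
      rw [hlayer, bot_sup_eq]; exact hFZ
    have h1 : a ∈ Subgroup.centralizer (Cfsg.generalizedFittingSubgroup G : Set G) := by
      rw [Subgroup.mem_centralizer_iff]
      intro y hy
      exact (Subgroup.mem_center_iff.mp (hgfs hy) a).symm
    have h2' := hgfs (Cfsg.Agent.Lib.Helper9.centralizer_gfs_le h1)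
    exact hae ((Subgroup.mem_center_iff.mp h2' e).symm)
  obtain ⟨K, hK⟩ := hex
  have hKn : K.Normal := comp_normal hD hK
  have cK : QCtx D K := ⟨hD, hD2, hKn, hK.2⟩
  -- uniqueness of the component
  have huniq : ∀ K' : Subgroup G, Cfsg.IsComponent K' → K' = K := by
    intro K' hK'
    by_contra hne
    have hK'n : K'.Normal := comp_normal hD hK'
    have cK' : QCtx D K' := ⟨hD, hD2, hK'n, hK'.2⟩
    have h1 := cK.mul_mem_of_commute ha hb hcom
    have h1' := cK'.mul_mem_of_commute ha hb hcom
    have hcomm := Cfsg.Agent.Lib.Helper9.comp_commutator_eq_bot_of_ne hK hK' (Ne.symm hne)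
    rw [Subgroup.commutator_eq_bot_iff_le_centralizer] at hcomm
    -- `a * b` lies in the centre of `K'`, hence in the Fitting subgroup
    have hA : K' ⊓ Subgroup.centralizer (K' : Set G) ≤ Cfsg.fittingSubgroup G := by
      have hAn : (K' ⊓ Subgroup.centralizer (K' : Set G)).Normal := inferInstance
      apply Cfsg.Agent.Lib.Helper1.le_fittingSubgroup hAn
      apply Cfsg.Agent.Lib.Helper1.isNilpotent_of_commutator_commutator_eq_bot
      have h5 : ⁅K' ⊓ Subgroup.centralizer (K' : Set G),
          K' ⊓ Subgroup.centralizer (K' : Set G)⁆ = ⊥ := by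
        rw [Subgroup.commutator_eq_bot_iff_le_centralizer]
        exact inf_le_right.trans (Subgroup.centralizer_le inf_le_left)
      rw [h5, Subgroup.commutator_bot_left]
    have h6 : a * b ∈ Subgroup.center G := hFZ (hA ⟨h1', hcomm h1⟩)
    exact mul_not_mem_center hD.1 ha hb he hab hae h6
  have hlayer : Cfsg.layer G = K := by
    unfold Cfsg.layer
    apply le_antisymm
    · apply sSup_le
      intro K' hK'
      rw [huniq K' hK']
    · exact le_sSup hK
  refine ⟨K, hKn, hK.2, ?_⟩
  unfold Cfsg.generalizedFittingSubgroup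
  rw [hlayer, hFeq]

end Cfsg.Agent.Lib.Helper27.TT
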