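import Mathlib
import Cfsg.Prelude
import Cfsg.Agent.Lib.Helper27.TTComponents

/-!
# Helper27: primitivity of a class of 3-transpositions (continued)

* `primitive_of_minimal`: if every non-central normal subgroup contains `K` and `G = K⟨a⟩` for
  `a ∈ D`, then `G` is primitive on `D`;
* `orbit_block`: the orbits of a normal subgroup on `D` are blocks;
* `pCore_le_center_of_primitive`, `connected_of_primitive`;
* `primitive_iff` and `simple_commutator_iff` (= the two halves of S5361).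
-/

set_option autoImplicit false

namespace Cfsg.Agent.Lib.Helper27.TT

open Cfsg
open scoped Pointwise

universe u

variable {G : Type u} [Group G] [Finite G] {D : Set G}

theorem class_trans (hD : IsThreeTranspositionClass D) :
    ∀ a ∈ D, ∀ b ∈ D, ∃ g : G, g * a * g⁻¹ = b := by
  intro a ha b hb
  obtain ⟨d0, _, hDeq⟩ := hD.2.1
  rw [hDeq] at ha hb
  have h1 : IsConj a b := (IsConj.symm ha).trans hb
  obtain ⟨g, hg⟩ := isConj_iff.mp h1
  exact ⟨g, hg⟩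

/-- Primitivity from a "minimal non-central normal subgroup" `K` with `G = K⟨a⟩`. -/
theorem primitive_of_minimal (hD : IsThreeTranspositionClass D)
    (hD2 : ∃ a ∈ D, ∃ b ∈ D, a ≠ b) (K : Subgroup G) [K.Normal]
    (hK : ∀ N : Subgroup G, N.Normal → ¬ N ≤ Subgroup.center G → K ≤ N)
    (htop : ∀ a ∈ D, K ⊔ Subgroup.zpowers a = ⊤) : Cfsg.IsPrimitiveUnderConj D := by
  have hD3 := hD.1
  have hconjD : ∀ g : G, ∀ d ∈ D, g * d * g⁻¹ ∈ D := fun g d hd => conj_mem_of_class hD g hd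
  have htrans := class_trans hD
  refine ⟨htrans, hD2, ?_⟩
  intro B hBD hblock
  rcases Set.subsingleton_or_nontrivial B with hs | hnt
  · exact Or.inl hs
  right
  obtain ⟨a₀, ha₀, b₀, hb₀, hne⟩ := hnt
  let θ : G → G → Prop := fun x y =>
    ∃ g : G, x ∈ (fun z => g * z * g⁻¹) '' B ∧ y ∈ (fun z => g * z * g⁻¹) '' B
  have himg : ∀ g h : G, (fun z => h * z * h⁻¹) '' ((fun z => g * z * g⁻¹) '' B) =
      (fun z => (h * g) * z * (h * g)⁻¹) '' B := by
    intro g h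
    rw [Set.image_image]
    congr 1
    funext z
    rw [mul_inv_rev]; simp only [mul_assoc]
  have heq : ∀ g h : G, ∀ y, y ∈ (fun z => g * z * g⁻¹) '' B → y ∈ (fun z => h * z * h⁻¹) '' B →
      (fun z => g * z * g⁻¹) '' B = (fun z => h * z * h⁻¹) '' B := by
    intro g h y hyg hyh
    obtain ⟨b₁, hb₁, rfl⟩ := hyg
    obtain ⟨b₂, hb₂, hb₂e⟩ := hyh
    have hb₂e' : h * b₂ * h⁻¹ = g * b₁ * g⁻¹ := hb₂e
    rcases hblock (h⁻¹ * g) with h1 | h1
    · have h2 := himg (h⁻¹ * g) h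
      rw [h1] at h2
      rw [h2, mul_inv_cancel_left]
    · exfalso
      rw [Set.disjoint_left] at h1
      apply h1 ⟨b₁, hb₁, rfl⟩
      have e : (h⁻¹ * g) * b₁ * (h⁻¹ * g)⁻¹ = b₂ := by
        have : (h⁻¹ * g) * b₁ * (h⁻¹ * g)⁻¹ = h⁻¹ * (g * b₁ * g⁻¹) * h := by
          rw [mul_inv_rev, inv_inv]; simp only [mul_assoc]
        rw [this, ← hb₂e']
        group
      show (h⁻¹ * g) * b₁ * (h⁻¹ * g)⁻¹ ∈ B
      rw [e]; exact hb₂
  have hθ : Cong D θ := by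
    refine ⟨?_, ?_, ?_, ?_, ?_⟩
    · intro a ha
      obtain ⟨g, hg⟩ := htrans a₀ (hBD ha₀) a ha
      exact ⟨g, ⟨a₀, ha₀, hg⟩, ⟨a₀, ha₀, hg⟩⟩
    · rintro a b ⟨g, h1, h2⟩
      exact ⟨g, h2, h1⟩
    · rintro a b c' ⟨g, h1, h2⟩ ⟨h, h3, h4⟩
      refine ⟨h, ?_, h4⟩
      rw [← heq g h b h2 h3]
      exact h1
    · rintro a b ⟨g, ⟨x, hx, rfl⟩, ⟨y, hy, rfl⟩⟩
      exact ⟨hconjD g x (hBD hx), hconjD g y (hBD hy)⟩
    · rintro k a b ⟨g, h1, h2⟩
      refine ⟨k * g, ?_, ?_⟩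
      · rw [← himg g k]; exact ⟨a, h1, rfl⟩
      · rw [← himg g k]; exact ⟨b, h2, rfl⟩
  have hθB : ∀ x, θ x a₀ → x ∈ B := by
    rintro x ⟨g, h1, h2⟩
    have h3 : a₀ ∈ (fun z => (1 : G) * z * (1 : G)⁻¹) '' B := ⟨a₀, ha₀, by simp⟩
    have h4 := heq g 1 a₀ h2 h3
    rw [h4] at h1
    obtain ⟨y, hy, rfl⟩ := h1
    simpa using hy
  have hNn := hθ.closure_normal
  have hθab : θ a₀ b₀ := ⟨1, ⟨a₀, ha₀, by simp⟩, ⟨b₀, hb₀, by simp⟩⟩
  have hNc : ¬ Subgroup.closure {k : G | ∃ x y, θ x y ∧ k = x * y} ≤ Subgroup.center G := by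
    intro hle
    obtain ⟨e, he, hae⟩ := exists_not_commute hD hD2 (hBD ha₀)
    exact mul_not_mem_center hD3 (hBD ha₀) (hBD hb₀) he hne hae
      (hle (Subgroup.subset_closure ⟨a₀, b₀, hθab, rfl⟩))
  have hLN := hK _ hNn hNc
  apply Set.Subset.antisymm hBD
  intro e he
  apply hθB
  obtain ⟨g, hg⟩ := htrans a₀ (hBD ha₀) e he
  have hgm : g ∈ (K : Set G) * (Subgroup.zpowers a₀ : Set G) := by
    rw [← Subgroup.normal_mul, htop a₀ (hBD ha₀)]; exact Subgroup.mem_top g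
  obtain ⟨l, hl, z, hz, hlz⟩ := Set.mem_mul.mp hgm
  obtain ⟨k, rfl⟩ := Subgroup.mem_zpowers_iff.mp hz
  have e1 : e = l * a₀ * l⁻¹ := by
    rw [← hg, ← hlz]
    have : a₀ ^ k * a₀ * (a₀ ^ k)⁻¹ = a₀ := by
      rw [← zpow_add_one, ← zpow_neg, ← zpow_add]; simp
    calc l * a₀ ^ k * a₀ * (l * a₀ ^ k)⁻¹ = l * (a₀ ^ k * a₀ * (a₀ ^ k)⁻¹) * l⁻¹ := by
          rw [mul_inv_rev]; simp only [mul_assoc]
      _ = l * a₀ * l⁻¹ := by rw [this]
  rw [e1]
  exact hθ.conj_closure hD3 (hLN hl) (hBD ha₀)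

/-- The orbits of a normal subgroup on `D` are blocks. -/
theorem orbit_block (N : Subgroup G) [hN : N.Normal] (d : G) (g : G) :
    (fun x => g * x * g⁻¹) '' {x | ∃ n ∈ N, x = n * d * n⁻¹} = {x | ∃ n ∈ N, x = n * d * n⁻¹} ∨
      Disjoint ((fun x => g * x * g⁻¹) '' {x | ∃ n ∈ N, x = n * d * n⁻¹})
        {x | ∃ n ∈ N, x = n * d * n⁻¹} := by
  by_cases hdis : Disjoint ((fun x => g * x * g⁻¹) '' {x | ∃ n ∈ N, x = n * d * n⁻¹})
        {x | ∃ n ∈ N, x = n * d * n⁻¹}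
  · exact Or.inr hdis
  left
  rw [Set.not_disjoint_iff] at hdis
  obtain ⟨x, ⟨_, ⟨n₁, hn₁, rfl⟩, hx1⟩, ⟨n₂, hn₂, hx2⟩⟩ := hdis
  have hx1' : g * (n₁ * d * n₁⁻¹) * g⁻¹ = x := hx1
  -- `g d g⁻¹ = m d m⁻¹` with `m ∈ N`
  have hgd : g * d * g⁻¹ = (g * n₁⁻¹ * g⁻¹ * n₂) * d * (g * n₁⁻¹ * g⁻¹ * n₂)⁻¹ := by
    have h1 : g * d * g⁻¹ = (g * n₁⁻¹ * g⁻¹) * x * (g * n₁⁻¹ * g⁻¹)⁻¹ := by
      rw [← hx1']; group
    rw [h1, hx2]; group
  have hm : g * n₁⁻¹ * g⁻¹ * n₂ ∈ N :=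
    N.mul_mem (hN.conj_mem _ (N.inv_mem hn₁) g) hn₂
  ext y
  constructor
  · rintro ⟨_, ⟨n, hn, rfl⟩, rfl⟩
    refine ⟨(g * n * g⁻¹) * (g * n₁⁻¹ * g⁻¹ * n₂), N.mul_mem (hN.conj_mem _ hn g) hm, ?_⟩
    have h1 : g * (n * d * n⁻¹) * g⁻¹ = (g * n * g⁻¹) * (g * d * g⁻¹) * (g * n * g⁻¹)⁻¹ := by group
    show g * (n * d * n⁻¹) * g⁻¹ = _
    rw [h1, hgd]; group
  · rintro ⟨n, hn, rfl⟩
    refine ⟨g⁻¹ * (n * (g * n₁⁻¹ * g⁻¹ * n₂)⁻¹) * g * d *
      (g⁻¹ * (n * (g * n₁⁻¹ * g⁻¹ * n₂)⁻¹) * g)⁻¹, ⟨_, ?_, rfl⟩, ?_⟩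
    · have := hN.conj_mem _ (N.mul_mem hn (N.inv_mem hm)) g⁻¹
      rw [inv_inv] at this
      exact this
    · show g * _ * g⁻¹ = n * d * n⁻¹
      have h2 : d = (g * n₁⁻¹ * g⁻¹ * n₂)⁻¹ * (g * d * g⁻¹) * (g * n₁⁻¹ * g⁻¹ * n₂) := by
        rw [hgd]; group
      have h3 : n * d * n⁻¹ = (n * (g * n₁⁻¹ * g⁻¹ * n₂)⁻¹) * (g * d * g⁻¹) *
          (n * (g * n₁⁻¹ * g⁻¹ * n₂)⁻¹)⁻¹ := by
        conv_lhs => rw [h2]
        group
      rw [h3]; group

/-- In a primitive class of 3-transpositions, a normal `p`-subgroup (`p = 2` or `3`, width at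
least `2` for `p = 3`) is central. -/
theorem pCore_le_center_of_primitive (hD : IsThreeTranspositionClass D)
    (hprim : Cfsg.IsPrimitiveUnderConj D) (hw : ∃ a ∈ D, ∃ b ∈ D, a ≠ b ∧ Commute a b)
    {p : ℕ} (hp : p = 2 ∨ p = 3) : Cfsg.pCore p G ≤ Subgroup.center G := by
  have hpp : p.Prime := by rcases hp with h | h <;> rw [h] <;> norm_num
  have : Fact p.Prime := ⟨hpp⟩
  have hQn : (Cfsg.pCore p G).Normal := Cfsg.Agent.Lib.Helper16.pCore_normal
  have hQp : IsPGroup p (Cfsg.pCore p G) := Cfsg.Agent.Lib.Helper16.pCore_isPGroup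
  have hD3 := hD.1
  have hconjD : ∀ g : G, ∀ d ∈ D, g * d * g⁻¹ ∈ D := fun g d hd => conj_mem_of_class hD g hd
  obtain ⟨a, ha, b, hb, hab, hcom⟩ := hw
  have hD2 : ∃ a ∈ D, ∃ b ∈ D, a ≠ b := ⟨a, ha, b, hb, hab⟩
  -- each `d ∈ D` is centralized
  have hcent : ∀ d ∈ D, ∀ n ∈ Cfsg.pCore p G, n * d * n⁻¹ = d := by
    intro d hd n hn
    have hBD : {x | ∃ n ∈ Cfsg.pCore p G, x = n * d * n⁻¹} ⊆ D := by
      rintro x ⟨m, _, rfl⟩; exact hconjD m d hd
    rcases hprim.2.2 _ hBD (orbit_block (Cfsg.pCore p G) d) with hs | hall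
    · exact hs ⟨n, hn, rfl⟩ ⟨1, Subgroup.one_mem _, by simp⟩
    · exfalso
      -- every member of `D` lies in `d * O_p(G)`
      have hcoset : ∀ e ∈ D, d⁻¹ * e ∈ Cfsg.pCore p G := by
        intro e he
        rw [← hall] at he
        obtain ⟨m, hm, rfl⟩ := he
        have : d⁻¹ * (m * d * m⁻¹) = (d⁻¹ * m * d⁻¹⁻¹) * m⁻¹ := by group
        rw [this]
        exact Subgroup.mul_mem _ (hQn.conj_mem m hm d⁻¹) (Subgroup.inv_mem _ hm)
      rcases hp with h2 | h3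
      · -- `p = 2`: a non-commuting partner gives an element of order 3 in a 2-group
        obtain ⟨e, he, hde⟩ := exists_not_commute hD hD2 hd
        have h3' := pow_three_of_not_commute hD3 hd he hde
        have hmem := hcoset e he
        rw [inv_of_mem hD3 hd] at hmem
        obtain ⟨k, hk⟩ := hQp ⟨_, hmem⟩
        have hk' : (d * e) ^ (p ^ k) = 1 := by
          have := congrArg Subtype.val hk
          simpa using this
        have ho1 := orderOf_dvd_of_pow_eq_one hk'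
        have ho2 := orderOf_dvd_of_pow_eq_one h3'
        have hcop : Nat.Coprime (p ^ k) 3 := by
          rw [h2]; exact Nat.Coprime.pow_left k (by norm_num)
        have h1 : d * e = 1 := orderOf_eq_one_iff.mp (Nat.eq_one_of_dvd_coprimes hcop ho1 ho2)
        have h4 := eq_inv_of_mul_eq_one_left h1
        rw [inv_of_mem hD3 he] at h4
        rw [h4] at hde
        exact hde (Commute.refl e)
      · -- `p = 3`: the product of two commuting members is an involution in a 3-group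
        have h1 := hcoset a ha
        have h2 := hcoset b hb
        have h5 : a⁻¹ * b ∈ Cfsg.pCore p G := by
          have := Subgroup.mul_mem _ (Subgroup.inv_mem _ h1) h2
          have e : (d⁻¹ * a)⁻¹ * (d⁻¹ * b) = a⁻¹ * b := by group
          rw [e] at this; exact this
        rw [inv_of_mem hD3 ha] at h5
        have hsq : (a * b) * (a * b) = 1 :=
          mul_mul_self_of_commute hcom (mul_self_of_mem hD3 ha) (mul_self_of_mem hD3 hb)
        obtain ⟨k, hk⟩ := hQp ⟨a * b, h5⟩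
        have hk' : (a * b) ^ (p ^ k) = 1 := by
          have := congrArg Subtype.val hk
          simpa using this
        have ho1 := orderOf_dvd_of_pow_eq_one hk'
        have ho2 : orderOf (a * b) ∣ 2 := orderOf_dvd_of_pow_eq_one (by rw [pow_two]; exact hsq)
        have hcop : Nat.Coprime (p ^ k) 2 := by
          rw [h3]; exact Nat.Coprime.pow_left k (by norm_num)
        have hab1 : a * b = 1 := orderOf_eq_one_iff.mp (Nat.eq_one_of_dvd_coprimes hcop ho1 ho2)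
        have := eq_inv_of_mul_eq_one_left hab1
        rw [inv_of_mem hD3 hb] at this
        exact hab this
  intro n hn
  have hle : (⊤ : Subgroup G) ≤ Subgroup.centralizer ({n} : Set G) := by
    rw [← hD.2.2, Subgroup.closure_le]
    intro d hd
    rw [SetLike.mem_coe, Subgroup.mem_centralizer_iff]
    intro h hh
    rw [Set.mem_singleton_iff] at hh
    rw [hh]
    have h1 := hcent d hd n hn
    calc n * d = (n * d * n⁻¹) * n := by group
      _ = d * n := by rw [h1]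
  rw [Subgroup.mem_center_iff]
  intro g
  have := hle (Subgroup.mem_top g)
  rw [Subgroup.mem_centralizer_iff] at this
  exact (this n (Set.mem_singleton n)).symm

/-- conjugation as a graph homomorphism of the commuting graph -/
def conjHom (hc : ∀ g : G, ∀ d ∈ D, g * d * g⁻¹ ∈ D) (g : G) :
    Cfsg.commutingGraph D →g Cfsg.commutingGraph D where
  toFun x := ⟨g * (x : G) * g⁻¹, hc g x x.2⟩
  map_rel' := by
    intro x y hxy
    unfold Cfsg.commutingGraph at hxy ⊢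
    rw [SimpleGraph.fromRel_adj] at hxy ⊢
    refine ⟨?_, ?_⟩
    · intro h
      apply hxy.1
      have h1 : g * (x : G) * g⁻¹ = g * (y : G) * g⁻¹ := congrArg Subtype.val h
      exact Subtype.ext (mul_left_cancel (mul_right_cancel h1))
    · rcases hxy.2 with h | h
      · exact Or.inl ((Commute.conj_iff g).mpr h)
      · exact Or.inr ((Commute.conj_iff g).mpr h)

/-- In a primitive class of 3-transpositions of width at least 2 the commuting graph is
connected. -/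
theorem connected_of_primitive (hD : IsThreeTranspositionClass D)
    (hprim : Cfsg.IsPrimitiveUnderConj D) (hw : ∃ a ∈ D, ∃ b ∈ D, a ≠ b ∧ Commute a b) :
    (Cfsg.commutingGraph D).Connected := by
  have hD3 := hD.1
  have hconjD : ∀ g : G, ∀ d ∈ D, g * d * g⁻¹ ∈ D := fun g d hd => conj_mem_of_class hD g hd
  obtain ⟨a, ha, b, hb, hab, hcom⟩ := hw
  let B : Set G := {e | ∃ he : e ∈ D, (Cfsg.commutingGraph D).Reachable ⟨a, ha⟩ ⟨e, he⟩}
  have hBD : B ⊆ D := fun e he => he.1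
  have haB : a ∈ B := ⟨ha, SimpleGraph.Reachable.refl _⟩
  have hbB : b ∈ B := by
    refine ⟨hb, SimpleGraph.Adj.reachable ?_⟩
    unfold Cfsg.commutingGraph
    rw [SimpleGraph.fromRel_adj]
    exact ⟨fun h => hab (congrArg Subtype.val h), Or.inl hcom⟩
  have hblock : ∀ g : G, (fun x => g * x * g⁻¹) '' B = B ∨
      Disjoint ((fun x => g * x * g⁻¹) '' B) B := by
    intro g
    by_cases hdis : Disjoint ((fun x => g * x * g⁻¹) '' B) B
    · exact Or.inr hdis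
    left
    rw [Set.not_disjoint_iff] at hdis
    obtain ⟨x, ⟨y, ⟨hyD, hy⟩, rfl⟩, ⟨hxD, hx⟩⟩ := hdis
    -- `g a g⁻¹` is reachable from `a`
    have h1 : (Cfsg.commutingGraph D).Reachable ⟨g * a * g⁻¹, hconjD g a ha⟩
        ⟨g * y * g⁻¹, hxD⟩ := hy.map (conjHom hconjD g)
    have h2 : (Cfsg.commutingGraph D).Reachable ⟨a, ha⟩ ⟨g * a * g⁻¹, hconjD g a ha⟩ :=
      hx.trans h1.symm
    ext z
    constructor
    · rintro ⟨w, ⟨hwD, hw⟩, rfl⟩
      exact ⟨hconjD g w hwD, h2.trans (hw.map (conjHom hconjD g))⟩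
    · rintro ⟨hzD, hz⟩
      refine ⟨g⁻¹ * z * g⁻¹⁻¹, ⟨hconjD g⁻¹ z hzD, ?_⟩, by group⟩
      have h3 : (Cfsg.commutingGraph D).Reachable
          ⟨g⁻¹ * (g * a * g⁻¹) * g⁻¹⁻¹, hconjD g⁻¹ _ (hconjD g a ha)⟩
          ⟨g⁻¹ * z * g⁻¹⁻¹, hconjD g⁻¹ z hzD⟩ := (h2.symm.trans hz).map (conjHom hconjD g⁻¹)
      have e : (⟨g⁻¹ * (g * a * g⁻¹) * g⁻¹⁻¹, hconjD g⁻¹ _ (hconjD g a ha)⟩ : D) = ⟨a, ha⟩ := by
        apply Subtype.ext
        show g⁻¹ * (g * a * g⁻¹) * g⁻¹⁻¹ = a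
        group
      rw [e] at h3
      exact h3
  rcases hprim.2.2 B hBD hblock with hs | hall
  · exact absurd (hs haB hbB) hab
  · rw [SimpleGraph.connected_iff]
    refine ⟨?_, ⟨⟨a, ha⟩⟩⟩
    intro u v
    have hu : (u : G) ∈ B := by rw [hall]; exact u.2
    have hv : (v : G) ∈ B := by rw [hall]; exact v.2
    obtain ⟨_, hu'⟩ := hu
    obtain ⟨_, hv'⟩ := hv
    exact hu'.symm.trans hv'

end Cfsg.Agent.Lib.Helper27.TT
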