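import Mathlib
import Cfsg.Prelude.Def_FischerSpaces
import Cfsg.Agent.Lib.Helper27.ThreeTransp
import Cfsg.Agent.Lib.Helper27.TTPrimitive2

/-!
# Maximality of `⟨C_D(d)⟩` in a primitive 3-transposition group

`AON D S`: an "all-or-nothing" subset `S` of `D` (every member of `D` outside `S` commutes with
all or with no member of `S`) which is connected for the non-commuting relation.  In a primitive
class of 3-transpositions of width at least 2, such a set containing two non-commuting members is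
all of `D`.  Applied to the class of `d` in a `D`-subgroup containing `⟨C_D(d)⟩`, this gives the
maximality of the latter among `D`-subgroups.
-/

set_option autoImplicit false

namespace Cfsg.Agent.Lib.Helper27.TT

open Cfsg

universe u

variable {G : Type u} [Group G] {D : Set G}

/-- the conjugate `g S g⁻¹` of a set, given by membership -/
def cjs (g : G) (S : Set G) : Set G := {y | g⁻¹ * y * g ∈ S}

theorem mem_cjs {g : G} {S : Set G} {y : G} : y ∈ cjs g S ↔ g⁻¹ * y * g ∈ S := Iff.rfl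

theorem cjs_eq_image (g : G) (S : Set G) : cjs g S = (fun x => g * x * g⁻¹) '' S := by
  ext y
  constructor
  · intro hy
    refine ⟨g⁻¹ * y * g, hy, ?_⟩
    show g * (g⁻¹ * y * g) * g⁻¹ = y
    group
  · rintro ⟨x, hx, rfl⟩
    show g⁻¹ * (g * x * g⁻¹) * g ∈ S
    have h1 : g⁻¹ * (g * x * g⁻¹) * g = x := by group
    rw [h1]; exact hx

theorem conj_inj (g : G) : Function.Injective (fun x : G => g * x * g⁻¹) := by
  intro x y h
  exact mul_left_cancel (mul_right_cancel h)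

theorem ncard_cjs (g : G) (S : Set G) : (cjs g S).ncard = S.ncard := by
  rw [cjs_eq_image]
  exact Set.ncard_image_of_injective S (conj_inj g)

theorem cjs_one (S : Set G) : cjs 1 S = S := by
  ext y
  rw [mem_cjs, inv_one, one_mul, mul_one]

theorem commute_conj_inv_iff (g x y : G) :
    Commute (g⁻¹ * x * g) (g⁻¹ * y * g) ↔ Commute x y := by
  have h := Commute.conj_iff (a := x) (b := y) g⁻¹
  rw [inv_inv] at h
  exact h

/-- "All-or-nothing" subsets of `D`, connected for the non-commuting relation. -/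
structure AON (D S : Set G) : Prop where
  sub : S ⊆ D
  aon : ∀ x ∈ D, x ∉ S → (∀ a ∈ S, Commute x a) ∨ (∀ a ∈ S, ¬ Commute x a)
  nc : ∀ T : Set G, T ⊆ S → T.Nonempty → (∀ t ∈ T, ∀ s ∈ S, ¬ Commute t s → s ∈ T) → T = S

theorem AON.conj (hc : ∀ g : G, ∀ d ∈ D, g * d * g⁻¹ ∈ D) {S : Set G} (h : AON D S) (g : G) :
    AON D (cjs g S) := by
  have hcinv : ∀ x ∈ D, g⁻¹ * x * g ∈ D := by
    intro x hx
    have h1 := hc g⁻¹ x hx
    rwa [inv_inv] at h1
  refine ⟨?_, ?_, ?_⟩
  · intro y hy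
    have h1 := hc g _ (h.sub hy)
    have h2 : g * (g⁻¹ * y * g) * g⁻¹ = y := by group
    rwa [h2] at h1
  · intro x hx hxS
    rcases h.aon (g⁻¹ * x * g) (hcinv x hx) hxS with h1 | h1
    · left
      intro a ha
      exact (commute_conj_inv_iff g x a).mp (h1 _ ha)
    · right
      intro a ha hcom
      exact h1 _ ha ((commute_conj_inv_iff g x a).mpr hcom)
  · intro T hT hne hcl
    have hT' : {y | g * y * g⁻¹ ∈ T} = S := by
      apply h.nc
      · intro y hy
        have h1 := hT hy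
        rw [mem_cjs] at h1
        have h2 : g⁻¹ * (g * y * g⁻¹) * g = y := by group
        rwa [h2] at h1
      · obtain ⟨t, ht⟩ := hne
        refine ⟨g⁻¹ * t * g, ?_⟩
        show g * (g⁻¹ * t * g) * g⁻¹ ∈ T
        have h2 : g * (g⁻¹ * t * g) * g⁻¹ = t := by group
        rw [h2]; exact ht
      · intro t ht s hs hts
        show g * s * g⁻¹ ∈ T
        apply hcl (g * t * g⁻¹) ht (g * s * g⁻¹)
        · rw [mem_cjs]
          have h2 : g⁻¹ * (g * s * g⁻¹) * g = s := by group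
          rw [h2]; exact hs
        · intro hcom
          exact hts ((Commute.conj_iff g).mp hcom)
    apply Set.Subset.antisymm hT
    intro y hy
    rw [mem_cjs] at hy
    have h1 : g⁻¹ * y * g ∈ {y | g * y * g⁻¹ ∈ T} := by rw [hT']; exact hy
    have h3 : g * (g⁻¹ * y * g) * g⁻¹ ∈ T := h1
    have h2 : g * (g⁻¹ * y * g) * g⁻¹ = y := by group
    rwa [h2] at h3

/-- Classes of a conjugation-invariant equivalence relation are blocks. -/
theorem block_of_rel (θ : G → G → Prop)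
    (hsymm : ∀ x y, θ x y → θ y x) (htrans : ∀ x y z, θ x y → θ y z → θ x z)
    (hconj : ∀ g x y, θ x y → θ (g * x * g⁻¹) (g * y * g⁻¹))
    (hc : ∀ g : G, ∀ d ∈ D, g * d * g⁻¹ ∈ D) (d : G) (g : G) :
    (fun x => g * x * g⁻¹) '' {y | y ∈ D ∧ θ d y} = {y | y ∈ D ∧ θ d y} ∨
      Disjoint ((fun x => g * x * g⁻¹) '' {y | y ∈ D ∧ θ d y}) {y | y ∈ D ∧ θ d y} := by
  by_cases hdis : Disjoint ((fun x => g * x * g⁻¹) '' {y | y ∈ D ∧ θ d y}) {y | y ∈ D ∧ θ d y}
  · exact Or.inr hdis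
  left
  rw [Set.not_disjoint_iff] at hdis
  obtain ⟨z, ⟨w, ⟨hwD, hw⟩, hwz⟩, -, hz⟩ := hdis
  have hwz' : g * w * g⁻¹ = z := hwz
  subst hwz'
  ext y
  constructor
  · rintro ⟨v, ⟨hvD, hv⟩, rfl⟩
    refine ⟨hc g v hvD, ?_⟩
    exact htrans _ _ _ hz (hconj g w v (htrans _ _ _ (hsymm _ _ hw) hv))
  · rintro ⟨hyD, hy⟩
    refine ⟨g⁻¹ * y * g, ⟨?_, ?_⟩, ?_⟩
    · have h1 := hc g⁻¹ y hyD
      rwa [inv_inv] at h1
    · have h1 : θ (g * w * g⁻¹) y := htrans _ _ _ (hsymm _ _ hz) hy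
      have h2 := hconj g⁻¹ _ _ h1
      have h3 : g⁻¹ * (g * w * g⁻¹) * g⁻¹⁻¹ = w := by group
      rw [h3, inv_inv] at h2
      exact htrans _ _ _ hw h2
    · show g * (g⁻¹ * y * g) * g⁻¹ = y
      group

variable [Finite G]

theorem AON.key1 {S' S'' : Set G} (h' : AON D S') (h'' : AON D S'')
    (hcard : S'.ncard = S''.ncard) {c : G} (hc2 : c ∈ S'') (hc1 : c ∉ S')
    (hcomm : ∀ a ∈ S', Commute c a) : ∀ y ∈ S'', y ∉ S' ∧ ∀ a ∈ S', Commute y a := by
  have ha1 : ∃ a₁ ∈ S', a₁ ∉ S'' := by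
    by_contra hcon
    push Not at hcon
    have hsub : S' ⊆ S'' := hcon
    have heq : S' = S'' :=
      Set.eq_of_subset_of_ncard_le hsub (le_of_eq hcard.symm) (Set.toFinite _)
    apply hc1
    rw [heq]; exact hc2
  obtain ⟨a₁, ha1', ha1''⟩ := ha1
  have hall : ∀ b ∈ S'', Commute a₁ b := by
    rcases h''.aon a₁ (h'.sub ha1') ha1'' with h1 | h1
    · exact h1
    · exact absurd (hcomm a₁ ha1').symm (h1 c hc2)
  have hy1 : ∀ y ∈ S'', y ∉ S' → ∀ a ∈ S', Commute y a := by
    intro y hy hyn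
    rcases h'.aon y (h''.sub hy) hyn with h1 | h1
    · exact h1
    · exact absurd (hall y hy).symm (h1 a₁ ha1')
  have hempty : ∀ y ∈ S'', y ∉ S' := by
    by_contra hcon
    push Not at hcon
    obtain ⟨t₀, ht₀, ht₀'⟩ := hcon
    have hT : S'' ∩ S' = S'' := by
      apply h''.nc _ Set.inter_subset_left ⟨t₀, ht₀, ht₀'⟩
      intro t ht s hs hts
      refine ⟨hs, ?_⟩
      by_contra hsn
      exact hts (hy1 s hs hsn t ht.2).symm
    have h1 : c ∈ S'' ∩ S' := by rw [hT]; exact hc2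
    exact hc1 h1.2
  intro y hy
  exact ⟨hempty y hy, hy1 y hy (hempty y hy)⟩

theorem AON.key2 {S' S'' : Set G} (h' : AON D S') (h'' : AON D S'')
    (hcard : S'.ncard = S''.ncard) {x y : G} (hx1 : x ∈ S') (hx2 : x ∈ S'') (hy : y ∈ S')
    (hxy : Commute x y) : y ∈ S'' := by
  by_contra hyn
  have hall : ∀ a ∈ S'', Commute y a := by
    rcases h''.aon y (h'.sub hy) hyn with h1 | h1
    · exact h1
    · exact absurd hxy.symm (h1 x hx2)
  exact (h''.key1 h' hcard.symm hy hyn hall x hx1).1 hx2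

/-- the intersection of the conjugates of `S` containing `x` -/
def blk (S : Set G) (x : G) : Set G := {y | ∀ g, x ∈ cjs g S → y ∈ cjs g S}

theorem AON.eq_of_primitive (hD : IsThreeTranspositionClass D)
    (hprim : IsPrimitiveUnderConj D) (hw : ∃ a ∈ D, ∃ b ∈ D, a ≠ b ∧ Commute a b)
    {S : Set G} (h : AON D S) {d e : G} (hd : d ∈ S) (he : e ∈ S) (hde : ¬ Commute d e) :
    S = D := by
  by_contra hne
  have hc : ∀ g : G, ∀ d ∈ D, g * d * g⁻¹ ∈ D := fun g d hd => conj_mem_of_class hD g hd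
  have hS : ∀ g, AON D (cjs g S) := fun g => h.conj hc g
  have hcard : ∀ g k, (cjs g S).ncard = (cjs k S).ncard := fun g k => by
    rw [ncard_cjs, ncard_cjs]
  have hcover : ∀ x ∈ D, ∃ g, x ∈ cjs g S := by
    intro x hx
    obtain ⟨g, hg⟩ := hprim.1 d (h.sub hd) x hx
    refine ⟨g, ?_⟩
    rw [mem_cjs, ← hg]
    have h1 : g⁻¹ * (g * d * g⁻¹) * g = d := by group
    rw [h1]; exact hd
  have hB_self : ∀ x, x ∈ blk S x := fun x g hg => hg
  have hB_D : ∀ x ∈ D, blk S x ⊆ D := by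
    intro x hx y hy
    obtain ⟨g, hg⟩ := hcover x hx
    exact (hS g).sub (hy g hg)
  have hmem_conj : ∀ (k g y : G), k * y * k⁻¹ ∈ cjs g S ↔ y ∈ cjs (k⁻¹ * g) S := by
    intro k g y
    rw [mem_cjs, mem_cjs]
    have h1 : (k⁻¹ * g)⁻¹ * y * (k⁻¹ * g) = g⁻¹ * (k * y * k⁻¹) * g := by group
    rw [h1]
  have hB_conj : ∀ (k x y : G), y ∈ blk S x → k * y * k⁻¹ ∈ blk S (k * x * k⁻¹) := by
    intro k x y hy g hg
    rw [hmem_conj] at hg ⊢
    exact hy _ hg
  have hB_sub : ∀ x y, y ∈ blk S x → blk S y ⊆ blk S x := by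
    intro x y hy z hz g hg
    exact hz g (hy g hg)
  have hB_le : ∀ (k x : G), (blk S x).ncard ≤ (blk S (k * x * k⁻¹)).ncard := by
    intro k x
    have h1 : (fun y => k * y * k⁻¹) '' blk S x ⊆ blk S (k * x * k⁻¹) := by
      rintro _ ⟨y, hy, rfl⟩
      exact hB_conj k x y hy
    have h2 := Set.ncard_le_ncard h1 (Set.toFinite _)
    rwa [Set.ncard_image_of_injective _ (conj_inj k)] at h2
  have hB_eq : ∀ x ∈ D, ∀ y ∈ blk S x, blk S y = blk S x := by
    intro x hx y hy
    obtain ⟨k, hk⟩ := hprim.1 x hx y (hB_D x hx hy)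
    subst hk
    exact Set.eq_of_subset_of_ncard_le (hB_sub x _ hy) (hB_le k x) (Set.toFinite _)
  -- the relation "same block"
  let θ : G → G → Prop := fun x y => x ∈ D ∧ y ∈ D ∧ y ∈ blk S x
  have hθsymm : ∀ x y, θ x y → θ y x := by
    rintro x y ⟨hx, hy, hxy⟩
    refine ⟨hy, hx, ?_⟩
    rw [hB_eq x hx y hxy]
    exact hB_self x
  have hθtrans : ∀ x y z, θ x y → θ y z → θ x z := by
    rintro x y z ⟨hx, hy, hxy⟩ ⟨_, hz, hyz⟩
    exact ⟨hx, hz, hB_sub x y hxy hyz⟩
  have hθconj : ∀ g x y, θ x y → θ (g * x * g⁻¹) (g * y * g⁻¹) := by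
    rintro g x y ⟨hx, hy, hxy⟩
    exact ⟨hc g x hx, hc g y hy, hB_conj g x y hxy⟩
  have hB_single : ∀ x ∈ S, ∀ y ∈ blk S x, y = x := by
    intro x hx y hy
    have hxD := h.sub hx
    have hblock := hprim.2.2 {y | y ∈ D ∧ θ x y} (fun y hy => hy.1)
      (fun g => block_of_rel θ hθsymm hθtrans hθconj hc x g)
    rcases hblock with hsub | hall
    · exact hsub ⟨hB_D x hxD hy, hxD, hB_D x hxD hy, hy⟩ ⟨hxD, hxD, hxD, hB_self x⟩
    · exfalso
      apply hne
      apply Set.Subset.antisymm h.sub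
      intro z hz
      have hz' : z ∈ {y | y ∈ D ∧ θ x y} := by rw [hall]; exact hz
      have hz2 : z ∈ blk S x := hz'.2.2.2
      have h1 := hz2 1 (by rw [cjs_one]; exact hx)
      rwa [cjs_one] at h1
  -- no two different members of `S` commute
  have hS1 : ∀ x ∈ S, ∀ y ∈ S, Commute x y → y = x := by
    intro x hx y hy hxy
    apply hB_single x hx
    intro g hg
    have hx1 : x ∈ cjs 1 S := by rw [cjs_one]; exact hx
    have hy1 : y ∈ cjs 1 S := by rw [cjs_one]; exact hy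
    exact (hS 1).key2 (hS g) (hcard 1 g) hx1 hg hy1 hxy
  -- the relation "same commuting neighbours"
  let ρ : G → G → Prop := fun y y' =>
    ∀ z ∈ D, (z ≠ y ∧ Commute y z) ↔ (z ≠ y' ∧ Commute y' z)
  have hρsymm : ∀ x y, ρ x y → ρ y x := fun x y hxy z hz => (hxy z hz).symm
  have hρtrans : ∀ x y z, ρ x y → ρ y z → ρ x z :=
    fun x y z hxy hyz w hw => (hxy w hw).trans (hyz w hw)
  have hρconj : ∀ g x y, ρ x y → ρ (g * x * g⁻¹) (g * y * g⁻¹) := by
    intro g x y hxy z hz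
    have hz' : g⁻¹ * z * g ∈ D := by
      have h1 := hc g⁻¹ z hz
      rwa [inv_inv] at h1
    have key : ∀ v : G, (z ≠ g * v * g⁻¹ ∧ Commute (g * v * g⁻¹) z) ↔
        (g⁻¹ * z * g ≠ v ∧ Commute v (g⁻¹ * z * g)) := by
      intro v
      have e1 : z = g * v * g⁻¹ ↔ g⁻¹ * z * g = v := by
        constructor
        · intro h1; rw [h1]; group
        · intro h1; rw [← h1]; group
      have e2 : Commute (g * v * g⁻¹) z ↔ Commute v (g⁻¹ * z * g) := by
        have h3 := commute_conj_inv_iff g (g * v * g⁻¹) z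
        have h4 : g⁻¹ * (g * v * g⁻¹) * g = v := by group
        rw [h4] at h3
        exact h3.symm
      exact and_congr (not_congr e1) e2
    exact (key x).trans ((hxy _ hz').trans (key y).symm)
  have hSρ : ∀ x ∈ S, ∀ x' ∈ S, ρ x x' := by
    have half : ∀ x ∈ S, ∀ x' ∈ S, ∀ z ∈ D,
        (z ≠ x ∧ Commute x z) → (z ≠ x' ∧ Commute x' z) := by
      intro x hx x' hx' z hz ⟨hzx, hxz⟩
      have hzS : z ∉ S := fun hzS => hzx (hS1 x hx z hzS hxz)
      rcases h.aon z hz hzS with h1 | h1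
      · refine ⟨fun hzx' => hzS ?_, (h1 x' hx').symm⟩
        rw [hzx']; exact hx'
      · exact absurd hxz.symm (h1 x hx)
    intro x hx x' hx' z hz
    exact ⟨half x hx x' hx' z hz, half x' hx' x hx z hz⟩
  have hblock := hprim.2.2 {y | y ∈ D ∧ ρ d y} (fun y hy => hy.1)
      (fun g => block_of_rel ρ hρsymm hρtrans hρconj hc d g)
  have hdmem : d ∈ {y | y ∈ D ∧ ρ d y} := ⟨h.sub hd, hSρ d hd d hd⟩
  have hemem : e ∈ {y | y ∈ D ∧ ρ d y} := ⟨h.sub he, hSρ d hd e he⟩
  rcases hblock with hsub | hall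
  · have h1 : d = e := hsub hdmem hemem
    subst h1
    exact hde (Commute.refl _)
  · obtain ⟨a, ha, b, hb, hab, hcomm⟩ := hw
    have ha' : a ∈ {y | y ∈ D ∧ ρ d y} := by rw [hall]; exact ha
    have hb' : b ∈ {y | y ∈ D ∧ ρ d y} := by rw [hall]; exact hb
    have hρab : ρ a b := hρtrans _ _ _ (hρsymm _ _ ha'.2) hb'.2
    have h1 := (hρab b hb).mp ⟨hab.symm, hcomm⟩
    exact h1.1 rfl

/-! ### The non-commuting component of `d` in a `D`-subgroup -/

/-- non-commuting members of `D ∩ H` -/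
def ncRel (D : Set G) (H : Subgroup G) (x y : G) : Prop :=
  (x ∈ D ∧ x ∈ H) ∧ (y ∈ D ∧ y ∈ H) ∧ ¬ Commute x y

omit [Finite G] in
theorem ncRel_symm {H : Subgroup G} {x y : G} (h : ncRel D H x y) : ncRel D H y x :=
  ⟨h.2.1, h.1, fun hc => h.2.2 hc.symm⟩

omit [Finite G] in
theorem rtg_symm {H : Subgroup G} {x y : G} (h : Relation.ReflTransGen (ncRel D H) x y) :
    Relation.ReflTransGen (ncRel D H) y x := by
  induction h with
  | refl => exact Relation.ReflTransGen.refl
  | tail _ hbc ih => exact Relation.ReflTransGen.head (ncRel_symm hbc) ih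

omit [Finite G] in
theorem rtg_mem {H : Subgroup G} {d x : G} (hd : d ∈ D) (hdH : d ∈ H)
    (hx : Relation.ReflTransGen (ncRel D H) d x) : x ∈ D ∧ x ∈ H := by
  induction hx with
  | refl => exact ⟨hd, hdH⟩
  | tail _ hbc _ => exact hbc.2.1

omit [Finite G] in
theorem rtg_conj (hD : IsThreeTranspositionSet D) {H : Subgroup G} {d x : G} (hd : d ∈ D)
    (hdH : d ∈ H) (hx : Relation.ReflTransGen (ncRel D H) d x) :
    ∃ h ∈ H, x = h * d * h⁻¹ := by
  induction hx with
  | refl => exact ⟨1, H.one_mem, by rw [one_mul, inv_one, mul_one]⟩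
  | @tail a f _ haf ih =>
    obtain ⟨h, hh, hah⟩ := ih
    obtain ⟨⟨haD, haH⟩, ⟨hfD, hfH⟩, hnc⟩ := haf
    have hb := braid hD haD hfD hnc
    have e1 : f = (a * f) * a * (a * f)⁻¹ := by
      rw [mul_inv_rev, inv_of_mem hD haD, inv_of_mem hD hfD]
      symm
      calc a * f * a * (f * a) = f * a * f * (f * a) := by rw [hb]
        _ = f * a * (f * f) * a := by simp only [mul_assoc]
        _ = f := by
          rw [mul_self_of_mem hD hfD, mul_one, mul_assoc, mul_self_of_mem hD haD, mul_one]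
    refine ⟨a * f * h, H.mul_mem (H.mul_mem haH hfH) hh, ?_⟩
    have e2 : (a * f * h) * d * (a * f * h)⁻¹ = (a * f) * (h * d * h⁻¹) * (a * f)⁻¹ := by group
    rw [e2, ← hah]
    exact e1

omit [Finite G] in
theorem aon_of_dsubgroup (hD : IsThreeTranspositionSet D)
    (hc : ∀ g : G, ∀ d ∈ D, g * d * g⁻¹ ∈ D) {H : Subgroup G} {d : G} (hd : d ∈ D)
    (hM : Subgroup.closure {y : G | y ∈ D ∧ Commute d y} ≤ H) :
    AON D {x | Relation.ReflTransGen (ncRel D H) d x} := by
  have hdH : d ∈ H := hM (Subgroup.subset_closure ⟨hd, Commute.refl d⟩)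
  have hperp : ∀ x, Relation.ReflTransGen (ncRel D H) d x → ∀ y ∈ D, Commute x y → y ∈ H := by
    intro x hx y hy hxy
    obtain ⟨h, hh, hxh⟩ := rtg_conj hD hd hdH hx
    have hy' : h⁻¹ * y * h ∈ D := by
      have h1 := hc h⁻¹ y hy
      rwa [inv_inv] at h1
    have hcomm : Commute d (h⁻¹ * y * h) := by
      have h3 := commute_conj_inv_iff h (h * d * h⁻¹) y
      have h4 : h⁻¹ * (h * d * h⁻¹) * h = d := by group
      rw [h4, ← hxh] at h3
      exact h3.mpr hxy
    have h5 : h⁻¹ * y * h ∈ H := hM (Subgroup.subset_closure ⟨hy', hcomm⟩)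
    have h6 : y = h * (h⁻¹ * y * h) * h⁻¹ := by group
    rw [h6]
    exact H.mul_mem (H.mul_mem hh h5) (H.inv_mem hh)
  refine ⟨fun x hx => (rtg_mem hd hdH hx).1, ?_, ?_⟩
  · intro x hxD hxS
    by_cases h1 : ∃ a₀, Relation.ReflTransGen (ncRel D H) d a₀ ∧ Commute x a₀
    · left
      intro a ha
      by_contra hna
      apply hxS
      obtain ⟨a₀, ha₀, hxa₀⟩ := h1
      have hxH := hperp a₀ ha₀ x hxD hxa₀.symm
      exact Relation.ReflTransGen.tail ha
        ⟨rtg_mem hd hdH ha, ⟨hxD, hxH⟩, fun hcomm => hna hcomm.symm⟩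
    · right
      intro a ha hcomm
      exact h1 ⟨a, ha, hcomm⟩
  · intro T hT hne hcl
    obtain ⟨t₀, ht₀⟩ := hne
    apply Set.Subset.antisymm hT
    intro s hs
    have h1 : Relation.ReflTransGen (ncRel D H) t₀ d := rtg_symm (hT ht₀)
    have h2 : Relation.ReflTransGen (ncRel D H) t₀ s := h1.trans hs
    have h3 : ∀ z, Relation.ReflTransGen (ncRel D H) t₀ z → z ∈ T := by
      intro z hz
      induction hz with
      | refl => exact ht₀
      | @tail b c _ hbc ih =>
        have hbS : Relation.ReflTransGen (ncRel D H) d b := hT ih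
        exact hcl b ih c (Relation.ReflTransGen.tail hbS hbc) hbc.2.2
    exact h3 s h2

/-- In a primitive class of 3-transpositions of width at least 2, the subgroup generated by the
members of `D` commuting with `d` is a maximal `D`-subgroup. -/
theorem dsubgroup_maximal (hD : IsThreeTranspositionClass D)
    (hprim : IsPrimitiveUnderConj D) (hw : ∃ a ∈ D, ∃ b ∈ D, a ≠ b ∧ Commute a b)
    {d : G} (hd : d ∈ D) (H : Subgroup G) (hH : IsDSubgroup D H)
    (hM : Subgroup.closure {y : G | y ∈ D ∧ Commute d y} ≤ H) :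
    H = Subgroup.closure {y : G | y ∈ D ∧ Commute d y} ∨ H = ⊤ := by
  have hdH : d ∈ H := hM (Subgroup.subset_closure ⟨hd, Commute.refl d⟩)
  by_cases hall : ∀ e, e ∈ D → e ∈ H → Commute d e
  · left
    apply le_antisymm _ hM
    have hsub : {x : G | x ∈ D ∧ x ∈ H} ⊆ {y : G | y ∈ D ∧ Commute d y} :=
      fun y hy => ⟨hy.1, hall y hy.1 hy.2⟩
    exact le_trans (le_of_eq hH.symm) (Subgroup.closure_mono hsub)
  · right
    push Not at hall
    obtain ⟨e, heD, heH, hde⟩ := hall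
    have hc : ∀ g : G, ∀ d ∈ D, g * d * g⁻¹ ∈ D := fun g d hd => conj_mem_of_class hD g hd
    have haon := aon_of_dsubgroup hD.1 hc hd hM
    have hdS : d ∈ {x | Relation.ReflTransGen (ncRel D H) d x} := Relation.ReflTransGen.refl
    have heS : e ∈ {x | Relation.ReflTransGen (ncRel D H) d x} :=
      Relation.ReflTransGen.single ⟨⟨hd, hdH⟩, ⟨heD, heH⟩, hde⟩
    have hSD := haon.eq_of_primitive hD hprim hw hdS heS hde
    rw [eq_top_iff, ← hD.2.2, Subgroup.closure_le]
    intro x hx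
    have hx' : x ∈ {x | Relation.ReflTransGen (ncRel D H) d x} := by rw [hSD]; exact hx
    exact (rtg_mem hd hdH hx').2

omit [Finite G] in
/-- A conjugation-invariant generating set of 3-transpositions on which the group is transitive
is a class of 3-transpositions. -/
theorem class_of_group_of_trans (hD : IsThreeTranspositionGroup D)
    (htr : ∀ a ∈ D, ∀ b ∈ D, ∃ g : G, g * a * g⁻¹ = b) (hne : D.Nonempty) :
    IsThreeTranspositionClass D := by
  obtain ⟨a, ha⟩ := hne
  refine ⟨hD.1, ⟨a, ha, ?_⟩, hD.2.2⟩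
  ext x
  constructor
  · intro hx
    obtain ⟨g, hg⟩ := htr a ha x hx
    show IsConj a x
    exact isConj_iff.mpr ⟨g, hg⟩
  · intro hx
    have hx' : IsConj a x := hx
    obtain ⟨g, hg⟩ := isConj_iff.mp hx'
    rw [← hg]
    exact hD.2.1 g a ha

end Cfsg.Agent.Lib.Helper27.TT
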