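import Mathlib
import Cfsg.Agent.Lib.Helper1.CoprimeSylow

/-!
# Helper27: from Glauberman's `Z*`-theorem to "width one" sets of 3-transpositions

`ZStarHyp.{u}` is the statement of S0215 for all finite groups of universe `u`.  Assuming it,
`w1_core` shows: if `Δ` is a conjugation-invariant set of involutions of a finite group such that
the product of any two members has order dividing `3`, then for `d ∈ Δ` all products `d * e`
(`e ∈ Δ`) lie in one 3-subgroup.  `w1_closed` is the version for a set closed only under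
conjugation by its own members.
-/

set_option autoImplicit false

namespace Cfsg.Agent.Lib.Helper27.W1

open Subgroup

universe u

/-- The statement of Glauberman's `Z*`-theorem (S0215) for all finite groups in universe `u`. -/
def ZStarHyp : Prop :=
  ∀ (G : Type u) [Group G] [Finite G] (P : Sylow 2 G) (t : G), orderOf t = 2 → t ∈ P →
    (∀ g : G, g * t * g⁻¹ ∈ P → g * t * g⁻¹ = t) →
    ∃ N : Subgroup G, N.Normal ∧ Odd (Nat.card N) ∧ ∀ g : G, (t * g * t⁻¹ * g⁻¹) ∈ N

section Count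

variable {G : Type u} [Group G]

/-- the set of `L`-conjugates of `d` -/
def conjSet (L : Subgroup G) (d : G) : Set G := {x | ∃ t ∈ L, x = t * d * t⁻¹}

theorem ncard_conjSet (L : Subgroup G) (d : G) :
    (conjSet L d).ncard * Nat.card ↥(L ⊓ centralizer ({d} : Set G)) = Nat.card L := by
  let _ : MulAction L G := MulAction.compHom G ((MulAut.conj : G →* MulAut G).comp L.subtype)
  have hsmul : ∀ (t : L) (x : G), t • x = (t : G) * x * (t : G)⁻¹ := fun t x => rfl
  have horb : MulAction.orbit L d = conjSet L d := by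
    ext x
    constructor
    · rintro ⟨t, rfl⟩
      exact ⟨t, t.2, hsmul t d⟩
    · rintro ⟨t, ht, rfl⟩
      exact ⟨⟨t, ht⟩, hsmul ⟨t, ht⟩ d⟩
  have hstab : (MulAction.stabilizer L d).map L.subtype = L ⊓ centralizer ({d} : Set G) := by
    ext x
    constructor
    · rintro ⟨t, ht, rfl⟩
      rw [Subgroup.mem_inf]
      refine ⟨t.2, ?_⟩
      rw [mem_centralizer_iff]
      intro h hh
      rw [Set.mem_singleton_iff] at hh
      rw [hh]
      have h1 : (t : G) * d * (t : G)⁻¹ = d := by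
        rw [← hsmul t d]
        exact MulAction.mem_stabilizer_iff.mp ht
      show d * (t : G) = (t : G) * d
      calc d * (t : G) = ((t : G) * d * (t : G)⁻¹) * (t : G) := by rw [h1]
        _ = (t : G) * d := by group
    · intro hx
      rw [Subgroup.mem_inf] at hx
      obtain ⟨hxL, hxC⟩ := hx
      refine ⟨⟨x, hxL⟩, ?_, rfl⟩
      rw [SetLike.mem_coe, MulAction.mem_stabilizer_iff, hsmul]
      show x * d * x⁻¹ = d
      rw [mem_centralizer_iff] at hxC
      have h1 : d * x = x * d := hxC d (Set.mem_singleton d)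
      rw [← h1]
      group
  have h1 := MulAction.index_stabilizer L d
  have h2 := Subgroup.index_mul_card (MulAction.stabilizer L d)
  rw [← horb, ← h1, ← hstab, Subgroup.card_map_of_injective L.subtype_injective]
  exact h2

end Count

section Main

variable {G : Type u} [Group G] [Finite G] {Δ : Set G}

theorem w1_core (hZ : ZStarHyp.{u})
    (hinv : ∀ x ∈ Δ, x * x = 1) (hne : ∀ x ∈ Δ, x ≠ 1)
    (h3 : ∀ x ∈ Δ, ∀ y ∈ Δ, (x * y) ^ 3 = 1)
    (hconj : ∀ g : G, ∀ x ∈ Δ, g * x * g⁻¹ ∈ Δ) {d : G} (hd : d ∈ Δ) :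
    ∃ T : Subgroup G, IsPGroup 3 T ∧ ∀ e ∈ Δ, d * e ∈ T := by
  have hd2 : d * d = 1 := hinv d hd
  have id : d⁻¹ = d := inv_eq_of_mul_eq_one_right hd2
  have hord : orderOf d = 2 := orderOf_eq_prime (by rw [pow_two]; exact hd2) (hne d hd)
  have hA2 : IsPGroup 2 (zpowers d) := by
    apply IsPGroup.of_card (n := 1)
    rw [Nat.card_zpowers, hord, pow_one]
  obtain ⟨P, hP⟩ := hA2.exists_le_sylow
  have hdP : d ∈ P := hP (mem_zpowers d)
  have hiso : ∀ g : G, g * d * g⁻¹ ∈ P → g * d * g⁻¹ = d := by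
    intro g hg
    have he : g * d * g⁻¹ ∈ Δ := hconj g d hd
    have h1 : d * (g * d * g⁻¹) ∈ (P : Subgroup G) := mul_mem hdP hg
    obtain ⟨k, hk⟩ := P.isPGroup' ⟨_, h1⟩
    have hk' : (d * (g * d * g⁻¹)) ^ (2 ^ k) = 1 := by
      have := congrArg Subtype.val hk
      simpa using this
    have ho1 := orderOf_dvd_of_pow_eq_one hk'
    have ho2 := orderOf_dvd_of_pow_eq_one (h3 d hd _ he)
    have hcop : Nat.Coprime (2 ^ k) 3 := Nat.Coprime.pow_left k (by norm_num)
    have ho : orderOf (d * (g * d * g⁻¹)) = 1 := Nat.eq_one_of_dvd_coprimes hcop ho1 ho2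
    have h4 : d * (g * d * g⁻¹) = 1 := orderOf_eq_one_iff.mp ho
    have h5 := eq_inv_of_mul_eq_one_right h4
    rw [id] at h5
    exact h5
  obtain ⟨N, hNn, hNodd, hNc⟩ := hZ G P d hord hdP hiso
  have := hNn
  have hcop : Cfsg.Agent.Lib.Helper1.CoprimeAct (zpowers d) N := by
    refine ⟨?_, ?_, Or.inl ?_⟩
    · rw [normalizer_eq_top]; exact le_top
    · rw [Nat.card_zpowers, hord]; exact Nat.coprime_two_left.mpr hNodd
    · apply Group.isSolvable_of_comm
      rintro ⟨a, ha⟩ ⟨b, hb⟩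
      obtain ⟨m, rfl⟩ := mem_zpowers_iff.mp ha
      obtain ⟨n, rfl⟩ := mem_zpowers_iff.mp hb
      apply Subtype.ext
      show d ^ m * d ^ n = d ^ n * d ^ m
      exact zpow_mul_comm d m n
  have : Fact (Nat.Prime 3) := ⟨Nat.prime_three⟩
  obtain ⟨T3, hT3⟩ := hcop.exists_invariant_sylSet 3
  obtain ⟨T, hTN, hTcard⟩ := T3
  have hT3g : IsPGroup 3 T := IsPGroup.of_card hTcard
  have hdT : d ∈ normalizer (T : Set G) := hT3 (mem_zpowers d)
  have hdT' : ∀ t ∈ T, d * t * d⁻¹ ∈ T := fun t ht => (mem_normalizer_iff.mp hdT t).mp ht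
  -- Sylow subgroups for the other primes are centralized by `d`
  have hq : ∀ q : ℕ, q.Prime → q ≠ 3 →
      q ^ (Nat.card N).factorization q ∣ Nat.card ↥(N ⊓ centralizer ({d} : Set G)) := by
    intro q hqp hq3
    have : Fact q.Prime := ⟨hqp⟩
    obtain ⟨Tq, hTq⟩ := hcop.exists_invariant_sylSet q
    obtain ⟨Q, hQN, hQcard⟩ := Tq
    have hle : Q ≤ N ⊓ centralizer ({d} : Set G) := by
      intro x hx
      rw [Subgroup.mem_inf]
      refine ⟨hQN hx, ?_⟩
      rw [mem_centralizer_iff]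
      intro h hh
      rw [Set.mem_singleton_iff] at hh
      rw [hh]
      have hdq : d ∈ normalizer (Q : Set G) := hTq (mem_zpowers d)
      have h1 : d * x * d⁻¹ ∈ Q := (mem_normalizer_iff.mp hdq x).mp hx
      have hcT : d * x * d⁻¹ * x⁻¹ ∈ Q := mul_mem h1 (inv_mem hx)
      have hce : d * x * d⁻¹ * x⁻¹ = d * (x * d * x⁻¹) := by
        rw [id]; simp only [mul_assoc]
      have hc3 : (d * x * d⁻¹ * x⁻¹) ^ 3 = 1 := by
        rw [hce]; exact h3 d hd _ (hconj x d hd)
      have hQg : IsPGroup q Q := IsPGroup.of_card hQcard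
      obtain ⟨k, hk⟩ := hQg ⟨_, hcT⟩
      have hk' : (d * x * d⁻¹ * x⁻¹) ^ (q ^ k) = 1 := by
        have := congrArg Subtype.val hk
        simpa using this
      have ho1 := orderOf_dvd_of_pow_eq_one hk'
      have ho2 := orderOf_dvd_of_pow_eq_one hc3
      have hcop' : Nat.Coprime (q ^ k) 3 :=
        Nat.Coprime.pow_left k ((Nat.coprime_primes hqp Nat.prime_three).mpr hq3)
      have ho : orderOf (d * x * d⁻¹ * x⁻¹) = 1 := Nat.eq_one_of_dvd_coprimes hcop' ho1 ho2
      have hc1 : d * x * d⁻¹ * x⁻¹ = 1 := orderOf_eq_one_iff.mp ho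
      have h6 : d * x * d⁻¹ = x := mul_inv_eq_one.mp hc1
      calc d * x = d * x * d⁻¹ * d := by group
        _ = x * d := by rw [h6]
    have h7 := Subgroup.card_dvd_of_le hle
    rw [hQcard] at h7
    exact h7
  -- every member of `Δ` is an `N`-conjugate of `d`
  have hΔN : ∀ e ∈ Δ, e ∈ conjSet N d := by
    intro e he
    have he2 := hinv e he
    have ie : e⁻¹ = e := inv_eq_of_mul_eq_one_right he2
    have h6 : d * e * d⁻¹ * e⁻¹ ∈ N := hNc e
    rw [id, ie] at h6
    have h33 := h3 d hd e he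
    have h7 : (d * e) * (d * e) * (d * e) = 1 := by
      rw [← h33, pow_three]; simp only [mul_assoc]
    have h8 : d * e = ((d * e) * (d * e))⁻¹ := eq_inv_of_mul_eq_one_right h7
    have h9 : d * e ∈ N := by
      rw [h8]
      apply inv_mem
      have h10 : (d * e) * (d * e) = d * e * d * e := by simp only [mul_assoc]
      rw [h10]; exact h6
    refine ⟨d * e, h9, ?_⟩
    rw [mul_inv_rev, id, ie]
    have h11 : d * e * d * (e * d) * e = 1 := by
      rw [← h7]; simp only [mul_assoc]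
    have h12 := eq_inv_of_mul_eq_one_left h11
    rw [h12, ie]
  -- counting
  have hcount : (conjSet N d).ncard ≤ (conjSet T d).ncard := by
    have e1 := ncard_conjSet N d
    have e2 := ncard_conjSet T d
    obtain ⟨x, hx⟩ : ∃ x, x = (conjSet N d).ncard := ⟨_, rfl⟩
    obtain ⟨y, hy⟩ : ∃ y, y = (conjSet T d).ncard := ⟨_, rfl⟩
    obtain ⟨c, hc⟩ : ∃ c, c = Nat.card ↥(N ⊓ centralizer ({d} : Set G)) := ⟨_, rfl⟩
    obtain ⟨s, hs⟩ : ∃ s, s = Nat.card ↥(T ⊓ centralizer ({d} : Set G)) := ⟨_, rfl⟩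
    obtain ⟨n, hn⟩ : ∃ n, n = Nat.card N := ⟨_, rfl⟩
    rw [← hx, ← hc, ← hn] at e1
    rw [← hy, ← hs, hTcard, ← hn] at e2
    rw [← hn, ← hc] at hq
    rw [← hx, ← hy]
    have hn0 : n ≠ 0 := by rw [hn]; exact Nat.card_pos.ne'
    have hc0 : c ≠ 0 := by rw [hc]; exact Nat.card_pos.ne'
    have hs0 : 0 < s := by rw [hs]; exact Nat.card_pos
    have hx0 : x ≠ 0 := by
      rintro h; rw [h, zero_mul] at e1; exact hn0 e1.symm
    have hsc : s ∣ c := by
      rw [hs, hc]; exact Subgroup.card_dvd_of_le (inf_le_inf_right _ hTN)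
    have hxs : x * s ∣ n := by rw [← e1]; exact mul_dvd_mul_left x hsc
    obtain ⟨j, hj⟩ : ∃ j, s = 3 ^ j := by
      rw [hs]; exact IsPGroup.iff_card.mp (hT3g.to_le inf_le_left)
    have hprime : ∀ {q : ℕ}, q.Prime → q ∣ x * s → q = 3 := by
      intro q hqp hdvd
      by_contra hq3
      rcases (Nat.Prime.dvd_mul hqp).mp hdvd with h | h
      · have h10 := hq q hqp hq3
        have h11 := (hqp.pow_dvd_iff_le_factorization hc0).mp h10
        have h12 : n.factorization q = x.factorization q + c.factorization q := by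
          rw [← e1, Nat.factorization_mul hx0 hc0]; rfl
        have h13 := hqp.factorization_pos_of_dvd hx0 h
        omega
      · rw [hj] at h
        exact hq3 ((Nat.prime_dvd_prime_iff_eq hqp Nat.prime_three).mp (hqp.dvd_of_dvd_pow h))
    have hxs0 : x * s ≠ 0 := mul_ne_zero hx0 hs0.ne'
    have hpow := Nat.eq_prime_pow_of_unique_prime_dvd hxs0 hprime
    have hk : 3 ^ (x * s).primeFactorsList.length ∣ n := by rw [← hpow]; exact hxs
    have hk2 := (Nat.prime_three.pow_dvd_iff_le_factorization hn0).mp hk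
    have hle : x * s ≤ y * s := by
      rw [e2, hpow]
      exact Nat.pow_le_pow_right (by norm_num) hk2
    exact Nat.le_of_mul_le_mul_right hle hs0
  have hsub : conjSet T d ⊆ conjSet N d := by
    rintro x ⟨t, ht, rfl⟩; exact ⟨t, hTN ht, rfl⟩
  have heq : conjSet T d = conjSet N d :=
    Set.eq_of_subset_of_ncard_le hsub hcount (Set.toFinite _)
  refine ⟨T, hT3g, ?_⟩
  intro e he
  have h13 := hΔN e he
  rw [← heq] at h13
  obtain ⟨t, ht, rfl⟩ := h13
  have h14 : d * (t * d * t⁻¹) = (d * t * d⁻¹) * t⁻¹ := by rw [id]; simp only [mul_assoc]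
  rw [h14]
  exact mul_mem (hdT' t ht) (inv_mem ht)

/-- Version for a set closed only under conjugation by its own members. -/
theorem w1_closed (hZ : ZStarHyp.{u})
    (hinv : ∀ x ∈ Δ, x * x = 1) (hne : ∀ x ∈ Δ, x ≠ 1)
    (h3 : ∀ x ∈ Δ, ∀ y ∈ Δ, (x * y) ^ 3 = 1)
    (hconj : ∀ x ∈ Δ, ∀ y ∈ Δ, x * y * x⁻¹ ∈ Δ) :
    ∃ T : Subgroup G, IsPGroup 3 T ∧ ∀ x ∈ Δ, ∀ y ∈ Δ, x * y ∈ T := by
  rcases Set.eq_empty_or_nonempty Δ with h | ⟨d, hd⟩
  · refine ⟨⊥, IsPGroup.of_bot, ?_⟩
    intro x hx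
    rw [h] at hx
    exact absurd hx (Set.notMem_empty x)
  have hconjH : ∀ g ∈ closure Δ, ∀ x ∈ Δ, g * x * g⁻¹ ∈ Δ := by
    intro g hg
    induction hg using closure_induction'' with
    | mem y hy => exact fun x hx => hconj y hy x hx
    | inv_mem y hy =>
      intro x hx
      have iy : y⁻¹ = y := inv_eq_of_mul_eq_one_right (hinv y hy)
      rw [iy]
      exact hconj y hy x hx
    | one => intro x hx; simpa using hx
    | mul a b _ _ ha hb =>
      intro x hx
      have h1 := ha _ (hb x hx)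
      have h2 : a * b * x * (a * b)⁻¹ = a * (b * x * b⁻¹) * a⁻¹ := by
        rw [mul_inv_rev]; simp only [mul_assoc]
      rw [h2]; exact h1
  let Δ' : Set ↥(closure Δ) := ((↑) : ↥(closure Δ) → G) ⁻¹' Δ
  have hd' : (⟨d, subset_closure hd⟩ : ↥(closure Δ)) ∈ Δ' := hd
  obtain ⟨T, hT, hTd⟩ := w1_core (G := ↥(closure Δ)) (Δ := Δ') hZ
    (fun x hx => Subtype.ext (hinv x.1 hx))
    (fun x hx h => hne x.1 hx (congrArg Subtype.val h))
    (fun x hx y hy => Subtype.ext (by
      rw [Subgroup.coe_pow, Subgroup.coe_mul]; exact h3 x.1 hx y.1 hy))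
    (fun g x hx => hconjH g.1 g.2 x.1 hx) hd'
  refine ⟨T.map (closure Δ).subtype, hT.map _, ?_⟩
  intro x hx y hy
  have id : d⁻¹ = d := inv_eq_of_mul_eq_one_right (hinv d hd)
  have ix : x⁻¹ = x := inv_eq_of_mul_eq_one_right (hinv x hx)
  have h1 := hTd ⟨x, subset_closure hx⟩ hx
  have h2 := hTd ⟨y, subset_closure hy⟩ hy
  have h3' := mul_mem (inv_mem h1) h2
  refine ⟨_, h3', ?_⟩
  show (d * x)⁻¹ * (d * y) = x * y
  rw [mul_inv_rev, ix, id]
  simp only [mul_assoc]
  rw [← mul_assoc d d y, hinv d hd, one_mul]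

/-- Two products of pairs from a "width one" set generate a 3-group. -/
theorem isPGroup_closure_pair (hZ : ZStarHyp.{u})
    (hinv : ∀ x ∈ Δ, x * x = 1) (hne : ∀ x ∈ Δ, x ≠ 1)
    (h3 : ∀ x ∈ Δ, ∀ y ∈ Δ, (x * y) ^ 3 = 1)
    (hconj : ∀ x ∈ Δ, ∀ y ∈ Δ, x * y * x⁻¹ ∈ Δ) {x y z w : G}
    (hx : x ∈ Δ) (hy : y ∈ Δ) (hz : z ∈ Δ) (hw : w ∈ Δ) :
    IsPGroup 3 (closure ({x * y, z * w} : Set G)) := by
  obtain ⟨T, hT, hTm⟩ := w1_closed hZ hinv hne h3 hconj
  apply hT.to_le
  rw [closure_le]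
  intro g hg
  rcases hg with h1 | h1
  · rw [h1]; exact hTm x hx y hy
  · rw [Set.mem_singleton_iff] at h1
    rw [h1]; exact hTm z hz w hw

end Main

end Cfsg.Agent.Lib.Helper27.W1
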