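import Mathlib
import Cfsg.Prelude
import Cfsg.Agent.Lib.Helper27.TTComponents
import Cfsg.Agent.Lib.Helper27.TTPrimitive2
import Cfsg.Agent.Lib.Helper27.TTMaximal
import Cfsg.Agent.Lib.Helper27.ZStarW1

/-!
# Helper27: `O₂`, `O₃` and the layer of a group generated by a class of 3-transpositions

For a generating class `D` of 3-transpositions (at least two members):
* `not_both_noncentral`: `O₂(G)` and `O₃(G)` are not both non-central;
* `layer_eq_bot_of_two`: if `O₂(G)` is not central, there are no components;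
* `layer_eq_bot_of_three`: if `O₃(G)` is not central, there are no components (uses the
  `Z*`-theorem through `W1.w1_closed`);
* `layer_ne_bot_of_central`: if both are central there is a component.
-/

set_option autoImplicit false

namespace Cfsg.Agent.Lib.Helper27.TT

open Cfsg Cfsg.Agent.Lib.Helper27.W1

universe u

variable {G : Type u} [Group G] [Finite G] {D : Set G}

omit [Finite G] in
theorem eq_one_of_pow_of_isPGroup {p m : ℕ} {N : Subgroup G} (hN : IsPGroup p N) {q : G}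
    (hq : q ∈ N) (hm : q ^ m = 1) (hcop : Nat.Coprime p m) : q = 1 := by
  obtain ⟨k, hk⟩ := hN ⟨q, hq⟩
  have hk' : q ^ (p ^ k) = 1 := by
    have := congrArg Subtype.val hk
    simpa using this
  have ho1 : orderOf q ∣ p ^ k := orderOf_dvd_of_pow_eq_one hk'
  have ho2 : orderOf q ∣ m := orderOf_dvd_of_pow_eq_one hm
  have hcop' : Nat.Coprime (p ^ k) m := Nat.Coprime.pow_left k hcop
  exact orderOf_eq_one_iff.mp (Nat.eq_one_of_dvd_coprimes hcop' ho1 ho2)

/-- a normal non-central subgroup moves every member of `D` -/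
theorem exists_not_commute_of_not_le_center (hD : IsThreeTranspositionClass D) {N : Subgroup G}
    (hNn : N.Normal) (hN : ¬ N ≤ Subgroup.center G) {d : G} (hd : d ∈ D) :
    ∃ v ∈ N, ¬ Commute v d := by
  by_contra hcon
  push Not at hcon
  apply hN
  intro x hx
  have hle : (⊤ : Subgroup G) ≤ Subgroup.centralizer ({x} : Set G) := by
    rw [← hD.2.2, Subgroup.closure_le]
    intro e he
    rw [SetLike.mem_coe, Subgroup.mem_centralizer_iff]
    intro h hh
    rw [Set.mem_singleton_iff] at hh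
    rw [hh]
    obtain ⟨g, hg⟩ := class_trans hD d hd e he
    have hmem : g⁻¹ * x * g ∈ N := by
      have h0 := hNn.conj_mem x hx g⁻¹
      rwa [inv_inv] at h0
    have h1 : Commute (g⁻¹ * x * g) d := hcon _ hmem
    have h2 : Commute (g * (g⁻¹ * x * g) * g⁻¹) (g * d * g⁻¹) := (Commute.conj_iff g).mpr h1
    have h3 : g * (g⁻¹ * x * g) * g⁻¹ = x := by group
    rw [h3, hg] at h2
    exact h2.eq
  rw [Subgroup.mem_center_iff]
  intro g
  have h4 := hle (Subgroup.mem_top g)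
  rw [Subgroup.mem_centralizer_iff] at h4
  exact (h4 x rfl).symm

omit [Finite G] in
theorem conj_data (hD : IsThreeTranspositionClass D) {N : Subgroup G} (hNn : N.Normal) {d v : G}
    (hd : d ∈ D) (hv : v ∈ N) (hvd : ¬ Commute v d) :
    v * d * v⁻¹ ∈ D ∧ d * (v * d * v⁻¹) ∈ N ∧ d * (v * d * v⁻¹) ≠ 1 := by
  have id := inv_of_mem hD.1 hd
  refine ⟨conj_mem_of_class hD v hd, ?_, ?_⟩
  · have e : d * (v * d * v⁻¹) = (d * v * d⁻¹) * v⁻¹ := by rw [id]; simp only [mul_assoc]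
    rw [e]
    exact N.mul_mem (hNn.conj_mem v hv d) (N.inv_mem hv)
  · intro h1
    apply hvd
    have h2 : v * d * v⁻¹ = d := by
      have h0 := eq_inv_of_mul_eq_one_right h1
      rw [id] at h0; exact h0
    have h3 : v * d = d * v := by
      calc v * d = (v * d * v⁻¹) * v := by group
        _ = d * v := by rw [h2]
    exact h3

omit [Finite G] in
theorem order_six_false (hD3 : IsThreeTranspositionSet D) {d z a b : G} (hd : d ∈ D)
    (hz : z ∈ D) (hdz : d * z = b * a) (hab : Commute a b) (ha2 : a ^ 2 = 1) (hb3 : b ^ 3 = 1)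
    (ha1 : a ≠ 1) (hb1 : b ≠ 1) : False := by
  rcases hD3.2 d hd z hz with h | h
  · rw [hdz, hab.symm.mul_pow, ha2, mul_one] at h
    apply hb1
    calc b = b ^ 3 * (b ^ 2)⁻¹ := by group
      _ = 1 := by rw [hb3, h, inv_one, mul_one]
  · rw [hdz, hab.symm.mul_pow, hb3, one_mul] at h
    apply ha1
    calc a = a ^ 3 * (a ^ 2)⁻¹ := by group
      _ = 1 := by rw [h, ha2, inv_one, mul_one]

/-- `O₂(G)` and `O₃(G)` are not both non-central. -/
theorem not_both_noncentral (hD : IsThreeTranspositionClass D) (hD2 : ∃ a ∈ D, ∃ b ∈ D, a ≠ b)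
    (h2 : ¬ Cfsg.pCore 2 G ≤ Subgroup.center G) (h3 : ¬ Cfsg.pCore 3 G ≤ Subgroup.center G) :
    False := by
  have f2 : Fact (Nat.Prime 2) := ⟨Nat.prime_two⟩
  have f3 : Fact (Nat.Prime 3) := ⟨Nat.prime_three⟩
  have hQ2n : (Cfsg.pCore 2 G).Normal := Cfsg.Agent.Lib.Helper16.pCore_normal
  have hQ2p : IsPGroup 2 (Cfsg.pCore 2 G) := Cfsg.Agent.Lib.Helper16.pCore_isPGroup
  have hQ3n : (Cfsg.pCore 3 G).Normal := Cfsg.Agent.Lib.Helper16.pCore_normal
  have hQ3p : IsPGroup 3 (Cfsg.pCore 3 G) := Cfsg.Agent.Lib.Helper16.pCore_isPGroup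
  obtain ⟨d, hd, -⟩ := hD2
  have id := inv_of_mem hD.1 hd
  obtain ⟨v, hv, hvd⟩ := exists_not_commute_of_not_le_center hD hQ2n h2 hd
  obtain ⟨w, hw, hwd⟩ := exists_not_commute_of_not_le_center hD hQ3n h3 hd
  obtain ⟨hxD, haN, ha1⟩ := conj_data hD hQ2n hd hv hvd
  obtain ⟨hyD, hbN, hb1⟩ := conj_data hD hQ3n hd hw hwd
  obtain ⟨x, hx⟩ : ∃ x, x = v * d * v⁻¹ := ⟨_, rfl⟩
  obtain ⟨y, hy⟩ : ∃ y, y = w * d * w⁻¹ := ⟨_, rfl⟩
  rw [← hx] at hxD haN ha1
  rw [← hy] at hyD hbN hb1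
  have ha2 : (d * x) ^ 2 = 1 := by
    rcases hD.1.2 d hd x hxD with h | h
    · exact h
    · exact absurd (eq_one_of_pow_of_isPGroup hQ2p haN h (by norm_num)) ha1
  have hb3 : (d * y) ^ 3 = 1 := by
    rcases hD.1.2 d hd y hyD with h | h
    · exact absurd (eq_one_of_pow_of_isPGroup hQ3p hbN h (by norm_num)) hb1
    · exact h
  have hdisj : Disjoint (Cfsg.pCore 2 G) (Cfsg.pCore 3 G) :=
    IsPGroup.disjoint_of_ne 2 3 (by norm_num) _ _ hQ2p hQ3p
  have hab : Commute (d * x) (d * y) :=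
    Subgroup.commute_of_normal_of_disjoint _ _ hQ2n hQ3n hdisj _ _ haN hbN
  have hwa : Commute w (d * x) :=
    (Subgroup.commute_of_normal_of_disjoint _ _ hQ2n hQ3n hdisj _ _ haN hw).symm
  have hzD : w * x * w⁻¹ ∈ D := conj_mem_of_class hD w hxD
  have hdz : d * (w * x * w⁻¹) = (d * y) * (d * x) := by
    have hxa : x = d * (d * x) := by rw [← mul_assoc, mul_self_of_mem hD.1 hd, one_mul]
    have h1 : w * x * w⁻¹ = y * (d * x) := by
      calc w * x * w⁻¹ = w * (d * (d * x)) * w⁻¹ := by rw [← hxa]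
        _ = (w * d * w⁻¹) * (w * (d * x) * w⁻¹) := by group
        _ = y * (d * x) := by rw [conj_eq_of_commute hwa, ← hy]
    rw [h1, mul_assoc]
  exact order_six_false hD.1 hd hzD hdz hab ha2 hb3 ha1 hb1

omit [Finite G] in
theorem exists_component_of_layer_ne_bot (h : Cfsg.layer G ≠ ⊥) :
    ∃ K : Subgroup G, Cfsg.IsComponent K := by
  by_contra hno
  push Not at hno
  apply h
  unfold Cfsg.layer
  have h1 : {K : Subgroup G | Cfsg.IsComponent K} = ∅ := by
    ext K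
    constructor
    · intro hK; exact absurd hK (hno K)
    · intro hK; exact ((Set.mem_empty_iff_false K).mp hK).elim
  rw [h1, sSup_empty]

variable {K : Subgroup G}

/-- a subgroup containing all `(k d k⁻¹) d`, `k ∈ K`, contains `K` -/
theorem QCtx.le_of_conj_mul_mem (c : QCtx D K) {d : G} (hd : d ∈ D) {T : Subgroup G}
    (hT : ∀ k ∈ K, (k * d * k⁻¹) * d ∈ T) : K ≤ T := by
  have h1 := c.commutator_zpowers_eq hd
  rw [← h1, Subgroup.commutator_le]
  intro k hk g hg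
  obtain ⟨n, rfl⟩ := Subgroup.mem_zpowers_iff.mp hg
  have id := inv_of_mem c.hD.1 hd
  have hd2 : d ^ (2 : ℤ) = 1 := by
    rw [zpow_ofNat, pow_two]; exact mul_self_of_mem c.hD.1 hd
  rcases Int.emod_two_eq_zero_or_one n with h | h
  · have h2 : d ^ n = 1 := by
      rw [← Int.mul_ediv_add_emod n 2, h, add_zero, zpow_mul, hd2, one_zpow]
    rw [h2, commutatorElement_def, inv_one, mul_one, mul_one, mul_inv_cancel]
    exact T.one_mem
  · have h2 : d ^ n = d := by
      rw [← Int.mul_ediv_add_emod n 2, h, zpow_add, zpow_mul, hd2, one_zpow, one_mul, zpow_one]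
    rw [h2, commutatorElement_def, id]
    exact hT k hk

theorem isSolvable_of_isPGroup {p : ℕ} [Fact p.Prime] {N : Subgroup G} (hN : IsPGroup p N) :
    Group.IsSolvable ↥N := by
  have hnil : Group.IsNilpotent ↥N := hN.isNilpotent
  exact inferInstance

theorem comp_le_centralizer_pCore {p : ℕ} [Fact p.Prime] (hK : Cfsg.IsComponent K) :
    K ≤ Subgroup.centralizer (Cfsg.pCore p G : Set G) := by
  have hQn : (Cfsg.pCore p G).Normal := Cfsg.Agent.Lib.Helper16.pCore_normal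
  have hQp : IsPGroup p (Cfsg.pCore p G) := Cfsg.Agent.Lib.Helper16.pCore_isPGroup
  apply Subgroup.commutator_eq_bot_iff_le_centralizer.mp
  apply Cfsg.Agent.Lib.Helper9.comp_commutator_solvable_eq_bot hK (isSolvable_of_isPGroup hQp)
  rw [Subgroup.normalizer_eq_top_iff.mpr hQn]
  exact le_top

/-- If `O₂(G)` is not central then `G` has no component. -/
theorem layer_eq_bot_of_two (hD : IsThreeTranspositionClass D) (hD2 : ∃ a ∈ D, ∃ b ∈ D, a ≠ b)
    (h2 : ¬ Cfsg.pCore 2 G ≤ Subgroup.center G) : Cfsg.layer G = ⊥ := by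
  by_contra hE
  obtain ⟨K, hK⟩ := exists_component_of_layer_ne_bot hE
  have hKn := comp_normal hD hK
  have c : QCtx D K := ⟨hD, hD2, hKn, hK.2⟩
  have f2 : Fact (Nat.Prime 2) := ⟨Nat.prime_two⟩
  have hQn : (Cfsg.pCore 2 G).Normal := Cfsg.Agent.Lib.Helper16.pCore_normal
  have hQp : IsPGroup 2 (Cfsg.pCore 2 G) := Cfsg.Agent.Lib.Helper16.pCore_isPGroup
  obtain ⟨d, hd, -⟩ := hD2
  have id := inv_of_mem hD.1 hd
  obtain ⟨v, hv, hvd⟩ := exists_not_commute_of_not_le_center hD hQn h2 hd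
  obtain ⟨hxD, haN, ha1⟩ := conj_data hD hQn hd hv hvd
  obtain ⟨x, hx⟩ : ∃ x, x = v * d * v⁻¹ := ⟨_, rfl⟩
  rw [← hx] at hxD haN ha1
  have ha2 : (d * x) ^ 2 = 1 := by
    rcases hD.1.2 d hd x hxD with h | h
    · exact h
    · exact absurd (eq_one_of_pow_of_isPGroup hQp haN h (by norm_num)) ha1
  have hdx : Commute d x := commute_of_sq hD.1 hd hxD ha2
  have hcent := comp_le_centralizer_pCore (p := 2) hK
  have hak : ∀ k ∈ K, Commute (d * x) k := by
    intro k hk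
    exact Subgroup.mem_centralizer_iff.mp (hcent hk) (d * x) haN
  have had : Commute (d * x) d := (Commute.refl d).mul_left hdx.symm
  have hstep : ∀ k ∈ K, Commute d (k * d * k⁻¹) := by
    intro k hk
    by_contra hne
    have heD : k * d * k⁻¹ ∈ D := conj_mem_of_class hD k hd
    have hu3 := pow_three_of_not_commute hD.1 hd heD hne
    have hxe : x * (k * d * k⁻¹) = (d * x) * (d * (k * d * k⁻¹)) := by
      rw [hdx.eq]
      simp only [mul_assoc]
      rw [← mul_assoc d d, mul_self_of_mem hD.1 hd, one_mul]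
    have hae : Commute (d * x) (k * d * k⁻¹) :=
      ((hak k hk).mul_right had).mul_right (hak k hk).inv_right
    have hcomm : Commute (d * x) (d * (k * d * k⁻¹)) := had.mul_right hae
    rcases hD.1.2 x hxD _ heD with h | h
    · rw [hxe, hcomm.mul_pow, ha2, one_mul] at h
      exact hne (commute_of_sq hD.1 hd heD h)
    · rw [hxe, hcomm.mul_pow, hu3, mul_one] at h
      apply ha1
      calc d * x = (d * x) ^ 3 * ((d * x) ^ 2)⁻¹ := by group
        _ = 1 := by rw [h, ha2, inv_one, mul_one]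
  have hKT : K ≤ Subgroup.centralizer {e : G | ∃ k ∈ K, e = k * d * k⁻¹} := by
    apply c.le_of_conj_mul_mem hd
    intro k hk
    rw [Subgroup.mem_centralizer_iff]
    rintro s ⟨k', hk', rfl⟩
    have h1 : Commute (k' * d * k'⁻¹) d := (hstep k' hk').symm
    have h2 : Commute (k' * d * k'⁻¹) (k * d * k⁻¹) := by
      have h3 := hstep (k⁻¹ * k') (K.mul_mem (K.inv_mem hk) hk')
      have h4 := (Commute.conj_iff k).mpr h3
      have h5 : k * ((k⁻¹ * k') * d * (k⁻¹ * k')⁻¹) * k⁻¹ = k' * d * k'⁻¹ := by group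
      rw [h5] at h4
      exact h4.symm
    exact (h2.mul_right h1).eq
  have hdK : d ∈ Subgroup.centralizer (K : Set G) := by
    rw [Subgroup.mem_centralizer_iff]
    intro k hk
    have h1 := Subgroup.mem_centralizer_iff.mp (hKT hk) d
      ⟨1, K.one_mem, by rw [one_mul, inv_one, mul_one]⟩
    exact h1.symm
  exact c.not_mem_centralizer hd hdK

/-- If `O₃(G)` is not central then `G` has no component. -/
theorem layer_eq_bot_of_three (hZ : ZStarHyp.{u}) (hD : IsThreeTranspositionClass D)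
    (hD2 : ∃ a ∈ D, ∃ b ∈ D, a ≠ b)
    (h3 : ¬ Cfsg.pCore 3 G ≤ Subgroup.center G) : Cfsg.layer G = ⊥ := by
  by_contra hE
  obtain ⟨K, hK⟩ := exists_component_of_layer_ne_bot hE
  have hKn := comp_normal hD hK
  have c : QCtx D K := ⟨hD, hD2, hKn, hK.2⟩
  have f3 : Fact (Nat.Prime 3) := ⟨Nat.prime_three⟩
  have hQn : (Cfsg.pCore 3 G).Normal := Cfsg.Agent.Lib.Helper16.pCore_normal
  have hQp : IsPGroup 3 (Cfsg.pCore 3 G) := Cfsg.Agent.Lib.Helper16.pCore_isPGroup
  obtain ⟨d, hd, -⟩ := hD2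
  have id := inv_of_mem hD.1 hd
  obtain ⟨w, hw, hwd⟩ := exists_not_commute_of_not_le_center hD hQn h3 hd
  obtain ⟨hyD, hbN, hb1⟩ := conj_data hD hQn hd hw hwd
  obtain ⟨y, hy⟩ : ∃ y, y = w * d * w⁻¹ := ⟨_, rfl⟩
  rw [← hy] at hyD hbN hb1
  have hb3 : (d * y) ^ 3 = 1 := by
    rcases hD.1.2 d hd y hyD with h | h
    · exact absurd (eq_one_of_pow_of_isPGroup hQp hbN h (by norm_num)) hb1
    · exact h
  have hcent := comp_le_centralizer_pCore (p := 3) hK
  have hbk : ∀ k ∈ K, Commute (d * y) k := by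
    intro k hk
    exact Subgroup.mem_centralizer_iff.mp (hcent hk) (d * y) hbN
  have hstep : ∀ k ∈ K, Commute d (k * d * k⁻¹) → k * d * k⁻¹ = d := by
    intro k hk hcomm
    have heD : k * d * k⁻¹ ∈ D := conj_mem_of_class hD k hd
    have huK : d * (k * d * k⁻¹) ∈ K := by
      have e1 : d * (k * d * k⁻¹) = (d * k * d⁻¹) * k⁻¹ := by rw [id]; simp only [mul_assoc]
      rw [e1]; exact K.mul_mem (hKn.conj_mem k hk d) (K.inv_mem hk)
    have hu2 : (d * (k * d * k⁻¹)) ^ 2 = 1 := by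
      rw [pow_two]
      exact mul_mul_self_of_commute hcomm (mul_self_of_mem hD.1 hd) (mul_self_of_mem hD.1 heD)
    have hye : y * (k * d * k⁻¹) = (d * y)⁻¹ * (d * (k * d * k⁻¹)) := by
      rw [mul_inv_rev, inv_of_mem hD.1 hyD, id]
      simp only [mul_assoc]
      rw [← mul_assoc d d, mul_self_of_mem hD.1 hd, one_mul]
    have hcm : Commute (d * y)⁻¹ (d * (k * d * k⁻¹)) := (hbk _ huK).inv_left
    rcases hD.1.2 y hyD _ heD with h | h
    · rw [hye, hcm.mul_pow, hu2, mul_one, inv_pow, inv_eq_one] at h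
      exfalso; apply hb1
      calc d * y = (d * y) ^ 3 * ((d * y) ^ 2)⁻¹ := by group
        _ = 1 := by rw [hb3, h, inv_one, mul_one]
    · rw [hye, hcm.mul_pow, inv_pow, hb3, inv_one, one_mul] at h
      have hu1 : d * (k * d * k⁻¹) = 1 := by
        calc d * (k * d * k⁻¹)
            = (d * (k * d * k⁻¹)) ^ 3 * ((d * (k * d * k⁻¹)) ^ 2)⁻¹ := by group
          _ = 1 := by rw [h, hu2, inv_one, mul_one]
      have h0 := eq_inv_of_mul_eq_one_right hu1
      rw [id] at h0; exact h0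
  have hΔD : ∀ e ∈ {e : G | ∃ k ∈ K, e = k * d * k⁻¹}, e ∈ D := by
    rintro e ⟨k, hk, rfl⟩
    exact conj_mem_of_class hD k hd
  have h3Δ : ∀ e₁ ∈ {e : G | ∃ k ∈ K, e = k * d * k⁻¹},
      ∀ e₂ ∈ {e : G | ∃ k ∈ K, e = k * d * k⁻¹}, (e₁ * e₂) ^ 3 = 1 := by
    rintro e₁ ⟨k₁, hk₁, rfl⟩ e₂ ⟨k₂, hk₂, rfl⟩
    by_cases hc : Commute (k₁ * d * k₁⁻¹) (k₂ * d * k₂⁻¹)
    · have h1 : Commute d ((k₁⁻¹ * k₂) * d * (k₁⁻¹ * k₂)⁻¹) := by
        have h2 := (commute_conj_inv_iff k₁ _ _).mpr hc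
        have e1 : k₁⁻¹ * (k₁ * d * k₁⁻¹) * k₁ = d := by group
        have e2 : k₁⁻¹ * (k₂ * d * k₂⁻¹) * k₁ = (k₁⁻¹ * k₂) * d * (k₁⁻¹ * k₂)⁻¹ := by group
        rw [e1, e2] at h2; exact h2
      have h3 := hstep _ (K.mul_mem (K.inv_mem hk₁) hk₂) h1
      have h4 : k₂ * d * k₂⁻¹ = k₁ * d * k₁⁻¹ := by
        calc k₂ * d * k₂⁻¹ = k₁ * ((k₁⁻¹ * k₂) * d * (k₁⁻¹ * k₂)⁻¹) * k₁⁻¹ := by group
          _ = k₁ * d * k₁⁻¹ := by rw [h3]
      rw [h4, mul_self_of_mem hD.1 (conj_mem_of_class hD k₁ hd), one_pow]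
    · exact pow_three_of_not_commute hD.1 (conj_mem_of_class hD k₁ hd)
        (conj_mem_of_class hD k₂ hd) hc
  have hconjΔ : ∀ e₁ ∈ {e : G | ∃ k ∈ K, e = k * d * k⁻¹},
      ∀ e₂ ∈ {e : G | ∃ k ∈ K, e = k * d * k⁻¹},
        e₁ * e₂ * e₁⁻¹ ∈ {e : G | ∃ k ∈ K, e = k * d * k⁻¹} := by
    rintro e₁ ⟨k₁, hk₁, rfl⟩ e₂ ⟨k₂, hk₂, rfl⟩
    refine ⟨k₁ * (d * (k₁⁻¹ * k₂) * d⁻¹),
      K.mul_mem hk₁ (hKn.conj_mem _ (K.mul_mem (K.inv_mem hk₁) hk₂) d), ?_⟩
    group
  obtain ⟨T, hT, hTm⟩ := w1_closed hZ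
    (fun e he => mul_self_of_mem hD.1 (hΔD e he)) (fun e he => ne_one_of_mem hD.1 (hΔD e he))
    h3Δ hconjΔ
  have hKT : K ≤ T := by
    apply c.le_of_conj_mul_mem hd
    intro k hk
    exact hTm _ ⟨k, hk, rfl⟩ _ ⟨1, K.one_mem, by rw [one_mul, inv_one, mul_one]⟩
  have hKp : IsPGroup 3 K := hT.to_le hKT
  exact Cfsg.Agent.Lib.Helper9.qs_not_isSolvable hK.2 (isSolvable_of_isPGroup hKp)

/-- If `O₂(G)` and `O₃(G)` are central then `G` has a component. -/
theorem layer_ne_bot_of_central (hD : IsThreeTranspositionClass D)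
    (hD2 : ∃ a ∈ D, ∃ b ∈ D, a ≠ b)
    (h2 : Cfsg.pCore 2 G ≤ Subgroup.center G) (h3 : Cfsg.pCore 3 G ≤ Subgroup.center G) :
    Cfsg.layer G ≠ ⊥ := by
  intro hE
  have hF := fitting_le_center_of hD h2 h3
  have hgfs : Cfsg.generalizedFittingSubgroup G ≤ Subgroup.center G := by
    unfold Cfsg.generalizedFittingSubgroup
    rw [hE, bot_sup_eq]
    exact hF
  have h1 := Cfsg.Agent.Lib.Helper9.centralizer_gfs_le (G := G)
  have htop : (⊤ : Subgroup G) ≤
      Subgroup.centralizer (Cfsg.generalizedFittingSubgroup G : Set G) := by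
    intro g _
    rw [Subgroup.mem_centralizer_iff]
    intro h hh
    exact (Subgroup.mem_center_iff.mp (hgfs hh) g).symm
  obtain ⟨d, hd, -⟩ := id hD2
  obtain ⟨e, he, hde⟩ := exists_not_commute hD hD2 hd
  have hdc : d ∈ Subgroup.center G := hgfs (h1 (htop (Subgroup.mem_top d)))
  exact hde ((Subgroup.mem_center_iff.mp hdc e).symm)

end Cfsg.Agent.Lib.Helper27.TT
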