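import Mathlib
import Cfsg.Prelude
import Cfsg.Agent.Lib.Helper27.TTCong
import Cfsg.Agent.Lib.Helper27.TTCores
import Cfsg.Agent.Lib.Helper27.ZStarW1
import Cfsg.Agent.Lib.Helper21.BaerSuzuki

/-!
# Helper27: the classes `W_d` of a set of 3-transpositions

`SameNbr D x y`: `x` and `y` have the same commuting partners in `D` (other than themselves).
Using the `Z*`-theorem (through `W1.w1_closed`) and Baer–Suzuki, products of related pairs lie in
`O₃(G)`; conversely members of `D` congruent modulo `O₃(G)` are related, and conjugate under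
`O₃(G)`.
-/

set_option autoImplicit false

namespace Cfsg.Agent.Lib.Helper27.TT

open Cfsg Cfsg.Agent.Lib.Helper27.W1

universe u

variable {G : Type u} [Group G] {D : Set G}

/-- `x` and `y` are members of `D` with the same commuting partners (other than themselves) -/
def SameNbr (D : Set G) (x y : G) : Prop :=
  x ∈ D ∧ y ∈ D ∧ ∀ z ∈ D, (z ≠ x ∧ Commute x z) ↔ (z ≠ y ∧ Commute y z)

theorem sameNbr_cong (hc : ∀ g : G, ∀ d ∈ D, g * d * g⁻¹ ∈ D) : Cong D (SameNbr D) where
  refl a ha := ⟨ha, ha, fun _ _ => Iff.rfl⟩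
  symm h := ⟨h.2.1, h.1, fun z hz => (h.2.2 z hz).symm⟩
  trans h1 h2 := ⟨h1.1, h2.2.1, fun z hz => (h1.2.2 z hz).trans (h2.2.2 z hz)⟩
  mem h := ⟨h.1, h.2.1⟩
  conj g {x y} h := by
    refine ⟨hc g x h.1, hc g y h.2.1, ?_⟩
    intro z hz
    have hz' : g⁻¹ * z * g ∈ D := by
      have h1 := hc g⁻¹ z hz
      rwa [inv_inv] at h1
    have key : ∀ v : G, (z ≠ g * v * g⁻¹ ∧ Commute (g * v * g⁻¹) z) ↔
        (g⁻¹ * z * g ≠ v ∧ Commute v (g⁻¹ * z * g)) := by
      intro v
      have e1 : z = g * v * g⁻¹ ↔ g⁻¹ * z * g = v := by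
        constructor
        · intro h1; rw [h1]; group
        · intro h1; rw [← h1]; group
      have e2 : Commute (g * v * g⁻¹) z ↔ Commute v (g⁻¹ * z * g) := by
        have h3 := commute_conj_inv_iff g (g * v * g⁻¹) z
        have h4 : g⁻¹ * (g * v * g⁻¹) * g = v := by group
        rw [h4] at h3
        exact h3.symm
      exact and_congr (not_congr e1) e2
    exact (key x).trans ((h.2.2 _ hz').trans (key y).symm)

theorem SameNbr.width_one {x y : G} (h : SameNbr D x y) (hc : Commute x y) : x = y := by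
  by_contra hne
  have h1 := (h.2.2 y h.2.1).mp ⟨fun h' => hne h'.symm, hc⟩
  exact h1.1 rfl

/-- membership in the set `W_d` of the statement S5350 -/
theorem mem_W_iff {d w : G} (hd : d ∈ D) :
    (w ∈ D ∧ {y : G | y ∈ D ∧ y ≠ d ∧ Commute d y} = {y : G | y ∈ D ∧ y ≠ w ∧ Commute w y}) ↔
      SameNbr D d w := by
  constructor
  · rintro ⟨hwD, hset⟩
    refine ⟨hd, hwD, fun z hz => ?_⟩
    have h1 := Set.ext_iff.mp hset z
    exact ⟨fun h => (h1.mp ⟨hz, h.1, h.2⟩).2, fun h => (h1.mpr ⟨hz, h.1, h.2⟩).2⟩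
  · rintro ⟨-, hwD, h⟩
    refine ⟨hwD, Set.ext fun z => ⟨fun hz => ⟨hz.1, (h z hz.1).mp hz.2⟩,
      fun hz => ⟨hz.1, (h z hz.1).mpr hz.2⟩⟩⟩

/-- products of two members of the class of `e` -/
def gens (D : Set G) (e : G) : Set G :=
  {k | ∃ x y, SameNbr D e x ∧ SameNbr D e y ∧ k = x * y}

variable [Finite G]

theorem isPGroup_closure_gens (hZ : ZStarHyp.{u}) (hD3 : IsThreeTranspositionSet D)
    (hc : ∀ g : G, ∀ d ∈ D, g * d * g⁻¹ ∈ D) (e : G) :
    IsPGroup 3 (Subgroup.closure (gens D e)) := by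
  have hθ := sameNbr_cong hc
  obtain ⟨T, hT, hTm⟩ := w1_closed hZ (Δ := {x | SameNbr D e x})
    (fun x hx => mul_self_of_mem hD3 hx.2.1) (fun x hx => ne_one_of_mem hD3 hx.2.1)
    (by
      intro x hx y hy
      by_cases hxy : Commute x y
      · have h1 : x = y := (hθ.trans (hθ.symm hx) hy).width_one hxy
        rw [h1, mul_self_of_mem hD3 hy.2.1, one_pow]
      · exact pow_three_of_not_commute hD3 hx.2.1 hy.2.1 hxy)
    (by
      intro x hx y hy
      have h1 : SameNbr D x y := hθ.trans (hθ.symm hx) hy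
      have h2 := hθ.conj x h1
      rw [conj_self_eq] at h2
      exact hθ.trans hx h2)
  apply hT.to_le
  rw [Subgroup.closure_le]
  rintro k ⟨x, y, hx, hy, rfl⟩
  exact hTm x hx y hy

omit [Finite G] in
theorem closure_gens_le (hc : ∀ g : G, ∀ d ∈ D, g * d * g⁻¹ ∈ D) (e : G) :
    Subgroup.closure (gens D e) ≤
      Subgroup.closure {k : G | ∃ x y, SameNbr D x y ∧ k = x * y} := by
  have hθ := sameNbr_cong hc
  apply Subgroup.closure_mono
  rintro k ⟨x, y, hx, hy, rfl⟩
  exact ⟨x, y, hθ.trans (hθ.symm hx) hy, rfl⟩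

omit [Finite G] in
theorem le_normalizer_gens (hD3 : IsThreeTranspositionSet D)
    (hc : ∀ g : G, ∀ d ∈ D, g * d * g⁻¹ ∈ D) (f : G) :
    Subgroup.closure {k : G | ∃ x y, SameNbr D x y ∧ k = x * y} ≤
      Subgroup.normalizer (Subgroup.closure (gens D f) : Set G) := by
  have hθ := sameNbr_cong hc
  have key : ∀ n ∈ Subgroup.closure {k : G | ∃ x y, SameNbr D x y ∧ k = x * y},
      ∀ u ∈ Subgroup.closure (gens D f), n * u * n⁻¹ ∈ Subgroup.closure (gens D f) := by
    intro n hn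
    apply Cfsg.Agent.Lib.Helper21.conj_closure_mem
    rintro k ⟨x, y, hx, hy, rfl⟩
    apply Subgroup.subset_closure
    refine ⟨n * x * n⁻¹, n * y * n⁻¹, ?_, ?_, by group⟩
    · exact hθ.trans hx (hθ.symm (hθ.conj_closure hD3 hn hx.2.1))
    · exact hθ.trans hy (hθ.symm (hθ.conj_closure hD3 hn hy.2.1))
  intro n hn
  rw [Subgroup.mem_normalizer_iff]
  intro u
  constructor
  · exact key n hn u
  · intro hu
    have h1 := key n⁻¹ (Subgroup.inv_mem _ hn) _ hu
    have e : n⁻¹ * (n * u * n⁻¹) * n⁻¹⁻¹ = u := by group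
    rwa [e] at h1

/-- Members of `D` with the same commuting partners are congruent modulo `O₃(G)`. -/
theorem mul_mem_pCore_of_sameNbr (hZ : ZStarHyp.{u}) (hD3 : IsThreeTranspositionSet D)
    (hc : ∀ g : G, ∀ d ∈ D, g * d * g⁻¹ ∈ D) {x y : G} (h : SameNbr D x y) :
    x * y ∈ Cfsg.pCore 3 G := by
  have f3 : Fact (Nat.Prime 3) := ⟨Nat.prime_three⟩
  have hθ := sameNbr_cong hc
  let U : Set G := {u | ∃ e, u ∈ Subgroup.closure (gens D e)}
  have hU : ∀ g : G, ∀ u ∈ U, g * u * g⁻¹ ∈ U := by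
    rintro g u ⟨e, hu⟩
    refine ⟨g * e * g⁻¹, ?_⟩
    revert u
    apply Cfsg.Agent.Lib.Helper21.conj_closure_mem
    rintro k ⟨a, b, ha, hb, rfl⟩
    apply Subgroup.subset_closure
    exact ⟨g * a * g⁻¹, g * b * g⁻¹, hθ.conj g ha, hθ.conj g hb, by group⟩
  have h2 : ∀ a ∈ U, ∀ b ∈ U, IsPGroup 3 (Subgroup.closure ({a, b} : Set G)) := by
    rintro a ⟨e, ha⟩ b ⟨f, hb⟩
    have hle : Subgroup.closure (gens D e) ≤
        Subgroup.normalizer (Subgroup.closure (gens D f) : Set G) :=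
      (closure_gens_le hc e).trans (le_normalizer_gens hD3 hc f)
    have hsup : IsPGroup 3 (Subgroup.closure (gens D e) ⊔ Subgroup.closure (gens D f) :
        Subgroup G) :=
      IsPGroup.to_sup_of_normal_right' (isPGroup_closure_gens hZ hD3 hc e)
        (isPGroup_closure_gens hZ hD3 hc f) hle
    apply hsup.to_le
    rw [Subgroup.closure_le]
    intro t ht
    rcases ht with rfl | ht
    · exact Subgroup.mem_sup_left ha
    · rw [Set.mem_singleton_iff] at ht
      rw [ht]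
      exact Subgroup.mem_sup_right hb
  have hp := Cfsg.Agent.Lib.Helper21.baer_suzuki_set (p := 3) U hU h2
  have hn := Cfsg.Agent.Lib.Helper21.closure_normal_of_conj_invariant U hU
  apply Cfsg.Agent.Lib.Helper16.le_pCore _ hn hp
  apply Subgroup.subset_closure
  exact ⟨x, Subgroup.subset_closure ⟨x, y, hθ.refl x h.1, h, rfl⟩⟩

theorem half_of_mem_pCore (hD3 : IsThreeTranspositionSet D) {a b e : G} (ha : a ∈ D)
    (hb : b ∈ D) (he : e ∈ D) (hq : a⁻¹ * b ∈ Cfsg.pCore 3 G) (hea : e ≠ a)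
    (hae : Commute a e) : e ≠ b ∧ Commute b e := by
  have f3 : Fact (Nat.Prime 3) := ⟨Nat.prime_three⟩
  have hQn : (Cfsg.pCore 3 G).Normal := Cfsg.Agent.Lib.Helper16.pCore_normal
  have hQp : IsPGroup 3 (Cfsg.pCore 3 G) := Cfsg.Agent.Lib.Helper16.pCore_isPGroup
  have ia := inv_of_mem hD3 ha
  have ie := inv_of_mem hD3 he
  rw [ia] at hq
  have hae1 : a * e ∈ Cfsg.pCore 3 G → False := by
    intro hmem
    have h2 : (a * e) ^ 2 = 1 := by
      rw [pow_two]
      exact mul_mul_self_of_commute hae (mul_self_of_mem hD3 ha) (mul_self_of_mem hD3 he)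
    have h1 := eq_one_of_pow_of_isPGroup hQp hmem h2 (by norm_num)
    have h0 := eq_inv_of_mul_eq_one_right h1
    rw [ia] at h0
    exact hea h0
  have hcomm : Commute b e := by
    by_contra hbe
    have h3 := pow_three_of_not_commute hD3 hb he hbe
    obtain ⟨q, hq_def⟩ : ∃ q, q = a * b := ⟨_, rfl⟩
    rw [← hq_def] at hq
    have hb_eq : b = a * q := by
      rw [hq_def, ← mul_assoc, mul_self_of_mem hD3 ha, one_mul]
    have hsq : (b * e) * (b * e) = (a * q * a⁻¹) * (e * q * e⁻¹) := by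
      rw [hb_eq, ia, ie]
      calc a * q * e * (a * q * e) = a * q * (e * a) * q * e := by simp only [mul_assoc]
        _ = a * q * (a * e) * q * e := by rw [hae.symm.eq]
        _ = a * q * a * (e * q * e) := by simp only [mul_assoc]
    have hmem2 : (b * e) * (b * e) ∈ Cfsg.pCore 3 G := by
      rw [hsq]
      exact Subgroup.mul_mem _ (hQn.conj_mem q hq a) (hQn.conj_mem q hq e)
    have hmem : b * e ∈ Cfsg.pCore 3 G := by
      have h4 : (b * e) * (b * e) * (b * e) = 1 := by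
        rw [← h3, pow_three]; simp only [mul_assoc]
      have h5 : b * e = ((b * e) * (b * e))⁻¹ := eq_inv_of_mul_eq_one_right h4
      rw [h5]
      exact Subgroup.inv_mem _ hmem2
    apply hae1
    have h6 : a * e = q * (b * e) := by
      rw [hq_def]
      simp only [mul_assoc]
      rw [← mul_assoc b b, mul_self_of_mem hD3 hb, one_mul]
    rw [h6]
    exact Subgroup.mul_mem _ hq hmem
  refine ⟨?_, hcomm⟩
  intro heb
  apply hae1
  rw [heb]; exact hq

/-- Members of `D` congruent modulo `O₃(G)` have the same commuting partners. -/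
theorem sameNbr_of_mem_pCore (hD3 : IsThreeTranspositionSet D) {a b : G} (ha : a ∈ D)
    (hb : b ∈ D) (hq : a⁻¹ * b ∈ Cfsg.pCore 3 G) : SameNbr D a b := by
  have hq' : b⁻¹ * a ∈ Cfsg.pCore 3 G := by
    have h1 := Subgroup.inv_mem _ hq
    rwa [mul_inv_rev, inv_inv] at h1
  refine ⟨ha, hb, fun z hz => ⟨?_, ?_⟩⟩
  · rintro ⟨h1, h2⟩
    exact half_of_mem_pCore hD3 ha hb hz hq h1 h2
  · rintro ⟨h1, h2⟩
    exact half_of_mem_pCore hD3 hb ha hz hq' h1 h2

/-- Members of `D` congruent modulo `O₃(G)` are conjugate under `O₃(G)`. -/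
theorem exists_conj_of_mem_pCore (hD3 : IsThreeTranspositionSet D) {d w : G} (hd : d ∈ D)
    (hw : w ∈ D) (hq : d⁻¹ * w ∈ Cfsg.pCore 3 G) :
    ∃ g ∈ Cfsg.pCore 3 G, w = g * d * g⁻¹ := by
  have f3 : Fact (Nat.Prime 3) := ⟨Nat.prime_three⟩
  have hQp : IsPGroup 3 (Cfsg.pCore 3 G) := Cfsg.Agent.Lib.Helper16.pCore_isPGroup
  have id := inv_of_mem hD3 hd
  have iw := inv_of_mem hD3 hw
  rw [id] at hq
  have h3 : (d * w) ^ 3 = 1 := by
    rcases hD3.2 d hd w hw with h | h
    · rw [eq_one_of_pow_of_isPGroup hQp hq h (by norm_num), one_pow]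
    · exact h
  refine ⟨d * w, hq, ?_⟩
  rw [mul_inv_rev, id, iw]
  have h4 : (d * w * d * (w * d)) * w = 1 := by
    rw [← h3, pow_three]; simp only [mul_assoc]
  have h5 := eq_inv_of_mul_eq_one_left h4
  rw [iw] at h5
  exact h5.symm

end Cfsg.Agent.Lib.Helper27.TT
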