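import Mathlib
import Cfsg.Prelude.Def_Transfer

set_option autoImplicit false

namespace Cfsg.Agent.Lib.Helper27

open Cfsg

variable {G : Type*} [Group G]

theorem map_sSup' {H : Type*} [Group H] (f : G →* H) (s : Set (Subgroup G)) :
    (sSup s).map f = ⨆ t ∈ s, t.map f :=
  (Subgroup.gc_map_comap f).l_sSup

theorem isElementaryAbelian_iff (p : ℕ) (A : Subgroup G) :
    IsElementaryAbelian p A ↔ (∀ a ∈ A, ∀ b ∈ A, a * b = b * a) ∧ ∀ a ∈ A, a ^ p = 1 := by
  unfold IsElementaryAbelian
  rw [isMulCommutative_iff_of_setLike]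

/-- `B` is an elementary abelian subgroup of `P` (as subgroups of `G`) of largest order. -/
def IsMaxEAIn (p : ℕ) (P B : Subgroup G) : Prop :=
  B ≤ P ∧ IsElementaryAbelian p B ∧
    ∀ C : Subgroup G, C ≤ P → IsElementaryAbelian p C → Nat.card C ≤ Nat.card B

theorem ea_map_subtype_iff (p : ℕ) (P : Subgroup G) (A : Subgroup P) :
    IsElementaryAbelian p (A.map P.subtype) ↔ IsElementaryAbelian p A := by
  rw [isElementaryAbelian_iff, isElementaryAbelian_iff]
  constructor
  · rintro ⟨h1, h2⟩
    refine ⟨fun a ha b hb => ?_, fun a ha => ?_⟩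
    · apply Subtype.ext
      exact h1 a ⟨a, ha, rfl⟩ b ⟨b, hb, rfl⟩
    · apply Subtype.ext
      simpa using h2 a ⟨a, ha, rfl⟩
  · rintro ⟨h1, h2⟩
    refine ⟨?_, ?_⟩
    · rintro _ ⟨a, ha, rfl⟩ _ ⟨b, hb, rfl⟩
      exact congrArg Subtype.val (h1 a ha b hb)
    · rintro _ ⟨a, ha, rfl⟩
      simpa using congrArg Subtype.val (h2 a ha)

theorem ea_map_equiv_iff (p : ℕ) (e : G ≃* G) (A : Subgroup G) :
    IsElementaryAbelian p (A.map e.toMonoidHom) ↔ IsElementaryAbelian p A := by
  rw [isElementaryAbelian_iff, isElementaryAbelian_iff]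
  constructor
  · rintro ⟨h1, h2⟩
    refine ⟨fun a ha b hb => ?_, fun a ha => ?_⟩
    · apply e.injective
      have := h1 (e a) ⟨a, ha, rfl⟩ (e b) ⟨b, hb, rfl⟩
      simpa using this
    · apply e.injective
      have := h2 (e a) ⟨a, ha, rfl⟩
      simpa using this
  · rintro ⟨h1, h2⟩
    refine ⟨?_, ?_⟩
    · rintro _ ⟨a, ha, rfl⟩ _ ⟨b, hb, rfl⟩
      have := congrArg e (h1 a ha b hb)
      simpa using this
    · rintro _ ⟨a, ha, rfl⟩
      have := congrArg e (h2 a ha)
      simpa using this

theorem card_map_subtype' (P : Subgroup G) (A : Subgroup P) :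
    Nat.card (A.map P.subtype) = Nat.card A :=
  Subgroup.card_map_of_injective P.subtype_injective

theorem card_map_equiv (e : G ≃* G) (A : Subgroup G) :
    Nat.card (A.map e.toMonoidHom) = Nat.card A :=
  Subgroup.card_map_of_injective e.injective

theorem thompsonSubgroupOf_eq (p : ℕ) (P : Subgroup G) :
    thompsonSubgroupOf p P = sSup {B | IsMaxEAIn p P B} := by
  unfold thompsonSubgroupOf thompsonSubgroup
  rw [map_sSup']
  apply le_antisymm
  · apply iSup₂_le
    intro A hA
    apply le_sSup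
    refine ⟨Subgroup.map_subtype_le A, (ea_map_subtype_iff p P A).mpr hA.1, ?_⟩
    intro C hC hCea
    have hC' : C = (C.subgroupOf P).map P.subtype := by
      rw [Subgroup.map_subgroupOf_eq_of_le hC]
    have h1 : IsElementaryAbelian p (C.subgroupOf P) := by
      rw [← ea_map_subtype_iff, ← hC']; exact hCea
    have h2 := hA.2 (C.subgroupOf P) h1
    rw [card_map_subtype']
    calc Nat.card C = Nat.card ((C.subgroupOf P).map P.subtype) := by rw [← hC']
      _ = Nat.card (C.subgroupOf P) := card_map_subtype' _ _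
      _ ≤ _ := h2
  · apply sSup_le
    intro B hB
    have hB' : B = (B.subgroupOf P).map P.subtype := by
      rw [Subgroup.map_subgroupOf_eq_of_le hB.1]
    rw [hB']
    refine le_iSup₂_of_le (B.subgroupOf P) ?_ le_rfl
    refine ⟨?_, ?_⟩
    · rw [← ea_map_subtype_iff, ← hB']; exact hB.2.1
    · intro C hC
      have := hB.2.2 (C.map P.subtype) (Subgroup.map_subtype_le C) ((ea_map_subtype_iff p P C).mpr hC)
      rw [card_map_subtype'] at this
      calc Nat.card C ≤ Nat.card B := this
        _ = Nat.card ((B.subgroupOf P).map P.subtype) := by rw [← hB']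
        _ = _ := card_map_subtype' _ _

theorem isMaxEAIn_map_iff (p : ℕ) (e : G ≃* G) (P B : Subgroup G) :
    IsMaxEAIn p (P.map e.toMonoidHom) (B.map e.toMonoidHom) ↔ IsMaxEAIn p P B := by
  unfold IsMaxEAIn
  rw [Subgroup.map_le_map_iff_of_injective e.injective, ea_map_equiv_iff, card_map_equiv]
  constructor
  · rintro ⟨h1, h2, h3⟩
    refine ⟨h1, h2, fun C hC hCea => ?_⟩
    have := h3 (C.map e.toMonoidHom) (Subgroup.map_mono hC) ((ea_map_equiv_iff p e C).mpr hCea)
    rwa [card_map_equiv] at this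
  · rintro ⟨h1, h2, h3⟩
    refine ⟨h1, h2, fun C hC hCea => ?_⟩
    have hC' : C = (C.map e.symm.toMonoidHom).map e.toMonoidHom := by
      rw [Subgroup.map_map]
      have : e.toMonoidHom.comp e.symm.toMonoidHom = MonoidHom.id G := by
        ext x; simp
      rw [this, Subgroup.map_id]
    have hle : C.map e.symm.toMonoidHom ≤ P := by
      rw [hC'] at hC
      exact (Subgroup.map_le_map_iff_of_injective e.injective).mp hC
    have hea : IsElementaryAbelian p (C.map e.symm.toMonoidHom) := by
      rw [← ea_map_equiv_iff p e, ← hC']; exact hCea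
    have := h3 _ hle hea
    rw [hC', card_map_equiv]
    exact this

theorem thompsonSubgroupOf_map (p : ℕ) (e : G ≃* G) (P : Subgroup G) :
    thompsonSubgroupOf p (P.map e.toMonoidHom) = (thompsonSubgroupOf p P).map e.toMonoidHom := by
  rw [thompsonSubgroupOf_eq, thompsonSubgroupOf_eq, map_sSup']
  apply le_antisymm
  · apply sSup_le
    intro B hB
    have hB' : B = (B.map e.symm.toMonoidHom).map e.toMonoidHom := by
      rw [Subgroup.map_map]
      have : e.toMonoidHom.comp e.symm.toMonoidHom = MonoidHom.id G := by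
        ext x; simp
      rw [this, Subgroup.map_id]
    rw [hB'] at hB ⊢
    exact le_iSup₂_of_le (B.map e.symm.toMonoidHom) ((isMaxEAIn_map_iff p e P _).mp hB) le_rfl
  · apply iSup₂_le
    intro B hB
    exact le_sSup ((isMaxEAIn_map_iff p e P B).mpr hB)

theorem thompsonSubgroupOf_le (p : ℕ) (P : Subgroup G) : thompsonSubgroupOf p P ≤ P := by
  rw [thompsonSubgroupOf_eq]
  exact sSup_le fun B hB => hB.1

/-- If `J(P₁) ≤ P₂` and `P₂` is the image of `P₁` under an automorphism then `J(P₁) = J(P₂)`. -/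
theorem thompsonSubgroupOf_eq_of_le [Finite G] (p : ℕ) (e : G ≃* G) (P₁ P₂ : Subgroup G)
    (h12 : P₂ = P₁.map e.toMonoidHom) (hle : thompsonSubgroupOf p P₁ ≤ P₂) :
    thompsonSubgroupOf p P₁ = thompsonSubgroupOf p P₂ := by
  have h1 : thompsonSubgroupOf p P₁ ≤ thompsonSubgroupOf p P₂ := by
    conv_lhs => rw [thompsonSubgroupOf_eq]
    apply sSup_le
    intro B hB
    have hBJ : B ≤ thompsonSubgroupOf p P₁ := by
      rw [thompsonSubgroupOf_eq]; exact le_sSup hB
    rw [thompsonSubgroupOf_eq]
    apply le_sSup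
    refine ⟨hBJ.trans hle, hB.2.1, fun C hC hCea => ?_⟩
    have hC' : C = (C.map e.symm.toMonoidHom).map e.toMonoidHom := by
      rw [Subgroup.map_map]
      have : e.toMonoidHom.comp e.symm.toMonoidHom = MonoidHom.id G := by
        ext x; simp
      rw [this, Subgroup.map_id]
    have hle' : C.map e.symm.toMonoidHom ≤ P₁ := by
      rw [hC', h12] at hC
      exact (Subgroup.map_le_map_iff_of_injective e.injective).mp hC
    have hea : IsElementaryAbelian p (C.map e.symm.toMonoidHom) := by
      rw [← ea_map_equiv_iff p e, ← hC']; exact hCea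
    have := hB.2.2 _ hle' hea
    rw [hC', card_map_equiv]
    exact this
  apply Subgroup.eq_of_le_of_card_ge h1
  rw [h12, thompsonSubgroupOf_map, card_map_equiv]

end Cfsg.Agent.Lib.Helper27
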