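import Mathlib
import Cfsg.Agent.Lib.Helper27.LG2CenterTools
import Cfsg.Agent.Lib.Helper27.FusionAlperin
import Cfsg.Agent.Lib.Helper27.FusionSat
import Cfsg.Agent.H26.KNormalizer3

set_option autoImplicit false

/-! The centralizer step of the local-to-global theorem on control of weak closure of elements: if the
maps of `N_F(V)` move the elements of `Z₀ ≤ Z(S)` only by elements of `V`, then `Z₀` is central in
`C_F(V)`. -/

namespace Cfsg.Agent.Lib.Helper27.LG2

open Cfsg Cfsg.FusionSystem Cfsg.Agent.Lib.Helper27 Cfsg.Agent.Lib.Helper27.LG Cfsg.Agent.H26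

variable {Ω : Type*} [Group Ω] {S : Subgroup Ω}

/-- The automorphisms of a fully normalized subgroup `P₀ ≥ Z₀ (V ∩ C_S(V))` of `C_F(V)` fix `Z₀`. -/
theorem centralizer_aut_fixes [Finite S] {p : ℕ} [Fact p.Prime] (hS : IsPGroup p S)
    {F : FusionSystem S} {V Z₀ : Subgroup Ω} (hVS : V ≤ S) [Finite V]
    (hZ₀ : Z₀ ≤ Subgroup.centralizer (S : Set Ω))
    (hA : ∀ (P : Subgroup Ω) (χ : P →* Ω), χ ∈ F.normalizerHom V P →
      ∀ x : P, (x : Ω) ∈ Z₀ → (x : Ω)⁻¹ * χ x ∈ V)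
    (C : FusionSystem (centralizerIn S V)) (hC : F.IsCentralizerSystem V C)
    [Finite ↥(centralizerIn S V)] (hS₀p : IsPGroup p ↥(centralizerIn S V)) (hCsat : C.IsSaturated p)
    {P₀ : Subgroup Ω} (hfn : C.IsFullyNormalized P₀)
    (α : P₀ ≃* P₀) (hα : IsIso C α) (x : P₀) (hx : (x : Ω) ∈ Z₀) : α x = x := by
  have hP₀S₀ : P₀ ≤ centralizerIn S V := hfn.1
  have hS₀S : centralizerIn S V ≤ S := inf_le_left
  have hP₀S : P₀ ≤ S := hP₀S₀.trans hS₀S
  haveI : Finite ↥P₀ := Finite.of_injective (Subgroup.inclusion hP₀S) (Subgroup.inclusion_injective hP₀S)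
  haveI : Finite (MulAut P₀) := Finite.of_injective (fun a : MulAut P₀ => (a : P₀ → P₀))
    (fun a b h => by ext y; exact congrArg Subtype.val (congrFun h y))
  have hfa : ∃ R : Sylow p (C.autGroup P₀), (R : Subgroup (C.autGroup P₀)) =
      (autInducedBy (centralizerIn S V) P₀).subgroupOf (C.autGroup P₀) :=
    (fa_receptive_of_fullyNormalized hS₀p hCsat hfn).1.2
  obtain ⟨A, hAdef⟩ : ∃ A : Subgroup (MulAut P₀), A = C.autGroup P₀ := ⟨_, rfl⟩
  rw [← hAdef] at hfa
  obtain ⟨R, hR⟩ := hfa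
  have hiso : ∀ a : A, IsIso C ((a : MulAut P₀) : P₀ ≃* P₀) := fun a => by
    have h0 : (a : MulAut P₀) ∈ C.autGroup P₀ := hAdef ▸ a.2
    exact (mem_autGroup_iff C hP₀S₀ _).mp h0
  -- the extension of an automorphism in `C_F(V)` to `P₀ V`
  have hext : ∀ a : A, ∃ ψ ∈ F.normalizerHom V (P₀ ⊔ V),
      (∀ y : P₀, ψ (Subgroup.inclusion le_sup_left y) = (((a : MulAut P₀) y : P₀) : Ω)) ∧
      ∀ v : V, ψ (Subgroup.inclusion le_sup_right v) = v := by
    intro a
    have h1 := hiso a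
    unfold IsIso at h1
    rw [hC P₀] at h1
    obtain ⟨-, -, -, ψ, hψ, h2, h3⟩ := h1
    have hPN : P₀ ⊔ V ≤ normalizerIn S V :=
      sup_le (hP₀S₀.trans (fun y hy => ⟨hy.1, Subgroup.centralizer_le_normalizer _ hy.2⟩))
        (le_normalizerIn hVS)
    refine ⟨ψ, mem_normalizerHom_of_preserves F le_sup_right hPN hψ ?_, fun y => h2 y, h3⟩
    intro y hy
    have h4 := h3 ⟨y, hy⟩
    have h5 : Subgroup.inclusion (le_sup_right : V ≤ P₀ ⊔ V) ⟨y, hy⟩ = y := Subtype.ext rfl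
    rw [h5] at h4
    rw [h4]
    exact hy
  -- automorphisms fix the elements of `V`
  have fact1 : ∀ (a : A) (y : P₀), (y : Ω) ∈ V → (a : MulAut P₀) y = y := by
    intro a y hy
    obtain ⟨ψ, -, h2, h3⟩ := hext a
    apply Subtype.ext
    rw [← h2 y]
    have h4 := h3 ⟨y, hy⟩
    have h5 : Subgroup.inclusion (le_sup_right : V ≤ P₀ ⊔ V) ⟨y, hy⟩ =
        Subgroup.inclusion (le_sup_left : P₀ ≤ P₀ ⊔ V) y := Subtype.ext rfl
    rw [h5] at h4
    exact h4
  -- automorphisms move the elements of `Z₀` by elements of `V`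
  have fact2 : ∀ (a : A) (y : P₀), (y : Ω) ∈ Z₀ → ((y⁻¹ * (a : MulAut P₀) y : P₀) : Ω) ∈ V := by
    intro a y hy
    obtain ⟨ψ, hψ, h2, -⟩ := hext a
    have h4 := hA _ ψ hψ (Subgroup.inclusion le_sup_left y) hy
    rw [h2 y] at h4
    exact h4
  -- the subgroup of automorphisms fixing `Z₀`
  let K : Subgroup A :=
    { carrier := {a | ∀ y : P₀, (y : Ω) ∈ Z₀ → (a : MulAut P₀) y = y}
      mul_mem' := by
        intro a b ha hb y hy
        show ((a : MulAut P₀) * (b : MulAut P₀)) y = y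
        rw [MulAut.mul_apply, hb y hy, ha y hy]
      one_mem' := by
        intro y _
        rfl
      inv_mem' := by
        intro a ha y hy
        show ((a : MulAut P₀)⁻¹) y = y
        have h1 := ha y hy
        have h2 : ((a : MulAut P₀)⁻¹) ((a : MulAut P₀) y) = y := MulAut.inv_apply_self _ _ _
        rw [h1] at h2
        exact h2 }
  have hKmem : ∀ a : A, a ∈ K ↔ ∀ y : P₀, (y : Ω) ∈ Z₀ → (a : MulAut P₀) y = y := fun _ => Iff.rfl
  haveI hKn : K.Normal := by
    constructor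
    intro a ha d
    rw [hKmem] at ha ⊢
    intro y hy
    show ((d : MulAut P₀) * (a : MulAut P₀) * (d : MulAut P₀)⁻¹) y = y
    rw [MulAut.mul_apply, MulAut.mul_apply]
    obtain ⟨v, hv⟩ : ∃ v : P₀, v = y⁻¹ * ((d : MulAut P₀)⁻¹) y := ⟨_, rfl⟩
    have hvV : (v : Ω) ∈ V := by
      rw [hv]
      exact fact2 d⁻¹ y hy
    have h1 : ((d : MulAut P₀)⁻¹) y = y * v := by rw [hv]; group
    rw [h1, map_mul, ha y hy, fact1 a v hvV, ← h1, MulAut.apply_inv_self]
  have hRK : (R : Subgroup A) ≤ K := by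
    intro a ha
    rw [hR, Subgroup.mem_subgroupOf, mem_autInducedBy_iff] at ha
    obtain ⟨g, hg, hgx⟩ := ha
    rw [hKmem]
    intro y hy
    apply Subtype.ext
    rw [hgx y]
    have h1 := (Subgroup.mem_centralizer_iff.mp (hZ₀ hy)) g (hS₀S hg)
    rw [h1, mul_inv_cancel_right]
  obtain ⟨k, hk⟩ := IsPGroup.iff_card.mp hS
  have hpow : ∀ a : A, a ^ (p ^ k) ∈ K := by
    intro a
    rw [hKmem]
    intro y hy
    obtain ⟨v, hv⟩ : ∃ v : P₀, v = y⁻¹ * (a : MulAut P₀) y := ⟨_, rfl⟩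
    have hvV : (v : Ω) ∈ V := by
      rw [hv]
      exact fact2 a y hy
    have h1 : (a : MulAut P₀) y = y * v := by rw [hv]; group
    have h2 : ∀ m : ℕ, ((a ^ m : A) : MulAut P₀) y = y * v ^ m := by
      intro m
      induction m with
      | zero => simp
      | succ m ih =>
        rw [pow_succ']
        show ((a : MulAut P₀) * ((a ^ m : A) : MulAut P₀)) y = _
        rw [MulAut.mul_apply, ih, map_mul, map_pow, fact1 a v hvV, h1, pow_succ', mul_assoc]
    rw [h2]
    have h3 : v ^ (p ^ k) = 1 := by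
      apply Subtype.ext
      have h4 : (⟨(v : Ω), hP₀S v.2⟩ : S) ^ Nat.card S = 1 := pow_card_eq_one'
      rw [hk] at h4
      have h5 := congrArg (fun w : S => (w : Ω)) h4
      simpa using h5
    rw [h3, mul_one]
  haveI : Finite A := inferInstance
  have hKtop := eq_top_of_sylow_le_of_pow_mem K R hRK k hpow
  have hαA : (α : MulAut P₀) ∈ A := by
    rw [hAdef]
    exact (mem_autGroup_iff C hP₀S₀ _).mpr hα
  have h6 : (⟨α, hαA⟩ : A) ∈ K := by rw [hKtop]; exact Subgroup.mem_top _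
  exact (hKmem _).mp h6 x hx

/-- A centric subgroup contains the centre of `S`. -/
theorem center_le_of_isCentric {F : FusionSystem S} {R : Subgroup Ω} (hR : F.IsCentric R) :
    S ⊓ Subgroup.centralizer (S : Set Ω) ≤ R := by
  have h1 := hR.2 R (isConj_refl F hR.1)
  intro z hz
  exact h1 ⟨hz.1, Subgroup.centralizer_le hR.1 hz.2⟩

/-- **Claim.** If the maps of `N_F(V)` move the elements of `Z₀ ≤ Z(S)` only by elements of `V`
(`V` fully normalized), then `Z₀` is central in `C_F(V)`. -/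
theorem centralizer_isCentral [Finite S] {p : ℕ} [Fact p.Prime] (hS : IsPGroup p S)
    {F : FusionSystem S} (hF : F.IsSaturated p) {V Z₀ : Subgroup Ω} (hVfn : F.IsFullyNormalized V)
    (hZ₀S : Z₀ ≤ S) (hZ₀ : Z₀ ≤ Subgroup.centralizer (S : Set Ω))
    (hA : ∀ (P : Subgroup Ω) (χ : P →* Ω), χ ∈ F.normalizerHom V P →
      ∀ x : P, (x : Ω) ∈ Z₀ → (x : Ω)⁻¹ * χ x ∈ V)
    (C : FusionSystem (centralizerIn S V)) (hC : F.IsCentralizerSystem V C) : C.IsCentral Z₀ := by
  have hVS : V ≤ S := hVfn.1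
  haveI : Finite ↥V := Finite.of_injective (Subgroup.inclusion hVS) (Subgroup.inclusion_injective hVS)
  have hS₀S : centralizerIn S V ≤ S := inf_le_left
  haveI : Finite ↥(centralizerIn S V) :=
    Finite.of_injective (Subgroup.inclusion hS₀S) (Subgroup.inclusion_injective hS₀S)
  have hS₀p : IsPGroup p ↥(centralizerIn S V) :=
    hS.of_injective (Subgroup.inclusion hS₀S) (Subgroup.inclusion_injective hS₀S)
  have hfc : F.IsFullyCentralized V := (fa_receptive_of_fullyNormalized hS hF hVfn).2.2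
  have hCsat : C.IsSaturated p := centralizerSystem_saturated hS hF hfc C hC
  have hZ₀S₀ : Z₀ ≤ centralizerIn S V := by
    intro z hz
    refine ⟨hZ₀S hz, Subgroup.mem_centralizer_iff.mpr fun v hv => ?_⟩
    exact (Subgroup.mem_centralizer_iff.mp (hZ₀ hz)) v (hVS hv)
  have hZ₀c : Z₀ ≤ Subgroup.centralizer ((centralizerIn S V : Subgroup Ω) : Set Ω) :=
    hZ₀.trans (Subgroup.centralizer_le hS₀S)
  obtain ⟨Cg, hCg⟩ := exists_cenSub C hZ₀S₀ hZ₀c
  -- automorphisms of fully normalized subgroups containing `Z₀` are maps of `Cg`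
  have key : ∀ P₀ : Subgroup Ω, C.IsFullyNormalized P₀ → Z₀ ≤ P₀ →
      ∀ α : P₀ ≃* P₀, IsIso C α → IsIso Cg α := by
    intro P₀ hfn hZP α hα
    unfold IsIso
    rw [hCg P₀]
    apply mem_centralizerHom_of_fixes C hZP hZ₀c hα
    intro x hx
    have := centralizer_aut_fixes hS hVS hZ₀ hA C hC hS₀p hCsat hfn α hα x hx
    show ((α x : P₀) : Ω) = x
    rw [this]
  have hall : ∀ P : Subgroup Ω, C.Hom P ⊆ Cg.Hom P := by
    apply alperin hS₀p hCsat Cg
    · intro α hα
      refine key _ ?_ hZ₀S₀ α hα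
      refine ⟨le_rfl, fun Q hQ => ?_⟩
      have hQS := isConj_le_right C hQ
      have : Q = centralizerIn S V := by
        apply Subgroup.eq_of_le_of_card_ge hQS
        rw [card_eq_of_isConj' C hQ]
      rw [this]
    · intro R _ hfn hc _ α hα
      refine key R hfn ?_ α hα
      have hle : Z₀ ≤ centralizerIn S V ⊓ Subgroup.centralizer ((centralizerIn S V : Subgroup Ω) : Set Ω) :=
        le_inf hZ₀S₀ hZ₀c
      exact hle.trans (center_le_of_isCentric hc)
  refine ⟨hZ₀S₀, fun P φ hφ => ?_⟩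
  have h1 := hall P hφ
  rw [hCg P] at h1
  obtain ⟨-, -, -, ψ, hψ, h2, h3⟩ := h1
  exact ⟨ψ, hψ, h2, h3⟩

end Cfsg.Agent.Lib.Helper27.LG2
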