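import Mathlib
import Cfsg.Agent.Lib.Helper27.LG2CenterC
import Cfsg.Agent.Lib.Helper27.LG2Central
import Cfsg.Agent.S5097

set_option autoImplicit false

/-! The normalizer step of the local-to-global theorem on control of weak closure of elements: if the
maps of `N_F(V)` move the elements of `Z₀ ≤ Z(S)` only by elements of `V`, and the maps of
`N_F(V C_S(V))` fix `Z₀`, then `Z₀` is central in `N_F(V)`. -/

namespace Cfsg.Agent.Lib.Helper27.LG2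

open Cfsg Cfsg.FusionSystem Cfsg.Agent.Lib.Helper27 Cfsg.Agent.Lib.Helper27.LG Cfsg.Agent.H26

variable {Ω : Type*} [Group Ω] {S : Subgroup Ω}

/-- A map of `F` defined on `Q ≥ V` and fixing `V` elementwise fixes `Z₀`, if `Z₀` is central in
`C_F(V)`. -/
theorem fixes_of_centralizes {F : FusionSystem S} {V Z₀ : Subgroup Ω}
    (C : FusionSystem (centralizerIn S V)) (hC : F.IsCentralizerSystem V C) (hCc : C.IsCentral Z₀)
    {Q : Subgroup Ω} {g : Q →* Ω} (hg : g ∈ F.Hom Q) (hVQ : V ≤ Q)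
    (hgV : ∀ y : Q, (y : Ω) ∈ V → g y = y) (y : Q) (hy : (y : Ω) ∈ Z₀) : g y = y := by
  have hZ₀C : Z₀ ≤ centralizerIn S V := hCc.1
  have hle : Q ⊓ centralizerIn S V ≤ Q := inf_le_left
  have hg₀ : g.comp (Subgroup.inclusion hle) ∈ F.centralizerHom V (Q ⊓ centralizerIn S V) := by
    refine ⟨hom_restrict F hle hg, inf_le_right, fun u => ⟨(F.le_of_mem hg).2 _, ?_⟩, ?_⟩
    · apply Subgroup.mem_centralizer_iff.mpr
      intro v hv
      have h1 : g ⟨v, hVQ hv⟩ = v := hgV ⟨v, hVQ hv⟩ hv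
      have h2 : (v : Ω) * (u : Ω) = (u : Ω) * v := (Subgroup.mem_centralizer_iff.mp u.2.2.2) v hv
      have h3 : (⟨v, hVQ hv⟩ : Q) * (Subgroup.inclusion hle u) = (Subgroup.inclusion hle u) * ⟨v, hVQ hv⟩ :=
        Subtype.ext h2
      show v * g (Subgroup.inclusion hle u) = g (Subgroup.inclusion hle u) * v
      rw [← h1, ← map_mul, ← map_mul, h3]
    · have hle2 : (Q ⊓ centralizerIn S V) ⊔ V ≤ Q := sup_le inf_le_left hVQ
      refine ⟨g.comp (Subgroup.inclusion hle2), hom_restrict F hle2 hg, fun u => rfl, fun v => ?_⟩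
      exact hgV _ v.2
  rw [← hC] at hg₀
  have h4 := isCentral_fixes hCc hg₀ ⟨y, ⟨y.2, hZ₀C hy⟩⟩ hy
  exact h4

/-- Automorphisms in `N_F(V)` of subgroups containing `Z₀` fix `Z₀`. -/
theorem normalizer_aut_fixes [Finite S] {p : ℕ} [Fact p.Prime] (hS : IsPGroup p S)
    {F : FusionSystem S} (hF : F.IsSaturated p) {V Z₀ : Subgroup Ω} (hVfn : F.IsFullyNormalized V)
    (hZ₀S : Z₀ ≤ S) (hZ₀ : Z₀ ≤ Subgroup.centralizer (S : Set Ω))
    (hA : ∀ (P : Subgroup Ω) (χ : P →* Ω), χ ∈ F.normalizerHom V P →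
      ∀ x : P, (x : Ω) ∈ Z₀ → (x : Ω)⁻¹ * χ x ∈ V)
    (hgoodR : ∀ (Q : Subgroup Ω) (φ : Q →* Ω), φ ∈ F.normalizerHom (V ⊔ centralizerIn S V) Q →
      ∀ x : Q, (x : Ω) ∈ Z₀ → φ x = x)
    {R : Subgroup Ω} (hZR : Z₀ ≤ R) (α : R ≃* R)
    (hα : R.subtype.comp α.toMonoidHom ∈ F.normalizerHom V R) (x : R) (hx : (x : Ω) ∈ Z₀) :
    α x = x := by
  have hVS : V ≤ S := hVfn.1
  haveI : Finite ↥V := Finite.of_injective (Subgroup.inclusion hVS) (Subgroup.inclusion_injective hVS)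
  obtain ⟨C, hC⟩ := Cfsg.Agent.S5097.result F V hVS
  have hCc : C.IsCentral Z₀ := centralizer_isCentral hS hF hVfn hZ₀S hZ₀ hA C hC
  have hZ₀C : Z₀ ≤ centralizerIn S V := hCc.1
  obtain ⟨ψ', hψ', hφψ, hψV, hPN, hψN⟩ := normalizerHom_ext hα
  have hψ'φ : ∀ y : R, ψ' (Subgroup.inclusion le_sup_left y) = ((α y : R) : Ω) := by
    intro y
    have : (R.subtype.comp α.toMonoidHom) y = ψ' (Subgroup.inclusion le_sup_left y) := by
      rw [hφψ]; rfl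
    rw [← this]
    rfl
  have hrange_le : ∀ y : ↥(R ⊔ V), ψ' y ∈ R ⊔ V := by
    apply Cfsg.Agent.S5096.map_sup_le (R := R) ψ'
    · intro y
      rw [hψ'φ y]
      exact (α y).2
    · intro v
      exact hψV _ v.2
  have hPS : R ⊔ V ≤ S := hom_le F hψ'
  haveI : Finite ↥(R ⊔ V) := Finite.of_injective (Subgroup.inclusion hPS) (Subgroup.inclusion_injective hPS)
  have hr : ψ'.range = R ⊔ V := by
    apply Subgroup.eq_of_le_of_card_ge
    · rintro _ ⟨y, rfl⟩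
      exact hrange_le y
    · rw [Nat.card_congr (MonoidHom.ofInjective (F.injective_of_mem hψ')).toEquiv]
  obtain ⟨e, he, hex⟩ := exists_isIso_of_hom F hψ' hr
  have heV : ∀ y : ↥(R ⊔ V), (y : Ω) ∈ V → ((e y : ↥(R ⊔ V)) : Ω) ∈ V := fun y hy => by
    rw [hex]; exact hψV y hy
  -- surjectivity on `V`
  have hsurjV : ∀ v ∈ V, ∃ w : ↥(R ⊔ V), (w : Ω) ∈ V ∧ ((e w : ↥(R ⊔ V)) : Ω) = v := by
    intro v hv
    have hψ'n : ψ' ∈ F.normalizerHom V (R ⊔ V) :=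
      mem_normalizerHom_of_preserves F le_sup_right hPN hψ' hψV
    obtain ⟨-, -, -, ψ₂, -, h4, h5⟩ := hψ'n
    have hv' : v ∈ (V.subgroupOf ((R ⊔ V) ⊔ V)).map ψ₂ := by rw [h5]; exact hv
    obtain ⟨u, hu, huv⟩ := hv'
    have huV : (u : Ω) ∈ V := Subgroup.mem_subgroupOf.mp hu
    refine ⟨⟨u, (le_sup_right : V ≤ R ⊔ V) huV⟩, huV, ?_⟩
    rw [hex, ← h4, ← huv]
    congr 1
  obtain ⟨ψ, hψ, hψv, hψN'⟩ := exists_ext_sup_centralizer hS hF hVfn (α := e) le_sup_right hPN he heV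
  -- `ψ` fixes `Z₀`
  have hψZ : ∀ z ∈ Z₀, ∀ hz' : z ∈ (R ⊔ V) ⊔ centralizerIn S V, ψ ⟨z, hz'⟩ = z := by
    intro z hz hz'
    have h1 := hgoodR _ _ hψN' ⟨z, (le_sup_right : centralizerIn S V ≤ V ⊔ centralizerIn S V) (hZ₀C hz)⟩ hz
    exact h1
  have hle1 : R ⊔ V ≤ (R ⊔ V) ⊔ centralizerIn S V := le_sup_left
  have hψ₁ : ψ.comp (Subgroup.inclusion hle1) ∈ F.Hom (R ⊔ V) := hom_restrict F hle1 hψ
  obtain ⟨e₁, he₁, he₁x⟩ := exists_isIso_of_hom F hψ₁ rfl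
  have hγ : IsIso F (e₁.symm.trans e) := he₁.symm.trans he
  -- `e₁` and `e` agree on `V`
  have hagree : ∀ w : ↥(R ⊔ V), (w : Ω) ∈ V → ((e₁ w : _) : Ω) = ((e w : ↥(R ⊔ V)) : Ω) := by
    intro w hw
    rw [he₁x w, ← hψv ⟨w, hw⟩]
    rfl
  have hVQ : V ≤ (ψ.comp (Subgroup.inclusion hle1)).range := by
    intro v hv
    obtain ⟨w, hw, hwv⟩ := hsurjV v hv
    rw [← hwv, ← hagree w hw]
    exact (e₁ w).2
  have hgV : ∀ y : ↥(ψ.comp (Subgroup.inclusion hle1)).range, (y : Ω) ∈ V →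
      ((R ⊔ V).subtype.comp (e₁.symm.trans e).toMonoidHom) y = y := by
    intro y hy
    obtain ⟨w, hw, hwv⟩ := hsurjV y hy
    have h1 : e₁ w = y := Subtype.ext (by rw [hagree w hw, hwv])
    show ((e (e₁.symm y) : ↥(R ⊔ V)) : Ω) = y
    rw [← h1, MulEquiv.symm_apply_apply, hagree w hw]
  -- the element `x`
  have hxP : (x : Ω) ∈ R ⊔ V := (le_sup_left : R ≤ R ⊔ V) x.2
  have h2 : ((e₁ ⟨x, hxP⟩ : _) : Ω) = x := by
    rw [he₁x]
    exact hψZ x hx _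
  have h3 := fixes_of_centralizes C hC hCc hγ hVQ hgV (e₁ ⟨x, hxP⟩) (by rw [h2]; exact hx)
  have h4 : ((R ⊔ V).subtype.comp (e₁.symm.trans e).toMonoidHom) (e₁ ⟨x, hxP⟩) =
      ((e ⟨x, hxP⟩ : ↥(R ⊔ V)) : Ω) := by
    show ((e (e₁.symm (e₁ ⟨x, hxP⟩)) : ↥(R ⊔ V)) : Ω) = _
    rw [MulEquiv.symm_apply_apply]
  rw [h4, h2, hex] at h3
  have h5 : (⟨x, hxP⟩ : ↥(R ⊔ V)) = Subgroup.inclusion le_sup_left x := Subtype.ext rfl
  rw [h5, hψ'φ x] at h3
  exact Subtype.ext h3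

/-- **The normalizer step.** -/
theorem normalizer_isCentral [Finite S] {p : ℕ} [Fact p.Prime] (hS : IsPGroup p S)
    {F : FusionSystem S} (hF : F.IsSaturated p) {V Z₀ : Subgroup Ω} (hVfn : F.IsFullyNormalized V)
    (hZ₀S : Z₀ ≤ S) (hZ₀ : Z₀ ≤ Subgroup.centralizer (S : Set Ω))
    (hA : ∀ (P : Subgroup Ω) (χ : P →* Ω), χ ∈ F.normalizerHom V P →
      ∀ x : P, (x : Ω) ∈ Z₀ → (x : Ω)⁻¹ * χ x ∈ V)
    (hgoodR : ∀ (Q : Subgroup Ω) (φ : Q →* Ω), φ ∈ F.normalizerHom (V ⊔ centralizerIn S V) Q →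
      ∀ x : Q, (x : Ω) ∈ Z₀ → φ x = x)
    (E : FusionSystem (normalizerIn S V)) (hE : F.IsNormalizerSystem V E) : E.IsCentral Z₀ := by
  have hVS : V ≤ S := hVfn.1
  have hTS : normalizerIn S V ≤ S := inf_le_left
  haveI : Finite ↥(normalizerIn S V) :=
    Finite.of_injective (Subgroup.inclusion hTS) (Subgroup.inclusion_injective hTS)
  have hTp : IsPGroup p ↥(normalizerIn S V) :=
    hS.of_injective (Subgroup.inclusion hTS) (Subgroup.inclusion_injective hTS)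
  have hEsat : E.IsSaturated p := normalizerSystem_saturated hS hF hVfn E hE
  have hZ₀T : Z₀ ≤ normalizerIn S V := by
    intro z hz
    exact ⟨hZ₀S hz, Subgroup.centralizer_le_normalizer _ (Subgroup.centralizer_le hVS (hZ₀ hz))⟩
  have hZ₀c : Z₀ ≤ Subgroup.centralizer ((normalizerIn S V : Subgroup Ω) : Set Ω) :=
    hZ₀.trans (Subgroup.centralizer_le hTS)
  obtain ⟨Eg, hEg⟩ := exists_cenSub E hZ₀T hZ₀c
  have key : ∀ R : Subgroup Ω, Z₀ ≤ R → ∀ α : R ≃* R, IsIso E α → IsIso Eg α := by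
    intro R hZR α hα
    unfold IsIso
    rw [hEg R]
    apply mem_centralizerHom_of_fixes E hZR hZ₀c hα
    intro x hx
    have hα' : R.subtype.comp α.toMonoidHom ∈ F.normalizerHom V R := by
      rw [← hE R]; exact hα
    have := normalizer_aut_fixes hS hF hVfn hZ₀S hZ₀ hA hgoodR hZR α hα' x hx
    show ((α x : R) : Ω) = x
    rw [this]
  have hall : ∀ P : Subgroup Ω, E.Hom P ⊆ Eg.Hom P := by
    apply alperin hTp hEsat Eg
    · intro α hα
      exact key _ hZ₀T α hα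
    · intro R _ _ hc _ α hα
      refine key R ?_ α hα
      have hle : Z₀ ≤ normalizerIn S V ⊓ Subgroup.centralizer ((normalizerIn S V : Subgroup Ω) : Set Ω) :=
        le_inf hZ₀T hZ₀c
      exact hle.trans (center_le_of_isCentric hc)
  refine ⟨hZ₀T, fun P φ hφ => ?_⟩
  have h1 := hall P hφ
  rw [hEg P] at h1
  obtain ⟨-, -, -, ψ, hψ, h2, h3⟩ := h1
  exact ⟨ψ, hψ, h2, h3⟩

end Cfsg.Agent.Lib.Helper27.LG2
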