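import Mathlib
import Cfsg.Agent.Lib.Helper27.CBTransfer
import Cfsg.Agent.Lib.Helper27.FusionNormal

set_option autoImplicit false

/-! The focal subgroup and the centre of a saturated fusion system. -/

namespace Cfsg.Agent.Lib.Helper27.CB

open Cfsg Cfsg.FusionSystem Cfsg.Agent.Lib.Helper27 Classical

universe u

variable {Ω : Type u} [Group Ω] {S : Subgroup Ω}

/-- Elements of the centre of the system are fixed by all maps of the system. -/
theorem central_fixed [Finite S] {F : FusionSystem S} {Q : Subgroup Ω} {θ : Q →* Ω} (hθ : θ ∈ F.Hom Q)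
    (y : Q) (hy : (y : Ω) ∈ F.center) : θ y = (y : Ω) := by
  obtain ⟨-, hc⟩ := isCentral_center F
  obtain ⟨ψ, -, h1, h2⟩ := hc Q θ hθ
  rw [← h1 y, ← h2 ⟨y, hy⟩]
  congr 1

/-- A homomorphism constant on the classes of the system kills the focal subgroup. -/
theorem focal_le_ker {F : FusionSystem S} {A : Type*} [CommGroup A] (W : S →* A)
    (hW : ∀ (P : Subgroup Ω) (φ : P →* Ω) (hφ : φ ∈ F.Hom P) (u : P),
      W ⟨φ u, (F.le_of_mem hφ).2 u⟩ = W ⟨u, hom_le F hφ u.2⟩)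
    {y : Ω} (hy : y ∈ F.focalSubgroup) : ∃ hyS : y ∈ S, W ⟨y, hyS⟩ = 1 := by
  unfold focalSubgroup at hy
  induction hy using Subgroup.closure_induction with
  | mem y hy =>
    obtain ⟨P, φ, x, hφ, rfl⟩ := hy
    have hxS : (x : Ω) ∈ S := hom_le F hφ x.2
    have hφS : φ x ∈ S := (F.le_of_mem hφ).2 x
    refine ⟨S.mul_mem (S.inv_mem hxS) hφS, ?_⟩
    have e : (⟨(x : Ω)⁻¹ * φ x, S.mul_mem (S.inv_mem hxS) hφS⟩ : S) = (⟨x, hxS⟩ : S)⁻¹ * ⟨φ x, hφS⟩ :=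
      Subtype.ext rfl
    rw [e, map_mul, map_inv, hW P φ hφ x, inv_mul_cancel]
  | one => exact ⟨S.one_mem, map_one W⟩
  | mul a b _ _ ha hb =>
    obtain ⟨haS, h1⟩ := ha
    obtain ⟨hbS, h2⟩ := hb
    refine ⟨S.mul_mem haS hbS, ?_⟩
    have e : (⟨a * b, S.mul_mem haS hbS⟩ : S) = ⟨a, haS⟩ * ⟨b, hbS⟩ := Subtype.ext rfl
    rw [e, map_mul, h1, h2, one_mul]
  | inv a _ ha =>
    obtain ⟨haS, h1⟩ := ha
    refine ⟨S.inv_mem haS, ?_⟩
    have e : (⟨a⁻¹, S.inv_mem haS⟩ : S) = (⟨a, haS⟩ : S)⁻¹ := Subtype.ext rfl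
    rw [e, map_inv, h1, inv_one]

/-- The derived subgroup of `S` lies in the focal subgroup. -/
theorem commutator_le_focal (F : FusionSystem S) : ⁅(S : Subgroup Ω), (S : Subgroup Ω)⁆ ≤ F.focalSubgroup := by
  rw [Subgroup.commutator_le]
  intro a ha b hb
  unfold focalSubgroup
  apply Subgroup.subset_closure
  have hz : Subgroup.zpowers a⁻¹ ≤ S := by
    rw [Subgroup.zpowers_le]
    exact S.inv_mem ha
  refine ⟨Subgroup.zpowers a⁻¹, conjHom _ b, ⟨a⁻¹, Subgroup.mem_zpowers _⟩, F.conj_mem hz hb, ?_⟩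
  show a * b * a⁻¹ * b⁻¹ = (a⁻¹)⁻¹ * (b * a⁻¹ * b⁻¹)
  group

/-- `foc(F) ∩ Z(F) ≤ S'` for a saturated fusion system. -/
theorem focal_inf_center_le [Finite S] {p : ℕ} [Fact p.Prime] (hS : IsPGroup p S) {F : FusionSystem S}
    (hF : F.IsSaturated p) : F.focalSubgroup ⊓ F.center ≤ ⁅(S : Subgroup Ω), (S : Subgroup Ω)⁆ := by
  rintro z ⟨hzf, hzc⟩
  have hzS : z ∈ S := (isCentral_center F).1 hzc
  obtain ⟨W, d, hd, hW, heval⟩ := exists_transfer hS hF (Abelianization.of : S →* Abelianization S)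
  obtain ⟨_, h1⟩ := focal_le_ker W hW hzf
  have h2 := heval ⟨z, hzS⟩ (by
    intro m Q θ hθ hq
    exact central_fixed hθ ⟨z ^ m, hq⟩ (F.center.pow_mem hzc m))
  rw [h1] at h2
  have h3 : (Abelianization.of (⟨z, hzS⟩ : S)) ^ Nat.card S = 1 := by
    rw [← map_pow, pow_card_eq_one', map_one]
  have h4 : (Abelianization.of (⟨z, hzS⟩ : S)) ^ Nat.gcd d (Nat.card S) = 1 :=
    pow_gcd_eq_one.mpr ⟨h2.symm, h3⟩
  have h5 : Nat.gcd d (Nat.card S) = 1 := by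
    obtain ⟨a, ha⟩ := IsPGroup.iff_card.mp hS
    rw [ha]
    apply Nat.Coprime.pow_right
    exact ((Fact.out : p.Prime).coprime_iff_not_dvd.mpr hd).symm
  rw [h5, pow_one] at h4
  have h6 : (⟨z, hzS⟩ : S) ∈ commutator S := by
    rw [← Abelianization.ker_of, MonoidHom.mem_ker]
    exact h4
  rw [← Subgroup.map_subtype_commutator]
  exact ⟨⟨z, hzS⟩, h6, rfl⟩

end Cfsg.Agent.Lib.Helper27.CB
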