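import Mathlib
import Cfsg.Agent.Lib.Helper27.CBTransfer
import Cfsg.Agent.Lib.Helper27.CBFocal

set_option autoImplicit false

/-! The transfer of a saturated fusion system, with the evaluation formula for elements whose powers are
fixed by the maps of the system only modulo the kernel of the target homomorphism. -/

namespace Cfsg.Agent.Lib.Helper27.CB

open Cfsg Cfsg.FusionSystem Cfsg.Agent.Lib.Helper27 Cfsg.Agent.Lib.Helper27.Park Classical

universe u

variable {Ω : Type u} [Group Ω] {S : Subgroup Ω} [Finite S] {p : ℕ} [Fact p.Prime]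

/-- The transfer of a saturated fusion system, with a weaker hypothesis in the evaluation formula. -/
theorem exists_transfer' (hS : IsPGroup p S) {F : FusionSystem S} (hF : F.IsSaturated p)
    {A : Type*} [CommGroup A] (lam : S →* A) :
    ∃ (W : S →* A) (d : ℕ), ¬ p ∣ d ∧
      (∀ (P : Subgroup Ω) (φ : P →* Ω) (hφ : φ ∈ F.Hom P) (u : P),
        W ⟨φ u, (F.le_of_mem hφ).2 u⟩ = W ⟨u, hom_le F hφ u.2⟩) ∧
      (∀ z : S, (∀ (m : ℕ) (Q : Subgroup Ω) (θ : Q →* Ω) (hθ : θ ∈ F.Hom Q)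
          (hq : ((z : Ω) ^ m) ∈ Q), lam ⟨θ ⟨(z : Ω) ^ m, hq⟩, (F.le_of_mem hθ).2 _⟩ = lam (z ^ m)) →
            W z = lam z ^ d) := by
  obtain ⟨n, hn, hst, k, hk, hpk⟩ := exists_charBiset hS hF
  have hfree : ∀ (b : S) (x : PX n), rS n b x = x → b = 1 := fun b x h => rS_free F hn b x h
  letI : MulAction (Cent (rS n)) (Orb (rS n)) := MulAction.compHom _ (quotPerm (rS n))
  have hsmul : ∀ (g : Cent (rS n)) (y : Orb (rS n)), g • y = quotPerm (rS n) g y := fun _ _ => rfl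
  have hcardOrb : Nat.card (Orb (rS n)) = k := by
    have h1 := card_eq_card_orb_mul (rS n) hfree
    rw [hk] at h1
    exact (Nat.eq_of_mul_eq_mul_right Nat.card_pos h1).symm
  obtain ⟨y₁, hy₁⟩ : ∃ y₁ : Orb (rS n), ¬ p ∣ (MulAction.stabilizer (Cent (rS n)) y₁).index := by
    by_contra hcon
    push Not at hcon
    have := dvd_card_of_dvd_index (H := Cent (rS n)) (α := Orb (rS n)) p hcon
    rw [hcardOrb] at this
    exact hpk this
  obtain ⟨x₁, rfl⟩ := orbMk_surjective (rS n) y₁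
  -- the homomorphism from the stabilizer of the orbit to `S`
  have hex : ∀ g : MulAction.stabilizer (Cent (rS n)) (orbMk (rS n) x₁),
      ∃ b : S, rS n b x₁ = ((g : Cent (rS n)) : Equiv.Perm (PX n)) x₁ := by
    intro g
    have h1 : (g : Cent (rS n)) • orbMk (rS n) x₁ = orbMk (rS n) x₁ := g.2
    rw [hsmul, quotPerm_mk] at h1
    exact (orbMk_eq_iff (rS n)).mp h1.symm
  have huniq : ∀ b b' : S, rS n b x₁ = rS n b' x₁ → b = b' := by
    intro b b' h
    have h2 : rS n (b'⁻¹ * b) x₁ = x₁ := by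
      rw [map_mul, Equiv.Perm.mul_apply, map_inv, Equiv.Perm.inv_eq_iff_eq]
      exact h
    exact (inv_mul_eq_one.mp (hfree _ _ h2)).symm
  obtain ⟨bf, hbf⟩ : ∃ bf : MulAction.stabilizer (Cent (rS n)) (orbMk (rS n) x₁) → S,
      ∀ g, rS n (bf g) x₁ = ((g : Cent (rS n)) : Equiv.Perm (PX n)) x₁ :=
    ⟨fun g => Classical.choose (hex g), fun g => Classical.choose_spec (hex g)⟩
  have hbf_mul : ∀ g g', bf (g * g') = bf g' * bf g := by
    intro g g'
    apply huniq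
    rw [hbf, map_mul, Equiv.Perm.mul_apply, hbf]
    show (((g : Cent (rS n)) : Equiv.Perm (PX n)) * ((g' : Cent (rS n)) : Equiv.Perm (PX n))) x₁ = _
    rw [Equiv.Perm.mul_apply, ← hbf g', Cent_comm]
  obtain ⟨π, hπ⟩ : ∃ π : MulAction.stabilizer (Cent (rS n)) (orbMk (rS n) x₁) →* S,
      ∀ g, π g = (bf g)⁻¹ :=
    ⟨MonoidHom.mk' (fun g => (bf g)⁻¹) (by
      intro g g'
      show (bf (g * g'))⁻¹ = (bf g)⁻¹ * (bf g')⁻¹
      rw [hbf_mul, mul_inv_rev]), fun g => rfl⟩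
  refine ⟨(MonoidHom.transfer (lam.comp π)).comp (iotaG n),
    (MulAction.stabilizer (Cent (rS n)) (orbMk (rS n) x₁)).index, hy₁, ?_, ?_⟩
  · intro P φ hφ u
    obtain ⟨e, he⟩ := exists_conj F hn hst hφ
    show MonoidHom.transfer (lam.comp π) (iotaG n _) = MonoidHom.transfer (lam.comp π) (iotaG n _)
    rw [he u, map_mul, map_mul, map_inv, mul_comm, inv_mul_cancel_left]
  · intro z hz
    show MonoidHom.transfer (lam.comp π) (iotaG n z) = _
    haveI : Fintype (Quotient (MulAction.orbitRel (Subgroup.zpowers (iotaG n z))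
      (Cent (rS n) ⧸ MulAction.stabilizer (Cent (rS n)) (orbMk (rS n) x₁)))) := Fintype.ofFinite _
    rw [MonoidHom.transfer_eq_prod_quotient_orbitRel_zpowers_quot,
      Subgroup.index_eq_sum_minimalPeriod _ (iotaG n z), ← Finset.prod_pow_eq_pow_sum]
    apply Finset.prod_congr rfl
    intro q _
    -- the key computation
    have key : ∀ (g₀ : Cent (rS n)) (m : ℕ)
        (hmem : g₀⁻¹ * (iotaG n z) ^ m * g₀ ∈ MulAction.stabilizer (Cent (rS n)) (orbMk (rS n) x₁)),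
        lam (π ⟨_, hmem⟩) = lam (z ^ m) := by
      intro g₀ m hmem
      have h1 := hbf ⟨_, hmem⟩
      have e1 : g₀ * (g₀⁻¹ * (iotaG n z) ^ m * g₀) = iotaG n (z ^ m) * g₀ := by
        rw [map_pow]
        group
      have e2 := congrArg (fun c : Cent (rS n) => (c : Equiv.Perm (PX n)) x₁) e1
      have e3 : (g₀ : Equiv.Perm (PX n)) (((g₀⁻¹ * (iotaG n z) ^ m * g₀ : Cent (rS n)) :
          Equiv.Perm (PX n)) x₁) = act n (z ^ m, (1 : S)) ((g₀ : Equiv.Perm (PX n)) x₁) := e2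
      have h2 : act n ((1 : S), bf ⟨_, hmem⟩) ((g₀ : Equiv.Perm (PX n)) x₁) =
          act n (z ^ m, (1 : S)) ((g₀ : Equiv.Perm (PX n)) x₁) := by
        rw [← rS_apply, ← Cent_comm, h1]
        exact e3
      have h3 : act n (z ^ m, (bf ⟨_, hmem⟩)⁻¹) ((g₀ : Equiv.Perm (PX n)) x₁) =
          (g₀ : Equiv.Perm (PX n)) x₁ := by
        have e4 : ((z ^ m, (bf ⟨_, hmem⟩)⁻¹) : S × S) =
            ((1 : S), bf ⟨_, hmem⟩)⁻¹ * (z ^ m, (1 : S)) := by
          ext <;> simp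
        rw [e4, map_mul, Equiv.Perm.mul_apply, ← h2, map_inv]
        exact Equiv.symm_apply_apply _ _
      obtain ⟨Q, θ, hθ, hq, h4⟩ := exists_hom_of_fixed F hn h3
      have hcoe : ((z ^ m : S) : Ω) = (z : Ω) ^ m := Subgroup.coe_pow S z m
      have hq' : (z : Ω) ^ m ∈ Q := hcoe ▸ hq
      have h5 := hz m Q θ hθ hq'
      have h6 : θ ⟨((z ^ m : S) : Ω), hq⟩ = θ ⟨(z : Ω) ^ m, hq'⟩ := by
        congr 1
      rw [hπ, ← h5]
      congr 1
      apply Subtype.ext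
      rw [← h4, h6]
    show lam (π ⟨_, _⟩) = lam z ^ _
    rw [key, map_pow]


/-- If `V` is normal in the saturated system `F` and all automorphisms of `V` in `F` are trivial
modulo `T ≥ [S,S]`, then `V ∩ foc(F) ≤ T`. -/
theorem focal_inf_normal_le (hS : IsPGroup p S) {F : FusionSystem S} (hF : F.IsSaturated p)
    {V T : Subgroup Ω} (hV : F.IsNormal V) (hT : ⁅(S : Subgroup Ω), (S : Subgroup Ω)⁆ ≤ T)
    (hgood : ∀ α : V ≃* V, IsIso F α → ∀ v : V, (v : Ω)⁻¹ * ((α v : V) : Ω) ∈ T) :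
    V ⊓ F.focalSubgroup ≤ T := by
  have hVS : V ≤ S := hV.1
  haveI : Finite ↥V := Finite.of_injective (Subgroup.inclusion hVS) (Subgroup.inclusion_injective hVS)
  -- the target homomorphism
  let lam : S →* Abelianization S ⧸ ((T.subgroupOf S).map Abelianization.of) :=
    (QuotientGroup.mk' _).comp Abelianization.of
  have hlam : ∀ s : S, lam s = 1 ↔ (s : Ω) ∈ T := by
    intro s
    show QuotientGroup.mk' _ (Abelianization.of s) = 1 ↔ _
    rw [QuotientGroup.mk'_apply, QuotientGroup.eq_one_iff]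
    constructor
    · rintro ⟨t, ht, hts⟩
      have h1 : Abelianization.of (t⁻¹ * s) = 1 := by
        rw [map_mul, map_inv, hts, inv_mul_cancel]
      have h2 : t⁻¹ * s ∈ commutator S := by
        rw [← Abelianization.ker_of]
        exact h1
      have h3 : ((t⁻¹ * s : S) : Ω) ∈ ⁅(S : Subgroup Ω), (S : Subgroup Ω)⁆ := by
        rw [← Subgroup.map_subtype_commutator]
        exact ⟨_, h2, rfl⟩
      have h4 : (s : Ω) = (t : Ω) * ((t⁻¹ * s : S) : Ω) := by
        simp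
      rw [h4]
      exact T.mul_mem (Subgroup.mem_subgroupOf.mp ht) (hT h3)
    · intro hs
      exact ⟨s, Subgroup.mem_subgroupOf.mpr hs, rfl⟩
  obtain ⟨Wt, d, hd, hWt, heval⟩ := exists_transfer' hS hF lam
  rintro y ⟨hyV, hyf⟩
  obtain ⟨hyS, h1⟩ := focal_le_ker Wt hWt hyf
  have h2 := heval ⟨y, hyS⟩ (by
    intro m Q θ hθ hq
    obtain ⟨ψ, hψ, hψθ, α, hα, hαψ⟩ := normal_exists_extension hV hθ
    have hymV : y ^ m ∈ V := V.pow_mem hyV m
    have h3 : θ ⟨y ^ m, hq⟩ = ((α ⟨y ^ m, hymV⟩ : V) : Ω) := by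
      rw [hαψ, ← hψθ]
      rfl
    have h4 := hgood α hα ⟨y ^ m, hymV⟩
    have h5 : lam (⟨y ^ m, S.pow_mem hyS m⟩⁻¹ * ⟨θ ⟨y ^ m, hq⟩, (F.le_of_mem hθ).2 _⟩) = 1 := by
      rw [hlam]
      show (y ^ m)⁻¹ * θ ⟨y ^ m, hq⟩ ∈ T
      rw [h3]
      exact h4
    rw [map_mul, map_inv, inv_mul_eq_one] at h5
    rw [← h5]
    rfl)
  rw [h1] at h2
  have h3 : (lam ⟨y, hyS⟩) ^ Nat.card S = 1 := by
    rw [← map_pow, pow_card_eq_one', map_one]
  have h4 : (lam ⟨y, hyS⟩) ^ Nat.gcd d (Nat.card S) = 1 :=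
    pow_gcd_eq_one.mpr ⟨h2.symm, h3⟩
  have h5 : Nat.gcd d (Nat.card S) = 1 := by
    obtain ⟨a, ha⟩ := IsPGroup.iff_card.mp hS
    rw [ha]
    apply Nat.Coprime.pow_right
    exact ((Fact.out : p.Prime).coprime_iff_not_dvd.mpr hd).symm
  rw [h5, pow_one] at h4
  exact (hlam ⟨y, hyS⟩).mp h4

end Cfsg.Agent.Lib.Helper27.CB
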