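import Mathlib
import Cfsg.Agent.Lib.Helper27.LG2Quot
import Cfsg.Agent.Lib.Helper27.LG2Central
import Cfsg.Agent.Lib.Helper27.LG2Transfer
import Cfsg.Agent.Lib.Helper27.LGMain

set_option autoImplicit false

/-! The local-to-global theorem for control of transfer: if a positive characteristic `p`-functor `W`
controls transfer on the largest normal `p`-subgroups of all models, then `foc(F) = foc(N_F(W(S)))` for
every saturated fusion system `F`. -/

namespace Cfsg.Agent.Lib.Helper27.LG2

open Cfsg Cfsg.FusionSystem Cfsg.Agent.Lib.Helper27 Cfsg.Agent.Lib.Helper27.LG Cfsg.Agent.H26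

universe u

/-- The hypothesis on models: for a subgroup `V` normal in a system `E` with a model,
`V ∩ foc(E) ≤ foc(N_E(W(S)))`. -/
def ModelFocal (p : ℕ) (W : ∀ (Q : Type u) [Group Q], Subgroup Q) : Prop :=
  ∀ (Ω : Type u) [Group Ω] (S : Subgroup Ω) [Finite S], IsPGroup p S → ∀ (E : FusionSystem S)
    (G : Type u) [Group G] (ι : S →* G), E.IsModel p G ι → ∀ V : Subgroup Ω, E.IsNormal V →
      ∀ N : FusionSystem (normalizerIn S (wsub W S)), E.IsNormalizerSystem (wsub W S) N →
        V ⊓ E.focalSubgroup ≤ N.focalSubgroup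

variable {W : ∀ (Q : Type u) [Group Q], Subgroup Q} {p : ℕ} [Fact p.Prime]

theorem focal_aux (hW : Cfsg.IsCharPFunctor.{u} p W) (hM : ModelFocal p W) :
    ∀ (n : ℕ) (Ω : Type u) [Group Ω] (S : Subgroup Ω) [Finite S],
      Nat.card S = n → IsPGroup p S → ∀ F : FusionSystem S, F.IsSaturated p →
        ∀ N : FusionSystem (normalizerIn S (wsub W S)), F.IsNormalizerSystem (wsub W S) N →
          F.focalSubgroup ≤ N.focalSubgroup := by
  intro n
  induction n using Nat.strong_induction_on with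
  | _ n IH =>
  intro Ω _ S _ hn hS F hF N hN
  have hWn : normalizerIn S (wsub W S) = S := normalizerIn_wsub hW S hS
  obtain ⟨T, hTdef⟩ : ∃ T : Subgroup Ω, T = N.focalSubgroup := ⟨_, rfl⟩
  rw [← hTdef]
  have hT : ⁅(S : Subgroup Ω), (S : Subgroup Ω)⁆ ≤ T := by
    rw [hTdef]
    exact (Subgroup.commutator_mono (le_of_eq hWn.symm) (le_of_eq hWn.symm)).trans
      (CB.commutator_le_focal N)
  obtain ⟨Eg, hEg⟩ : ∃ Eg : FusionSystem S, ∀ (P : Subgroup Ω) (φ : P →* Ω),
      φ ∈ Eg.Hom P ↔ φ ∈ F.Hom P ∧ ∀ x : P, (x : Ω)⁻¹ * φ x ∈ T :=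
    ⟨focSub F T hT, fun _ _ => Iff.rfl⟩
  have hEF : ∀ P : Subgroup Ω, Eg.Hom P ⊆ F.Hom P := fun P φ hφ => ((hEg P φ).mp hφ).1
  have htop : ∀ α : S ≃* S, IsIso F α → IsIso Eg α := by
    intro α hα
    refine (hEg _ _).mpr ⟨hα, fun x => ?_⟩
    have h1 := aut_top_mem_normalizerHom hW hS F hα
    rw [← hN S] at h1
    rw [hTdef]
    exact mem_focal h1 x
  by_contra hcon
  have hne : ¬ ∀ P : Subgroup Ω, F.Hom P ⊆ Eg.Hom P := fun h =>
    hcon (focal_le_of_good (fun P φ hφ x => ((hEg P φ).mp (h P hφ)).2 x))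
  obtain ⟨V, hV1, hVfn, hVb, hmax⟩ := exists_extremal hS hF Eg hEF htop hne
  -- subgroups beyond `V` are good
  have hgoodR : ∀ R : Subgroup Ω, R ≠ ⊥ →
      (Nat.card (normalizerIn S V) < Nat.card (normalizerIn S R) ∨
        (Nat.card (normalizerIn S R) = Nat.card (normalizerIn S V) ∧ Nat.card V < Nat.card R)) →
      ∀ (P : Subgroup Ω) (φ : P →* Ω), φ ∈ F.normalizerHom R P → ∀ x : P, (x : Ω)⁻¹ * φ x ∈ T := by
    intro R hR1 hlt P φ hφ
    by_contra h
    have hb : BadN F Eg R := ⟨P, φ, hφ, fun h' => h ((hEg P φ).mp h').2⟩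
    obtain ⟨h1, h2⟩ := hmax R hR1 hb
    rcases hlt with h3 | ⟨h3, h4⟩
    · exact absurd h1 (not_le.mpr h3)
    · exact absurd (h2 h3) (not_le.mpr h4)
  have hVS : V ≤ S := hVfn.1
  have hTS : normalizerIn S V ≤ S := inf_le_left
  haveI : Finite ↥(normalizerIn S V) :=
    Finite.of_injective (Subgroup.inclusion hTS) (Subgroup.inclusion_injective hTS)
  haveI : Finite ↥V := Finite.of_injective (Subgroup.inclusion hVS) (Subgroup.inclusion_injective hVS)
  have hTp : IsPGroup p ↥(normalizerIn S V) :=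
    hS.of_injective (Subgroup.inclusion hTS) (Subgroup.inclusion_injective hTS)
  obtain ⟨E, hE⟩ : ∃ E : FusionSystem (normalizerIn S V), F.IsNormalizerSystem V E :=
    ⟨nsys F V hVS, nsys_spec F V hVS⟩
  have hEsat : E.IsSaturated p := normalizerSystem_saturated hS hF hVfn E hE
  have hEFh : ∀ P : Subgroup Ω, E.Hom P ⊆ F.Hom P := normalizerSystem_hom_subset hE
  have hEn : E.IsNormal V := normalizerSystem_isNormal hVS hE
  have hS₁1 : normalizerIn S V ≠ ⊥ := by
    intro h
    apply hV1
    exact le_bot_iff.mp (h ▸ le_normalizerIn hVS)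
  -- it suffices to show that the maps of `E` are good
  suffices hsuff : ∀ (P : Subgroup Ω) (φ : P →* Ω), φ ∈ E.Hom P → ∀ x : P, (x : Ω)⁻¹ * φ x ∈ T by
    obtain ⟨P, φ, hφ, hφE⟩ := hVb
    apply hφE
    have hφ' : φ ∈ E.Hom P := by rw [hE P]; exact hφ
    exact (hEg P φ).mpr ⟨hφ.1, hsuff P φ hφ'⟩
  by_cases hT' : normalizerIn S V = S
  · -- `V` is normal in `S`
    have hcardlt : ∀ R : Subgroup Ω, R ≤ S → V < R → Nat.card V < Nat.card R := by
      intro R hRS hVR
      haveI : Finite ↥R := Finite.of_injective (Subgroup.inclusion hRS) (Subgroup.inclusion_injective hRS)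
      refine lt_of_le_of_ne (Subgroup.card_le_of_le hVR.le) (fun heq => hVR.ne ?_)
      exact Subgroup.eq_of_le_of_card_ge hVR.le heq.ge
    have hgoodN : ∀ R : Subgroup Ω, R ≤ S → normalizerIn S R = S → V < R →
        ∀ (P : Subgroup Ω) (φ : P →* Ω), φ ∈ F.normalizerHom R P → ∀ x : P, (x : Ω)⁻¹ * φ x ∈ T := by
      intro R hRS hRn hVR
      apply hgoodR R (ne_bot_of_gt hVR)
      right
      exact ⟨by rw [hRn, hT'], hcardlt R hRS hVR⟩
    have hUsc : E.StronglyClosed V := normal_stronglyClosed hEn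
    -- Step B: `V ∩ foc(E) ≤ T`
    have hB : V ⊓ E.focalSubgroup ≤ T := by
      by_cases hcen : centralizerIn S V ≤ V
      · -- constrained: use the model
        have hUc : E.IsCentric V := by
          refine ⟨le_normalizerIn hVS, fun Q hQ => ?_⟩
          have hQU : Q = V := weaklyClosed_eq_of_isConj (normal_weaklyClosed hEn) hQ
          rw [hQU]
          intro x hx
          exact hcen ⟨hTS hx.1, hx.2⟩
        obtain ⟨G, _, ι, hG⟩ := Mod.exists_model hTp ⟨hEsat, V, hEn, hUc⟩
        obtain ⟨N₁, hN₁⟩ : ∃ N₁ : FusionSystem (normalizerIn (normalizerIn S V) (wsub W (normalizerIn S V))),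
            E.IsNormalizerSystem (wsub W (normalizerIn S V)) N₁ :=
          ⟨nsys E _ (wsub_le W _), nsys_spec E _ (wsub_le W _)⟩
        refine (hM Ω _ hTp E G ι hG V hEn N₁ hN₁).trans ?_
        apply focal_le_of_good
        intro P φ hφ x
        have h1 := nsys_nsys_hom_subset hE hN₁ hφ
        rw [wsub_congr W hT', ← hN P] at h1
        rw [hTdef]
        exact mem_focal h1 x
      · -- not constrained: transfer
        have hRS : V ⊔ centralizerIn S V ≤ S := sup_le hVS (centralizerIn_le_S S V)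
        have hVR : V < V ⊔ centralizerIn S V := by
          refine lt_of_le_of_ne le_sup_left (fun h => hcen ?_)
          exact le_sup_right.trans (le_of_eq h.symm)
        have hRn : normalizerIn S (V ⊔ centralizerIn S V) = S := normalizerIn_sup_centralizerIn hVS hT'
        have hT₁ : ⁅(normalizerIn S V : Subgroup Ω), (normalizerIn S V : Subgroup Ω)⁆ ≤ T :=
          (Subgroup.commutator_mono hTS hTS).trans hT
        apply CB.focal_inf_normal_le hTp hEsat hEn hT₁
        intro α hα v
        have hαF : IsIso F α := hEFh _ hα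
        obtain ⟨ψ, hψ, hψv, hψN⟩ := exists_ext_sup_centralizer hS hF hVfn (α := α) le_rfl
          (le_normalizerIn hVS) hαF (fun x _ => (α x).2)
        have h1 := hgoodN _ hRS hRn hVR _ _ hψN ⟨v, (le_sup_left : V ≤ V ⊔ centralizerIn S V) v.2⟩
        have h2 := hψv v
        have h3 : (ψ.comp (Subgroup.inclusion (sup_le_sup_right (le_refl V) (centralizerIn S V))))
            ⟨v, (le_sup_left : V ≤ V ⊔ centralizerIn S V) v.2⟩ = ((α v : V) : Ω) := h2
        rw [h3] at h1
        exact h1
    -- Step A: maps of `E` are good modulo `V`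
    have hA : ∀ (P : Subgroup Ω) (φ : P →* Ω), φ ∈ E.Hom P → ∀ x : P,
        ∃ t ∈ T ⊓ E.focalSubgroup, t⁻¹ * ((x : Ω)⁻¹ * φ x) ∈ V := by
      haveI : (V.subgroupOf (normalizerIn S V)).Normal :=
        Subgroup.normal_subgroupOf_of_le_normalizer inf_le_right
      obtain ⟨E', hfac⟩ := Cfsg.Agent.S5132.result p hTp E V hUsc
      have hsm := Cfsg.Agent.S5134.result p hTp E hEsat V hUsc _ E' hfac
      have hE'sat : E'.IsSaturated p := Cfsg.Agent.S5133.result p hTp E hEsat E' _ hsm
      haveI : Finite ↥(⊤ : Subgroup (↥(normalizerIn S V) ⧸ V.subgroupOf (normalizerIn S V))) :=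
        inferInstance
      have hp' : IsPGroup p ↥(⊤ : Subgroup (↥(normalizerIn S V) ⧸ V.subgroupOf (normalizerIn S V))) :=
        (hTp.to_quotient _).to_subgroup _
      have hcard' : Nat.card ↥(⊤ : Subgroup (↥(normalizerIn S V) ⧸ V.subgroupOf (normalizerIn S V))) < n := by
        rw [Subgroup.card_top, ← hn]
        have h3 := Subgroup.card_eq_card_quotient_mul_card_subgroup (V.subgroupOf (normalizerIn S V))
        have h4 : Nat.card (V.subgroupOf (normalizerIn S V)) = Nat.card V :=
          Nat.card_congr (Subgroup.subgroupOfEquivOfLe (le_normalizerIn hVS)).toEquiv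
        have h5 : 1 < Nat.card V := by
          rw [Subgroup.one_lt_card_iff_ne_bot]
          exact hV1
        have h6 : Nat.card ↥(normalizerIn S V) = Nat.card S := by rw [hT']
        rw [h4, h6] at h3
        have h7 : 0 < Nat.card (↥(normalizerIn S V) ⧸ V.subgroupOf (normalizerIn S V)) := Nat.card_pos
        nlinarith
      obtain ⟨N', hN'⟩ : ∃ N' : FusionSystem (normalizerIn (⊤ : Subgroup (↥(normalizerIn S V) ⧸
          V.subgroupOf (normalizerIn S V))) (wsub W ⊤)), E'.IsNormalizerSystem (wsub W ⊤) N' :=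
        ⟨nsys E' _ (wsub_le W _), nsys_spec E' _ (wsub_le W _)⟩
      have hIH := IH _ hcard' _ ⊤ rfl hp' E' hE'sat N' hN'
      obtain ⟨hUT, hker, hrange, -⟩ := id hfac
      intro P φ hφ x
      have hxS : (x : Ω) ∈ normalizerIn S V := hom_le E hφ x.2
      have hφS : φ x ∈ normalizerIn S V := (E.le_of_mem hφ).2 x
      have hyS : (x : Ω)⁻¹ * φ x ∈ normalizerIn S V :=
        (normalizerIn S V).mul_mem ((normalizerIn S V).inv_mem hxS) hφS
      by_cases htop' : (⊤ : Subgroup (↥(normalizerIn S V) ⧸ V.subgroupOf (normalizerIn S V))) = ⊥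
      · refine ⟨1, Subgroup.one_mem _, ?_⟩
        rw [inv_one, one_mul]
        apply (hker ⟨_, hyS⟩).mp
        have h1 : QuotientGroup.mk' (V.subgroupOf (normalizerIn S V)) ⟨_, hyS⟩ ∈
            (⊤ : Subgroup (↥(normalizerIn S V) ⧸ V.subgroupOf (normalizerIn S V))) := Subgroup.mem_top _
        rw [htop'] at h1
        exact Subgroup.mem_bot.mp h1
      · -- the preimage of `W(S/V)`
        have hRb1 := wsub_ne_bot hW (⊤ : Subgroup (↥(normalizerIn S V) ⧸ V.subgroupOf (normalizerIn S V)))
          hp' htop'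
        have hRble := wsub_le W (⊤ : Subgroup (↥(normalizerIn S V) ⧸ V.subgroupOf (normalizerIn S V)))
        have hRbchar := wsub_char hW (⊤ : Subgroup (↥(normalizerIn S V) ⧸ V.subgroupOf (normalizerIn S V))) hp'
        haveI := finite_wsub (W := W) (⊤ : Subgroup (↥(normalizerIn S V) ⧸ V.subgroupOf (normalizerIn S V)))
        have hV'n : (⊤ : Subgroup (↥(normalizerIn S V) ⧸ V.subgroupOf (normalizerIn S V))) ≤
            Subgroup.normalizer ((wsub W (⊤ : Subgroup (↥(normalizerIn S V) ⧸
              V.subgroupOf (normalizerIn S V)))) : Set (↥(normalizerIn S V) ⧸ V.subgroupOf (normalizerIn S V))) := by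
          have h3 := normalizerIn_eq_of_char hRble hRbchar
          intro y hy
          have h4 : y ∈ normalizerIn ⊤ (wsub W (⊤ : Subgroup (↥(normalizerIn S V) ⧸
              V.subgroupOf (normalizerIn S V)))) := by rw [h3]; exact hy
          exact h4.2
        have hVn := preimage_normalizer hrange hV'n
        have hR'T : preimageAlong (QuotientGroup.mk' (V.subgroupOf (normalizerIn S V)))
            (wsub W ⊤) ≤ normalizerIn S V := preimageAlong_le _ _
        have hR'S := hR'T.trans hTS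
        have hR'n : normalizerIn S (preimageAlong (QuotientGroup.mk' (V.subgroupOf (normalizerIn S V)))
            (wsub W ⊤)) = S := by
          apply le_antisymm inf_le_left
          intro y hy
          have hy' : y ∈ normalizerIn S V := by rw [hT']; exact hy
          rw [← hVn] at hy'
          exact ⟨hy, hy'.2⟩
        have hVR' := lt_preimage hUT hker hrange hRble hRb1
        -- `foc(N') ≤ θ(T ∩ foc(E))`
        have hN'T : N'.focalSubgroup ≤ ((T ⊓ E.focalSubgroup).subgroupOf (normalizerIn S V)).map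
            (QuotientGroup.mk' (V.subgroupOf (normalizerIn S V))) := by
          apply focal_le_of_good
          intro P' φ' hφ' x'
          rw [hN' P'] at hφ'
          obtain ⟨P₀, φ₀, hφ₀, hlift⟩ := lift_normalizerHom hfac hφ'
          obtain ⟨x₀, hx₀, hφx₀, h1, h2⟩ := hlift x'
          have h3 := hgoodN _ hR'S hR'n hVR' _ _ (normalizerHom_nsys_subset hE hφ₀) x₀
          have h4 : (x₀ : Ω)⁻¹ * φ₀ x₀ ∈ E.focalSubgroup := mem_focal hφ₀.1 x₀
          refine ⟨⟨(x₀ : Ω)⁻¹ * φ₀ x₀, (normalizerIn S V).mul_mem ((normalizerIn S V).inv_mem hx₀) hφx₀⟩,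
            Subgroup.mem_subgroupOf.mpr ⟨h3, h4⟩, ?_⟩
          rw [← h1, ← h2, ← map_inv, ← map_mul]
          rfl
        have h5 := hN'T (hIH (induced_focal hTp hEsat hUsc hfac hφ x))
        obtain ⟨t, ht, htx⟩ := h5
        refine ⟨(t : Ω), Subgroup.mem_subgroupOf.mp ht, ?_⟩
        have h6 : QuotientGroup.mk' (V.subgroupOf (normalizerIn S V)) (t⁻¹ * ⟨_, hyS⟩) = 1 := by
          rw [map_mul, map_inv, htx]
          exact inv_mul_cancel _
        exact (hker _).mp h6
    -- conclusion
    intro P φ hφ x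
    obtain ⟨t, ht, htV⟩ := hA P φ hφ x
    have h1 : t⁻¹ * ((x : Ω)⁻¹ * φ x) ∈ E.focalSubgroup :=
      E.focalSubgroup.mul_mem (E.focalSubgroup.inv_mem ht.2) (mem_focal hφ x)
    have h2 := hB ⟨htV, h1⟩
    have h3 : (x : Ω)⁻¹ * φ x = t * (t⁻¹ * ((x : Ω)⁻¹ * φ x)) := by group
    rw [h3]
    exact T.mul_mem ht.1 h2
  · -- `N_S(V) < S`: induction
    have hTlt : normalizerIn S V < S := lt_of_le_of_ne hTS hT'
    have hcardT : Nat.card ↥(normalizerIn S V) < n := by
      rw [← hn]
      refine lt_of_le_of_ne (Subgroup.card_le_of_le hTS) (fun heq => hT' ?_)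
      exact Subgroup.eq_of_le_of_card_ge hTS heq.ge
    obtain ⟨N₁, hN₁⟩ : ∃ N₁ : FusionSystem (normalizerIn (normalizerIn S V) (wsub W (normalizerIn S V))),
        E.IsNormalizerSystem (wsub W (normalizerIn S V)) N₁ :=
      ⟨nsys E _ (wsub_le W _), nsys_spec E _ (wsub_le W _)⟩
    have hIH := IH _ hcardT Ω _ rfl hTp E hEsat N₁ hN₁
    have hR1 : wsub W (normalizerIn S V) ≠ ⊥ := wsub_ne_bot hW _ hTp hS₁1
    haveI := finite_wsub (W := W) (normalizerIn S V)
    have h3 : normalizerIn S (normalizerIn S V) ≤ normalizerIn S (wsub W (normalizerIn S V)) :=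
      normalizerIn_le_of_char (wsub_le W _) (wsub_char hW _ hTp)
    have h4 := card_lt_card_normalizerIn hS hTlt
    have hNRS : normalizerIn S (wsub W (normalizerIn S V)) ≤ S := inf_le_left
    haveI : Finite ↥(normalizerIn S (wsub W (normalizerIn S V))) :=
      Finite.of_injective (Subgroup.inclusion hNRS) (Subgroup.inclusion_injective hNRS)
    have h5 := Subgroup.card_le_of_le h3
    have hN₁T : N₁.focalSubgroup ≤ T := by
      apply focal_le_of_good
      intro P φ hφ x
      exact hgoodR _ hR1 (Or.inl (h4.trans_le h5)) P φ (nsys_nsys_hom_subset hE hN₁ hφ) x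
    intro P φ hφ x
    exact hN₁T (hIH (mem_focal hφ x))

/-- **Control of transfer, local-to-global.** -/
theorem focal_eq (hW : Cfsg.IsCharPFunctor.{u} p W) (hM : ModelFocal p W) {Ω : Type u} [Group Ω]
    {S : Subgroup Ω} [Finite S] (hS : IsPGroup p S) {F : FusionSystem S} (hF : F.IsSaturated p)
    (N : FusionSystem (normalizerIn S (wsub W S))) (hN : F.IsNormalizerSystem (wsub W S) N) :
    N.focalSubgroup = F.focalSubgroup := by
  apply le_antisymm
  · apply focal_le_of_good
    intro P φ hφ x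
    rw [hN P] at hφ
    exact mem_focal hφ.1 x
  · exact focal_aux hW hM _ Ω S rfl hS F hF N hN

end Cfsg.Agent.Lib.Helper27.LG2
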