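import Mathlib
import Cfsg.Agent.Lib.Helper27.LG2CenterE
import Cfsg.Agent.Lib.Helper27.LG2Focal

set_option autoImplicit false

/-! The local-to-global theorem for control of weak closure of elements: if a positive characteristic
`p`-functor `W ⊇ Z` satisfies `A_e(S) ∩ Z(N_E(W(S))) ≤ Z(E)` for all systems `E` with a model, then the
same holds for every saturated fusion system. Here `A_e(S)` is generated by the `e`-th powers of
the elements of `Z(S)`. -/

namespace Cfsg.Agent.Lib.Helper27.LG2

open Cfsg Cfsg.FusionSystem Cfsg.Agent.Lib.Helper27 Cfsg.Agent.Lib.Helper27.LG Cfsg.Agent.H26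

universe u

/-- The hypothesis on models. -/
def ModelCenter (p e : ℕ) (W : ∀ (Q : Type u) [Group Q], Subgroup Q) : Prop :=
  ∀ (Ω : Type u) [Group Ω] (S : Subgroup Ω) [Finite S], IsPGroup p S → ∀ (E : FusionSystem S)
    (G : Type u) [Group G] (ι : S →* G), E.IsModel p G ι →
      ∀ N : FusionSystem (normalizerIn S (wsub W S)), E.IsNormalizerSystem (wsub W S) N →
        powCenter e S ⊓ N.center ≤ E.center

variable {W : ∀ (Q : Type u) [Group Q], Subgroup Q} {p : ℕ} [Fact p.Prime]

theorem center_le_wsub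
    (hWZ : ∀ (Q : Type u) [Group Q] [Finite Q], IsPGroup p Q → Subgroup.center Q ≤ W Q)
    {Ω : Type u} [Group Ω] (S : Subgroup Ω) [Finite S] (hS : IsPGroup p S) :
    S ⊓ Subgroup.centralizer (S : Set Ω) ≤ wsub W S := by
  intro z hz
  refine ⟨⟨z, hz.1⟩, hWZ ↥S hS ?_, rfl⟩
  rw [Subgroup.mem_center_iff]
  intro s
  exact Subtype.ext ((Subgroup.mem_centralizer_iff.mp hz.2) s s.2)

theorem center_aux (hW : Cfsg.IsCharPFunctor.{u} p W)
    (hWZ : ∀ (Q : Type u) [Group Q] [Finite Q], IsPGroup p Q → Subgroup.center Q ≤ W Q)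
    (e : ℕ) (hM : ModelCenter p e W) :
    ∀ (n : ℕ) (Ω : Type u) [Group Ω] (S : Subgroup Ω) [Finite S],
      Nat.card S = n → IsPGroup p S → ∀ F : FusionSystem S, F.IsSaturated p →
        ∀ N : FusionSystem (normalizerIn S (wsub W S)), F.IsNormalizerSystem (wsub W S) N →
          powCenter e S ⊓ N.center ≤ F.center := by
  intro n
  induction n using Nat.strong_induction_on with
  | _ n IH =>
  intro Ω _ S _ hn hS F hF N hN
  have hWn : normalizerIn S (wsub W S) = S := normalizerIn_wsub hW S hS
  have hWnS : normalizerIn S (wsub W S) ≤ S := inf_le_left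
  haveI : Finite ↥(normalizerIn S (wsub W S)) :=
    Finite.of_injective (Subgroup.inclusion hWnS) (Subgroup.inclusion_injective hWnS)
  obtain ⟨Z₀, hZ₀def⟩ : ∃ Z₀ : Subgroup Ω, Z₀ = powCenter e S ⊓ N.center := ⟨_, rfl⟩
  rw [← hZ₀def]
  have hZ₀Z : Z₀ ≤ S ⊓ Subgroup.centralizer (S : Set Ω) := by
    rw [hZ₀def]; exact inf_le_left.trans (powCenter_le e S)
  have hZ₀S : Z₀ ≤ S := hZ₀Z.trans inf_le_left
  have hZ₀c : Z₀ ≤ Subgroup.centralizer (S : Set Ω) := hZ₀Z.trans inf_le_right
  have hZ₀N : N.IsCentral Z₀ :=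
    isCentral_of_le (isCentral_center N) (by rw [hZ₀def]; exact inf_le_right)
  have hcenS : ∀ s ∈ S, s ∈ centralizerIn S Z₀ := fun s hs =>
    ⟨hs, Subgroup.mem_centralizer_iff.mpr fun z hz =>
      ((Subgroup.mem_centralizer_iff.mp (hZ₀c hz)) s hs).symm⟩
  apply le_center
  obtain ⟨Eg, hEg⟩ := exists_cenSub F hZ₀S hZ₀c
  suffices hsub : ∀ P : Subgroup Ω, F.Hom P ⊆ Eg.Hom P by
    refine ⟨hZ₀S, fun P φ hφ => ?_⟩
    have h1 := hsub P hφ
    rw [hEg P] at h1
    obtain ⟨-, -, -, ψ, hψ, h2, h3⟩ := h1
    exact ⟨ψ, hψ, h2, h3⟩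
  have hEF : ∀ P : Subgroup Ω, Eg.Hom P ⊆ F.Hom P := fun P φ hφ => by
    rw [hEg P] at hφ; exact hφ.1
  have htop : ∀ α : S ≃* S, IsIso F α → IsIso Eg α := by
    intro α hα
    unfold IsIso
    rw [hEg S]
    apply mem_centralizerHom_of_fixes F hZ₀S hZ₀c hα
    intro x hx
    have h1 := aut_top_mem_normalizerHom hW hS F hα
    rw [← hN S] at h1
    exact isCentral_fixes hZ₀N h1 x hx
  by_contra hne
  obtain ⟨V, hV1, hVfn, hVb, hmax⟩ := exists_extremal hS hF Eg hEF htop hne
  -- subgroups beyond `V` are good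
  have hgoodR : ∀ R : Subgroup Ω, R ≠ ⊥ →
      (Nat.card (normalizerIn S V) < Nat.card (normalizerIn S R) ∨
        (Nat.card (normalizerIn S R) = Nat.card (normalizerIn S V) ∧ Nat.card V < Nat.card R)) →
      ∀ (Q : Subgroup Ω) (φ : Q →* Ω), φ ∈ F.normalizerHom R Q →
        ∀ x : Q, (x : Ω) ∈ Z₀ → φ x = x := by
    intro R hR1 hlt Q φ hφ x hx
    have hφE : φ ∈ Eg.Hom Q := by
      by_contra h
      have hb : BadN F Eg R := ⟨Q, φ, hφ, h⟩
      obtain ⟨h1, h2⟩ := hmax R hR1 hb
      rcases hlt with h3 | ⟨h3, h4⟩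
      · exact absurd h1 (not_le.mpr h3)
      · exact absurd (h2 h3) (not_le.mpr h4)
    rw [hEg Q] at hφE
    exact centralizerHom_fixes hφE x hx
  have hVS : V ≤ S := hVfn.1
  have hTS : normalizerIn S V ≤ S := inf_le_left
  haveI : Finite ↥(normalizerIn S V) :=
    Finite.of_injective (Subgroup.inclusion hTS) (Subgroup.inclusion_injective hTS)
  haveI : Finite ↥V := Finite.of_injective (Subgroup.inclusion hVS) (Subgroup.inclusion_injective hVS)
  have hTp : IsPGroup p ↥(normalizerIn S V) :=
    hS.of_injective (Subgroup.inclusion hTS) (Subgroup.inclusion_injective hTS)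
  obtain ⟨E, hE⟩ : ∃ E : FusionSystem (normalizerIn S V), F.IsNormalizerSystem V E :=
    ⟨nsys F V hVS, nsys_spec F V hVS⟩
  have hEsat : E.IsSaturated p := normalizerSystem_saturated hS hF hVfn E hE
  have hEFh : ∀ P : Subgroup Ω, E.Hom P ⊆ F.Hom P := normalizerSystem_hom_subset hE
  have hEn : E.IsNormal V := normalizerSystem_isNormal hVS hE
  have hS₁1 : normalizerIn S V ≠ ⊥ := by
    intro h
    apply hV1
    exact le_bot_iff.mp (h ▸ le_normalizerIn hVS)
  have hZS₁ : S ⊓ Subgroup.centralizer (S : Set Ω) ≤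
      normalizerIn S V ⊓ Subgroup.centralizer ((normalizerIn S V : Subgroup Ω) : Set Ω) := by
    intro z hz
    exact ⟨⟨hz.1, Subgroup.centralizer_le_normalizer _ (Subgroup.centralizer_le hVS hz.2)⟩,
      Subgroup.centralizer_le hTS hz.2⟩
  have hZ₀p : Z₀ ≤ powCenter e (normalizerIn S V) := by
    rw [hZ₀def]; exact inf_le_left.trans (powCenter_mono e hZS₁)
  have hZ₀W : Z₀ ≤ wsub W (normalizerIn S V) :=
    (hZ₀Z.trans hZS₁).trans (center_le_wsub hWZ _ hTp)
  -- it suffices to show that `Z₀` is central in `E`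
  suffices hEc : E.IsCentral Z₀ by
    obtain ⟨P, φ, hφ, hφE⟩ := hVb
    apply hφE
    rw [hEg P]
    have hφ' : φ ∈ E.Hom P := by rw [hE P]; exact hφ
    obtain ⟨ψ, hψ, h2, h3⟩ := hEc.2 P φ hφ'
    exact ⟨hφ.1, fun x hx => hcenS x (hom_le F hφ.1 hx), fun x => hcenS _ ((F.le_of_mem hφ.1).2 x),
      ψ, hEFh _ hψ, h2, h3⟩
  obtain ⟨N₁, hN₁⟩ : ∃ N₁ : FusionSystem (normalizerIn (normalizerIn S V) (wsub W (normalizerIn S V))),
      E.IsNormalizerSystem (wsub W (normalizerIn S V)) N₁ :=
    ⟨nsys E _ (wsub_le W _), nsys_spec E _ (wsub_le W _)⟩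
  haveI := finite_wsub (W := W) (normalizerIn S V)
  by_cases hT' : normalizerIn S V = S
  · -- `V` is normal in `S`
    have hcardlt : ∀ R : Subgroup Ω, R ≤ S → V < R → Nat.card V < Nat.card R := by
      intro R hRS hVR
      haveI : Finite ↥R := Finite.of_injective (Subgroup.inclusion hRS) (Subgroup.inclusion_injective hRS)
      refine lt_of_le_of_ne (Subgroup.card_le_of_le hVR.le) (fun heq => hVR.ne ?_)
      exact Subgroup.eq_of_le_of_card_ge hVR.le heq.ge
    have hgoodN : ∀ R : Subgroup Ω, R ≤ S → normalizerIn S R = S → V < R →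
        ∀ (Q : Subgroup Ω) (φ : Q →* Ω), φ ∈ F.normalizerHom R Q →
          ∀ x : Q, (x : Ω) ∈ Z₀ → φ x = x := by
      intro R hRS hRn hVR
      apply hgoodR R (ne_bot_of_gt hVR)
      right
      exact ⟨by rw [hRn, hT'], hcardlt R hRS hVR⟩
    have hUsc : E.StronglyClosed V := normal_stronglyClosed hEn
    by_cases hcen : centralizerIn S V ≤ V
    · -- constrained: use the model
      have hUc : E.IsCentric V := by
        refine ⟨le_normalizerIn hVS, fun Q hQ => ?_⟩
        have hQU : Q = V := weaklyClosed_eq_of_isConj (normal_weaklyClosed hEn) hQ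
        rw [hQU]
        intro x hx
        exact hcen ⟨hTS hx.1, hx.2⟩
      obtain ⟨G, _, ι, hG⟩ := Mod.exists_model hTp ⟨hEsat, V, hEn, hUc⟩
      have h1 := hM Ω _ hTp E G ι hG N₁ hN₁
      have h3 : N₁.IsCentral Z₀ := by
        apply central_nsys (wsub_le W _) hN₁ hZ₀W
        intro Q φ hφ x hx
        rw [← hN₁ Q] at hφ
        have h4 := nsys_nsys_hom_subset hE hN₁ hφ
        rw [wsub_congr W hT', ← hN Q] at h4
        exact isCentral_fixes hZ₀N h4 x hx
      exact isCentral_of_le (isCentral_center E) ((le_inf hZ₀p (le_center h3)).trans h1)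
    · -- not constrained
      have hRS : V ⊔ centralizerIn S V ≤ S := sup_le hVS (centralizerIn_le_S S V)
      have hVR : V < V ⊔ centralizerIn S V := by
        refine lt_of_le_of_ne le_sup_left (fun h => hcen ?_)
        exact le_sup_right.trans (le_of_eq h.symm)
      have hRn : normalizerIn S (V ⊔ centralizerIn S V) = S := normalizerIn_sup_centralizerIn hVS hT'
      -- Step A: maps of `E` move `Z₀` by elements of `V`
      have hA : ∀ (P : Subgroup Ω) (χ : P →* Ω), χ ∈ F.normalizerHom V P →
          ∀ x : P, (x : Ω) ∈ Z₀ → (x : Ω)⁻¹ * χ x ∈ V := by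
        haveI : (V.subgroupOf (normalizerIn S V)).Normal :=
          Subgroup.normal_subgroupOf_of_le_normalizer inf_le_right
        obtain ⟨E', hfac⟩ := Cfsg.Agent.S5132.result p hTp E V hUsc
        have hsm := Cfsg.Agent.S5134.result p hTp E hEsat V hUsc _ E' hfac
        have hE'sat : E'.IsSaturated p := Cfsg.Agent.S5133.result p hTp E hEsat E' _ hsm
        haveI : Finite ↥(⊤ : Subgroup (↥(normalizerIn S V) ⧸ V.subgroupOf (normalizerIn S V))) :=
          inferInstance
        have hp' : IsPGroup p ↥(⊤ : Subgroup (↥(normalizerIn S V) ⧸ V.subgroupOf (normalizerIn S V))) :=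
          (hTp.to_quotient _).to_subgroup _
        have hcard' : Nat.card ↥(⊤ : Subgroup (↥(normalizerIn S V) ⧸ V.subgroupOf (normalizerIn S V))) < n := by
          rw [Subgroup.card_top, ← hn]
          have h3 := Subgroup.card_eq_card_quotient_mul_card_subgroup (V.subgroupOf (normalizerIn S V))
          have h4 : Nat.card (V.subgroupOf (normalizerIn S V)) = Nat.card V :=
            Nat.card_congr (Subgroup.subgroupOfEquivOfLe (le_normalizerIn hVS)).toEquiv
          have h5 : 1 < Nat.card V := by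
            rw [Subgroup.one_lt_card_iff_ne_bot]
            exact hV1
          have h6 : Nat.card ↥(normalizerIn S V) = Nat.card S := by rw [hT']
          rw [h4, h6] at h3
          have h7 : 0 < Nat.card (↥(normalizerIn S V) ⧸ V.subgroupOf (normalizerIn S V)) := Nat.card_pos
          nlinarith
        obtain ⟨N', hN'⟩ : ∃ N' : FusionSystem (normalizerIn (⊤ : Subgroup (↥(normalizerIn S V) ⧸
            V.subgroupOf (normalizerIn S V))) (wsub W ⊤)), E'.IsNormalizerSystem (wsub W ⊤) N' :=
          ⟨nsys E' _ (wsub_le W _), nsys_spec E' _ (wsub_le W _)⟩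
        have hIH := IH _ hcard' _ ⊤ rfl hp' E' hE'sat N' hN'
        obtain ⟨hUT, hker, hrange, -⟩ := id hfac
        -- the image of `Z₀`
        have htop' : (⊤ : Subgroup (↥(normalizerIn S V) ⧸ V.subgroupOf (normalizerIn S V))) ≠ ⊥ := by
          intro htop
          apply hcen
          intro s hs
          have hs' : s ∈ normalizerIn S V := by rw [hT']; exact hs.1
          apply (hker ⟨s, hs'⟩).mp
          have h1 : QuotientGroup.mk' (V.subgroupOf (normalizerIn S V)) ⟨s, hs'⟩ ∈
              (⊤ : Subgroup (↥(normalizerIn S V) ⧸ V.subgroupOf (normalizerIn S V))) := Subgroup.mem_top _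
          rw [htop] at h1
          exact Subgroup.mem_bot.mp h1
        have hRb1 := wsub_ne_bot hW (⊤ : Subgroup (↥(normalizerIn S V) ⧸ V.subgroupOf (normalizerIn S V)))
          hp' htop'
        have hRble := wsub_le W (⊤ : Subgroup (↥(normalizerIn S V) ⧸ V.subgroupOf (normalizerIn S V)))
        have hRbchar := wsub_char hW (⊤ : Subgroup (↥(normalizerIn S V) ⧸ V.subgroupOf (normalizerIn S V))) hp'
        haveI := finite_wsub (W := W) (⊤ : Subgroup (↥(normalizerIn S V) ⧸ V.subgroupOf (normalizerIn S V)))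
        have hV'n : (⊤ : Subgroup (↥(normalizerIn S V) ⧸ V.subgroupOf (normalizerIn S V))) ≤
            Subgroup.normalizer ((wsub W (⊤ : Subgroup (↥(normalizerIn S V) ⧸
              V.subgroupOf (normalizerIn S V)))) : Set (↥(normalizerIn S V) ⧸ V.subgroupOf (normalizerIn S V))) := by
          have h3 := normalizerIn_eq_of_char hRble hRbchar
          intro y hy
          have h4 : y ∈ normalizerIn ⊤ (wsub W (⊤ : Subgroup (↥(normalizerIn S V) ⧸
              V.subgroupOf (normalizerIn S V)))) := by rw [h3]; exact hy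
          exact h4.2
        have hVn := preimage_normalizer hrange hV'n
        have hR'T : preimageAlong (QuotientGroup.mk' (V.subgroupOf (normalizerIn S V)))
            (wsub W ⊤) ≤ normalizerIn S V := preimageAlong_le _ _
        have hR'S := hR'T.trans hTS
        have hR'n : normalizerIn S (preimageAlong (QuotientGroup.mk' (V.subgroupOf (normalizerIn S V)))
            (wsub W ⊤)) = S := by
          apply le_antisymm inf_le_left
          intro y hy
          have hy' : y ∈ normalizerIn S V := by rw [hT']; exact hy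
          rw [← hVn] at hy'
          exact ⟨hy, hy'.2⟩
        have hVR' := lt_preimage hUT hker hrange hRble hRb1
        -- images of elements of `Z₀` are central in the factor system
        have himg : ∀ (z : Ω) (hz : z ∈ Z₀) (hzT : z ∈ normalizerIn S V),
            QuotientGroup.mk' (V.subgroupOf (normalizerIn S V)) ⟨z, hzT⟩ ∈ E'.center := by
          -- the image of `Z₀`
          obtain ⟨Z', hZ'def⟩ : ∃ Z' : Subgroup (↥(normalizerIn S V) ⧸ V.subgroupOf (normalizerIn S V)),
            Z' = (Z₀.subgroupOf (normalizerIn S V)).map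
              (QuotientGroup.mk' (V.subgroupOf (normalizerIn S V))) := ⟨_, rfl⟩
          have hZ'mem : ∀ (z : Ω) (hz : z ∈ Z₀) (hzT : z ∈ normalizerIn S V),
              QuotientGroup.mk' (V.subgroupOf (normalizerIn S V)) ⟨z, hzT⟩ ∈ Z' := by
            intro z hz hzT
            rw [hZ'def]
            exact ⟨⟨z, hzT⟩, Subgroup.mem_subgroupOf.mpr hz, rfl⟩
          have hZ'cen : Z' ≤ (⊤ : Subgroup (↥(normalizerIn S V) ⧸ V.subgroupOf (normalizerIn S V))) ⊓
              Subgroup.centralizer (((⊤ : Subgroup (↥(normalizerIn S V) ⧸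
                V.subgroupOf (normalizerIn S V))) : Subgroup _) : Set _) := by
            rw [hZ'def]
            rintro _ ⟨z, hz, rfl⟩
            refine ⟨Subgroup.mem_top _, Subgroup.mem_centralizer_iff.mpr ?_⟩
            intro y _
            obtain ⟨s, rfl⟩ := QuotientGroup.mk'_surjective (V.subgroupOf (normalizerIn S V)) y
            rw [← map_mul, ← map_mul]
            congr 1
            apply Subtype.ext
            have hz' : (z : Ω) ∈ Z₀ := Subgroup.mem_subgroupOf.mp hz
            exact (Subgroup.mem_centralizer_iff.mp (hZ₀c hz')) s (hTS s.2)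
          have hZ'pow : Z' ≤ powCenter e (⊤ : Subgroup (↥(normalizerIn S V) ⧸ V.subgroupOf (normalizerIn S V))) := by
            have h1 : powCenter e S ≤ preimageAlong (QuotientGroup.mk' (V.subgroupOf (normalizerIn S V)))
                (powCenter e (⊤ : Subgroup (↥(normalizerIn S V) ⧸ V.subgroupOf (normalizerIn S V)))) := by
              unfold powCenter
              rw [Subgroup.closure_le]
              rintro _ ⟨y, hy, rfl⟩
              have hyT : y ∈ normalizerIn S V := (hZS₁ hy).1
              refine mem_preimageAlong.mpr ⟨Subgroup.pow_mem _ hyT e, ?_⟩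
              apply Subgroup.subset_closure
              refine ⟨QuotientGroup.mk' (V.subgroupOf (normalizerIn S V)) ⟨y, hyT⟩, ?_, ?_⟩
              · refine ⟨Subgroup.mem_top _, Subgroup.mem_centralizer_iff.mpr ?_⟩
                intro w _
                obtain ⟨s, rfl⟩ := QuotientGroup.mk'_surjective (V.subgroupOf (normalizerIn S V)) w
                rw [← map_mul, ← map_mul]
                congr 1
                apply Subtype.ext
                exact (Subgroup.mem_centralizer_iff.mp hy.2) s (hTS s.2)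
              · show (QuotientGroup.mk' (V.subgroupOf (normalizerIn S V)) ⟨y, hyT⟩) ^ e = _
                rw [← map_pow]
                rfl
            rw [hZ'def]
            rintro _ ⟨z, hz, rfl⟩
            have hz' : (z : Ω) ∈ Z₀ := Subgroup.mem_subgroupOf.mp hz
            have hz'' : (z : Ω) ∈ powCenter e S := by
              have : Z₀ ≤ powCenter e S := by rw [hZ₀def]; exact inf_le_left
              exact this hz'
            obtain ⟨hzT, hzp⟩ := mem_preimageAlong.mp (h1 hz'')
            exact hzp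
          have hZ'W : Z' ≤ wsub W (⊤ : Subgroup (↥(normalizerIn S V) ⧸ V.subgroupOf (normalizerIn S V))) :=
            hZ'cen.trans (center_le_wsub hWZ _ hp')
          have hZ'N : N'.IsCentral Z' := by
            apply central_nsys hRble hN' hZ'W
            intro Q' φ' hφ' x' hx'
            obtain ⟨φ₀, hφ₀, hlift⟩ := lift_normalizerHom' hfac hφ'
            rw [hZ'def] at hx'
            obtain ⟨z, hz, hzx⟩ := hx'
            have hz' : (z : Ω) ∈ Z₀ := Subgroup.mem_subgroupOf.mp hz
            have hzQ : (z : Ω) ∈ preimageAlong (QuotientGroup.mk' (V.subgroupOf (normalizerIn S V)))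
                (Q' ⊔ wsub W ⊤) := by
              refine mem_preimageAlong.mpr ⟨z.2, ?_⟩
              rw [show (⟨(z : Ω), z.2⟩ : ↥(normalizerIn S V)) = z from rfl, hzx]
              exact (le_sup_left : Q' ≤ Q' ⊔ wsub W ⊤) x'.2
            have hzx' : QuotientGroup.mk' (V.subgroupOf (normalizerIn S V)) ⟨((⟨z, hzQ⟩ :
                ↥(preimageAlong (QuotientGroup.mk' (V.subgroupOf (normalizerIn S V))) (Q' ⊔ wsub W ⊤))) : Ω),
                z.2⟩ ∈ Q' := by
              rw [show (⟨(z : Ω), z.2⟩ : ↥(normalizerIn S V)) = z from rfl, hzx]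
              exact x'.2
            obtain ⟨hφz, h5⟩ := hlift ⟨z, hzQ⟩ z.2 hzx'
            have h6 := hgoodN _ hR'S hR'n hVR' _ _ (normalizerHom_nsys_subset hE hφ₀) ⟨z, hzQ⟩ hz'
            have h7 : (⟨QuotientGroup.mk' (V.subgroupOf (normalizerIn S V)) ⟨((⟨z, hzQ⟩ :
                ↥(preimageAlong (QuotientGroup.mk' (V.subgroupOf (normalizerIn S V))) (Q' ⊔ wsub W ⊤))) : Ω),
                z.2⟩, hzx'⟩ : ↥Q') = x' := Subtype.ext hzx
            rw [h7] at h5
            rw [← h5, ← hzx]
            congr 1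
            exact Subtype.ext h6
          have hZ'E : Z' ≤ E'.center := (le_inf hZ'pow (le_center hZ'N)).trans hIH
          intro z hz hzT
          exact hZ'E (hZ'mem z hz hzT)
        intro P χ hχ x hx
        have hχ' : χ ∈ E.Hom P := by rw [hE P]; exact hχ
        obtain ⟨φ', hφ', hP, hχS, hP', hind⟩ := hsm.1.2 P χ hχ'
        have h1 := hind x
        have h2 := CB.central_fixed hφ' ⟨_, hP' x⟩ (himg x hx (hP x.2))
        rw [h1] at h2
        have hyS : (x : Ω)⁻¹ * χ x ∈ normalizerIn S V :=
          (normalizerIn S V).mul_mem ((normalizerIn S V).inv_mem (hP x.2)) (hχS x)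
        apply (hker ⟨_, hyS⟩).mp
        have h3 : (⟨(x : Ω)⁻¹ * χ x, hyS⟩ : ↥(normalizerIn S V)) = (⟨x, hP x.2⟩)⁻¹ * ⟨χ x, hχS x⟩ :=
          Subtype.ext rfl
        rw [h3, map_mul, map_inv, h2]
        exact inv_mul_cancel _
      exact normalizer_isCentral hS hF hVfn hZ₀S hZ₀c hA (hgoodN _ hRS hRn hVR) E hE
  · -- `N_S(V) < S`: induction
    have hTlt : normalizerIn S V < S := lt_of_le_of_ne hTS hT'
    have hcardT : Nat.card ↥(normalizerIn S V) < n := by
      rw [← hn]
      refine lt_of_le_of_ne (Subgroup.card_le_of_le hTS) (fun heq => hT' ?_)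
      exact Subgroup.eq_of_le_of_card_ge hTS heq.ge
    have hIH := IH _ hcardT Ω _ rfl hTp E hEsat N₁ hN₁
    have hR1 : wsub W (normalizerIn S V) ≠ ⊥ := wsub_ne_bot hW _ hTp hS₁1
    have h3 : normalizerIn S (normalizerIn S V) ≤ normalizerIn S (wsub W (normalizerIn S V)) :=
      normalizerIn_le_of_char (wsub_le W _) (wsub_char hW _ hTp)
    have h4 := card_lt_card_normalizerIn hS hTlt
    have hNRS : normalizerIn S (wsub W (normalizerIn S V)) ≤ S := inf_le_left
    haveI : Finite ↥(normalizerIn S (wsub W (normalizerIn S V))) :=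
      Finite.of_injective (Subgroup.inclusion hNRS) (Subgroup.inclusion_injective hNRS)
    have h5 := Subgroup.card_le_of_le h3
    have h6 : N₁.IsCentral Z₀ := by
      apply central_nsys (wsub_le W _) hN₁ hZ₀W
      intro Q φ hφ x hx
      rw [← hN₁ Q] at hφ
      exact hgoodR _ hR1 (Or.inl (h4.trans_le h5)) Q φ (nsys_nsys_hom_subset hE hN₁ hφ) x hx
    exact isCentral_of_le (isCentral_center E) ((le_inf hZ₀p (le_center h6)).trans hIH)

end Cfsg.Agent.Lib.Helper27.LG2
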