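import Mathlib
import Cfsg.Agent.Lib.Helper27.LG2Tools
import Cfsg.Agent.Lib.Helper27.FusionRealizedSub
import Cfsg.Agent.Lib.Helper16.PCore

set_option autoImplicit false

/-! Models of fusion systems: subgroups normal in the system, conjugation maps, and the functor
subgroup `W(S)`. -/

namespace Cfsg.Agent.Lib.Helper27.LG2

open Cfsg Cfsg.FusionSystem Cfsg.Agent.Lib.Helper27 Cfsg.Agent.Lib.Helper27.LG Cfsg.Agent.H26
open scoped commutatorElement

section general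

variable {Ω : Type*} [Group Ω] {S : Subgroup Ω} [Finite S] {G : Type*} [Group G] {p : ℕ} [Fact p.Prime]

theorem model_pCore_le_range {E : FusionSystem S} {ι : S →* G} (hG : E.IsModel p G ι) :
    pCore p G ≤ ι.range := by
  haveI := hG.1
  obtain ⟨Sy, hSy⟩ := hG.2.2.1
  rw [← hSy]
  exact Cfsg.Agent.Lib.Helper16.pCore_le_sylow Sy

theorem model_isPGroup {E : FusionSystem S} {ι : S →* G} (hG : E.IsModel p G ι) : IsPGroup p S := by
  obtain ⟨Sy, hSy⟩ := hG.2.2.1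
  have h1 : IsPGroup p ι.range := hSy ▸ Sy.2
  exact h1.of_injective ι.rangeRestrict (by
    intro a b hab
    apply hG.2.1.1
    exact congrArg (fun w : ι.range => (w : G)) hab)

/-- The conjugation map by `g` on a subgroup `P ≤ S` whose image is conjugated into `ι(S)`. -/
theorem exists_conj_hom {E : FusionSystem S} {ι : S →* G} (hreal : E.IsRealizedBy ι) (g : G)
    {P : Subgroup Ω} (hP : P ≤ S) (h : ∀ x ∈ P, g * ext1 ι x * g⁻¹ ∈ ι.range) :
    ∃ φ ∈ E.Hom P, ∀ x : P, ext1 ι (φ x) = g * ext1 ι x * g⁻¹ :=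
  ⟨rconj hreal.1 g hP h, rconj_mem_hom hreal g hP h, ext1_rconj hreal.1 g hP h⟩

/-- In a model, a subgroup normal in the system is normalized by the group. -/
theorem model_normal_conj {E : FusionSystem S} {ι : S →* G} (hG : E.IsModel p G ι) {V : Subgroup Ω}
    (hV : E.IsNormal V) (g : G) {v : Ω} (hv : v ∈ V) :
    ∃ v' ∈ V, ext1 ι v' = g * ext1 ι v * g⁻¹ := by
  haveI := hG.1
  have hreal := hG.2.1
  have hcen := hG.2.2.2
  have hQr := model_pCore_le_range hG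
  haveI hQn : (pCore p G).Normal := Cfsg.Agent.Lib.Helper16.pCore_normal
  have hVS : V ≤ S := hV.1
  haveI : Finite ↥V := Finite.of_injective (Subgroup.inclusion hVS) (Subgroup.inclusion_injective hVS)
  have hQS : pullback ι (pCore p G) ≤ S := pullback_le ι _
  have hQc : ∀ x ∈ pullback ι (pCore p G), g * ext1 ι x * g⁻¹ ∈ ι.range := by
    intro x hx
    exact hQr (hQn.conj_mem _ (mem_pullback_iff.mp hx).2 g)
  obtain ⟨φ, hφ, hφg⟩ := exists_conj_hom hreal g hQS hQc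
  obtain ⟨ψ, hψ, hψφ, hψV⟩ := hV.2 _ φ hφ
  obtain ⟨-, hψS, h, hh⟩ := (realized_hom_iff hreal ψ).mp hψ
  -- `h⁻¹ g` centralizes `O_p(G)`
  have h1 : h⁻¹ * g ∈ Subgroup.centralizer ((pCore p G : Subgroup G) : Set G) := by
    rw [Subgroup.mem_centralizer_iff]
    intro y hy
    obtain ⟨x, hxS, rfl⟩ := exists_ext1_eq (hQr hy)
    have hxQ : x ∈ pullback ι (pCore p G) := mem_pullback_iff.mpr ⟨hxS, hy⟩
    have h2 := hh (Subgroup.inclusion le_sup_left ⟨x, hxQ⟩)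
    rw [hψφ ⟨x, hxQ⟩, hφg ⟨x, hxQ⟩] at h2
    have h3 : g * ext1 ι x * g⁻¹ = h * ext1 ι x * h⁻¹ := h2
    calc ext1 ι x * (h⁻¹ * g) = h⁻¹ * (h * ext1 ι x * h⁻¹) * g := by group
      _ = h⁻¹ * (g * ext1 ι x * g⁻¹) * g := by rw [h3]
      _ = h⁻¹ * g * ext1 ι x := by group
  obtain ⟨s, hsS, hs⟩ := exists_ext1_eq (hQr (hcen h1))
  have hsv : s * v * s⁻¹ ∈ V := normal_conj_mem hV hsS hv
  have hsv' : s * v * s⁻¹ ∈ pullback ι (pCore p G) ⊔ V := (le_sup_right : V ≤ _) hsv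
  refine ⟨ψ ⟨s * v * s⁻¹, hsv'⟩, ?_, ?_⟩
  · have h0 : ψ ⟨s * v * s⁻¹, hsv'⟩ ∈ (V.subgroupOf (pullback ι (pCore p G) ⊔ V)).map ψ :=
      ⟨_, Subgroup.mem_subgroupOf.mpr hsv, rfl⟩
    rwa [hψV] at h0
  · rw [hh]
    show h * ext1 ι (s * v * s⁻¹) * h⁻¹ = _
    rw [ext1_mul ι (S.mul_mem hsS (hVS hv)) (S.inv_mem hsS), ext1_mul ι hsS (hVS hv), ext1_inv ι hsS, hs]
    group

/-- In a model, a subgroup normal in the system maps into `O_p(G)`. -/
theorem model_normal_le_pCore {E : FusionSystem S} {ι : S →* G} (hG : E.IsModel p G ι)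
    {V : Subgroup Ω} (hV : E.IsNormal V) {v : Ω} (hv : v ∈ V) : ext1 ι v ∈ pCore p G := by
  have hVS : V ≤ S := hV.1
  have hS := model_isPGroup hG
  have hn : ((V.subgroupOf S).map ι).Normal := by
    constructor
    rintro _ ⟨x, hx, rfl⟩ g
    obtain ⟨v', hv', h1⟩ := model_normal_conj hG hV g (Subgroup.mem_subgroupOf.mp hx)
    rw [ext1_coe] at h1
    refine ⟨⟨v', hVS hv'⟩, Subgroup.mem_subgroupOf.mpr hv', ?_⟩
    rw [← h1, ext1_of_mem ι (hVS hv')]
  have hp : IsPGroup p ((V.subgroupOf S).map ι) := (hS.to_subgroup _).map ι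
  have h2 := Cfsg.Agent.Lib.Helper16.le_pCore _ hn hp
  apply h2
  refine ⟨⟨v, hVS hv⟩, Subgroup.mem_subgroupOf.mpr hv, ?_⟩
  rw [ext1_of_mem ι (hVS hv)]

/-- The focal subgroup of a realized system maps into the derived subgroup. -/
theorem realized_focal_mem_commutator {E : FusionSystem S} {ι : S →* G} (hreal : E.IsRealizedBy ι)
    {y : Ω} (hy : y ∈ E.focalSubgroup) : y ∈ S ∧ ext1 ι y ∈ commutator G := by
  unfold focalSubgroup at hy
  induction hy using Subgroup.closure_induction with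
  | mem y hy =>
    obtain ⟨P, φ, x, hφ, rfl⟩ := hy
    obtain ⟨hPS, hφS, g, hg⟩ := (realized_hom_iff hreal φ).mp hφ
    refine ⟨S.mul_mem (S.inv_mem (hPS x.2)) (hφS x), ?_⟩
    rw [ext1_mul ι (S.inv_mem (hPS x.2)) (hφS x), ext1_inv ι (hPS x.2), hg x]
    have h1 : (ext1 ι (x : Ω))⁻¹ * (g * ext1 ι x * g⁻¹) = ⁅(ext1 ι (x : Ω))⁻¹, g⁆ := by
      show _ = (ext1 ι (x : Ω))⁻¹ * g * ((ext1 ι (x : Ω))⁻¹)⁻¹ * g⁻¹
      group
    rw [h1, commutator_def]
    exact Subgroup.commutator_mem_commutator (Subgroup.mem_top _) (Subgroup.mem_top _)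
  | one => exact ⟨S.one_mem, by rw [ext1_one]; exact Subgroup.one_mem _⟩
  | mul a b _ _ ha hb =>
    exact ⟨S.mul_mem ha.1 hb.1, by rw [ext1_mul ι ha.1 hb.1]; exact Subgroup.mul_mem _ ha.2 hb.2⟩
  | inv a _ ha =>
    exact ⟨S.inv_mem ha.1, by rw [ext1_inv ι ha.1]; exact Subgroup.inv_mem _ ha.2⟩

end general

section functor

universe u

variable {W : ∀ (Q : Type u) [Group Q], Subgroup Q} {p : ℕ} [Fact p.Prime]
  {Ω : Type u} [Group Ω] {S : Subgroup Ω} [Finite S] {G : Type u} [Group G]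

/-- The image of `W(S)` under an injective homomorphism with image `T` is `W(T)`. -/
theorem map_wsub (hW : Cfsg.IsCharPFunctor.{u} p W) (hS : IsPGroup p S) {ι : S →* G}
    (hinj : Function.Injective ι) {T : Subgroup G} (hT : T = ι.range) :
    (W ↥S).map ι = wsub W T := by
  subst hT
  have h1 := hW.2 S ι.range hS (MonoidHom.ofInjective hinj)
  unfold wsub
  rw [← h1, Subgroup.map_map]
  rfl

theorem ext1_mem_wsub (hW : Cfsg.IsCharPFunctor.{u} p W) (hS : IsPGroup p S) {ι : S →* G}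
    (hinj : Function.Injective ι) {T : Subgroup G} (hT : T = ι.range) {x : Ω} (hx : x ∈ wsub W S) :
    ext1 ι x ∈ wsub W T := by
  rw [← map_wsub hW hS hinj hT]
  obtain ⟨s, hs, rfl⟩ := hx
  exact ⟨s, hs, (ext1_coe ι s).symm⟩

theorem mem_wsub_of_ext1 (hW : Cfsg.IsCharPFunctor.{u} p W) (hS : IsPGroup p S) {ι : S →* G}
    (hinj : Function.Injective ι) {T : Subgroup G} (hT : T = ι.range) {x : Ω} (hxS : x ∈ S)
    (hx : ext1 ι x ∈ wsub W T) : x ∈ wsub W S := by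
  rw [← map_wsub hW hS hinj hT] at hx
  obtain ⟨s, hs, hsx⟩ := hx
  rw [ext1_of_mem ι hxS] at hsx
  have h1 := hinj hsx
  exact ⟨s, hs, by rw [h1]; rfl⟩

/-- Conjugation by an element of `N_G(W(T))` on a subgroup `P ≥ W(S)` of `S` conjugated into `ι(S)`
is a map of the normalizer system of `W(S)`. -/
theorem exists_conj_normalizerHom (hW : Cfsg.IsCharPFunctor.{u} p W) (hS : IsPGroup p S)
    {E : FusionSystem S} {ι : S →* G} (hreal : E.IsRealizedBy ι) {T : Subgroup G} (hT : T = ι.range)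
    {g : G} (hg : g ∈ Subgroup.normalizer ((wsub W T : Subgroup G) : Set G))
    {P : Subgroup Ω} (hWP : wsub W S ≤ P) (hP : P ≤ S) (h : ∀ x ∈ P, g * ext1 ι x * g⁻¹ ∈ ι.range) :
    ∃ φ ∈ E.normalizerHom (wsub W S) P, ∀ x : P, ext1 ι (φ x) = g * ext1 ι x * g⁻¹ := by
  obtain ⟨φ, hφ, hφg⟩ := exists_conj_hom hreal g hP h
  haveI := finite_wsub (W := W) S
  refine ⟨φ, mem_normalizerHom_of_preserves E hWP ?_ hφ ?_, hφg⟩
  · rw [normalizerIn_wsub hW S hS]
    exact hP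
  · intro x hx
    apply mem_wsub_of_ext1 hW hS hreal.1 hT ((E.le_of_mem hφ).2 x)
    rw [hφg x]
    exact (Subgroup.mem_normalizer_iff.mp hg _).mp (ext1_mem_wsub hW hS hreal.1 hT hx)

end functor

end Cfsg.Agent.Lib.Helper27.LG2
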