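import Mathlib
import Cfsg.Agent.Lib.Helper27.LG2Model
import Cfsg.Agent.Lib.Helper27.LG2Focal

set_option autoImplicit false

/-! The hypothesis on models in the local-to-global theorem for control of transfer follows from the
corresponding statement for finite groups (via the focal subgroup theorem). -/

namespace Cfsg.Agent.Lib.Helper27.LG2

open Cfsg Cfsg.FusionSystem Cfsg.Agent.Lib.Helper27 Cfsg.Agent.Lib.Helper27.LG Cfsg.Agent.H26
open scoped commutatorElement

universe u

variable {W : ∀ (Q : Type u) [Group Q], Subgroup Q} {p : ℕ} [Fact p.Prime]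

/-- A Sylow `p`-subgroup normalizes its functor subgroup. -/
theorem le_normalizer_wsub (hW : Cfsg.IsCharPFunctor.{u} p W) {G : Type u} [Group G] [Finite G]
    (T : Subgroup G) (hT : IsPGroup p T) : T ≤ Subgroup.normalizer ((wsub W T : Subgroup G) : Set G) := by
  intro g hg
  haveI := finite_wsub (W := W) T
  apply mem_normalizer_of_conj_mem
  intro y hy
  exact char_conj_mem (wsub_le W T) (wsub_char hW T hT) (Subgroup.le_normalizer hg) hy

theorem modelFocal_of_local (hW : Cfsg.IsCharPFunctor.{u} p W)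
    (hT : ∀ (G : Type u) [Group G] [Finite G] (P : Sylow p G),
      Subgroup.centralizer ((pCore p G : Subgroup G) : Set G) ≤ pCore p G →
      pCore p G ⊓ commutator G = pCore p G ⊓
        (commutator ↥(Subgroup.normalizer ((wsub W (P : Subgroup G) : Subgroup G) : Set G))).map
          (Subgroup.normalizer ((wsub W (P : Subgroup G) : Subgroup G) : Set G)).subtype) :
    ModelFocal p W := by
  intro Ω _ S _ hS E G _ ι hG V hV N hN y hy
  obtain ⟨hyV, hyf⟩ := hy
  haveI := hG.1
  have hreal := hG.2.1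
  obtain ⟨Sy, hSy⟩ := hG.2.2.1
  have hcen := hG.2.2.2
  have h1 : ext1 ι y ∈ pCore p G := model_normal_le_pCore hG hV hyV
  obtain ⟨hyS, h2⟩ := realized_focal_mem_commutator hreal hyf
  have h3 : ext1 ι y ∈ pCore p G ⊓ commutator G := ⟨h1, h2⟩
  rw [hT G Sy hcen] at h3
  obtain ⟨n, hn, hny⟩ := h3.2
  have hSyN : (Sy : Subgroup G) ≤ Subgroup.normalizer ((wsub W (Sy : Subgroup G) : Subgroup G) : Set G) :=
    le_normalizer_wsub hW _ Sy.2
  obtain ⟨PN, hPN⟩ : ∃ PN : Sylow p ↥(Subgroup.normalizer ((wsub W (Sy : Subgroup G) : Subgroup G) : Set G)),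
      (PN : Subgroup ↥(Subgroup.normalizer ((wsub W (Sy : Subgroup G) : Subgroup G) : Set G))) =
        (Sy : Subgroup G).subgroupOf _ := ⟨Sy.subtype hSyN, Sylow.coe_subtype _ _⟩
  have hnP : n ∈ (PN : Subgroup _) := by
    rw [hPN, Subgroup.mem_subgroupOf]
    have h4 : ((n : ↥(Subgroup.normalizer ((wsub W (Sy : Subgroup G) : Subgroup G) : Set G))) : G) =
        ext1 ι y := hny
    rw [h4, hSy]
    exact ext1_mem_range ι hyS
  have h4 : n ∈ commutator _ ⊓ (PN : Subgroup _) := ⟨hn, hnP⟩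
  rw [Subgroup.commutator_inf_eq_focalSubgroup] at h4
  have key : ∀ m : ↥(Subgroup.normalizer ((wsub W (Sy : Subgroup G) : Subgroup G) : Set G)),
      m ∈ (PN : Subgroup _).focalSubgroup →
      ∃ y₀ ∈ N.focalSubgroup, y₀ ∈ S ∧ ext1 ι y₀ = (m : G) := by
    intro m hm
    rw [Subgroup.focalSubgroup_def] at hm
    induction hm using Subgroup.closure_induction with
    | mem m hm =>
      obtain ⟨hmP, x, hxP, u, rfl⟩ := hm
      rw [hPN, Subgroup.mem_subgroupOf] at hmP hxP
      have hxr : ((x : G))⁻¹ ∈ ι.range := by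
        rw [← hSy]
        exact Subgroup.inv_mem _ hxP
      obtain ⟨a, haS, ha⟩ := exists_ext1_eq hxr
      -- the subgroup of elements conjugated into `ι(S)` by `u`
      have hK : Subgroup.zpowers a ⊔ wsub W S ≤
          pullback ι (ι.range.comap (MulAut.conj (u : G)).toMonoidHom) := by
        apply sup_le
        · rw [Subgroup.zpowers_le]
          refine mem_pullback_iff.mpr ⟨haS, ?_⟩
          rw [Subgroup.mem_comap, ha]
          show (u : G) * ((x : G))⁻¹ * (u : G)⁻¹ ∈ ι.range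
          have h5 : (u : G) * ((x : G))⁻¹ * (u : G)⁻¹ = ((x : G))⁻¹ * ((⁅x, u⁆ : ↥(Subgroup.normalizer ((wsub W (Sy : Subgroup G) : Subgroup G) : Set G))) : G) := by
            rw [commutatorElement_def]
            simp only [Subgroup.coe_mul, Subgroup.coe_inv]
            group
          rw [h5, ← hSy]
          exact Subgroup.mul_mem _ (Subgroup.inv_mem _ hxP) hmP
        · intro z hz
          refine mem_pullback_iff.mpr ⟨wsub_le W S hz, ?_⟩
          rw [Subgroup.mem_comap]
          have h6 := ext1_mem_wsub hW hS hreal.1 hSy hz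
          have h7 := (Subgroup.mem_normalizer_iff.mp u.2 _).mp h6
          rw [← hSy]
          exact wsub_le W _ h7
      have hP₀S : Subgroup.zpowers a ⊔ wsub W S ≤ S :=
        sup_le (by rw [Subgroup.zpowers_le]; exact haS) (wsub_le W S)
      have hconj : ∀ z ∈ Subgroup.zpowers a ⊔ wsub W S, (u : G) * ext1 ι z * (u : G)⁻¹ ∈ ι.range := by
        intro z hz
        exact (mem_pullback_iff.mp (hK hz)).2
      obtain ⟨φ, hφ, hφu⟩ := exists_conj_normalizerHom hW hS hreal hSy u.2 le_sup_right hP₀S hconj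
      have haP : a ∈ Subgroup.zpowers a ⊔ wsub W S :=
        (le_sup_left : Subgroup.zpowers a ≤ _) (Subgroup.mem_zpowers a)
      have hφN : φ ∈ N.Hom (Subgroup.zpowers a ⊔ wsub W S) := by rw [hN]; exact hφ
      have hφS : φ ⟨a, haP⟩ ∈ S := (E.le_of_mem hφ.1).2 _
      refine ⟨a⁻¹ * φ ⟨a, haP⟩, mem_focal hφN ⟨a, haP⟩, S.mul_mem (S.inv_mem haS) hφS, ?_⟩
      rw [ext1_mul ι (S.inv_mem haS) hφS, ext1_inv ι haS, hφu ⟨a, haP⟩, ha, commutatorElement_def]
      simp only [Subgroup.coe_mul, Subgroup.coe_inv]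
      group
    | one => exact ⟨1, Subgroup.one_mem _, S.one_mem, by rw [ext1_one]; rfl⟩
    | mul a b _ _ ha hb =>
      obtain ⟨y₁, hy₁, hy₁S, h5⟩ := ha
      obtain ⟨y₂, hy₂, hy₂S, h6⟩ := hb
      exact ⟨y₁ * y₂, Subgroup.mul_mem _ hy₁ hy₂, S.mul_mem hy₁S hy₂S, by
        rw [ext1_mul ι hy₁S hy₂S, h5, h6]; rfl⟩
    | inv a _ ha =>
      obtain ⟨y₁, hy₁, hy₁S, h5⟩ := ha
      exact ⟨y₁⁻¹, Subgroup.inv_mem _ hy₁, S.inv_mem hy₁S, by rw [ext1_inv ι hy₁S, h5]; rfl⟩
  obtain ⟨y₀, hy₀, hy₀S, h5⟩ := key n h4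
  have h6 : y = y₀ := by
    apply ext1_inj hreal.1 hyS hy₀S
    rw [h5]
    exact hny.symm
  rw [h6]
  exact hy₀

end Cfsg.Agent.Lib.Helper27.LG2
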