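import Mathlib
import Cfsg.Agent.Lib.Helper27.LG2CenterMain
import Cfsg.Agent.Lib.Helper27.LG2FocalModel

set_option autoImplicit false

/-! The hypothesis on models in the local-to-global theorem on control of weak closure of elements
follows from a statement on finite groups `G` with `C_G(O_p(G)) ≤ O_p(G)`. -/

namespace Cfsg.Agent.Lib.Helper27.LG2

open Cfsg Cfsg.FusionSystem Cfsg.Agent.Lib.Helper27 Cfsg.Agent.Lib.Helper27.LG Cfsg.Agent.H26

universe u

/-- The group-theoretic hypothesis: in a finite group `G` with `C_G(O_p(G)) ≤ O_p(G)` and Sylow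
`p`-subgroup `P`, the elements of `A_e(P)` centralizing `N_G(W(P))` are central. -/
def GroupCenter (p e : ℕ) (W : ∀ (Q : Type u) [Group Q], Subgroup Q) : Prop :=
  ∀ (G : Type u) [Group G] [Finite G] (P : Sylow p G),
    Subgroup.centralizer ((pCore p G : Subgroup G) : Set G) ≤ pCore p G →
    ∀ x ∈ powCenter e (P : Subgroup G),
      x ∈ Subgroup.centralizer
        ((Subgroup.normalizer ((wsub W (P : Subgroup G) : Subgroup G) : Set G) : Subgroup G) : Set G) →
      x ∈ Subgroup.center G

/-- A subgroup central in the system lies in the centre of `S`. -/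
theorem isCentral_le_centerS {Ω : Type*} [Group Ω] {S : Subgroup Ω} {F : FusionSystem S}
    {Q : Subgroup Ω} (hQ : F.IsCentral Q) : Q ≤ S ⊓ Subgroup.centralizer (S : Set Ω) := by
  intro z hz
  refine ⟨hQ.1 hz, Subgroup.mem_centralizer_iff.mpr fun s hs => ?_⟩
  have h1 : conjHom S s ∈ F.Hom S := F.conj_mem le_rfl hs
  have h2 := isCentral_fixes hQ h1 ⟨z, hQ.1 hz⟩ hz
  have h3 : s * z * s⁻¹ = z := h2
  calc s * z = (s * z * s⁻¹) * s := by group
    _ = z * s := by rw [h3]

variable {W : ∀ (Q : Type u) [Group Q], Subgroup Q} {p : ℕ} [Fact p.Prime]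

theorem modelCenter_of_group (hW : Cfsg.IsCharPFunctor.{u} p W)
    (hWZ : ∀ (Q : Type u) [Group Q] [Finite Q], IsPGroup p Q → Subgroup.center Q ≤ W Q)
    {e : ℕ} (hGC : GroupCenter p e W) : ModelCenter p e W := by
  intro Ω _ S _ hS E G _ ι hG N hN x hx
  obtain ⟨hxp, hxN⟩ := hx
  haveI := hG.1
  have hreal := hG.2.1
  obtain ⟨Sy, hSy⟩ := hG.2.2.1
  have hcen := hG.2.2.2
  have hxZ : x ∈ S ⊓ Subgroup.centralizer (S : Set Ω) := powCenter_le e S hxp
  have hxS : x ∈ S := hxZ.1
  have hWnS : normalizerIn S (wsub W S) ≤ S := inf_le_left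
  haveI : Finite ↥(normalizerIn S (wsub W S)) :=
    Finite.of_injective (Subgroup.inclusion hWnS) (Subgroup.inclusion_injective hWnS)
  have hNc : N.IsCentral N.center := isCentral_center N
  -- (1) the image of `x` lies in `A_e(Sy)`
  have h1 : ext1 ι x ∈ powCenter e (Sy : Subgroup G) := by
    have hle : Subgroup.closure ((fun z => z ^ e) ''
        ((S ⊓ Subgroup.centralizer (S : Set Ω) : Subgroup Ω) : Set Ω)) ≤
        pullback ι (powCenter e (Sy : Subgroup G)) := by
      rw [Subgroup.closure_le]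
      rintro _ ⟨z, hz, rfl⟩
      refine mem_pullback_iff.mpr ⟨Subgroup.pow_mem _ hz.1 e, ?_⟩
      have h2 : ext1 ι (z ^ e) = (ext1 ι z) ^ e := by
        rw [ext1_of_mem ι hz.1, ext1_of_mem ι (Subgroup.pow_mem _ hz.1 e), ← map_pow]
        rfl
      rw [h2]
      apply Subgroup.subset_closure
      refine ⟨ext1 ι z, ⟨?_, ?_⟩, rfl⟩
      · show ext1 ι z ∈ (Sy : Subgroup G)
        rw [hSy]
        exact ext1_mem_range ι hz.1
      · apply Subgroup.mem_centralizer_iff.mpr
        intro g hg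
        have hg' : g ∈ ι.range := by rw [← hSy]; exact hg
        obtain ⟨s, rfl⟩ := hg'
        rw [ext1_of_mem ι hz.1, ← map_mul, ← map_mul]
        congr 1
        apply Subtype.ext
        exact (Subgroup.mem_centralizer_iff.mp hz.2) s s.2
    exact (mem_pullback_iff.mp (hle hxp)).2
  -- (2) the image of `x` centralizes `N_G(W(Sy))`
  have hxW : x ∈ wsub W S := center_le_wsub hWZ S hS hxZ
  have h2 : ext1 ι x ∈ Subgroup.centralizer
      ((Subgroup.normalizer ((wsub W (Sy : Subgroup G) : Subgroup G) : Set G) : Subgroup G) : Set G) := by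
    apply Subgroup.mem_centralizer_iff.mpr
    intro u hu
    have hconj : ∀ z ∈ wsub W S, u * ext1 ι z * u⁻¹ ∈ ι.range := by
      intro z hz
      have h6 := ext1_mem_wsub hW hS hreal.1 hSy hz
      have h7 := (Subgroup.mem_normalizer_iff.mp hu _).mp h6
      rw [← hSy]
      exact wsub_le W _ h7
    obtain ⟨φ, hφ, hφu⟩ := exists_conj_normalizerHom hW hS hreal hSy hu le_rfl (wsub_le W S) hconj
    have hφN : φ ∈ N.Hom (wsub W S) := by rw [hN]; exact hφ
    have h8 := isCentral_fixes hNc hφN ⟨x, hxW⟩ hxN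
    have h9 := hφu ⟨x, hxW⟩
    rw [h8] at h9
    have h10 : ext1 ι x = u * ext1 ι x * u⁻¹ := h9
    calc u * ext1 ι x = (u * ext1 ι x * u⁻¹) * u := by group
      _ = ext1 ι x * u := by rw [← h10]
  have h3 : ext1 ι x ∈ Subgroup.center G := hGC G Sy hcen _ h1 h2
  -- (3) `x` is central in `E`
  have hzx : Subgroup.zpowers x ≤ pullback ι (Subgroup.center G) := by
    rw [Subgroup.zpowers_le]
    exact mem_pullback_iff.mpr ⟨hxS, h3⟩
  have hzS : Subgroup.zpowers x ≤ S := by
    rw [Subgroup.zpowers_le]; exact hxS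
  have hc : E.IsCentral (Subgroup.zpowers x) := by
    refine ⟨hzS, fun P φ hφ => ?_⟩
    obtain ⟨hPS, hφS, g, hg⟩ := (realized_hom_iff hreal φ).mp hφ
    have hP'S : P ⊔ Subgroup.zpowers x ≤ S := sup_le hPS hzS
    have hK : P ⊔ Subgroup.zpowers x ≤
        pullback ι (ι.range.comap (MulAut.conj g).toMonoidHom) := by
      apply sup_le
      · intro y hy
        refine mem_pullback_iff.mpr ⟨hPS hy, ?_⟩
        rw [Subgroup.mem_comap]
        show g * ext1 ι y * g⁻¹ ∈ ι.range
        rw [← hg ⟨y, hy⟩]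
        exact ext1_mem_range ι (hφS _)
      · intro y hy
        have h4 := mem_pullback_iff.mp (hzx hy)
        refine mem_pullback_iff.mpr ⟨h4.1, ?_⟩
        rw [Subgroup.mem_comap]
        show g * ext1 ι y * g⁻¹ ∈ ι.range
        have h5 : g * ext1 ι y * g⁻¹ = ext1 ι y := by
          rw [Subgroup.mem_center_iff.mp h4.2 g, mul_inv_cancel_right]
        rw [h5]
        exact ext1_mem_range ι h4.1
    have hconj : ∀ y ∈ P ⊔ Subgroup.zpowers x, g * ext1 ι y * g⁻¹ ∈ ι.range := by
      intro y hy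
      exact (mem_pullback_iff.mp (hK hy)).2
    obtain ⟨ψ, hψ, hψg⟩ := exists_conj_hom hreal g hP'S hconj
    refine ⟨ψ, hψ, fun y => ?_, fun z => ?_⟩
    · apply ext1_inj hreal.1 ((E.le_of_mem hψ).2 _) (hφS y)
      rw [hψg, hg y]
      rfl
    · apply ext1_inj hreal.1 ((E.le_of_mem hψ).2 _) (hzS z.2)
      rw [hψg]
      have h4 := mem_pullback_iff.mp (hzx z.2)
      show g * ext1 ι (z : Ω) * g⁻¹ = ext1 ι (z : Ω)
      rw [Subgroup.mem_center_iff.mp h4.2 g, mul_inv_cancel_right]
  exact le_center hc (Subgroup.mem_zpowers x)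

/-- **Control of weak closure of elements, local-to-global.** -/
theorem center_le (hW : Cfsg.IsCharPFunctor.{u} p W)
    (hWZ : ∀ (Q : Type u) [Group Q] [Finite Q], IsPGroup p Q → Subgroup.center Q ≤ W Q)
    {e : ℕ} (hGC : GroupCenter p e W) {Ω : Type u} [Group Ω]
    {S : Subgroup Ω} [Finite S] (hS : IsPGroup p S) {F : FusionSystem S} (hF : F.IsSaturated p)
    (N : FusionSystem (normalizerIn S (wsub W S))) (hN : F.IsNormalizerSystem (wsub W S) N) :
    powCenter e S ⊓ N.center ≤ F.center :=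
  center_aux hW hWZ e (modelCenter_of_group hW hWZ hGC) _ Ω S rfl hS F hF N hN

/-- The centre of `F` lies in the centre of `N_F(W(S))`. -/
theorem center_le_center_nsys (hW : Cfsg.IsCharPFunctor.{u} p W)
    (hWZ : ∀ (Q : Type u) [Group Q] [Finite Q], IsPGroup p Q → Subgroup.center Q ≤ W Q)
    {Ω : Type u} [Group Ω] {S : Subgroup Ω} [Finite S] (hS : IsPGroup p S) {F : FusionSystem S}
    (N : FusionSystem (normalizerIn S (wsub W S))) (hN : F.IsNormalizerSystem (wsub W S) N) :
    F.center ≤ N.center := by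
  have hc : F.IsCentral F.center := isCentral_center F
  haveI := finite_wsub (W := W) S
  apply le_center
  apply central_nsys (wsub_le W S) hN
    ((isCentral_le_centerS hc).trans (center_le_wsub hWZ S hS))
  intro Q φ hφ x hx
  exact isCentral_fixes hc hφ.1 x hx

end Cfsg.Agent.Lib.Helper27.LG2
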