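import Mathlib
import Cfsg.Agent.Lib.Helper27.LG2CenterModel
import Cfsg.Agent.S1974

set_option autoImplicit false

/-! The group-theoretic hypothesis of the local-to-global theorem on control of weak closure of
elements for `e = p`, from the existence of quadratic elements outside `O_p` (via the weak closure
theorem for conjugacy functors). -/

namespace Cfsg.Agent.Lib.Helper27.LG2

open Cfsg Cfsg.FusionSystem Cfsg.Agent.Lib.Helper27 Cfsg.Agent.Lib.Helper27.LG Cfsg.Agent.H26

universe u

variable {W : ∀ (Q : Type u) [Group Q], Subgroup Q} {p : ℕ} [Fact p.Prime]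

/-- The functor on subgroups of `G` induced by `W` is a conjugacy functor. -/
theorem isConjugacyFunctor_wsub (hW : Cfsg.IsCharPFunctor.{u} p W) (G : Type u) [Group G] [Finite G] :
    Cfsg.IsConjugacyFunctor p (fun P : Subgroup G => wsub W P) := by
  intro P hP
  refine ⟨wsub_le W P, fun hP1 => wsub_ne_bot hW P hP hP1, fun g => ?_⟩
  have hinj : Function.Injective ((MulAut.conj g).toMonoidHom.comp P.subtype) := by
    intro a b hab
    apply Subtype.ext
    exact (MulAut.conj g).injective hab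
  have hT : P.map (MulAut.conj g).toMonoidHom = ((MulAut.conj g).toMonoidHom.comp P.subtype).range := by
    rw [MonoidHom.range_eq_map, ← Subgroup.map_map, ← MonoidHom.range_eq_map, Subgroup.range_subtype]
  have h1 := map_wsub hW hP hinj hT
  show wsub W (P.map (MulAut.conj g).toMonoidHom) = (wsub W P).map (MulAut.conj g).toMonoidHom
  rw [← h1]
  unfold wsub
  rw [Subgroup.map_map]

/-- The image in `G` of `Z(O_p(H))`. -/
theorem map_center_pCore {G : Type*} [Group G] (H : Subgroup G) :
    ((Subgroup.center ↥(pCore p ↥H)).map (pCore p ↥H).subtype).map H.subtype =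
      pCoreOf p H ⊓ Subgroup.centralizer ((pCoreOf p H : Subgroup G) : Set G) := by
  unfold pCoreOf
  ext x
  constructor
  · rintro ⟨a, ⟨c, hc, rfl⟩, rfl⟩
    refine ⟨⟨c, c.2, rfl⟩, Subgroup.mem_centralizer_iff.mpr ?_⟩
    rintro _ ⟨m, hm, rfl⟩
    have h1 := Subgroup.mem_center_iff.mp hc ⟨m, hm⟩
    have h2 := congrArg (fun w : ↥(pCore p ↥H) => ((w : ↥H) : G)) h1
    exact h2
  · rintro ⟨⟨k, hk, rfl⟩, hxc⟩
    refine ⟨k, ⟨⟨k, hk⟩, ?_, rfl⟩, rfl⟩
    rw [SetLike.mem_coe, Subgroup.mem_center_iff]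
    intro m
    apply Subtype.ext
    apply Subtype.ext
    have h1 := (Subgroup.mem_centralizer_iff.mp hxc) ((m : ↥H) : G) ⟨m, m.2, rfl⟩
    exact h1

theorem groupCenter_of_quadratic (hW : Cfsg.IsCharPFunctor.{u} p W)
    (hWZ : ∀ (Q : Type u) [Group Q] [Finite Q], IsPGroup p Q → Subgroup.center Q ≤ W Q)
    (hq : ∀ (G : Type u) [Group G] [Finite G] (P : Sylow p G),
      ¬ (wsub W (P : Subgroup G)).Normal →
      ∃ g : G, g ∈ (P : Subgroup G) ∧ g ∉ pCore p G ∧
        ⁅⁅(Subgroup.center ↥(pCore p G)).map (pCore p G).subtype, Subgroup.zpowers g⁆,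
          Subgroup.zpowers g⁆ = ⊥) : GroupCenter p p W := by
  intro G _ _ Sy hcen x hx hxc
  have hloc : ∀ (H T : Subgroup G), T ≤ H → IsPGroup p ↥T → ¬ p ∣ T.relIndex H →
      ¬ H ≤ Subgroup.normalizer ((wsub W T : Subgroup G) : Set G) →
      ∃ g : G, g ∈ T ∧ g ∉ pCoreOf p H ∧
        ⁅⁅pCoreOf p H ⊓ Subgroup.centralizer ((pCoreOf p H : Subgroup G) : Set G),
          Subgroup.zpowers g⁆, Subgroup.zpowers g⁆ = ⊥ := by
    intro H T hTH hTp hidx hnn
    have hTHp : IsPGroup p ↥(T.subgroupOf H) :=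
      hTp.of_injective (Subgroup.subgroupOfEquivOfLe hTH).toMonoidHom
        (Subgroup.subgroupOfEquivOfLe hTH).injective
    obtain ⟨PH, hPH⟩ : ∃ PH : Sylow p ↥H, (PH : Subgroup ↥H) = T.subgroupOf H :=
      ⟨hTHp.toSylow hidx, IsPGroup.toSylow_coe hTHp hidx⟩
    -- the functor subgroup of `PH`, mapped to `G`
    have hmap : (wsub W (PH : Subgroup ↥H)).map H.subtype = wsub W T := by
      have hinj : Function.Injective (H.subtype.comp (PH : Subgroup ↥H).subtype) := by
        intro a b hab
        apply Subtype.ext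
        apply Subtype.ext
        exact hab
      have hT : T = (H.subtype.comp (PH : Subgroup ↥H).subtype).range := by
        rw [MonoidHom.range_eq_map, ← Subgroup.map_map, ← MonoidHom.range_eq_map,
          Subgroup.range_subtype, hPH]
        ext y
        constructor
        · intro hy
          exact ⟨⟨y, hTH hy⟩, Subgroup.mem_subgroupOf.mpr hy, rfl⟩
        · rintro ⟨z, hz, rfl⟩
          exact Subgroup.mem_subgroupOf.mp hz
      have h1 := map_wsub hW PH.2 hinj hT
      rw [← h1]
      unfold wsub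
      rw [Subgroup.map_map]
    have hnn' : ¬ (wsub W (PH : Subgroup ↥H)).Normal := by
      intro hnorm
      apply hnn
      intro h hh
      haveI := finite_wsub (W := W) T
      apply mem_normalizer_of_conj_mem
      intro y hy
      rw [← hmap] at hy ⊢
      obtain ⟨y', hy', rfl⟩ := hy
      exact ⟨⟨h, hh⟩ * y' * ⟨h, hh⟩⁻¹, hnorm.conj_mem y' hy' ⟨h, hh⟩, rfl⟩
    obtain ⟨g, hgP, hgQ, hgq⟩ := hq ↥H PH hnn'
    refine ⟨(g : G), ?_, ?_, ?_⟩
    · have : g ∈ T.subgroupOf H := by rw [← hPH]; exact hgP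
      exact Subgroup.mem_subgroupOf.mp this
    · rintro ⟨y, hy, hyg⟩
      have : y = g := Subtype.ext hyg
      rw [this] at hy
      exact hgQ hy
    · rw [← map_center_pCore H]
      have hz : Subgroup.zpowers (g : G) = (Subgroup.zpowers g).map H.subtype := by
        rw [MonoidHom.map_zpowers]
        rfl
      rw [hz, ← Subgroup.map_commutator, ← Subgroup.map_commutator, hgq, Subgroup.map_bot]
  have hWZ' : ∀ P : Subgroup G, IsPGroup p ↥P →
      P ⊓ Subgroup.centralizer ((P : Subgroup G) : Set G) ≤ wsub W P :=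
    fun P hP => center_le_wsub hWZ P hP
  have key := (Cfsg.Agent.S1974.result Sy (fun P : Subgroup G => wsub W P)
    (isConjugacyFunctor_wsub hW G) hWZ' hloc (powCenter p (Sy : Subgroup G)) rfl).1
  have hle : pCore p G ≤ (Sy : Subgroup G) := Cfsg.Agent.Lib.Helper16.pCore_le_sylow Sy
  have hxZ := powCenter_le p (Sy : Subgroup G) hx
  have hxQ : x ∈ pCore p G := hcen (Subgroup.centralizer_le hle hxZ.2)
  haveI hQn : (pCore p G).Normal := Cfsg.Agent.Lib.Helper16.pCore_normal
  rw [Subgroup.mem_center_iff]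
  intro g
  have h1 := key x ⟨hx, hxc⟩ g (hle (hQn.conj_mem x hxQ g))
  calc g * x = (g * x * g⁻¹) * g := by group
    _ = x * g := by rw [h1]

end Cfsg.Agent.Lib.Helper27.LG2
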