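import Cfsg.Agent.Lib.Helper27.ZassGD
import Cfsg.Agent.Lib.Helper13.ZassB

/-!
FO-G of helper5's Zassenhaus farm-out (helper27): a finite "line/block" geometry satisfying
J0–J6 has exactly 10 points.  Proof: the collinearity graph is strongly regular with parameters
`(v, 3λ, λ+1, 4)`; helper13's `srg_lambda_eq_two` forces `λ = 2`, and counting gives `v = 10`.
-/

set_option autoImplicit false

namespace Cfsg.Agent.Lib.Helper27.ZassG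

/-- FO-G -/
theorem card_eq_ten {Pt : Type*} [Fintype Pt] [DecidableEq Pt] (J : Pt → Pt → Finset Pt)
    (hJ0 : ∀ p q, p ∈ J p q ∧ q ∈ J p q) (hJsymm : ∀ p q, J p q = J q p)
    (hJ1 : ∀ p q, p ≠ q → (J p q).card = 4 ∨ (J p q).card = 10)
    (hJ2 : ∀ p q, p ≠ q → (J p q).card = 4 → ∀ r ∈ J p q, ∀ s ∈ J p q, r ≠ s → J r s = J p q)
    (hJ3 : ∀ p q, p ≠ q → (J p q).card = 10 → ∃ Φ : Pt → Finset (Fin 5),
      (∀ r ∈ J p q, (Φ r).card = 2) ∧ Set.InjOn Φ (J p q : Set Pt) ∧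
      ∀ r ∈ J p q, ∀ s ∈ J p q, r ≠ s →
        (Disjoint (Φ r) (Φ s) → J r s = J p q) ∧
        (∀ i, Φ r ∩ Φ s = {i} → J r s = (J p q).filter (fun u => i ∈ Φ u)))
    (hJ4 : ∀ p q, p ≠ q → (J p q).card = 10 → ∀ r,
      (r = p ∨ (r ≠ p ∧ (J r p).card = 4)) → (r = q ∨ (r ≠ q ∧ (J r q).card = 4)) → r ∈ J p q)
    (hJ5 : ∀ p q r, p ≠ q → p ≠ r → q ≠ r → (J p q).card = 4 → (J p r).card = 4 →
      (J q r).card = 4 → r ∉ J p q →
      ∃ u v, u ≠ v ∧ (J u v).card = 10 ∧ p ∈ J u v ∧ q ∈ J u v ∧ r ∈ J u v)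
    (hJ6 : ∃ p q, p ≠ q ∧ (J p q).card = 10) : Fintype.card Pt = 10 := by
  haveI : Nonempty Pt := by
    obtain ⟨p, _⟩ := hJ6
    exact ⟨p⟩
  exact card_eq_ten_of_srg
    (fun A hA lam hlam h01 hdiag hsq =>
      Cfsg.Agent.Lib.Helper13.ZassB.srg_lambda_eq_two A hA lam hlam h01 hdiag hsq)
    ⟨hJ0, hJsymm, hJ1, hJ2, hJ3, hJ4, hJ5⟩ hJ6

end Cfsg.Agent.Lib.Helper27.ZassG
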