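import Mathlib
import Cfsg.Prelude.Def_GeometricClasses
import Cfsg.Agent.Lib.Helper13.TensorNM
import Cfsg.Agent.Lib.Helper13.TensorF3

/-!
# Even orthogonal rows, pieces X1 / X2 (`O₂^± ⊗ O_s`): the skew element `Z = J ⊗ 1` (helper27)

For a symmetric `2 × 2` Gram matrix `G` put `J = adj(G) S`, `S = !![0, 1; -1, 0]`.  Then `J * J = -det G`, `G J` is skew and
every similitude `A` of `G` commutes or anticommutes with `J`.  Transported to `F^n` through a tensor structure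
`f ~ f₁ ⊗ f₂` this gives a matrix `Z` with `Z * Z = δ • 1`, skew-adjoint for `f`, not scalar, and commuting or anticommuting
with every element of the tensor product subgroup preserving `f`.
-/

set_option autoImplicit false
set_option linter.unusedSectionVars false
set_option linter.unusedVariables false

namespace Cfsg.Agent.Lib.Helper27.OEPlusXZ

open scoped Matrix Kronecker
open Cfsg Cfsg.Geo Cfsg.Agent.Lib.Helper13.TNM

variable {F : Type*} [Field F]

/-! ### `2 × 2` algebra -/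

/-- `S = !![0, 1; -1, 0]` -/
def SS (F : Type*) [Field F] : Matrix (Fin 2) (Fin 2) F := !![0, 1; -1, 0]

/-- `J = adj(G) S` for a symmetric `G` -/
def JJ (G : Matrix (Fin 2) (Fin 2) F) : Matrix (Fin 2) (Fin 2) F := !![G 0 1, G 1 1; - G 0 0, - G 0 1]

theorem JJ_mul_self (G : Matrix (Fin 2) (Fin 2) F) :
    JJ G * JJ G = (G 0 1 * G 0 1 - G 0 0 * G 1 1) • (1 : Matrix (Fin 2) (Fin 2) F) := by
  ext i j
  fin_cases i <;> fin_cases j <;> simp [JJ, Matrix.mul_apply, Fin.sum_univ_two] <;> ring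

theorem G_mul_JJ (G : Matrix (Fin 2) (Fin 2) F) (hs : G 1 0 = G 0 1) :
    G * JJ G = (G 0 0 * G 1 1 - G 0 1 * G 0 1) • SS F := by
  ext i j
  fin_cases i <;> fin_cases j <;> simp [JJ, SS, Matrix.mul_apply, Fin.sum_univ_two, hs] <;> ring

theorem JJ_transpose_mul (G : Matrix (Fin 2) (Fin 2) F) (hs : G 1 0 = G 0 1) :
    (JJ G)ᵀ * G = - (G * JJ G) := by
  ext i j
  fin_cases i <;> fin_cases j <;> simp [JJ, Matrix.mul_apply, Fin.sum_univ_two, hs] <;> ring

theorem adjugate_transpose_mul_SS (A : Matrix (Fin 2) (Fin 2) F) : (A.adjugate)ᵀ * SS F = SS F * A := by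
  rw [Matrix.adjugate_fin_two]
  ext i j
  fin_cases i <;> fin_cases j <;> simp [SS, Matrix.mul_apply, Fin.sum_univ_two]

theorem det_fin_two' (G : Matrix (Fin 2) (Fin 2) F) (hs : G 1 0 = G 0 1) :
    G.det = G 0 0 * G 1 1 - G 0 1 * G 0 1 := by
  rw [Matrix.det_fin_two, hs]

/-- a similitude of `G` commutes or anticommutes with `J` -/
theorem comm_or_anticomm (G A : Matrix (Fin 2) (Fin 2) F) (hs : G 1 0 = G 0 1) (hd : G.det ≠ 0)
    (hA : A.det ≠ 0) (lam : F) (h : Aᵀ * G * A = lam • G) :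
    A * JJ G = JJ G * A ∨ A * JJ G = -(JJ G * A) := by
  have hd' : G 0 0 * G 1 1 - G 0 1 * G 0 1 = G.det := (det_fin_two' G hs).symm
  -- `det A • (G A) = lam • adj(A)ᵀ G`
  have h1 : A.det • (G * A) = lam • ((A.adjugate)ᵀ * G) := by
    have e1 : (A.adjugate)ᵀ * Aᵀ = A.det • (1 : Matrix (Fin 2) (Fin 2) F) := by
      rw [← Matrix.transpose_mul, Matrix.mul_adjugate, Matrix.transpose_smul, Matrix.transpose_one]
    have e2 : (A.adjugate)ᵀ * (Aᵀ * G * A) = A.det • (G * A) := by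
      rw [Matrix.mul_assoc Aᵀ, ← Matrix.mul_assoc (A.adjugate)ᵀ, e1, Matrix.smul_mul, Matrix.one_mul]
    rw [← e2, h, Matrix.mul_smul]
  -- `G (det A • A J - lam • J A) = 0`
  have h2 : G * (A.det • (A * JJ G) - lam • (JJ G * A)) = 0 := by
    have e3 : G * (A.det • (A * JJ G)) = lam • (G * JJ G * A) := by
      rw [Matrix.mul_smul, ← Matrix.mul_assoc, ← Matrix.smul_mul, h1, Matrix.smul_mul, Matrix.mul_assoc _ G,
        G_mul_JJ G hs, Matrix.mul_smul, adjugate_transpose_mul_SS, Matrix.smul_mul]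
    rw [Matrix.mul_sub, e3, Matrix.mul_smul, Matrix.mul_assoc, sub_self]
  have hG : IsUnit G.det := isUnit_iff_ne_zero.mpr hd
  have h3 : A.det • (A * JJ G) = lam • (JJ G * A) := by
    have := congrArg (fun X => G⁻¹ * X) h2
    simp only [Matrix.mul_zero] at this
    rw [← Matrix.mul_assoc, Matrix.nonsing_inv_mul G hG, Matrix.one_mul] at this
    exact sub_eq_zero.mp this
  -- `lam ^ 2 = det A ^ 2`
  have h4 : (lam - A.det) * (lam + A.det) = 0 := by
    have := congrArg Matrix.det h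
    rw [Matrix.det_mul, Matrix.det_mul, Matrix.det_transpose, Matrix.det_smul, Fintype.card_fin] at this
    have h5 : (A.det * A.det - lam * lam) * G.det = 0 := by linear_combination this
    rcases mul_eq_zero.mp h5 with h6 | h6
    · linear_combination -h6
    · exact absurd h6 hd
  rcases mul_eq_zero.mp h4 with h5 | h5
  · left
    have h6 : lam = A.det := sub_eq_zero.mp h5
    rw [h6] at h3
    have := congrArg (fun X => (A.det)⁻¹ • X) h3
    simpa [smul_smul, inv_mul_cancel₀ hA] using this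
  · right
    have h6 : lam = - A.det := eq_neg_of_add_eq_zero_left h5
    rw [h6, neg_smul] at h3
    have := congrArg (fun X => (A.det)⁻¹ • X) h3
    simpa [smul_smul, inv_mul_cancel₀ hA] using this

/-! ### transport of matrices -/

section transport
variable {ι κ : Type} [Fintype ι] [DecidableEq ι] [Fintype κ] [DecidableEq κ]

/-- transport of a matrix in tensor coordinates to `F^ι` -/
def conjM (e : ι ≃ κ) (P : GL ι F) (X : Matrix κ κ F) : Matrix ι ι F :=
  (P : Matrix ι ι F) * X.submatrix e e * ((P⁻¹ : GL ι F) : Matrix ι ι F)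

theorem conjM_mul (e : ι ≃ κ) (P : GL ι F) (X Y : Matrix κ κ F) :
    conjM e P (X * Y) = conjM e P X * conjM e P Y := by
  unfold conjM
  have h1 : ((P⁻¹ : GL ι F) : Matrix ι ι F) * (P : Matrix ι ι F) = 1 := by
    rw [← Units.val_mul, inv_mul_cancel, Units.val_one]
  have h2 : (X * Y).submatrix e e = X.submatrix e e * Y.submatrix e e := by
    rw [Matrix.submatrix_mul_equiv]
  rw [h2]
  simp only [Matrix.mul_assoc]
  rw [← Matrix.mul_assoc ((P⁻¹ : GL ι F) : Matrix ι ι F) (P : Matrix ι ι F), h1, Matrix.one_mul]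

theorem conjM_smul (e : ι ≃ κ) (P : GL ι F) (c : F) (X : Matrix κ κ F) :
    conjM e P (c • X) = c • conjM e P X := by
  unfold conjM
  have h : (c • X).submatrix e e = c • X.submatrix e e := rfl
  rw [h, Matrix.mul_smul, Matrix.smul_mul]

theorem conjM_neg (e : ι ≃ κ) (P : GL ι F) (X : Matrix κ κ F) :
    conjM e P (- X) = - conjM e P X := by
  unfold conjM
  have h : (- X).submatrix e e = - X.submatrix e e := rfl
  rw [h, Matrix.mul_neg, Matrix.neg_mul]

theorem conjM_one (e : ι ≃ κ) (P : GL ι F) : conjM e P (1 : Matrix κ κ F) = 1 := by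
  unfold conjM
  rw [Matrix.submatrix_one_equiv, Matrix.mul_one, ← Units.val_mul, mul_inv_cancel, Units.val_one]

theorem conjM_mulVec (e : ι ≃ κ) (P : GL ι F) (X : Matrix κ κ F) (x : κ → F) :
    conjM e P X *ᵥ TT e P x = TT e P (X *ᵥ x) := by
  unfold conjM TT
  rw [Matrix.mulVec_mulVec]
  have h1 : (P : Matrix ι ι F) * X.submatrix e e * ((P⁻¹ : GL ι F) : Matrix ι ι F) * (P : Matrix ι ι F) =
      (P : Matrix ι ι F) * X.submatrix e e := by
    rw [Matrix.mul_assoc, ← Units.val_mul, inv_mul_cancel, Units.val_one, Matrix.mul_one]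
  rw [h1, ← Matrix.mulVec_mulVec, submatrix_mulVec_comp]

theorem psi_val' (e : ι ≃ κ) (P : GL ι F) (M : GL κ F) :
    ((psi e P M : GL ι F) : Matrix ι ι F) = conjM e P (M : Matrix κ κ F) := psi_val e P M

theorem conjM_injective (e : ι ≃ κ) (P : GL ι F) : Function.Injective (conjM (F := F) e P) := by
  intro X Y h
  apply Matrix.toLin'.injective
  apply LinearMap.ext
  intro x
  rw [Matrix.toLin'_apply, Matrix.toLin'_apply]
  apply TT_injective e P
  rw [← conjM_mulVec, ← conjM_mulVec, h]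

end transport

/-! ### forms given by Gram matrices -/

section gram
variable {κ : Type} [Fintype κ] [DecidableEq κ]

theorem formOfGram_skew (G X : Matrix κ κ F) (h : Xᵀ * G = -(G * X)) (x y : κ → F) :
    formOfGram id G (X *ᵥ x) y = - formOfGram id G x (X *ᵥ y) := by
  rw [formOfGram_eq, formOfGram_eq, Function.id_comp, Function.id_comp]
  rw [← Matrix.vecMul_transpose X x, ← Matrix.dotProduct_mulVec, Matrix.mulVec_mulVec, h, Matrix.neg_mulVec,
    dotProduct_neg, Matrix.mulVec_mulVec]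

end gram

/-! ### the element `Z = J ⊗ 1` -/

section zz
variable {ι : Type} [Fintype ι] [DecidableEq ι] {s : ℕ}

theorem neg_kronecker' {m n : Type} (A : Matrix m m F) (B : Matrix n n F) : (-A) ⊗ₖ B = -(A ⊗ₖ B) := by
  ext ⟨i, j⟩ ⟨i', j'⟩
  simp [Matrix.kroneckerMap_apply]

/-- the transported element `Z = J ⊗ 1` -/
def ZZ (e : ι ≃ Fin 2 × Fin s) (P : GL ι F) (G₁ : Matrix (Fin 2) (Fin 2) F) : Matrix ι ι F :=
  conjM e P (JJ G₁ ⊗ₖ (1 : Matrix (Fin s) (Fin s) F))

theorem ZZ_mul_self (e : ι ≃ Fin 2 × Fin s) (P : GL ι F) (G₁ : Matrix (Fin 2) (Fin 2) F) :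
    ZZ e P G₁ * ZZ e P G₁ = (G₁ 0 1 * G₁ 0 1 - G₁ 0 0 * G₁ 1 1) • (1 : Matrix ι ι F) := by
  unfold ZZ
  rw [← conjM_mul, ← Matrix.mul_kronecker_mul, JJ_mul_self, Matrix.one_mul, Matrix.smul_kronecker,
    Matrix.one_kronecker_one, conjM_smul, conjM_one]

theorem ZZ_skew {f : (ι → F) → (ι → F) → F} (e : ι ≃ Fin 2 × Fin s) (P : GL ι F)
    (G₁ : Matrix (Fin 2) (Fin 2) F) (G₂ : Matrix (Fin s) (Fin s) F) (hs : G₁ 1 0 = G₁ 0 1) (c : F)
    (hT : ∀ x y, f (TT e P x) (TT e P y) = c * formOfGram id (G₁ ⊗ₖ G₂) x y) (u v : ι → F) :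
    f (ZZ e P G₁ *ᵥ u) v = - f u (ZZ e P G₁ *ᵥ v) := by
  obtain ⟨x, rfl⟩ := TT_surj e P u
  obtain ⟨y, rfl⟩ := TT_surj e P v
  unfold ZZ
  have hk : (JJ G₁ ⊗ₖ (1 : Matrix (Fin s) (Fin s) F))ᵀ * (G₁ ⊗ₖ G₂) =
      -((G₁ ⊗ₖ G₂) * (JJ G₁ ⊗ₖ (1 : Matrix (Fin s) (Fin s) F))) := by
    rw [← Matrix.kroneckerMap_transpose, Matrix.transpose_one, ← Matrix.mul_kronecker_mul,
      ← Matrix.mul_kronecker_mul, JJ_transpose_mul G₁ hs, Matrix.one_mul, Matrix.mul_one, neg_kronecker']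
  rw [conjM_mulVec, conjM_mulVec, hT, hT, formOfGram_skew _ _ hk, mul_neg]

theorem ZZ_ne_smul (hs0 : 0 < s) (e : ι ≃ Fin 2 × Fin s) (P : GL ι F) (G₁ : Matrix (Fin 2) (Fin 2) F)
    (hs : G₁ 1 0 = G₁ 0 1) (h2 : (2 : F) ≠ 0) (hd : G₁.det ≠ 0) (c : F) : ZZ e P G₁ ≠ c • (1 : Matrix ι ι F) := by
  intro h
  have h1 : conjM e P (JJ G₁ ⊗ₖ (1 : Matrix (Fin s) (Fin s) F)) = conjM e P (c • 1) := by
    rw [conjM_smul, conjM_one]; exact h
  have h3 := conjM_injective e P h1
  have key : ∀ i i' : Fin 2, JJ G₁ i i' = c * (1 : Matrix (Fin 2) (Fin 2) F) i i' := by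
    intro i i'
    have := congrFun (congrFun h3 (i, ⟨0, hs0⟩)) (i', ⟨0, hs0⟩)
    rw [Matrix.kroneckerMap_apply, Matrix.one_apply_eq, mul_one, Matrix.smul_apply, smul_eq_mul] at this
    rw [this, Matrix.one_apply, Matrix.one_apply]
    by_cases hii : i = i'
    · rw [if_pos hii, if_pos (by rw [hii])]
    · rw [if_neg hii, if_neg (by intro h'; exact hii (congrArg Prod.fst h'))]
  have k01 := key 0 1
  have k10 := key 1 0
  have k00 := key 0 0
  have k11 := key 1 1
  simp [JJ] at k01 k10 k00 k11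
  apply hd
  rw [det_fin_two' G₁ hs, k01, k10]
  have h4 : (2 : F) * G₁ 0 1 = 0 := by linear_combination k00 - k11
  rcases mul_eq_zero.mp h4 with h5 | h5
  · exact absurd h5 h2
  · rw [h5]; ring

theorem ZZ_comm (hs0 : 0 < s) {f : (ι → F) → (ι → F) → F} (e : ι ≃ Fin 2 × Fin s) (P : GL ι F)
    (G₁ : Matrix (Fin 2) (Fin 2) F) (G₂ : Matrix (Fin s) (Fin s) F) (hs : G₁ 1 0 = G₁ 0 1) (hd : G₁.det ≠ 0)
    (hG₂ : G₂ ≠ 0) (c : F) (hc : c ≠ 0)
    (hT : ∀ x y, f (TT e P x) (TT e P y) = c * formOfGram id (G₁ ⊗ₖ G₂) x y)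
    (g : GL ι F) (hg : g ∈ tensorProductSubgroup 2 s e P)
    (hgf : g ∈ Cfsg.preserving (Units.coeHom (Matrix ι ι F)) f) :
    (g : Matrix ι ι F) * ZZ e P G₁ = ZZ e P G₁ * (g : Matrix ι ι F) ∨
      (g : Matrix ι ι F) * ZZ e P G₁ = -(ZZ e P G₁ * (g : Matrix ι ι F)) := by
  rw [tps_eq] at hg
  obtain ⟨M, hM, rfl⟩ := Subgroup.mem_map.mp hg
  obtain ⟨A, B, rfl⟩ := eq_kronGL_of_mem hM
  have h1 := (psi_mem_preserving_iff e P hc hT _).mp hgf
  have h2 := (preserves_iff (id : F → F) rfl rfl (fun _ _ => rfl) (fun _ _ => rfl) _ _).mp h1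
  rw [Matrix.map_id, kronGL_val, ← Matrix.kroneckerMap_transpose, ← Matrix.mul_kronecker_mul,
    ← Matrix.mul_kronecker_mul] at h2
  obtain ⟨j, j', hjj⟩ : ∃ j j', G₂ j j' ≠ 0 := by
    by_contra hno
    push Not at hno
    apply hG₂
    ext j j'
    exact hno j j'
  obtain ⟨t, ht⟩ : ∃ t : F, t = ((B : Matrix (Fin s) (Fin s) F)ᵀ * G₂ * (B : Matrix (Fin s) (Fin s) F)) j j' :=
    ⟨_, rfl⟩
  have h3 : ∀ i i', ((A : Matrix (Fin 2) (Fin 2) F)ᵀ * G₁ * (A : Matrix (Fin 2) (Fin 2) F)) i i' * t =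
      G₁ i i' * G₂ j j' := by
    intro i i'
    have := congrFun (congrFun h2 (i, j)) (i', j')
    rw [Matrix.kroneckerMap_apply, Matrix.kroneckerMap_apply] at this
    rw [ht]; exact this
  have ht0 : t ≠ 0 := by
    intro h0
    apply hd
    have hz : G₁ = 0 := by
      ext i i'
      have := h3 i i'
      rw [h0, mul_zero] at this
      exact (mul_eq_zero.mp this.symm).resolve_right hjj
    rw [hz]; simp [Matrix.det_fin_two]
  have h4 : (A : Matrix (Fin 2) (Fin 2) F)ᵀ * G₁ * (A : Matrix (Fin 2) (Fin 2) F) = (G₂ j j' / t) • G₁ := by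
    ext i i'
    rw [Matrix.smul_apply, smul_eq_mul]
    have := h3 i i'
    field_simp
    linear_combination this
  have hAdet : (A : Matrix (Fin 2) (Fin 2) F).det ≠ 0 := (Matrix.isUnits_det_units A).ne_zero
  rw [psi_val', kronGL_val]
  unfold ZZ
  rcases comm_or_anticomm G₁ (A : Matrix (Fin 2) (Fin 2) F) hs hd hAdet _ h4 with h5 | h5
  · left
    rw [← conjM_mul, ← conjM_mul, ← Matrix.mul_kronecker_mul, ← Matrix.mul_kronecker_mul, h5, Matrix.mul_one,
      Matrix.one_mul]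
  · right
    rw [← conjM_mul, ← conjM_mul, ← conjM_neg, ← Matrix.mul_kronecker_mul, ← Matrix.mul_kronecker_mul, h5,
      Matrix.mul_one, Matrix.one_mul, neg_kronecker']

end zz

end Cfsg.Agent.Lib.Helper27.OEPlusXZ
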