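import Mathlib
import Cfsg.Prelude.Def_GeometricClasses
import Cfsg.Agent.Lib.Helper1.OEDefs
import Cfsg.Agent.Lib.Helper13.TensorNM
import Cfsg.Agent.Lib.Helper13.TensorF3
import Cfsg.Agent.Lib.Helper13.OrthMax
import Cfsg.Agent.Lib.Helper13.OrthParab
import Cfsg.Agent.Lib.Helper2.S5662SpT6c
import Cfsg.Agent.Lib.Helper27.SpCorBasic
import Cfsg.Agent.Lib.Helper27.OEPlusXZ

/-!
# Even orthogonal PLUS rows (S5847 / S5871), pieces X1, X2, X5, X6 of `notes/OEPlusSkel_helper13.lean.txt` (helper27)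

* `tensor_two_isotropic`  (X1) : `O₂⁺ ⊗ O_s` stabilises a pair of totally singular `s`-spaces;
* `tensor_two_anisotropic` (X2) : `O₂⁻ ⊗ O_s` normalises a quadratic field of unitary type;
* `pure_zero_of_odd` (X5), `even_of_symplectic` (X6).

X1 and X2 have the extra hypothesis `0 < s` (for `s = 0`, `n = 0` the stubs are false: no `IsMDecomposition 0`, no field
subalgebra of degree two of the zero algebra).

Both come from the element `Z = J ⊗ 1` of `OEPlusXZ` (`Z * Z = δ • 1`, `δ = -det G₁`, skew-adjoint, commuting or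
anticommuting with the group): `δ` a square: eigenspaces of `Z`; `δ` a non-square: the field `F[Z]` (helper2's `KZ`).
-/

set_option autoImplicit false
set_option linter.unusedSectionVars false
set_option linter.unusedVariables false

namespace Cfsg.Agent.Lib.Helper27.OEPlusX

open Matrix Cfsg Cfsg.Geo Module
open scoped Kronecker
open Cfsg.Agent.Lib.Helper1.OE
open Cfsg.Agent.Lib.Helper13.TNM
open Cfsg.Agent.Lib.Helper27.OEPlusXZ
open Cfsg.Agent.Lib.Helper2.S5662SpT6c (KZ mem_KZ isFieldSubalgebra_KZ isAdjointClosedFor_KZ le_normalizer_KZ eig mem_eig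
  eig_inf eig_sup eig_totallySingular map_eig_le finrank_map_gl mulVec_form)

variable {F : Type*} [Field F]

/-! ### generalities -/

section general
variable {n : ℕ} {Q : (Fin n → F) → F}

theorem polar_self (hQ : IsNondegenerateQuadraticForm Q) (w : Fin n → F) : QuadraticMap.polar Q w w = 2 * Q w := by
  unfold QuadraticMap.polar
  have h : w + w = (2 : F) • w := (two_smul F w).symm
  rw [h, hQ.smul]
  ring

theorem isometry_preserves_polar (g : GL (Fin n) F) (hg : g ∈ isometryGroup F Q) :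
    g ∈ Cfsg.preserving (Units.coeHom (Matrix (Fin n) (Fin n) F)) (QuadraticMap.polar Q) := by
  have hI : ∀ u, Q ((g : Matrix (Fin n) (Fin n) F) *ᵥ u) = Q u := fun u => hg u u
  intro u v
  show QuadraticMap.polar Q ((g : Matrix (Fin n) (Fin n) F) *ᵥ u) ((g : Matrix (Fin n) (Fin n) F) *ᵥ v) = _
  unfold QuadraticMap.polar
  rw [← Matrix.mulVec_add, hI, hI, hI]

/-- a square root of `Z * Z`: the eigenspaces form a pair of totally singular halves -/
theorem eig_pair (hQ : IsNondegenerateQuadraticForm Q) (h2 : (2 : F) ≠ 0) (s : ℕ) (hn : n = 2 * s) (hs0 : 0 < s)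
    (Z : Matrix (Fin n) (Fin n) F) (γ : F) (hγ : γ ≠ 0) (hZ : Z * Z = (γ * γ) • 1)
    (hskew : ∀ u v, QuadraticMap.polar Q (Z *ᵥ u) v = - QuadraticMap.polar Q u (Z *ᵥ v))
    (H : Subgroup (GL (Fin n) F))
    (hnorm : ∀ h ∈ H, (h : Matrix (Fin n) (Fin n) F) * Z = Z * (h : Matrix (Fin n) (Fin n) F) ∨
        (h : Matrix (Fin n) (Fin n) F) * Z = -(Z * (h : Matrix (Fin n) (Fin n) F))) :
    ∃ D : Fin 2 → Submodule F (Fin n → F), IsMDecomposition s D ∧ (∀ i, IsTotallySingularQuad Q (D i)) ∧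
      H ≤ decompositionStabilizer D := by
  have hb := hQ.polar_bilinear
  have h2γ : (2 : F) * γ ≠ 0 := mul_ne_zero h2 hγ
  have h2γ' : (2 : F) * (-γ) ≠ 0 := mul_ne_zero h2 (neg_ne_zero.mpr hγ)
  have hinf := eig_inf Z γ h2γ
  have hsup := eig_sup Z γ hZ h2γ
  have hts : ∀ c : F, (2 : F) * c ≠ 0 → IsTotallySingularQuad Q (eig Z c) := by
    intro c hc w hw
    have h1 := eig_totallySingular hb Z hskew c hc w hw w hw
    rw [polar_self hQ] at h1
    exact (mul_eq_zero.mp h1).resolve_left h2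
  have hle : ∀ W : Submodule F (Fin n → F), IsTotallySingularQuad Q W → 2 * finrank F W ≤ n := by
    intro W hW
    have := Cfsg.Agent.Lib.Helper13.ts_two_mul_finrank_le (Q := Cfsg.Agent.Lib.Helper13.toQF Q hQ)
      (Cfsg.Agent.Lib.Helper13.toQF_nondegenerate Q hQ) W hW
    rwa [Fintype.card_fin] at this
  have hsum : finrank F (eig Z γ) + finrank F (eig Z (-γ)) = n := by
    have h1 := Submodule.finrank_sup_add_finrank_inf_eq (eig Z γ) (eig Z (-γ))
    rw [hsup, hinf, finrank_top, finrank_bot, Module.finrank_fintype_fun_eq_card, Fintype.card_fin] at h1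
    omega
  have ha := hle _ (hts γ h2γ)
  have hb' := hle _ (hts (-γ) h2γ')
  have hfa : finrank F (eig Z γ) = s := by omega
  have hfb : finrank F (eig Z (-γ)) = s := by omega
  refine ⟨![eig Z γ, eig Z (-γ)], ⟨le_refl 2, hs0, ?_, ?_, ?_⟩, ?_, ?_⟩
  · intro i
    fin_cases i
    · exact hfa
    · exact hfb
  · rw [iSupIndep_pair (i := (0 : Fin 2)) (j := 1) (by decide) (by intro k; fin_cases k <;> simp)]
    exact disjoint_iff.mpr hinf
  · rw [eq_top_iff, ← hsup]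
    exact sup_le (le_iSup (![eig Z γ, eig Z (-γ)]) 0) (le_iSup (![eig Z γ, eig Z (-γ)]) 1)
  · intro i
    fin_cases i
    · exact hts γ h2γ
    · exact hts (-γ) h2γ'
  · intro h hh
    rcases hnorm h hh with hc | hc
    · refine ⟨1, fun i => ?_⟩
      have hc' : (h : Matrix (Fin n) (Fin n) F) * Z = (1 : F) • (Z * (h : Matrix (Fin n) (Fin n) F)) := by
        rw [one_smul]; exact hc
      fin_cases i
      · have hle := map_eig_le Z h 1 hc' (by ring) γ
        rw [one_mul] at hle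
        exact Submodule.eq_of_le_of_finrank_eq hle (finrank_map_gl h _)
      · have hle := map_eig_le Z h 1 hc' (by ring) (-γ)
        rw [one_mul] at hle
        exact Submodule.eq_of_le_of_finrank_eq hle (finrank_map_gl h _)
    · refine ⟨Equiv.swap 0 1, fun i => ?_⟩
      have hc' : (h : Matrix (Fin n) (Fin n) F) * Z = (-1 : F) • (Z * (h : Matrix (Fin n) (Fin n) F)) := by
        rw [neg_smul, one_smul]; exact hc
      fin_cases i
      · have hle := map_eig_le Z h (-1) hc' (by ring) γ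
        rw [neg_one_mul] at hle
        exact Submodule.eq_of_le_of_finrank_eq hle ((finrank_map_gl h _).trans (hfa.trans hfb.symm))
      · have hle := map_eig_le Z h (-1) hc' (by ring) (-γ)
        rw [neg_one_mul, neg_neg] at hle
        exact Submodule.eq_of_le_of_finrank_eq hle ((finrank_map_gl h _).trans (hfb.trans hfa.symm))

/-- no square root of `Z * Z`: the field `F[Z]` is of unitary type -/
theorem unitary_field (hQ : IsNondegenerateQuadraticForm Q) (h2 : (2 : F) ≠ 0)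
    (Z : Matrix (Fin n) (Fin n) F) (δ : F) (hZ : Z * Z = δ • 1) (hsq : ¬ ∃ γ : F, γ * γ = δ)
    (hskew : ∀ u v, QuadraticMap.polar Q (Z *ᵥ u) v = - QuadraticMap.polar Q u (Z *ᵥ v))
    (hns : ∀ c : F, Z ≠ c • 1) (H : Subgroup (GL (Fin n) F))
    (hnorm : ∀ h ∈ H, (h : Matrix (Fin n) (Fin n) F) * Z = Z * (h : Matrix (Fin n) (Fin n) F) ∨
        (h : Matrix (Fin n) (Fin n) F) * Z = -(Z * (h : Matrix (Fin n) (Fin n) F))) :
    ∃ K : Subalgebra F (Matrix (Fin n) (Fin n) F), IsFieldSubalgebra 2 K ∧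
      IsAdjointClosedFor (QuadraticMap.polar Q) K ∧ ¬ IsSelfAdjointFor (QuadraticMap.polar Q) K ∧
      (∀ k ∈ K, ∃ c : F, ∀ v : Fin n → F, Q (k *ᵥ v) = c * Q v) ∧ H ≤ subalgebraNormalizer K := by
  have hb := hQ.polar_bilinear
  refine ⟨KZ Z δ hZ, isFieldSubalgebra_KZ Z δ hZ hns hsq, isAdjointClosedFor_KZ hb Z δ hZ hskew, ?_, ?_,
    le_normalizer_KZ Z δ hZ H hnorm⟩
  · intro hsa
    have hZmem : Z ∈ KZ Z δ hZ := ⟨0, 1, by simp⟩
    have h0 : ∀ u v, QuadraticMap.polar Q (Z *ᵥ u) v = 0 := by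
      intro u v
      have h1 := hsa Z hZmem u v
      have h3 := hskew u v
      have h4 : (2 : F) * QuadraticMap.polar Q (Z *ᵥ u) v = 0 := by linear_combination h1 + h3
      exact (mul_eq_zero.mp h4).resolve_left h2
    apply hns 0
    rw [zero_smul]
    apply Matrix.toLin'.injective
    apply LinearMap.ext
    intro u
    rw [Matrix.toLin'_apply, map_zero, LinearMap.zero_apply]
    by_contra hne
    obtain ⟨x, hx⟩ := (hQ.nondegenerate _ hne).2
    exact hx (h0 u x)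
  · rintro _ ⟨α, β, rfl⟩
    refine ⟨α * α - δ * (β * β), fun v => ?_⟩
    have hZZ : Z *ᵥ (Z *ᵥ v) = δ • v := by
      rw [Matrix.mulVec_mulVec, hZ, Matrix.smul_mulVec, Matrix.one_mulVec]
    have h1 : QuadraticMap.polar Q (Z *ᵥ v) v = - QuadraticMap.polar Q v (Z *ᵥ v) := hskew v v
    have h3 : QuadraticMap.polar Q (Z *ᵥ v) (Z *ᵥ v) = - (δ * QuadraticMap.polar Q v v) := by
      rw [hskew v (Z *ᵥ v), hZZ, hb.smul_right]
    have h4 : QuadraticMap.polar Q ((α • (1 : Matrix (Fin n) (Fin n) F) + β • Z) *ᵥ v)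
        ((α • (1 : Matrix (Fin n) (Fin n) F) + β • Z) *ᵥ v) =
        (α * α - δ * (β * β)) * QuadraticMap.polar Q v v := by
      rw [mulVec_form]
      simp only [hb.add_left, hb.add_right, hb.smul_left, hb.smul_right]
      rw [h1, h3]
      ring
    rw [polar_self hQ, polar_self hQ] at h4
    have h5 : (2 : F) * (Q ((α • (1 : Matrix (Fin n) (Fin n) F) + β • Z) *ᵥ v) - (α * α - δ * (β * β)) * Q v) = 0 := by
      linear_combination h4
    exact sub_eq_zero.mp ((mul_eq_zero.mp h5).resolve_left h2)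

end general

/-! ### the binary form `f₁` -/

section binary

theorem binary_diag {f₁ : (Fin 2 → F) → (Fin 2 → F) → F} (hf₁ : IsSymmetricForm f₁) (x : Fin 2 → F) :
    f₁ x x = gramMatrix f₁ 0 0 * x 0 * x 0 + 2 * gramMatrix f₁ 0 1 * x 0 * x 1 + gramMatrix f₁ 1 1 * x 1 * x 1 := by
  have hs : gramMatrix f₁ 1 0 = gramMatrix f₁ 0 1 := hf₁.symm _ _
  rw [bilin_eq_formOfGram hf₁.bilinear]
  unfold formOfGram
  simp only [Fin.sum_univ_two, id]
  rw [hs]
  ring

theorem binary_det_ne_zero {f₁ : (Fin 2 → F) → (Fin 2 → F) → F} (hf₁ : IsSymmetricForm f₁) :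
    (gramMatrix f₁).det ≠ 0 := by
  intro h
  obtain ⟨v, hv, hGv⟩ := Matrix.exists_mulVec_eq_zero_iff.mpr h
  obtain ⟨x, hx⟩ := (hf₁.nondegenerate v hv).1
  apply hx
  rw [bilin_eq_formOfGram hf₁.bilinear, formOfGram_eq, Function.id_comp, hGv, dotProduct_zero]

theorem gram_ne_zero {s : ℕ} (hs0 : 0 < s) {f₂ : (Fin s → F) → (Fin s → F) → F} (hf₂ : IsSymmetricForm f₂) :
    gramMatrix f₂ ≠ 0 := by
  intro h
  have hv : (Pi.single (⟨0, hs0⟩ : Fin s) (1 : F) : Fin s → F) ≠ 0 := by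
    intro h'
    have := congrFun h' ⟨0, hs0⟩
    simp at this
  obtain ⟨x, hx⟩ := (hf₂.nondegenerate _ hv).1
  apply hx
  rw [bilin_eq_formOfGram hf₂.bilinear, h, formOfGram_eq, Matrix.zero_mulVec, dotProduct_zero]

/-- an isotropic vector gives a square root of `δ = -det G₁` -/
theorem exists_sqrt_of_isotropic {f₁ : (Fin 2 → F) → (Fin 2 → F) → F} (hf₁ : IsSymmetricForm f₁)
    (hiso : ∃ x, x ≠ 0 ∧ f₁ x x = 0) :
    ∃ γ : F, γ * γ = gramMatrix f₁ 0 1 * gramMatrix f₁ 0 1 - gramMatrix f₁ 0 0 * gramMatrix f₁ 1 1 := by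
  obtain ⟨x, hx0, hx⟩ := hiso
  rw [binary_diag hf₁] at hx
  by_cases h1 : x 1 = 0
  · have h0 : x 0 ≠ 0 := by
      intro h0
      apply hx0
      funext i
      fin_cases i
      · exact h0
      · exact h1
    rw [h1] at hx
    have h00 : gramMatrix f₁ 0 0 = 0 := by
      have : gramMatrix f₁ 0 0 * (x 0 * x 0) = 0 := by linear_combination hx
      exact (mul_eq_zero.mp this).resolve_right (mul_ne_zero h0 h0)
    exact ⟨gramMatrix f₁ 0 1, by rw [h00]; ring⟩
  · refine ⟨(gramMatrix f₁ 0 0 * x 0 + gramMatrix f₁ 0 1 * x 1) / x 1, ?_⟩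
    field_simp
    linear_combination gramMatrix f₁ 0 0 * hx

/-- a square root of `δ = -det G₁` gives an isotropic vector -/
theorem isotropic_of_sqrt {f₁ : (Fin 2 → F) → (Fin 2 → F) → F} (hf₁ : IsSymmetricForm f₁) (γ : F)
    (hγ : γ * γ = gramMatrix f₁ 0 1 * gramMatrix f₁ 0 1 - gramMatrix f₁ 0 0 * gramMatrix f₁ 1 1) :
    ∃ x, x ≠ 0 ∧ f₁ x x = 0 := by
  by_cases h00 : gramMatrix f₁ 0 0 = 0
  · refine ⟨![1, 0], ?_, ?_⟩
    · intro h
      have := congrFun h 0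
      simp at this
    · rw [binary_diag hf₁]
      simp [h00]
  · refine ⟨![γ - gramMatrix f₁ 0 1, gramMatrix f₁ 0 0], ?_, ?_⟩
    · intro h
      have := congrFun h 1
      simp at this
      exact h00 this
    · rw [binary_diag hf₁]
      simp only [Matrix.cons_val_zero, Matrix.cons_val_one]
      linear_combination gramMatrix f₁ 0 0 * hγ

end binary

/-! ### the pieces -/

variable [Fintype F] {n : ℕ} {Q : (Fin n → F) → F}

/-- common setup for X1 / X2 -/
theorem exists_skew_elt (hQ : IsNondegenerateQuadraticForm Q) (hodd : Odd (Fintype.card F)) {s : ℕ} (hs0 : 0 < s)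
    (e : Fin n ≃ Fin 2 × Fin s) (P : GL (Fin n) F) (f₁ : (Fin 2 → F) → (Fin 2 → F) → F)
    (f₂ : (Fin s → F) → (Fin s → F) → F) (hf₁ : IsSymmetricForm f₁) (hf₂ : IsSymmetricForm f₂)
    (hT : IsTensorFormStructure id (QuadraticMap.polar Q) f₁ f₂ e P) :
    ∃ Z : Matrix (Fin n) (Fin n) F,
      Z * Z = (gramMatrix f₁ 0 1 * gramMatrix f₁ 0 1 - gramMatrix f₁ 0 0 * gramMatrix f₁ 1 1) • 1 ∧
      (∀ u v, QuadraticMap.polar Q (Z *ᵥ u) v = - QuadraticMap.polar Q u (Z *ᵥ v)) ∧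
      (∀ c : F, Z ≠ c • 1) ∧
      (∀ h ∈ tensorProductSubgroup 2 s e P ⊓ isometryGroup F Q,
        (h : Matrix (Fin n) (Fin n) F) * Z = Z * (h : Matrix (Fin n) (Fin n) F) ∨
        (h : Matrix (Fin n) (Fin n) F) * Z = -(Z * (h : Matrix (Fin n) (Fin n) F))) := by
  have h2 : (2 : F) ≠ 0 := Cfsg.Agent.Lib.Helper2.S5662SpT6c.two_ne_zero_of_odd hodd
  obtain ⟨c, hc, hT⟩ := hT
  have hT' : ∀ x y, QuadraticMap.polar Q (TT e P x) (TT e P y) =
      c * formOfGram id (gramMatrix f₁ ⊗ₖ gramMatrix f₂) x y := hT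
  have hs : gramMatrix f₁ 1 0 = gramMatrix f₁ 0 1 := hf₁.symm _ _
  have hd := binary_det_ne_zero hf₁
  refine ⟨ZZ e P (gramMatrix f₁), ZZ_mul_self e P _, ZZ_skew e P _ _ hs c hT', ZZ_ne_smul hs0 e P _ hs h2 hd, ?_⟩
  intro h hh
  obtain ⟨hh1, hh2⟩ := Subgroup.mem_inf.mp hh
  exact ZZ_comm hs0 e P _ _ hs hd (gram_ne_zero hs0 hf₂) c hc hT' h hh1 (isometry_preserves_polar h hh2)

/-- **X1** : `O₂⁺ ⊗ O_s` stabilises the pair of totally singular subspaces `x ⊗ V₂`, `y ⊗ V₂` -/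
theorem tensor_two_isotropic (hQ : IsNondegenerateQuadraticForm Q) (hodd : Odd (Fintype.card F)) {s : ℕ}
    (hs0 : 0 < s)
    (e : Fin n ≃ Fin 2 × Fin s) (P : GL (Fin n) F) (f₁ : (Fin 2 → F) → (Fin 2 → F) → F)
    (f₂ : (Fin s → F) → (Fin s → F) → F) (hf₁ : IsSymmetricForm f₁) (hf₂ : IsSymmetricForm f₂)
    (hT : IsTensorFormStructure id (QuadraticMap.polar Q) f₁ f₂ e P) (hiso : ∃ x, x ≠ 0 ∧ f₁ x x = 0) :
    ∃ D : Fin 2 → Submodule F (Fin n → F), IsMDecomposition s D ∧ (∀ i, IsTotallySingularQuad Q (D i)) ∧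
      tensorProductSubgroup 2 s e P ⊓ isometryGroup F Q ≤ decompositionStabilizer D := by
  have h2 : (2 : F) ≠ 0 := Cfsg.Agent.Lib.Helper2.S5662SpT6c.two_ne_zero_of_odd hodd
  obtain ⟨Z, hZ, hskew, hns, hnorm⟩ := exists_skew_elt hQ hodd hs0 e P f₁ f₂ hf₁ hf₂ hT
  obtain ⟨γ, hγ⟩ := exists_sqrt_of_isotropic hf₁ hiso
  have hn : n = 2 * s := by
    have := Fintype.card_congr e
    simpa using this
  have hγ0 : γ ≠ 0 := by
    rintro rfl
    apply binary_det_ne_zero hf₁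
    rw [det_fin_two' _ (hf₁.symm _ _)]
    linear_combination hγ
  rw [← hγ] at hZ
  exact eig_pair hQ h2 s hn hs0 Z γ hγ0 hZ hskew _ hnorm

/-- **X2** : `O₂⁻ ⊗ O_s` normalises the quadratic field `F[SO₂⁻] ⊗ 1`, which is of unitary type -/
theorem tensor_two_anisotropic (hQ : IsNondegenerateQuadraticForm Q) (hodd : Odd (Fintype.card F)) {s : ℕ}
    (hs0 : 0 < s)
    (e : Fin n ≃ Fin 2 × Fin s) (P : GL (Fin n) F) (f₁ : (Fin 2 → F) → (Fin 2 → F) → F)
    (f₂ : (Fin s → F) → (Fin s → F) → F) (hf₁ : IsSymmetricForm f₁) (hf₂ : IsSymmetricForm f₂)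
    (hT : IsTensorFormStructure id (QuadraticMap.polar Q) f₁ f₂ e P) (haniso : ∀ x, f₁ x x = 0 → x = 0) :
    ∃ K : Subalgebra F (Matrix (Fin n) (Fin n) F), IsFieldSubalgebra 2 K ∧
      IsAdjointClosedFor (QuadraticMap.polar Q) K ∧ ¬ IsSelfAdjointFor (QuadraticMap.polar Q) K ∧
      (∀ k ∈ K, ∃ c : F, ∀ v : Fin n → F, Q (k *ᵥ v) = c * Q v) ∧
      tensorProductSubgroup 2 s e P ⊓ isometryGroup F Q ≤ subalgebraNormalizer K := by
  have h2 : (2 : F) ≠ 0 := Cfsg.Agent.Lib.Helper2.S5662SpT6c.two_ne_zero_of_odd hodd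
  obtain ⟨Z, hZ, hskew, hns, hnorm⟩ := exists_skew_elt hQ hodd hs0 e P f₁ f₂ hf₁ hf₂ hT
  have hsq : ¬ ∃ γ : F, γ * γ =
      gramMatrix f₁ 0 1 * gramMatrix f₁ 0 1 - gramMatrix f₁ 0 0 * gramMatrix f₁ 1 1 := by
    rintro ⟨γ, hγ⟩
    obtain ⟨x, hx0, hx⟩ := isotropic_of_sqrt hf₁ γ hγ
    exact hx0 (haniso x hx)
  exact unitary_field hQ h2 Z _ hZ hsq hskew hns _ hnorm

/-- the tensor form on pure tensors -/
theorem formOfGram_pure2 {n₁ n₂ : ℕ} (G₁ : Matrix (Fin n₁) (Fin n₁) F) (G₂ : Matrix (Fin n₂) (Fin n₂) F)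
    (x₁ y₁ : Fin n₁ → F) (x₂ y₂ : Fin n₂ → F) :
    formOfGram id (G₁ ⊗ₖ G₂) (pure2 x₁ x₂) (pure2 y₁ y₂) = formOfGram id G₁ x₁ y₁ * formOfGram id G₂ x₂ y₂ := by
  unfold formOfGram pure2
  simp only [Fintype.sum_prod_type, Matrix.kroneckerMap_apply, id]
  rw [Finset.sum_mul_sum]
  apply Finset.sum_congr rfl
  intro a _
  apply Finset.sum_congr rfl
  intro a' _
  rw [Finset.sum_mul_sum]
  apply Finset.sum_congr rfl
  intro b _
  apply Finset.sum_congr rfl
  intro b' _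
  ring

/-- **X5** : `q` odd, symplectic ⊗ symplectic : `Q` vanishes on the pure tensors -/
theorem pure_zero_of_odd (hQ : IsNondegenerateQuadraticForm Q) (hodd : Odd (Fintype.card F)) {n₁ n₂ : ℕ}
    (e : Fin n ≃ Fin n₁ × Fin n₂) (P : GL (Fin n) F) (f₁ : (Fin n₁ → F) → (Fin n₁ → F) → F)
    (f₂ : (Fin n₂ → F) → (Fin n₂ → F) → F) (hf₁ : IsSymplecticForm f₁) (hf₂ : IsSymplecticForm f₂)
    (hT : IsTensorFormStructure id (QuadraticMap.polar Q) f₁ f₂ e P) (x₁ : Fin n₁ → F) (x₂ : Fin n₂ → F) :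
    Q ((P : Matrix (Fin n) (Fin n) F) *ᵥ (pure2 x₁ x₂ ∘ e)) = 0 := by
  have h2 : (2 : F) ≠ 0 := Cfsg.Agent.Lib.Helper2.S5662SpT6c.two_ne_zero_of_odd hodd
  obtain ⟨c, hc, hT⟩ := hT
  have h1 := hT (pure2 x₁ x₂) (pure2 x₁ x₂)
  rw [polar_self hQ, formOfGram_pure2, ← bilin_eq_formOfGram hf₁.bilinear, hf₁.alternating, zero_mul, mul_zero] at h1
  exact (mul_eq_zero.mp h1).resolve_left h2

/-- **X6** : a symplectic form lives in even dimension -/
theorem even_of_symplectic {k : ℕ} (f : (Fin k → F) → (Fin k → F) → F) (hf : IsSymplecticForm f) : Even k :=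
  Cfsg.Agent.Lib.Helper27.SpCorBasic.even_of_symp f hf

end Cfsg.Agent.Lib.Helper27.OEPlusX
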