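import Mathlib
import Cfsg.Prelude.Def_GeometricClasses
import Cfsg.Agent.Lib.Helper16.TensDefs
import Cfsg.Agent.Lib.Helper3.SpTDefs
import Cfsg.Agent.Lib.Helper3.SpTL1a
import Cfsg.Agent.Lib.Helper3.SpTL1b

/-!
# Vocabulary for S5666, CORE B (helper27): `Sp_a ⊗ O_b < Sp_{ab}`, `q` odd, via the standard totally isotropic subspaces
`Lk k = U ⊗ k`, `k` SINGULAR in `W`

`V = (Fin a × Fin b → F) = U ⊗ W`, `U = F^a` with the alternating form `f₁ = bf J1` (`SympG J1`, helper3's `SpTDefs`),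
`W = F^b` with the SYMMETRIC form `f₂ = bf J2` (`SymG J2`); `B = f₁ ⊗ f₂ = bf (J1 ⊗ₖ J2)` is alternating on `V`.
Reused from helper3's `SpTDefs` / `SpTL1a` / `SpTL1b` (namespace `Cfsg.Agent.Lib.Helper3.SpT`) and helper16's `TensDefs`:
`bf`, `SympG`, `E J w w' : x ↦ f(x,w') w`, `adj`, `uni`, `rootU J1 h1 u c = t_u(c) ⊗ 1`, `Lk k = U ⊗ k`,
`Pk J2 k = U ⊗ k^⊥`, `InRad J2 k z`, `pur`, `ctr`, `hyp`, `act`, `img`, `kronGL`.

New here:
* `SymG J`   : `bf J` is symmetric and non-degenerate;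
* `IsoG J`   : the isometry group of `bf J` as a subgroup of `GL`;
* `siegM J2 k c = 1 + E c k - E k c - (f₂(c,c)/2) E k k` : the Siegel transformation
  `ρ_{k,c} : x ↦ x + f₂(x,k) c - f₂(x,c) k - (f₂(c,c)/2) f₂(x,k) k` of `O(W)` (`k` singular, `c ⊥ k`);
  `sieg J2 k c hk hkc = 1 ⊗ ρ_{k,c}` as an element of `GL (Fin a × Fin b) F`;
* `zS J2 α k hk = 1 + α ⊗ E_{k,k}` (`k` singular): the "long root elements" (centre of the unipotent radical of
  `Stab(U ⊗ k)`); an isometry iff `adj J1 α = -α`; `zS J2 (c • E J1 u u) k hk` is the symplectic transvection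
  `v ↦ v + c B(v, u ⊗ k) (u ⊗ k)`;
* `Over J1 J2 M` : `N0 ⊓ Sp(V) ≤ M ≤ Sp(V)`;
* `HypL J2 M`    : hypothesis (A_L): `m ∈ M`, `m (U ⊗ k') = U ⊗ k` with `k, k'` singular nonzero implies `m ∈ N0`.
-/

set_option autoImplicit false

namespace Cfsg.Agent.Lib.Helper27.SpOB

open Matrix Module
open scoped Kronecker
open Cfsg.Agent.Lib.Helper16.Tens
open Cfsg.Agent.Lib.Helper3.SpT

variable {F : Type*} [Field F]

section forms
variable {κ : Type} [Fintype κ]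

/-- a non-degenerate symmetric Gram matrix -/
structure SymG (J : Matrix κ κ F) : Prop where
  symm : ∀ x y, bf J x y = bf J y x
  nondeg : ∀ x, (∀ y, bf J x y = 0) → x = 0

variable [DecidableEq κ]

/-- the isometry group of `bf J` -/
def IsoG (J : Matrix κ κ F) : Subgroup (GL κ F) where
  carrier := {g | ∀ x y, bf J ((g : Matrix κ κ F) *ᵥ x) ((g : Matrix κ κ F) *ᵥ y) = bf J x y}
  mul_mem' := by
    intro g h hg hh x y
    rw [Units.val_mul, ← Matrix.mulVec_mulVec, ← Matrix.mulVec_mulVec, hg, hh]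
  one_mem' := by
    intro x y
    rw [Units.val_one, Matrix.one_mulVec, Matrix.one_mulVec]
  inv_mem' := by
    intro g hg x y
    have h := hg (((g⁻¹ : GL κ F) : Matrix κ κ F) *ᵥ x) (((g⁻¹ : GL κ F) : Matrix κ κ F) *ᵥ y)
    rw [Matrix.mulVec_mulVec, Matrix.mulVec_mulVec, ← Units.val_mul, mul_inv_cancel, Units.val_one,
      Matrix.one_mulVec, Matrix.one_mulVec] at h
    exact h.symm

theorem mem_IsoG_iff (J : Matrix κ κ F) (g : GL κ F) :
    g ∈ IsoG J ↔ ∀ x y, bf J ((g : Matrix κ κ F) *ᵥ x) ((g : Matrix κ κ F) *ᵥ y) = bf J x y := Iff.rfl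

/-- the matrix of the Siegel transformation `ρ_{k,c} : x ↦ x + f(x,k) c - f(x,c) k - (f(c,c)/2) f(x,k) k` -/
noncomputable def siegM (J : Matrix κ κ F) (k c : κ → F) : Matrix κ κ F :=
  1 + E J c k - E J k c - (bf J c c / 2) • E J k k

theorem siegM_mulVec (J : Matrix κ κ F) (k c x : κ → F) :
    siegM J k c *ᵥ x = x + bf J x k • c - bf J x c • k - (bf J c c / 2 * bf J x k) • k := by
  unfold siegM
  rw [Matrix.sub_mulVec, Matrix.sub_mulVec, Matrix.add_mulVec, Matrix.one_mulVec, Matrix.smul_mulVec,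
    E_mulVec, E_mulVec, E_mulVec, smul_smul]

theorem siegM_mul_neg (h2 : (2 : F) ≠ 0) {J : Matrix κ κ F} (hJ : SymG J) (k c : κ → F)
    (hk : bf J k k = 0) (hkc : bf J k c = 0) : siegM J k c * siegM J k (-c) = 1 := by
  apply mat_ext_mulVec
  intro x
  have hck : bf J c k = 0 := by rw [hJ.symm, hkc]
  rw [← Matrix.mulVec_mulVec, siegM_mulVec J k (-c), siegM_mulVec, Matrix.one_mulVec]
  simp only [bf_add_left, bf_sub_left, bf_smul_left, bf_neg_left, bf_neg_right, hk, hkc, hck, smul_neg, neg_neg]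
  have h2' : bf J c c = 2 * (bf J c c / 2) := by field_simp
  generalize bf J c c / 2 = t at h2' ⊢
  rw [h2']
  module

end forms

variable {a b : ℕ} (J1 : Matrix (Fin a) (Fin a) F) (J2 : Matrix (Fin b) (Fin b) F)

/-- `1 ⊗ ρ_{k,c}` -/
noncomputable def sieg (h2 : (2 : F) ≠ 0) (hJ2 : SymG J2) (k c : Fin b → F) (hk : bf J2 k k = 0)
    (hkc : bf J2 k c = 0) : GL (Fin a × Fin b) F where
  val := (1 : Matrix (Fin a) (Fin a) F) ⊗ₖ siegM J2 k c
  inv := (1 : Matrix (Fin a) (Fin a) F) ⊗ₖ siegM J2 k (-c)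
  val_inv := by
    rw [← Matrix.mul_kronecker_mul, one_mul, siegM_mul_neg h2 hJ2 k c hk hkc, Matrix.one_kronecker_one]
  inv_val := by
    have h := siegM_mul_neg h2 hJ2 k (-c) hk (by rw [bf_neg_right, hkc, neg_zero])
    rw [neg_neg] at h
    rw [← Matrix.mul_kronecker_mul, one_mul, h, Matrix.one_kronecker_one]

theorem sieg_val (h2 : (2 : F) ≠ 0) (hJ2 : SymG J2) (k c : Fin b → F) (hk : bf J2 k k = 0)
    (hkc : bf J2 k c = 0) :
    ((sieg (a := a) J2 h2 hJ2 k c hk hkc : GL (Fin a × Fin b) F) : Matrix (Fin a × Fin b) (Fin a × Fin b) F) =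
      (1 : Matrix (Fin a) (Fin a) F) ⊗ₖ siegM J2 k c := rfl

theorem sieg_inv_val (h2 : (2 : F) ≠ 0) (hJ2 : SymG J2) (k c : Fin b → F) (hk : bf J2 k k = 0)
    (hkc : bf J2 k c = 0) :
    (((sieg (a := a) J2 h2 hJ2 k c hk hkc)⁻¹ : GL (Fin a × Fin b) F) :
        Matrix (Fin a × Fin b) (Fin a × Fin b) F) =
      (1 : Matrix (Fin a) (Fin a) F) ⊗ₖ siegM J2 k (-c) := rfl

/-- `1 ⊗ ρ_{k,c}` on pure tensors -/
theorem act_sieg (h2 : (2 : F) ≠ 0) (hJ2 : SymG J2) (k c : Fin b → F) (hk : bf J2 k k = 0)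
    (hkc : bf J2 k c = 0) (u : Fin a → F) (x : Fin b → F) :
    act (sieg (a := a) J2 h2 hJ2 k c hk hkc) (pur u x) =
      pur u (x + bf J2 x k • c - bf J2 x c • k - (bf J2 c c / 2 * bf J2 x k) • k) := by
  rw [act_apply, sieg_val, kron_mulVec_pur, Matrix.one_mulVec, siegM_mulVec]

theorem zS_sq (α : Matrix (Fin a) (Fin a) F) (k : Fin b → F) (hk : bf J2 k k = 0) :
    (α ⊗ₖ E J2 k k) * (α ⊗ₖ E J2 k k) = 0 := by
  rw [← Matrix.mul_kronecker_mul, E_mul_E, hk]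
  simp

/-- the long root element `1 + α ⊗ E_{k,k}`, `k` singular -/
def zS (α : Matrix (Fin a) (Fin a) F) (k : Fin b → F) (hk : bf J2 k k = 0) : GL (Fin a × Fin b) F :=
  uni (α ⊗ₖ E J2 k k) (zS_sq J2 α k hk)

theorem zS_val (α : Matrix (Fin a) (Fin a) F) (k : Fin b → F) (hk : bf J2 k k = 0) :
    ((zS J2 α k hk : GL (Fin a × Fin b) F) : Matrix (Fin a × Fin b) (Fin a × Fin b) F) =
      1 + α ⊗ₖ E J2 k k := rfl

theorem zS_inv_val (α : Matrix (Fin a) (Fin a) F) (k : Fin b → F) (hk : bf J2 k k = 0) :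
    (((zS J2 α k hk)⁻¹ : GL (Fin a × Fin b) F) : Matrix (Fin a × Fin b) (Fin a × Fin b) F) =
      1 - α ⊗ₖ E J2 k k := rfl

/-- `zS α k : v ↦ v + (α (1 ⊗ f₂(·,k)) v) ⊗ k` -/
theorem act_zS (α : Matrix (Fin a) (Fin a) F) (k : Fin b → F) (hk : bf J2 k k = 0)
    (v : Fin a × Fin b → F) :
    act (zS J2 α k hk) v = v + pur (α *ᵥ ctr (J2 *ᵥ k) v) k := by
  rw [act_apply, zS_val, Matrix.add_mulVec, Matrix.one_mulVec, kron_E_mulVec]

/-- `N0 ⊓ Sp(V) ≤ M ≤ Sp(V)` -/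
structure Over (M : Subgroup (GL (Fin a × Fin b) F)) : Prop where
  le_Sp : M ≤ IsoG (J1 ⊗ₖ J2)
  kron_mem : ∀ g : GL (Fin a × Fin b) F, g ∈ Cfsg.Geo.kroneckerSubgroup a b F →
    g ∈ IsoG (J1 ⊗ₖ J2) → g ∈ M

/-- hypothesis (A_L): an element of `M` mapping a standard totally isotropic subspace `U ⊗ k'` to a standard one
`U ⊗ k` lies in `N0` -/
def HypL (M : Subgroup (GL (Fin a × Fin b) F)) : Prop :=
  ∀ m ∈ M, ∀ k k' : Fin b → F, k ≠ 0 → k' ≠ 0 → bf J2 k k = 0 → bf J2 k' k' = 0 →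
    img m (Lk (F := F) (a := a) k') = Lk k → m ∈ Cfsg.Geo.kroneckerSubgroup a b F

end Cfsg.Agent.Lib.Helper27.SpOB
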