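import Mathlib
import Cfsg.Agent.Lib.Helper27.SpOBDefs

/-!
# S5666 CORE B, piece B-ISO (helper27): Kronecker products of similitudes, the criterion on pure tensors,
`rootU ∈ Sp(V)`, `zS (c • E_{u,u}) k` is a transvection
-/

set_option autoImplicit false
set_option linter.unusedSectionVars false
set_option linter.unusedVariables false

namespace Cfsg.Agent.Lib.Helper27.S5666BISO

open Matrix Module
open scoped Kronecker commutatorElement
open Cfsg.Agent.Lib.Helper16.Tens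
open Cfsg.Agent.Lib.Helper23.S5637T3b (kronGL kronGL_val)
open Cfsg.Agent.Lib.Helper3.SpT
open Cfsg.Agent.Lib.Helper27.SpOB

variable {F : Type*} [Field F] {a b : ℕ} {J1 : Matrix (Fin a) (Fin a) F} {J2 : Matrix (Fin b) (Fin b) F}

/-- criterion: enough to check the form on pure tensors -/
theorem mem_IsoG_of_pur (g : GL (Fin a × Fin b) F)
    (h : ∀ (u u' : Fin a → F) (w w' : Fin b → F),
      bf (J1 ⊗ₖ J2) (act g (pur u w)) (act g (pur u' w')) = bf J1 u u' * bf J2 w w') :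
    g ∈ IsoG (J1 ⊗ₖ J2) := by
  rw [mem_IsoG_iff]
  intro x y
  change bf (J1 ⊗ₖ J2) (act g x) (act g y) = bf (J1 ⊗ₖ J2) x y
  refine pur_induction (p := fun x => bf (J1 ⊗ₖ J2) (act g x) (act g y) = bf (J1 ⊗ₖ J2) x y) ?_ ?_ ?_ x
  · simp
  · intro x x' hx hx'
    rw [map_add, bf_add_left, bf_add_left, hx, hx']
  · intro u w
    refine pur_induction (p := fun y => bf (J1 ⊗ₖ J2) (act g (pur u w)) (act g y) = bf (J1 ⊗ₖ J2) (pur u w) y)
      ?_ ?_ ?_ y
    · simp
    · intro y y' hy hy'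
      rw [map_add, bf_add_right, bf_add_right, hy, hy']
    · intro u' w'
      rw [h, bf_kron_pur]

theorem kron_mem_IsoG (A : GL (Fin a) F) (B : GL (Fin b) F) (ν : F) (hν : ν ≠ 0)
    (hA : ∀ x y, bf J1 ((A : Matrix (Fin a) (Fin a) F) *ᵥ x) ((A : Matrix (Fin a) (Fin a) F) *ᵥ y) = ν * bf J1 x y)
    (hB : ∀ x y, bf J2 ((B : Matrix (Fin b) (Fin b) F) *ᵥ x) ((B : Matrix (Fin b) (Fin b) F) *ᵥ y) = ν⁻¹ * bf J2 x y) :
    kronGL A B ∈ IsoG (J1 ⊗ₖ J2) := by
  apply mem_IsoG_of_pur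
  intro u u' w w'
  rw [act_apply, act_apply, kronGL_val, kron_mulVec_pur, kron_mulVec_pur, bf_kron_pur, hA, hB]
  field_simp

theorem rootU_mem_IsoG (h1 : SympG J1) (u : Fin a → F) (c : F) :
    rootU (b := b) J1 h1 u c ∈ IsoG (J1 ⊗ₖ J2) := by
  apply mem_IsoG_of_pur
  intro x x' w w'
  rw [act_rootU, act_rootU, bf_kron_pur]
  congr 1
  rw [bf_add_left, bf_add_right, bf_add_right, bf_smul_left, bf_smul_left, bf_smul_right, bf_smul_right,
    h1.alt u, h1.skew u x']
  ring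

/-- `zS (c • E_{u,u}) k` is the symplectic transvection with centre `u ⊗ k` -/
theorem zS_transv (u : Fin a → F) (k : Fin b → F) (hk : bf J2 k k = 0) (c : F) :
    ((zS J2 (c • E J1 u u) k hk : GL (Fin a × Fin b) F) : Matrix (Fin a × Fin b) (Fin a × Fin b) F) =
      1 + c • E (J1 ⊗ₖ J2) (pur u k) (pur u k) := by
  rw [zS_val]
  congr 1
  apply mat_ext_mulVec
  intro v
  rw [kron_E_mulVec, Matrix.smul_mulVec, E_mulVec, Matrix.smul_mulVec, E_mulVec, bf_kron_pur_right,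
    pur_smul_left, pur_smul_left]

end Cfsg.Agent.Lib.Helper27.S5666BISO
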