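import Mathlib
import Cfsg.Agent.Lib.Helper27.SpOBDefs
import Cfsg.Agent.Lib.Helper27.S5666BISO

/-!
# S5666 CORE B, piece B-SIEG (helper27): the Siegel elements `1 ⊗ ρ_{k,c}`
-/

set_option autoImplicit false
set_option linter.unusedSectionVars false
set_option linter.unusedVariables false

namespace Cfsg.Agent.Lib.Helper27.S5666BSIEG

open Matrix Module
open scoped Kronecker commutatorElement
open Cfsg.Agent.Lib.Helper16.Tens
open Cfsg.Agent.Lib.Helper23.S5637T3b (kronGL kronGL_val)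
open Cfsg.Agent.Lib.Helper3.SpT
open Cfsg.Agent.Lib.Helper27.SpOB
open Cfsg.Agent.Lib.Helper27.S5666BISO

variable {F : Type*} [Field F] {a b : ℕ} {J1 : Matrix (Fin a) (Fin a) F} {J2 : Matrix (Fin b) (Fin b) F}

theorem sieg_mem_kron (h2 : (2 : F) ≠ 0) (hJ2 : SymG J2) (k c : Fin b → F) (hk : bf J2 k k = 0)
    (hkc : bf J2 k c = 0) : sieg (a := a) J2 h2 hJ2 k c hk hkc ∈ Cfsg.Geo.kroneckerSubgroup a b F := by
  rw [mem_kron_iff]
  have h' := siegM_mul_neg h2 hJ2 k (-c) hk (by rw [bf_neg_right, hkc, neg_zero])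
  rw [neg_neg] at h'
  exact ⟨1, ⟨siegM J2 k c, siegM J2 k (-c), siegM_mul_neg h2 hJ2 k c hk hkc, h'⟩, rfl⟩

/-- `ρ_{k,c}` is an isometry of `W` -/
theorem bf_siegM (hJ2 : SymG J2) (k c : Fin b → F) (hk : bf J2 k k = 0) (hkc : bf J2 k c = 0)
    (h2 : (2 : F) ≠ 0) (x y : Fin b → F) : bf J2 (siegM J2 k c *ᵥ x) (siegM J2 k c *ᵥ y) = bf J2 x y := by
  have hck : bf J2 c k = 0 := by rw [hJ2.symm, hkc]
  rw [siegM_mulVec, siegM_mulVec]
  simp only [bf_add_left, bf_sub_left, bf_smul_left, bf_add_right, bf_sub_right, bf_smul_right, hk, hkc, hck]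
  have e1 : bf J2 k y = bf J2 y k := hJ2.symm _ _
  have e2 : bf J2 c y = bf J2 y c := hJ2.symm _ _
  rw [e1, e2]
  have h2' : bf J2 c c = 2 * (bf J2 c c / 2) := by field_simp
  generalize bf J2 c c / 2 = t at h2' ⊢
  rw [h2']
  ring

theorem sieg_mem_IsoG (h2 : (2 : F) ≠ 0) (hJ2 : SymG J2) (k c : Fin b → F) (hk : bf J2 k k = 0)
    (hkc : bf J2 k c = 0) : sieg (a := a) J2 h2 hJ2 k c hk hkc ∈ IsoG (J1 ⊗ₖ J2) := by
  apply mem_IsoG_of_pur
  intro u u' w w'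
  rw [act_apply, act_apply, sieg_val, kron_mulVec_pur, kron_mulVec_pur, Matrix.one_mulVec, Matrix.one_mulVec,
    bf_kron_pur, bf_siegM hJ2 k c hk hkc h2]

/-- the rows of `v` -/
theorem eq_sum_rows (v : Fin a × Fin b → F) :
    v = ∑ i : Fin a, pur (Pi.single i 1) (fun j => v (i, j)) := by
  funext ⟨i0, j⟩
  rw [Finset.sum_apply]
  simp only [pur_apply]
  rw [Finset.sum_eq_single i0]
  · simp
  · intro i _ hi
    simp [Ne.symm hi]
  · simp

theorem row_perp_of_mem_Pk (k : Fin b → F) (v : Fin a × Fin b → F) (hv : v ∈ Pk (a := a) J2 k) (i : Fin a) :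
    bf J2 (fun j => v (i, j)) k = 0 := by
  rw [mem_Pk_iff] at hv
  have := congrFun hv i
  rw [ctr_apply] at this
  exact this

/-- `U ⊗ k^⊥` is spanned by pure tensors -/
theorem Pk_induction (k : Fin b → F) {p : (Fin a × Fin b → F) → Prop} (h0 : p 0)
    (hadd : ∀ x y, p x → p y → p (x + y))
    (hpur : ∀ (u : Fin a → F) (w : Fin b → F), bf J2 w k = 0 → p (pur u w))
    (v : Fin a × Fin b → F) (hv : v ∈ Pk (a := a) J2 k) : p v := by
  rw [eq_sum_rows v]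
  classical
  apply Finset.sum_induction _ p hadd h0
  intro i _
  exact hpur _ _ (row_perp_of_mem_Pk k v hv i)

/-- on `U ⊗ k^⊥`: `s_c v = v - ((1 ⊗ f₂(·,c)) v) ⊗ k` -/
theorem act_sieg_of_mem_Pk (h2 : (2 : F) ≠ 0) (hJ2 : SymG J2) (k c : Fin b → F) (hk : bf J2 k k = 0)
    (hkc : bf J2 k c = 0) (v : Fin a × Fin b → F) (hvk : v ∈ Pk (a := a) J2 k) :
    act (sieg (a := a) J2 h2 hJ2 k c hk hkc) v = v - pur (ctr (J2 *ᵥ c) v) k := by
  refine Pk_induction (J2 := J2) k (p := fun v => act (sieg (a := a) J2 h2 hJ2 k c hk hkc) v =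
    v - pur (ctr (J2 *ᵥ c) v) k) ?_ ?_ ?_ v hvk
  · simp
  · intro x y hx hy
    rw [map_add, hx, hy, map_add, pur_add_left]
    abel
  · intro u w hw
    rw [act_sieg, ctr_J_pur, hw, pur_smul_left, ← pur_smul_right]
    simp only [zero_smul, mul_zero, add_zero, sub_zero]
    rw [pur_sub_right']
where
  pur_sub_right' {u : Fin a → F} {w : Fin b → F} : pur u (w - bf J2 w c • k) = pur u w - pur u (bf J2 w c • k) := by
    rw [sub_eq_add_neg, pur_add_right, pur_neg_right, ← sub_eq_add_neg]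

/-- `1 ⊗ ρ_{k,c}` fixes `U ⊗ ⟨k,c⟩^⊥` pointwise -/
theorem act_sieg_eq_self (h2 : (2 : F) ≠ 0) (hJ2 : SymG J2) (k c : Fin b → F) (hk : bf J2 k k = 0)
    (hkc : bf J2 k c = 0) (v : Fin a × Fin b → F) (hvk : v ∈ Pk (a := a) J2 k) (hvc : v ∈ Pk (a := a) J2 c) :
    act (sieg (a := a) J2 h2 hJ2 k c hk hkc) v = v := by
  rw [act_sieg_of_mem_Pk h2 hJ2 k c hk hkc v hvk]
  rw [mem_Pk_iff] at hvc
  rw [hvc, pur_zero_left, sub_zero]

theorem inRad_sieg (h2 : (2 : F) ≠ 0) (hJ2 : SymG J2) (k c : Fin b → F) (hk : bf J2 k k = 0)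
    (hkc : bf J2 k c = 0) : InRad J2 k (sieg (a := a) J2 h2 hJ2 k c hk hkc) := by
  constructor
  · intro x hx
    obtain ⟨u, rfl⟩ := (mem_Lk_iff k x).mp hx
    rw [act_sieg_of_mem_Pk h2 hJ2 k c hk hkc _ (pur_mem_Pk u hk), ctr_J_pur, hkc, zero_smul, pur_zero_left,
      sub_zero]
  · intro x hx
    rw [act_sieg_of_mem_Pk h2 hJ2 k c hk hkc x hx, sub_sub_cancel_left]
    exact (Lk (F := F) (a := a) k).neg_mem (pur_mem_Lk _ k)

/-- `(ρ_{k,c} - 1)² = -f₂(c,c) E_{k,k}` -/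
theorem siegM_sub_one_sq (h2 : (2 : F) ≠ 0) (hJ2 : SymG J2) (k c : Fin b → F) (hk : bf J2 k k = 0)
    (hkc : bf J2 k c = 0) :
    (siegM J2 k c - 1) * (siegM J2 k c - 1) = (-(bf J2 c c)) • E J2 k k := by
  have hck : bf J2 c k = 0 := by rw [hJ2.symm, hkc]
  apply mat_ext_mulVec
  intro x
  rw [← Matrix.mulVec_mulVec, Matrix.sub_mulVec, Matrix.one_mulVec, siegM_mulVec, Matrix.sub_mulVec,
    Matrix.one_mulVec, siegM_mulVec, Matrix.smul_mulVec, E_mulVec]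
  simp only [bf_add_left, bf_sub_left, bf_smul_left, hk, hkc, hck]
  have h2' : bf J2 c c = 2 * (bf J2 c c / 2) := by field_simp
  generalize bf J2 c c / 2 = t at h2' ⊢
  rw [h2']
  module

/-- `(s_c - 1)² = -f₂(c,c) (1 ⊗ E_{k,k})` -/
theorem sieg_sub_one_sq (h2 : (2 : F) ≠ 0) (hJ2 : SymG J2) (k c : Fin b → F) (hk : bf J2 k k = 0)
    (hkc : bf J2 k c = 0) :
    (((sieg (a := a) J2 h2 hJ2 k c hk hkc : GL (Fin a × Fin b) F) : Matrix (Fin a × Fin b) (Fin a × Fin b) F) - 1) *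
      (((sieg (a := a) J2 h2 hJ2 k c hk hkc : GL (Fin a × Fin b) F) : Matrix (Fin a × Fin b) (Fin a × Fin b) F) - 1) =
      (-(bf J2 c c)) • ((1 : Matrix (Fin a) (Fin a) F) ⊗ₖ E J2 k k) := by
  have h1 : ((sieg (a := a) J2 h2 hJ2 k c hk hkc : GL (Fin a × Fin b) F) :
      Matrix (Fin a × Fin b) (Fin a × Fin b) F) - 1 = (1 : Matrix (Fin a) (Fin a) F) ⊗ₖ (siegM J2 k c - 1) := by
    rw [sieg_val]
    ext ⟨i, j⟩ ⟨i', j'⟩
    simp only [Matrix.sub_apply, Matrix.kroneckerMap_apply, Matrix.one_apply, Prod.mk.injEq]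
    split_ifs <;> simp_all
  rw [h1, ← Matrix.mul_kronecker_mul, one_mul, siegM_sub_one_sq h2 hJ2 k c hk hkc, Matrix.kronecker_smul]

/-- `ρ_{k,c} = ρ_{k,c + t k}` -/
theorem siegM_add_smul (h2 : (2 : F) ≠ 0) (hJ2 : SymG J2) (k c : Fin b → F) (hk : bf J2 k k = 0)
    (hkc : bf J2 k c = 0) (t : F) : siegM J2 k (c + t • k) = siegM J2 k c := by
  have hck : bf J2 c k = 0 := by rw [hJ2.symm, hkc]
  apply mat_ext_mulVec
  intro x
  rw [siegM_mulVec, siegM_mulVec]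
  simp only [bf_add_left, bf_add_right, bf_smul_left, bf_smul_right, hk, hkc, hck]
  module

/-- `s_c = s_{c + t k}` -/
theorem sieg_add_smul (h2 : (2 : F) ≠ 0) (hJ2 : SymG J2) (k c : Fin b → F) (hk : bf J2 k k = 0)
    (hkc : bf J2 k c = 0) (t : F) (hkc' : bf J2 k (c + t • k) = 0) :
    sieg (a := a) J2 h2 hJ2 k (c + t • k) hk hkc' = sieg (a := a) J2 h2 hJ2 k c hk hkc := by
  apply Units.ext
  rw [sieg_val, sieg_val, siegM_add_smul h2 hJ2 k c hk hkc]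

end Cfsg.Agent.Lib.Helper27.S5666BSIEG
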