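import Cfsg.Agent.Lib.Helper21.SuzOP3
import Cfsg.Agent.Lib.Helper17.CountChain

/-!
# Stabiliser chains given by SCHREIER VECTORS (trees), certified by counting

A level is `(b, sv)`: base point and a packed table `sv` (`w` bits per entry): `look w sv x = 0` if `x`
is not in the basic orbit, `1` if `x = b`, and `c + 2` if `x` is the image of its parent
`look w (bwdT gens c) x` under the letter `c` (letters as in `Helper21.SuzOP3`: generator `c / 2`,
inverted if `c` is odd).  The transversal element of `x` is the product of the letters down the tree.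
-/

set_option autoImplicit false

namespace Cfsg.Agent.Lib.Helper27.TreeSift

open Cfsg.Agent.Lib.Helper28.BSGS Cfsg.Agent.Lib.Helper22.SuzOut MulAction

/-- a tree level: base point and Schreier vector table -/
abbrev TLevel := ℕ × ℕ

/-- transversal element of the point `x` (semantic; `fuel` bounds the depth) -/
def uT (n w : ℕ) (gens : List (ℕ × ℕ)) (sv : ℕ) : ℕ → ℕ → Equiv.Perm (Fin n)
  | 0, _ => 1
  | f + 1, x =>
    match look w sv x with
    | 0 => 1
    | 1 => 1
    | c + 2 => letterPerm n w gens c * uT n w gens sv f (look w (bwdT gens c) x)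

/-- the points of the basic orbit -/
def orbT (n w sv : ℕ) : List ℕ := (List.range n).filter fun x => !(Nat.beq (look w sv x) 0)

/-- the semantic level of a tree level -/
def semT (n w : ℕ) [NeZero n] (gens : List (ℕ × ℕ)) (fuel : ℕ) (lv : TLevel) :
    SLevel (Equiv.Perm (Fin n)) (Fin n) where
  b := pt n lv.1
  O := (orbT n w lv.2).map (pt n)
  u := fun x => uT n w gens lv.2 fuel x.val
  S' := []

/-- the semantic chain -/
def semTs (n w : ℕ) [NeZero n] (gens : List (ℕ × ℕ)) (fuel : ℕ) (levels : List TLevel) :
    List (SLevel (Equiv.Perm (Fin n)) (Fin n)) := levels.map (semT n w gens fuel)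

/-- the path from `x` to the root exists within `fuel` steps, ends in `b`, uses in-range letters that
fix all points of `prev`, and stays below `n` -/
noncomputable def walkOK (n w : ℕ) (gens : List (ℕ × ℕ)) (prev : List ℕ) (b sv : ℕ) (fuel : ℕ) :
    ℕ → Bool :=
  Nat.rec (motive := fun _ => ℕ → Bool) (fun _ => false)
    (fun _ ih x => Nat.casesOn (motive := fun _ => Bool) (look w sv x) false
      (fun k => Nat.casesOn (motive := fun _ => Bool) k (Nat.beq x b)
        (fun c => Nat.blt (c / 2) gens.length &&
          prev.all (fun p => Nat.beq (look w (fwdT gens c) p) p) &&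
          Nat.blt (look w (bwdT gens c) x) n && ih (look w (bwdT gens c) x)))) fuel

/-- all conditions at one level -/
noncomputable def levelOKT (n w : ℕ) (gens : List (ℕ × ℕ)) (fuel : ℕ) (prev : List ℕ)
    (lv : TLevel) : Bool :=
  Nat.blt lv.1 n && Nat.beq (look w lv.2 lv.1) 1 &&
  allBelow (fun x => Nat.beq (look w lv.2 x) 0 || walkOK n w gens prev lv.1 lv.2 fuel x) n

/-- the certificate checker: `prev` = the previous base points -/
noncomputable def chainOKT (n w : ℕ) (gens : List (ℕ × ℕ)) (fuel : ℕ) :
    List ℕ → List TLevel → Bool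
  | _, [] => true
  | prev, lv :: rest => levelOKT n w gens fuel prev lv && chainOKT n w gens fuel (lv.1 :: prev) rest

/-- product of the orbit lengths -/
def sizeT (n w : ℕ) : List TLevel → ℕ
  | [] => 1
  | lv :: rest => (orbT n w lv.2).length * sizeT n w rest

/-- walk from `x` to the root, pushing the tables of the inverse letters on the word -/
noncomputable def walk (w : ℕ) (gens : List (ℕ × ℕ)) (sv : ℕ) (fuel : ℕ) :
    ℕ → List ℕ → Option (List ℕ) :=
  Nat.rec (motive := fun _ => ℕ → List ℕ → Option (List ℕ)) (fun _ _ => none)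
    (fun _ ih x ws => Nat.casesOn (motive := fun _ => Option (List ℕ)) (look w sv x) none
      (fun k => Nat.casesOn (motive := fun _ => Option (List ℕ)) k (some ws)
        (fun c => ih (look w (bwdT gens c) x) (bwdT gens c :: ws)))) fuel

/-- sifting of a tuple of base images: the result is a word of tables through which the INVERSE of
the sifted element acts -/
noncomputable def treeSift (w : ℕ) (gens : List (ℕ × ℕ)) (fuel : ℕ) :
    List TLevel → List ℕ → List ℕ → Option (List ℕ) :=
  fun levels => List.rec (motive := fun _ => List ℕ → List ℕ → Option (List ℕ))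
    (fun _ ws => some ws)
    (fun lv _ ih imgs ws => List.rec (motive := fun _ => Option (List ℕ)) none
      (fun y ys _ => Option.rec (motive := fun _ => Option (List ℕ)) none
        (fun ws' => ih ys ws') (walk w gens lv.2 fuel (evalW w ws y) ws)) imgs) levels

theorem treeSift_nil (w : ℕ) (gens : List (ℕ × ℕ)) (fuel : ℕ) (imgs ws : List ℕ) :
    treeSift w gens fuel [] imgs ws = some ws := rfl

theorem treeSift_cons_nil (w : ℕ) (gens : List (ℕ × ℕ)) (fuel : ℕ) (lv : TLevel)
    (rest : List TLevel) (ws : List ℕ) : treeSift w gens fuel (lv :: rest) [] ws = none := rfl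

theorem treeSift_cons_cons (w : ℕ) (gens : List (ℕ × ℕ)) (fuel : ℕ) (lv : TLevel)
    (rest : List TLevel) (y : ℕ) (ys ws : List ℕ) :
    treeSift w gens fuel (lv :: rest) (y :: ys) ws =
      match walk w gens lv.2 fuel (evalW w ws y) ws with
      | none => none
      | some ws' => treeSift w gens fuel rest ys ws' := by
  change (Option.rec (motive := fun _ => Option (List ℕ)) none
    (fun ws' => treeSift w gens fuel rest ys ws') (walk w gens lv.2 fuel (evalW w ws y) ws)) = _
  cases walk w gens lv.2 fuel (evalW w ws y) ws <;> rfl

/-- the base points are `b, f b, f (f b), …` -/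
def basesOK (f : ℕ → ℕ) : List TLevel → Bool
  | [] => true
  | [_] => true
  | lv :: lv' :: rest => Nat.beq (f lv.1) lv'.1 && basesOK f (lv' :: rest)

/-- `y, f y, f (f y), …` (`k` terms) -/
def iterImgs (f : ℕ → ℕ) : ℕ → ℕ → List ℕ
  | 0, _ => []
  | k + 1, y => y :: iterImgs f k (f y)

/-- the word `cs` repeated `m` times evaluates to the identity on all points -/
noncomputable def relOK (n w : ℕ) (gens : List (ℕ × ℕ)) (cs : List ℕ) (m : ℕ) : Bool :=
  cs.all (fun c => Nat.blt (c / 2) gens.length) &&
  allBelow (fun a => Nat.beq (Nat.rec (motive := fun _ => ℕ) a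
    (fun _ x => evalF w gens cs x) m) a) n

/-! The equation lemmas of `uT` are cited here, so that they are written in THIS file once and no two
importing files each hold a copy. -/

theorem uT_eq_zero (n w : ℕ) (gens : List (ℕ × ℕ)) (sv x : ℕ) : uT n w gens sv 0 x = 1 :=
  uT.eq_1 n w gens sv x

theorem uT_eq_succ (n w : ℕ) (gens : List (ℕ × ℕ)) (sv f x : ℕ) :
    uT n w gens sv (f + 1) x =
      match look w sv x with
      | 0 => 1
      | 1 => 1
      | c + 2 => letterPerm n w gens c * uT n w gens sv f (look w (bwdT gens c) x) :=
  uT.eq_2 n w gens sv x f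

theorem uT_eq_unfold (n w : ℕ) (gens : List (ℕ × ℕ)) (sv f x : ℕ) :
    uT n w gens sv f x =
      match f, x with
      | 0, _ => 1
      | f + 1, x =>
        match look w sv x with
        | 0 => 1
        | 1 => 1
        | c + 2 => letterPerm n w gens c * uT n w gens sv f (look w (bwdT gens c) x) :=
  uT.eq_def n w gens sv f x

end Cfsg.Agent.Lib.Helper27.TreeSift
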