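import Cfsg.Agent.Lib.Helper27.SC3PC1b

set_option autoImplicit false

namespace Cfsg.Agent.Lib.Helper27.SC3PC1b

section glue

variable {X : Type*} [Group X]

/-- in class two: `(a * b)^2 = a^2 * b^2 * [b, a]` -/
theorem sq_mul_of_comm_central {a b : X} (hc : b * a * b⁻¹ * a⁻¹ ∈ Subgroup.center X) :
    (a * b) ^ 2 = a ^ 2 * b ^ 2 * (b * a * b⁻¹ * a⁻¹) := by
  have h := Subgroup.mem_center_iff.mp hc
  -- b * a = c * a * b
  have hba : b * a = (b * a * b⁻¹ * a⁻¹) * a * b := by group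
  calc (a * b) ^ 2 = a * (b * a) * b := by rw [pow_two]; group
    _ = a * ((b * a * b⁻¹ * a⁻¹) * a * b) * b := by rw [← hba]
    _ = a * ((b * a * b⁻¹ * a⁻¹) * (a * b * b)) := by group
    _ = a * ((a * b * b) * (b * a * b⁻¹ * a⁻¹)) := by rw [h (a * b * b)]
    _ = a ^ 2 * b ^ 2 * (b * a * b⁻¹ * a⁻¹) := by rw [pow_two, pow_two]; group

/-- the commutator is multiplicative in the second variable when commutators are central -/
theorem comm_mul_right_of_central {z x y : X} (hc : z * y * z⁻¹ * y⁻¹ ∈ Subgroup.center X) :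
    z * (x * y) * z⁻¹ * (x * y)⁻¹ = (z * x * z⁻¹ * x⁻¹) * (z * y * z⁻¹ * y⁻¹) := by
  have h := Subgroup.mem_center_iff.mp hc
  calc z * (x * y) * z⁻¹ * (x * y)⁻¹ = z * x * z⁻¹ * ((z * y * z⁻¹ * y⁻¹) * x⁻¹) := by group
    _ = z * x * z⁻¹ * (x⁻¹ * (z * y * z⁻¹ * y⁻¹)) := by rw [h x⁻¹]
    _ = (z * x * z⁻¹ * x⁻¹) * (z * y * z⁻¹ * y⁻¹) := by group

/-- the commutator is multiplicative in the first variable when commutators are central -/
theorem comm_mul_left_of_central {x y z : X} (hc : y * z * y⁻¹ * z⁻¹ ∈ Subgroup.center X) :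
    (x * y) * z * (x * y)⁻¹ * z⁻¹ = (x * z * x⁻¹ * z⁻¹) * (y * z * y⁻¹ * z⁻¹) := by
  have h := Subgroup.mem_center_iff.mp hc
  calc (x * y) * z * (x * y)⁻¹ * z⁻¹ = x * (y * z * y⁻¹ * z⁻¹) * (z * x⁻¹ * z⁻¹) := by group
    _ = (y * z * y⁻¹ * z⁻¹) * x * (z * x⁻¹ * z⁻¹) := by rw [h x]
    _ = (y * z * y⁻¹ * z⁻¹) * (x * z * x⁻¹ * z⁻¹) := by group
    _ = (x * z * x⁻¹ * z⁻¹) * (y * z * y⁻¹ * z⁻¹) := (h _).symm


/-- **S1904 (1.4)(iii) glue**: a finite group of class two whose centre `Z` has exponent 2, contains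
all squares and all elements with `x^2 = 1`, satisfies `|X : Z| ≤ |Z|^2` (Chevalley–Warning). -/
theorem index_center_le_sq [Finite X]
    (hsq : ∀ x : X, x ^ 2 ∈ Subgroup.center X)
    (hcomm : ∀ x y : X, x * y * x⁻¹ * y⁻¹ ∈ Subgroup.center X)
    (hZ2 : ∀ z ∈ Subgroup.center X, z ^ 2 = 1)
    (hinv : ∀ x : X, x ^ 2 = 1 → x ∈ Subgroup.center X) :
    (Subgroup.center X).index ≤ Nat.card (Subgroup.center X) ^ 2 := by
  classical
  let instC : CommGroup (X ⧸ Subgroup.center X) :=
    { (inferInstance : Group (X ⧸ Subgroup.center X)) with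
      mul_comm := by
        intro a b
        obtain ⟨a, rfl⟩ := QuotientGroup.mk_surjective a
        obtain ⟨b, rfl⟩ := QuotientGroup.mk_surjective b
        rw [← QuotientGroup.mk_mul, ← QuotientGroup.mk_mul, QuotientGroup.eq]
        have := hcomm b⁻¹ a⁻¹
        convert this using 1
        group }
  let instZ : CommGroup (Subgroup.center X) :=
    { (inferInstance : Group (Subgroup.center X)) with
      mul_comm := fun a b => Subtype.ext (Subgroup.mem_center_iff.mp b.2 a.1) }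
  let sqZ : X → Subgroup.center X := fun x => ⟨x ^ 2, hsq x⟩
  let cZ : X → X → Subgroup.center X := fun y x => ⟨y * x * y⁻¹ * x⁻¹, hcomm y x⟩
  have hmul : ∀ x y : X, sqZ (x * y) = sqZ x * sqZ y * cZ y x := fun x y =>
    Subtype.ext (sq_mul_of_comm_central (hcomm y x))
  have hcl : ∀ x y z : X, cZ (x * y) z = cZ x z * cZ y z := fun x y z =>
    Subtype.ext (comm_mul_left_of_central (hcomm y z))
  have hcr : ∀ z x y : X, cZ z (x * y) = cZ z x * cZ z y := fun z x y =>
    Subtype.ext (comm_mul_right_of_central (hcomm z y))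
  have hwd : ∀ a b : X, QuotientGroup.leftRel (Subgroup.center X) a b → sqZ a = sqZ b := by
    intro a b hab
    rw [QuotientGroup.leftRel_apply] at hab
    apply Subtype.ext
    show a ^ 2 = b ^ 2
    have hb : b = a * (a⁻¹ * b) := by group
    have hcm : Commute a (a⁻¹ * b) := (Subgroup.mem_center_iff.mp hab a)
    rw [hb, hcm.mul_pow, hZ2 _ hab, mul_one]
  let q : Additive (X ⧸ Subgroup.center X) → Additive (Subgroup.center X) := fun v =>
    Additive.ofMul (Quotient.liftOn' (Additive.toMul v) sqZ hwd)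
  have hqmk : ∀ x : X, q (Additive.ofMul (x : X ⧸ Subgroup.center X)) = Additive.ofMul (sqZ x) :=
    fun x => rfl
  let B : Additive (X ⧸ Subgroup.center X) → Additive (X ⧸ Subgroup.center X) →
      Additive (Subgroup.center X) := fun v w => q (v + w) - q v - q w
  have hrep : ∀ v : Additive (X ⧸ Subgroup.center X),
      ∃ x : X, v = Additive.ofMul (x : X ⧸ Subgroup.center X) := by
    intro v
    obtain ⟨x, hx⟩ := QuotientGroup.mk_surjective (Additive.toMul v)
    exact ⟨x, by rw [hx]; rfl⟩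
  have hBmk : ∀ x y : X, B (Additive.ofMul (x : X ⧸ Subgroup.center X))
      (Additive.ofMul (y : X ⧸ Subgroup.center X)) = Additive.ofMul (cZ y x) := by
    intro x y
    have h1 : (Additive.ofMul (x : X ⧸ Subgroup.center X)) + (Additive.ofMul (y : X ⧸ Subgroup.center X))
        = Additive.ofMul ((x * y : X) : X ⧸ Subgroup.center X) := rfl
    show q (_ + _) - q _ - q _ = _
    rw [h1, hqmk, hqmk, hqmk, hmul, ofMul_mul, ofMul_mul]
    abel
  have hV : ∀ v : Additive (X ⧸ Subgroup.center X), 2 • v = 0 := by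
    intro v
    obtain ⟨x, rfl⟩ := hrep v
    have h1 : 2 • Additive.ofMul (x : X ⧸ Subgroup.center X)
        = Additive.ofMul ((x ^ 2 : X) : X ⧸ Subgroup.center X) := rfl
    rw [h1, (QuotientGroup.eq_one_iff (x ^ 2)).mpr (hsq x)]
    rfl
  have hW : ∀ w : Additive (Subgroup.center X), 2 • w = 0 := by
    intro w
    have h1 : 2 • w = Additive.ofMul ((Additive.toMul w) ^ 2) := rfl
    rw [h1]
    have : (Additive.toMul w) ^ 2 = 1 := Subtype.ext (hZ2 _ (Additive.toMul w).2)
    rw [this]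
    rfl
  have hq : ∀ v w, q (v + w) = q v + q w + B v w := by
    intro v w
    show q (v + w) = q v + q w + (q (v + w) - q v - q w)
    abel
  have hBl : ∀ u v w, B (u + v) w = B u w + B v w := by
    intro u v w
    obtain ⟨x, rfl⟩ := hrep u
    obtain ⟨y, rfl⟩ := hrep v
    obtain ⟨z, rfl⟩ := hrep w
    have h1 : (Additive.ofMul (x : X ⧸ Subgroup.center X)) + (Additive.ofMul (y : X ⧸ Subgroup.center X))
        = Additive.ofMul ((x * y : X) : X ⧸ Subgroup.center X) := rfl
    rw [h1, hBmk, hBmk, hBmk, hcr, ofMul_mul]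
  have hBr : ∀ u v w, B u (v + w) = B u v + B u w := by
    intro u v w
    obtain ⟨x, rfl⟩ := hrep u
    obtain ⟨y, rfl⟩ := hrep v
    obtain ⟨z, rfl⟩ := hrep w
    have h1 : (Additive.ofMul (y : X ⧸ Subgroup.center X)) + (Additive.ofMul (z : X ⧸ Subgroup.center X))
        = Additive.ofMul ((y * z : X) : X ⧸ Subgroup.center X) := rfl
    rw [h1, hBmk, hBmk, hBmk, hcl, ofMul_mul]
  have hani : ∀ v, q v = 0 → v = 0 := by
    intro v hv
    obtain ⟨x, rfl⟩ := hrep v
    rw [hqmk] at hv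
    have h1 : sqZ x = 1 := hv
    have h2 : x ^ 2 = 1 := congrArg Subtype.val h1
    have h3 := hinv x h2
    rw [(QuotientGroup.eq_one_iff x).mpr h3]
    rfl
  have hmain := card_le_sq_of_anisotropic hV hW q B hq hBl hBr hani
  have e1 : Nat.card (Additive (X ⧸ Subgroup.center X)) = (Subgroup.center X).index :=
    Nat.card_congr Additive.toMul
  have e2 : Nat.card (Additive (Subgroup.center X)) = Nat.card (Subgroup.center X) :=
    Nat.card_congr Additive.toMul
  rw [e1, e2] at hmain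
  exact hmain

end glue

end Cfsg.Agent.Lib.Helper27.SC3PC1b
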