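import Mathlib
import Cfsg.Prelude.Def_FusionSystem
import Cfsg.Agent.Lib.Helper17.StrongPEmb
import Cfsg.Agent.Lib.Helper27.FusionSat
import Cfsg.Agent.Lib.Helper27.FusionAlperin
import Cfsg.Agent.Lib.Helper27.FusionNormalCrit

set_option autoImplicit false

namespace Cfsg.Agent.Lib.Helper27

open Cfsg Cfsg.FusionSystem

variable {Ω : Type*} [Group Ω] {S : Subgroup Ω}

open scoped Pointwise in
/-- For an essential subgroup `Q` of a saturated system there is a proper subgroup `K` of `Aut_F(Q)`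
containing `Aut_S(Q)` such that every `β ∈ Aut_F(Q)` that conjugates some `c_g`, `g ∈ N_S(Q) - Q`, into
`Aut_S(Q)` lies in `K` (the preimage of a strongly `p`-embedded subgroup of `Out_F(Q)` containing
`Out_S(Q)`). -/
theorem essential_exists_subgroup [Finite S] {p : ℕ} [Fact p.Prime] (hS : IsPGroup p S)
    {F : FusionSystem S} (hF : F.IsSaturated p) {Q : Subgroup Ω} (hQ : F.IsEssential p Q) :
    ∃ K : Subgroup (MulAut Q), K ≤ F.autGroup Q ∧ (∃ β ∈ F.autGroup Q, β ∉ K) ∧ autInducedBy S Q ≤ K ∧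
      (∃ g ∈ normalizerIn S Q, g ∉ Q) ∧
      ∀ β ∈ F.autGroup Q, ∀ g : normalizerIn S Q, (g : Ω) ∉ Q →
        β * conjAutHom S Q g * β⁻¹ ∈ autInducedBy S Q → β ∈ K := by
  obtain ⟨hc, hfn, hnorm, M₀, hM₀⟩ := hQ
  have hQS : Q ≤ S := hc.1
  haveI : Finite Q := Finite.of_injective (Subgroup.inclusion hQS) (Subgroup.inclusion_injective hQS)
  haveI := hnorm
  obtain ⟨hfa, -, -⟩ := fa_receptive_of_fullyNormalized hS hF hfn
  obtain ⟨-, R₀, hR₀⟩ := hfa
  have hpnc := Cfsg.Agent.Lib.Helper17.pNormControl_of_spe hM₀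
  obtain ⟨P₀, hP₀ne, hP₀M, -⟩ := Cfsg.Agent.Lib.Helper17.exists_sylow_of_spe hM₀
  have hπsurj : Function.Surjective (QuotientGroup.mk' ((Inn Q).subgroupOf (F.autGroup Q))) :=
    QuotientGroup.mk'_surjective _
  obtain ⟨γ, hγ⟩ := MulAction.exists_smul_eq (↥(F.autGroup Q) ⧸ (Inn Q).subgroupOf (F.autGroup Q))
    (R₀.mapSurjective hπsurj) P₀
  -- conjugating into `P₀`
  have hconj : ∀ β : F.autGroup Q, (β : MulAut Q) ∈ autInducedBy S Q →
      γ * QuotientGroup.mk' ((Inn Q).subgroupOf (F.autGroup Q)) β * γ⁻¹ ∈ (P₀ : Subgroup _) := by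
    intro β hβ
    have h1 : QuotientGroup.mk' ((Inn Q).subgroupOf (F.autGroup Q)) β ∈
        ((R₀.mapSurjective hπsurj : Sylow p _) : Subgroup _) := by
      rw [Sylow.coe_mapSurjective]
      refine ⟨β, ?_, rfl⟩
      show β ∈ (R₀ : Subgroup (F.autGroup Q))
      rw [hR₀, Subgroup.mem_subgroupOf]; exact hβ
    have h2 := Subgroup.smul_mem_pointwise_smul _ (MulAut.conj γ) _ h1
    rw [← Sylow.coe_subgroup_smul, hγ] at h2
    exact h2
  -- the subgroup K
  refine ⟨(M₀.comap ((MulAut.conj γ).toMonoidHom.comp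
    (QuotientGroup.mk' ((Inn Q).subgroupOf (F.autGroup Q))))).map (F.autGroup Q).subtype,
    Subgroup.map_subtype_le _, ?_, ?_, ?_, ?_⟩
  · -- proper
    obtain ⟨m, hm⟩ : ∃ m, m ∉ M₀ := by
      by_contra hcon
      push Not at hcon
      exact hM₀.2.1 (eq_top_iff.mpr (fun x _ => hcon x))
    obtain ⟨β, hβ⟩ := hπsurj (γ⁻¹ * m * γ)
    refine ⟨β, β.2, ?_⟩
    rintro ⟨β', hβ', hββ'⟩
    have : β' = β := Subtype.ext hββ'
    subst this
    apply hm
    have h1 : (MulAut.conj γ).toMonoidHom.comp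
      (QuotientGroup.mk' ((Inn Q).subgroupOf (F.autGroup Q))) β' ∈ M₀ := hβ'
    simp only [MonoidHom.coe_comp, Function.comp_apply, MulEquiv.coe_toMonoidHom, MulAut.conj_apply] at h1
    rw [hβ] at h1
    simpa [mul_assoc] using h1
  · -- contains Aut_S(Q)
    intro β hβ
    have hβA : β ∈ F.autGroup Q := autInducedBy_le_autGroup F hQS hβ
    refine ⟨⟨β, hβA⟩, ?_, rfl⟩
    show (MulAut.conj γ).toMonoidHom.comp
      (QuotientGroup.mk' ((Inn Q).subgroupOf (F.autGroup Q))) ⟨β, hβA⟩ ∈ M₀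
    simp only [MonoidHom.coe_comp, Function.comp_apply, MulEquiv.coe_toMonoidHom, MulAut.conj_apply]
    exact hP₀M (hconj ⟨β, hβA⟩ hβ)
  · -- N_S(Q) > Q
    by_contra hcon
    push Not at hcon
    apply hP₀ne
    rw [eq_bot_iff]
    intro x hx
    rw [← hγ] at hx
    -- x = γ π(β) γ⁻¹ with β ∈ Aut_S(Q) = Inn(Q)
    have h1 : (MulAut.conj γ)⁻¹ • x ∈ ((R₀.mapSurjective hπsurj : Sylow p _) : Subgroup _) := by
      rw [Sylow.coe_subgroup_smul] at hx
      exact Subgroup.mem_pointwise_smul_iff_inv_smul_mem.mp hx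
    rw [Sylow.coe_mapSurjective] at h1
    obtain ⟨β, hβ, hβx⟩ := h1
    have hβ' : β ∈ (R₀ : Subgroup (F.autGroup Q)) := hβ
    rw [hR₀, Subgroup.mem_subgroupOf, ← conjAutHom_range] at hβ'
    obtain ⟨g, hg⟩ := hβ'
    have hgQ : (g : Ω) ∈ Q := hcon g g.2
    have hβinn : β ∈ (Inn Q).subgroupOf (F.autGroup Q) := by
      rw [Subgroup.mem_subgroupOf, ← hg, mem_inn_iff]
      exact ⟨⟨g, hgQ⟩, fun y => Subtype.ext (conjAutHom_apply S Q g y)⟩
    have h2 : QuotientGroup.mk' ((Inn Q).subgroupOf (F.autGroup Q)) β = 1 :=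
      (QuotientGroup.eq_one_iff β).mpr hβinn
    rw [h2] at hβx
    have h3 : x = MulAut.conj γ • (1 : ↥(F.autGroup Q) ⧸ (Inn Q).subgroupOf (F.autGroup Q)) := by
      rw [hβx, smul_inv_smul]
    rw [h3]
    simp
  · -- the control property
    intro β hβ g hgQ hconjβ
    refine ⟨⟨β, hβ⟩, ?_, rfl⟩
    show (MulAut.conj γ).toMonoidHom.comp
      (QuotientGroup.mk' ((Inn Q).subgroupOf (F.autGroup Q))) ⟨β, hβ⟩ ∈ M₀
    simp only [MonoidHom.coe_comp, Function.comp_apply, MulEquiv.coe_toMonoidHom, MulAut.conj_apply]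
    have hcg : conjAutHom S Q g ∈ autInducedBy S Q := by
      rw [← conjAutHom_range]; exact ⟨_, rfl⟩
    have hcgA : conjAutHom S Q g ∈ F.autGroup Q := autInducedBy_le_autGroup F hQS hcg
    set x := γ * QuotientGroup.mk' ((Inn Q).subgroupOf (F.autGroup Q)) ⟨conjAutHom S Q g, hcgA⟩ * γ⁻¹
      with hx
    set u := γ * QuotientGroup.mk' ((Inn Q).subgroupOf (F.autGroup Q)) ⟨β, hβ⟩ * γ⁻¹ with hu
    have hxP : x ∈ (P₀ : Subgroup _) := hconj ⟨_, hcgA⟩ hcg
    have hxM : x ∈ M₀ := hP₀M hxP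
    have hβcA : β * conjAutHom S Q g * β⁻¹ ∈ F.autGroup Q := autInducedBy_le_autGroup F hQS hconjβ
    have huxu : u * x * u⁻¹ ∈ M₀ := by
      have h1 := hP₀M (hconj ⟨_, hβcA⟩ hconjβ)
      have h2 : u * x * u⁻¹ = γ * QuotientGroup.mk' ((Inn Q).subgroupOf (F.autGroup Q))
          ⟨β * conjAutHom S Q g * β⁻¹, hβcA⟩ * γ⁻¹ := by
        have h3 : (⟨β * conjAutHom S Q g * β⁻¹, hβcA⟩ : F.autGroup Q) =
            ⟨β, hβ⟩ * ⟨conjAutHom S Q g, hcgA⟩ * ⟨β, hβ⟩⁻¹ := rfl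
        rw [h3, map_mul, map_mul, map_inv, hx, hu]
        group
      rw [h2]; exact h1
    -- x ≠ 1
    have hx1 : x ≠ 1 := by
      intro h
      have h1 : QuotientGroup.mk' ((Inn Q).subgroupOf (F.autGroup Q)) ⟨conjAutHom S Q g, hcgA⟩ = 1 := by
        have : QuotientGroup.mk' ((Inn Q).subgroupOf (F.autGroup Q)) ⟨conjAutHom S Q g, hcgA⟩ =
            γ⁻¹ * x * γ := by rw [hx]; group
        rw [this, h]; group
      have h2 := (QuotientGroup.eq_one_iff _).mp h1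
      rw [Subgroup.mem_subgroupOf] at h2
      exact hgQ (mem_of_conjAutHom_mem_inn hc g.2 h2)
    have hzp : IsPGroup p (Subgroup.zpowers x) :=
      P₀.2.to_le (Subgroup.zpowers_le.mpr hxP)
    have hz1 : Subgroup.zpowers x ≠ ⊥ := by
      intro h
      exact hx1 (Subgroup.zpowers_eq_bot.mp h)
    apply hpnc.mem_of_map_conj_le (Q := Subgroup.zpowers x) (Subgroup.zpowers_le.mpr hxM) hzp hz1
    rw [MonoidHom.map_zpowers, Subgroup.zpowers_le]
    exact huxu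

end Cfsg.Agent.Lib.Helper27
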