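import Mathlib
import Cfsg.Prelude.Def_FusionSystem
import Cfsg.Agent.Lib.Helper27.FusionSat
import Cfsg.Agent.Lib.Helper27.FusionNormalCrit
import Cfsg.Agent.Lib.Helper27.FusionEssential
import Cfsg.Agent.S5080

/-!
# Fusion systems over `p`-groups with an abelian subgroup of index `p`

Essential subgroups of a saturated fusion system over a nonabelian `p`-group `S` with an abelian
subgroup `A` of index `p` (after Oliver).
-/

set_option autoImplicit false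

namespace Cfsg.Agent.Lib.Helper27

open Cfsg Cfsg.FusionSystem

variable {Ω : Type*} [Group Ω]

/-! ### Subgroups of prime index -/

theorem normal_of_index_prime_of_isPGroup {K H : Subgroup Ω} [Finite K] {p : ℕ} [Fact p.Prime]
    (hK : IsPGroup p K) (hidx : (H.subgroupOf K).index = p) : (H.subgroupOf K).Normal := by
  obtain ⟨n, hn⟩ := IsPGroup.iff_card.mp hK
  have hn0 : n ≠ 0 := by
    rintro rfl
    rw [pow_zero] at hn
    have h1 : (H.subgroupOf K).index ∣ Nat.card K := Subgroup.index_dvd_card _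
    rw [hidx, hn] at h1
    exact (Fact.out : p.Prime).one_lt.ne' (Nat.dvd_one.mp h1)
  apply Subgroup.normal_of_index_eq_minFac_card
  rw [hidx, hn, Nat.Prime.pow_minFac Fact.out hn0]

theorem exists_mul_zpow_of_index_prime {K H : Subgroup Ω} {p : ℕ} [Fact p.Prime]
    (hN : (H.subgroupOf K).Normal) (hidx : (H.subgroupOf K).index = p) {u : Ω} (huK : u ∈ K)
    (huH : u ∉ H) {y : Ω} (hy : y ∈ K) : ∃ h ∈ H, ∃ k : ℤ, y = h * u ^ k := by
  have := hN
  have hcard : Nat.card (↥K ⧸ H.subgroupOf K) = p := by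
    rw [← Subgroup.index_eq_card]; exact hidx
  have hu1 : (QuotientGroup.mk' (H.subgroupOf K)) ⟨u, huK⟩ ≠ 1 := by
    rw [Ne, QuotientGroup.mk'_apply, QuotientGroup.eq_one_iff, Subgroup.mem_subgroupOf]
    exact huH
  have htop := zpowers_eq_top_of_prime_card hcard hu1
  have hmem : (QuotientGroup.mk' (H.subgroupOf K)) ⟨y, hy⟩ ∈
      Subgroup.zpowers ((QuotientGroup.mk' (H.subgroupOf K)) ⟨u, huK⟩) := by
    rw [htop]; trivial
  obtain ⟨k, hk⟩ := Subgroup.mem_zpowers_iff.mp hmem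
  have h1 : (⟨y, hy⟩ : K) * (⟨u, huK⟩ : K) ^ (-k) ∈ H.subgroupOf K := by
    rw [← QuotientGroup.eq_one_iff, ← QuotientGroup.mk'_apply, map_mul, map_zpow, ← hk, zpow_neg,
      mul_inv_cancel]
  refine ⟨y * u ^ (-k), ?_, k, ?_⟩
  · rw [Subgroup.mem_subgroupOf] at h1
    simpa using h1
  · group

theorem commutator_mem_of_index_prime {G : Type*} [Group G] {M : Subgroup G} [M.Normal] {p : ℕ}
    [Fact p.Prime] (hidx : M.index = p) (u v : G) : u * v * u⁻¹ * v⁻¹ ∈ M := by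
  have hcard : Nat.card (G ⧸ M) = p := by rw [← Subgroup.index_eq_card]; exact hidx
  haveI : IsCyclic (G ⧸ M) := isCyclic_of_prime_card hcard
  obtain ⟨w, hw⟩ := IsCyclic.exists_generator (α := G ⧸ M)
  obtain ⟨i, hi⟩ := Subgroup.mem_zpowers_iff.mp (hw (u : G ⧸ M))
  obtain ⟨j, hj⟩ := Subgroup.mem_zpowers_iff.mp (hw (v : G ⧸ M))
  have hc : Commute (u : G ⧸ M) (v : G ⧸ M) := by
    rw [← hi, ← hj]; exact (Commute.refl w).zpow_zpow i j
  rw [← QuotientGroup.eq_one_iff]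
  have : ((u * v * u⁻¹ * v⁻¹ : G) : G ⧸ M) = (u : G ⧸ M) * v * (u : G ⧸ M)⁻¹ * (v : G ⧸ M)⁻¹ := rfl
  rw [this, hc.eq, mul_inv_cancel_right, mul_inv_cancel]

theorem relIndex_eq_prime_of_not_le {S A H : Subgroup Ω} {p : ℕ} [Fact p.Prime]
    (hN : (A.subgroupOf S).Normal) (hidx : (A.subgroupOf S).index = p) (hHS : H ≤ S)
    (hHA : ¬ H ≤ A) : A.relIndex H = p := by
  have := hN
  have h1 : (A.subgroupOf S).relIndex (H.subgroupOf S) ∣ (A.subgroupOf S).index :=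
    Subgroup.relIndex_dvd_index_of_normal _ _
  rw [Subgroup.relIndex_subgroupOf hHS, hidx] at h1
  rcases (Nat.dvd_prime (Fact.out : p.Prime)).mp h1 with h2 | h2
  · exact absurd (Subgroup.relIndex_eq_one.mp h2) hHA
  · exact h2

/-! ### A nonabelian group with an abelian subgroup of prime index -/

/-- `A` is an abelian subgroup of prime index of the nonabelian group `S` (elementwise form). -/
structure AbIdx (S A : Subgroup Ω) : Prop where
  le : A ≤ S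
  comm : ∀ a ∈ A, ∀ b ∈ A, a * b = b * a
  conj : ∀ s ∈ S, ∀ a ∈ A, s * a * s⁻¹ ∈ A
  dec : ∀ x ∈ S, x ∉ A → ∀ s ∈ S, ∃ a ∈ A, ∃ k : ℤ, s = a * x ^ k
  ncomm : ∃ s ∈ S, ∃ t ∈ S, s * t ≠ t * s

theorem abIdx_of {S A : Subgroup Ω} [Finite S] {p : ℕ} [Fact p.Prime] (hS : IsPGroup p S)
    (hna : ¬ IsMulCommutative ↥S) (hAS : A ≤ S) (hAc : IsMulCommutative ↥A)
    (hidx : (A.subgroupOf S).index = p) : AbIdx S A := by
  have hN := normal_of_index_prime_of_isPGroup hS hidx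
  refine ⟨hAS, ?_, ?_, ?_, ?_⟩
  · intro a ha b hb
    have := hAc.is_comm.comm (⟨a, ha⟩ : A) ⟨b, hb⟩
    exact congrArg Subtype.val this
  · intro s hs a ha
    have := hN.conj_mem ⟨a, hAS ha⟩ (by rw [Subgroup.mem_subgroupOf]; exact ha) ⟨s, hs⟩
    rw [Subgroup.mem_subgroupOf] at this
    exact this
  · intro x hx hxA s hs
    exact exists_mul_zpow_of_index_prime hN hidx hx hxA hs
  · by_contra hcon
    push Not at hcon
    exact hna ⟨⟨fun a b => Subtype.ext (hcon a.1 a.2 b.1 b.2)⟩⟩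

theorem AbIdx.mem_center_of_comm {S A : Subgroup Ω} (h : AbIdx S A) {x a : Ω} (hx : x ∈ S)
    (hxA : x ∉ A) (ha : a ∈ A) (hax : a * x = x * a) :
    a ∈ S ⊓ Subgroup.centralizer (S : Set Ω) := by
  refine Subgroup.mem_inf.mpr ⟨h.le ha, ?_⟩
  rw [Subgroup.mem_centralizer_iff]
  intro s hs
  obtain ⟨a', ha', k, rfl⟩ := h.dec x hx hxA s hs
  have h1 : Commute a' a := h.comm a' ha' a ha
  have h2 : Commute (x ^ k) a := Commute.zpow_left (show Commute x a from hax.symm) k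
  exact h1.mul_left h2

theorem AbIdx.center_le {S A : Subgroup Ω} (h : AbIdx S A) :
    S ⊓ Subgroup.centralizer (S : Set Ω) ≤ A := by
  intro z hz
  by_contra hzA
  obtain ⟨s, hs, t, ht, hst⟩ := h.ncomm
  apply hst
  have hzc : ∀ u ∈ S, Commute u z := fun u hu => Subgroup.mem_centralizer_iff.mp hz.2 u hu
  obtain ⟨a, ha, k, rfl⟩ := h.dec z hz.1 hzA s hs
  obtain ⟨b, hb, l, rfl⟩ := h.dec z hz.1 hzA t ht
  have hab : Commute a b := h.comm a ha b hb
  have h1 : Commute a (z ^ l) := (hzc a (h.le ha)).zpow_right l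
  have h2 : Commute (z ^ k) b := ((hzc b (h.le hb)).zpow_right k).symm
  have h3 : Commute (z ^ k) (z ^ l) := (Commute.refl z).zpow_zpow k l
  exact (hab.mul_right h1).mul_left (h2.mul_right h3)

theorem center_commute {S : Subgroup Ω} {z : Ω} (hz : z ∈ S ⊓ Subgroup.centralizer (S : Set Ω))
    {s : Ω} (hs : s ∈ S) : s * z = z * s :=
  Subgroup.mem_centralizer_iff.mp hz.2 s hs

theorem mem_ucs_two_iff {S : Subgroup Ω} {s : Ω} (hs : s ∈ S) :
    s ∈ (Subgroup.upperCentralSeries ↥S 2).map S.subtype ↔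
      ∀ t ∈ S, s * t * s⁻¹ * t⁻¹ ∈ S ⊓ Subgroup.centralizer (S : Set Ω) := by
  constructor
  · rintro ⟨s', hs', rfl⟩ t ht
    have hs'' : s' ∈ Subgroup.upperCentralSeries ↥S (1 + 1) := hs'
    rw [Subgroup.mem_upperCentralSeries_succ_iff, Subgroup.upperCentralSeries_one] at hs''
    have h1 := hs'' ⟨t, ht⟩
    rw [Subgroup.mem_center_iff] at h1
    refine Subgroup.mem_inf.mpr
      ⟨S.mul_mem (S.mul_mem (S.mul_mem s'.2 ht) (S.inv_mem s'.2)) (S.inv_mem ht), ?_⟩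
    rw [Subgroup.mem_centralizer_iff]
    intro u hu
    have := congrArg Subtype.val (h1 ⟨u, hu⟩)
    simpa [commutatorElement_def] using this
  · intro h
    refine ⟨⟨s, hs⟩, ?_, rfl⟩
    show (⟨s, hs⟩ : S) ∈ Subgroup.upperCentralSeries ↥S (1 + 1)
    rw [Subgroup.mem_upperCentralSeries_succ_iff, Subgroup.upperCentralSeries_one]
    intro t
    rw [Subgroup.mem_center_iff]
    intro u
    have h1 := (Subgroup.mem_inf.mp (h t t.2)).2
    rw [Subgroup.mem_centralizer_iff] at h1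
    apply Subtype.ext
    simpa [commutatorElement_def] using h1 u u.2

theorem AbIdx.normal {S A : Subgroup Ω} (h : AbIdx S A) : (A.subgroupOf S).Normal := by
  constructor
  intro a ha s
  rw [Subgroup.mem_subgroupOf] at ha ⊢
  exact h.conj s s.2 a ha

theorem AbIdx.conj_fix {S A : Subgroup Ω} (h : AbIdx S A) {g y : Ω} (hg : g ∈ A) (hy : y ∈ A) :
    g * y * g⁻¹ = y := by
  rw [h.comm g hg y hy, mul_inv_cancel_right]

theorem AbIdx.inv_mul_conj_mem {S A : Subgroup Ω} (h : AbIdx S A) {g y : Ω} (hg : g ∈ A)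
    (hy : y ∈ S) : y⁻¹ * (g * y * g⁻¹) ∈ A := by
  have h1 : y⁻¹ * g * y⁻¹⁻¹ ∈ A := h.conj y⁻¹ (S.inv_mem hy) g hg
  have h2 : y⁻¹ * (g * y * g⁻¹) = (y⁻¹ * g * y⁻¹⁻¹) * g⁻¹ := by group
  rw [h2]
  exact A.mul_mem h1 (A.inv_mem hg)

theorem AbIdx.dec_inf {S A : Subgroup Ω} (h : AbIdx S A) {P : Subgroup Ω} (hPS : P ≤ S) {x : Ω}
    (hx : x ∈ P) (hxA : x ∉ A) {y : Ω} (hy : y ∈ P) : ∃ a ∈ P ⊓ A, ∃ k : ℤ, y = a * x ^ k := by
  obtain ⟨a, ha, k, hk⟩ := h.dec x (hPS hx) hxA y (hPS hy)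
  refine ⟨a, Subgroup.mem_inf.mpr ⟨?_, ha⟩, k, hk⟩
  have : a = y * (x ^ k)⁻¹ := by rw [hk]; group
  rw [this]
  exact P.mul_mem hy (P.inv_mem (P.zpow_mem hx k))

/-- the elements `y` of `G` with `y⁻¹ α(y) ∈ M`, for a normal subgroup `M` -/
def fixMod {G : Type*} [Group G] (M : Subgroup G) [hM : M.Normal] (α : MulAut G) : Subgroup G where
  carrier := {y | y⁻¹ * α y ∈ M}
  one_mem' := by simp
  mul_mem' := by
    intro a b ha hb
    have h1 : (a * b)⁻¹ * α (a * b) = (b⁻¹ * (a⁻¹ * α a) * b⁻¹⁻¹) * (b⁻¹ * α b) := by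
      rw [map_mul]; group
    show (a * b)⁻¹ * α (a * b) ∈ M
    rw [h1]
    exact M.mul_mem (hM.conj_mem _ ha _) hb
  inv_mem' := by
    intro a ha
    have h1 : (a⁻¹)⁻¹ * α a⁻¹ = a * (a⁻¹ * α a)⁻¹ * a⁻¹ := by
      rw [map_inv]; group
    show (a⁻¹)⁻¹ * α a⁻¹ ∈ M
    rw [h1]
    exact hM.conj_mem _ (M.inv_mem ha) _

theorem mem_fixMod {G : Type*} [Group G] (M : Subgroup G) [M.Normal] (α : MulAut G) (y : G) :
    y ∈ fixMod M α ↔ y⁻¹ * α y ∈ M := Iff.rfl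

/-- the chain `⊥ ≤ Z ≤ ⊤` -/
def chainZ (Z : Subgroup Ω) : ℕ → Subgroup Ω
  | 0 => ⊥
  | 1 => Z
  | _ + 2 => ⊤

/-! ### Essential subgroups -/

section Ess

variable {S : Subgroup Ω}

theorem essential_not_le_abelian {F : FusionSystem S} {p : ℕ} {A P : Subgroup Ω} (hA : AbIdx S A)
    (hP : F.IsEssential p P) (hPA : P ≠ A) : ¬ P ≤ A := by
  intro hle
  apply hPA
  apply le_antisymm hle
  have hc := hP.1.2 P (isConj_refl F hP.1.1)
  intro a ha
  apply hc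
  rw [mem_centralizerIn_iff]
  exact ⟨hA.le ha, fun y hy => hA.comm y (hle hy) a ha⟩

theorem essential_center_le {F : FusionSystem S} {p : ℕ} {P : Subgroup Ω}
    (hP : F.IsEssential p P) : S ⊓ Subgroup.centralizer (S : Set Ω) ≤ P := by
  intro z hz
  apply hP.1.2 P (isConj_refl F hP.1.1)
  rw [mem_centralizerIn_iff]
  exact ⟨(Subgroup.mem_inf.mp hz).1, fun y hy => center_commute hz (hP.1.1 hy)⟩

open scoped Pointwise in
theorem essential_core [Finite S] {p : ℕ} [Fact p.Prime] (hS : IsPGroup p S) {F : FusionSystem S}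
    (hF : F.IsSaturated p) {A P : Subgroup Ω} (hA : AbIdx S A) (hP : F.IsEssential p P)
    {K : Subgroup (MulAut P)}
    (hK : ∀ β ∈ F.autGroup P, ∀ g : normalizerIn S P, (g : Ω) ∉ P →
        β * conjAutHom S P g * β⁻¹ ∈ autInducedBy S P → β ∈ K)
    {β : MulAut P} (hβ : β ∈ F.autGroup P)
    {g g' : Ω} (hg : g ∈ normalizerIn S P) (hgA : g ∈ A) (hgP : g ∉ P)
    (hg' : g' ∈ normalizerIn S P) (hg'A : g' ∈ A) (hg'P : g' ∉ P)
    (h1 : ∀ y : P, ((β⁻¹ (y⁻¹ * conjAutHom S P ⟨g, hg⟩ y) : P) : Ω) ∈ A)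
    (h2 : ∀ y : P, ((β (y⁻¹ * conjAutHom S P ⟨g', hg'⟩ y) : P) : Ω) ∈ A) : β ∈ K := by
  have hPS : P ≤ S := hP.1.1
  haveI : Finite P := Finite.of_injective (Subgroup.inclusion hPS) (Subgroup.inclusion_injective hPS)
  obtain ⟨hfa, -, -⟩ := fa_receptive_of_fullyNormalized hS hF hP.2.1
  obtain ⟨-, R₀, hR₀⟩ := hfa
  -- the two automorphisms
  have hfix : ∀ y : P, (y : Ω) ∈ A → conjAutHom S P ⟨g, hg⟩ y = y := by
    intro y hy
    apply Subtype.ext
    rw [conjAutHom_apply]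
    exact hA.conj_fix hgA hy
  have hfix₀ : ∀ y : P, (y : Ω) ∈ A → conjAutHom S P ⟨g', hg'⟩ y = y := by
    intro y hy
    apply Subtype.ext
    rw [conjAutHom_apply]
    exact hA.conj_fix hg'A hy
  have hr : ∀ y : P, ((y⁻¹ * conjAutHom S P ⟨g, hg⟩ y : P) : Ω) ∈ A := by
    intro y
    have := hA.inv_mul_conj_mem hgA (hPS y.2)
    show (y : Ω)⁻¹ * ((conjAutHom S P ⟨g, hg⟩ y : P) : Ω) ∈ A
    rw [conjAutHom_apply]
    exact this
  have key : ∀ y : P, ∃ t : P, (t : Ω) ∈ A ∧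
      (β * conjAutHom S P ⟨g', hg'⟩ * β⁻¹) y = y * t := by
    intro y
    refine ⟨β ((β⁻¹ y)⁻¹ * conjAutHom S P ⟨g', hg'⟩ (β⁻¹ y)), h2 (β⁻¹ y), ?_⟩
    rw [MulAut.mul_apply, MulAut.mul_apply, map_mul, map_inv, MulAut.apply_inv_self,
      mul_inv_cancel_left]
  have hfix' : ∀ r : P, ((β⁻¹ r : P) : Ω) ∈ A →
      (β * conjAutHom S P ⟨g', hg'⟩ * β⁻¹) r = r := by
    intro r hr'
    rw [MulAut.mul_apply, MulAut.mul_apply, hfix₀ _ hr', MulAut.apply_inv_self]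
  have hcomm : conjAutHom S P ⟨g, hg⟩ * (β * conjAutHom S P ⟨g', hg'⟩ * β⁻¹) =
      (β * conjAutHom S P ⟨g', hg'⟩ * β⁻¹) * conjAutHom S P ⟨g, hg⟩ := by
    refine MulEquiv.ext fun y => ?_
    show conjAutHom S P ⟨g, hg⟩ ((β * conjAutHom S P ⟨g', hg'⟩ * β⁻¹) y) =
      (β * conjAutHom S P ⟨g', hg'⟩ * β⁻¹) (conjAutHom S P ⟨g, hg⟩ y)
    obtain ⟨t, htA, ht⟩ := key y
    have e2 : conjAutHom S P ⟨g, hg⟩ y = y * (y⁻¹ * conjAutHom S P ⟨g, hg⟩ y) := by
      rw [mul_inv_cancel_left]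
    have e3 := hfix' _ (h1 y)
    have e4 := hfix t htA
    have e5 : (y⁻¹ * conjAutHom S P ⟨g, hg⟩ y) * t = t * (y⁻¹ * conjAutHom S P ⟨g, hg⟩ y) :=
      Subtype.ext (hA.comm _ (hr y) _ htA)
    have lhs : conjAutHom S P ⟨g, hg⟩ ((β * conjAutHom S P ⟨g', hg'⟩ * β⁻¹) y) =
        y * ((y⁻¹ * conjAutHom S P ⟨g, hg⟩ y) * t) := by
      rw [ht, map_mul, e4, ← mul_assoc, mul_inv_cancel_left]
    have rhs : (β * conjAutHom S P ⟨g', hg'⟩ * β⁻¹) (conjAutHom S P ⟨g, hg⟩ y) =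
        y * (t * (y⁻¹ * conjAutHom S P ⟨g, hg⟩ y)) := by
      conv_lhs => rw [e2]
      rw [map_mul, e3, ht, mul_assoc]
    rw [lhs, rhs, e5]
  -- membership in `Aut_F(P)`
  have hαS : conjAutHom S P ⟨g, hg⟩ ∈ autInducedBy S P := by
    rw [← conjAutHom_range]; exact ⟨_, rfl⟩
  have hα₀S : conjAutHom S P ⟨g', hg'⟩ ∈ autInducedBy S P := by
    rw [← conjAutHom_range]; exact ⟨_, rfl⟩
  have hαΓ : conjAutHom S P ⟨g, hg⟩ ∈ F.autGroup P := autInducedBy_le_autGroup F hPS hαS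
  have hα₀Γ : conjAutHom S P ⟨g', hg'⟩ ∈ F.autGroup P := autInducedBy_le_autGroup F hPS hα₀S
  have hα'Γ : β * conjAutHom S P ⟨g', hg'⟩ * β⁻¹ ∈ F.autGroup P :=
    (F.autGroup P).mul_mem ((F.autGroup P).mul_mem hβ hα₀Γ) ((F.autGroup P).inv_mem hβ)
  have hc12 : Commute (⟨_, hαΓ⟩ : F.autGroup P) ⟨_, hα'Γ⟩ := Subtype.ext hcomm
  have hpS : IsPGroup p (autInducedBy S P) := isPGroup_autInducedBy hS P
  have hz : ∀ a : F.autGroup P, (∃ k : ℕ, a ^ p ^ k = 1) → IsPGroup p (Subgroup.zpowers a) := by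
    rintro a ⟨k, hk⟩ ⟨b, hb⟩
    obtain ⟨i, rfl⟩ := Subgroup.mem_zpowers_iff.mp hb
    refine ⟨k, Subtype.ext ?_⟩
    show (a ^ i) ^ p ^ k = 1
    rw [← zpow_natCast, ← zpow_mul, mul_comm, zpow_mul, zpow_natCast, hk, one_zpow]
  have hp1 : IsPGroup p (Subgroup.zpowers (⟨_, hαΓ⟩ : F.autGroup P)) := by
    apply hz
    obtain ⟨k, hk⟩ := hpS ⟨_, hαS⟩
    refine ⟨k, Subtype.ext ?_⟩
    have := congrArg Subtype.val hk
    simpa using this
  have hp2 : IsPGroup p (Subgroup.zpowers (⟨_, hα'Γ⟩ : F.autGroup P)) := by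
    apply hz
    obtain ⟨k, hk⟩ := hpS ⟨_, hα₀S⟩
    refine ⟨k, Subtype.ext ?_⟩
    have h3 : conjAutHom S P ⟨g', hg'⟩ ^ p ^ k = 1 := by
      have := congrArg Subtype.val hk
      simpa using this
    show (β * conjAutHom S P ⟨g', hg'⟩ * β⁻¹) ^ p ^ k = 1
    rw [conj_pow, h3, mul_one, mul_inv_cancel]
  have hnorm : Subgroup.zpowers (⟨_, hαΓ⟩ : F.autGroup P) ≤
      Subgroup.normalizer (Subgroup.zpowers (⟨_, hα'Γ⟩ : F.autGroup P)) := by
    rw [Subgroup.zpowers_le]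
    apply Subgroup.centralizer_le_normalizer
    rw [Subgroup.mem_centralizer_iff]
    intro h hh
    obtain ⟨i, rfl⟩ := Subgroup.mem_zpowers_iff.mp hh
    exact (hc12.zpow_right i).symm.eq
  have hH := IsPGroup.to_sup_of_normal_right' hp1 hp2 hnorm
  obtain ⟨R, hR⟩ := IsPGroup.exists_le_sylow hH
  obtain ⟨c, hc⟩ := MulAction.exists_smul_eq (F.autGroup P) R R₀
  have hmem : ∀ a ∈ Subgroup.zpowers (⟨_, hαΓ⟩ : F.autGroup P) ⊔
      Subgroup.zpowers (⟨_, hα'Γ⟩ : F.autGroup P),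
      ((c * a * c⁻¹ : F.autGroup P) : MulAut P) ∈ autInducedBy S P := by
    intro a ha
    have h3 := Subgroup.smul_mem_pointwise_smul _ (MulAut.conj c) _ (hR ha)
    rw [← Sylow.coe_subgroup_smul, hc, hR₀] at h3
    exact h3
  have hm1 := hmem _ (Subgroup.mem_sup_left (Subgroup.mem_zpowers _))
  have hm2 := hmem _ (Subgroup.mem_sup_right (Subgroup.mem_zpowers _))
  have hcK : (c : MulAut P) ∈ K := hK c c.2 ⟨g, hg⟩ hgP hm1
  have hcβK : (c : MulAut P) * β ∈ K := by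
    apply hK _ ((F.autGroup P).mul_mem c.2 hβ) ⟨g', hg'⟩ hg'P
    have h4 : (c : MulAut P) * β * conjAutHom S P ⟨g', hg'⟩ * ((c : MulAut P) * β)⁻¹ =
        (c : MulAut P) * (β * conjAutHom S P ⟨g', hg'⟩ * β⁻¹) * (c : MulAut P)⁻¹ := by group
    rw [h4]
    exact hm2
  have : β = (c : MulAut P)⁻¹ * ((c : MulAut P) * β) := by group
  rw [this]
  exact K.mul_mem (K.inv_mem hcK) hcβK

/-- an element of `N_S(P) ∩ A` outside `P` -/
theorem exists_mem_normalizerIn_inf {A P : Subgroup Ω} (hA : AbIdx S A) (hPS : P ≤ S) {x : Ω}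
    (hx : x ∈ P) (hxA : x ∉ A) {g₀ : Ω} (hg₀ : g₀ ∈ normalizerIn S P) (hg₀P : g₀ ∉ P) :
    ∃ g ∈ normalizerIn S P, g ∈ A ∧ g ∉ P := by
  obtain ⟨a, ha, k, hk⟩ := hA.dec x (hPS hx) hxA g₀ hg₀.1
  have hxk : x ^ k ∈ P := P.zpow_mem hx k
  have h1 : a = g₀ * (x ^ k)⁻¹ := by rw [hk]; group
  refine ⟨a, ?_, ha, ?_⟩
  · rw [h1]
    exact (normalizerIn S P).mul_mem hg₀ ((normalizerIn S P).inv_mem (le_normalizerIn hPS hxk))
  · intro haP
    apply hg₀P
    rw [hk]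
    exact P.mul_mem haP hxk

/-- an automorphism outside `K` moves `P ∩ A` -/
theorem essential_exists_moved [Finite S] {p : ℕ} [Fact p.Prime] (hS : IsPGroup p S)
    {F : FusionSystem S} (hF : F.IsSaturated p) {A P : Subgroup Ω} (hA : AbIdx S A)
    (hP : F.IsEssential p P) {K : Subgroup (MulAut P)}
    (hK : ∀ β ∈ F.autGroup P, ∀ g : normalizerIn S P, (g : Ω) ∉ P →
        β * conjAutHom S P g * β⁻¹ ∈ autInducedBy S P → β ∈ K)
    {β : MulAut P} (hβ : β ∈ F.autGroup P) (hβK : β ∉ K)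
    {g : Ω} (hg : g ∈ normalizerIn S P) (hgA : g ∈ A) (hgP : g ∉ P) :
    ∃ a : P, (a : Ω) ∈ A ∧ ((β a : P) : Ω) ∉ A := by
  have hPS : P ≤ S := hP.1.1
  haveI : Finite P := Finite.of_injective (Subgroup.inclusion hPS) (Subgroup.inclusion_injective hPS)
  by_contra hcon
  push Not at hcon
  apply hβK
  -- `β⁻¹` also preserves `P ∩ A`
  have hinv' : ∀ a : P, (a : Ω) ∈ A → ((β⁻¹ a : P) : Ω) ∈ A := by
    let f : {a : P // (a : Ω) ∈ A} → {a : P // (a : Ω) ∈ A} := fun a => ⟨β a.1, hcon a.1 a.2⟩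
    have hf : Function.Injective f := by
      intro a b hab
      have h3 : β a.1 = β b.1 := congrArg Subtype.val hab
      exact Subtype.ext ((β : P ≃* P).injective h3)
    have hsurj := Finite.surjective_of_injective hf
    intro a ha
    obtain ⟨b, hb⟩ := hsurj ⟨a, ha⟩
    have h3 : β b.1 = a := congrArg Subtype.val hb
    rw [← h3, MulAut.inv_apply_self]
    exact b.2
  have hr : ∀ y : P, ((y⁻¹ * conjAutHom S P ⟨g, hg⟩ y : P) : Ω) ∈ A := by
    intro y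
    have := hA.inv_mul_conj_mem hgA (hPS y.2)
    show (y : Ω)⁻¹ * ((conjAutHom S P ⟨g, hg⟩ y : P) : Ω) ∈ A
    rw [conjAutHom_apply]
    exact this
  exact essential_core hS hF hA hP hK hβ hg hgA hgP hg hgA hgP (fun y => hinv' _ (hr y))
    (fun y => hcon _ (hr y))

/-- `|N_A(P) : P ∩ A| = p` for an essential subgroup `P ≠ A` -/
theorem essential_index_inf [Finite S] {p : ℕ} [Fact p.Prime] (hS : IsPGroup p S)
    {F : FusionSystem S} (hF : F.IsSaturated p) {A P : Subgroup Ω} (hA : AbIdx S A)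
    (hAidx : (A.subgroupOf S).index = p) (hP : F.IsEssential p P) (hPA : P ≠ A) :
    ((P ⊓ A).subgroupOf (normalizerIn S P ⊓ A)).index = p := by
  have hPS : P ≤ S := hP.1.1
  haveI : Finite P := Finite.of_injective (Subgroup.inclusion hPS) (Subgroup.inclusion_injective hPS)
  obtain ⟨K, -, ⟨β, hβ, hβK⟩, -, ⟨g₀, hg₀, hg₀P⟩, hK⟩ := essential_exists_subgroup hS hF hP
  have hnle := essential_not_le_abelian hA hP hPA
  obtain ⟨x, hx, hxA⟩ : ∃ x ∈ P, x ∉ A := by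
    by_contra hcon
    push Not at hcon
    exact hnle hcon
  obtain ⟨g₁, hg₁, hg₁A, hg₁P⟩ := exists_mem_normalizerIn_inf hA hPS hx hxA hg₀ hg₀P
  -- the subgroup `P ∩ A` of `P`
  have hP₀n : ((P ⊓ A).subgroupOf P).Normal := by
    constructor
    intro a ha y
    rw [Subgroup.mem_subgroupOf] at ha ⊢
    exact Subgroup.mem_inf.mpr ⟨(y * a * y⁻¹).2, hA.conj y (hPS y.2) a (Subgroup.mem_inf.mp ha).2⟩
  have hP₀idx : ((P ⊓ A).subgroupOf P).index = p := by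
    have h1 : (P ⊓ A).relIndex P = A.relIndex P := Subgroup.inf_relIndex_left _ _
    have h2 := relIndex_eq_prime_of_not_le hA.normal hAidx hPS hnle
    rw [h2] at h1
    exact h1
  -- images of `P ∩ A`
  have hMn : ∀ γ : MulAut P, (((P ⊓ A).subgroupOf P).map (γ : P ≃* P).toMonoidHom).Normal :=
    fun γ => Subgroup.Normal.map hP₀n _ (γ : P ≃* P).surjective
  have hMidx : ∀ γ : MulAut P, (((P ⊓ A).subgroupOf P).map (γ : P ≃* P).toMonoidHom).index = p := by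
    intro γ
    rw [Subgroup.index_map_of_bijective (γ : P ≃* P).bijective, hP₀idx]
  have hMmem : ∀ γ : MulAut P, ∀ r : P, r ∈ ((P ⊓ A).subgroupOf P).map (γ : P ≃* P).toMonoidHom →
      ((γ⁻¹ r : P) : Ω) ∈ A := by
    rintro γ r ⟨a, ha, rfl⟩
    have ha : a ∈ (P ⊓ A).subgroupOf P := ha
    rw [Subgroup.mem_subgroupOf] at ha
    have : γ⁻¹ ((γ : P ≃* P).toMonoidHom a) = a := MulAut.inv_apply_self _ _ _
    rw [this]
    exact (Subgroup.mem_inf.mp ha).2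
  -- the commutator homomorphism
  let Φ : ↥(normalizerIn S P ⊓ A) →* ↥P :=
    { toFun := fun g => ⟨x⁻¹ * ((g : Ω) * x * (g : Ω)⁻¹),
        P.mul_mem (P.inv_mem hx) (conj_mem_of_mem_normalizerIn (Subgroup.mem_inf.mp g.2).1 hx)⟩
      map_one' := by
        apply Subtype.ext
        simp
      map_mul' := by
        intro g h
        apply Subtype.ext
        show x⁻¹ * (((g : Ω) * (h : Ω)) * x * ((g : Ω) * (h : Ω))⁻¹) =
          x⁻¹ * ((g : Ω) * x * (g : Ω)⁻¹) * (x⁻¹ * ((h : Ω) * x * (h : Ω)⁻¹))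
        have c : (g : Ω)⁻¹ * (x⁻¹ * ((h : Ω) * x * (h : Ω)⁻¹)) =
            (x⁻¹ * ((h : Ω) * x * (h : Ω)⁻¹)) * (g : Ω)⁻¹ :=
          hA.comm _ (A.inv_mem (Subgroup.mem_inf.mp g.2).2) _
            (hA.inv_mul_conj_mem (Subgroup.mem_inf.mp h.2).2 (hPS hx))
        calc x⁻¹ * (((g : Ω) * (h : Ω)) * x * ((g : Ω) * (h : Ω))⁻¹)
            = x⁻¹ * (g : Ω) * x * ((x⁻¹ * ((h : Ω) * x * (h : Ω)⁻¹)) * (g : Ω)⁻¹) := by group
          _ = x⁻¹ * (g : Ω) * x * ((g : Ω)⁻¹ * (x⁻¹ * ((h : Ω) * x * (h : Ω)⁻¹))) := by rw [c]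
          _ = x⁻¹ * ((g : Ω) * x * (g : Ω)⁻¹) * (x⁻¹ * ((h : Ω) * x * (h : Ω)⁻¹)) := by group }
  -- if `Φ g ∈ M` then `y⁻¹ c_g(y) ∈ M` for all `y`
  have hall : ∀ (M : Subgroup P) [M.Normal] (g : ↥(normalizerIn S P ⊓ A)), Φ g ∈ M →
      ∀ y : P, y⁻¹ * conjAutHom S P ⟨g, (Subgroup.mem_inf.mp g.2).1⟩ y ∈ M := by
    intro M _ g hgM y
    have hxm : (⟨x, hx⟩ : P) ∈ fixMod M (conjAutHom S P ⟨g, (Subgroup.mem_inf.mp g.2).1⟩) := by
      rw [mem_fixMod]
      have : (⟨x, hx⟩ : P)⁻¹ * conjAutHom S P ⟨g, (Subgroup.mem_inf.mp g.2).1⟩ ⟨x, hx⟩ = Φ g := by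
        apply Subtype.ext
        rfl
      rw [this]
      exact hgM
    obtain ⟨a, ha, k, hk⟩ := hA.dec_inf hPS hx hxA y.2
    have ham : (⟨a, (Subgroup.mem_inf.mp ha).1⟩ : P) ∈
        fixMod M (conjAutHom S P ⟨g, (Subgroup.mem_inf.mp g.2).1⟩) := by
      rw [mem_fixMod]
      have : conjAutHom S P ⟨g, (Subgroup.mem_inf.mp g.2).1⟩ ⟨a, (Subgroup.mem_inf.mp ha).1⟩ =
          ⟨a, (Subgroup.mem_inf.mp ha).1⟩ := by
        apply Subtype.ext
        rw [conjAutHom_apply]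
        exact hA.conj_fix (Subgroup.mem_inf.mp g.2).2 (Subgroup.mem_inf.mp ha).2
      rw [this, inv_mul_cancel]
      exact M.one_mem
    have hy : y = ⟨a, (Subgroup.mem_inf.mp ha).1⟩ * (⟨x, hx⟩ : P) ^ k := by
      apply Subtype.ext
      rw [hk]
      simp
    have := (fixMod M (conjAutHom S P ⟨g, (Subgroup.mem_inf.mp g.2).1⟩)).mul_mem ham
      ((fixMod M (conjAutHom S P ⟨g, (Subgroup.mem_inf.mp g.2).1⟩)).zpow_mem hxm k)
    rw [← hy, mem_fixMod] at this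
    exact this
  have hdiv : ∀ (M : Subgroup P) [M.Normal], M.index = p →
      (∀ g : ↥(normalizerIn S P ⊓ A), Φ g ∈ M → (g : Ω) ∈ P) →
      ((P ⊓ A).subgroupOf (normalizerIn S P ⊓ A)).index ∣ p := by
    intro M _ hMi hno
    have h1 : M.comap Φ ≤ (P ⊓ A).subgroupOf (normalizerIn S P ⊓ A) := by
      intro g hg
      rw [Subgroup.mem_subgroupOf]
      exact Subgroup.mem_inf.mpr ⟨hno g hg, (Subgroup.mem_inf.mp g.2).2⟩
    have h2 := Subgroup.index_dvd_of_le h1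
    have h3 : (M.comap Φ).index ∣ p := by
      rw [Subgroup.index_comap, ← hMi]
      exact Subgroup.relIndex_dvd_index_of_normal _ _
    exact dvd_trans h2 h3
  by_contra hne
  have hex : ∀ (M : Subgroup P) [M.Normal], M.index = p →
      ∃ g : ↥(normalizerIn S P ⊓ A), Φ g ∈ M ∧ (g : Ω) ∉ P := by
    intro M _ hMi
    by_contra hcon
    push Not at hcon
    have h1 := hdiv M hMi hcon
    rcases (Nat.dvd_prime (Fact.out : p.Prime)).mp h1 with h2 | h2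
    · rw [Subgroup.index_eq_one] at h2
      have h3 : (⟨g₁, Subgroup.mem_inf.mpr ⟨hg₁, hg₁A⟩⟩ : ↥(normalizerIn S P ⊓ A)) ∈
          (P ⊓ A).subgroupOf (normalizerIn S P ⊓ A) := by rw [h2]; trivial
      rw [Subgroup.mem_subgroupOf] at h3
      exact hg₁P (Subgroup.mem_inf.mp h3).1
    · exact hne h2
  haveI := hMn β
  haveI := hMn β⁻¹
  obtain ⟨g, hgM, hgP⟩ := hex _ (hMidx β)
  obtain ⟨g', hg'M, hg'P⟩ := hex _ (hMidx β⁻¹)
  apply hβK
  refine essential_core hS hF hA hP hK hβ (Subgroup.mem_inf.mp g.2).1 (Subgroup.mem_inf.mp g.2).2 hgP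
    (Subgroup.mem_inf.mp g'.2).1 (Subgroup.mem_inf.mp g'.2).2 hg'P ?_ ?_
  · intro y
    exact hMmem β _ (hall _ g hgM y)
  · intro y
    have := hMmem β⁻¹ _ (hall _ g' hg'M y)
    rw [inv_inv] at this
    exact this

/-- `|N_S(P) : P| = p` for an essential subgroup `P ≠ A` -/
theorem essential_index_normalizer [Finite S] {p : ℕ} [Fact p.Prime] (hS : IsPGroup p S)
    {F : FusionSystem S} (hF : F.IsSaturated p) {A P : Subgroup Ω} (hA : AbIdx S A)
    (hAidx : (A.subgroupOf S).index = p) (hP : F.IsEssential p P) (hPA : P ≠ A) :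
    (P.subgroupOf (normalizerIn S P)).index = p := by
  have hPS : P ≤ S := hP.1.1
  have hnle := essential_not_le_abelian hA hP hPA
  obtain ⟨x, hx, hxA⟩ : ∃ x ∈ P, x ∉ A := by
    by_contra hcon
    push Not at hcon
    exact hnle hcon
  have hPN : P ≤ normalizerIn S P := le_normalizerIn hPS
  haveI hKn : (P.subgroupOf (normalizerIn S P)).Normal := by
    constructor
    intro a ha n
    rw [Subgroup.mem_subgroupOf] at ha ⊢
    exact conj_mem_of_mem_normalizerIn n.2 ha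
  have h1 := Subgroup.relIndex_sup_right ((normalizerIn S P ⊓ A).subgroupOf (normalizerIn S P))
    (P.subgroupOf (normalizerIn S P))
  have htop : (normalizerIn S P ⊓ A).subgroupOf (normalizerIn S P) ⊔
      P.subgroupOf (normalizerIn S P) = ⊤ := by
    rw [eq_top_iff]
    intro n _
    obtain ⟨a, ha, k, hk⟩ := hA.dec x (hPS hx) hxA n n.2.1
    have hxk : x ^ k ∈ P := P.zpow_mem hx k
    have h2 : a = (n : Ω) * (x ^ k)⁻¹ := by rw [hk]; group
    have haN : a ∈ normalizerIn S P := by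
      rw [h2]
      exact (normalizerIn S P).mul_mem n.2 ((normalizerIn S P).inv_mem (hPN hxk))
    have h3 : n = (⟨a, haN⟩ : normalizerIn S P) * ⟨x ^ k, hPN hxk⟩ := Subtype.ext hk
    rw [h3]
    apply Subgroup.mul_mem_sup
    · rw [Subgroup.mem_subgroupOf]; exact Subgroup.mem_inf.mpr ⟨haN, ha⟩
    · rw [Subgroup.mem_subgroupOf]; exact hxk
  rw [htop, Subgroup.relIndex_top_right, Subgroup.relIndex_subgroupOf inf_le_left,
    ← Subgroup.inf_relIndex_right] at h1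
  have h4 : P ⊓ (normalizerIn S P ⊓ A) = P ⊓ A := by
    apply le_antisymm
    · exact inf_le_inf_left _ inf_le_right
    · exact le_inf inf_le_left (le_inf (inf_le_left.trans hPN) inf_le_right)
  rw [h4] at h1
  rw [h1]
  exact essential_index_inf hS hF hA hAidx hP hPA

theorem AbIdx.comm_mul_zpow {A : Subgroup Ω} (h : AbIdx S A) {a a' x : Ω} (ha : a ∈ A) (ha' : a' ∈ A)
    (hx : x ∈ S) (k : ℤ) :
    a * (a' * x ^ k) * a⁻¹ * (a' * x ^ k)⁻¹ = a * x ^ k * a⁻¹ * (x ^ k)⁻¹ := by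
  have hqa : a * (x ^ k * a⁻¹ * (x ^ k)⁻¹) ∈ A :=
    A.mul_mem ha (h.conj _ (S.zpow_mem hx k) _ (A.inv_mem ha))
  calc a * (a' * x ^ k) * a⁻¹ * (a' * x ^ k)⁻¹
      = (a * a') * (x ^ k * a⁻¹ * (x ^ k)⁻¹) * a'⁻¹ := by group
    _ = (a' * a) * (x ^ k * a⁻¹ * (x ^ k)⁻¹) * a'⁻¹ := by rw [h.comm a ha a' ha']
    _ = a' * (a * (x ^ k * a⁻¹ * (x ^ k)⁻¹)) * a'⁻¹ := by group
    _ = a * (x ^ k * a⁻¹ * (x ^ k)⁻¹) := h.conj_fix ha' hqa
    _ = a * x ^ k * a⁻¹ * (x ^ k)⁻¹ := by group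

/-- if `Z₂(S)` is not contained in `A` then `A ≤ Z₂(S)` -/
theorem AbIdx.le_ucs_two_of_not_le {A : Subgroup Ω} (h : AbIdx S A)
    (hcon : ¬ (Subgroup.upperCentralSeries ↥S 2).map S.subtype ≤ A) :
    A ≤ (Subgroup.upperCentralSeries ↥S 2).map S.subtype := by
  obtain ⟨x', hx'Z₂, hx'A⟩ := SetLike.not_le_iff_exists.mp hcon
  have hx'S : x' ∈ S := by
    obtain ⟨s, -, rfl⟩ := hx'Z₂
    exact s.2
  intro a haA
  rw [mem_ucs_two_iff (h.le haA)]
  intro t ht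
  obtain ⟨a', ha', k, rfl⟩ := h.dec x' hx'S hx'A t ht
  rw [h.comm_mul_zpow haA ha' hx'S k]
  have hxk : x' ^ k ∈ (Subgroup.upperCentralSeries ↥S 2).map S.subtype :=
    Subgroup.zpow_mem _ hx'Z₂ k
  have h1 := (mem_ucs_two_iff (S.zpow_mem hx'S k)).mp hxk a⁻¹ (S.inv_mem (h.le haA))
  have h2 : a * x' ^ k * a⁻¹ * (x' ^ k)⁻¹ = a * (x' ^ k * a⁻¹ * (x' ^ k)⁻¹ * a⁻¹⁻¹) * a⁻¹ := by group
  rw [h2, center_commute h1 (h.le haA), mul_inv_cancel_right]
  exact h1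

/-- The structure of an essential subgroup `P ≠ A`: either `P ∩ A = Z(S)`, or `Z₂(S) ≤ A`,
`P ∩ A = Z₂(S)` and `|Z₂(S) : Z(S)| = p`. -/
theorem essential_structure [Finite S] {p : ℕ} [Fact p.Prime] (hS : IsPGroup p S)
    {F : FusionSystem S} (hF : F.IsSaturated p) {A P : Subgroup Ω} (hA : AbIdx S A)
    (hAidx : (A.subgroupOf S).index = p) (hP : F.IsEssential p P) (hPA : P ≠ A) :
    (∀ a ∈ P ⊓ A, a ∈ S ⊓ Subgroup.centralizer (S : Set Ω)) ∨
    ((Subgroup.upperCentralSeries ↥S 2).map S.subtype ≤ A ∧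
      P ⊓ A = (Subgroup.upperCentralSeries ↥S 2).map S.subtype ∧
      ((S ⊓ Subgroup.centralizer (S : Set Ω)).subgroupOf (P ⊓ A)).index = p) := by
  have hPS : P ≤ S := hP.1.1
  haveI : Finite P := Finite.of_injective (Subgroup.inclusion hPS) (Subgroup.inclusion_injective hPS)
  by_cases hab : ∀ a ∈ P ⊓ A, a ∈ S ⊓ Subgroup.centralizer (S : Set Ω)
  · exact Or.inl hab
  right
  push Not at hab
  obtain ⟨a₁, ha₁, ha₁Z⟩ := hab
  obtain ⟨K, -, ⟨β, hβ, hβK⟩, -, ⟨g₀, hg₀, hg₀P⟩, hK⟩ := essential_exists_subgroup hS hF hP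
  have hnle := essential_not_le_abelian hA hP hPA
  obtain ⟨x, hx, hxA⟩ : ∃ x ∈ P, x ∉ A := by
    by_contra hcon
    push Not at hcon
    exact hnle hcon
  obtain ⟨g₁, hg₁, hg₁A, hg₁P⟩ := exists_mem_normalizerIn_inf hA hPS hx hxA hg₀ hg₀P
  have hZP : S ⊓ Subgroup.centralizer (S : Set Ω) ≤ P := essential_center_le hP
  have hZA : S ⊓ Subgroup.centralizer (S : Set Ω) ≤ A := hA.center_le
  -- the centre of `P` lies in `Z(S)`
  have hcen : ∀ y ∈ P, (∀ y' ∈ P, y * y' = y' * y) → y ∈ S ⊓ Subgroup.centralizer (S : Set Ω) := by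
    intro y hy hyc
    by_cases hyA : y ∈ A
    · exact hA.mem_center_of_comm (hPS hx) hxA hyA (hyc x hx)
    · exfalso
      apply ha₁Z
      obtain ⟨a', ha', k, hk⟩ := hA.dec_inf hPS hy hyA hx
      apply hA.mem_center_of_comm (hPS hx) hxA (Subgroup.mem_inf.mp ha₁).2
      rw [hk]
      have c1 : Commute a₁ a' := hA.comm a₁ (Subgroup.mem_inf.mp ha₁).2 a' (Subgroup.mem_inf.mp ha').2
      have c2 : Commute a₁ (y ^ k) :=
        Commute.zpow_right (show Commute a₁ y from (hyc a₁ (Subgroup.mem_inf.mp ha₁).1).symm) k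
      exact c1.mul_right c2
  -- automorphisms of `P` preserve `Z(S)`
  have hautZ : ∀ γ : MulAut P, ∀ z : P, (z : Ω) ∈ S ⊓ Subgroup.centralizer (S : Set Ω) →
      ((γ z : P) : Ω) ∈ S ⊓ Subgroup.centralizer (S : Set Ω) := by
    intro γ z hz
    apply hcen _ (γ z).2
    intro y' hy'
    have h1 : z * (γ⁻¹ ⟨y', hy'⟩) = (γ⁻¹ ⟨y', hy'⟩) * z :=
      Subtype.ext (center_commute hz (hPS (γ⁻¹ ⟨y', hy'⟩).2)).symm
    have h2 := congrArg γ h1
    rw [map_mul, map_mul, MulAut.apply_inv_self] at h2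
    exact congrArg Subtype.val h2
  -- moved elements
  have hβ' : β⁻¹ ∈ F.autGroup P := (F.autGroup P).inv_mem hβ
  have hβK' : β⁻¹ ∉ K := fun h => hβK (by simpa using K.inv_mem h)
  obtain ⟨a₀, ha₀A, hb⟩ := essential_exists_moved hS hF hA hP hK hβ hβK hg₁ hg₁A hg₁P
  obtain ⟨a₂, ha₂A, hb₂⟩ := essential_exists_moved hS hF hA hP hK hβ' hβK' hg₁ hg₁A hg₁P
  have hclA : ∀ c : P, (c : Ω) ∈ A → ((β⁻¹ c : P) : Ω) ∈ A →
      (c : Ω) ∈ S ⊓ Subgroup.centralizer (S : Set Ω) := by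
    intro c hcA hcA'
    apply hA.mem_center_of_comm (hPS hx) hxA hcA
    obtain ⟨a', ha', k, hk⟩ := hA.dec_inf hPS (β a₀).2 hb hx
    rw [hk]
    have c1 : Commute (c : Ω) a' := hA.comm _ hcA _ (Subgroup.mem_inf.mp ha').2
    have c2 : Commute (c : Ω) ((β a₀ : P) : Ω) := by
      have h1 : (β⁻¹ c) * a₀ = a₀ * (β⁻¹ c) := Subtype.ext (hA.comm _ hcA' _ ha₀A)
      have h2 := congrArg β h1
      rw [map_mul, map_mul, MulAut.apply_inv_self] at h2
      exact congrArg Subtype.val h2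
    exact c1.mul_right (c2.zpow_right k)
  -- subgroups of `P`
  have hP₀n : ((P ⊓ A).subgroupOf P).Normal := by
    constructor
    intro a ha y
    rw [Subgroup.mem_subgroupOf] at ha ⊢
    exact Subgroup.mem_inf.mpr ⟨(y * a * y⁻¹).2, hA.conj y (hPS y.2) a (Subgroup.mem_inf.mp ha).2⟩
  have hP₀idx : ((P ⊓ A).subgroupOf P).index = p := by
    have h1 : (P ⊓ A).relIndex P = A.relIndex P := Subgroup.inf_relIndex_left _ _
    have h2 := relIndex_eq_prime_of_not_le hA.normal hAidx hPS hnle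
    rw [h2] at h1
    exact h1
  haveI hMn : (((P ⊓ A).subgroupOf P).map (β : P ≃* P).toMonoidHom).Normal :=
    Subgroup.Normal.map hP₀n _ (β : P ≃* P).surjective
  have hMidx : (((P ⊓ A).subgroupOf P).map (β : P ≃* P).toMonoidHom).index = p := by
    rw [Subgroup.index_map_of_bijective (β : P ≃* P).bijective, hP₀idx]
  have hZeq : (S ⊓ Subgroup.centralizer (S : Set Ω)).subgroupOf P =
      (P ⊓ A).subgroupOf P ⊓ ((P ⊓ A).subgroupOf P).map (β : P ≃* P).toMonoidHom := by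
    ext c
    rw [Subgroup.mem_inf, Subgroup.mem_subgroupOf, Subgroup.mem_subgroupOf]
    constructor
    · intro hc
      refine ⟨Subgroup.mem_inf.mpr ⟨c.2, hZA hc⟩, β⁻¹ c, ?_, MulAut.apply_inv_self _ _ _⟩
      show β⁻¹ c ∈ (P ⊓ A).subgroupOf P
      rw [Subgroup.mem_subgroupOf]
      exact Subgroup.mem_inf.mpr ⟨(β⁻¹ c).2, hZA (hautZ β⁻¹ c hc)⟩
    · rintro ⟨hc1, a, ha, rfl⟩
      apply hclA _ (Subgroup.mem_inf.mp hc1).2
      have : β⁻¹ ((β : P ≃* P).toMonoidHom a) = a := MulAut.inv_apply_self _ _ _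
      rw [this]
      have ha : a ∈ (P ⊓ A).subgroupOf P := ha
      rw [Subgroup.mem_subgroupOf] at ha
      exact (Subgroup.mem_inf.mp ha).2
  have hidxZ : ((S ⊓ Subgroup.centralizer (S : Set Ω)).subgroupOf (P ⊓ A)).index = p := by
    have h1 : ((S ⊓ Subgroup.centralizer (S : Set Ω)).subgroupOf P).relIndex ((P ⊓ A).subgroupOf P) =
        (S ⊓ Subgroup.centralizer (S : Set Ω)).relIndex (P ⊓ A) :=
      Subgroup.relIndex_subgroupOf inf_le_left
    rw [hZeq, Subgroup.inf_relIndex_left] at h1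
    have h2 : (((P ⊓ A).subgroupOf P).map (β : P ≃* P).toMonoidHom).relIndex ((P ⊓ A).subgroupOf P) ∣
        (((P ⊓ A).subgroupOf P).map (β : P ≃* P).toMonoidHom).index :=
      Subgroup.relIndex_dvd_index_of_normal _ _
    rw [hMidx] at h2
    rcases (Nat.dvd_prime (Fact.out : p.Prime)).mp h2 with h3 | h3
    · exfalso
      rw [Subgroup.relIndex_eq_one] at h3
      have h4 : a₂ ∈ (P ⊓ A).subgroupOf P := by
        rw [Subgroup.mem_subgroupOf]; exact Subgroup.mem_inf.mpr ⟨a₂.2, ha₂A⟩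
      obtain ⟨a, ha, hae⟩ := h3 h4
      apply hb₂
      have h5 : β⁻¹ a₂ = a := by
        rw [← hae]; exact MulAut.inv_apply_self _ _ _
      rw [h5]
      have ha : a ∈ (P ⊓ A).subgroupOf P := ha
      rw [Subgroup.mem_subgroupOf] at ha
      exact (Subgroup.mem_inf.mp ha).2
    · rw [h3] at h1
      exact h1.symm
  -- `P ∩ A ≤ Z₂(S)`
  have hclC : P ⊓ A ≤ (Subgroup.upperCentralSeries ↥S 2).map S.subtype := by
    intro a ha
    have haP := (Subgroup.mem_inf.mp ha).1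
    have haA := (Subgroup.mem_inf.mp ha).2
    rw [mem_ucs_two_iff (hPS haP)]
    intro t ht
    obtain ⟨a', ha', k, rfl⟩ := hA.dec x (hPS hx) hxA t ht
    have hxk : x ^ k ∈ P := P.zpow_mem hx k
    rw [hA.comm_mul_zpow haA ha' (hPS hx) k]
    have h1 := commutator_mem_of_index_prime hP₀idx (⟨a, haP⟩ : P) ⟨x ^ k, hxk⟩
    have h2 := commutator_mem_of_index_prime hMidx (⟨a, haP⟩ : P) ⟨x ^ k, hxk⟩
    have h3 : (⟨a, haP⟩ : P) * ⟨x ^ k, hxk⟩ * (⟨a, haP⟩ : P)⁻¹ * (⟨x ^ k, hxk⟩ : P)⁻¹ ∈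
        (S ⊓ Subgroup.centralizer (S : Set Ω)).subgroupOf P := by
      rw [hZeq]; exact Subgroup.mem_inf.mpr ⟨h1, h2⟩
    rw [Subgroup.mem_subgroupOf] at h3
    exact h3
  -- `Z₂(S) ∩ A ≤ P`
  have hrad := Cfsg.Agent.S5080.result p hS F hF P hP
  have hclD : ∀ a ∈ (Subgroup.upperCentralSeries ↥S 2).map S.subtype, a ∈ A → a ∈ P := by
    intro a haZ₂ haA
    have haS : a ∈ S := hA.le haA
    have hcomm := (mem_ucs_two_iff haS).mp haZ₂
    have haN : a ∈ normalizerIn S P := by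
      refine ⟨haS, ?_⟩
      apply mem_normalizer_of_conj_mem
      intro y hy
      have h1 := hZP (hcomm y (hPS hy))
      have h2 : a * y * a⁻¹ = (a * y * a⁻¹ * y⁻¹) * y := by group
      rw [h2]; exact P.mul_mem h1 hy
    refine mem_of_stabilizes_chain hS hP.1 hrad (chainZ (S ⊓ Subgroup.centralizer (S : Set Ω))) 2
      ?_ rfl ?_ haN ?_
    · intro j α _ y hy
      match j, hy with
      | 0, hy =>
        have : y = 1 := Subtype.ext (Subgroup.mem_bot.mp hy)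
        rw [this, map_one]; exact Subgroup.one_mem _
      | 1, hy => exact hautZ α y hy
      | (j + 2), _ => exact Subgroup.mem_top _
    · exact le_top
    · intro j hj y hy hyb
      match j, hj, hyb with
      | 0, _, hyb =>
        show y⁻¹ * (a * y * a⁻¹) ∈ (⊥ : Subgroup Ω)
        rw [Subgroup.mem_bot]
        have : a * y = y * a := center_commute hyb haS
        rw [this]; group
      | 1, _, _ =>
        show y⁻¹ * (a * y * a⁻¹) ∈ S ⊓ Subgroup.centralizer (S : Set Ω)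
        have h1 := hcomm y (hPS hy)
        have h2 : y⁻¹ * (a * y * a⁻¹) = y⁻¹ * (a * y * a⁻¹ * y⁻¹) * y := by group
        rw [h2, center_commute h1 (S.inv_mem (hPS hy)), inv_mul_cancel_right]
        exact h1
      | (j + 2), hj, _ => exact absurd hj (by omega)
  -- `Z₂(S) ≤ A`
  have hclE : (Subgroup.upperCentralSeries ↥S 2).map S.subtype ≤ A := by
    by_contra hcon
    have hAZ₂ := hA.le_ucs_two_of_not_le hcon
    have hAP : A ≤ P := fun a ha => hclD a (hAZ₂ ha) ha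
    apply hg₀P
    obtain ⟨a, ha, k, hk⟩ := hA.dec x (hPS hx) hxA g₀ hg₀.1
    rw [hk]; exact P.mul_mem (hAP ha) (P.zpow_mem hx k)
  have hEq : P ⊓ A = (Subgroup.upperCentralSeries ↥S 2).map S.subtype :=
    le_antisymm hclC (fun a ha => Subgroup.mem_inf.mpr ⟨hclD a ha (hclE ha), hclE ha⟩)
  exact ⟨hclE, hEq, hidxZ⟩

/-- `P = (P ∩ A)⟨x⟩` -/
theorem AbIdx.eq_inf_sup_zpowers {A : Subgroup Ω} (h : AbIdx S A) {P : Subgroup Ω} (hPS : P ≤ S)
    {x : Ω} (hx : x ∈ P) (hxA : x ∉ A) : P = (P ⊓ A) ⊔ Subgroup.zpowers x := by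
  apply le_antisymm
  · intro y hy
    obtain ⟨a, ha, k, rfl⟩ := h.dec_inf hPS hx hxA hy
    exact Subgroup.mul_mem_sup ha (Subgroup.zpow_mem_zpowers x k)
  · exact sup_le inf_le_left (Subgroup.zpowers_le.mpr hx)

end Ess

end Cfsg.Agent.Lib.Helper27
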