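import Mathlib
import Cfsg.Agent.Lib.Helper27.AbelianIndexP

/-!
# `p`-groups with an abelian subgroup of index `p`: the commutator homomorphism

For `S = A⟨x⟩` with `A` abelian normal, `ψ(a) = [a, x]` is an endomorphism of `A` with kernel `Z(S)`
and image `S'`.
-/

set_option autoImplicit false

namespace Cfsg.Agent.Lib.Helper27

open Cfsg Cfsg.FusionSystem
open scoped commutatorElement

variable {Ω : Type*} [Group Ω] {S A : Subgroup Ω}

theorem card_mul_relIndex' {G : Type*} [Group G] {H K : Subgroup G} (h : H ≤ K) :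
    Nat.card H * H.relIndex K = Nat.card K := by
  rw [← Subgroup.relIndex_bot_left, ← Subgroup.relIndex_bot_left]
  exact Subgroup.relIndex_mul_relIndex _ _ _ bot_le h

theorem AbIdx.comm_elt_mem (h : AbIdx S A) {a x : Ω} (ha : a ∈ A) (hx : x ∈ S) :
    a * x * a⁻¹ * x⁻¹ ∈ A := by
  have h1 := h.conj x hx a⁻¹ (A.inv_mem ha)
  have h2 : a * x * a⁻¹ * x⁻¹ = a * (x * a⁻¹ * x⁻¹) := by group
  rw [h2]; exact A.mul_mem ha h1

/-- the commutator homomorphism `a ↦ [a, x]` of `A` -/
def commHom (h : AbIdx S A) {x : Ω} (hx : x ∈ S) : ↥A →* ↥A where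
  toFun a := ⟨(a : Ω) * x * (a : Ω)⁻¹ * x⁻¹, h.comm_elt_mem a.2 hx⟩
  map_one' := by
    apply Subtype.ext
    simp
  map_mul' := by
    intro a b
    apply Subtype.ext
    show ((a : Ω) * b) * x * ((a : Ω) * b)⁻¹ * x⁻¹ =
      ((a : Ω) * x * (a : Ω)⁻¹ * x⁻¹) * ((b : Ω) * x * (b : Ω)⁻¹ * x⁻¹)
    have hb := h.comm_elt_mem b.2 hx
    have ha := h.comm_elt_mem a.2 hx
    have c : (a : Ω) * ((b : Ω) * x * (b : Ω)⁻¹ * x⁻¹) = ((b : Ω) * x * (b : Ω)⁻¹ * x⁻¹) * (a : Ω) :=
      h.comm _ a.2 _ hb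
    have c2 := h.comm _ ha _ hb
    calc ((a : Ω) * b) * x * ((a : Ω) * b)⁻¹ * x⁻¹
        = ((a : Ω) * ((b : Ω) * x * (b : Ω)⁻¹ * x⁻¹)) * (x * (a : Ω)⁻¹ * x⁻¹) := by group
      _ = (((b : Ω) * x * (b : Ω)⁻¹ * x⁻¹) * (a : Ω)) * (x * (a : Ω)⁻¹ * x⁻¹) := by rw [c]
      _ = ((b : Ω) * x * (b : Ω)⁻¹ * x⁻¹) * ((a : Ω) * x * (a : Ω)⁻¹ * x⁻¹) := by group
      _ = _ := c2.symm

theorem commHom_apply (h : AbIdx S A) {x : Ω} (hx : x ∈ S) (a : A) :
    ((commHom h hx a : A) : Ω) = (a : Ω) * x * (a : Ω)⁻¹ * x⁻¹ := rfl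

theorem commHom_ker (h : AbIdx S A) {x : Ω} (hx : x ∈ S) (hxA : x ∉ A) :
    (commHom h hx).ker = (S ⊓ Subgroup.centralizer (S : Set Ω)).subgroupOf A := by
  ext a
  rw [MonoidHom.mem_ker, Subgroup.mem_subgroupOf]
  constructor
  · intro ha
    have h1 : (a : Ω) * x * (a : Ω)⁻¹ * x⁻¹ = 1 := congrArg Subtype.val ha
    apply h.mem_center_of_comm hx hxA a.2
    have : (a : Ω) * x = ((a : Ω) * x * (a : Ω)⁻¹ * x⁻¹) * (x * a) := by group
    rw [this, h1, one_mul]
  · intro ha
    apply Subtype.ext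
    show (a : Ω) * x * (a : Ω)⁻¹ * x⁻¹ = 1
    have := center_commute ha hx
    rw [← this]; group

theorem commHom_range [Finite S] (h : AbIdx S A) {x : Ω} (hx : x ∈ S) (hxA : x ∉ A) :
    (commHom h hx).range.map A.subtype = (commutator ↥S).map S.subtype := by
  apply le_antisymm
  · rintro _ ⟨_, ⟨a, rfl⟩, rfl⟩
    refine ⟨⁅(⟨a, h.le a.2⟩ : S), ⟨x, hx⟩⁆, ?_, rfl⟩
    rw [commutator_def]
    exact Subgroup.commutator_mem_commutator (Subgroup.mem_top _) (Subgroup.mem_top _)
  · have hRA : (commHom h hx).range.map A.subtype ≤ A := by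
      rintro _ ⟨b, -, rfl⟩
      exact b.2
    have hRS : (commHom h hx).range.map A.subtype ≤ S := hRA.trans h.le
    haveI : Finite ↥((commHom h hx).range.map A.subtype) :=
      Finite.of_injective (Subgroup.inclusion hRS) (Subgroup.inclusion_injective hRS)
    have hxn : x ∈ Subgroup.normalizer (((commHom h hx).range.map A.subtype : Subgroup Ω) : Set Ω) := by
      apply mem_normalizer_of_conj_mem
      rintro _ ⟨_, ⟨c, rfl⟩, rfl⟩
      refine ⟨commHom h hx ⟨x * c * x⁻¹, h.conj x hx c c.2⟩, ⟨_, rfl⟩, ?_⟩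
      show x * (c : Ω) * x⁻¹ * x * (x * (c : Ω) * x⁻¹)⁻¹ * x⁻¹ = x * ((c : Ω) * x * (c : Ω)⁻¹ * x⁻¹) * x⁻¹
      group
    have han : ∀ a ∈ A, a ∈ Subgroup.normalizer (((commHom h hx).range.map A.subtype : Subgroup Ω) : Set Ω) := by
      intro a ha
      apply mem_normalizer_of_conj_mem
      intro r hr
      rw [h.conj_fix ha (hRA hr)]
      exact hr
    have hSn : S ≤ Subgroup.normalizer (((commHom h hx).range.map A.subtype : Subgroup Ω) : Set Ω) := by
      intro s hs
      obtain ⟨a, ha, k, rfl⟩ := h.dec x hx hxA s hs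
      exact Subgroup.mul_mem _ (han a ha) (Subgroup.zpow_mem _ hxn k)
    haveI hNn : (((commHom h hx).range.map A.subtype).subgroupOf S).Normal :=
      (Subgroup.normal_subgroupOf_iff_le_normalizer hRS).mpr hSn
    rw [Subgroup.map_le_iff_le_comap, commutator_def, Subgroup.commutator_le]
    intro s _ t _
    show ⁅s, t⁆ ∈ ((commHom h hx).range.map A.subtype).subgroupOf S
    rw [← QuotientGroup.eq_one_iff, ← QuotientGroup.mk'_apply, map_commutatorElement,
      commutatorElement_eq_one_iff_commute]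
    have key1 : ∀ a ∈ A, ∀ b ∈ A, ∀ (ha' : a ∈ S) (hb' : b ∈ S),
        Commute (QuotientGroup.mk' (((commHom h hx).range.map A.subtype).subgroupOf S) ⟨a, ha'⟩)
          (QuotientGroup.mk' (((commHom h hx).range.map A.subtype).subgroupOf S) ⟨b, hb'⟩) := by
      intro a ha b hb ha' hb'
      apply Commute.map
      exact Subtype.ext (h.comm a ha b hb)
    have key2 : ∀ a ∈ A, ∀ (ha' : a ∈ S),
        Commute (QuotientGroup.mk' (((commHom h hx).range.map A.subtype).subgroupOf S) ⟨a, ha'⟩)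
          (QuotientGroup.mk' (((commHom h hx).range.map A.subtype).subgroupOf S) ⟨x, hx⟩) := by
      intro a ha ha'
      rw [← commutatorElement_eq_one_iff_commute, ← map_commutatorElement, QuotientGroup.mk'_apply,
        QuotientGroup.eq_one_iff, Subgroup.mem_subgroupOf]
      exact ⟨commHom h hx ⟨a, ha⟩, ⟨_, rfl⟩, rfl⟩
    obtain ⟨a, ha, i, hi⟩ := h.dec x hx hxA s s.2
    obtain ⟨b, hb, j, hj⟩ := h.dec x hx hxA t t.2
    have hs : s = (⟨a, h.le ha⟩ : S) * (⟨x, hx⟩ : S) ^ i := by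
      apply Subtype.ext; rw [hi]; simp
    have ht : t = (⟨b, h.le hb⟩ : S) * (⟨x, hx⟩ : S) ^ j := by
      apply Subtype.ext; rw [hj]; simp
    rw [hs, ht, map_mul, map_mul, map_zpow, map_zpow]
    have k1 := key1 a ha b hb (h.le ha) (h.le hb)
    have k2 := key2 a ha (h.le ha)
    have k3 := key2 b hb (h.le hb)
    exact (k1.mul_right (k2.zpow_right j)).mul_left
      ((k3.symm.zpow_left i).mul_right ((Commute.refl _).zpow_zpow i j))

/-- an element `a ∈ A` with `[a, x] ∈ Z(S)` lies in `Z₂(S)` -/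
theorem AbIdx.mem_ucs_two_of_comm_mem (h : AbIdx S A) {x a : Ω} (hx : x ∈ S) (hxA : x ∉ A)
    (ha : a ∈ A) (hz : a * x * a⁻¹ * x⁻¹ ∈ S ⊓ Subgroup.centralizer (S : Set Ω)) :
    a ∈ (Subgroup.upperCentralSeries ↥S 2).map S.subtype := by
  rw [mem_ucs_two_iff (h.le ha)]
  intro t ht
  obtain ⟨a', ha', k, rfl⟩ := h.dec x hx hxA t ht
  rw [h.comm_mul_zpow ha ha' hx k]
  have h1 : a * x * a⁻¹ = (a * x * a⁻¹ * x⁻¹) * x := by group
  have hc : Commute (a * x * a⁻¹ * x⁻¹) x := (center_commute hz hx).symm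
  have h2 : a * x ^ k * a⁻¹ = (a * x * a⁻¹ * x⁻¹) ^ k * x ^ k := by
    have e1 : a * x ^ k * a⁻¹ = (a * x * a⁻¹) ^ k := (conj_zpow).symm
    have e2 : (a * x * a⁻¹) ^ k = ((a * x * a⁻¹ * x⁻¹) * x) ^ k := congrArg (· ^ k) h1
    exact e1.trans (e2.trans (hc.mul_zpow k))
  have h3 : a * x ^ k * a⁻¹ * (x ^ k)⁻¹ = (a * x * a⁻¹ * x⁻¹) ^ k := by
    rw [h2, mul_inv_cancel_right]
  rw [h3]
  exact Subgroup.zpow_mem _ hz k

section Counting

variable [Finite S] {p : ℕ} [Fact p.Prime]

/-- `ψ(Z₂) = Z ∩ ψ(A)` inside `A` -/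
theorem commHom_map_ucs_two (h : AbIdx S A) {x : Ω} (hx : x ∈ S) (hxA : x ∉ A) :
    (((Subgroup.upperCentralSeries ↥S 2).map S.subtype).subgroupOf A).map (commHom h hx) =
      (S ⊓ Subgroup.centralizer (S : Set Ω)).subgroupOf A ⊓ (commHom h hx).range := by
  apply le_antisymm
  · rintro _ ⟨a, ha, rfl⟩
    have ha : a ∈ ((Subgroup.upperCentralSeries ↥S 2).map S.subtype).subgroupOf A := ha
    rw [Subgroup.mem_subgroupOf] at ha
    refine Subgroup.mem_inf.mpr ⟨?_, ⟨a, rfl⟩⟩
    rw [Subgroup.mem_subgroupOf]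
    exact (mem_ucs_two_iff (h.le a.2)).mp ha x hx
  · rintro c hc
    obtain ⟨hc1, a, rfl⟩ := Subgroup.mem_inf.mp hc
    rw [Subgroup.mem_subgroupOf] at hc1
    refine ⟨a, ?_, rfl⟩
    show a ∈ ((Subgroup.upperCentralSeries ↥S 2).map S.subtype).subgroupOf A
    rw [Subgroup.mem_subgroupOf]
    exact h.mem_ucs_two_of_comm_mem hx hxA a.2 hc1

/-- `|Z ∩ ψ(A)| = p` inside `A` -/
theorem card_center_inf_range (h : AbIdx S A) {x : Ω} (hx : x ∈ S) (hxA : x ∉ A)
    (hZ₂A : (Subgroup.upperCentralSeries ↥S 2).map S.subtype ≤ A)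
    (hidx : ((S ⊓ Subgroup.centralizer (S : Set Ω)).subgroupOf
      ((Subgroup.upperCentralSeries ↥S 2).map S.subtype)).index = p) :
    Nat.card ↥((S ⊓ Subgroup.centralizer (S : Set Ω)).subgroupOf A ⊓ (commHom h hx).range) = p := by
  rw [← commHom_map_ucs_two h hx hxA, ← Subgroup.relIndex_ker, commHom_ker h hx hxA,
    Subgroup.relIndex_subgroupOf hZ₂A]
  exact hidx

/-- `|Z(S) ∩ S'| = p` -/
theorem card_center_inf_commutator (h : AbIdx S A) {x : Ω} (hx : x ∈ S) (hxA : x ∉ A)
    (hZ₂A : (Subgroup.upperCentralSeries ↥S 2).map S.subtype ≤ A)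
    (hidx : ((S ⊓ Subgroup.centralizer (S : Set Ω)).subgroupOf
      ((Subgroup.upperCentralSeries ↥S 2).map S.subtype)).index = p) :
    Nat.card ↥((S ⊓ Subgroup.centralizer (S : Set Ω)) ⊓ (commutator ↥S).map S.subtype) = p := by
  have h1 := card_center_inf_range h hx hxA hZ₂A hidx
  have h2 : ((S ⊓ Subgroup.centralizer (S : Set Ω)).subgroupOf A ⊓ (commHom h hx).range).map A.subtype =
      (S ⊓ Subgroup.centralizer (S : Set Ω)) ⊓ (commutator ↥S).map S.subtype := by
    rw [Subgroup.map_inf _ _ _ A.subtype_injective, Subgroup.map_subgroupOf_eq_of_le h.center_le,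
      commHom_range h hx hxA]
  rw [← h2, Subgroup.card_map_of_injective A.subtype_injective]
  exact h1

/-- `|A : Z(S) S'| = p` -/
theorem index_center_sup_commutator (h : AbIdx S A) {x : Ω} (hx : x ∈ S) (hxA : x ∉ A)
    (hZ₂A : (Subgroup.upperCentralSeries ↥S 2).map S.subtype ≤ A)
    (hidx : ((S ⊓ Subgroup.centralizer (S : Set Ω)).subgroupOf
      ((Subgroup.upperCentralSeries ↥S 2).map S.subtype)).index = p) :
    (((S ⊓ Subgroup.centralizer (S : Set Ω)) ⊔ (commutator ↥S).map S.subtype).subgroupOf A).index = p := by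
  haveI : Finite A := Finite.of_injective (Subgroup.inclusion h.le) (Subgroup.inclusion_injective h.le)
  have hp := card_center_inf_range h hx hxA hZ₂A hidx
  have hker := commHom_ker h hx hxA
  have hS'A : (commutator ↥S).map S.subtype ≤ A := by
    rw [← commHom_range h hx hxA]
    rintro _ ⟨b, -, rfl⟩
    exact b.2
  have hR : ((commutator ↥S).map S.subtype).subgroupOf A = (commHom h hx).range := by
    rw [← commHom_range h hx hxA]
    exact Subgroup.comap_map_eq_self_of_injective A.subtype_injective _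
  rw [Subgroup.subgroupOf_sup h.center_le hS'A, hR]
  haveI hZn : ((S ⊓ Subgroup.centralizer (S : Set Ω)).subgroupOf A).Normal := by
    constructor
    intro z hz a
    have : a * z * a⁻¹ = z := by
      apply Subtype.ext
      exact h.conj_fix a.2 z.2
    rw [this]; exact hz
  -- `c = |R : R ∩ Z|`
  have e1 : Nat.card ↥((S ⊓ Subgroup.centralizer (S : Set Ω)).subgroupOf A ⊓ (commHom h hx).range) *
      ((S ⊓ Subgroup.centralizer (S : Set Ω)).subgroupOf A).relIndex (commHom h hx).range =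
      Nat.card (commHom h hx).range := by
    rw [← Subgroup.inf_relIndex_right]
    exact card_mul_relIndex' inf_le_right
  have e2 : ((S ⊓ Subgroup.centralizer (S : Set Ω)).subgroupOf A).relIndex
      ((commHom h hx).range ⊔ (S ⊓ Subgroup.centralizer (S : Set Ω)).subgroupOf A) =
      ((S ⊓ Subgroup.centralizer (S : Set Ω)).subgroupOf A).relIndex (commHom h hx).range :=
    Subgroup.relIndex_sup_right _ _
  have e3 : ((S ⊓ Subgroup.centralizer (S : Set Ω)).subgroupOf A).relIndex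
      ((commHom h hx).range ⊔ (S ⊓ Subgroup.centralizer (S : Set Ω)).subgroupOf A) *
      ((commHom h hx).range ⊔ (S ⊓ Subgroup.centralizer (S : Set Ω)).subgroupOf A).index =
      ((S ⊓ Subgroup.centralizer (S : Set Ω)).subgroupOf A).index :=
    Subgroup.relIndex_mul_index le_sup_right
  have e4 : ((S ⊓ Subgroup.centralizer (S : Set Ω)).subgroupOf A).index = Nat.card (commHom h hx).range := by
    rw [← hker, Subgroup.index_ker]
  rw [sup_comm]
  rw [e2, e4, ← e1, hp] at e3
  have hc0 : ((S ⊓ Subgroup.centralizer (S : Set Ω)).subgroupOf A).relIndex (commHom h hx).range ≠ 0 := by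
    intro h0
    rw [h0, mul_zero] at e1
    exact (Nat.card_pos (α := (commHom h hx).range)).ne' e1.symm
  have e5 : ((S ⊓ Subgroup.centralizer (S : Set Ω)).subgroupOf A).relIndex (commHom h hx).range *
      ((commHom h hx).range ⊔ (S ⊓ Subgroup.centralizer (S : Set Ω)).subgroupOf A).index =
      ((S ⊓ Subgroup.centralizer (S : Set Ω)).subgroupOf A).relIndex (commHom h hx).range * p := by
    rw [e3, mul_comm]
  exact Nat.eq_of_mul_eq_mul_left (Nat.pos_of_ne_zero hc0) e5

/-- iterates of the commutator homomorphism -/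
def commIter (h : AbIdx S A) {x : Ω} (hx : x ∈ S) : ℕ → (↥A →* ↥A)
  | 0 => MonoidHom.id _
  | k + 1 => (commHom h hx).comp (commIter h hx k)

theorem commIter_succ_apply (h : AbIdx S A) {x : Ω} (hx : x ∈ S) (k : ℕ) (a : A) :
    commIter h hx (k + 1) a = commHom h hx (commIter h hx k a) := rfl

theorem commIter_mem_lowerCentralSeries (h : AbIdx S A) {x : Ω} (hx : x ∈ S) (k : ℕ) (a : A) :
    ((commIter h hx k a : A) : Ω) ∈ Subgroup.lowerCentralSeries S k := by
  induction k with
  | zero => exact h.le a.2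
  | succ k ih =>
    rw [commIter_succ_apply, commHom_apply, Subgroup.lowerCentralSeries_succ]
    exact Subgroup.commutator_mem_commutator ih hx

theorem card_ker_commIter_le (h : AbIdx S A) {x : Ω} (hx : x ∈ S) (hxA : x ∉ A)
    (hZ₂A : (Subgroup.upperCentralSeries ↥S 2).map S.subtype ≤ A)
    (hidx : ((S ⊓ Subgroup.centralizer (S : Set Ω)).subgroupOf
      ((Subgroup.upperCentralSeries ↥S 2).map S.subtype)).index = p) (k : ℕ) :
    Nat.card (commIter h hx (k + 1)).ker ≤
      p ^ k * Nat.card ↥((S ⊓ Subgroup.centralizer (S : Set Ω)).subgroupOf A) := by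
  haveI : Finite A := Finite.of_injective (Subgroup.inclusion h.le) (Subgroup.inclusion_injective h.le)
  have hp := card_center_inf_range h hx hxA hZ₂A hidx
  induction k with
  | zero =>
    have : commIter h hx (0 + 1) = commHom h hx := rfl
    rw [this, commHom_ker h hx hxA, pow_zero, one_mul]
  | succ k ih =>
    have hle : (commIter h hx (k + 1)).ker ≤ (commIter h hx (k + 1 + 1)).ker := by
      intro a ha
      rw [MonoidHom.mem_ker] at ha ⊢
      rw [commIter_succ_apply, ha, map_one]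
    have h1 := card_mul_relIndex' hle
    rw [Subgroup.relIndex_ker] at h1
    have h2 : (commIter h hx (k + 1 + 1)).ker.map (commIter h hx (k + 1)) ≤
        (S ⊓ Subgroup.centralizer (S : Set Ω)).subgroupOf A ⊓ (commHom h hx).range := by
      rintro _ ⟨a, ha, rfl⟩
      have ha : a ∈ (commIter h hx (k + 1 + 1)).ker := ha
      rw [MonoidHom.mem_ker, commIter_succ_apply] at ha
      refine Subgroup.mem_inf.mpr ⟨?_, ⟨commIter h hx k a, rfl⟩⟩
      rw [← commHom_ker h hx hxA, MonoidHom.mem_ker]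
      exact ha
    have h3 := Subgroup.card_le_of_le h2
    rw [hp] at h3
    calc Nat.card (commIter h hx (k + 1 + 1)).ker
        = Nat.card (commIter h hx (k + 1)).ker *
          Nat.card ↥((commIter h hx (k + 1 + 1)).ker.map (commIter h hx (k + 1))) := h1.symm
      _ ≤ (p ^ k * Nat.card ↥((S ⊓ Subgroup.centralizer (S : Set Ω)).subgroupOf A)) * p :=
          Nat.mul_le_mul ih h3
      _ = p ^ (k + 1) * Nat.card ↥((S ⊓ Subgroup.centralizer (S : Set Ω)).subgroupOf A) := by ring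

/-- `S / Z(S)` has maximal class -/
theorem lowerCentralSeries_not_le_center (h : AbIdx S A) (hAidx : (A.subgroupOf S).index = p)
    {x : Ω} (hx : x ∈ S) (hxA : x ∉ A)
    (hZ₂A : (Subgroup.upperCentralSeries ↥S 2).map S.subtype ≤ A)
    (hidx : ((S ⊓ Subgroup.centralizer (S : Set Ω)).subgroupOf
      ((Subgroup.upperCentralSeries ↥S 2).map S.subtype)).index = p)
    {m : ℕ} (hm : ((S ⊓ Subgroup.centralizer (S : Set Ω)).subgroupOf S).index = p ^ m) (hm3 : 3 ≤ m) :
    ¬ Subgroup.lowerCentralSeries S (m - 2) ≤ S ⊓ Subgroup.centralizer (S : Set Ω) := by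
  haveI : Finite A := Finite.of_injective (Subgroup.inclusion h.le) (Subgroup.inclusion_injective h.le)
  have hp1 : 1 < p := (Fact.out : p.Prime).one_lt
  have hp0 : 0 < p := (Fact.out : p.Prime).pos
  intro hle
  -- `ψ^(m-1)` is trivial
  have htriv : ∀ a : A, commIter h hx (m - 2 + 1) a = 1 := by
    intro a
    rw [commIter_succ_apply]
    have h1 := hle (commIter_mem_lowerCentralSeries h hx (m - 2) a)
    have h2 : commIter h hx (m - 2) a ∈ (commHom h hx).ker := by
      rw [commHom_ker h hx hxA, Subgroup.mem_subgroupOf]; exact h1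
    exact h2
  have hker : (commIter h hx (m - 2 + 1)).ker = ⊤ := by
    rw [eq_top_iff]
    intro a _
    exact htriv a
  have h1 := card_ker_commIter_le h hx hxA hZ₂A hidx (m - 2)
  rw [hker, Subgroup.card_top] at h1
  -- `|A| = p^(m-1) |Z|`
  have h2 : (S ⊓ Subgroup.centralizer (S : Set Ω)).relIndex A * A.relIndex S =
      (S ⊓ Subgroup.centralizer (S : Set Ω)).relIndex S :=
    Subgroup.relIndex_mul_relIndex _ _ _ h.center_le h.le
  have h3 : (S ⊓ Subgroup.centralizer (S : Set Ω)).relIndex S = p ^ m := hm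
  have h4 : A.relIndex S = p := hAidx
  rw [h3, h4] at h2
  have h5 : (S ⊓ Subgroup.centralizer (S : Set Ω)).relIndex A = p ^ (m - 1) := by
    have : p ^ m = p ^ (m - 1) * p := by
      rw [← pow_succ]; congr 1; omega
    rw [this] at h2
    exact Nat.eq_of_mul_eq_mul_right hp0 h2
  have h6 := card_mul_relIndex' (H := (S ⊓ Subgroup.centralizer (S : Set Ω)).subgroupOf A) (K := ⊤) le_top
  rw [Subgroup.relIndex_top_right, Subgroup.card_top] at h6
  have h7 : ((S ⊓ Subgroup.centralizer (S : Set Ω)).subgroupOf A).index = p ^ (m - 1) := h5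
  rw [h7] at h6
  rw [← h6] at h1
  have hZpos : 0 < Nat.card ↥((S ⊓ Subgroup.centralizer (S : Set Ω)).subgroupOf A) := Nat.card_pos
  have h8 : p ^ (m - 1) ≤ p ^ (m - 2) := by
    have : Nat.card ↥((S ⊓ Subgroup.centralizer (S : Set Ω)).subgroupOf A) * p ^ (m - 1) ≤
        Nat.card ↥((S ⊓ Subgroup.centralizer (S : Set Ω)).subgroupOf A) * p ^ (m - 2) := by
      rw [mul_comm _ (p ^ (m - 2))]; exact h1
    exact Nat.le_of_mul_le_mul_left this hZpos
  have h9 : p ^ (m - 2) < p ^ (m - 1) := Nat.pow_lt_pow_right hp1 (by omega)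
  omega

end Counting

section Ess2

theorem essential_abelian_case_normalizer [Finite S] {p : ℕ} {F : FusionSystem S}
    {P : Subgroup Ω} (hA : AbIdx S A) (hP : F.IsEssential p P) {x : Ω} (hx : x ∈ P) (hxA : x ∉ A)
    (hab : ∀ a ∈ P ⊓ A, a ∈ S ⊓ Subgroup.centralizer (S : Set Ω)) :
    normalizerIn S P ⊓ A = (Subgroup.upperCentralSeries ↥S 2).map S.subtype ⊓ A := by
  have hPS : P ≤ S := hP.1.1
  haveI : Finite P := Finite.of_injective (Subgroup.inclusion hPS) (Subgroup.inclusion_injective hPS)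
  have hZP : S ⊓ Subgroup.centralizer (S : Set Ω) ≤ P := essential_center_le hP
  apply le_antisymm
  · intro a ha
    obtain ⟨haN, haA⟩ := Subgroup.mem_inf.mp ha
    refine Subgroup.mem_inf.mpr ⟨?_, haA⟩
    rw [mem_ucs_two_iff (hA.le haA)]
    intro t ht
    obtain ⟨a', ha', k, rfl⟩ := hA.dec x (hPS hx) hxA t ht
    rw [hA.comm_mul_zpow haA ha' (hPS hx) k]
    apply hab
    have hxk := P.zpow_mem hx k
    refine Subgroup.mem_inf.mpr ⟨P.mul_mem (conj_mem_of_mem_normalizerIn haN hxk) (P.inv_mem hxk), ?_⟩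
    have h2 : a * x ^ k * a⁻¹ * (x ^ k)⁻¹ = a * (x ^ k * a⁻¹ * (x ^ k)⁻¹) := by group
    rw [h2]
    exact A.mul_mem haA (hA.conj _ (S.zpow_mem (hPS hx) k) _ (A.inv_mem haA))
  · intro a ha
    obtain ⟨haZ₂, haA⟩ := Subgroup.mem_inf.mp ha
    refine Subgroup.mem_inf.mpr ⟨?_, haA⟩
    have haS := hA.le haA
    have hcomm := (mem_ucs_two_iff haS).mp haZ₂
    refine ⟨haS, ?_⟩
    apply mem_normalizer_of_conj_mem
    intro y hy
    have h1 := hZP (hcomm y (hPS hy))
    have h2 : a * y * a⁻¹ = (a * y * a⁻¹ * y⁻¹) * y := by group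
    rw [h2]; exact P.mul_mem h1 hy

theorem essential_ucs_two [Finite S] {p : ℕ} [Fact p.Prime] (hS : IsPGroup p S)
    {F : FusionSystem S} (hF : F.IsSaturated p) {P : Subgroup Ω} (hA : AbIdx S A)
    (hAidx : (A.subgroupOf S).index = p)
    (huniq : ∀ B : Subgroup Ω, B ≤ S → IsMulCommutative ↥B → (B.subgroupOf S).index = p → B = A)
    (hP : F.IsEssential p P) (hPA : P ≠ A) :
    (Subgroup.upperCentralSeries ↥S 2).map S.subtype ≤ A ∧
    ((S ⊓ Subgroup.centralizer (S : Set Ω)).subgroupOf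
      ((Subgroup.upperCentralSeries ↥S 2).map S.subtype)).index = p := by
  have hPS : P ≤ S := hP.1.1
  have hnle := essential_not_le_abelian hA hP hPA
  obtain ⟨x, hx, hxA⟩ : ∃ x ∈ P, x ∉ A := by
    by_contra hcon
    push Not at hcon
    exact hnle hcon
  have hZP : S ⊓ Subgroup.centralizer (S : Set Ω) ≤ P := essential_center_le hP
  have hZA : S ⊓ Subgroup.centralizer (S : Set Ω) ≤ A := hA.center_le
  rcases essential_structure hS hF hA hAidx hP hPA with hab | ⟨h1, hEq, hidx⟩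
  · have hPAZ : P ⊓ A = S ⊓ Subgroup.centralizer (S : Set Ω) := le_antisymm hab (le_inf hZP hZA)
    have hN := essential_abelian_case_normalizer hA hP hx hxA hab
    have hidx := essential_index_inf hS hF hA hAidx hP hPA
    rw [hPAZ, hN] at hidx
    have hZ₂A : (Subgroup.upperCentralSeries ↥S 2).map S.subtype ≤ A := by
      by_contra hcon
      have hAZ₂ := hA.le_ucs_two_of_not_le hcon
      rw [inf_eq_right.mpr hAZ₂] at hidx
      apply hPA
      apply huniq P hPS
      · refine ⟨⟨fun u v => Subtype.ext ?_⟩⟩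
        obtain ⟨a, ha, i, hi⟩ := hA.dec_inf hPS hx hxA u.2
        obtain ⟨b, hb, j, hj⟩ := hA.dec_inf hPS hx hxA v.2
        show (u : Ω) * v = v * u
        rw [hi, hj]
        have haZ := hab a ha
        have hbZ := hab b hb
        have hxS := hPS hx
        have c1 : Commute a b := hA.comm a (Subgroup.mem_inf.mp ha).2 b (Subgroup.mem_inf.mp hb).2
        have c2 : Commute a (x ^ j) := (center_commute haZ (S.zpow_mem hxS j)).symm
        have c3 : Commute (x ^ i) b := center_commute hbZ (S.zpow_mem hxS i)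
        have c4 : Commute (x ^ i) (x ^ j) := (Commute.refl x).zpow_zpow i j
        exact (c1.mul_right c2).mul_left (c3.mul_right c4)
      · have e1 := Subgroup.relIndex_mul_relIndex _ _ _ hZP hPS
        have e2 := Subgroup.relIndex_mul_relIndex _ _ _ hZA hA.le
        have e3 : (S ⊓ Subgroup.centralizer (S : Set Ω)).relIndex P = p := by
          have h3 : (P ⊓ A).relIndex P = A.relIndex P := Subgroup.inf_relIndex_left _ _
          rw [hPAZ] at h3
          rw [h3]
          exact relIndex_eq_prime_of_not_le hA.normal hAidx hPS hnle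
        have e4 : (S ⊓ Subgroup.centralizer (S : Set Ω)).relIndex A = p := hidx
        have e5 : A.relIndex S = p := hAidx
        rw [e3] at e1
        rw [e4, e5] at e2
        rw [← e2] at e1
        exact Nat.eq_of_mul_eq_mul_left (Fact.out : p.Prime).pos e1
    refine ⟨hZ₂A, ?_⟩
    rw [inf_eq_left.mpr hZ₂A] at hidx
    exact hidx
  · exact ⟨h1, hEq ▸ hidx⟩

end Ess2

end Cfsg.Agent.Lib.Helper27
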