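import Mathlib

/-!
# Helper27: transvections on abelian `p`-groups

Pure group theory used for fusion systems on `p`-groups with an abelian subgroup of index `p`:

* `chainStab`: automorphisms of a finite `p`-group stabilizing a chain of subgroups form a `p`-group;
* `neg_one_apply`: two "opposite" transvections generate an element inverting the first basis vector;
* `exists_theta`: the resulting reflection and its fixed points;
* `isPGroup_pair`: if the centre of the transvection `α` lies in the axis of `γ α γ⁻¹`, then `α` and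
  `γ α γ⁻¹` lie in a common `p`-group of automorphisms.
-/

set_option autoImplicit false

namespace Cfsg.Agent.Lib.Helper27.Transv

section Basic

variable {B : Type*} [Group B]

/-- fixed points of an automorphism -/
def fixS (a : MulAut B) : Subgroup B where
  carrier := {x | a x = x}
  mul_mem' := fun {x y} hx hy => by
    show a (x * y) = x * y
    rw [map_mul, show a x = x from hx, show a y = y from hy]
  one_mem' := map_one a
  inv_mem' := fun {x} hx => by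
    show a x⁻¹ = x⁻¹
    rw [map_inv, show a x = x from hx]

theorem mem_fixS (a : MulAut B) (x : B) : x ∈ fixS a ↔ a x = x := Iff.rfl

/-- an automorphism mapping a finite subgroup into itself maps it onto itself -/
theorem inv_mem_of_forall_mem [Finite B] (σ : MulAut B) (M : Subgroup B) (h : ∀ z ∈ M, σ z ∈ M) :
    ∀ z ∈ M, σ⁻¹ z ∈ M := by
  let f : M → M := fun a => ⟨σ a.1, h a.1 a.2⟩
  have hf : Function.Injective f := by
    intro a b hab
    have h3 : σ a.1 = σ b.1 := congrArg Subtype.val hab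
    exact Subtype.ext (σ.injective h3)
  have hsurj := Finite.surjective_of_injective hf
  intro z hz
  obtain ⟨b, hb⟩ := hsurj ⟨z, hz⟩
  have h3 : σ b.1 = z := congrArg Subtype.val hb
  rw [← h3, MulAut.inv_apply_self]
  exact b.2

theorem pow_apply_fix (b : MulAut B) {x : B} (h : b x = x) (j : ℕ) : (b ^ j) x = x := by
  induction j with
  | zero => simp
  | succ j ih => rw [pow_succ', MulAut.mul_apply, ih, h]

theorem mul_left_comm' (hcomm : ∀ x y : B, x * y = y * x) (x y z : B) :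
    x * (y * z) = y * (x * z) := by
  rw [← mul_assoc, hcomm x y, mul_assoc]

theorem mul4' (hcomm : ∀ x y : B, x * y = y * x) (a b c d : B) :
    (a * b) * (c * d) = (a * c) * (b * d) := by
  rw [mul_assoc, ← mul_assoc b c d, hcomm b c, mul_assoc c b d, ← mul_assoc]

/-- `x ↦ x⁻¹ * a x` as an endomorphism of a commutative group -/
def comm1 (hcomm : ∀ x y : B, x * y = y * x) (a : MulAut B) : B →* B where
  toFun := fun x => x⁻¹ * a x
  map_one' := by simp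
  map_mul' := fun x y => by
    show (x * y)⁻¹ * a (x * y) = x⁻¹ * a x * (y⁻¹ * a y)
    rw [map_mul, _root_.mul_inv_rev, hcomm y⁻¹ x⁻¹, mul4' hcomm]

theorem comm1_apply (hcomm : ∀ x y : B, x * y = y * x) (a : MulAut B) (x : B) :
    comm1 hcomm a x = x⁻¹ * a x := rfl

end Basic

/-! ### Chain stabilizers -/

section Chain

variable {B : Type*} [Group B]

/-- the automorphisms stabilizing the chain `b 0 ≤ b 1 ≤ … ≤ b m`, as a submonoid -/
def chainStabM (b : ℕ → Subgroup B) (m : ℕ) (hb0 : b 0 = ⊥) (hmono : ∀ j, b j ≤ b (j + 1)) :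
    Submonoid (MulAut B) where
  carrier := {γ | ∀ j < m, ∀ x ∈ b (j + 1), x⁻¹ * γ x ∈ b j}
  one_mem' := by
    intro j _ x _
    simp
  mul_mem' := by
    intro γ δ hγ hδ j hj x hx
    have hinv : ∀ y ∈ b j, γ y ∈ b j := by
      intro y hy
      rcases j with _ | i
      · rw [hb0, Subgroup.mem_bot] at hy
        rw [hy, map_one]
        exact (b 0).one_mem
      · have h1 := hγ i (by omega) y hy
        have h2 : γ y = y * (y⁻¹ * γ y) := by rw [mul_inv_cancel_left]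
        rw [h2]
        exact (b (i + 1)).mul_mem hy (hmono i h1)
    have h1 := hδ j hj x hx
    have h2 := hγ j hj x hx
    have h4 : x⁻¹ * (γ * δ) x = (x⁻¹ * γ x) * γ (x⁻¹ * δ x) := by
      simp [MulAut.mul_apply, mul_assoc]
    rw [h4]
    exact (b j).mul_mem h2 (hinv _ h1)

/-- the automorphisms stabilizing the chain `b 0 ≤ b 1 ≤ … ≤ b m` -/
def chainStab [Finite B] (b : ℕ → Subgroup B) (m : ℕ) (hb0 : b 0 = ⊥)
    (hmono : ∀ j, b j ≤ b (j + 1)) : Subgroup (MulAut B) :=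
  { chainStabM b m hb0 hmono with
    inv_mem' := by
      intro γ hγ
      have hpos : 0 < orderOf γ := orderOf_pos γ
      have h1 : γ⁻¹ = γ ^ (orderOf γ - 1) := by
        apply inv_eq_of_mul_eq_one_right
        rw [← pow_succ', Nat.sub_add_cancel hpos, pow_orderOf_eq_one]
      rw [h1]
      exact (chainStabM b m hb0 hmono).pow_mem hγ _ }

theorem mem_chainStab [Finite B] {b : ℕ → Subgroup B} {m : ℕ} {hb0 : b 0 = ⊥}
    {hmono : ∀ j, b j ≤ b (j + 1)} (γ : MulAut B) :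
    γ ∈ chainStab b m hb0 hmono ↔ ∀ j < m, ∀ x ∈ b (j + 1), x⁻¹ * γ x ∈ b j := Iff.rfl

theorem chainStab_isPGroup [Finite B] {p : ℕ} [Fact p.Prime] (hB : IsPGroup p B)
    (b : ℕ → Subgroup B) (m : ℕ) (hb0 : b 0 = ⊥) (hmono : ∀ j, b j ≤ b (j + 1)) (hbm : b m = ⊤) :
    IsPGroup p (chainStab b m hb0 hmono) := by
  obtain ⟨a, ha⟩ := IsPGroup.iff_card.mp hB
  intro γ
  have key : ∀ j ≤ m, ∃ k : ℕ, ∀ x ∈ b j,
      ((γ ^ p ^ k : chainStab b m hb0 hmono) : MulAut B) x = x := by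
    intro j
    induction j with
    | zero =>
      intro _
      refine ⟨0, fun x hx => ?_⟩
      rw [hb0, Subgroup.mem_bot] at hx
      rw [hx, map_one]
    | succ j ih =>
      intro hj
      obtain ⟨k, hk⟩ := ih (by omega)
      refine ⟨k + a, fun x hx => ?_⟩
      set δ : chainStab b m hb0 hmono := γ ^ p ^ k with hδ
      have hy := (mem_chainStab _).mp δ.2 j (by omega) x hx
      have hδy := hk _ hy
      have hpow : ∀ t : ℕ, ((δ ^ t : chainStab b m hb0 hmono) : MulAut B) x =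
          x * (x⁻¹ * (δ : MulAut B) x) ^ t := by
        intro t
        induction t with
        | zero => simp
        | succ t iht =>
          rw [pow_succ']
          simp only [Subgroup.coe_mul, MulAut.mul_apply]
          rw [iht, map_mul, map_pow, hδy]
          rw [pow_succ' (x⁻¹ * (δ : MulAut B) x) t, ← mul_assoc, mul_inv_cancel_left]
      have h1 := hpow (p ^ a)
      have h2 : (x⁻¹ * (δ : MulAut B) x) ^ p ^ a = 1 := by
        rw [← ha]; exact pow_card_eq_one'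
      rw [h2, mul_one] at h1
      have h3 : γ ^ p ^ (k + a) = δ ^ p ^ a := by
        rw [hδ, ← pow_mul, ← pow_add]
      rw [h3]
      exact h1
  obtain ⟨k, hk⟩ := key m le_rfl
  refine ⟨k, ?_⟩
  apply Subtype.ext
  ext x
  have := hk x (by rw [hbm]; exact Subgroup.mem_top x)
  simpa using this

end Chain

/-! ### Arithmetic of exponents -/

section Arith

variable {B : Type*} [Group B] {p : ℕ} [Fact p.Prime]

omit [Fact p.Prime] in
theorem zpow_eq_one_of_dvd {x : B} (hx : x ^ p = 1) {k : ℤ} (hk : (p : ℤ) ∣ k) : x ^ k = 1 := by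
  obtain ⟨c, rfl⟩ := hk
  rw [zpow_mul, zpow_natCast, hx, one_zpow]

omit [Fact p.Prime] in
theorem zpow_eq_of_dvd_sub {x : B} (hx : x ^ p = 1) {k k' : ℤ} (hk : (p : ℤ) ∣ k - k') :
    x ^ k = x ^ k' := by
  have h1 : x ^ k = x ^ k' * x ^ (k - k') := by
    rw [← zpow_add]; congr 1; ring
  rw [h1, zpow_eq_one_of_dvd hx hk, mul_one]

theorem exists_nat_dvd_sub {m : ℤ} (hm : ¬ (p : ℤ) ∣ m) (n : ℤ) :
    ∃ k : ℕ, (p : ℤ) ∣ n - k * m := by
  have hm0 : (m : ZMod p) ≠ 0 := by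
    rw [Ne, ZMod.intCast_zmod_eq_zero_iff_dvd]; exact hm
  refine ⟨((n : ZMod p) * (m : ZMod p)⁻¹).val, ?_⟩
  rw [← ZMod.intCast_zmod_eq_zero_iff_dvd]
  push_cast
  rw [ZMod.natCast_zmod_val, mul_assoc, inv_mul_cancel₀ hm0, mul_one, sub_self]

end Arith

/-! ### Two opposite transvections -/

section NegOne

variable {B : Type*} [Group B] {p : ℕ} [Fact p.Prime]

theorem pow_apply_left (b : MulAut B) {e1 e2 : B} {m : ℤ} (hb2 : b e2 = e2)
    (hb1 : b e1 = e1 * e2 ^ m) (j : ℕ) : (b ^ j) e1 = e1 * e2 ^ ((j : ℤ) * m) := by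
  induction j with
  | zero => simp
  | succ j ih =>
    rw [pow_succ', MulAut.mul_apply, ih, map_mul, map_zpow, hb1, hb2, mul_assoc, ← zpow_add]
    congr 2
    push_cast
    ring

omit [Fact p.Prime] in
/-- two opposite transvections generate an element inverting `e1` -/
theorem neg_one_apply (hcomm : ∀ x y : B, x * y = y * x) (a b : MulAut B) {e1 e2 : B}
    (h1p : e1 ^ p = 1) (h2p : e2 ^ p = 1) {l m : ℤ}
    (ha1 : a e1 = e1) (ha2 : a e2 = e2 * e1 ^ l) (hb2 : b e2 = e2) (hb1 : b e1 = e1 * e2 ^ m)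
    {j : ℕ} (hj : (p : ℤ) ∣ (-1) - (j : ℤ) * (l * m)) :
    ((a * b ^ j * a) ^ 2) e1 = e1⁻¹ := by
  have hd1 : (p : ℤ) ∣ 1 + l * ((j : ℤ) * m) := by
    have h : (1 + l * ((j : ℤ) * m)) = -((-1) - (j : ℤ) * (l * m)) := by ring
    rw [h]; exact (dvd_neg).mpr hj
  have hd2 : (p : ℤ) ∣ 1 + ((j : ℤ) * m) * l := by
    have h : 1 + ((j : ℤ) * m) * l = 1 + l * ((j : ℤ) * m) := by ring
    rw [h]; exact hd1
  have hd3 : (p : ℤ) ∣ l * ((j : ℤ) * m) - (-1) := by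
    have h : l * ((j : ℤ) * m) - (-1) = 1 + l * ((j : ℤ) * m) := by ring
    rw [h]; exact hd1
  have hbj1 : (b ^ j) e1 = e1 * e2 ^ ((j : ℤ) * m) := pow_apply_left b hb2 hb1 j
  have hbj2 : (b ^ j) e2 = e2 := pow_apply_fix b hb2 j
  have hN1 : (a * b ^ j * a) e1 = e2 ^ ((j : ℤ) * m) := by
    calc (a * b ^ j * a) e1 = a ((b ^ j) (a e1)) := rfl
      _ = a (e1 * e2 ^ ((j : ℤ) * m)) := by rw [ha1, hbj1]
      _ = e1 * (e2 * e1 ^ l) ^ ((j : ℤ) * m) := by rw [map_mul, map_zpow, ha1, ha2]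
      _ = e1 * (e2 ^ ((j : ℤ) * m) * e1 ^ (l * ((j : ℤ) * m))) := by
          rw [Commute.mul_zpow (hcomm e2 (e1 ^ l)), ← zpow_mul]
      _ = e2 ^ ((j : ℤ) * m) * e1 ^ (1 + l * ((j : ℤ) * m)) := by
          rw [zpow_one_add]; exact mul_left_comm' hcomm _ _ _
      _ = e2 ^ ((j : ℤ) * m) := by rw [zpow_eq_one_of_dvd h1p hd1, mul_one]
  have hN2 : (a * b ^ j * a) e2 = e1 ^ l := by
    calc (a * b ^ j * a) e2 = a ((b ^ j) (a e2)) := rfl
      _ = a (e2 * (e1 * e2 ^ ((j : ℤ) * m)) ^ l) := by rw [ha2, map_mul, map_zpow, hbj1, hbj2]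
      _ = a (e2 * (e1 ^ l * e2 ^ (((j : ℤ) * m) * l))) := by
          rw [Commute.mul_zpow (hcomm e1 (e2 ^ ((j : ℤ) * m))), ← zpow_mul]
      _ = a (e1 ^ l * e2 ^ (1 + ((j : ℤ) * m) * l)) := by
          rw [zpow_one_add]; congr 1; exact mul_left_comm' hcomm _ _ _
      _ = a (e1 ^ l) := by rw [zpow_eq_one_of_dvd h2p hd2, mul_one]
      _ = e1 ^ l := by rw [map_zpow, ha1]
  calc ((a * b ^ j * a) ^ 2) e1 = (a * b ^ j * a) ((a * b ^ j * a) e1) := by
        rw [pow_two, MulAut.mul_apply]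
    _ = (a * b ^ j * a) (e2 ^ ((j : ℤ) * m)) := by rw [hN1]
    _ = (e1 ^ l) ^ ((j : ℤ) * m) := by rw [map_zpow, hN2]
    _ = e1 ^ (l * ((j : ℤ) * m)) := by rw [← zpow_mul]
    _ = e1 ^ (-1 : ℤ) := zpow_eq_of_dvd_sub h1p hd3
    _ = e1⁻¹ := zpow_neg_one e1

end NegOne

/-! ### Transvections with a given axis and centre -/

section Transvection

variable {B : Type*} [Group B] {p : ℕ} [Fact p.Prime]

/-- decomposition of the axis `ZB` of `α` with respect to the axis of `γ α γ⁻¹` -/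
theorem exists_decomp (hcomm : ∀ x y : B, x * y = y * x) {α : MulAut B} {w : B} {ZB : Subgroup B}
    (hw : w ∈ ZB) (hwp : w ^ p = 1) (hα : ∀ y, y⁻¹ * α y ∈ Subgroup.zpowers w)
    (hfix : ∀ y, α y = y ↔ y ∈ ZB) (γ : MulAut B) (hγw : γ⁻¹ w ∉ ZB) {z : B} (hz : z ∈ ZB) :
    ∃ z₁ ∈ ZB, γ⁻¹ z₁ ∈ ZB ∧ ∃ k : ℕ, z = z₁ * w ^ k := by
  obtain ⟨n, hn⟩ := Subgroup.mem_zpowers_iff.mp (hα (γ⁻¹ z))
  obtain ⟨m, hm⟩ := Subgroup.mem_zpowers_iff.mp (hα (γ⁻¹ w))
  have hpm : ¬ (p : ℤ) ∣ m := by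
    intro hdvd
    apply hγw
    rw [← hfix]
    rw [zpow_eq_one_of_dvd hwp hdvd] at hm
    exact (inv_mul_eq_one.mp hm.symm).symm
  obtain ⟨k, hk⟩ := exists_nat_dvd_sub hpm n
  refine ⟨z * (w ^ k)⁻¹, ZB.mul_mem hz (ZB.inv_mem (ZB.pow_mem hw k)), ?_, k,
    by rw [inv_mul_cancel_right]⟩
  rw [← hfix]
  have h2 : comm1 hcomm α (γ⁻¹ (z * (w ^ k)⁻¹)) = 1 := by
    rw [map_mul, map_inv, map_pow, map_mul, map_inv, map_pow]
    show (γ⁻¹ z)⁻¹ * α (γ⁻¹ z) * (((γ⁻¹ w)⁻¹ * α (γ⁻¹ w)) ^ k)⁻¹ = 1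
    rw [← hn, ← hm, ← zpow_natCast, ← zpow_mul, ← zpow_neg, ← zpow_add]
    apply zpow_eq_one_of_dvd hwp
    have h3 : n + -(m * (k : ℤ)) = n - k * m := by ring
    rw [h3]; exact hk
  exact (inv_mul_eq_one.mp h2).symm

/-- the reflection generated by the transvections `α` and `γ α γ⁻¹` -/
theorem exists_theta (hcomm : ∀ x y : B, x * y = y * x) (hp2 : p ≠ 2)
    {α : MulAut B} {w : B} {ZB : Subgroup B} (hw : w ∈ ZB) (hwp : w ^ p = 1) (hw1 : w ≠ 1)
    (hα : ∀ y, y⁻¹ * α y ∈ Subgroup.zpowers w) (hfix : ∀ y, α y = y ↔ y ∈ ZB)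
    (γ : MulAut B) (hγw : γ⁻¹ w ∉ ZB) (hγw' : γ w ∉ ZB)
    (G : Subgroup (MulAut B)) (hαG : α ∈ G) (hγG : γ ∈ G) :
    ∃ θ ∈ G, θ w = w⁻¹ ∧ (∀ z ∈ ZB, γ⁻¹ z ∈ ZB → θ z = z) ∧
      (∀ z ∈ ZB, θ z ∈ ZB ∧ z⁻¹ * θ z ∈ Subgroup.zpowers w) ∧
      (∀ z ∈ ZB, θ z = z → γ⁻¹ z ∈ ZB) := by
  have hp : p.Prime := Fact.out
  obtain ⟨l, hl⟩ := Subgroup.mem_zpowers_iff.mp (hα (γ w))
  obtain ⟨m, hm⟩ := Subgroup.mem_zpowers_iff.mp (hα (γ⁻¹ w))
  have hpl : ¬ (p : ℤ) ∣ l := by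
    intro hdvd
    apply hγw'
    rw [← hfix]
    rw [zpow_eq_one_of_dvd hwp hdvd] at hl
    exact (inv_mul_eq_one.mp hl.symm).symm
  have hpm : ¬ (p : ℤ) ∣ m := by
    intro hdvd
    apply hγw
    rw [← hfix]
    rw [zpow_eq_one_of_dvd hwp hdvd] at hm
    exact (inv_mul_eq_one.mp hm.symm).symm
  have hplm : ¬ (p : ℤ) ∣ l * m := by
    intro h
    rcases (Nat.prime_iff_prime_int.mp hp).dvd_or_dvd h with h | h
    · exact hpl h
    · exact hpm h
  obtain ⟨j, hj⟩ := exists_nat_dvd_sub hplm (-1)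
  have hαw : α w = w := (hfix w).mpr hw
  have ha2 : α (γ w) = γ w * w ^ l := by rw [hl, mul_inv_cancel_left]
  have hb2 : (γ * α * γ⁻¹) (γ w) = γ w := by
    show γ (α (γ⁻¹ (γ w))) = γ w
    rw [MulAut.inv_apply_self, hαw]
  have hb1 : (γ * α * γ⁻¹) w = w * (γ w) ^ m := by
    show γ (α (γ⁻¹ w)) = w * (γ w) ^ m
    have h1 : α (γ⁻¹ w) = γ⁻¹ w * w ^ m := by rw [hm, mul_inv_cancel_left]
    rw [h1, map_mul, map_zpow, MulAut.apply_inv_self]
  have h2p : (γ w) ^ p = 1 := by rw [← map_pow, hwp, map_one]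
  have hθw := neg_one_apply hcomm α (γ * α * γ⁻¹) hwp h2p hαw ha2 hb2 hb1 hj
  have hα'G : γ * α * γ⁻¹ ∈ G := G.mul_mem (G.mul_mem hγG hαG) (G.inv_mem hγG)
  have hθG : (α * (γ * α * γ⁻¹) ^ j * α) ^ 2 ∈ G :=
    G.pow_mem (G.mul_mem (G.mul_mem hαG (G.pow_mem hα'G j)) hαG) 2
  obtain ⟨θ, hθdef⟩ : ∃ θ : MulAut B, θ = (α * (γ * α * γ⁻¹) ^ j * α) ^ 2 := ⟨_, rfl⟩
  rw [← hθdef] at hθw hθG
  have hθfix : ∀ z ∈ ZB, γ⁻¹ z ∈ ZB → θ z = z := by
    intro z hz hz'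
    have h1 : α z = z := (hfix z).mpr hz
    have h2 : (γ * α * γ⁻¹) z = z := by
      show γ (α (γ⁻¹ z)) = z
      rw [(hfix _).mpr hz', MulAut.apply_inv_self]
    have h3 : ((γ * α * γ⁻¹) ^ j) z = z := pow_apply_fix _ h2 j
    have h4 : (α * (γ * α * γ⁻¹) ^ j * α) z = z := by
      show α (((γ * α * γ⁻¹) ^ j) (α z)) = z
      rw [h1, h3, h1]
    rw [hθdef]
    exact pow_apply_fix _ h4 2
  have hθdec : ∀ z₁ ∈ ZB, γ⁻¹ z₁ ∈ ZB → ∀ k : ℕ, θ (z₁ * w ^ k) = z₁ * (w⁻¹) ^ k := by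
    intro z₁ hz₁ hz₁' k
    rw [map_mul, map_pow, hθfix z₁ hz₁ hz₁', hθw]
  refine ⟨θ, hθG, hθw, hθfix, ?_, ?_⟩
  · intro z hz
    obtain ⟨z₁, hz₁, hz₁', k, rfl⟩ := exists_decomp hcomm hw hwp hα hfix γ hγw hz
    rw [hθdec z₁ hz₁ hz₁' k]
    constructor
    · exact ZB.mul_mem hz₁ (ZB.pow_mem (ZB.inv_mem hw) k)
    · rw [mul_inv_rev, mul_assoc, inv_mul_cancel_left]
      exact Subgroup.mul_mem _
        (Subgroup.inv_mem _ (Subgroup.pow_mem _ (Subgroup.mem_zpowers w) k))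
        (Subgroup.pow_mem _ (Subgroup.inv_mem _ (Subgroup.mem_zpowers w)) k)
  · intro z hz hfixz
    obtain ⟨z₁, hz₁, hz₁', k, rfl⟩ := exists_decomp hcomm hw hwp hα hfix γ hγw hz
    rw [hθdec z₁ hz₁ hz₁' k] at hfixz
    have h1 : (w⁻¹) ^ k = w ^ k := mul_left_cancel hfixz
    have h2 : w ^ (k + k) = 1 := by
      calc w ^ (k + k) = w ^ k * w ^ k := pow_add _ _ _
        _ = (w⁻¹) ^ k * w ^ k := by rw [h1]
        _ = 1 := by rw [inv_pow, inv_mul_cancel]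
    have hord : orderOf w = p := orderOf_eq_prime hwp hw1
    have h3 : p ∣ k + k := by rw [← hord]; exact orderOf_dvd_of_pow_eq_one h2
    have h4 : p ∣ k := by
      have h5 : p ∣ 2 * k := by rwa [two_mul]
      rcases (Nat.Prime.dvd_mul hp).mp h5 with h | h
      · exact absurd ((Nat.prime_dvd_prime_iff_eq hp Nat.prime_two).mp h) hp2
      · exact h
    have h5 : w ^ k = 1 := by
      obtain ⟨c, rfl⟩ := h4
      rw [pow_mul, hwp, one_pow]
    rw [h5, mul_one]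
    exact hz₁'

/-- the chain `⊥ ≤ Z₁ ≤ M ≤ ⊤` -/
def chain3 (Z₁ M : Subgroup B) : ℕ → Subgroup B
  | 0 => ⊥
  | 1 => Z₁
  | 2 => M
  | _ + 3 => ⊤

/-- if the centre of `α` lies in the axis of `γ α γ⁻¹` the two transvections generate a `p`-group -/
theorem isPGroup_pair [Finite B] (hB : IsPGroup p B) {α : MulAut B} {w : B} {ZB : Subgroup B}
    (hw : w ∈ ZB) (hα : ∀ y, y⁻¹ * α y ∈ Subgroup.zpowers w) (hfix : ∀ y, α y = y ↔ y ∈ ZB)
    (γ : MulAut B) (hγw : γ⁻¹ w ∈ ZB) :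
    ∃ H : Subgroup (MulAut B), IsPGroup p H ∧ α ∈ H ∧ γ * α * γ⁻¹ ∈ H := by
  -- the chain
  have hb0 : chain3 (ZB ⊓ ZB.comap (γ⁻¹ : MulAut B).toMonoidHom)
      ((ZB ⊓ ZB.comap (γ⁻¹ : MulAut B).toMonoidHom) ⊔ Subgroup.zpowers (γ w)) 0 = ⊥ := rfl
  have hmono : ∀ j, chain3 (ZB ⊓ ZB.comap (γ⁻¹ : MulAut B).toMonoidHom)
      ((ZB ⊓ ZB.comap (γ⁻¹ : MulAut B).toMonoidHom) ⊔ Subgroup.zpowers (γ w)) j ≤
      chain3 (ZB ⊓ ZB.comap (γ⁻¹ : MulAut B).toMonoidHom)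
      ((ZB ⊓ ZB.comap (γ⁻¹ : MulAut B).toMonoidHom) ⊔ Subgroup.zpowers (γ w)) (j + 1) := by
    intro j
    match j with
    | 0 => exact bot_le
    | 1 => exact le_sup_left
    | 2 => exact le_top
    | (n + 3) => exact le_rfl
  have hbm : chain3 (ZB ⊓ ZB.comap (γ⁻¹ : MulAut B).toMonoidHom)
      ((ZB ⊓ ZB.comap (γ⁻¹ : MulAut B).toMonoidHom) ⊔ Subgroup.zpowers (γ w)) 3 = ⊤ := rfl
  have hwZ₁ : w ∈ ZB ⊓ ZB.comap (γ⁻¹ : MulAut B).toMonoidHom := Subgroup.mem_inf.mpr ⟨hw, hγw⟩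
  have hzw : Subgroup.zpowers w ≤ ZB ⊓ ZB.comap (γ⁻¹ : MulAut B).toMonoidHom :=
    Subgroup.zpowers_le.mpr hwZ₁
  -- facts on `γ α γ⁻¹`
  have hα' : ∀ x, x⁻¹ * (γ * α * γ⁻¹) x ∈ Subgroup.zpowers (γ w) := by
    intro x
    obtain ⟨k, hk⟩ := Subgroup.mem_zpowers_iff.mp (hα (γ⁻¹ x))
    rw [Subgroup.mem_zpowers_iff]
    refine ⟨k, ?_⟩
    show (γ w) ^ k = x⁻¹ * γ (α (γ⁻¹ x))
    rw [← map_zpow, hk, map_mul, map_inv, MulAut.apply_inv_self]
  have hfix' : ∀ x, γ⁻¹ x ∈ ZB → (γ * α * γ⁻¹) x = x := by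
    intro x hx
    show γ (α (γ⁻¹ x)) = x
    rw [(hfix _).mpr hx, MulAut.apply_inv_self]
  have hM : (ZB ⊓ ZB.comap (γ⁻¹ : MulAut B).toMonoidHom) ⊔ Subgroup.zpowers (γ w) ≤
      fixS (γ * α * γ⁻¹) := by
    refine sup_le ?_ ?_
    · intro x hx
      exact hfix' x (Subgroup.mem_inf.mp hx).2
    · rw [Subgroup.zpowers_le]
      apply hfix'
      rw [MulAut.inv_apply_self]
      exact hw
  refine ⟨chainStab _ 3 hb0 hmono, chainStab_isPGroup hB _ 3 hb0 hmono hbm, ?_, ?_⟩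
  · rw [mem_chainStab]
    intro j hj x hx
    interval_cases j
    · have h1 : α x = x := (hfix x).mpr (Subgroup.mem_inf.mp hx).1
      rw [h1, inv_mul_cancel]
      exact Subgroup.one_mem _
    · exact hzw (hα x)
    · exact le_sup_left (α := Subgroup B) (hzw (hα x))
  · rw [mem_chainStab]
    intro j hj x hx
    interval_cases j
    · have h1 : (γ * α * γ⁻¹) x = x := hfix' x (Subgroup.mem_inf.mp hx).2
      rw [h1, inv_mul_cancel]
      exact Subgroup.one_mem _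
    · have h1 : (γ * α * γ⁻¹) x = x := hM hx
      rw [h1, inv_mul_cancel]
      exact Subgroup.one_mem _
    · exact le_sup_right (α := Subgroup B) (hα' x)

end Transvection

end Cfsg.Agent.Lib.Helper27.Transv
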