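import Mathlib
import Cfsg.Prelude.Def_FusionSystem
import Cfsg.Agent.Lib.Helper27.FusionSat
import Cfsg.Agent.Lib.Helper27.FusionNormal
import Cfsg.Agent.Lib.Helper27.FusionNormalCrit
import Cfsg.Agent.Lib.Helper27.AbelianIndexP
import Cfsg.Agent.Lib.Helper27.Transvection
import Cfsg.Agent.S5082

/-!
# Helper27: subgroups of `Z(S)` normal in a saturated fusion system; reflections of `Z(S)`

* `isNormal_of_center_invariant`: a subgroup of `Z(S)` invariant under `Aut_F(S)` and `Aut_F(Q)`, `Q`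
  essential, is normal in `F`.
* `center_aut_extends`: automorphisms of `Z(S)` in `F` extend to `S`; `Aut_F(Z(S))` is a `p'`-group.
* `IsRefl D e`: `e ∈ Aut_F(Z(S))` inverts `D` and is trivial modulo `D`. Such an `e` is unique,
  central in `Aut_F(Z(S))`, and `Z(S) = Fix(e) D`.
-/

set_option autoImplicit false

namespace Cfsg.Agent.Lib.Helper27

open Cfsg Cfsg.FusionSystem

variable {Ω : Type*} [Group Ω] {S : Subgroup Ω}

/-- A subgroup of `Z(S)` invariant under `Aut_F(S)` and under `Aut_F(Q)` for every essential `Q` is normal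
in the saturated system `F`. -/
theorem isNormal_of_center_invariant [Finite S] {p : ℕ} [Fact p.Prime] (hS : IsPGroup p S)
    {F : FusionSystem S} (hF : F.IsSaturated p) {Y : Subgroup Ω}
    (hYZ : Y ≤ S ⊓ Subgroup.centralizer (S : Set Ω))
    (hinv : ∀ Q : Subgroup Ω, (Q = S ∨ F.IsEssential p Q) → ∀ α ∈ F.autGroup Q, ∀ y : Q,
      (y : Ω) ∈ Y → ((α y : Q) : Ω) ∈ Y) : F.IsNormal Y := by
  have hc : ∀ y ∈ Y, ∀ s ∈ S, s * y = y * s := fun y hy s hs => center_commute (hYZ hy) hs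
  let E : FusionSystem S :=
    { Hom := fun P => {φ | φ ∈ F.Hom P ∧ ∀ x : P, (x : Ω) ∈ Y ↔ φ x ∈ Y}
      le_of_mem := fun h => F.le_of_mem h.1
      injective_of_mem := fun h => F.injective_of_mem h.1
      conj_mem := by
        intro P g hP hg
        refine ⟨F.conj_mem hP hg, fun x => ?_⟩
        show (x : Ω) ∈ Y ↔ g * (x : Ω) * g⁻¹ ∈ Y
        constructor
        · intro hx
          rw [hc _ hx g hg, mul_inv_cancel_right]
          exact hx
        · intro hx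
          have h1 : (x : Ω) = g⁻¹ * (g * (x : Ω) * g⁻¹) * g := by group
          rw [h1, hc _ hx g⁻¹ (S.inv_mem hg), inv_mul_cancel_right]
          exact hx
      comp_mem := by
        intro P Q φ ψ hφ hψ h
        refine ⟨F.comp_mem hφ.1 hψ.1 h, fun x => ?_⟩
        show (x : Ω) ∈ Y ↔ ψ (φ.codRestrict Q h x) ∈ Y
        rw [hφ.2 x]
        exact hψ.2 (φ.codRestrict Q h x)
      inv_mem := by
        intro P φ hφ
        obtain ⟨ψ, hψ, hψφ⟩ := F.inv_mem hφ.1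
        refine ⟨ψ, ⟨hψ, ?_⟩, hψφ⟩
        rintro ⟨_, x, rfl⟩
        rw [hψφ x]
        exact (hφ.2 x).symm }
  have hle : F ≤ E := by
    apply Cfsg.Agent.S5082.result p hS F hF E
    intro P hP α hα
    have hPS : P ≤ S := by
      rcases hP with h | h
      · rw [h]
      · exact h.1.1
    rw [mem_autGroup_iff E hPS]
    have hα' := (mem_autGroup_iff F hPS α).mp hα
    refine ⟨hα', fun x => ⟨fun hx => hinv P hP α hα x hx, fun hx => ?_⟩⟩
    have h1 := hinv P hP α⁻¹ ((F.autGroup P).inv_mem hα) (α x) hx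
    rwa [MulAut.inv_apply_self] at h1
  have hall : ∀ (P : Subgroup Ω) (φ : P →* Ω), φ ∈ F.Hom P → ∀ x : P, (x : Ω) ∈ Y ↔ φ x ∈ Y :=
    fun P φ hφ => (hle P hφ).2
  have hsc : F.StronglyClosed Y :=
    ⟨hYZ.trans inf_le_left, fun R hR φ hφ x => (hall R φ hφ x).mp (hR x.2)⟩
  apply isNormal_of_le_frc hS hF hsc
  intro R _ _ hcR _ y hy
  apply hcR.2 R (isConj_refl F hcR.1)
  rw [mem_centralizerIn_iff]
  exact ⟨(hYZ hy).1, fun r hr => center_commute (hYZ hy) (hcR.1 hr)⟩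

/-! ### The centre of `S` -/

theorem center_isFullyNormalized [Finite S] (F : FusionSystem S) :
    F.IsFullyNormalized (S ⊓ Subgroup.centralizer (S : Set Ω)) := by
  refine ⟨inf_le_left, fun Q _ => ?_⟩
  have hN : normalizerIn S (S ⊓ Subgroup.centralizer (S : Set Ω)) = S := by
    apply le_antisymm inf_le_left
    intro s hs
    refine ⟨hs, ?_⟩
    have : Finite ↥(S ⊓ Subgroup.centralizer (S : Set Ω)) :=
      Finite.of_injective (Subgroup.inclusion inf_le_left) (Subgroup.inclusion_injective _)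
    apply mem_normalizer_of_conj_mem
    intro y hy
    rw [center_commute hy hs, mul_inv_cancel_right]
    exact hy
  rw [hN]
  exact Subgroup.card_le_of_le (normalizerIn_le_S S Q)

/-- every automorphism of `Z(S)` in `F` extends to an automorphism of `S` in `F` -/
theorem center_aut_extends [Finite S] {p : ℕ} [Fact p.Prime] (hS : IsPGroup p S)
    {F : FusionSystem S} (hF : F.IsSaturated p)
    {e : ↥(S ⊓ Subgroup.centralizer (S : Set Ω)) ≃* ↥(S ⊓ Subgroup.centralizer (S : Set Ω))}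
    (he : IsIso F e) :
    ∃ β : S ≃* S, IsIso F β ∧ ∀ z : ↥(S ⊓ Subgroup.centralizer (S : Set Ω)),
      ((β ⟨z, z.2.1⟩ : S) : Ω) = (e z : Ω) := by
  obtain ⟨-, hrec, -⟩ := fa_receptive_of_fullyNormalized hS hF (center_isFullyNormalized F)
  obtain ⟨ψ, hψ, h⟩ := receptive_exists_extension hrec he
  have hext : extender S (S ⊓ Subgroup.centralizer (S : Set Ω))
      ((S ⊓ Subgroup.centralizer (S : Set Ω)).subtype.comp e.toMonoidHom) = S := by
    apply le_antisymm (extender_le_S _)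
    refine le_trans ?_ (centralizerIn_le_extender _)
    intro g hg
    refine ⟨hg, ?_⟩
    show g ∈ Subgroup.centralizer ((S ⊓ Subgroup.centralizer (S : Set Ω) : Subgroup Ω) : Set Ω)
    rw [Subgroup.mem_centralizer_iff]
    intro x hx
    exact (center_commute hx hg).symm
  have hψ' : ψ.comp (Subgroup.inclusion hext.ge) ∈ F.Hom S := hom_restrict F hext.ge hψ
  obtain ⟨α, hα, hαψ⟩ := exists_aut_of_hom_top F hψ'
  refine ⟨α, hα, fun z => ?_⟩
  rw [hαψ]
  exact h z.1 z.2 _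

/-- automorphisms of `S` preserve `Z(S)` -/
theorem center_aut_mem (β : S ≃* S) (s : S) (hs : (s : Ω) ∈ S ⊓ Subgroup.centralizer (S : Set Ω)) :
    ((β s : S) : Ω) ∈ S ⊓ Subgroup.centralizer (S : Set Ω) := by
  refine Subgroup.mem_inf.mpr ⟨(β s).2, ?_⟩
  rw [Subgroup.mem_centralizer_iff]
  intro t ht
  have h2 : β.symm ⟨t, ht⟩ * s = s * β.symm ⟨t, ht⟩ :=
    Subtype.ext (center_commute hs (β.symm ⟨t, ht⟩).2)
  have h3 := congrArg (fun u : S => ((β u : S) : Ω)) h2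
  simp only [map_mul, Subgroup.coe_mul, MulEquiv.apply_symm_apply] at h3
  exact h3

theorem autInducedBy_center_eq_bot :
    autInducedBy S (S ⊓ Subgroup.centralizer (S : Set Ω)) = ⊥ := by
  rw [eq_bot_iff]
  intro α hα
  rw [mem_autInducedBy_iff] at hα
  obtain ⟨g, hg, h⟩ := hα
  rw [Subgroup.mem_bot]
  ext x
  rw [h x, center_commute x.2 hg]
  simp

/-- `Aut_F(Z(S))` has order prime to `p` -/
theorem not_dvd_card_autGroup_center [Finite S] {p : ℕ} [Fact p.Prime] (hS : IsPGroup p S)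
    {F : FusionSystem S} (hF : F.IsSaturated p) :
    ¬ p ∣ Nat.card (F.autGroup (S ⊓ Subgroup.centralizer (S : Set Ω))) := by
  have : Finite ↥(S ⊓ Subgroup.centralizer (S : Set Ω)) :=
    Finite.of_injective (Subgroup.inclusion inf_le_left) (Subgroup.inclusion_injective _)
  obtain ⟨⟨-, R, hR⟩, -, -⟩ := fa_receptive_of_fullyNormalized hS hF (center_isFullyNormalized F)
  rw [autInducedBy_center_eq_bot] at hR
  have h1 : ¬ p ∣ (R : Subgroup (F.autGroup (S ⊓ Subgroup.centralizer (S : Set Ω)))).index :=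
    R.not_dvd_index
  rw [hR] at h1
  have h2 : (⊥ : Subgroup (MulAut ↥(S ⊓ Subgroup.centralizer (S : Set Ω)))).subgroupOf
      (F.autGroup (S ⊓ Subgroup.centralizer (S : Set Ω))) = ⊥ := by
    simp
  rwa [h2, Subgroup.index_bot] at h1

theorem autGroup_center_eq_one_of_pow [Finite S] {p : ℕ} [Fact p.Prime] (hS : IsPGroup p S)
    {F : FusionSystem S} (hF : F.IsSaturated p)
    {ε : MulAut ↥(S ⊓ Subgroup.centralizer (S : Set Ω))}
    (hε : ε ∈ F.autGroup (S ⊓ Subgroup.centralizer (S : Set Ω))) (hεp : ε ^ p = 1) : ε = 1 := by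
  have hp : p.Prime := Fact.out
  have : Finite ↥(S ⊓ Subgroup.centralizer (S : Set Ω)) :=
    Finite.of_injective (Subgroup.inclusion inf_le_left) (Subgroup.inclusion_injective _)
  have h1 : orderOf (⟨ε, hε⟩ : F.autGroup (S ⊓ Subgroup.centralizer (S : Set Ω))) ∣ p :=
    orderOf_dvd_of_pow_eq_one (Subtype.ext hεp)
  have h2 : orderOf (⟨ε, hε⟩ : F.autGroup (S ⊓ Subgroup.centralizer (S : Set Ω))) ∣
      Nat.card (F.autGroup (S ⊓ Subgroup.centralizer (S : Set Ω))) := orderOf_dvd_natCard _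
  rcases (Nat.dvd_prime hp).mp h1 with h | h
  · exact congrArg Subtype.val (orderOf_eq_one_iff.mp h)
  · rw [h] at h2
    exact absurd h2 (not_dvd_card_autGroup_center hS hF)

/-! ### Reflections of the centre -/

/-- `e` inverts `D` and acts trivially on `Z(S)` modulo `D`. -/
structure IsRefl (D : Subgroup Ω)
    (e : ↥(S ⊓ Subgroup.centralizer (S : Set Ω)) ≃* ↥(S ⊓ Subgroup.centralizer (S : Set Ω))) :
    Prop where
  inv : ∀ d : ↥(S ⊓ Subgroup.centralizer (S : Set Ω)), (d : Ω) ∈ D → e d = d⁻¹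
  mod : ∀ z : ↥(S ⊓ Subgroup.centralizer (S : Set Ω)),
    ((z⁻¹ * e z : ↥(S ⊓ Subgroup.centralizer (S : Set Ω))) : Ω) ∈ D

theorem IsRefl.unique [Finite S] {p : ℕ} [Fact p.Prime] (hS : IsPGroup p S) {F : FusionSystem S}
    (hF : F.IsSaturated p) {D : Subgroup Ω} (hDp : ∀ d ∈ D, d ^ p = 1)
    {e e' : ↥(S ⊓ Subgroup.centralizer (S : Set Ω)) ≃* ↥(S ⊓ Subgroup.centralizer (S : Set Ω))}
    (he : IsIso F e) (he' : IsIso F e') (h : IsRefl D e) (h' : IsRefl D e') : e = e' := by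
  have hZS : S ⊓ Subgroup.centralizer (S : Set Ω) ≤ S := inf_le_left
  have heG : (e : MulAut ↥(S ⊓ Subgroup.centralizer (S : Set Ω))) ∈
      F.autGroup (S ⊓ Subgroup.centralizer (S : Set Ω)) := (mem_autGroup_iff F hZS e).mpr he
  have he'G : (e' : MulAut ↥(S ⊓ Subgroup.centralizer (S : Set Ω))) ∈
      F.autGroup (S ⊓ Subgroup.centralizer (S : Set Ω)) := (mem_autGroup_iff F hZS e').mpr he'
  obtain ⟨ε, hεdef⟩ : ∃ ε : MulAut ↥(S ⊓ Subgroup.centralizer (S : Set Ω)),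
      ε = (e' : MulAut ↥(S ⊓ Subgroup.centralizer (S : Set Ω)))⁻¹ * e := ⟨_, rfl⟩
  have hεG : ε ∈ F.autGroup (S ⊓ Subgroup.centralizer (S : Set Ω)) := by
    rw [hεdef]
    exact (F.autGroup _).mul_mem ((F.autGroup _).inv_mem he'G) heG
  have hinv' : ∀ d : ↥(S ⊓ Subgroup.centralizer (S : Set Ω)), (d : Ω) ∈ D →
      (e' : MulAut ↥(S ⊓ Subgroup.centralizer (S : Set Ω)))⁻¹ d = d⁻¹ := by
    intro d hd
    have h1 : e' d⁻¹ = d := by rw [map_inv, h'.inv d hd, inv_inv]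
    have h2 : (e' : MulAut ↥(S ⊓ Subgroup.centralizer (S : Set Ω)))⁻¹ (e' d⁻¹) = d⁻¹ :=
      MulAut.inv_apply_self _ _ _
    rw [h1] at h2
    exact h2
  have hεapply : ∀ z, ε z = (e' : MulAut ↥(S ⊓ Subgroup.centralizer (S : Set Ω)))⁻¹ (e z) := by
    intro z
    rw [hεdef]
    rfl
  have hεD : ∀ d : ↥(S ⊓ Subgroup.centralizer (S : Set Ω)), (d : Ω) ∈ D → ε d = d := by
    intro d hd
    rw [hεapply, h.inv d hd, map_inv, hinv' d hd, inv_inv]
  have hεmod : ∀ z : ↥(S ⊓ Subgroup.centralizer (S : Set Ω)),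
      ((z⁻¹ * ε z : ↥(S ⊓ Subgroup.centralizer (S : Set Ω))) : Ω) ∈ D := by
    intro z
    have hd₁ := h.mod z
    have hd₂ := h'.mod ((e' : MulAut ↥(S ⊓ Subgroup.centralizer (S : Set Ω)))⁻¹ z)
    rw [MulAut.apply_inv_self] at hd₂
    have h1 : e z = z * (z⁻¹ * e z) := by rw [mul_inv_cancel_left]
    have h2 : ε z = (e' : MulAut ↥(S ⊓ Subgroup.centralizer (S : Set Ω)))⁻¹ z * (z⁻¹ * e z)⁻¹ := by
      rw [hεapply]
      conv_lhs => rw [h1]
      rw [map_mul, hinv' _ hd₁]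
    have h3 : z⁻¹ * ε z =
        (((e' : MulAut ↥(S ⊓ Subgroup.centralizer (S : Set Ω)))⁻¹ z)⁻¹ * z)⁻¹ * (z⁻¹ * e z)⁻¹ := by
      rw [h2]; group
    rw [h3]
    exact D.mul_mem (D.inv_mem hd₂) (D.inv_mem hd₁)
  have hpow : ∀ (k : ℕ) (z : ↥(S ⊓ Subgroup.centralizer (S : Set Ω))),
      (ε ^ k) z = z * (z⁻¹ * ε z) ^ k := by
    intro k z
    induction k with
    | zero => simp
    | succ k ih =>
      rw [pow_succ', MulAut.mul_apply, ih, map_mul, map_pow, hεD _ (hεmod z)]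
      rw [pow_succ' (z⁻¹ * ε z) k, ← mul_assoc, mul_inv_cancel_left]
  have hεp : ε ^ p = 1 := by
    refine MulEquiv.ext fun z => ?_
    rw [hpow p z]
    have h1 : (z⁻¹ * ε z) ^ p = 1 := by
      apply Subtype.ext
      rw [Subgroup.coe_pow]
      exact hDp _ (hεmod z)
    rw [h1, mul_one]
    rfl
  have hε1 := autGroup_center_eq_one_of_pow hS hF hεG hεp
  rw [hεdef] at hε1
  exact (inv_mul_eq_one.mp hε1).symm

/-- every automorphism of `Z(S)` in `F` preserves the fixed points of a reflection -/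
theorem IsRefl.fix_invariant [Finite S] {p : ℕ} [Fact p.Prime] (hS : IsPGroup p S)
    {F : FusionSystem S} (hF : F.IsSaturated p) {D : Subgroup Ω} (hDp : ∀ d ∈ D, d ^ p = 1)
    (hD : ∀ β : S ≃* S, ∀ s : S, (s : Ω) ∈ D → ((β s : S) : Ω) ∈ D)
    {e σ : ↥(S ⊓ Subgroup.centralizer (S : Set Ω)) ≃* ↥(S ⊓ Subgroup.centralizer (S : Set Ω))}
    (he : IsIso F e) (h : IsRefl D e) (hσ : IsIso F σ)
    (z : ↥(S ⊓ Subgroup.centralizer (S : Set Ω))) (hz : e z = z) : e (σ z) = σ z := by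
  have hσD : ∀ {τ : ↥(S ⊓ Subgroup.centralizer (S : Set Ω)) ≃*
      ↥(S ⊓ Subgroup.centralizer (S : Set Ω))}, IsIso F τ →
      ∀ d : ↥(S ⊓ Subgroup.centralizer (S : Set Ω)), (d : Ω) ∈ D → ((τ d : _) : Ω) ∈ D := by
    intro τ hτ d hd
    obtain ⟨β, -, hβ⟩ := center_aut_extends hS hF hτ
    rw [← hβ d]
    exact hD β _ hd
  have hσ' : IsIso F σ.symm := hσ.symm
  have he'iso : IsIso F ((σ.symm.trans e).trans σ) := (hσ'.trans he).trans hσ
  have hrefl' : IsRefl D ((σ.symm.trans e).trans σ) := by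
    constructor
    · intro d hd
      show σ (e (σ.symm d)) = d⁻¹
      rw [h.inv _ (hσD hσ' d hd), map_inv, MulEquiv.apply_symm_apply]
    · intro z
      show ((z⁻¹ * σ (e (σ.symm z)) : ↥(S ⊓ Subgroup.centralizer (S : Set Ω))) : Ω) ∈ D
      have h1 : z⁻¹ * σ (e (σ.symm z)) = σ ((σ.symm z)⁻¹ * e (σ.symm z)) := by
        rw [map_mul, map_inv, MulEquiv.apply_symm_apply]
      rw [h1]
      exact hσD hσ _ (h.mod _)
  have heq := IsRefl.unique hS hF hDp he'iso he hrefl' h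
  have h2 : ((σ.symm.trans e).trans σ) (σ z) = σ z := by
    show σ (e (σ.symm (σ z))) = σ z
    rw [MulEquiv.symm_apply_apply, hz]
  rw [heq] at h2
  exact h2

/-- `Z(S) = Fix(e) D` for a reflection `e` (`p` odd) -/
theorem IsRefl.decomp {p : ℕ} [Fact p.Prime] (hp2 : p ≠ 2) {D : Subgroup Ω}
    (hDp : ∀ d ∈ D, d ^ p = 1)
    {e : ↥(S ⊓ Subgroup.centralizer (S : Set Ω)) ≃* ↥(S ⊓ Subgroup.centralizer (S : Set Ω))}
    (h : IsRefl D e) (z : ↥(S ⊓ Subgroup.centralizer (S : Set Ω))) :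
    ∃ y : ↥(S ⊓ Subgroup.centralizer (S : Set Ω)), e y = y ∧
      ((y⁻¹ * z : ↥(S ⊓ Subgroup.centralizer (S : Set Ω))) : Ω) ∈ D := by
  have hp : p.Prime := Fact.out
  obtain ⟨c, hc⟩ : ∃ c, p = 2 * c + 1 := by
    rcases hp.eq_two_or_odd' with h2 | hodd
    · exact absurd h2 hp2
    · exact hodd
  obtain ⟨d, hddef⟩ : ∃ d : ↥(S ⊓ Subgroup.centralizer (S : Set Ω)), d = z⁻¹ * e z := ⟨_, rfl⟩
  have hd : (d : Ω) ∈ D := by rw [hddef]; exact h.mod z
  have hdp : d ^ p = 1 := by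
    apply Subtype.ext
    rw [Subgroup.coe_pow]
    exact hDp _ hd
  obtain ⟨d', hd'def⟩ : ∃ d' : ↥(S ⊓ Subgroup.centralizer (S : Set Ω)), d' = d ^ (c + 1) := ⟨_, rfl⟩
  have hd2 : d' * d' = d := by
    rw [hd'def, ← pow_add]
    have h1 : c + 1 + (c + 1) = p + 1 := by omega
    rw [h1, pow_succ, hdp, one_mul]
  have hd'' : (d' : Ω) ∈ D := by
    rw [hd'def, Subgroup.coe_pow]
    exact D.pow_mem hd _
  have h2 : d * d'⁻¹ = d' := by rw [← hd2, mul_inv_cancel_right]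
  have h1 : e z = z * d := by rw [hddef, mul_inv_cancel_left]
  refine ⟨z * d', ?_, ?_⟩
  · rw [map_mul, h.inv _ hd'', h1, mul_assoc, h2]
  · rw [mul_inv_rev, inv_mul_cancel_right]
    exact D.inv_mem hd''

/-- an automorphism in `F` of an overgroup of `Z(S)` preserving `Z(S)` preserves the fixed points of
a reflection -/
theorem IsRefl.fix_invariant_of_aut [Finite S] {p : ℕ} [Fact p.Prime] (hS : IsPGroup p S)
    {F : FusionSystem S} (hF : F.IsSaturated p) {D : Subgroup Ω} (hDp : ∀ d ∈ D, d ^ p = 1)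
    (hD : ∀ β : S ≃* S, ∀ s : S, (s : Ω) ∈ D → ((β s : S) : Ω) ∈ D)
    {e : ↥(S ⊓ Subgroup.centralizer (S : Set Ω)) ≃* ↥(S ⊓ Subgroup.centralizer (S : Set Ω))}
    (he : IsIso F e) (h : IsRefl D e) {Q : Subgroup Ω} (hQS : Q ≤ S)
    (hZQ : S ⊓ Subgroup.centralizer (S : Set Ω) ≤ Q) {α : MulAut Q} (hα : α ∈ F.autGroup Q)
    (hαZ : ∀ z : Q, (z : Ω) ∈ S ⊓ Subgroup.centralizer (S : Set Ω) →
      ((α z : Q) : Ω) ∈ S ⊓ Subgroup.centralizer (S : Set Ω))
    (y : Q) (hy : (y : Ω) ∈ S ⊓ Subgroup.centralizer (S : Set Ω))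
    (hey : e ⟨y, hy⟩ = ⟨y, hy⟩) : e ⟨α y, hαZ y hy⟩ = ⟨α y, hαZ y hy⟩ := by
  have hα' : Q.subtype.comp (α : Q ≃* Q).toMonoidHom ∈ F.Hom Q := (mem_autGroup_iff F hQS α).mp hα
  have : Finite ↥(S ⊓ Subgroup.centralizer (S : Set Ω)) :=
    Finite.of_injective (Subgroup.inclusion inf_le_left) (Subgroup.inclusion_injective _)
  obtain ⟨σ, hσ, hσα⟩ := exists_aut_restrict F hZQ hα' (fun x hx => hαZ x hx)
  have h1 := IsRefl.fix_invariant hS hF hDp hD he h hσ ⟨y, hy⟩ hey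
  have h2 : σ ⟨y, hy⟩ = ⟨α y, hαZ y hy⟩ := Subtype.ext (hσα ⟨y, hy⟩)
  rw [h2] at h1
  exact h1

/-! ### Conjugating a `p`-subgroup of `Aut_F(P)` into `Aut_S(P)` -/

open scoped Pointwise in
theorem exists_conj_isPGroup_mem_autInducedBy [Finite S] {p : ℕ} [Fact p.Prime] (hS : IsPGroup p S)
    {F : FusionSystem S} (hF : F.IsSaturated p) {P : Subgroup Ω} (hfn : F.IsFullyNormalized P)
    (Hs : Subgroup (F.autGroup P)) (hH : IsPGroup p Hs) :
    ∃ c : F.autGroup P, ∀ a ∈ Hs, ((c * a * c⁻¹ : F.autGroup P) : MulAut P) ∈ autInducedBy S P := by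
  have hPS : P ≤ S := hfn.1
  have : Finite P := Finite.of_injective (Subgroup.inclusion hPS) (Subgroup.inclusion_injective hPS)
  obtain ⟨hfa, -, -⟩ := fa_receptive_of_fullyNormalized hS hF hfn
  obtain ⟨-, R₀, hR₀⟩ := hfa
  obtain ⟨R, hR⟩ := IsPGroup.exists_le_sylow hH
  obtain ⟨c, hc⟩ := MulAction.exists_smul_eq (F.autGroup P) R R₀
  refine ⟨c, fun a ha => ?_⟩
  have h3 := Subgroup.smul_mem_pointwise_smul _ (MulAut.conj c) _ (hR ha)
  rw [← Sylow.coe_subgroup_smul, hc, hR₀] at h3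
  exact h3

end Cfsg.Agent.Lib.Helper27
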