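import Mathlib
import Cfsg.Agent.Lib.Helper27.AbelianIndexP2
import Cfsg.Agent.Lib.Helper27.CenterRefl

/-!
# Helper27: `p`-groups with an abelian subgroup of index `p`: core-free fusion systems

For an essential subgroup `P` with `P ∩ A = Z(S)` (so `P = Z(S)⟨x⟩` is abelian) the automorphism `c_g`,
`g ∈ N_A(P) - P`, is a transvection with axis `Z(S)` and centre `⟨w⟩ = Z(S) ∩ S'` (`HData`).  Together
with a conjugate `γ c_g γ⁻¹` (`γ ∈ Aut_F(P)` moving `Z(S)`) it generates an element inducing a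
reflection of `Z(S)` with fixed points `Z(S) ∩ γ(Z(S))` (`hType_exists_refl`).  This gives the structure
of the systems with `O_p(F) = 1` in which `A` is not essential (`core_free_structure`).
-/

set_option autoImplicit false

namespace Cfsg.Agent.Lib.Helper27

open Cfsg Cfsg.FusionSystem
open scoped commutatorElement

variable {Ω : Type*} [Group Ω] {S A : Subgroup Ω}

/-- if `P ∩ A` is not contained in `Z(S)`, the centre of `P` is `Z(S)` and is preserved by all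
automorphisms of `P` -/
theorem aut_center_mem_of_not_hType {P : Subgroup Ω} (hA : AbIdx S A) (hPS : P ≤ S) {x : Ω}
    (hx : x ∈ P) (hxA : x ∉ A) {a₁ : Ω} (ha₁ : a₁ ∈ P ⊓ A)
    (ha₁Z : a₁ ∉ S ⊓ Subgroup.centralizer (S : Set Ω)) (γ : MulAut P) (z : P)
    (hz : (z : Ω) ∈ S ⊓ Subgroup.centralizer (S : Set Ω)) :
    ((γ z : P) : Ω) ∈ S ⊓ Subgroup.centralizer (S : Set Ω) := by
  have hcen : ∀ y ∈ P, (∀ y' ∈ P, y * y' = y' * y) → y ∈ S ⊓ Subgroup.centralizer (S : Set Ω) := by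
    intro y hy hyc
    by_cases hyA : y ∈ A
    · exact hA.mem_center_of_comm (hPS hx) hxA hyA (hyc x hx)
    · exfalso
      apply ha₁Z
      obtain ⟨a', ha', k, hk⟩ := hA.dec_inf hPS hy hyA hx
      apply hA.mem_center_of_comm (hPS hx) hxA (Subgroup.mem_inf.mp ha₁).2
      rw [hk]
      have c1 : Commute a₁ a' := hA.comm a₁ (Subgroup.mem_inf.mp ha₁).2 a' (Subgroup.mem_inf.mp ha').2
      have c2 : Commute a₁ (y ^ k) :=
        Commute.zpow_right (show Commute a₁ y from (hyc a₁ (Subgroup.mem_inf.mp ha₁).1).symm) k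
      exact c1.mul_right c2
  apply hcen _ (γ z).2
  intro y' hy'
  have h1 : z * (γ⁻¹ ⟨y', hy'⟩) = (γ⁻¹ ⟨y', hy'⟩) * z :=
    Subtype.ext (center_commute hz (hPS (γ⁻¹ ⟨y', hy'⟩).2)).symm
  have h2 := congrArg γ h1
  rw [map_mul, map_mul, MulAut.apply_inv_self] at h2
  exact congrArg Subtype.val h2

/-- the transvection data of an essential subgroup `P` with `P ∩ A = Z(S)` -/
structure HData (S A P : Subgroup Ω) (p : ℕ) (α : MulAut P) (w : P) : Prop where
  comm : ∀ u v : P, u * v = v * u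
  wZ : (w : Ω) ∈ (S ⊓ Subgroup.centralizer (S : Set Ω)) ⊓ (commutator ↥S).map S.subtype
  wp : w ^ p = 1
  w1 : w ≠ 1
  trans : ∀ y : P, y⁻¹ * α y ∈ Subgroup.zpowers w
  fix : ∀ y : P, α y = y ↔ y ∈ (S ⊓ Subgroup.centralizer (S : Set Ω)).subgroupOf P
  mem : α ∈ autInducedBy S P

theorem exists_hData [Finite S] {p : ℕ} [Fact p.Prime] (hS : IsPGroup p S) {F : FusionSystem S}
    (hF : F.IsSaturated p) {P : Subgroup Ω} (hA : AbIdx S A) (hAidx : (A.subgroupOf S).index = p)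
    (hP : F.IsEssential p P) (hab : ∀ a ∈ P ⊓ A, a ∈ S ⊓ Subgroup.centralizer (S : Set Ω))
    {x : Ω} (hx : x ∈ P) (hxA : x ∉ A) : ∃ (α : MulAut P) (w : P), HData S A P p α w := by
  have hp : p.Prime := Fact.out
  have hPS : P ≤ S := hP.1.1
  obtain ⟨K, -, -, -, ⟨g₀, hg₀, hg₀P⟩, -⟩ := essential_exists_subgroup hS hF hP
  obtain ⟨g, hg, hgA, hgP⟩ := exists_mem_normalizerIn_inf hA hPS hx hxA hg₀ hg₀P
  have hxS : x ∈ S := hPS hx
  have hgS : g ∈ S := hg.1
  have hcx : g * x * g⁻¹ ∈ P := conj_mem_of_mem_normalizerIn hg hx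
  obtain ⟨w₁, hw₁⟩ : ∃ w₁ : Ω, w₁ = x⁻¹ * (g * x * g⁻¹) := ⟨_, rfl⟩
  have hwP : w₁ ∈ P := by rw [hw₁]; exact P.mul_mem (P.inv_mem hx) hcx
  have hwA : w₁ ∈ A := by rw [hw₁]; exact hA.inv_mul_conj_mem hgA hxS
  have hwZ : w₁ ∈ S ⊓ Subgroup.centralizer (S : Set Ω) := hab _ (Subgroup.mem_inf.mpr ⟨hwP, hwA⟩)
  have hwS' : w₁ ∈ (commutator ↥S).map S.subtype := by
    refine ⟨⁅(⟨x⁻¹, S.inv_mem hxS⟩ : S), ⟨g, hgS⟩⁆, ?_, ?_⟩
    · rw [commutator_def]
      exact Subgroup.commutator_mem_commutator (Subgroup.mem_top _) (Subgroup.mem_top _)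
    · rw [hw₁]
      simp [commutatorElement_def, mul_assoc]
  have hgx : g * x * g⁻¹ = x * w₁ := by rw [hw₁, mul_inv_cancel_left]
  have hwc : ∀ s ∈ S, s * w₁ = w₁ * s := fun s hs => center_commute hwZ hs
  have hconjx : ∀ k : ℤ, g * x ^ k * g⁻¹ = x ^ k * w₁ ^ k := by
    intro k
    rw [← conj_zpow, hgx, Commute.mul_zpow (hwc x hxS)]
  have hxpA : x ^ p ∈ A := by
    have := hA.normal
    have h1 := Subgroup.pow_index_mem (A.subgroupOf S) (⟨x, hxS⟩ : S)
    rw [hAidx, Subgroup.mem_subgroupOf] at h1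
    simpa using h1
  have hxpZ : x ^ p ∈ S ⊓ Subgroup.centralizer (S : Set Ω) :=
    hab _ (Subgroup.mem_inf.mpr ⟨P.pow_mem hx p, hxpA⟩)
  have hwp : w₁ ^ p = 1 := by
    have h1 := hconjx (p : ℤ)
    rw [zpow_natCast, zpow_natCast] at h1
    have h2 : g * x ^ p * g⁻¹ = x ^ p := by rw [center_commute hxpZ hgS, mul_inv_cancel_right]
    rw [h2] at h1
    have h3 : x ^ p * w₁ ^ p = x ^ p * 1 := by rw [mul_one]; exact h1.symm
    exact mul_left_cancel h3
  -- conjugation of a general element of `P`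
  have hconj : ∀ a ∈ P ⊓ A, ∀ k : ℤ, g * (a * x ^ k) * g⁻¹ = a * x ^ k * w₁ ^ k := by
    intro a ha k
    have haZ := hab a ha
    have h1 : g * (a * x ^ k) * g⁻¹ = (g * a * g⁻¹) * (g * x ^ k * g⁻¹) := by group
    rw [h1, hconjx, center_commute haZ hgS, mul_inv_cancel_right, mul_assoc]
  have hw1 : w₁ ≠ 1 := by
    intro h1
    apply hgP
    apply hP.1.2 P (isConj_refl F hPS)
    rw [mem_centralizerIn_iff]
    refine ⟨hgS, fun y hy => ?_⟩
    obtain ⟨a, ha, k, rfl⟩ := hA.dec_inf hPS hx hxA hy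
    have h2 := hconj a ha k
    rw [h1, one_zpow, mul_one] at h2
    exact (mul_inv_eq_iff_eq_mul.mp h2).symm
  have hord : orderOf w₁ = p := orderOf_eq_prime hwp hw1
  have hZP : S ⊓ Subgroup.centralizer (S : Set Ω) ≤ P := essential_center_le hP
  have hαS : conjAutHom S P ⟨g, hg⟩ ∈ autInducedBy S P := by
    rw [← conjAutHom_range]; exact ⟨_, rfl⟩
  refine ⟨conjAutHom S P ⟨g, hg⟩, ⟨w₁, hwP⟩, ?_, Subgroup.mem_inf.mpr ⟨hwZ, hwS'⟩, ?_, ?_, ?_, ?_, hαS⟩
  · -- `P` is abelian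
    intro u v
    apply Subtype.ext
    obtain ⟨a, ha, i, hi⟩ := hA.dec_inf hPS hx hxA u.2
    obtain ⟨b, hb, j, hj⟩ := hA.dec_inf hPS hx hxA v.2
    show (u : Ω) * v = v * u
    rw [hi, hj]
    have haZ := hab a ha
    have hbZ := hab b hb
    have c1 : Commute a b := hA.comm a (Subgroup.mem_inf.mp ha).2 b (Subgroup.mem_inf.mp hb).2
    have c2 : Commute a (x ^ j) := (center_commute haZ (S.zpow_mem hxS j)).symm
    have c3 : Commute (x ^ i) b := center_commute hbZ (S.zpow_mem hxS i)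
    have c4 : Commute (x ^ i) (x ^ j) := (Commute.refl x).zpow_zpow i j
    exact (c1.mul_right c2).mul_left (c3.mul_right c4)
  · apply Subtype.ext
    rw [Subgroup.coe_pow]
    exact hwp
  · intro h
    exact hw1 (congrArg Subtype.val h)
  · intro y
    obtain ⟨a, ha, k, hk⟩ := hA.dec_inf hPS hx hxA y.2
    rw [Subgroup.mem_zpowers_iff]
    refine ⟨k, Subtype.ext ?_⟩
    rw [Subgroup.coe_zpow, Subgroup.coe_mul, Subgroup.coe_inv, conjAutHom_apply]
    show w₁ ^ k = (y : Ω)⁻¹ * (g * (y : Ω) * g⁻¹)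
    rw [hk, hconj a ha k, inv_mul_cancel_left]
  · intro y
    rw [Subgroup.mem_subgroupOf]
    constructor
    · intro hy
      obtain ⟨a, ha, k, hk⟩ := hA.dec_inf hPS hx hxA y.2
      have h1 : g * (y : Ω) * g⁻¹ = y := by
        have := congrArg Subtype.val hy
        rwa [conjAutHom_apply] at this
      rw [hk, hconj a ha k] at h1
      have h2 : w₁ ^ k = 1 := by
        have h3 : a * x ^ k * w₁ ^ k = a * x ^ k * 1 := by rw [mul_one]; exact h1
        exact mul_left_cancel h3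
      have h3 : (p : ℤ) ∣ k := by
        rw [← hord]; exact orderOf_dvd_iff_zpow_eq_one.mpr h2
      obtain ⟨c, rfl⟩ := h3
      rw [hk, zpow_mul, zpow_natCast]
      exact Subgroup.mul_mem _ (hab a ha) (Subgroup.zpow_mem _ hxpZ c)
    · intro hy
      apply Subtype.ext
      rw [conjAutHom_apply]
      show g * (y : Ω) * g⁻¹ = y
      rw [center_commute hy hgS, mul_inv_cancel_right]

/-- an automorphism `γ ∈ Aut_F(P)` moving `Z(S)` does not map `w` into `Z(S)` (applied to `γ⁻¹`) -/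
theorem hType_not_mem [Finite S] {p : ℕ} [Fact p.Prime] (hS : IsPGroup p S) {F : FusionSystem S}
    (hF : F.IsSaturated p) {P : Subgroup Ω} (hfn : F.IsFullyNormalized P) {α : MulAut P} {w : P}
    (hd : HData S A P p α w) {γ : MulAut P} (hγ : γ ∈ F.autGroup P) {z₀ : P}
    (hz₀ : z₀ ∈ (S ⊓ Subgroup.centralizer (S : Set Ω)).subgroupOf P)
    (hγz₀ : γ z₀ ∉ (S ⊓ Subgroup.centralizer (S : Set Ω)).subgroupOf P) :
    γ⁻¹ w ∉ (S ⊓ Subgroup.centralizer (S : Set Ω)).subgroupOf P := by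
  intro hcon
  have hPS : P ≤ S := hfn.1
  have : Finite P := Finite.of_injective (Subgroup.inclusion hPS) (Subgroup.inclusion_injective hPS)
  have hpP : IsPGroup p P :=
    hS.of_injective (Subgroup.inclusion hPS) (Subgroup.inclusion_injective hPS)
  have hwZB : w ∈ (S ⊓ Subgroup.centralizer (S : Set Ω)).subgroupOf P :=
    Subgroup.mem_subgroupOf.mpr hd.wZ.1
  obtain ⟨H, hH, hαH, hα'H⟩ := Transv.isPGroup_pair hpP hwZB hd.trans hd.fix γ hcon
  have hαG : α ∈ F.autGroup P := autInducedBy_le_autGroup F hPS hd.mem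
  have hα'G : γ * α * γ⁻¹ ∈ F.autGroup P :=
    (F.autGroup P).mul_mem ((F.autGroup P).mul_mem hγ hαG) ((F.autGroup P).inv_mem hγ)
  obtain ⟨c, hc⟩ := exists_conj_isPGroup_mem_autInducedBy hS hF hfn (H.subgroupOf (F.autGroup P))
    hH.comap_subtype
  have h1 := hc ⟨α, hαG⟩ (Subgroup.mem_subgroupOf.mpr hαH)
  have h2 := hc ⟨γ * α * γ⁻¹, hα'G⟩ (Subgroup.mem_subgroupOf.mpr hα'H)
  have hfixS : ∀ τ ∈ autInducedBy S P,
      ∀ z ∈ (S ⊓ Subgroup.centralizer (S : Set Ω)).subgroupOf P, τ z = z := by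
    intro τ hτ z hz
    rw [mem_autInducedBy_iff] at hτ
    obtain ⟨h, hh, hτh⟩ := hτ
    apply Subtype.ext
    rw [hτh, center_commute (Subgroup.mem_subgroupOf.mp hz) hh, mul_inv_cancel_right]
  have hc1 : ∀ z ∈ (S ⊓ Subgroup.centralizer (S : Set Ω)).subgroupOf P,
      (c : MulAut P)⁻¹ z ∈ (S ⊓ Subgroup.centralizer (S : Set Ω)).subgroupOf P := by
    intro z hz
    have h3 := hfixS _ h1 z hz
    rw [← hd.fix]
    have h4 : (c : MulAut P) (α ((c : MulAut P)⁻¹ z)) = z := h3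
    have h5 := congrArg (fun t => (c : MulAut P)⁻¹ t) h4
    simp only [MulAut.inv_apply_self] at h5
    exact h5
  have hc2 : ∀ z ∈ (S ⊓ Subgroup.centralizer (S : Set Ω)).subgroupOf P,
      (γ⁻¹ * (c : MulAut P)⁻¹) z ∈ (S ⊓ Subgroup.centralizer (S : Set Ω)).subgroupOf P := by
    intro z hz
    have h3 := hfixS _ h2 z hz
    have h4 : (c : MulAut P) (γ (α (γ⁻¹ ((c : MulAut P)⁻¹ z)))) = z := h3
    rw [← hd.fix]
    show α (γ⁻¹ ((c : MulAut P)⁻¹ z)) = γ⁻¹ ((c : MulAut P)⁻¹ z)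
    have h5 := congrArg (fun t => γ⁻¹ ((c : MulAut P)⁻¹ t)) h4
    simp only [MulAut.inv_apply_self] at h5
    exact h5
  have hc2' := Transv.inv_mem_of_forall_mem (γ⁻¹ * (c : MulAut P)⁻¹) _ hc2
  have h6 := hc2' z₀ hz₀
  rw [mul_inv_rev, inv_inv, inv_inv] at h6
  have h7 := hc1 _ h6
  rw [MulAut.mul_apply, MulAut.inv_apply_self] at h7
  exact hγz₀ h7

/-- the reflection of `Z(S)` attached to an essential subgroup `P` with `P ∩ A = Z(S)` and an
automorphism `γ ∈ Aut_F(P)` moving `Z(S)` -/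
theorem hType_exists_refl [Finite S] {p : ℕ} [Fact p.Prime] (hS : IsPGroup p S) {F : FusionSystem S}
    (hF : F.IsSaturated p) (hp2 : p ≠ 2) {P : Subgroup Ω} (hP : F.IsEssential p P)
    {α : MulAut P} {w : P} (hd : HData S A P p α w)
    (hZ₀ : Nat.card ↥((S ⊓ Subgroup.centralizer (S : Set Ω)) ⊓ (commutator ↥S).map S.subtype) = p)
    {γ : MulAut P} (hγ : γ ∈ F.autGroup P) {z₀ : P}
    (hz₀ : (z₀ : Ω) ∈ S ⊓ Subgroup.centralizer (S : Set Ω))
    (hγz₀ : ((γ z₀ : P) : Ω) ∉ S ⊓ Subgroup.centralizer (S : Set Ω)) :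
    ∃ e : ↥(S ⊓ Subgroup.centralizer (S : Set Ω)) ≃* ↥(S ⊓ Subgroup.centralizer (S : Set Ω)),
      IsIso F e ∧
      IsRefl ((S ⊓ Subgroup.centralizer (S : Set Ω)) ⊓ (commutator ↥S).map S.subtype) e ∧
      ∀ z : ↥(S ⊓ Subgroup.centralizer (S : Set Ω)), e z = z ↔
        ∃ z' : P, (z' : Ω) ∈ S ⊓ Subgroup.centralizer (S : Set Ω) ∧ ((γ z' : P) : Ω) = z := by
  have hPS : P ≤ S := hP.1.1
  have : Finite P := Finite.of_injective (Subgroup.inclusion hPS) (Subgroup.inclusion_injective hPS)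
  have : Finite ↥(S ⊓ Subgroup.centralizer (S : Set Ω)) :=
    Finite.of_injective (Subgroup.inclusion inf_le_left) (Subgroup.inclusion_injective _)
  have hZP : S ⊓ Subgroup.centralizer (S : Set Ω) ≤ P := essential_center_le hP
  have hfn := hP.2.1
  have hγw := hType_not_mem hS hF hfn hd hγ (Subgroup.mem_subgroupOf.mpr hz₀)
    (fun h => hγz₀ (Subgroup.mem_subgroupOf.mp h))
  obtain ⟨z₀', hz₀', hγz₀'⟩ : ∃ z₀' : P, z₀' ∈ (S ⊓ Subgroup.centralizer (S : Set Ω)).subgroupOf P ∧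
      γ⁻¹ z₀' ∉ (S ⊓ Subgroup.centralizer (S : Set Ω)).subgroupOf P := by
    by_contra hcon
    push Not at hcon
    have h1 := Transv.inv_mem_of_forall_mem γ⁻¹ _ hcon
    have h2 := h1 z₀ (Subgroup.mem_subgroupOf.mpr hz₀)
    rw [inv_inv] at h2
    exact hγz₀ (Subgroup.mem_subgroupOf.mp h2)
  have hγw' := hType_not_mem hS hF hfn hd ((F.autGroup P).inv_mem hγ) hz₀' hγz₀'
  rw [inv_inv] at hγw'
  have hαG : α ∈ F.autGroup P := autInducedBy_le_autGroup F hPS hd.mem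
  have hwZB : w ∈ (S ⊓ Subgroup.centralizer (S : Set Ω)).subgroupOf P :=
    Subgroup.mem_subgroupOf.mpr hd.wZ.1
  obtain ⟨θ, hθG, hθw, hθfix, hθZ, hθfix'⟩ := Transv.exists_theta hd.comm hp2 hwZB hd.wp hd.w1
    hd.trans hd.fix γ hγw hγw' (F.autGroup P) hαG hγ
  have hθ' : P.subtype.comp (θ : P ≃* P).toMonoidHom ∈ F.Hom P := (mem_autGroup_iff F hPS θ).mp hθG
  obtain ⟨e, he, heθ⟩ := exists_aut_restrict F hZP hθ'
    (fun x hx => Subgroup.mem_subgroupOf.mp (hθZ x (Subgroup.mem_subgroupOf.mpr hx)).1)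
  have heθ' : ∀ z : ↥(S ⊓ Subgroup.centralizer (S : Set Ω)),
      ((e z : ↥(S ⊓ Subgroup.centralizer (S : Set Ω))) : Ω) = ((θ ⟨z, hZP z.2⟩ : P) : Ω) :=
    fun z => heθ z
  -- `Z(S) ∩ S'` is generated by `w`
  have hgen : ∀ d ∈ (S ⊓ Subgroup.centralizer (S : Set Ω)) ⊓ (commutator ↥S).map S.subtype,
      ∃ i : ℤ, d = (w : Ω) ^ i := by
    intro d hdm
    have hz : Subgroup.zpowers (⟨(w : Ω), hd.wZ⟩ :
        ↥((S ⊓ Subgroup.centralizer (S : Set Ω)) ⊓ (commutator ↥S).map S.subtype)) = ⊤ :=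
      zpowers_eq_top_of_prime_card hZ₀ (fun h => by
        have h' : (w : Ω) = 1 := congrArg Subtype.val h
        exact hd.w1 (Subtype.ext h'))
    have hmem : (⟨d, hdm⟩ :
        ↥((S ⊓ Subgroup.centralizer (S : Set Ω)) ⊓ (commutator ↥S).map S.subtype)) ∈
        Subgroup.zpowers (⟨(w : Ω), hd.wZ⟩ :
        ↥((S ⊓ Subgroup.centralizer (S : Set Ω)) ⊓ (commutator ↥S).map S.subtype)) := by
      rw [hz]; exact Subgroup.mem_top _
    obtain ⟨i, hi⟩ := Subgroup.mem_zpowers_iff.mp hmem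
    refine ⟨i, ?_⟩
    have h1 := congrArg Subtype.val hi
    simpa using h1.symm
  refine ⟨e, he, ⟨?_, ?_⟩, ?_⟩
  · intro d hdm
    obtain ⟨i, hi⟩ := hgen _ hdm
    apply Subtype.ext
    rw [heθ']
    have h1 : (⟨d, hZP d.2⟩ : P) = w ^ i := Subtype.ext (by rw [Subgroup.coe_zpow]; exact hi)
    rw [h1, map_zpow, hθw, Subgroup.coe_zpow, Subgroup.coe_inv, Subgroup.coe_inv, hi, inv_zpow]
  · intro z
    have h1 := (hθZ ⟨z, hZP z.2⟩ (Subgroup.mem_subgroupOf.mpr z.2)).2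
    obtain ⟨i, hi⟩ := Subgroup.mem_zpowers_iff.mp h1
    have h2 : ((z⁻¹ * e z : ↥(S ⊓ Subgroup.centralizer (S : Set Ω))) : Ω) = (w : Ω) ^ i := by
      rw [Subgroup.coe_mul, Subgroup.coe_inv, heθ']
      have h3 := congrArg Subtype.val hi
      simpa using h3.symm
    rw [h2]
    exact Subgroup.zpow_mem _ hd.wZ i
  · intro z
    constructor
    · intro hz
      have h1 : θ ⟨z, hZP z.2⟩ = ⟨z, hZP z.2⟩ := Subtype.ext (by rw [← heθ', hz])
      have h2 := hθfix' ⟨z, hZP z.2⟩ (Subgroup.mem_subgroupOf.mpr z.2) h1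
      exact ⟨γ⁻¹ ⟨z, hZP z.2⟩, Subgroup.mem_subgroupOf.mp h2, by rw [MulAut.apply_inv_self]⟩
    · rintro ⟨z', hz', hz'z⟩
      apply Subtype.ext
      rw [heθ']
      have h1 : γ⁻¹ ⟨z, hZP z.2⟩ = z' := by
        have h3 : γ z' = ⟨z, hZP z.2⟩ := Subtype.ext hz'z
        rw [← h3, MulAut.inv_apply_self]
      have h2 := hθfix ⟨z, hZP z.2⟩ (Subgroup.mem_subgroupOf.mpr z.2)
        (by rw [h1]; exact Subgroup.mem_subgroupOf.mpr hz')
      rw [h2]

/-- Core-free saturated fusion systems in which `A` is not essential: some essential subgroup `Q` has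
`Q ∩ A = Z(S)`, `Z(S) ≤ S'` and `|Z(S)| = p`. -/
theorem core_free_structure [Finite S] {p : ℕ} [Fact p.Prime] (hS : IsPGroup p S)
    {F : FusionSystem S} (hF : F.IsSaturated p) (hp2 : p ≠ 2) (hA : AbIdx S A)
    (hAidx : (A.subgroupOf S).index = p)
    (huniq : ∀ B : Subgroup Ω, B ≤ S → IsMulCommutative ↥B → (B.subgroupOf S).index = p → B = A)
    (hcore : F.core = ⊥) (hAe : ¬ F.IsEssential p A) :
    ∃ (Q : Subgroup Ω) (x : Ω), F.IsEssential p Q ∧ x ∈ Q ∧ x ∉ A ∧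
      (∀ a ∈ Q ⊓ A, a ∈ S ⊓ Subgroup.centralizer (S : Set Ω)) ∧
      S ⊓ Subgroup.centralizer (S : Set Ω) ≤ (commutator ↥S).map S.subtype ∧
      Nat.card ↥(S ⊓ Subgroup.centralizer (S : Set Ω)) = p ∧
      (Subgroup.upperCentralSeries ↥S 2).map S.subtype ≤ A ∧
      ((S ⊓ Subgroup.centralizer (S : Set Ω)).subgroupOf
        ((Subgroup.upperCentralSeries ↥S 2).map S.subtype)).index = p := by
  have hp : p.Prime := Fact.out
  have : Finite ↥(S ⊓ Subgroup.centralizer (S : Set Ω)) :=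
    Finite.of_injective (Subgroup.inclusion inf_le_left) (Subgroup.inclusion_injective _)
  -- `Z(S) ≠ 1`
  have hZne : S ⊓ Subgroup.centralizer (S : Set Ω) ≠ ⊥ := by
    intro hbot
    obtain ⟨s, hs, t, ht, hst⟩ := hA.ncomm
    have : Nontrivial S :=
      ⟨⟨⟨s, hs⟩, ⟨t, ht⟩, fun h => hst (by rw [show s = t from congrArg Subtype.val h])⟩⟩
    have hnt := hS.center_nontrivial
    obtain ⟨z, hz1⟩ := exists_ne (1 : Subgroup.center S)
    have hzZ : ((z : S) : Ω) ∈ S ⊓ Subgroup.centralizer (S : Set Ω) := by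
      refine Subgroup.mem_inf.mpr ⟨(z : S).2, ?_⟩
      rw [Subgroup.mem_centralizer_iff]
      intro u hu
      have h1 := Subgroup.mem_center_iff.mp z.2 ⟨u, hu⟩
      exact congrArg Subtype.val h1
    rw [hbot, Subgroup.mem_bot] at hzZ
    apply hz1
    apply Subtype.ext
    apply Subtype.ext
    exact hzZ
  -- an essential subgroup with `Q ∩ A = Z(S)` and an automorphism moving `Z(S)`
  have hA1 : ∃ Q : Subgroup Ω, F.IsEssential p Q ∧
      (∀ a ∈ Q ⊓ A, a ∈ S ⊓ Subgroup.centralizer (S : Set Ω)) ∧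
      ∃ γ ∈ F.autGroup Q, ∃ z₀ : Q, (z₀ : Ω) ∈ S ⊓ Subgroup.centralizer (S : Set Ω) ∧
        ((γ z₀ : Q) : Ω) ∉ S ⊓ Subgroup.centralizer (S : Set Ω) := by
    by_contra hcon
    push Not at hcon
    apply hZne
    have hn : F.IsNormal (S ⊓ Subgroup.centralizer (S : Set Ω)) := by
      apply isNormal_of_center_invariant hS hF le_rfl
      intro Q hQ α hα y hy
      rcases hQ with hQ | hQ
      · subst hQ
        exact center_aut_mem α y hy
      · have hQA : Q ≠ A := fun h => hAe (h ▸ hQ)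
        have hnle := essential_not_le_abelian hA hQ hQA
        obtain ⟨x, hx, hxA⟩ : ∃ x ∈ Q, x ∉ A := by
          by_contra hc
          push Not at hc
          exact hnle hc
        by_cases hab : ∀ a ∈ Q ⊓ A, a ∈ S ⊓ Subgroup.centralizer (S : Set Ω)
        · exact hcon Q hQ hab α hα y hy
        · push Not at hab
          obtain ⟨a₁, ha₁, ha₁Z⟩ := hab
          exact aut_center_mem_of_not_hType hA hQ.1.1 hx hxA ha₁ ha₁Z α y hy
    have h1 := le_core hn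
    rw [hcore] at h1
    exact eq_bot_iff.mpr h1
  obtain ⟨Q, hQ, hab, γ₀, hγ₀, z₀, hz₀, hγz₀⟩ := hA1
  have hQS : Q ≤ S := hQ.1.1
  have hQA : Q ≠ A := fun h => hAe (h ▸ hQ)
  have hnle := essential_not_le_abelian hA hQ hQA
  obtain ⟨x, hx, hxA⟩ : ∃ x ∈ Q, x ∉ A := by
    by_contra hc
    push Not at hc
    exact hnle hc
  obtain ⟨hZ₂A, hidx⟩ := essential_ucs_two hS hF hA hAidx huniq hQ hQA
  have hZ₀ := card_center_inf_commutator hA (hQS hx) hxA hZ₂A hidx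
  obtain ⟨α₀, w₀, hd₀⟩ := exists_hData hS hF hA hAidx hQ hab hx hxA
  obtain ⟨e₀, he₀, hr₀, hfix₀⟩ := hType_exists_refl hS hF hp2 hQ hd₀ hZ₀ hγ₀ hz₀ hγz₀
  -- `D = Z(S) ∩ S'`
  have hDp : ∀ d ∈ (S ⊓ Subgroup.centralizer (S : Set Ω)) ⊓ (commutator ↥S).map S.subtype,
      d ^ p = 1 := by
    intro d hd
    have h1 : (⟨d, hd⟩ :
        ↥((S ⊓ Subgroup.centralizer (S : Set Ω)) ⊓ (commutator ↥S).map S.subtype)) ^ p = 1 := by
      rw [← hZ₀]; exact pow_card_eq_one'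
    exact congrArg Subtype.val h1
  have hD : ∀ β : S ≃* S, ∀ s : S,
      (s : Ω) ∈ (S ⊓ Subgroup.centralizer (S : Set Ω)) ⊓ (commutator ↥S).map S.subtype →
      ((β s : S) : Ω) ∈ (S ⊓ Subgroup.centralizer (S : Set Ω)) ⊓ (commutator ↥S).map S.subtype := by
    intro β s hs
    obtain ⟨hs1, hs2⟩ := Subgroup.mem_inf.mp hs
    refine Subgroup.mem_inf.mpr ⟨center_aut_mem β s hs1, ?_⟩
    obtain ⟨s', hs', hs's⟩ := hs2
    have hs'eq : s' = s := Subtype.ext hs's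
    rw [hs'eq] at hs'
    have hchar : (commutator ↥S).Characteristic := by
      rw [commutator_def]; infer_instance
    have h1 : s ∈ (commutator ↥S).comap β.toMonoidHom := by
      rw [hchar.fixed]; exact hs'
    exact ⟨β s, h1, rfl⟩
  -- the fixed points of `e₀`
  obtain ⟨Y, hYdef⟩ : ∃ Y : Subgroup Ω, Y =
      (Transv.fixS (e₀ : MulAut ↥(S ⊓ Subgroup.centralizer (S : Set Ω)))).map
        (S ⊓ Subgroup.centralizer (S : Set Ω)).subtype := ⟨_, rfl⟩
  have hYmem : ∀ (v : Ω) (hv : v ∈ S ⊓ Subgroup.centralizer (S : Set Ω)),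
      e₀ ⟨v, hv⟩ = ⟨v, hv⟩ → v ∈ Y := by
    intro v hv h
    rw [hYdef]
    exact ⟨⟨v, hv⟩, h, rfl⟩
  have hYelim : ∀ v ∈ Y, ∃ hv : v ∈ S ⊓ Subgroup.centralizer (S : Set Ω),
      e₀ ⟨v, hv⟩ = ⟨v, hv⟩ := by
    intro v hv
    rw [hYdef] at hv
    obtain ⟨z, hz, rfl⟩ := hv
    exact ⟨z.2, hz⟩
  have hINV : ∀ (Q' : Subgroup Ω) (_ : Q' ≤ S) (_ : S ⊓ Subgroup.centralizer (S : Set Ω) ≤ Q')
      (α : MulAut Q') (_ : α ∈ F.autGroup Q')
      (_ : ∀ z : Q', (z : Ω) ∈ S ⊓ Subgroup.centralizer (S : Set Ω) →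
        ((α z : Q') : Ω) ∈ S ⊓ Subgroup.centralizer (S : Set Ω)) (y : Q'),
      (y : Ω) ∈ Y → ((α y : Q') : Ω) ∈ Y := by
    intro Q' hQ'S hZQ' α hα hαZ y hy
    obtain ⟨hyZ, hey⟩ := hYelim _ hy
    exact hYmem _ (hαZ y hyZ)
      (IsRefl.fix_invariant_of_aut hS hF hDp hD he₀ hr₀ hQ'S hZQ' hα hαZ y hyZ hey)
  have hYn : F.IsNormal Y := by
    apply isNormal_of_center_invariant hS hF (Y := Y)
    · intro v hv
      obtain ⟨hvZ, -⟩ := hYelim v hv
      exact hvZ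
    · intro Q' hQ' α hα y hy
      rcases hQ' with hQ' | hQ'
      · have hQ'S : Q' ≤ S := hQ'.le
        have hZQ' : S ⊓ Subgroup.centralizer (S : Set Ω) ≤ Q' := by
          rw [hQ']; exact inf_le_left
        refine hINV Q' hQ'S hZQ' α hα ?_ y hy
        intro z hz
        subst hQ'
        exact center_aut_mem α z hz
      · have hQ'S : Q' ≤ S := hQ'.1.1
        have hZQ' : S ⊓ Subgroup.centralizer (S : Set Ω) ≤ Q' := essential_center_le hQ'
        have hQ'A : Q' ≠ A := fun h => hAe (h ▸ hQ')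
        have hnle' := essential_not_le_abelian hA hQ' hQ'A
        obtain ⟨x', hx', hx'A⟩ : ∃ x ∈ Q', x ∉ A := by
          by_contra hc
          push Not at hc
          exact hnle' hc
        by_cases hab' : ∀ a ∈ Q' ⊓ A, a ∈ S ⊓ Subgroup.centralizer (S : Set Ω)
        · by_cases hαZ : ∀ z : Q', (z : Ω) ∈ S ⊓ Subgroup.centralizer (S : Set Ω) →
              ((α z : Q') : Ω) ∈ S ⊓ Subgroup.centralizer (S : Set Ω)
          · exact hINV Q' hQ'S hZQ' α hα hαZ y hy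
          · push Not at hαZ
            obtain ⟨z₁, hz₁, hαz₁⟩ := hαZ
            have : Finite Q' :=
              Finite.of_injective (Subgroup.inclusion hQ'S) (Subgroup.inclusion_injective hQ'S)
            obtain ⟨α', w', hd'⟩ := exists_hData hS hF hA hAidx hQ' hab' hx' hx'A
            obtain ⟨e', he', hr', hfix'⟩ := hType_exists_refl hS hF hp2 hQ' hd' hZ₀ hα hz₁ hαz₁
            have heq' : e' = e₀ := IsRefl.unique hS hF hDp he' he₀ hr' hr₀
            obtain ⟨z₂, hz₂, hαz₂⟩ : ∃ z₂ : Q',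
                (z₂ : Ω) ∈ S ⊓ Subgroup.centralizer (S : Set Ω) ∧
                ((α⁻¹ z₂ : Q') : Ω) ∉ S ⊓ Subgroup.centralizer (S : Set Ω) := by
              by_contra hc
              push Not at hc
              have h1 := Transv.inv_mem_of_forall_mem α⁻¹
                ((S ⊓ Subgroup.centralizer (S : Set Ω)).subgroupOf Q')
                (fun z hz => Subgroup.mem_subgroupOf.mpr (hc z (Subgroup.mem_subgroupOf.mp hz)))
              have h2 := h1 z₁ (Subgroup.mem_subgroupOf.mpr hz₁)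
              rw [inv_inv] at h2
              exact hαz₁ (Subgroup.mem_subgroupOf.mp h2)
            obtain ⟨e'', he'', hr'', hfix''⟩ := hType_exists_refl hS hF hp2 hQ' hd' hZ₀
              ((F.autGroup Q').inv_mem hα) hz₂ hαz₂
            have heq'' : e'' = e₀ := IsRefl.unique hS hF hDp he'' he₀ hr'' hr₀
            subst heq'
            subst heq''
            obtain ⟨hyZ, hey⟩ := hYelim _ hy
            obtain ⟨z', hz', hz'y⟩ := (hfix'' ⟨y, hyZ⟩).mp hey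
            have h3 : α⁻¹ z' = y := Subtype.ext hz'y
            have h4 : α y = z' := by rw [← h3, MulAut.apply_inv_self]
            have hαyZ : ((α y : Q') : Ω) ∈ S ⊓ Subgroup.centralizer (S : Set Ω) := by
              rw [h4]; exact hz'
            exact hYmem _ hαyZ ((hfix' ⟨_, hαyZ⟩).mpr ⟨y, hyZ, rfl⟩)
        · push Not at hab'
          obtain ⟨a₁, ha₁, ha₁Z⟩ := hab'
          exact hINV Q' hQ'S hZQ' α hα
            (fun z hz => aut_center_mem_of_not_hType hA hQ'S hx' hx'A ha₁ ha₁Z α z hz) y hy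
  have hYbot : Y = ⊥ := by
    have h1 := le_core hYn
    rw [hcore] at h1
    exact eq_bot_iff.mpr h1
  have hZS' : S ⊓ Subgroup.centralizer (S : Set Ω) ≤ (commutator ↥S).map S.subtype := by
    intro z hz
    obtain ⟨y₁, hy₁, hmem⟩ := hr₀.decomp hp2 hDp ⟨z, hz⟩
    have hy₁Y : (y₁ : Ω) ∈ Y := hYmem _ y₁.2 hy₁
    rw [hYbot, Subgroup.mem_bot] at hy₁Y
    have hy₁1 : y₁ = 1 := Subtype.ext hy₁Y
    rw [hy₁1, inv_one, one_mul] at hmem
    exact (Subgroup.mem_inf.mp hmem).2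
  have hZcard : Nat.card ↥(S ⊓ Subgroup.centralizer (S : Set Ω)) = p := by
    have hZD : S ⊓ Subgroup.centralizer (S : Set Ω) =
        (S ⊓ Subgroup.centralizer (S : Set Ω)) ⊓ (commutator ↥S).map S.subtype :=
      le_antisymm (le_inf le_rfl hZS') inf_le_left
    rw [hZD]
    exact hZ₀
  exact ⟨Q, x, hQ, hx, hxA, hab, hZS', hZcard, hZ₂A, hidx⟩

end Cfsg.Agent.Lib.Helper27
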