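import Mathlib
import Cfsg.Agent.Lib.Helper27.AbelianIndexP2

/-!
# Helper27: nonabelian `p`-groups whose centre has index `p²`

`S` is a subgroup of the ambient group `Ω`, `Z = S ⊓ C(S)` its centre.  A subgroup `P` is `Good` when
`Z ≤ P ≤ S`, `P ≠ S` and `P` is not contained in `Z`; under `CIdx` (`|S : Z| = p²`, `S` nonabelian) the
good subgroups are exactly the `p + 1` abelian subgroups of index `p` containing `Z`.
-/

set_option autoImplicit false

namespace Cfsg.Agent.Lib.Helper27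

open Cfsg Cfsg.FusionSystem
open scoped commutatorElement

variable {Ω : Type*} [Group Ω] {S : Subgroup Ω}

/-- the centre of `↥S` as a subgroup of `Ω` -/
theorem center_map_subtype :
    (Subgroup.center ↥S).map S.subtype = S ⊓ Subgroup.centralizer (S : Set Ω) := by
  ext z
  constructor
  · rintro ⟨s, hs, rfl⟩
    refine Subgroup.mem_inf.mpr ⟨s.2, ?_⟩
    rw [Subgroup.mem_centralizer_iff]
    intro u hu
    have h1 := Subgroup.mem_center_iff.mp hs ⟨u, hu⟩
    exact congrArg Subtype.val h1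
  · intro hz
    refine ⟨⟨z, (Subgroup.mem_inf.mp hz).1⟩, ?_, rfl⟩
    rw [SetLike.mem_coe, Subgroup.mem_center_iff]
    intro u
    apply Subtype.ext
    exact center_commute hz u.2

theorem center_subgroupOf :
    (S ⊓ Subgroup.centralizer (S : Set Ω)).subgroupOf S = Subgroup.center ↥S := by
  ext s
  rw [Subgroup.mem_subgroupOf, ← center_map_subtype]
  constructor
  · rintro ⟨s', hs', h⟩
    have : s' = s := Subtype.ext h
    rwa [← this]
  · intro hs
    exact ⟨s, hs, rfl⟩

theorem mul_mem_iff_of_relIndex_two {H K : Subgroup Ω} (h : H.relIndex K = 2) {a b : Ω}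
    (ha : a ∈ K) (hb : b ∈ K) : a * b ∈ H ↔ (a ∈ H ↔ b ∈ H) := by
  have h1 := Subgroup.mul_mem_iff_of_index_two (H := H.subgroupOf K) h (a := ⟨a, ha⟩) (b := ⟨b, hb⟩)
  simpa [Subgroup.mem_subgroupOf] using h1

/-- `S` is a nonabelian `p`-group whose centre has index `p²` -/
structure CIdx (S : Subgroup Ω) (p : ℕ) : Prop where
  pg : IsPGroup p S
  ncomm : ∃ s ∈ S, ∃ t ∈ S, s * t ≠ t * s
  idx : (S ⊓ Subgroup.centralizer (S : Set Ω)).relIndex S = p ^ 2

/-- `Z(S) ≤ P ≤ S`, `P ≠ S`, `P ≰ Z(S)` -/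
structure Good (S P : Subgroup Ω) : Prop where
  zle : S ⊓ Subgroup.centralizer (S : Set Ω) ≤ P
  le : P ≤ S
  ne : ¬ S ≤ P
  nle : ¬ P ≤ S ⊓ Subgroup.centralizer (S : Set Ω)

theorem comm_sup_zpowers {g : Ω} (hg : g ∈ S) :
    ∀ a ∈ (S ⊓ Subgroup.centralizer (S : Set Ω)) ⊔ Subgroup.zpowers g,
    ∀ b ∈ (S ⊓ Subgroup.centralizer (S : Set Ω)) ⊔ Subgroup.zpowers g, a * b = b * a := by
  have hle : (S ⊓ Subgroup.centralizer (S : Set Ω)) ⊔ Subgroup.zpowers g ≤ S :=
    sup_le inf_le_left (Subgroup.zpowers_le.mpr hg)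
  have h1 : (S ⊓ Subgroup.centralizer (S : Set Ω)) ⊔ Subgroup.zpowers g ≤
      Subgroup.centralizer ((Subgroup.zpowers g : Subgroup Ω) : Set Ω) := by
    refine sup_le ?_ ?_
    · intro z hz
      rw [Subgroup.mem_centralizer_iff]
      intro u hu
      exact center_commute hz ((Subgroup.zpowers_le.mpr hg) hu)
    · intro u hu
      rw [Subgroup.mem_centralizer_iff]
      intro v hv
      obtain ⟨i, rfl⟩ := Subgroup.mem_zpowers_iff.mp hu
      obtain ⟨j, rfl⟩ := Subgroup.mem_zpowers_iff.mp hv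
      exact ((Commute.refl g).zpow_zpow j i).eq
  have h2 : (S ⊓ Subgroup.centralizer (S : Set Ω)) ⊔ Subgroup.zpowers g ≤
      Subgroup.centralizer
        (((S ⊓ Subgroup.centralizer (S : Set Ω)) ⊔ Subgroup.zpowers g : Subgroup Ω) : Set Ω) := by
    refine sup_le ?_ ?_
    · intro z hz
      rw [Subgroup.mem_centralizer_iff]
      intro u hu
      exact center_commute hz (hle hu)
    · exact Subgroup.le_centralizer_iff.mp h1
  intro a ha b hb
  exact (Subgroup.mem_centralizer_iff.mp (h2 hb) a ha)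

section

variable [Finite S] {p : ℕ} [Fact p.Prime]

theorem CIdx.not_comm (h : CIdx S p) : ¬ IsMulCommutative ↥S := by
  intro hc
  obtain ⟨s, hs, t, ht, hst⟩ := h.ncomm
  apply hst
  have := hc.is_comm.comm (⟨s, hs⟩ : S) ⟨t, ht⟩
  exact congrArg Subtype.val this

/-- a good subgroup has index `p` in `S`, and `Z(S)` has index `p` in it -/
theorem CIdx.relIndex_good (h : CIdx S p) {P : Subgroup Ω} (hP : Good S P) :
    P.relIndex S = p ∧ (S ⊓ Subgroup.centralizer (S : Set Ω)).relIndex P = p := by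
  have hp : p.Prime := Fact.out
  have h1 := Subgroup.relIndex_mul_relIndex _ _ _ hP.zle hP.le
  rw [h.idx] at h1
  have h2 : P.relIndex S ≠ 1 := fun h2 => hP.ne (Subgroup.relIndex_eq_one.mp h2)
  have h3 : (S ⊓ Subgroup.centralizer (S : Set Ω)).relIndex P ≠ 1 :=
    fun h3 => hP.nle (Subgroup.relIndex_eq_one.mp h3)
  have h4 : P.relIndex S ∣ p ^ 2 := Dvd.intro_left _ h1
  obtain ⟨k, hk, hk'⟩ := (Nat.dvd_prime_pow hp).mp h4
  have hk1 : k = 1 := by
    rcases Nat.lt_or_ge k 1 with h5 | h5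
    · exfalso
      have : k = 0 := by omega
      rw [this, pow_zero] at hk'
      exact h2 hk'
    · rcases Nat.lt_or_ge k 2 with h6 | h6
      · omega
      · exfalso
        have : k = 2 := by omega
        rw [this] at hk'
        rw [hk'] at h1
        have hpos : 0 < p ^ 2 := pow_pos hp.pos 2
        have : (S ⊓ Subgroup.centralizer (S : Set Ω)).relIndex P * p ^ 2 = 1 * p ^ 2 := by
          rw [one_mul]; exact h1
        exact h3 (Nat.eq_of_mul_eq_mul_right hpos this)
  rw [hk1, pow_one] at hk'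
  refine ⟨hk', ?_⟩
  rw [hk'] at h1
  have : (S ⊓ Subgroup.centralizer (S : Set Ω)).relIndex P * p = p * p := by
    rw [h1, sq]
  exact Nat.eq_of_mul_eq_mul_right hp.pos this

theorem CIdx.good_eq_of_le (h : CIdx S p) {P Q : Subgroup Ω} (hP : Good S P) (hQ : Good S Q)
    (hle : P ≤ Q) : P = Q := by
  have hp : p.Prime := Fact.out
  have h1 := Subgroup.relIndex_mul_relIndex _ _ _ hle hQ.le
  rw [(h.relIndex_good hP).1, (h.relIndex_good hQ).1] at h1
  have h2 : P.relIndex Q * p = 1 * p := by rw [one_mul]; exact h1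
  have h3 := Nat.eq_of_mul_eq_mul_right hp.pos h2
  exact le_antisymm hle (Subgroup.relIndex_eq_one.mp h3)

theorem CIdx.good_sup_zpowers (h : CIdx S p) {g : Ω} (hg : g ∈ S)
    (hgZ : g ∉ S ⊓ Subgroup.centralizer (S : Set Ω)) :
    Good S ((S ⊓ Subgroup.centralizer (S : Set Ω)) ⊔ Subgroup.zpowers g) := by
  refine ⟨le_sup_left, sup_le inf_le_left (Subgroup.zpowers_le.mpr hg), ?_, ?_⟩
  · intro hle
    obtain ⟨s, hs, t, ht, hst⟩ := h.ncomm
    exact hst (comm_sup_zpowers hg s (hle hs) t (hle ht))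
  · intro hle
    exact hgZ (hle (le_sup_right (a := S ⊓ Subgroup.centralizer (S : Set Ω))
      (Subgroup.mem_zpowers g)))

theorem Good.exists_not_mem_center {P : Subgroup Ω} (hP : Good S P) :
    ∃ x ∈ P, x ∉ S ⊓ Subgroup.centralizer (S : Set Ω) := by
  by_contra hcon
  push Not at hcon
  exact hP.nle hcon

theorem Good.exists_not_mem {P : Subgroup Ω} (hP : Good S P) : ∃ g ∈ S, g ∉ P := by
  by_contra hcon
  push Not at hcon
  exact hP.ne hcon

theorem CIdx.good_eq_sup (h : CIdx S p) {P : Subgroup Ω} (hP : Good S P) {x : Ω} (hx : x ∈ P)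
    (hxZ : x ∉ S ⊓ Subgroup.centralizer (S : Set Ω)) :
    (S ⊓ Subgroup.centralizer (S : Set Ω)) ⊔ Subgroup.zpowers x = P :=
  h.good_eq_of_le (h.good_sup_zpowers (hP.le hx) hxZ) hP
    (sup_le hP.zle (Subgroup.zpowers_le.mpr hx))

theorem CIdx.good_comm (h : CIdx S p) {P : Subgroup Ω} (hP : Good S P) :
    ∀ a ∈ P, ∀ b ∈ P, a * b = b * a := by
  obtain ⟨x, hx, hxZ⟩ := hP.exists_not_mem_center
  have h1 := h.good_eq_sup hP hx hxZ
  intro a ha b hb
  rw [← h1] at ha hb
  exact comm_sup_zpowers (hP.le hx) a ha b hb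

theorem CIdx.abIdx (h : CIdx S p) {P : Subgroup Ω} (hP : Good S P) : AbIdx S P := by
  apply abIdx_of h.pg h.not_comm hP.le
  · exact ⟨⟨fun a b => Subtype.ext (h.good_comm hP a.1 a.2 b.1 b.2)⟩⟩
  · exact (h.relIndex_good hP).1

theorem CIdx.good_inf (h : CIdx S p) {P Q : Subgroup Ω} (hP : Good S P) (hQ : Good S Q)
    (hne : P ≠ Q) : P ⊓ Q = S ⊓ Subgroup.centralizer (S : Set Ω) := by
  apply le_antisymm _ (le_inf hP.zle hQ.zle)
  by_contra hcon
  have hG : Good S (P ⊓ Q) :=
    ⟨le_inf hP.zle hQ.zle, inf_le_left.trans hP.le, fun hle => hP.ne (hle.trans inf_le_left), hcon⟩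
  have h1 := h.good_eq_of_le hG hP inf_le_left
  have h2 := h.good_eq_of_le hG hQ inf_le_right
  exact hne (h1.symm.trans h2)

theorem CIdx.good_eq_of_mem (h : CIdx S p) {P Q : Subgroup Ω} (hP : Good S P) (hQ : Good S Q)
    {x : Ω} (hxP : x ∈ P) (hxQ : x ∈ Q) (hxZ : x ∉ S ⊓ Subgroup.centralizer (S : Set Ω)) :
    P = Q := by
  by_contra hne
  have h1 := h.good_inf hP hQ hne
  exact hxZ (h1 ▸ Subgroup.mem_inf.mpr ⟨hxP, hxQ⟩)

/-- the centre is not everything -/
theorem CIdx.exists_not_mem_center (h : CIdx S p) :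
    ∃ g ∈ S, g ∉ S ⊓ Subgroup.centralizer (S : Set Ω) := by
  obtain ⟨s, hs, t, ht, hst⟩ := h.ncomm
  exact ⟨s, hs, fun hz => hst (center_commute hz ht).symm⟩

/-- commutators are central -/
theorem CIdx.commutator_le_center (h : CIdx S p) : commutator ↥S ≤ Subgroup.center ↥S := by
  have hidx : (Subgroup.center ↥S).index = p ^ 2 := by
    rw [← center_subgroupOf]; exact h.idx
  have hQcomm : ∀ a b : ↥S ⧸ Subgroup.center ↥S, a * b = b * a :=
    IsPGroup.commutative_of_card_eq_prime_sq (by rw [← Subgroup.index_eq_card]; exact hidx)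
  rw [commutator_def, Subgroup.commutator_le]
  intro s _ t _
  rw [← QuotientGroup.eq_one_iff, ← QuotientGroup.mk'_apply, map_commutatorElement,
    commutatorElement_eq_one_iff_commute]
  exact hQcomm _ _

theorem CIdx.commutator_le (h : CIdx S p) :
    (commutator ↥S).map S.subtype ≤ S ⊓ Subgroup.centralizer (S : Set Ω) := by
  rw [← center_map_subtype]
  exact Subgroup.map_mono h.commutator_le_center

theorem CIdx.comm_mem (h : CIdx S p) {s t : Ω} (hs : s ∈ S) (ht : t ∈ S) :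
    s * t * s⁻¹ * t⁻¹ ∈ (commutator ↥S).map S.subtype := by
  refine ⟨⁅(⟨s, hs⟩ : S), ⟨t, ht⟩⁆, ?_, ?_⟩
  · rw [commutator_def]
    exact Subgroup.commutator_mem_commutator (Subgroup.mem_top _) (Subgroup.mem_top _)
  · simp [commutatorElement_def]

/-- the commutator subgroup has order `p` -/
theorem CIdx.card_commutator (h : CIdx S p) :
    Nat.card ↥((commutator ↥S).map S.subtype) = p := by
  obtain ⟨g, hg, hgZ⟩ := h.exists_not_mem_center
  have hG := h.good_sup_zpowers hg hgZ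
  have hA := h.abIdx hG
  obtain ⟨x, hx, hxA⟩ := hG.exists_not_mem
  rw [← commHom_range hA hx hxA, Subgroup.card_map_of_injective (Subgroup.subtype_injective _),
    ← Subgroup.index_ker, commHom_ker hA hx hxA]
  exact (h.relIndex_good hG).2

theorem CIdx.pow_commutator (h : CIdx S p) {d : Ω} (hd : d ∈ (commutator ↥S).map S.subtype) :
    d ^ p = 1 := by
  have h1 : (⟨d, hd⟩ : ↥((commutator ↥S).map S.subtype)) ^ p = 1 := by
    rw [← h.card_commutator]; exact pow_card_eq_one'
  exact congrArg Subtype.val h1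

/-- every nontrivial commutator generates the commutator subgroup -/
theorem CIdx.exists_zpow (h : CIdx S p) {w : Ω} (hw : w ∈ (commutator ↥S).map S.subtype)
    (hw1 : w ≠ 1) : ∀ d ∈ (commutator ↥S).map S.subtype, ∃ i : ℤ, d = w ^ i := by
  intro d hdm
  have hz : Subgroup.zpowers (⟨w, hw⟩ : ↥((commutator ↥S).map S.subtype)) = ⊤ :=
    zpowers_eq_top_of_prime_card h.card_commutator (fun h' => hw1 (congrArg Subtype.val h'))
  have hmem : (⟨d, hdm⟩ : ↥((commutator ↥S).map S.subtype)) ∈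
      Subgroup.zpowers (⟨w, hw⟩ : ↥((commutator ↥S).map S.subtype)) := by
    rw [hz]; exact Subgroup.mem_top _
  obtain ⟨i, hi⟩ := Subgroup.mem_zpowers_iff.mp hmem
  refine ⟨i, ?_⟩
  have h1 := congrArg Subtype.val hi
  simpa using h1.symm

/-- a nontrivial commutator exists -/
theorem CIdx.exists_commutator_ne_one (h : CIdx S p) :
    ∃ w ∈ (commutator ↥S).map S.subtype, w ≠ 1 := by
  obtain ⟨s, hs, t, ht, hst⟩ := h.ncomm
  refine ⟨_, h.comm_mem hs ht, fun h1 => hst ?_⟩
  have : s * t = (s * t * s⁻¹ * t⁻¹) * (t * s) := by group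
  rw [this, h1, one_mul]

/-- the order of the centre times `p²` is the order of `S` -/
theorem CIdx.card_eq (h : CIdx S p) :
    Nat.card ↥(S ⊓ Subgroup.centralizer (S : Set Ω)) * p ^ 2 = Nat.card S := by
  rw [← h.idx]
  exact card_mul_relIndex' inf_le_left

/-- decomposition of the elements of a good subgroup -/
theorem CIdx.good_dec (h : CIdx S p) {P : Subgroup Ω} (hP : Good S P) {u : Ω} (hu : u ∈ P)
    (huZ : u ∉ S ⊓ Subgroup.centralizer (S : Set Ω)) {y : Ω} (hy : y ∈ P) :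
    ∃ z ∈ S ⊓ Subgroup.centralizer (S : Set Ω), ∃ k : ℤ, y = z * u ^ k := by
  have hN : ((S ⊓ Subgroup.centralizer (S : Set Ω)).subgroupOf P).Normal := by
    constructor
    intro n hn g
    rw [Subgroup.mem_subgroupOf] at hn ⊢
    have : ((g * n * g⁻¹ : P) : Ω) = n := by
      show (g : Ω) * n * (g : Ω)⁻¹ = n
      rw [center_commute hn (hP.le g.2), mul_inv_cancel_right]
    rw [this]; exact hn
  exact exists_mul_zpow_of_index_prime hN (h.relIndex_good hP).2 hu huZ hy

end

end Cfsg.Agent.Lib.Helper27
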