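import Mathlib
import Cfsg.Agent.Lib.Helper27.CenterIdx
import Cfsg.Agent.Lib.Helper27.AbelianIndexP3

/-!
# Helper27: fusion systems on `p`-groups whose centre has index `p²`

Good subgroups are fully normalized and carry the transvection data `HData`; centric radical good
subgroups have an automorphism moving `Z(S)`; transport of automorphisms along `Aut_F(S)`; extension
of maps between central subgroups to `Aut_F(S)`.
-/

set_option autoImplicit false

namespace Cfsg.Agent.Lib.Helper27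

open Cfsg Cfsg.FusionSystem
open scoped commutatorElement

variable {Ω : Type*} [Group Ω] {S : Subgroup Ω}

theorem good_of_centric {F : FusionSystem S} {R : Subgroup Ω} (hc : F.IsCentric R)
    (hne : ¬ S ≤ R) : Good S R := by
  have hcR := hc.2 R (isConj_refl F hc.1)
  refine ⟨?_, hc.1, hne, ?_⟩
  · intro z hz
    apply hcR
    rw [mem_centralizerIn_iff]
    exact ⟨(Subgroup.mem_inf.mp hz).1, fun y hy => center_commute hz (hc.1 hy)⟩
  · intro hle
    apply hne
    intro s hs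
    apply hcR
    rw [mem_centralizerIn_iff]
    exact ⟨hs, fun y hy => (center_commute (hle hy) hs).symm⟩

theorem essential_good [Finite S] {p : ℕ} [Fact p.Prime] (hS : IsPGroup p S) {F : FusionSystem S}
    (hF : F.IsSaturated p) {Q : Subgroup Ω} (hQ : F.IsEssential p Q) : Good S Q := by
  obtain ⟨K, -, -, -, ⟨g, hg, hgQ⟩, -⟩ := essential_exists_subgroup hS hF hQ
  exact good_of_centric hQ.1 (fun hle => hgQ (hle (mem_normalizerIn_iff.mp hg).1))

section

variable [Finite S] {p : ℕ} [Fact p.Prime]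

theorem CIdx.mem_normalizerIn (h : CIdx S p) {P : Subgroup Ω} (hP : Good S P) {g : Ω}
    (hg : g ∈ S) : g ∈ normalizerIn S P := by
  have hA := h.abIdx hP
  have : Finite P :=
    Finite.of_injective (Subgroup.inclusion hP.le) (Subgroup.inclusion_injective hP.le)
  exact ⟨hg, mem_normalizer_of_conj_mem (fun y hy => hA.conj g hg y hy)⟩

theorem CIdx.good_isFullyNormalized (h : CIdx S p) {P : Subgroup Ω} (hP : Good S P)
    (F : FusionSystem S) : F.IsFullyNormalized P := by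
  refine ⟨hP.le, fun Q _ => ?_⟩
  have hN : normalizerIn S P = S :=
    le_antisymm inf_le_left (fun s hs => h.mem_normalizerIn hP hs)
  rw [hN]
  exact Subgroup.card_le_of_le (normalizerIn_le_S S Q)

/-- the transvection data of a good subgroup -/
theorem CIdx.exists_hData (h : CIdx S p) {P : Subgroup Ω} (hP : Good S P) {g : Ω} (hg : g ∈ S)
    (hgP : g ∉ P) :
    ∃ w : P, HData S P P p (conjAutHom S P ⟨g, h.mem_normalizerIn hP hg⟩) w := by
  have hA := h.abIdx hP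
  obtain ⟨x, hx, hxZ⟩ := hP.exists_not_mem_center
  have hxS := hP.le hx
  have hgN := h.mem_normalizerIn hP hg
  have hcx : g * x * g⁻¹ ∈ P := conj_mem_of_mem_normalizerIn hgN hx
  have hwS' : x⁻¹ * (g * x * g⁻¹) ∈ (commutator ↥S).map S.subtype := by
    have h1 := h.comm_mem (S.inv_mem hxS) hg
    have h2 : x⁻¹ * g * x⁻¹⁻¹ * g⁻¹ = x⁻¹ * (g * x * g⁻¹) := by group
    rwa [h2] at h1
  have hwZ := h.commutator_le hwS'
  have hwP : x⁻¹ * (g * x * g⁻¹) ∈ P := P.mul_mem (P.inv_mem hx) hcx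
  have hw1 : x⁻¹ * (g * x * g⁻¹) ≠ 1 := by
    intro h1
    apply hxZ
    apply hA.mem_center_of_comm hg hgP hx
    have h2 : g * x * g⁻¹ = x := by
      have := congrArg (fun t => x * t) h1
      simpa using this
    calc x * g = (g * x * g⁻¹) * g := by rw [h2]
      _ = g * x := by group
  refine ⟨⟨_, hwP⟩, ⟨?_, ?_, ?_, ?_, ?_, ?_, ?_⟩⟩
  · intro u v
    exact Subtype.ext (h.good_comm hP u.1 u.2 v.1 v.2)
  · exact Subgroup.mem_inf.mpr ⟨hwZ, hwS'⟩
  · apply Subtype.ext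
    rw [Subgroup.coe_pow]
    exact h.pow_commutator hwS'
  · intro h1
    exact hw1 (congrArg Subtype.val h1)
  · intro y
    have h1 : (y : Ω)⁻¹ * (g * y * g⁻¹) ∈ (commutator ↥S).map S.subtype := by
      have h1 := h.comm_mem (S.inv_mem (hP.le y.2)) hg
      have h2 : (y : Ω)⁻¹ * g * (y : Ω)⁻¹⁻¹ * g⁻¹ = (y : Ω)⁻¹ * (g * y * g⁻¹) := by group
      rwa [h2] at h1
    obtain ⟨i, hi⟩ := h.exists_zpow hwS' hw1 _ h1
    rw [Subgroup.mem_zpowers_iff]
    refine ⟨i, Subtype.ext ?_⟩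
    rw [Subgroup.coe_zpow, Subgroup.coe_mul, Subgroup.coe_inv, conjAutHom_apply]
    exact hi.symm
  · intro y
    rw [Subgroup.mem_subgroupOf]
    constructor
    · intro hy
      have h1 : g * (y : Ω) * g⁻¹ = y := by
        have := congrArg Subtype.val hy
        rwa [conjAutHom_apply] at this
      apply hA.mem_center_of_comm hg hgP y.2
      calc (y : Ω) * g = (g * y * g⁻¹) * g := by rw [h1]
        _ = g * y := by group
    · intro hy
      apply Subtype.ext
      rw [conjAutHom_apply]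
      show g * (y : Ω) * g⁻¹ = y
      rw [center_commute hy hg, mul_inv_cancel_right]
  · rw [mem_autInducedBy_iff]
    exact ⟨g, hg, fun y => conjAutHom_apply S P _ y⟩

/-- a centric radical good subgroup has an automorphism in the system moving `Z(S)` -/
theorem CIdx.exists_moving (h : CIdx S p) {F : FusionSystem S} {P : Subgroup Ω} (hP : Good S P)
    (hc : F.IsCentric P) (hr : F.IsRadical p P) :
    ∃ γ ∈ F.autGroup P, ∃ z₀ : P, (z₀ : Ω) ∈ S ⊓ Subgroup.centralizer (S : Set Ω) ∧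
      ((γ z₀ : P) : Ω) ∉ S ⊓ Subgroup.centralizer (S : Set Ω) := by
  by_contra hcon
  push Not at hcon
  obtain ⟨g, hg, hgP⟩ := hP.exists_not_mem
  apply hgP
  have hgN := h.mem_normalizerIn hP hg
  apply mem_of_stabilizes_chain h.pg hc hr (chainZ (S ⊓ Subgroup.centralizer (S : Set Ω))) 2 ?_ rfl
    (show P ≤ chainZ _ 2 from le_top) hgN ?_
  · intro j α hα x hx
    match j with
    | 0 =>
      have hx1 : (x : Ω) = 1 := Subgroup.mem_bot.mp hx
      have : x = 1 := Subtype.ext hx1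
      rw [this, map_one]
      exact Subgroup.one_mem _
    | 1 => exact hcon α ((mem_autGroup_iff F hP.le α).mpr hα) x hx
    | (n + 2) => exact Subgroup.mem_top _
  · intro j hj x hxP hx
    have hj' : j = 0 ∨ j = 1 := by omega
    rcases hj' with rfl | rfl
    · have hxZ : x ∈ S ⊓ Subgroup.centralizer (S : Set Ω) := hx
      show x⁻¹ * (g * x * g⁻¹) ∈ (⊥ : Subgroup Ω)
      rw [Subgroup.mem_bot, center_commute hxZ hg, mul_inv_cancel_right, inv_mul_cancel]
    · show x⁻¹ * (g * x * g⁻¹) ∈ S ⊓ Subgroup.centralizer (S : Set Ω)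
      apply h.commutator_le
      have h1 := h.comm_mem (S.inv_mem (hP.le hxP)) hg
      have h2 : x⁻¹ * g * x⁻¹⁻¹ * g⁻¹ = x⁻¹ * (g * x * g⁻¹) := by group
      rwa [h2] at h1

end

/-- `γ` does not preserve `Z(S)` -/
def MovesZ (S P : Subgroup Ω) (γ : MulAut P) : Prop :=
  ∃ z₀ : P, (z₀ : Ω) ∈ S ⊓ Subgroup.centralizer (S : Set Ω) ∧
    ((γ z₀ : P) : Ω) ∉ S ⊓ Subgroup.centralizer (S : Set Ω)

theorem not_movesZ {P : Subgroup Ω} {γ : MulAut P} (h : ¬ MovesZ S P γ) :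
    ∀ z : P, (z : Ω) ∈ S ⊓ Subgroup.centralizer (S : Set Ω) →
      ((γ z : P) : Ω) ∈ S ⊓ Subgroup.centralizer (S : Set Ω) := by
  intro z hz
  by_contra hcon
  exact h ⟨z, hz, hcon⟩

theorem MovesZ.inv {P : Subgroup Ω} [Finite P] {γ : MulAut P} (h : MovesZ S P γ) :
    MovesZ S P γ⁻¹ := by
  by_contra hcon
  obtain ⟨z₀, hz₀, hγz₀⟩ := h
  have h1 := Transv.inv_mem_of_forall_mem γ⁻¹
    ((S ⊓ Subgroup.centralizer (S : Set Ω)).subgroupOf P)
    (fun z hz => Subgroup.mem_subgroupOf.mpr (not_movesZ hcon z (Subgroup.mem_subgroupOf.mp hz)))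
  have h2 := h1 z₀ (Subgroup.mem_subgroupOf.mpr hz₀)
  rw [inv_inv] at h2
  exact hγz₀ (Subgroup.mem_subgroupOf.mp h2)

/-- an automorphism preserving `Z(S)` maps the complement of `Z(S)` to itself -/
theorem not_movesZ_not_mem {P : Subgroup Ω} [Finite P] {γ : MulAut P} (h : ¬ MovesZ S P γ)
    {y : P} (hy : (y : Ω) ∉ S ⊓ Subgroup.centralizer (S : Set Ω)) :
    ((γ y : P) : Ω) ∉ S ⊓ Subgroup.centralizer (S : Set Ω) := by
  intro hcon
  have h1 : ¬ MovesZ S P γ⁻¹ := fun h' => h (by simpa using h'.inv)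
  have h2 := not_movesZ h1 (γ y) hcon
  rw [MulAut.inv_apply_self] at h2
  exact hy h2

section

variable [Finite S] {p : ℕ} [Fact p.Prime]

theorem CIdx.moves_apply (h : CIdx S p) {F : FusionSystem S} (hF : F.IsSaturated p)
    {P : Subgroup Ω} (hP : Good S P) {A : Subgroup Ω} {α : MulAut P} {w : P}
    (hd : HData S A P p α w) {γ : MulAut P} (hγ : γ ∈ F.autGroup P) (hm : MovesZ S P γ) :
    ((γ w : P) : Ω) ∉ S ⊓ Subgroup.centralizer (S : Set Ω) ∧
      ((γ⁻¹ w : P) : Ω) ∉ S ⊓ Subgroup.centralizer (S : Set Ω) := by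
  have : Finite P :=
    Finite.of_injective (Subgroup.inclusion hP.le) (Subgroup.inclusion_injective hP.le)
  have hfn := h.good_isFullyNormalized hP F
  constructor
  · obtain ⟨z₀, hz₀, hγz₀⟩ := hm.inv
    have h1 := hType_not_mem h.pg hF hfn hd ((F.autGroup P).inv_mem hγ)
      (Subgroup.mem_subgroupOf.mpr hz₀) (fun h' => hγz₀ (Subgroup.mem_subgroupOf.mp h'))
    rw [inv_inv] at h1
    exact fun h' => h1 (Subgroup.mem_subgroupOf.mpr h')
  · obtain ⟨z₀, hz₀, hγz₀⟩ := hm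
    have h1 := hType_not_mem h.pg hF hfn hd hγ
      (Subgroup.mem_subgroupOf.mpr hz₀) (fun h' => hγz₀ (Subgroup.mem_subgroupOf.mp h'))
    exact fun h' => h1 (Subgroup.mem_subgroupOf.mpr h')

/-- if `γ` moves `Z(S)`, every element of `P` is `z * γ(w)^k` -/
theorem CIdx.moves_dec (h : CIdx S p) {F : FusionSystem S} (hF : F.IsSaturated p)
    {P : Subgroup Ω} (hP : Good S P) {A : Subgroup Ω} {α : MulAut P} {w : P}
    (hd : HData S A P p α w) {γ : MulAut P} (hγ : γ ∈ F.autGroup P) (hm : MovesZ S P γ) (y : P) :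
    ∃ z ∈ S ⊓ Subgroup.centralizer (S : Set Ω), ∃ k : ℤ, (y : Ω) = z * ((γ w : P) : Ω) ^ k :=
  h.good_dec hP (γ w).2 (h.moves_apply hF hP hd hγ hm).1 y.2

end

/-! ### Transport along automorphisms of `S` -/

theorem exists_transport {F : FusionSystem S} {ψ : S ≃* S} (hψ : IsIso F ψ) {P : Subgroup Ω}
    (hPS : P ≤ S) :
    ∃ (P' : Subgroup Ω) (e : P ≃* P'), IsIso F e ∧
      ∀ x : P, ((e x : P') : Ω) = ((ψ ⟨x, hPS x.2⟩ : S) : Ω) := by
  have h1 : (S.subtype.comp ψ.toMonoidHom).comp (Subgroup.inclusion hPS) ∈ F.Hom P :=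
    hom_restrict F hPS hψ
  obtain ⟨e, he, hex⟩ := exists_isIso_of_hom F h1 rfl
  exact ⟨_, e, he, fun x => hex x⟩

theorem Good.transport [Finite S] {P : Subgroup Ω} (hP : Good S P) {ψ : S ≃* S} {P' : Subgroup Ω}
    {e : P ≃* P'} (hP'S : P' ≤ S)
    (hex : ∀ x : P, ((e x : P') : Ω) = ((ψ ⟨x, hP.le x.2⟩ : S) : Ω)) : Good S P' := by
  refine ⟨?_, hP'S, ?_, ?_⟩
  · intro z hz
    have hzS : z ∈ S := (Subgroup.mem_inf.mp hz).1
    have h1 := center_aut_mem ψ.symm ⟨z, hzS⟩ hz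
    have h2 := hex ⟨_, hP.zle h1⟩
    have h3 : (⟨((ψ.symm ⟨z, hzS⟩ : S) : Ω), hP.le (hP.zle h1)⟩ : S) = ψ.symm ⟨z, hzS⟩ :=
      Subtype.ext rfl
    rw [h3, MulEquiv.apply_symm_apply] at h2
    rw [← show ((e ⟨_, hP.zle h1⟩ : P') : Ω) = z from h2]
    exact (e _).2
  · intro hle
    obtain ⟨s, hs, hsP⟩ := hP.exists_not_mem
    apply hsP
    have h1 : ((ψ ⟨s, hs⟩ : S) : Ω) ∈ P' := hle (ψ ⟨s, hs⟩).2
    have h2 := hex (e.symm ⟨_, h1⟩)
    rw [MulEquiv.apply_symm_apply] at h2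
    have h3 : (⟨s, hs⟩ : S) = ⟨(e.symm ⟨_, h1⟩ : P), hP.le (e.symm ⟨_, h1⟩).2⟩ :=
      ψ.injective (Subtype.ext h2)
    have h4 : s = ((e.symm ⟨_, h1⟩ : P) : Ω) := congrArg Subtype.val h3
    rw [h4]
    exact (e.symm ⟨_, h1⟩).2
  · intro hle
    obtain ⟨x, hx, hxZ⟩ := hP.exists_not_mem_center
    apply hxZ
    have h1 : ((e ⟨x, hx⟩ : P') : Ω) ∈ S ⊓ Subgroup.centralizer (S : Set Ω) := hle (e ⟨x, hx⟩).2
    rw [hex] at h1
    have h2 := center_aut_mem ψ.symm _ h1
    rw [MulEquiv.symm_apply_apply] at h2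
    exact h2

/-! ### Extending maps between central subgroups -/

theorem isFullyNormalized_of_le_center [Finite S] (F : FusionSystem S) {T : Subgroup Ω}
    (hT : T ≤ S ⊓ Subgroup.centralizer (S : Set Ω)) : F.IsFullyNormalized T := by
  refine ⟨hT.trans inf_le_left, fun Q _ => ?_⟩
  have hN : normalizerIn S T = S := by
    apply le_antisymm inf_le_left
    intro s hs
    refine ⟨hs, ?_⟩
    have : Finite T :=
      Finite.of_injective (Subgroup.inclusion (hT.trans inf_le_left)) (Subgroup.inclusion_injective _)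
    apply mem_normalizer_of_conj_mem
    intro y hy
    rw [center_commute (hT hy) hs, mul_inv_cancel_right]
    exact hy
  rw [hN]
  exact Subgroup.card_le_of_le (normalizerIn_le_S S Q)

/-- an isomorphism in `F` between subgroups of `Z(S)` extends to an automorphism of `S` in `F` -/
theorem exists_aut_extend_of_le_center [Finite S] {p : ℕ} [Fact p.Prime] (hS : IsPGroup p S)
    {F : FusionSystem S} (hF : F.IsSaturated p) {T₁ T₂ : Subgroup Ω}
    (hT₁ : T₁ ≤ S ⊓ Subgroup.centralizer (S : Set Ω))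
    (hT₂ : T₂ ≤ S ⊓ Subgroup.centralizer (S : Set Ω)) {e : T₁ ≃* T₂} (he : IsIso F e) :
    ∃ β : S ≃* S, IsIso F β ∧ ∀ z : T₁,
      ((β ⟨z, (Subgroup.mem_inf.mp (hT₁ z.2)).1⟩ : S) : Ω) = (e z : Ω) := by
  obtain ⟨-, hrec, -⟩ := fa_receptive_of_fullyNormalized hS hF (isFullyNormalized_of_le_center F hT₂)
  obtain ⟨ψ, hψ, h⟩ := receptive_exists_extension hrec he
  have hext : extender S T₁ (T₂.subtype.comp e.toMonoidHom) = S := by
    apply le_antisymm (extender_le_S _)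
    refine le_trans ?_ (centralizerIn_le_extender _)
    intro g hg
    refine ⟨hg, ?_⟩
    show g ∈ Subgroup.centralizer ((T₁ : Subgroup Ω) : Set Ω)
    rw [Subgroup.mem_centralizer_iff]
    intro x hx
    exact (center_commute (hT₁ hx) hg).symm
  have hψ' : ψ.comp (Subgroup.inclusion hext.ge) ∈ F.Hom S := hom_restrict F hext.ge hψ
  obtain ⟨α, hα, hαψ⟩ := exists_aut_of_hom_top F hψ'
  refine ⟨α, hα, fun z => ?_⟩
  rw [hαψ]
  exact h z.1 z.2 _

/-- the value of an automorphism in `F` at a central element with central image is the value of an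
automorphism of `S` in `F` -/
theorem exists_aut_apply_eq [Finite S] {p : ℕ} [Fact p.Prime] (hS : IsPGroup p S)
    {F : FusionSystem S} (hF : F.IsSaturated p) {Q : Subgroup Ω} (hQS : Q ≤ S) {α : MulAut Q}
    (hα : α ∈ F.autGroup Q) {y : Q} (hy : (y : Ω) ∈ S ⊓ Subgroup.centralizer (S : Set Ω))
    (hαy : ((α y : Q) : Ω) ∈ S ⊓ Subgroup.centralizer (S : Set Ω)) :
    ∃ β : S ≃* S, IsIso F β ∧ ((β ⟨y, hQS y.2⟩ : S) : Ω) = ((α y : Q) : Ω) := by
  have hT₁Q : Subgroup.zpowers (y : Ω) ≤ Q := Subgroup.zpowers_le.mpr y.2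
  have hT₁ : Subgroup.zpowers (y : Ω) ≤ S ⊓ Subgroup.centralizer (S : Set Ω) :=
    Subgroup.zpowers_le.mpr hy
  have hα' : Q.subtype.comp (α : Q ≃* Q).toMonoidHom ∈ F.Hom Q := (mem_autGroup_iff F hQS α).mp hα
  have hφ : (Q.subtype.comp (α : Q ≃* Q).toMonoidHom).comp (Subgroup.inclusion hT₁Q) ∈
      F.Hom (Subgroup.zpowers (y : Ω)) := hom_restrict F hT₁Q hα'
  obtain ⟨e, he, hex⟩ := exists_isIso_of_hom F hφ rfl
  have hT₂ : ((Q.subtype.comp (α : Q ≃* Q).toMonoidHom).comp (Subgroup.inclusion hT₁Q)).range ≤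
      S ⊓ Subgroup.centralizer (S : Set Ω) := by
    rintro _ ⟨⟨u, hu⟩, rfl⟩
    obtain ⟨k, rfl⟩ := Subgroup.mem_zpowers_iff.mp hu
    show ((α ⟨(y : Ω) ^ k, _⟩ : Q) : Ω) ∈ S ⊓ Subgroup.centralizer (S : Set Ω)
    have h1 : (⟨(y : Ω) ^ k, hT₁Q hu⟩ : Q) = y ^ k := Subtype.ext (by simp)
    rw [h1, map_zpow, Subgroup.coe_zpow]
    exact Subgroup.zpow_mem _ hαy k
  obtain ⟨β, hβ, hβe⟩ := exists_aut_extend_of_le_center hS hF hT₁ hT₂ he
  refine ⟨β, hβ, ?_⟩
  have h1 := hβe ⟨y, Subgroup.mem_zpowers _⟩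
  rw [hex] at h1
  exact h1

end Cfsg.Agent.Lib.Helper27
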