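import Mathlib
import Cfsg.Agent.Lib.Helper27.CenterIdxFus
import Cfsg.Agent.Lib.Helper1.ClassTwo

/-!
# Helper27: `|S : Z(S)| = p²`, `p` odd, `O_p(F) = 1`

Then `Z(S) = S'` has order `p` and `S` has exponent `p`.
-/

set_option autoImplicit false

namespace Cfsg.Agent.Lib.Helper27

open Cfsg Cfsg.FusionSystem
open scoped commutatorElement

variable {Ω : Type*} [Group Ω] {S : Subgroup Ω}

theorem CIdx.center_card_of_odd [Finite S] {p : ℕ} [Fact p.Prime] (h : CIdx S p)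
    {F : FusionSystem S} (hF : F.IsSaturated p) (hp2 : p ≠ 2) (hcore : F.core = ⊥) :
    S ⊓ Subgroup.centralizer (S : Set Ω) ≤ (commutator ↥S).map S.subtype ∧
      Nat.card ↥(S ⊓ Subgroup.centralizer (S : Set Ω)) = p := by
  have hp : p.Prime := Fact.out
  have hS := h.pg
  have : Finite ↥(S ⊓ Subgroup.centralizer (S : Set Ω)) :=
    Finite.of_injective (Subgroup.inclusion inf_le_left) (Subgroup.inclusion_injective _)
  have hDeq : (S ⊓ Subgroup.centralizer (S : Set Ω)) ⊓ (commutator ↥S).map S.subtype =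
      (commutator ↥S).map S.subtype := inf_eq_right.mpr h.commutator_le
  have hZ₀ : Nat.card ↥((S ⊓ Subgroup.centralizer (S : Set Ω)) ⊓ (commutator ↥S).map S.subtype) =
      p := by
    rw [hDeq]; exact h.card_commutator
  have hZne : S ⊓ Subgroup.centralizer (S : Set Ω) ≠ ⊥ := by
    intro hbot
    obtain ⟨w, hw, hw1⟩ := h.exists_commutator_ne_one
    have h1 := h.commutator_le hw
    rw [hbot, Subgroup.mem_bot] at h1
    exact hw1 h1
  have hHD : ∀ Q : Subgroup Ω, F.IsEssential p Q →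
      ∃ (α : MulAut Q) (w : Q), HData S Q Q p α w := by
    intro Q hQ
    have hG := essential_good hS hF hQ
    obtain ⟨g, hg, hgQ⟩ := hG.exists_not_mem
    obtain ⟨w, hd⟩ := h.exists_hData hG hg hgQ
    exact ⟨_, w, hd⟩
  have hA1 : ∃ Q : Subgroup Ω, F.IsEssential p Q ∧
      ∃ γ ∈ F.autGroup Q, ∃ z₀ : Q, (z₀ : Ω) ∈ S ⊓ Subgroup.centralizer (S : Set Ω) ∧
        ((γ z₀ : Q) : Ω) ∉ S ⊓ Subgroup.centralizer (S : Set Ω) := by
    by_contra hcon
    push Not at hcon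
    apply hZne
    have hn : F.IsNormal (S ⊓ Subgroup.centralizer (S : Set Ω)) := by
      apply isNormal_of_center_invariant hS hF le_rfl
      intro Q hQ α hα y hy
      rcases hQ with hQ | hQ
      · subst hQ
        exact center_aut_mem α y hy
      · exact hcon Q hQ α hα y hy
    have h1 := le_core hn
    rw [hcore] at h1
    exact eq_bot_iff.mpr h1
  obtain ⟨Q, hQ, γ₀, hγ₀, z₀, hz₀, hγz₀⟩ := hA1
  obtain ⟨α₀, w₀, hd₀⟩ := hHD Q hQ
  obtain ⟨e₀, he₀, hr₀, hfix₀⟩ := hType_exists_refl hS hF hp2 hQ hd₀ hZ₀ hγ₀ hz₀ hγz₀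
  have hDp : ∀ d ∈ (S ⊓ Subgroup.centralizer (S : Set Ω)) ⊓ (commutator ↥S).map S.subtype,
      d ^ p = 1 := by
    intro d hd
    exact h.pow_commutator (Subgroup.mem_inf.mp hd).2
  have hD : ∀ β : S ≃* S, ∀ s : S,
      (s : Ω) ∈ (S ⊓ Subgroup.centralizer (S : Set Ω)) ⊓ (commutator ↥S).map S.subtype →
      ((β s : S) : Ω) ∈ (S ⊓ Subgroup.centralizer (S : Set Ω)) ⊓ (commutator ↥S).map S.subtype := by
    intro β s hs
    obtain ⟨hs1, hs2⟩ := Subgroup.mem_inf.mp hs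
    refine Subgroup.mem_inf.mpr ⟨center_aut_mem β s hs1, ?_⟩
    obtain ⟨s', hs', hs's⟩ := hs2
    have hs'eq : s' = s := Subtype.ext hs's
    rw [hs'eq] at hs'
    have hchar : (commutator ↥S).Characteristic := by
      rw [commutator_def]; infer_instance
    have h1 : s ∈ (commutator ↥S).comap β.toMonoidHom := by
      rw [hchar.fixed]; exact hs'
    exact ⟨β s, h1, rfl⟩
  obtain ⟨Y, hYdef⟩ : ∃ Y : Subgroup Ω, Y =
      (Transv.fixS (e₀ : MulAut ↥(S ⊓ Subgroup.centralizer (S : Set Ω)))).map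
        (S ⊓ Subgroup.centralizer (S : Set Ω)).subtype := ⟨_, rfl⟩
  have hYmem : ∀ (v : Ω) (hv : v ∈ S ⊓ Subgroup.centralizer (S : Set Ω)),
      e₀ ⟨v, hv⟩ = ⟨v, hv⟩ → v ∈ Y := by
    intro v hv h
    rw [hYdef]
    exact ⟨⟨v, hv⟩, h, rfl⟩
  have hYelim : ∀ v ∈ Y, ∃ hv : v ∈ S ⊓ Subgroup.centralizer (S : Set Ω),
      e₀ ⟨v, hv⟩ = ⟨v, hv⟩ := by
    intro v hv
    rw [hYdef] at hv
    obtain ⟨z, hz, rfl⟩ := hv
    exact ⟨z.2, hz⟩
  have hINV : ∀ (Q' : Subgroup Ω) (_ : Q' ≤ S) (_ : S ⊓ Subgroup.centralizer (S : Set Ω) ≤ Q')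
      (α : MulAut Q') (_ : α ∈ F.autGroup Q')
      (_ : ∀ z : Q', (z : Ω) ∈ S ⊓ Subgroup.centralizer (S : Set Ω) →
        ((α z : Q') : Ω) ∈ S ⊓ Subgroup.centralizer (S : Set Ω)) (y : Q'),
      (y : Ω) ∈ Y → ((α y : Q') : Ω) ∈ Y := by
    intro Q' hQ'S hZQ' α hα hαZ y hy
    obtain ⟨hyZ, hey⟩ := hYelim _ hy
    exact hYmem _ (hαZ y hyZ)
      (IsRefl.fix_invariant_of_aut hS hF hDp hD he₀ hr₀ hQ'S hZQ' hα hαZ y hyZ hey)
  have hYn : F.IsNormal Y := by
    apply isNormal_of_center_invariant hS hF (Y := Y)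
    · intro v hv
      obtain ⟨hvZ, -⟩ := hYelim v hv
      exact hvZ
    · intro Q' hQ' α hα y hy
      rcases hQ' with hQ' | hQ'
      · have hQ'S : Q' ≤ S := hQ'.le
        have hZQ' : S ⊓ Subgroup.centralizer (S : Set Ω) ≤ Q' := by
          rw [hQ']; exact inf_le_left
        refine hINV Q' hQ'S hZQ' α hα ?_ y hy
        intro z hz
        subst hQ'
        exact center_aut_mem α z hz
      · have hQ'S : Q' ≤ S := hQ'.1.1
        have hZQ' : S ⊓ Subgroup.centralizer (S : Set Ω) ≤ Q' := essential_center_le hQ'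
        by_cases hαZ : ∀ z : Q', (z : Ω) ∈ S ⊓ Subgroup.centralizer (S : Set Ω) →
            ((α z : Q') : Ω) ∈ S ⊓ Subgroup.centralizer (S : Set Ω)
        · exact hINV Q' hQ'S hZQ' α hα hαZ y hy
        · push Not at hαZ
          obtain ⟨z₁, hz₁, hαz₁⟩ := hαZ
          have : Finite Q' :=
            Finite.of_injective (Subgroup.inclusion hQ'S) (Subgroup.inclusion_injective hQ'S)
          obtain ⟨α', w', hd'⟩ := hHD Q' hQ'
          obtain ⟨e', he', hr', hfix'⟩ := hType_exists_refl hS hF hp2 hQ' hd' hZ₀ hα hz₁ hαz₁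
          have heq' : e' = e₀ := IsRefl.unique hS hF hDp he' he₀ hr' hr₀
          obtain ⟨z₂, hz₂, hαz₂⟩ : ∃ z₂ : Q',
              (z₂ : Ω) ∈ S ⊓ Subgroup.centralizer (S : Set Ω) ∧
              ((α⁻¹ z₂ : Q') : Ω) ∉ S ⊓ Subgroup.centralizer (S : Set Ω) :=
            (show MovesZ S Q' α from ⟨z₁, hz₁, hαz₁⟩).inv
          obtain ⟨e'', he'', hr'', hfix''⟩ := hType_exists_refl hS hF hp2 hQ' hd' hZ₀
            ((F.autGroup Q').inv_mem hα) hz₂ hαz₂
          have heq'' : e'' = e₀ := IsRefl.unique hS hF hDp he'' he₀ hr'' hr₀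
          subst heq'
          subst heq''
          obtain ⟨hyZ, hey⟩ := hYelim _ hy
          obtain ⟨z', hz', hz'y⟩ := (hfix'' ⟨y, hyZ⟩).mp hey
          have h3 : α⁻¹ z' = y := Subtype.ext hz'y
          have h4 : α y = z' := by rw [← h3, MulAut.apply_inv_self]
          have hαyZ : ((α y : Q') : Ω) ∈ S ⊓ Subgroup.centralizer (S : Set Ω) := by
            rw [h4]; exact hz'
          exact hYmem _ hαyZ ((hfix' ⟨_, hαyZ⟩).mpr ⟨y, hyZ, rfl⟩)
  have hYbot : Y = ⊥ := by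
    have h1 := le_core hYn
    rw [hcore] at h1
    exact eq_bot_iff.mpr h1
  have hZS' : S ⊓ Subgroup.centralizer (S : Set Ω) ≤ (commutator ↥S).map S.subtype := by
    intro z hz
    obtain ⟨y₁, hy₁, hmem⟩ := hr₀.decomp hp2 hDp ⟨z, hz⟩
    have hy₁Y : (y₁ : Ω) ∈ Y := hYmem _ y₁.2 hy₁
    rw [hYbot, Subgroup.mem_bot] at hy₁Y
    have hy₁1 : y₁ = 1 := Subtype.ext hy₁Y
    rw [hy₁1, inv_one, one_mul] at hmem
    exact (Subgroup.mem_inf.mp hmem).2
  refine ⟨hZS', ?_⟩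
  have hZD : S ⊓ Subgroup.centralizer (S : Set Ω) = (commutator ↥S).map S.subtype :=
    le_antisymm hZS' h.commutator_le
  rw [hZD]
  exact h.card_commutator

theorem CIdx.pow_eq_one_of_odd [Finite S] {p : ℕ} [Fact p.Prime] (h : CIdx S p)
    {F : FusionSystem S} (hF : F.IsSaturated p) (hp2 : p ≠ 2) (hcore : F.core = ⊥) :
    ∀ x ∈ S, x ^ p = 1 := by
  obtain ⟨hZS', -⟩ := h.center_card_of_odd hF hp2 hcore
  have hS := h.pg
  have hZp : ∀ z ∈ S ⊓ Subgroup.centralizer (S : Set Ω), z ^ p = 1 :=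
    fun z hz => h.pow_commutator (hZS' hz)
  obtain ⟨w, hw, hw1⟩ := h.exists_commutator_ne_one
  have hfrc : ∀ R : Subgroup Ω, R < S → F.IsCentric R → F.IsRadical p R → ∀ y ∈ R, y ^ p = 1 := by
    intro R hR hc hr y hy
    have hG : Good S R := good_of_centric hc (fun hle => hR.ne (le_antisymm hR.le hle))
    obtain ⟨g, hg, hgR⟩ := hG.exists_not_mem
    obtain ⟨w', hd⟩ := h.exists_hData hG hg hgR
    obtain ⟨γ, hγ, hm⟩ := h.exists_moving hG hc hr
    obtain ⟨z, hz, k, hk⟩ := h.moves_dec hF hG hd hγ hm ⟨y, hy⟩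
    have hyk : y = z * ((γ w' : R) : Ω) ^ k := hk
    have hu : ((γ w' : R) : Ω) ^ k ∈ S := hG.le (R.zpow_mem (γ w').2 k)
    have hc1 : Commute z (((γ w' : R) : Ω) ^ k) := (center_commute hz hu).symm
    have h2 : ((γ w' : R) : Ω) ^ p = 1 := by
      have h1 : (γ w') ^ p = 1 := by rw [← map_pow, hd.wp, map_one]
      have := congrArg Subtype.val h1
      simpa using this
    rw [hyk, hc1.mul_pow, hZp z hz, one_mul, ← zpow_natCast, ← zpow_mul, mul_comm, zpow_mul,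
      zpow_natCast, h2, one_zpow]
  by_contra hcon
  push Not at hcon
  obtain ⟨s₀, hs₀, hs₀p⟩ := hcon
  have hcomm := h.commutator_le_center
  let E : Subgroup Ω :=
    { carrier := {x | x ∈ S ∧ x ^ p = 1}
      one_mem' := ⟨S.one_mem, one_pow _⟩
      mul_mem' := by
        rintro a b ⟨ha, hap⟩ ⟨hb, hbp⟩
        refine ⟨S.mul_mem ha hb, ?_⟩
        have h1 := Cfsg.Agent.Lib.Helper1.mul_pow_prime_eq_one_of_class_two hp2 hcomm
          (x := (⟨a, ha⟩ : S)) (y := ⟨b, hb⟩) (Subtype.ext (by simpa using hap))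
          (Subtype.ext (by simpa using hbp))
        have := congrArg Subtype.val h1
        simpa using this
      inv_mem' := by
        rintro a ⟨ha, hap⟩
        exact ⟨S.inv_mem ha, by rw [inv_pow, hap, inv_one]⟩ }
  have hES : E ≤ S := fun x hx => hx.1
  have hEsc : F.StronglyClosed E := by
    refine ⟨hES, fun R hR φ hφ x => ?_⟩
    refine ⟨(F.le_of_mem hφ).2 x, ?_⟩
    have hx : (x : Ω) ^ p = 1 := (hR x.2).2
    have h1 : x ^ p = 1 := Subtype.ext (by simpa using hx)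
    rw [← map_pow, h1, map_one]
  have hEn : F.IsNormal E := by
    apply isNormal_of_le_frc hS hF hEsc
    intro R hR _ hc hr
    have hG : Good S R := good_of_centric hc (fun hle => hR.ne (le_antisymm hR.le hle))
    have hRE : R ≤ E := fun y hy => ⟨hG.le hy, hfrc R hR hc hr y hy⟩
    have hGE : Good S E :=
      ⟨fun z hz => ⟨(Subgroup.mem_inf.mp hz).1, hZp z hz⟩, hES, fun hle => hs₀p (hle hs₀).2,
        fun hle => hG.nle (hRE.trans hle)⟩
    exact (h.good_eq_of_le hG hGE hRE).ge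
  have h1 := le_core hEn
  rw [hcore] at h1
  have hwE : w ∈ E := ⟨(Subgroup.mem_inf.mp (h.commutator_le hw)).1, h.pow_commutator hw⟩
  exact hw1 (Subgroup.mem_bot.mp (h1 hwE))

end Cfsg.Agent.Lib.Helper27
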