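import Mathlib
import Cfsg.Agent.Lib.Helper27.CenterIdxFus

/-!
# Helper27: `|S : Z(S)| = 4`: transvections of the good subgroups in characteristic `2`
-/

set_option autoImplicit false

namespace Cfsg.Agent.Lib.Helper27

open Cfsg Cfsg.FusionSystem
open scoped commutatorElement

variable {Ω : Type*} [Group Ω] {S : Subgroup Ω}

/-- the commutator subgroup is `{1, w}` -/
structure TwoW (S : Subgroup Ω) (w : Ω) : Prop where
  mem : w ∈ (commutator ↥S).map S.subtype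
  ne : w ≠ 1
  sq : w * w = 1
  all : ∀ d ∈ (commutator ↥S).map S.subtype, d = 1 ∨ d = w

theorem zpow_cases_of_sq {G : Type*} [Group G] {u : G} (hu : u * u = 1) (k : ℤ) :
    u ^ k = 1 ∨ u ^ k = u := by
  have h2 : u ^ (2 : ℤ) = 1 := by rw [zpow_two]; exact hu
  rcases Int.emod_two_eq_zero_or_one k with h | h
  · left
    have : k = 2 * (k / 2) := by omega
    rw [this, zpow_mul, h2, one_zpow]
  · right
    have : k = 2 * (k / 2) + 1 := by omega
    rw [this, zpow_add, zpow_mul, h2, one_zpow, one_mul, zpow_one]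

theorem HData.apply_two {A P : Subgroup Ω} {α : MulAut P} {w : P} (hd : HData S A P 2 α w)
    {y : P} (hy : (y : Ω) ∉ S ⊓ Subgroup.centralizer (S : Set Ω)) : α y = y * w := by
  have hsq : w * w = 1 := by
    have := hd.wp
    rwa [pow_two] at this
  obtain ⟨i, hi⟩ := Subgroup.mem_zpowers_iff.mp (hd.trans y)
  rcases zpow_cases_of_sq hsq i with h1 | h1
  · exfalso
    apply hy
    rw [h1] at hi
    have h2 : y = α y := inv_mul_eq_one.mp hi.symm
    exact Subgroup.mem_subgroupOf.mp ((hd.fix y).mp h2.symm)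
  · rw [h1] at hi
    rw [hi, mul_inv_cancel_left]

section

variable [Finite S]

theorem CIdx.exists_twoW (h : CIdx S 2) : ∃ w, TwoW S w := by
  obtain ⟨w, hw, hw1⟩ := h.exists_commutator_ne_one
  have hsq : w * w = 1 := by
    have := h.pow_commutator hw
    rwa [pow_two] at this
  refine ⟨w, hw, hw1, hsq, fun d hd => ?_⟩
  obtain ⟨i, rfl⟩ := h.exists_zpow hw hw1 d hd
  exact zpow_cases_of_sq hsq i

theorem CIdx.hData_two (h : CIdx S 2) {w : Ω} (hw : TwoW S w) {P : Subgroup Ω} (hP : Good S P)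
    {g : Ω} (hg : g ∈ S) (hgP : g ∉ P) :
    HData S P P 2 (conjAutHom S P ⟨g, h.mem_normalizerIn hP hg⟩)
      ⟨w, hP.zle (h.commutator_le hw.mem)⟩ := by
  obtain ⟨w', hd⟩ := h.exists_hData hP hg hgP
  have h1 : w' = ⟨w, hP.zle (h.commutator_le hw.mem)⟩ := by
    rcases hw.all w' (Subgroup.mem_inf.mp hd.wZ).2 with h2 | h2
    · exact absurd (Subtype.ext h2) hd.w1
    · exact Subtype.ext h2
  rw [← h1]
  exact hd

/-- two automorphisms moving `Z(S)` have the same fixed points on `Z(S)` -/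
theorem CIdx.two_F7 (h : CIdx S 2) {F : FusionSystem S} (hF : F.IsSaturated 2) {P : Subgroup Ω}
    (hP : Good S P) {A : Subgroup Ω} {α : MulAut P} {w : P} (hd : HData S A P 2 α w)
    {β β' : MulAut P} (hβ : β ∈ F.autGroup P) (hβ' : β' ∈ F.autGroup P) (hm : MovesZ S P β)
    {y : P} (hy : (y : Ω) ∈ S ⊓ Subgroup.centralizer (S : Set Ω))
    (hβy : ((β y : P) : Ω) ∈ S ⊓ Subgroup.centralizer (S : Set Ω)) :
    ((β' y : P) : Ω) ∈ S ⊓ Subgroup.centralizer (S : Set Ω) := by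
  have : Finite P :=
    Finite.of_injective (Subgroup.inclusion hP.le) (Subgroup.inclusion_injective hP.le)
  by_contra hβ'y
  have hm' : MovesZ S P β' := ⟨y, hy, hβ'y⟩
  have hw₁ := (h.moves_apply hF hP hd hβ hm).2
  have hw₂ := (h.moves_apply hF hP hd hβ' hm').2
  have hαG : α ∈ F.autGroup P := autInducedBy_le_autGroup F hP.le hd.mem
  have hZP2 := (h.relIndex_good hP).2
  by_cases hδ : MovesZ S P (β' * β⁻¹)
  · have hδG : β' * β⁻¹ ∈ F.autGroup P :=
      (F.autGroup P).mul_mem hβ' ((F.autGroup P).inv_mem hβ)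
    have h3 := (h.moves_apply hF hP hd hδG hδ).2
    have h4 : (β' * β⁻¹)⁻¹ w = β (β'⁻¹ w) := by
      rw [mul_inv_rev, inv_inv]; rfl
    rw [h4] at h3
    have hγG : β' * (β⁻¹ * α * β)⁻¹ ∈ F.autGroup P :=
      (F.autGroup P).mul_mem hβ' ((F.autGroup P).inv_mem
        ((F.autGroup P).mul_mem ((F.autGroup P).mul_mem ((F.autGroup P).inv_mem hβ) hαG) hβ))
    have h5 : (β' * (β⁻¹ * α * β)⁻¹)⁻¹ w = β'⁻¹ w * β⁻¹ w := by
      rw [mul_inv_rev, inv_inv]
      show β⁻¹ (α (β (β'⁻¹ w))) = _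
      rw [hd.apply_two h3, map_mul, MulAut.inv_apply_self]
    have h6 : ((β'⁻¹ w * β⁻¹ w : P) : Ω) ∈ S ⊓ Subgroup.centralizer (S : Set Ω) := by
      rw [Subgroup.coe_mul]
      exact (mul_mem_iff_of_relIndex_two hZP2 (β'⁻¹ w).2 (β⁻¹ w).2).mpr (iff_of_false hw₂ hw₁)
    have hnm : ¬ MovesZ S P (β' * (β⁻¹ * α * β)⁻¹) := by
      intro hm''
      have h7 := (h.moves_apply hF hP hd hγG hm'').2
      rw [h5] at h7
      exact h7 h6
    have h7 := not_movesZ hnm y hy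
    have h8 : (β' * (β⁻¹ * α * β)⁻¹) y = β' y := by
      have h9 : (β⁻¹ * α * β) y = y := by
        show β⁻¹ (α (β y)) = y
        rw [(hd.fix (β y)).mpr (Subgroup.mem_subgroupOf.mpr hβy), MulAut.inv_apply_self]
      have h10 : (β⁻¹ * α * β)⁻¹ y = y := by
        have := congrArg (fun u => (β⁻¹ * α * β)⁻¹ u) h9
        simp only [MulAut.inv_apply_self] at this
        exact this.symm
      show β' ((β⁻¹ * α * β)⁻¹ y) = β' y
      rw [h10]
    rw [h8] at h7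
    exact hβ'y h7
  · have h3 := not_movesZ hδ (β y) hβy
    have h4 : (β' * β⁻¹) (β y) = β' y := by
      show β' (β⁻¹ (β y)) = β' y
      rw [MulAut.inv_apply_self]
    rw [h4] at h3
    exact hβ'y h3

end

/-- all images of `y` under `Aut_F(P)` lie in `Z(S)` -/
def FixZ (F : FusionSystem S) (P : Subgroup Ω) (y : Ω) : Prop :=
  ∀ β ∈ F.autGroup P, ∀ yP : P, (yP : Ω) = y →
    ((β yP : P) : Ω) ∈ S ⊓ Subgroup.centralizer (S : Set Ω)

theorem FixZ.mul {F : FusionSystem S} {P : Subgroup Ω} {y₁ y₂ : Ω} (h₁ : FixZ F P y₁)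
    (h₂ : FixZ F P y₂) (hy₁ : y₁ ∈ P) : FixZ F P (y₁ * y₂) := by
  intro β hβ yP hyP
  have hy₂ : y₂ ∈ P := by
    have : y₂ = y₁⁻¹ * yP := by rw [hyP, inv_mul_cancel_left]
    rw [this]
    exact P.mul_mem (P.inv_mem hy₁) yP.2
  have e1 : yP = ⟨y₁, hy₁⟩ * ⟨y₂, hy₂⟩ := Subtype.ext hyP
  rw [e1, map_mul, Subgroup.coe_mul]
  exact Subgroup.mul_mem _ (h₁ β hβ _ rfl) (h₂ β hβ _ rfl)

theorem FixZ.apply {F : FusionSystem S} {P : Subgroup Ω} {y : Ω} (h : FixZ F P y) {β₀ : MulAut P}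
    (hβ₀ : β₀ ∈ F.autGroup P) (yP : P) (hyP : (yP : Ω) = y) : FixZ F P ((β₀ yP : P) : Ω) := by
  intro β hβ uP huP
  have e1 : uP = β₀ yP := Subtype.ext huP
  rw [e1]
  exact h (β * β₀) ((F.autGroup P).mul_mem hβ hβ₀) yP hyP

section

variable [Finite S]

theorem CIdx.two_fix_or (h : CIdx S 2) {F : FusionSystem S} (hF : F.IsSaturated 2) {w : Ω}
    (hw : TwoW S w) {P : Subgroup Ω} (hP : Good S P) {γ₀ : MulAut P} (hγ₀ : γ₀ ∈ F.autGroup P)
    (hm₀ : MovesZ S P γ₀) {y : Ω} (hy : y ∈ S ⊓ Subgroup.centralizer (S : Set Ω)) :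
    FixZ F P y ∨ FixZ F P (y * w) := by
  obtain ⟨g, hg, hgP⟩ := hP.exists_not_mem
  have hd := h.hData_two hw hP hg hgP
  have hwZ := h.commutator_le hw.mem
  by_cases hγy : ((γ₀ ⟨y, hP.zle hy⟩ : P) : Ω) ∈ S ⊓ Subgroup.centralizer (S : Set Ω)
  · left
    intro β hβ yP hyP
    have e1 : yP = ⟨y, hP.zle hy⟩ := Subtype.ext hyP
    rw [e1]
    exact h.two_F7 hF hP hd hγ₀ hβ hm₀ hy hγy
  · right
    intro β hβ yP hyP
    have hywZ : y * w ∈ S ⊓ Subgroup.centralizer (S : Set Ω) := Subgroup.mul_mem _ hy hwZ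
    have e1 : yP = ⟨y, hP.zle hy⟩ * ⟨w, hP.zle hwZ⟩ := Subtype.ext hyP
    apply h.two_F7 hF hP hd hγ₀ hβ hm₀ (y := yP) (by rw [hyP]; exact hywZ)
    rw [e1, map_mul, Subgroup.coe_mul]
    exact (mul_mem_iff_of_relIndex_two (h.relIndex_good hP).2 (γ₀ _).2 (γ₀ _).2).mpr
      (iff_of_false hγy (h.moves_apply hF hP hd hγ₀ hm₀).1)

theorem CIdx.two_not_fix_w (h : CIdx S 2) {F : FusionSystem S} (hF : F.IsSaturated 2) {w : Ω}
    (hw : TwoW S w) {P : Subgroup Ω} (hP : Good S P) {γ₀ : MulAut P} (hγ₀ : γ₀ ∈ F.autGroup P)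
    (hm₀ : MovesZ S P γ₀) : ¬ FixZ F P w := by
  intro hfix
  obtain ⟨g, hg, hgP⟩ := hP.exists_not_mem
  have hd := h.hData_two hw hP hg hgP
  exact (h.moves_apply hF hP hd hγ₀ hm₀).1 (hfix γ₀ hγ₀ _ rfl)

/-- squares of the elements of an active good subgroup are squares of central elements -/
theorem CIdx.two_sq_mem (h : CIdx S 2) {F : FusionSystem S} (hF : F.IsSaturated 2) {w : Ω}
    (hw : TwoW S w) {P : Subgroup Ω} (hP : Good S P) {γ : MulAut P} (hγ : γ ∈ F.autGroup P)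
    (hm : MovesZ S P γ) :
    ∀ x ∈ P, ∃ z ∈ S ⊓ Subgroup.centralizer (S : Set Ω), x * x = z * z := by
  intro x hx
  obtain ⟨g, hg, hgP⟩ := hP.exists_not_mem
  have hd := h.hData_two hw hP hg hgP
  obtain ⟨z, hz, k, hk⟩ := h.moves_dec hF hP hd hγ hm ⟨x, hx⟩
  refine ⟨z, hz, ?_⟩
  obtain ⟨u, hu⟩ : ∃ u : P, u = γ ⟨w, hP.zle (h.commutator_le hw.mem)⟩ := ⟨_, rfl⟩
  rw [← hu] at hk
  have hk' : x = z * (u : Ω) ^ k := hk
  have hu2 : (u : Ω) * u = 1 := by
    have h1 : u * u = 1 := by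
      rw [hu, ← map_mul]
      have : (⟨w, hP.zle (h.commutator_le hw.mem)⟩ : P) * ⟨w, hP.zle (h.commutator_le hw.mem)⟩ = 1 :=
        Subtype.ext hw.sq
      rw [this, map_one]
    exact congrArg Subtype.val h1
  have huk : (u : Ω) ^ k * (u : Ω) ^ k = 1 := by
    rw [← (Commute.refl (u : Ω)).mul_zpow, hu2, one_zpow]
  have hc : (u : Ω) ^ k * z = z * (u : Ω) ^ k :=
    center_commute hz (hP.le (P.zpow_mem u.2 k))
  calc x * x = z * ((u : Ω) ^ k * z) * (u : Ω) ^ k := by rw [hk']; group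
    _ = z * (z * (u : Ω) ^ k) * (u : Ω) ^ k := by rw [hc]
    _ = z * z * ((u : Ω) ^ k * (u : Ω) ^ k) := by group
    _ = z * z := by rw [huk, mul_one]

end

/-- the squares of the central elements -/
def sqSubgroup (S : Subgroup Ω) : Subgroup Ω where
  carrier := {y | ∃ z ∈ S ⊓ Subgroup.centralizer (S : Set Ω), y = z * z}
  one_mem' := ⟨1, Subgroup.one_mem _, by simp⟩
  mul_mem' := by
    rintro _ _ ⟨a, ha, rfl⟩ ⟨b, hb, rfl⟩
    refine ⟨a * b, Subgroup.mul_mem _ ha hb, ?_⟩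
    have hc : a * b = b * a := center_commute hb (Subgroup.mem_inf.mp ha).1
    calc a * a * (b * b) = a * (a * b) * b := by group
      _ = a * (b * a) * b := by rw [hc]
      _ = a * b * (a * b) := by group
  inv_mem' := by
    rintro _ ⟨a, ha, rfl⟩
    exact ⟨a⁻¹, Subgroup.inv_mem _ ha, by group⟩

section

variable [Finite S]

/-- `Z(S)` is elementary abelian -/
theorem CIdx.two_center_sq (h : CIdx S 2) {F : FusionSystem S} (hF : F.IsSaturated 2)
    (hcore : F.core = ⊥) {w : Ω} (hw : TwoW S w) :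
    ∀ z ∈ S ⊓ Subgroup.centralizer (S : Set Ω), z * z = 1 := by
  have hn : F.IsNormal (sqSubgroup S) := by
    apply isNormal_of_center_invariant h.pg hF
    · rintro _ ⟨z, hz, rfl⟩
      exact Subgroup.mul_mem _ hz hz
    · intro Q hQ α hα y hy
      obtain ⟨z, hz, hyz⟩ := hy
      rcases hQ with hQ | hQ
      · subst hQ
        have hzS : z ∈ Q := (Subgroup.mem_inf.mp hz).1
        refine ⟨_, center_aut_mem α ⟨z, hzS⟩ hz, ?_⟩
        have e1 : y = ⟨z, hzS⟩ * ⟨z, hzS⟩ := Subtype.ext hyz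
        rw [e1, map_mul]
        rfl
      · have hG := essential_good h.pg hF hQ
        have hr := Cfsg.Agent.S5080.result 2 h.pg F hF Q hQ
        obtain ⟨γ, hγ, hm⟩ := h.exists_moving hG hQ.1 hr
        have e1 : y = ⟨z, hG.zle hz⟩ * ⟨z, hG.zle hz⟩ := Subtype.ext hyz
        rw [e1, map_mul, Subgroup.coe_mul]
        exact h.two_sq_mem hF hw hG hγ hm _ (α _).2
  have h1 := le_core hn
  rw [hcore] at h1
  intro z hz
  exact Subgroup.mem_bot.mp (h1 ⟨z, hz, rfl⟩)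

/-- active good subgroups are elementary abelian -/
theorem CIdx.two_active_sq (h : CIdx S 2) {F : FusionSystem S} (hF : F.IsSaturated 2)
    (hcore : F.core = ⊥) {w : Ω} (hw : TwoW S w) {P : Subgroup Ω} (hP : Good S P) {γ : MulAut P}
    (hγ : γ ∈ F.autGroup P) (hm : MovesZ S P γ) : ∀ x ∈ P, x * x = 1 := by
  intro x hx
  obtain ⟨z, hz, hxz⟩ := h.two_sq_mem hF hw hP hγ hm x hx
  rw [hxz]
  exact h.two_center_sq hF hcore hw z hz

end

/-- the central elements all of whose images under the `Aut_F(P)`, `P` good, are central -/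
def fixAll (F : FusionSystem S) : Subgroup Ω where
  carrier := {y | y ∈ S ⊓ Subgroup.centralizer (S : Set Ω) ∧ ∀ P, Good S P → FixZ F P y}
  one_mem' := ⟨Subgroup.one_mem _, fun P _ β _ yP hyP => by
    have : yP = 1 := Subtype.ext hyP
    rw [this, map_one]
    exact Subgroup.one_mem _⟩
  mul_mem' := by
    rintro a b ⟨ha, ha'⟩ ⟨hb, hb'⟩
    exact ⟨Subgroup.mul_mem _ ha hb, fun P hP => (ha' P hP).mul (hb' P hP) (hP.zle ha)⟩
  inv_mem' := by
    rintro a ⟨ha, ha'⟩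
    refine ⟨Subgroup.inv_mem _ ha, fun P hP β hβ yP hyP => ?_⟩
    have e1 : yP = (⟨a, hP.zle ha⟩ : P)⁻¹ := Subtype.ext hyP
    rw [e1, map_inv, Subgroup.coe_inv]
    exact Subgroup.inv_mem _ (ha' P hP β hβ _ rfl)

theorem mem_fixAll {F : FusionSystem S} {y : Ω} : y ∈ fixAll F ↔
    y ∈ S ⊓ Subgroup.centralizer (S : Set Ω) ∧ ∀ P, Good S P → FixZ F P y := Iff.rfl

/-- `fixAll` is invariant under `Aut_F(S)` -/
theorem fixAll_aut [Finite S] {F : FusionSystem S} {α : S ≃* S} (hα : IsIso F α) {y : S}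
    (hy : (y : Ω) ∈ fixAll F) : ((α y : S) : Ω) ∈ fixAll F := by
  obtain ⟨hyZ, hyF⟩ := hy
  refine ⟨center_aut_mem α y hyZ, fun P hP β hβ yP hyP => ?_⟩
  obtain ⟨P', e, he, hex⟩ := exists_transport hα.symm hP.le
  have hP'S : P' ≤ S := he.le_right
  have hP' : Good S P' := hP.transport hP'S hex
  have hβ' : (MulAut.congr e β : MulAut P') ∈ F.autGroup P' := by
    rw [mem_autGroup_iff F hP'S]
    exact (isIso_congr he β).mpr ((mem_autGroup_iff F hP.le β).mp hβ)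
  have h1 := hyF P' hP' _ hβ' ⟨y, hP'.zle hyZ⟩ rfl
  have h2 : e yP = ⟨y, hP'.zle hyZ⟩ := by
    apply Subtype.ext
    rw [hex]
    have : (⟨(yP : Ω), hP.le yP.2⟩ : S) = α y := Subtype.ext hyP
    rw [this, MulEquiv.symm_apply_apply]
  have h3 : (MulAut.congr e β : MulAut P') ⟨y, hP'.zle hyZ⟩ = e (β yP) := by
    rw [← h2]
    simp [MulAut.congr]
  rw [h3, hex] at h1
  have h4 := center_aut_mem α _ h1
  rw [MulEquiv.apply_symm_apply] at h4
  exact h4

theorem CIdx.fixAll_eq_bot [Finite S] {p : ℕ} [Fact p.Prime] (h : CIdx S p) {F : FusionSystem S}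
    (hF : F.IsSaturated p) (hcore : F.core = ⊥) : fixAll F = ⊥ := by
  have hn : F.IsNormal (fixAll F) := by
    apply isNormal_of_center_invariant h.pg hF
    · intro y hy
      exact hy.1
    · intro Q hQ α hα y hy
      rcases hQ with hQ | hQ
      · subst hQ
        exact fixAll_aut ((mem_autGroup_iff F le_rfl α).mp hα) hy
      · have hG := essential_good h.pg hF hQ
        have hαy := hy.2 Q hG α hα y rfl
        obtain ⟨β, hβ, hβy⟩ := exists_aut_apply_eq h.pg hF hG.le hα hy.1 hαy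
        rw [← hβy]
        exact fixAll_aut hβ hy
  have h1 := le_core hn
  rw [hcore] at h1
  exact eq_bot_iff.mpr h1

/-- at most two good subgroups are elementary abelian -/
theorem CIdx.two_third [Finite S] (h : CIdx S 2) {P₁ P₂ P : Subgroup Ω} (h₁ : Good S P₁)
    (h₂ : Good S P₂) (hP : Good S P) (hne : P₁ ≠ P₂) (e₁ : ∀ x ∈ P₁, x * x = 1)
    (e₂ : ∀ x ∈ P₂, x * x = 1) (e : ∀ x ∈ P, x * x = 1) : P = P₁ ∨ P = P₂ := by
  obtain ⟨x₁, hx₁, hx₁Z⟩ := h₁.exists_not_mem_center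
  obtain ⟨x₂, hx₂, hx₂Z⟩ := h₂.exists_not_mem_center
  by_cases hx₁P : x₁ ∈ P
  · left
    exact h.good_eq_of_mem hP h₁ hx₁P hx₁ hx₁Z
  by_cases hx₂P : x₂ ∈ P
  · right
    exact h.good_eq_of_mem hP h₂ hx₂P hx₂ hx₂Z
  exfalso
  have h12 : x₁ * x₂ ∈ P :=
    (mul_mem_iff_of_relIndex_two (h.relIndex_good hP).1 (h₁.le hx₁) (h₂.le hx₂)).mpr
      (iff_of_false hx₁P hx₂P)
  have h3 := e _ h12
  have hx₁P₂ : x₁ ∉ P₂ := fun hc => hne (h.good_eq_of_mem h₁ h₂ hx₁ hc hx₁Z)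
  apply hx₂Z
  apply (h.abIdx h₂).mem_center_of_comm (h₁.le hx₁) hx₁P₂ hx₂
  have h4 : x₁ * x₂ = (x₁ * x₂)⁻¹ := eq_inv_of_mul_eq_one_left h3
  have h5 : x₁⁻¹ = x₁ := (eq_inv_of_mul_eq_one_left (e₁ x₁ hx₁)).symm
  have h6 : x₂⁻¹ = x₂ := (eq_inv_of_mul_eq_one_left (e₂ x₂ hx₂)).symm
  rw [mul_inv_rev, h5, h6] at h4
  exact h4.symm

end Cfsg.Agent.Lib.Helper27
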