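import Mathlib
import Cfsg.Agent.Lib.Helper27.CenterIdxTwo

/-!
# Helper27: `|S : Z(S)| = 4`: conjugates of the commutator, the focal subgroup
-/

set_option autoImplicit false

namespace Cfsg.Agent.Lib.Helper27

open Cfsg Cfsg.FusionSystem
open scoped commutatorElement

variable {Ω : Type*} [Group Ω] {S : Subgroup Ω}

/-! ### Products of subgroups -/

/-- the product `N H` of a subgroup `N` and a subgroup `H` normalizing it -/
def prodSubgroup (N H : Subgroup Ω) (hN : ∀ h ∈ H, ∀ n ∈ N, h * n * h⁻¹ ∈ N) : Subgroup Ω where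
  carrier := {x | ∃ n ∈ N, ∃ h ∈ H, x = n * h}
  one_mem' := ⟨1, N.one_mem, 1, H.one_mem, by simp⟩
  mul_mem' := by
    rintro _ _ ⟨n, hn, h, hh, rfl⟩ ⟨n', hn', h', hh', rfl⟩
    exact ⟨n * (h * n' * h⁻¹), N.mul_mem hn (hN h hh n' hn'), h * h', H.mul_mem hh hh', by group⟩
  inv_mem' := by
    rintro _ ⟨n, hn, h, hh, rfl⟩
    exact ⟨h⁻¹ * n⁻¹ * h⁻¹⁻¹, hN h⁻¹ (H.inv_mem hh) n⁻¹ (N.inv_mem hn), h⁻¹, H.inv_mem hh, by group⟩

theorem mem_prodSubgroup {N H : Subgroup Ω} {hN : ∀ h ∈ H, ∀ n ∈ N, h * n * h⁻¹ ∈ N} {x : Ω} :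
    x ∈ prodSubgroup N H hN ↔ ∃ n ∈ N, ∃ h ∈ H, x = n * h := Iff.rfl

theorem le_prodSubgroup_left {N H : Subgroup Ω} {hN : ∀ h ∈ H, ∀ n ∈ N, h * n * h⁻¹ ∈ N} :
    N ≤ prodSubgroup N H hN := fun n hn => ⟨n, hn, 1, H.one_mem, by simp⟩

theorem le_prodSubgroup_right {N H : Subgroup Ω} {hN : ∀ h ∈ H, ∀ n ∈ N, h * n * h⁻¹ ∈ N} :
    H ≤ prodSubgroup N H hN := fun h hh => ⟨1, N.one_mem, h, hh, by simp⟩

/-- the subgroup `⟨w⟩⟨x⟩` for commuting `w`, `x` -/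
def kleinSub (w x : Ω) (hc : w * x = x * w) : Subgroup Ω :=
  prodSubgroup (Subgroup.zpowers w) (Subgroup.zpowers x) (by
    intro h hh n hn
    obtain ⟨k, rfl⟩ := Subgroup.mem_zpowers_iff.mp hh
    obtain ⟨a, rfl⟩ := Subgroup.mem_zpowers_iff.mp hn
    have h1 : Commute (x ^ k) (w ^ a) := ((show Commute w x from hc).symm).zpow_zpow k a
    rw [h1.eq, mul_inv_cancel_right]
    exact Subgroup.zpow_mem _ (Subgroup.mem_zpowers w) a)

theorem mem_kleinSub {w x : Ω} {hc : w * x = x * w} {v : Ω} :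
    v ∈ kleinSub w x hc ↔ ∃ a e : ℤ, v = w ^ a * x ^ e := by
  constructor
  · rintro ⟨n, hn, h, hh, rfl⟩
    obtain ⟨a, rfl⟩ := Subgroup.mem_zpowers_iff.mp hn
    obtain ⟨e, rfl⟩ := Subgroup.mem_zpowers_iff.mp hh
    exact ⟨a, e, rfl⟩
  · rintro ⟨a, e, rfl⟩
    exact ⟨w ^ a, Subgroup.zpow_mem _ (Subgroup.mem_zpowers w) a, x ^ e,
      Subgroup.zpow_mem _ (Subgroup.mem_zpowers x) e, rfl⟩

theorem left_mem_kleinSub {w x : Ω} {hc : w * x = x * w} : w ∈ kleinSub w x hc :=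
  mem_kleinSub.mpr ⟨1, 0, by simp⟩

theorem right_mem_kleinSub {w x : Ω} {hc : w * x = x * w} : x ∈ kleinSub w x hc :=
  mem_kleinSub.mpr ⟨0, 1, by simp⟩

/-! ### `Aut_S(P)` has order two -/

section

variable [Finite S]

theorem CIdx.two_autInducedBy (h : CIdx S 2) {P : Subgroup Ω} (hP : Good S P) {g : Ω} (hg : g ∈ S)
    (hgP : g ∉ P) {τ : MulAut P} (hτ : τ ∈ autInducedBy S P) :
    τ = 1 ∨ τ = conjAutHom S P ⟨g, h.mem_normalizerIn hP hg⟩ := by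
  rw [mem_autInducedBy_iff] at hτ
  obtain ⟨k, hk, hτk⟩ := hτ
  by_cases hkP : k ∈ P
  · left
    apply MulEquiv.ext
    intro x
    apply Subtype.ext
    rw [hτk, MulAut.one_apply, h.good_comm hP k hkP x x.2, mul_inv_cancel_right]
  · right
    apply MulEquiv.ext
    intro x
    apply Subtype.ext
    rw [hτk, conjAutHom_apply]
    have hgi : g⁻¹ ∉ P := fun h' => hgP (by simpa using P.inv_mem h')
    have hu : k * g⁻¹ ∈ P :=
      (mul_mem_iff_of_relIndex_two (h.relIndex_good hP).1 hk (S.inv_mem hg)).mpr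
        (iff_of_false hkP hgi)
    have hcx : g * x * g⁻¹ ∈ P := conj_mem_of_mem_normalizerIn (h.mem_normalizerIn hP hg) x.2
    have e1 : k * x * k⁻¹ = (k * g⁻¹) * (g * x * g⁻¹) * (k * g⁻¹)⁻¹ := by group
    rw [e1, h.good_comm hP _ hu _ hcx, mul_inv_cancel_right]

/-- an image of `w` under `Aut_F(P)` lying in `Z(S)` is `w` -/
theorem CIdx.two_apply_w_eq (h : CIdx S 2) {F : FusionSystem S} (hF : F.IsSaturated 2) {w : Ω}
    (hw : TwoW S w) {P : Subgroup Ω} (hP : Good S P) {β : MulAut P} (hβ : β ∈ F.autGroup P)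
    (hβw : ((β ⟨w, hP.zle (h.commutator_le hw.mem)⟩ : P) : Ω) ∈
      S ⊓ Subgroup.centralizer (S : Set Ω)) :
    β ⟨w, hP.zle (h.commutator_le hw.mem)⟩ = ⟨w, hP.zle (h.commutator_le hw.mem)⟩ := by
  have : Finite P :=
    Finite.of_injective (Subgroup.inclusion hP.le) (Subgroup.inclusion_injective hP.le)
  obtain ⟨g, hg, hgP⟩ := hP.exists_not_mem
  have hd := h.hData_two hw hP hg hgP
  obtain ⟨t, ht⟩ : ∃ t : MulAut P, t = conjAutHom S P ⟨g, h.mem_normalizerIn hP hg⟩ := ⟨_, rfl⟩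
  obtain ⟨wP, hwP⟩ : ∃ wP : P, wP = ⟨w, hP.zle (h.commutator_le hw.mem)⟩ := ⟨_, rfl⟩
  rw [← ht, ← hwP] at hd
  rw [← hwP] at hβw ⊢
  have hfn := h.good_isFullyNormalized hP F
  have hpP : IsPGroup 2 P :=
    h.pg.of_injective (Subgroup.inclusion hP.le) (Subgroup.inclusion_injective hP.le)
  have hnm : ¬ MovesZ S P β⁻¹ := by
    intro hm
    have h1 := (h.moves_apply hF hP hd ((F.autGroup P).inv_mem hβ) hm).2
    rw [inv_inv] at h1
    exact h1 hβw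
  have hnm' : ¬ MovesZ S P β := fun hm => hnm hm.inv
  have hwZ : (wP : Ω) ∈ S ⊓ Subgroup.centralizer (S : Set Ω) := (Subgroup.mem_inf.mp hd.wZ).1
  have hwZB : wP ∈ (S ⊓ Subgroup.centralizer (S : Set Ω)).subgroupOf P :=
    Subgroup.mem_subgroupOf.mpr hwZ
  have h1 : β⁻¹ wP ∈ (S ⊓ Subgroup.centralizer (S : Set Ω)).subgroupOf P :=
    Subgroup.mem_subgroupOf.mpr (not_movesZ hnm wP hwZ)
  obtain ⟨H, hH, htH, hcH⟩ := Transv.isPGroup_pair hpP hwZB hd.trans hd.fix β h1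
  have htG : t ∈ F.autGroup P := autInducedBy_le_autGroup F hP.le hd.mem
  have hcG : β * t * β⁻¹ ∈ F.autGroup P :=
    (F.autGroup P).mul_mem ((F.autGroup P).mul_mem hβ htG) ((F.autGroup P).inv_mem hβ)
  obtain ⟨c₀, hc₀⟩ := exists_conj_isPGroup_mem_autInducedBy h.pg hF hfn
    (H.subgroupOf (F.autGroup P)) hH.comap_subtype
  have e1 := hc₀ ⟨t, htG⟩ (Subgroup.mem_subgroupOf.mpr htH)
  have e2 := hc₀ ⟨β * t * β⁻¹, hcG⟩ (Subgroup.mem_subgroupOf.mpr hcH)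
  obtain ⟨y₀, hy₀, hy₀Z⟩ := hP.exists_not_mem_center
  have hty₀ : t ⟨y₀, hy₀⟩ = ⟨y₀, hy₀⟩ * wP := hd.apply_two hy₀Z
  have ht1 : ∀ σ : MulAut P, σ * t * σ⁻¹ ≠ 1 := by
    intro σ hσ
    have h2 : t = 1 := by
      have h3 := congrArg (fun u => σ⁻¹ * u * σ) hσ
      simpa [mul_assoc] using h3
    rw [h2, MulAut.one_apply] at hty₀
    exact hd.w1 (left_eq_mul.mp hty₀)
  have e1' : (c₀ : MulAut P) * t * (c₀ : MulAut P)⁻¹ = t := by
    rcases h.two_autInducedBy hP hg hgP e1 with h' | h'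
    · exact absurd h' (ht1 _)
    · rw [← ht] at h'; exact h'
  have e2' : (c₀ : MulAut P) * (β * t * β⁻¹) * (c₀ : MulAut P)⁻¹ = t := by
    rcases h.two_autInducedBy hP hg hgP e2 with h' | h'
    · exfalso
      apply ht1 ((c₀ : MulAut P) * β)
      rw [← h']
      show _ = (c₀ : MulAut P) * (β * t * β⁻¹) * (c₀ : MulAut P)⁻¹
      group
    · rw [← ht] at h'; exact h'
  have h2 : β * t * β⁻¹ = t := by
    have h3 : (c₀ : MulAut P) * (β * t * β⁻¹) * (c₀ : MulAut P)⁻¹ =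
        (c₀ : MulAut P) * t * (c₀ : MulAut P)⁻¹ := e2'.trans e1'.symm
    exact mul_left_cancel (mul_right_cancel h3)
  have hβy₀ : ((β ⟨y₀, hy₀⟩ : P) : Ω) ∉ S ⊓ Subgroup.centralizer (S : Set Ω) :=
    not_movesZ_not_mem hnm' hy₀Z
  have h3 : (β * t * β⁻¹) (β ⟨y₀, hy₀⟩) = β ⟨y₀, hy₀⟩ * β wP := by
    show β (t (β⁻¹ (β ⟨y₀, hy₀⟩))) = _
    rw [MulAut.inv_apply_self, hty₀, map_mul]
  have h4 : t (β ⟨y₀, hy₀⟩) = β ⟨y₀, hy₀⟩ * wP := hd.apply_two hβy₀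
  rw [h2, h4] at h3
  exact (mul_left_cancel h3).symm

theorem CIdx.two_conj_aux (h : CIdx S 2) {F : FusionSystem S} (hF : F.IsSaturated 2) {w : Ω}
    (hw : TwoW S w) {P : Subgroup Ω} (hP : Good S P) {σ β : MulAut P} (hσ : σ ∈ F.autGroup P)
    (hβ : β ∈ F.autGroup P) {u : P} (hu : FixZ F P (u : Ω))
    (hβσ : β ⟨w, hP.zle (h.commutator_le hw.mem)⟩ =
      σ ⟨w, hP.zle (h.commutator_le hw.mem)⟩ * u) : u = 1 := by
  have hG : σ⁻¹ * β ∈ F.autGroup P := (F.autGroup P).mul_mem ((F.autGroup P).inv_mem hσ) hβ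
  have e : (σ⁻¹ * β) ⟨w, hP.zle (h.commutator_le hw.mem)⟩ =
      ⟨w, hP.zle (h.commutator_le hw.mem)⟩ * σ⁻¹ u := by
    show σ⁻¹ (β _) = _
    rw [hβσ, map_mul, MulAut.inv_apply_self]
  have hmem : (((σ⁻¹ * β) ⟨w, hP.zle (h.commutator_le hw.mem)⟩ : P) : Ω) ∈
      S ⊓ Subgroup.centralizer (S : Set Ω) := by
    rw [e, Subgroup.coe_mul]
    exact Subgroup.mul_mem _ (h.commutator_le hw.mem) (hu σ⁻¹ ((F.autGroup P).inv_mem hσ) u rfl)
  have h1 := h.two_apply_w_eq hF hw hP hG hmem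
  rw [e] at h1
  have h2 : σ⁻¹ u = 1 := mul_eq_left.mp h1
  have h3 := congrArg σ h2
  rwa [MulAut.apply_inv_self, map_one] at h3

/-- the images of `w` under `Aut_F(P)` are `w`, `γ₁ w` and `γ₁ w * w` -/
theorem CIdx.two_conj_w (h : CIdx S 2) {F : FusionSystem S} (hF : F.IsSaturated 2) {w : Ω}
    (hw : TwoW S w) {P : Subgroup Ω} (hP : Good S P) {γ₁ : MulAut P} (hγ₁ : γ₁ ∈ F.autGroup P)
    (hm₁ : MovesZ S P γ₁) {β : MulAut P} (hβ : β ∈ F.autGroup P) :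
    β ⟨w, hP.zle (h.commutator_le hw.mem)⟩ = ⟨w, hP.zle (h.commutator_le hw.mem)⟩ ∨
    β ⟨w, hP.zle (h.commutator_le hw.mem)⟩ = γ₁ ⟨w, hP.zle (h.commutator_le hw.mem)⟩ ∨
    β ⟨w, hP.zle (h.commutator_le hw.mem)⟩ =
      γ₁ ⟨w, hP.zle (h.commutator_le hw.mem)⟩ * ⟨w, hP.zle (h.commutator_le hw.mem)⟩ := by
  have : Finite P :=
    Finite.of_injective (Subgroup.inclusion hP.le) (Subgroup.inclusion_injective hP.le)
  obtain ⟨g, hg, hgP⟩ := hP.exists_not_mem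
  have hd := h.hData_two hw hP hg hgP
  obtain ⟨t, ht⟩ : ∃ t : MulAut P, t = conjAutHom S P ⟨g, h.mem_normalizerIn hP hg⟩ := ⟨_, rfl⟩
  obtain ⟨wP, hwP⟩ : ∃ wP : P, wP = ⟨w, hP.zle (h.commutator_le hw.mem)⟩ := ⟨_, rfl⟩
  rw [← ht] at hd
  have hwsq : wP * wP = 1 := by rw [hwP]; exact Subtype.ext hw.sq
  have hcomm : ∀ a b : P, a * b = b * a := hd.comm
  by_cases hm : MovesZ S P β
  · right
    have hx₁ := (h.moves_apply hF hP hd hγ₁ hm₁).1
    have hβw := (h.moves_apply hF hP hd hβ hm).1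
    have hx₁sq : γ₁ ⟨w, hP.zle (h.commutator_le hw.mem)⟩ * γ₁ ⟨w, hP.zle (h.commutator_le hw.mem)⟩ = 1 := by
      rw [← map_mul, ← hwP, hwsq, map_one]
    have hz : ((γ₁ ⟨w, hP.zle (h.commutator_le hw.mem)⟩ * β ⟨w, hP.zle (h.commutator_le hw.mem)⟩ : P) : Ω) ∈
        S ⊓ Subgroup.centralizer (S : Set Ω) := by
      rw [Subgroup.coe_mul]
      exact (mul_mem_iff_of_relIndex_two (h.relIndex_good hP).2 (γ₁ _).2 (β _).2).mpr
        (iff_of_false hx₁ hβw)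
    have hβeq : β ⟨w, hP.zle (h.commutator_le hw.mem)⟩ = γ₁ ⟨w, hP.zle (h.commutator_le hw.mem)⟩ *
        (γ₁ ⟨w, hP.zle (h.commutator_le hw.mem)⟩ * β ⟨w, hP.zle (h.commutator_le hw.mem)⟩) := by
      rw [← mul_assoc, hx₁sq, one_mul]
    rcases h.two_fix_or hF hw hP hγ₁ hm₁ hz with hfix | hfix
    · left
      have h1 := h.two_conj_aux hF hw hP hγ₁ hβ hfix hβeq
      rw [h1, mul_one] at hβeq
      exact hβeq
    · right
      have htG : t ∈ F.autGroup P := autInducedBy_le_autGroup F hP.le hd.mem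
      have hσG : t * γ₁ ∈ F.autGroup P := (F.autGroup P).mul_mem htG hγ₁
      have hσw : (t * γ₁) ⟨w, hP.zle (h.commutator_le hw.mem)⟩ =
          γ₁ ⟨w, hP.zle (h.commutator_le hw.mem)⟩ * wP := by
        show t (γ₁ _) = _
        rw [hd.apply_two hx₁, hwP]
      have hfix' : FixZ F P (((γ₁ ⟨w, hP.zle (h.commutator_le hw.mem)⟩ *
          β ⟨w, hP.zle (h.commutator_le hw.mem)⟩ * wP : P)) : Ω) := by
        rw [Subgroup.coe_mul, hwP]
        exact hfix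
      have hβeq' : β ⟨w, hP.zle (h.commutator_le hw.mem)⟩ =
          (t * γ₁) ⟨w, hP.zle (h.commutator_le hw.mem)⟩ *
          (γ₁ ⟨w, hP.zle (h.commutator_le hw.mem)⟩ * β ⟨w, hP.zle (h.commutator_le hw.mem)⟩ * wP) := by
        rw [hσw]
        have e1 : γ₁ ⟨w, hP.zle (h.commutator_le hw.mem)⟩ * wP *
            (γ₁ ⟨w, hP.zle (h.commutator_le hw.mem)⟩ * β ⟨w, hP.zle (h.commutator_le hw.mem)⟩ * wP) =
            γ₁ ⟨w, hP.zle (h.commutator_le hw.mem)⟩ *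
            (γ₁ ⟨w, hP.zle (h.commutator_le hw.mem)⟩ * β ⟨w, hP.zle (h.commutator_le hw.mem)⟩) *
            (wP * wP) := by
          rw [Transv.mul4' hcomm]
        rw [e1, hwsq, mul_one]
        exact hβeq
      have h1 := h.two_conj_aux hF hw hP hσG hβ hfix' hβeq'
      -- `γ₁ w * β w * w = 1`
      have h2 : γ₁ ⟨w, hP.zle (h.commutator_le hw.mem)⟩ * β ⟨w, hP.zle (h.commutator_le hw.mem)⟩ =
          wP := by
        have h3 := congrArg (fun u => u * wP) h1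
        simp only [one_mul] at h3
        rw [mul_assoc, hwsq, mul_one] at h3
        exact h3
      rw [h2, ← hwP] at hβeq
      rw [← hwP]
      exact hβeq
  · left
    have hwZ := h.commutator_le hw.mem
    exact h.two_apply_w_eq hF hw hP hβ (not_movesZ hm _ hwZ)

end

/-! ### The hyperfocal subgroup -/

theorem hyperfocal_le_of_aut [Finite S] {p : ℕ} [Fact p.Prime] (hS : IsPGroup p S)
    {F : FusionSystem S} (hF : F.IsSaturated p) (K : Subgroup Ω)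
    (hK : (commutator ↥S).map S.subtype ≤ K)
    (hinv : ∀ Q : Subgroup Ω, (Q = S ∨ F.IsEssential p Q) → ∀ α ∈ F.autGroup Q, ∀ y : Q,
      (y : Ω)⁻¹ * ((α y : Q) : Ω) ∈ K) : F.hyperfocalSubgroup p ≤ K := by
  let E : FusionSystem S :=
    { Hom := fun P => {φ | φ ∈ F.Hom P ∧ ∀ x : P, (x : Ω)⁻¹ * φ x ∈ K}
      le_of_mem := fun h => F.le_of_mem h.1
      injective_of_mem := fun h => F.injective_of_mem h.1
      conj_mem := by
        intro P g hP hg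
        refine ⟨F.conj_mem hP hg, fun x => ?_⟩
        show (x : Ω)⁻¹ * (g * (x : Ω) * g⁻¹) ∈ K
        apply hK
        refine ⟨⁅(⟨(x : Ω)⁻¹, S.inv_mem (hP x.2)⟩ : S), ⟨g, hg⟩⁆, ?_, ?_⟩
        · rw [commutator_def]
          exact Subgroup.commutator_mem_commutator (Subgroup.mem_top _) (Subgroup.mem_top _)
        · simp [commutatorElement_def, mul_assoc]
      comp_mem := by
        intro P Q φ ψ hφ hψ h
        refine ⟨F.comp_mem hφ.1 hψ.1 h, fun x => ?_⟩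
        show (x : Ω)⁻¹ * ψ (φ.codRestrict Q h x) ∈ K
        have h1 := hφ.2 x
        have h2 : (φ x)⁻¹ * ψ (φ.codRestrict Q h x) ∈ K := hψ.2 (φ.codRestrict Q h x)
        have e1 : (x : Ω)⁻¹ * ψ (φ.codRestrict Q h x) =
            ((x : Ω)⁻¹ * φ x) * ((φ x)⁻¹ * ψ (φ.codRestrict Q h x)) := by group
        rw [e1]
        exact K.mul_mem h1 h2
      inv_mem := by
        intro P φ hφ
        obtain ⟨ψ, hψ, hψφ⟩ := F.inv_mem hφ.1
        refine ⟨ψ, ⟨hψ, ?_⟩, hψφ⟩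
        rintro ⟨_, x, rfl⟩
        rw [hψφ x]
        have h1 := K.inv_mem (hφ.2 x)
        rw [mul_inv_rev, inv_inv] at h1
        exact h1 }
  have hle : F ≤ E := by
    apply Cfsg.Agent.S5082.result p hS F hF E
    intro P hP α hα
    have hPS : P ≤ S := by
      rcases hP with h | h
      · rw [h]
      · exact h.1.1
    rw [mem_autGroup_iff E hPS]
    exact ⟨(mem_autGroup_iff F hPS α).mp hα, fun x => hinv P hP α hα x⟩
  unfold hyperfocalSubgroup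
  rw [Subgroup.closure_le]
  rintro y ⟨P, α, x, hP, -, rfl⟩
  have hα' := (mem_autGroup_iff F hP (α : MulAut P)).mp α.2
  exact (hle P hα').2 x

end Cfsg.Agent.Lib.Helper27
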