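import Mathlib
import Cfsg.Agent.Lib.Helper27.CenterIdxTwoB

/-!
# Helper27: `|S : Z(S)| = 4`, `O_2(F) = 1`, `hyp(F) = S`: the centre has order two
-/

set_option autoImplicit false

namespace Cfsg.Agent.Lib.Helper27

open Cfsg Cfsg.FusionSystem
open scoped commutatorElement

variable {Ω : Type*} [Group Ω] {S : Subgroup Ω}

theorem kleinSub_le {w x : Ω} {hc : w * x = x * w} {T : Subgroup Ω} (hw : w ∈ T) (hx : x ∈ T) :
    kleinSub w x hc ≤ T := by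
  intro v hv
  obtain ⟨a, e, rfl⟩ := mem_kleinSub.mp hv
  exact T.mul_mem (T.zpow_mem hw a) (T.zpow_mem hx e)

theorem mem_kleinSub_cases {w x : Ω} {hc : w * x = x * w} (hww : w * w = 1) (hxx : x * x = 1)
    {v : Ω} (hv : v ∈ kleinSub w x hc) : v = 1 ∨ v = w ∨ v = x ∨ v = w * x := by
  obtain ⟨a, e, rfl⟩ := mem_kleinSub.mp hv
  rcases zpow_cases_of_sq hww a with h1 | h1 <;> rcases zpow_cases_of_sq hxx e with h2 | h2 <;>
    rw [h1, h2]
  · left; rw [mul_one]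
  · right; right; left; rw [one_mul]
  · right; left; rw [mul_one]
  · right; right; right; rfl

theorem aut_commutator_mem (β : S ≃* S) (s : S) (hs : (s : Ω) ∈ (commutator ↥S).map S.subtype) :
    ((β s : S) : Ω) ∈ (commutator ↥S).map S.subtype := by
  obtain ⟨s', hs', hs's⟩ := hs
  have hs'eq : s' = s := Subtype.ext hs's
  rw [hs'eq] at hs'
  have hchar : (commutator ↥S).Characteristic := by
    rw [commutator_def]; infer_instance
  have h1 : s ∈ (commutator ↥S).comap β.toMonoidHom := by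
    rw [hchar.fixed]; exact hs'
  exact ⟨β s, h1, rfl⟩

section

variable [Finite S]

theorem CIdx.kleinSub_conj_mem (h : CIdx S 2) {w : Ω} (hw : TwoW S w) {x : Ω} (hxS : x ∈ S)
    {hc : w * x = x * w} {s : Ω} (hs : s ∈ S) {n : Ω} (hn : n ∈ kleinSub w x hc) :
    s * n * s⁻¹ ∈ kleinSub w x hc := by
  have hwZ := h.commutator_le hw.mem
  obtain ⟨a, e, rfl⟩ := mem_kleinSub.mp hn
  have e1 : s * (w ^ a * x ^ e) * s⁻¹ = (s * w ^ a * s⁻¹) * (s * x * s⁻¹) ^ e := by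
    rw [conj_zpow]; group
  rw [e1]
  have hwa : w ^ a ∈ S ⊓ Subgroup.centralizer (S : Set Ω) := Subgroup.zpow_mem _ hwZ a
  have e2 : s * w ^ a * s⁻¹ = w ^ a := by
    rw [center_commute hwa hs, mul_inv_cancel_right]
  rw [e2]
  refine Subgroup.mul_mem _ (Subgroup.zpow_mem _ left_mem_kleinSub a) (Subgroup.zpow_mem _ ?_ e)
  have hd := h.comm_mem hs hxS
  have e3 : s * x * s⁻¹ = (s * x * s⁻¹ * x⁻¹) * x := by group
  rw [e3]
  rcases hw.all _ hd with h1 | h1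
  · rw [h1, one_mul]; exact right_mem_kleinSub
  · rw [h1]; exact Subgroup.mul_mem _ left_mem_kleinSub right_mem_kleinSub

/-- local control of the focal subgroup at an active good subgroup -/
theorem CIdx.two_local (h : CIdx S 2) {F : FusionSystem S} (hF : F.IsSaturated 2) {w : Ω}
    (hw : TwoW S w) {P : Subgroup Ω} (hP : Good S P) {γ₁ : MulAut P} (hγ₁ : γ₁ ∈ F.autGroup P)
    (hm₁ : MovesZ S P γ₁) {c : Ω} (hc : c ∈ S ⊓ Subgroup.centralizer (S : Set Ω))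
    (hcc : c * c = 1) (hfix : FixZ F P c)
    (hZ4 : ∀ z ∈ S ⊓ Subgroup.centralizer (S : Set Ω), z = 1 ∨ z = c ∨ z = w ∨ z = c * w)
    (K : Subgroup Ω) (hwK : w ∈ K)
    (hxK : ((γ₁ ⟨w, hP.zle (h.commutator_le hw.mem)⟩ : P) : Ω) ∈ K) :
    (∀ β ∈ F.autGroup P, ((β ⟨w, hP.zle (h.commutator_le hw.mem)⟩ : P) : Ω) ∈ K) ∧
    ∀ β ∈ F.autGroup P, ∀ y : P, (y : Ω)⁻¹ * ((β y : P) : Ω) ∈ K := by
  have hwZ := h.commutator_le hw.mem
  have hcomm : ∀ a b : P, a * b = b * a :=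
    fun a b => Subtype.ext (h.good_comm hP a.1 a.2 b.1 b.2)
  have hconj : ∀ β' ∈ F.autGroup P, ((β' ⟨w, hP.zle hwZ⟩ : P) : Ω) ∈ K := by
    intro β' hβ'
    rcases h.two_conj_w hF hw hP hγ₁ hm₁ hβ' with e | e | e
    · rw [e]; exact hwK
    · rw [e]; exact hxK
    · rw [e, Subgroup.coe_mul]; exact K.mul_mem hxK hwK
  refine ⟨hconj, ?_⟩
  intro β hβ y
  obtain ⟨g, hg, hgP⟩ := hP.exists_not_mem
  have hd := h.hData_two hw hP hg hgP
  -- `β c = c`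
  have hβc : β ⟨c, hP.zle hc⟩ = ⟨c, hP.zle hc⟩ := by
    have hu := hfix β hβ ⟨c, hP.zle hc⟩ rfl
    have hfu := hfix.apply hβ ⟨c, hP.zle hc⟩ rfl
    rcases hZ4 _ hu with e | e | e | e
    · have h1 : β ⟨c, hP.zle hc⟩ = 1 := Subtype.ext e
      have h2 : (⟨c, hP.zle hc⟩ : P) = 1 := by
        have h3 := congrArg (fun u => β⁻¹ u) h1
        simpa using h3
      rw [h2, map_one]
    · exact Subtype.ext e
    · exfalso
      rw [e] at hfu
      exact h.two_not_fix_w hF hw hP hγ₁ hm₁ hfu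
    · exfalso
      rw [e] at hfu
      have h1 := hfix.mul hfu (hP.zle hc)
      rw [← mul_assoc, hcc, one_mul] at h1
      exact h.two_not_fix_w hF hw hP hγ₁ hm₁ h1
  -- the homomorphism `y ↦ y⁻¹ β(y)`
  have hfz : ∀ z (hz : z ∈ S ⊓ Subgroup.centralizer (S : Set Ω)),
      Transv.comm1 hcomm β ⟨z, hP.zle hz⟩ ∈ K.subgroupOf P := by
    have hfc : Transv.comm1 hcomm β ⟨c, hP.zle hc⟩ ∈ K.subgroupOf P := by
      rw [Transv.comm1_apply, hβc, inv_mul_cancel]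
      exact Subgroup.one_mem _
    have hfw : Transv.comm1 hcomm β ⟨w, hP.zle hwZ⟩ ∈ K.subgroupOf P := by
      rw [Transv.comm1_apply, Subgroup.mem_subgroupOf, Subgroup.coe_mul, Subgroup.coe_inv]
      exact K.mul_mem (K.inv_mem hwK) (hconj β hβ)
    intro z hz
    rcases hZ4 z hz with e | e | e | e
    · have h1 : (⟨z, hP.zle hz⟩ : P) = 1 := Subtype.ext e
      rw [h1, map_one]
      exact Subgroup.one_mem _
    · have h1 : (⟨z, hP.zle hz⟩ : P) = ⟨c, hP.zle hc⟩ := Subtype.ext e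
      rw [h1]; exact hfc
    · have h1 : (⟨z, hP.zle hz⟩ : P) = ⟨w, hP.zle hwZ⟩ := Subtype.ext e
      rw [h1]; exact hfw
    · have h1 : (⟨z, hP.zle hz⟩ : P) = ⟨c, hP.zle hc⟩ * ⟨w, hP.zle hwZ⟩ := Subtype.ext e
      rw [h1, map_mul]
      exact Subgroup.mul_mem _ hfc hfw
  have hfu : Transv.comm1 hcomm β (γ₁ ⟨w, hP.zle hwZ⟩) ∈ K.subgroupOf P := by
    rw [Transv.comm1_apply, Subgroup.mem_subgroupOf, Subgroup.coe_mul, Subgroup.coe_inv]
    exact K.mul_mem (K.inv_mem hxK) (hconj (β * γ₁) ((F.autGroup P).mul_mem hβ hγ₁))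
  obtain ⟨z, hz, k, hk⟩ := h.moves_dec hF hP hd hγ₁ hm₁ y
  have hy : y = ⟨z, hP.zle hz⟩ * (γ₁ ⟨w, hP.zle hwZ⟩) ^ k := by
    apply Subtype.ext
    rw [Subgroup.coe_mul, Subgroup.coe_zpow]
    exact hk
  have h1 : Transv.comm1 hcomm β y ∈ K.subgroupOf P := by
    rw [hy, map_mul, map_zpow]
    exact Subgroup.mul_mem _ (hfz z hz) (Subgroup.zpow_mem _ hfu k)
  rw [Transv.comm1_apply, Subgroup.mem_subgroupOf, Subgroup.coe_mul, Subgroup.coe_inv] at h1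
  exact h1

/-- automorphisms of `S` in `F` map the conjugates of `w` into any subgroup containing the
conjugates of `w` under the automizers of the two active subgroups -/
theorem CIdx.two_aut_apply_mem (h : CIdx S 2) {F : FusionSystem S} {w : Ω} (hw : TwoW S w)
    {P₁ P₂ : Subgroup Ω} (h₁ : Good S P₁) (h₂ : Good S P₂) (hne : P₁ ≠ P₂)
    (e₁ : ∀ x ∈ P₁, x * x = 1) (e₂ : ∀ x ∈ P₂, x * x = 1) {K : Subgroup Ω}
    (hK₁ : ∀ β ∈ F.autGroup P₁, ((β ⟨w, h₁.zle (h.commutator_le hw.mem)⟩ : P₁) : Ω) ∈ K)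
    (hK₂ : ∀ β ∈ F.autGroup P₂, ((β ⟨w, h₂.zle (h.commutator_le hw.mem)⟩ : P₂) : Ω) ∈ K)
    {α : S ≃* S} (hα : IsIso F α)
    (hαw : ((α ⟨w, (Subgroup.mem_inf.mp (h.commutator_le hw.mem)).1⟩ : S) : Ω) = w)
    {γ : MulAut P₁} (hγ : γ ∈ F.autGroup P₁) :
    ((α ⟨((γ ⟨w, h₁.zle (h.commutator_le hw.mem)⟩ : P₁) : Ω), h₁.le (γ _).2⟩ : S) : Ω) ∈ K := by
  have hwZ := h.commutator_le hw.mem
  obtain ⟨P', e, he, hex⟩ := exists_transport hα h₁.le
  have hP'S : P' ≤ S := he.le_right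
  have hP' : Good S P' := h₁.transport hP'S hex
  have eP' : ∀ x ∈ P', x * x = 1 := by
    intro x hx
    have h1 : e.symm ⟨x, hx⟩ * e.symm ⟨x, hx⟩ = 1 := Subtype.ext (e₁ _ (e.symm ⟨x, hx⟩).2)
    have h2 := congrArg e h1
    rw [map_mul, MulEquiv.apply_symm_apply, map_one] at h2
    exact congrArg Subtype.val h2
  have hγ' : (MulAut.congr e γ : MulAut P') ∈ F.autGroup P' := by
    rw [mem_autGroup_iff F hP'S]
    exact (isIso_congr he γ).mpr ((mem_autGroup_iff F h₁.le γ).mp hγ)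
  have hew : e ⟨w, h₁.zle hwZ⟩ = ⟨w, hP'.zle hwZ⟩ := by
    apply Subtype.ext
    rw [hex]
    exact hαw
  have h3 : (MulAut.congr e γ : MulAut P') ⟨w, hP'.zle hwZ⟩ = e (γ ⟨w, h₁.zle hwZ⟩) := by
    rw [← hew]
    simp [MulAut.congr]
  have h4 : ((α ⟨((γ ⟨w, h₁.zle hwZ⟩ : P₁) : Ω), h₁.le (γ _).2⟩ : S) : Ω) =
      (((MulAut.congr e γ : MulAut P') ⟨w, hP'.zle hwZ⟩ : P') : Ω) := by
    rw [h3, hex]
  rw [h4]
  rcases h.two_third h₁ h₂ hP' hne e₁ e₂ eP' with hPe | hPe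
  · subst hPe
    exact hK₁ _ hγ'
  · subst hPe
    exact hK₂ _ hγ'

/-- the configuration with two active subgroups and a centre of order four contradicts
`hyp(F) = S` -/
theorem CIdx.two_bad_false (h : CIdx S 2) {F : FusionSystem S} (hF : F.IsSaturated 2)
    (hcore : F.core = ⊥) (hhyp : F.hyperfocalSubgroup 2 = S) {w : Ω} (hw : TwoW S w)
    {P₁ P₂ : Subgroup Ω} (h₁ : Good S P₁) (h₂ : Good S P₂) (hne : P₁ ≠ P₂)
    {γ₁ : MulAut P₁} (hγ₁ : γ₁ ∈ F.autGroup P₁) (hm₁ : MovesZ S P₁ γ₁)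
    {γ₂ : MulAut P₂} (hγ₂ : γ₂ ∈ F.autGroup P₂) (hm₂ : MovesZ S P₂ γ₂)
    {c : Ω} (hc : c ∈ S ⊓ Subgroup.centralizer (S : Set Ω)) (hc1 : c ≠ 1) (hcw : c ≠ w)
    (hfix₁ : FixZ F P₁ c) (hfix₂ : FixZ F P₂ (c * w))
    (hZ4 : ∀ z ∈ S ⊓ Subgroup.centralizer (S : Set Ω), z = 1 ∨ z = c ∨ z = w ∨ z = c * w) :
    False := by
  have hwZ := h.commutator_le hw.mem
  have hwS : w ∈ S := (Subgroup.mem_inf.mp hwZ).1
  have hcS : c ∈ S := (Subgroup.mem_inf.mp hc).1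
  have hZsq := h.two_center_sq hF hcore hw
  have e₁ := h.two_active_sq hF hcore hw h₁ hγ₁ hm₁
  have e₂ := h.two_active_sq hF hcore hw h₂ hγ₂ hm₂
  obtain ⟨g₁, hg₁, hg₁P⟩ := h₁.exists_not_mem
  have hd₁ := h.hData_two hw h₁ hg₁ hg₁P
  obtain ⟨g₂, hg₂, hg₂P⟩ := h₂.exists_not_mem
  have hd₂ := h.hData_two hw h₂ hg₂ hg₂P
  obtain ⟨x₁, hx₁⟩ : ∃ x₁ : Ω, x₁ = ((γ₁ ⟨w, h₁.zle hwZ⟩ : P₁) : Ω) := ⟨_, rfl⟩
  obtain ⟨x₂, hx₂⟩ : ∃ x₂ : Ω, x₂ = ((γ₂ ⟨w, h₂.zle hwZ⟩ : P₂) : Ω) := ⟨_, rfl⟩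
  have hx₁P : x₁ ∈ P₁ := by rw [hx₁]; exact (γ₁ _).2
  have hx₂P : x₂ ∈ P₂ := by rw [hx₂]; exact (γ₂ _).2
  have hx₁Z : x₁ ∉ S ⊓ Subgroup.centralizer (S : Set Ω) := by
    rw [hx₁]; exact (h.moves_apply hF h₁ hd₁ hγ₁ hm₁).1
  have hx₂Z : x₂ ∉ S ⊓ Subgroup.centralizer (S : Set Ω) := by
    rw [hx₂]; exact (h.moves_apply hF h₂ hd₂ hγ₂ hm₂).1
  have hx₁S := h₁.le hx₁P
  have hx₂S := h₂.le hx₂P
  have hc₁ : w * x₁ = x₁ * w := (center_commute hwZ hx₁S).symm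
  have hc₂ : w * x₂ = x₂ * w := (center_commute hwZ hx₂S).symm
  have hx₂P₁ : x₂ ∉ P₁ := fun hcon => hne (h.good_eq_of_mem h₁ h₂ hcon hx₂P hx₂Z)
  have hK₂S : kleinSub w x₂ hc₂ ≤ S := kleinSub_le hwS hx₂S
  have hN : ∀ k ∈ kleinSub w x₂ hc₂, ∀ n ∈ kleinSub w x₁ hc₁, k * n * k⁻¹ ∈ kleinSub w x₁ hc₁ :=
    fun k hk n hn => h.kleinSub_conj_mem hw hx₁S (hK₂S hk) hn
  obtain ⟨K, hKdef⟩ : ∃ K : Subgroup Ω,
      K = prodSubgroup (kleinSub w x₁ hc₁) (kleinSub w x₂ hc₂) hN := ⟨_, rfl⟩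
  have hK₁K : kleinSub w x₁ hc₁ ≤ K := by rw [hKdef]; exact le_prodSubgroup_left
  have hK₂K : kleinSub w x₂ hc₂ ≤ K := by rw [hKdef]; exact le_prodSubgroup_right
  have hwK : w ∈ K := hK₁K left_mem_kleinSub
  have hx₁K : x₁ ∈ K := hK₁K right_mem_kleinSub
  have hx₂K : x₂ ∈ K := hK₂K right_mem_kleinSub
  -- `c ∉ K`
  have hcK : c ∉ K := by
    intro hcon
    rw [hKdef] at hcon
    obtain ⟨n, hn, k, hk, hcnk⟩ := mem_prodSubgroup.mp hcon
    have hnP₁ : n ∈ P₁ := kleinSub_le (h₁.zle hwZ) hx₁P hn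
    have hkP₂ : k ∈ P₂ := kleinSub_le (h₂.zle hwZ) hx₂P hk
    have hkZ : k ∈ S ⊓ Subgroup.centralizer (S : Set Ω) := by
      rw [← h.good_inf h₁ h₂ hne]
      refine Subgroup.mem_inf.mpr ⟨?_, hkP₂⟩
      have : k = n⁻¹ * c := by rw [hcnk, inv_mul_cancel_left]
      rw [this]
      exact P₁.mul_mem (P₁.inv_mem hnP₁) (h₁.zle hc)
    have hnZ : n ∈ S ⊓ Subgroup.centralizer (S : Set Ω) := by
      have : n = c * k⁻¹ := by rw [hcnk, mul_inv_cancel_right]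
      rw [this]
      exact Subgroup.mul_mem _ hc (Subgroup.inv_mem _ hkZ)
    have hk2 : k = 1 ∨ k = w := by
      rcases mem_kleinSub_cases hw.sq (e₂ x₂ hx₂P) hk with e | e | e | e
      · left; exact e
      · right; exact e
      · exfalso; rw [e] at hkZ; exact hx₂Z hkZ
      · exfalso
        apply hx₂Z
        have : x₂ = w⁻¹ * k := by rw [e, inv_mul_cancel_left]
        rw [this]
        exact Subgroup.mul_mem _ (Subgroup.inv_mem _ hwZ) hkZ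
    have hn2 : n = 1 ∨ n = w := by
      rcases mem_kleinSub_cases hw.sq (e₁ x₁ hx₁P) hn with e | e | e | e
      · left; exact e
      · right; exact e
      · exfalso; rw [e] at hnZ; exact hx₁Z hnZ
      · exfalso
        apply hx₁Z
        have : x₁ = w⁻¹ * n := by rw [e, inv_mul_cancel_left]
        rw [this]
        exact Subgroup.mul_mem _ (Subgroup.inv_mem _ hwZ) hnZ
    rcases hn2 with e | e <;> rcases hk2 with e' | e' <;> rw [e, e'] at hcnk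
    · exact hc1 (by rw [hcnk, mul_one])
    · exact hcw (by rw [hcnk, one_mul])
    · exact hcw (by rw [hcnk, mul_one])
    · exact hc1 (by rw [hcnk, hw.sq])
  -- local control
  have hcc : c * c = 1 := hZsq c hc
  obtain ⟨hL₁w, hL₁⟩ := h.two_local hF hw h₁ hγ₁ hm₁ hc hcc hfix₁ hZ4 K hwK (by rw [← hx₁]; exact hx₁K)
  have hcwZ : c * w ∈ S ⊓ Subgroup.centralizer (S : Set Ω) := Subgroup.mul_mem _ hc hwZ
  have hcomm_cw : c * w = w * c := center_commute hwZ hcS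
  have hcww : c * w * w = c := by rw [mul_assoc, hw.sq, mul_one]
  have hZ4' : ∀ z ∈ S ⊓ Subgroup.centralizer (S : Set Ω),
      z = 1 ∨ z = c * w ∨ z = w ∨ z = c * w * w := by
    intro z hz
    rcases hZ4 z hz with e | e | e | e
    · left; exact e
    · right; right; right; rw [hcww]; exact e
    · right; right; left; exact e
    · right; left; exact e
  obtain ⟨hL₂w, hL₂⟩ := h.two_local hF hw h₂ hγ₂ hm₂ hcwZ (hZsq _ hcwZ) hfix₂ hZ4' K hwK
    (by rw [← hx₂]; exact hx₂K)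
  -- the hyperfocal subgroup lies in `K`
  have hKS' : (commutator ↥S).map S.subtype ≤ K := by
    intro d hd
    rcases hw.all d hd with e | e
    · rw [e]; exact K.one_mem
    · rw [e]; exact hwK
  have hle : F.hyperfocalSubgroup 2 ≤ K := by
    apply hyperfocal_le_of_aut h.pg hF K hKS'
    intro Q hQ α hα y
    rcases hQ with hQ | hQ
    · subst hQ
      have hαI : IsIso F (α : Q ≃* Q) := (mem_autGroup_iff F le_rfl α).mp hα
      -- `α w = w`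
      have hαw : ((α ⟨w, hwS⟩ : Q) : Ω) = w := by
        rcases hw.all _ (aut_commutator_mem α ⟨w, hwS⟩ hw.mem) with e | e
        · exfalso
          have h1 : α ⟨w, hwS⟩ = 1 := Subtype.ext e
          have h2 : (⟨w, hwS⟩ : Q) = 1 := by
            have h3 := congrArg (fun u => α⁻¹ u) h1
            simpa using h3
          exact hw.ne (congrArg Subtype.val h2)
        · exact e
      -- central elements
      have hαc : ((α ⟨c, hcS⟩ : Q) : Ω) = c ∨ ((α ⟨c, hcS⟩ : Q) : Ω) = c * w := by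
        rcases hZ4 _ (center_aut_mem α ⟨c, hcS⟩ hc) with e | e | e | e
        · exfalso
          have h1 : α ⟨c, hcS⟩ = 1 := Subtype.ext e
          have h2 : (⟨c, hcS⟩ : Q) = 1 := by
            have h3 := congrArg (fun u => α⁻¹ u) h1
            simpa using h3
          exact hc1 (congrArg Subtype.val h2)
        · left; exact e
        · exfalso
          have h1 : α ⟨c, hcS⟩ = α ⟨w, hwS⟩ := Subtype.ext (e.trans hαw.symm)
          have h2 := (α : Q ≃* Q).injective h1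
          exact hcw (congrArg Subtype.val h2)
        · right; exact e
      have hαz : ∀ z : Q, (z : Ω) ∈ Q ⊓ Subgroup.centralizer (Q : Set Ω) →
          (z : Ω)⁻¹ * ((α z : Q) : Ω) ∈ K := by
        intro z hz
        rcases hZ4 z hz with e | e | e | e
        · have h1 : z = 1 := Subtype.ext e
          rw [h1, map_one]
          simp
        · have h1 : z = ⟨c, hcS⟩ := Subtype.ext e
          rw [h1]
          rcases hαc with e' | e'
          · rw [e']; simp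
          · rw [e']; simp only [inv_mul_cancel_left]; exact hwK
        · have h1 : z = ⟨w, hwS⟩ := Subtype.ext e
          rw [h1, hαw]
          simp
        · have h1 : z = ⟨c, hcS⟩ * ⟨w, hwS⟩ := Subtype.ext e
          rw [h1, map_mul, Subgroup.coe_mul, Subgroup.coe_mul, hαw]
          rcases hαc with e' | e'
          · rw [e']; simp
          · rw [e']
            have : (c * w)⁻¹ * (c * w * w) = w := by group
            rw [this]; exact hwK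
      -- the generators
      have hαx₁ : ((α ⟨x₁, hx₁S⟩ : Q) : Ω) ∈ K := by
        have := h.two_aut_apply_mem hw h₁ h₂ hne e₁ e₂ hL₁w hL₂w hαI hαw hγ₁
        have e : (⟨x₁, hx₁S⟩ : Q) = ⟨((γ₁ ⟨w, h₁.zle hwZ⟩ : P₁) : Ω), h₁.le (γ₁ _).2⟩ :=
          Subtype.ext hx₁
        rw [e]; exact this
      have hαx₂ : ((α ⟨x₂, hx₂S⟩ : Q) : Ω) ∈ K := by
        have := h.two_aut_apply_mem hw h₂ h₁ hne.symm e₂ e₁ hL₂w hL₁w hαI hαw hγ₂
        have e : (⟨x₂, hx₂S⟩ : Q) = ⟨((γ₂ ⟨w, h₂.zle hwZ⟩ : P₂) : Ω), h₂.le (γ₂ _).2⟩ :=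
          Subtype.ext hx₂
        rw [e]; exact this
      -- normal form
      obtain ⟨a, ha, f, hyf⟩ := (h.abIdx h₁).dec x₂ hx₂S hx₂P₁ y y.2
      obtain ⟨z, hz, e, hae⟩ := h.good_dec h₁ hx₁P hx₁Z ha
      have hzS : z ∈ Q := (Subgroup.mem_inf.mp hz).1
      have hy : y = ⟨z, hzS⟩ * (⟨x₁, hx₁S⟩ : Q) ^ e * (⟨x₂, hx₂S⟩ : Q) ^ f := by
        apply Subtype.ext
        rw [Subgroup.coe_mul, Subgroup.coe_mul, Subgroup.coe_zpow, Subgroup.coe_zpow, hyf, hae]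
      rw [hy, map_mul, map_mul, map_zpow, map_zpow]
      simp only [Subgroup.coe_mul, Subgroup.coe_zpow]
      have e9 : (z * x₁ ^ e * x₂ ^ f)⁻¹ * (((α ⟨z, hzS⟩ : Q) : Ω) *
          ((α ⟨x₁, hx₁S⟩ : Q) : Ω) ^ e * ((α ⟨x₂, hx₂S⟩ : Q) : Ω) ^ f) =
          (x₂ ^ f)⁻¹ * ((x₁ ^ e)⁻¹ * ((z⁻¹ * ((α ⟨z, hzS⟩ : Q) : Ω)) *
          (((α ⟨x₁, hx₁S⟩ : Q) : Ω) ^ e * ((α ⟨x₂, hx₂S⟩ : Q) : Ω) ^ f))) := by group
      rw [e9]
      exact K.mul_mem (K.inv_mem (K.zpow_mem hx₂K f)) (K.mul_mem (K.inv_mem (K.zpow_mem hx₁K e))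
        (K.mul_mem (hαz ⟨z, hzS⟩ hz) (K.mul_mem (K.zpow_mem hαx₁ e) (K.zpow_mem hαx₂ f))))
    · have hG := essential_good h.pg hF hQ
      have hr := Cfsg.Agent.S5080.result 2 h.pg F hF Q hQ
      obtain ⟨γ, hγ, hm⟩ := h.exists_moving hG hQ.1 hr
      have eQ := h.two_active_sq hF hcore hw hG hγ hm
      rcases h.two_third h₁ h₂ hG hne e₁ e₂ eQ with hQe | hQe
      · subst hQe
        exact hL₁ α hα y
      · subst hQe
        exact hL₂ α hα y
  rw [hhyp] at hle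
  exact hcK (hle hcS)

end

end Cfsg.Agent.Lib.Helper27
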