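import Mathlib
import Cfsg.Agent.Lib.Helper27.CenterIdxTwoC

/-!
# Helper27: `|S : Z(S)| = 4`, `O_2(F) = 1`, `hyp(F) = S`: `Z(S) = S'` has order two
-/

set_option autoImplicit false

namespace Cfsg.Agent.Lib.Helper27

open Cfsg Cfsg.FusionSystem
open scoped commutatorElement

variable {Ω : Type*} [Group Ω] {S : Subgroup Ω}

theorem CIdx.two_center [Finite S] (h : CIdx S 2) {F : FusionSystem S} (hF : F.IsSaturated 2)
    (hcore : F.core = ⊥) (hhyp : F.hyperfocalSubgroup 2 = S) {w : Ω} (hw : TwoW S w) :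
    (∀ z ∈ S ⊓ Subgroup.centralizer (S : Set Ω), z = 1 ∨ z = w) ∧
      ∃ P, Good S P ∧ ∀ x ∈ P, x * x = 1 := by
  have hwZ := h.commutator_le hw.mem
  have hbot := h.fixAll_eq_bot hF hcore
  have hZsq := h.two_center_sq hF hcore hw
  have hwinv : w⁻¹ = w := (eq_inv_of_mul_eq_one_left hw.sq).symm
  have hact : ∀ y ∈ S ⊓ Subgroup.centralizer (S : Set Ω), y ≠ 1 →
      ∃ P, Good S P ∧ ¬ FixZ F P y := by
    intro y hy hy1
    by_contra hcon
    push Not at hcon
    have h1 : y ∈ fixAll F := ⟨hy, hcon⟩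
    rw [hbot, Subgroup.mem_bot] at h1
    exact hy1 h1
  have hmov : ∀ {P : Subgroup Ω} {y : Ω}, y ∈ S ⊓ Subgroup.centralizer (S : Set Ω) →
      ¬ FixZ F P y → ∃ γ ∈ F.autGroup P, MovesZ S P γ := by
    intro P y hy hnf
    unfold FixZ at hnf
    push Not at hnf
    obtain ⟨β, hβ, yP, hyP, hβy⟩ := hnf
    exact ⟨β, hβ, yP, by rw [hyP]; exact hy, hβy⟩
  obtain ⟨P₁, h₁, hnf₁⟩ := hact w hwZ hw.ne
  obtain ⟨γ₁, hγ₁, hm₁⟩ := hmov hwZ hnf₁
  have e₁ := h.two_active_sq hF hcore hw h₁ hγ₁ hm₁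
  refine ⟨?_, P₁, h₁, e₁⟩
  by_contra hcon
  push Not at hcon
  obtain ⟨c₀, hc₀, hc₀1, hc₀w⟩ := hcon
  obtain ⟨c, hc, hc1, hcw, hfix₁⟩ : ∃ c ∈ S ⊓ Subgroup.centralizer (S : Set Ω),
      c ≠ 1 ∧ c ≠ w ∧ FixZ F P₁ c := by
    rcases h.two_fix_or hF hw h₁ hγ₁ hm₁ hc₀ with hf | hf
    · exact ⟨c₀, hc₀, hc₀1, hc₀w, hf⟩
    · refine ⟨c₀ * w, Subgroup.mul_mem _ hc₀ hwZ, ?_, ?_, hf⟩
      · intro e
        apply hc₀w
        have h1 : c₀ = w⁻¹ := eq_inv_of_mul_eq_one_left e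
        rw [h1, hwinv]
      · intro e
        exact hc₀1 (mul_eq_right.mp e)
  obtain ⟨P₂, h₂, hnf₂⟩ := hact c hc hc1
  obtain ⟨γ₂, hγ₂, hm₂⟩ := hmov hc hnf₂
  have hne : P₁ ≠ P₂ := by
    rintro rfl
    exact hnf₂ hfix₁
  have hfix₂ : FixZ F P₂ (c * w) := (h.two_fix_or hF hw h₂ hγ₂ hm₂ hc).resolve_left hnf₂
  have e₂ := h.two_active_sq hF hcore hw h₂ hγ₂ hm₂
  have hcS : c ∈ S := (Subgroup.mem_inf.mp hc).1
  have hZ4 : ∀ z ∈ S ⊓ Subgroup.centralizer (S : Set Ω), z = 1 ∨ z = c ∨ z = w ∨ z = c * w := by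
    have hother : ∀ P, Good S P → P ≠ P₁ → P ≠ P₂ →
        ∀ y ∈ S ⊓ Subgroup.centralizer (S : Set Ω), FixZ F P y := by
      intro P hP hP1 hP2 y hy
      by_contra hnf
      obtain ⟨γ, hγ, hm⟩ := hmov hy hnf
      have eP := h.two_active_sq hF hcore hw hP hγ hm
      rcases h.two_third h₁ h₂ hP hne e₁ e₂ eP with e | e
      · exact hP1 e
      · exact hP2 e
    have key : ∀ u ∈ S ⊓ Subgroup.centralizer (S : Set Ω), FixZ F P₁ u → FixZ F P₂ u → u = 1 := by
      intro u hu hu1 hu2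
      have h1 : u ∈ fixAll F := by
        refine ⟨hu, fun P hP => ?_⟩
        by_cases e1 : P = P₁
        · rw [e1]; exact hu1
        · by_cases e2 : P = P₂
          · rw [e2]; exact hu2
          · exact hother P hP e1 e2 u hu
      rw [hbot, Subgroup.mem_bot] at h1
      exact h1
    have aux : ∀ u ∈ S ⊓ Subgroup.centralizer (S : Set Ω), FixZ F P₁ u → u = 1 ∨ u = c := by
      intro u hu hu1
      rcases h.two_fix_or hF hw h₂ hγ₂ hm₂ hu with hu2 | hu2
      · left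
        exact key u hu hu1 hu2
      · right
        have h3 : FixZ F P₂ (u * w * (c * w)) := hu2.mul hfix₂ (h₂.zle (Subgroup.mul_mem _ hu hwZ))
        have hcw' : c * w = w * c := center_commute hwZ hcS
        have e3 : u * w * (c * w) = u * c := by
          calc u * w * (c * w) = u * (w * c) * w := by group
            _ = u * (c * w) * w := by rw [← hcw']
            _ = u * c * (w * w) := by group
            _ = u * c := by rw [hw.sq, mul_one]
        rw [e3] at h3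
        have h4 := key (u * c) (Subgroup.mul_mem _ hu hc) (hu1.mul hfix₁ (h₁.zle hu)) h3
        have h5 : u = c⁻¹ := eq_inv_of_mul_eq_one_left h4
        rw [h5]
        exact (eq_inv_of_mul_eq_one_left (hZsq c hc)).symm
    intro z hz
    rcases h.two_fix_or hF hw h₁ hγ₁ hm₁ hz with hf | hf
    · rcases aux z hz hf with e | e
      · left; exact e
      · right; left; exact e
    · rcases aux (z * w) (Subgroup.mul_mem _ hz hwZ) hf with e | e
      · right; right; left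
        have h1 : z = w⁻¹ := eq_inv_of_mul_eq_one_left e
        rw [h1, hwinv]
      · right; right; right
        have h1 : z = c * w⁻¹ := eq_mul_inv_of_mul_eq e
        rw [h1, hwinv]
  exact h.two_bad_false hF hcore hhyp hw h₁ h₂ hne hγ₁ hm₁ hγ₂ hm₂ hc hc1 hcw hfix₁ hfix₂ hZ4

end Cfsg.Agent.Lib.Helper27
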