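import Mathlib
import Cfsg.Agent.Lib.Helper27.CenterIdxTwoD
import Cfsg.Agent.Lib.Helper27.CenterIdxOdd
import Cfsg.Agent.Lib.Helper27.FusionTopNormal
import Cfsg.Agent.Lib.Helper17.Frattini
import Cfsg.Agent.Lib.Helper17.GfsAction3
import Cfsg.Agent.Lib.Helper2.DihedralIso

/-!
# Helper27: `|S : Z(S)| ≤ p²`, `O_p(F) = 1`, `hyp(F) = S`: `S` is extraspecial of order `p³`
-/

set_option autoImplicit false

namespace Cfsg.Agent.Lib.Helper27

open Cfsg Cfsg.FusionSystem
open scoped commutatorElement

variable {Ω : Type*} [Group Ω] {S : Subgroup Ω}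

/-- the hypotheses of the theorem give `CIdx` -/
theorem cIdx_of [Finite S] {p : ℕ} [Fact p.Prime] (hS : IsPGroup p ↥S) {F : FusionSystem S}
    (hF : F.IsSaturated p) (hS1 : S ≠ ⊥) (hcore : F.core = ⊥)
    (hZ : (Subgroup.center ↥S).index ≤ p ^ 2) : CIdx S p := by
  have hp : p.Prime := Fact.out
  have hnc : ∃ s ∈ S, ∃ t ∈ S, s * t ≠ t * s := by
    by_contra hcon
    push Not at hcon
    have hn : F.IsNormal S := by
      apply isNormal_top_of_no_proper_frc hS hF
      intro R hR _ hc _
      have h1 := hc.2 R (isConj_refl F hc.1)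
      apply hR.ne
      apply le_antisymm hR.le
      intro s hs
      apply h1
      rw [mem_centralizerIn_iff]
      exact ⟨hs, fun x hx => hcon x (hR.le hx) s hs⟩
    have h2 := le_core hn
    rw [hcore] at h2
    exact hS1 (eq_bot_iff.mpr h2)
  have hna : ¬ ∀ a b : ↥S, a * b = b * a := by
    intro hc
    obtain ⟨s, hs, t, ht, hst⟩ := hnc
    exact hst (congrArg Subtype.val (hc ⟨s, hs⟩ ⟨t, ht⟩))
  obtain ⟨k, hk⟩ := hS.index (Subgroup.center ↥S)
  have hk2 : k ≤ 2 := by
    rw [hk] at hZ
    exact (Nat.pow_le_pow_iff_right hp.one_lt).mp hZ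
  have hk0 : k ≠ 0 := by
    rintro rfl
    rw [pow_zero] at hk
    have h1 := Subgroup.index_eq_one.mp hk
    apply hna
    intro a b
    have h2 : a ∈ Subgroup.center ↥S := by rw [h1]; exact Subgroup.mem_top _
    exact (Subgroup.mem_center_iff.mp h2 b).symm
  have hk1 : k ≠ 1 := by
    rintro rfl
    rw [pow_one] at hk
    have hcard : Nat.card (↥S ⧸ Subgroup.center ↥S) = p := by
      rw [← Subgroup.index_eq_card]; exact hk
    haveI : IsCyclic (↥S ⧸ Subgroup.center ↥S) := isCyclic_of_prime_card hcard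
    exact hna (commutative_of_cyclic_center_quotient (QuotientGroup.mk' (Subgroup.center ↥S))
      (by rw [QuotientGroup.ker_mk']))
  have hk' : k = 2 := by omega
  refine ⟨hS, hnc, ?_⟩
  show ((S ⊓ Subgroup.centralizer (S : Set Ω)).subgroupOf S).index = p ^ 2
  rw [center_subgroupOf, hk, hk']

section

variable [Finite S] {p : ℕ} [Fact p.Prime]

/-- if the centre has order `p` then `S` is extraspecial of order `p³` -/
theorem CIdx.isExtraspecial (h : CIdx S p)
    (hZcard : Nat.card ↥(S ⊓ Subgroup.centralizer (S : Set Ω)) = p) :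
    Cfsg.IsExtraspecial p ↥S ∧ Nat.card S = p ^ 3 := by
  have hp : p.Prime := Fact.out
  have hcen : Nat.card (Subgroup.center ↥S) = p := by
    rw [← Subgroup.card_map_of_injective (Subgroup.subtype_injective S), center_map_subtype]
    exact hZcard
  have hcc : Nat.card (commutator ↥S) = p := by
    rw [← Subgroup.card_map_of_injective (Subgroup.subtype_injective S)]
    exact h.card_commutator
  have hcomm : commutator ↥S = Subgroup.center ↥S := by
    apply Subgroup.eq_of_le_of_card_ge h.commutator_le_center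
    rw [hcc, hcen]
  have hpow : ∀ x : ↥S, x ^ p ∈ Subgroup.center ↥S := by
    intro x
    rw [Subgroup.mem_center_iff]
    intro t
    have hc : ⁅x, t⁆ ∈ Subgroup.center ↥S := h.commutator_le_center (by
      rw [commutator_def]
      exact Subgroup.commutator_mem_commutator (Subgroup.mem_top _) (Subgroup.mem_top _))
    have h1 := Cfsg.Agent.Lib.Helper1.commutatorElement_pow_left (x := x) (y := t)
      ((Subgroup.mem_center_iff.mp hc x).symm) p
    have h2 : ⁅x, t⁆ ^ p = 1 := by
      have h3 : ((⁅x, t⁆ : ↥S) : Ω) ∈ (commutator ↥S).map S.subtype :=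
        ⟨⁅x, t⁆, by
          rw [commutator_def]
          exact Subgroup.commutator_mem_commutator (Subgroup.mem_top _) (Subgroup.mem_top _), rfl⟩
      have h4 := h.pow_commutator h3
      apply Subtype.ext
      rw [Subgroup.coe_pow]
      exact h4
    rw [h2] at h1
    exact (commutatorElement_eq_one_iff_mul_comm.mp h1).symm
  have hfrat : frattini ↥S = Subgroup.center ↥S := by
    apply le_antisymm
    · apply Cfsg.Agent.Lib.Helper17.frattini_le_of_pow_comm (p := p) (Subgroup.center ↥S) hpow
      intro x y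
      exact h.commutator_le_center (by
        rw [commutator_def]
        exact Subgroup.commutator_mem_commutator (Subgroup.mem_top _) (Subgroup.mem_top _))
    · have h1 := Cfsg.Agent.Lib.Helper17.center_inf_commutator_le_frattini (G := ↥S)
      rw [hcomm, inf_idem] at h1
      exact h1
  refine ⟨⟨⟨h.pg, hfrat, hcomm⟩, hcen⟩, ?_⟩
  rw [← h.card_eq, hZcard]
  ring

/-- the dihedral group of order eight -/
theorem CIdx.two_dihedral (h : CIdx S 2) {w : Ω} (hw : TwoW S w)
    (hZ2 : ∀ z ∈ S ⊓ Subgroup.centralizer (S : Set Ω), z = 1 ∨ z = w) (hcard : Nat.card S = 8)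
    {P : Subgroup Ω} (hP : Good S P) (eP : ∀ x ∈ P, x * x = 1) :
    Nonempty (↥S ≃* DihedralGroup 4) := by
  have hwZ := h.commutator_le hw.mem
  have hA := h.abIdx hP
  obtain ⟨x, hx, hxZ⟩ := hP.exists_not_mem_center
  obtain ⟨g, hg, hgP⟩ := hP.exists_not_mem
  have hxS := hP.le hx
  have hxx := eP x hx
  -- `g² ∈ Z(S)`
  have hggP : g * g ∈ P :=
    (mul_mem_iff_of_relIndex_two (h.relIndex_good hP).1 hg hg).mpr Iff.rfl
  have hggZ : g * g ∈ S ⊓ Subgroup.centralizer (S : Set Ω) :=
    hA.mem_center_of_comm hg hgP hggP (by rw [mul_assoc])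
  -- the commutator of `x` and `g`
  have hxg : x * g = w * (g * x) := by
    have hd := h.comm_mem hxS hg
    rcases hw.all _ hd with e | e
    · exfalso
      apply hxZ
      apply hA.mem_center_of_comm hg hgP hx
      have e1 : x * g = (x * g * x⁻¹ * g⁻¹) * (g * x) := by group
      rw [e1, e, one_mul]
    · have e1 : x * g = (x * g * x⁻¹ * g⁻¹) * (g * x) := by group
      rw [e1, e]
  -- an involution outside `P`
  obtain ⟨y, hy, hyP, hyy⟩ : ∃ y ∈ S, y ∉ P ∧ y * y = 1 := by
    rcases hZ2 _ hggZ with e | e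
    · exact ⟨g, hg, hgP, e⟩
    · refine ⟨g * x, S.mul_mem hg hxS, fun hc => hgP ?_, ?_⟩
      · have : g = (g * x) * x⁻¹ := by group
        rw [this]
        exact P.mul_mem hc (P.inv_mem hx)
      · have hwc : g * w = w * g := center_commute hwZ hg
        calc g * x * (g * x) = g * (x * g) * x := by group
          _ = g * (w * (g * x)) * x := by rw [hxg]
          _ = (g * w) * g * (x * x) := by group
          _ = (w * g) * g * (x * x) := by rw [hwc]
          _ = w * (g * g) * (x * x) := by group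
          _ = 1 := by rw [e, hxx, hw.sq, mul_one]
  have hx1 : x ≠ 1 := fun e => hxZ (e ▸ Subgroup.one_mem _)
  have hy1 : y ≠ 1 := fun e => hyP (e ▸ Subgroup.one_mem _)
  have hnc : x * y ≠ y * x := fun e => hxZ (hA.mem_center_of_comm hy hyP hx e)
  obtain ⟨ι⟩ := Cfsg.Agent.Lib.Helper2.TwoInv.nonempty_mulEquiv_dihedral hxx hyy hx1 hy1
  have hle : Subgroup.closure ({x, y} : Set Ω) ≤ S := by
    rw [Subgroup.closure_le]
    rintro u (rfl | rfl)
    · exact hxS
    · exact hy
  have hc1 : Nat.card ↥(Subgroup.closure ({x, y} : Set Ω)) = 2 * orderOf (x * y) := by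
    rw [Nat.card_congr ι.toEquiv, DihedralGroup.nat_card]
  have hdvd : 2 * orderOf (x * y) ∣ 8 := by
    rw [← hc1, ← hcard]
    exact Subgroup.card_dvd_of_le hle
  have hn4 : orderOf (x * y) ∣ 4 := by
    have : 2 * orderOf (x * y) ∣ 2 * 4 := hdvd
    exact (Nat.mul_dvd_mul_iff_left (by norm_num)).mp this
  have hn : orderOf (x * y) = 4 := by
    have hmem : orderOf (x * y) ∈ Nat.divisors 4 := Nat.mem_divisors.mpr ⟨hn4, by norm_num⟩
    have hdiv : Nat.divisors 4 = {1, 2, 4} := by decide
    rw [hdiv] at hmem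
    simp only [Finset.mem_insert, Finset.mem_singleton] at hmem
    rcases hmem with e | e | e
    · exfalso
      have h1 : x * y = 1 := orderOf_eq_one_iff.mp e
      apply hyP
      have : y = x⁻¹ := (eq_inv_of_mul_eq_one_left h1 : x = y⁻¹) ▸ (inv_inv y).symm
      rw [this]
      exact P.inv_mem hx
    · exfalso
      have h1 : (x * y) ^ 2 = 1 := by rw [← e]; exact pow_orderOf_eq_one _
      rw [pow_two] at h1
      apply hnc
      have h4 : x * y = (x * y)⁻¹ := eq_inv_of_mul_eq_one_left h1
      have h5 : x⁻¹ = x := (eq_inv_of_mul_eq_one_left hxx).symm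
      have h6 : y⁻¹ = y := (eq_inv_of_mul_eq_one_left hyy).symm
      rw [mul_inv_rev, h5, h6] at h4
      exact h4
    · exact e
  have heq : Subgroup.closure ({x, y} : Set Ω) = S := by
    apply Subgroup.eq_of_le_of_card_ge hle
    rw [hc1, hn, hcard]
  rw [hn] at ι
  exact ⟨(MulEquiv.subgroupCongr heq).symm.trans ι⟩

end

end Cfsg.Agent.Lib.Helper27
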