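import Mathlib
import Cfsg.Agent.Lib.Helper27.CenterIdxFinal
import Cfsg.Agent.Lib.Helper27.FusionEssential
import Cfsg.Agent.Lib.Helper17.StrongPEmb2
import Cfsg.Agent.S5080
import Cfsg.Agent.S5082

/-!
# `p`-groups whose commutators lie in a central subgroup of order `p`

`CommP S Z₀ p`: all commutators of the `p`-group `S` lie in the central subgroup `Z₀` of order `p`.
Main result `CommP.center_le`: if `p` is odd and `S` carries a saturated fusion system with trivial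
core, then `Z(S) ≤ Z₀`.
-/

set_option autoImplicit false

namespace Cfsg.Agent.Lib.Helper27

open Cfsg Cfsg.FusionSystem

variable {Ω : Type*} [Group Ω] {S : Subgroup Ω}

/-- a nontrivial subgroup of a group of prime order is the whole group -/
theorem eq_of_le_of_ne_bot_of_card_prime {N C : Subgroup Ω} {p : ℕ} [Fact p.Prime]
    (hcard : Nat.card N = p) (hCN : C ≤ N) (hC : C ≠ ⊥) : C = N := by
  have hp : p.Prime := Fact.out
  have : Finite N := Nat.finite_of_card_ne_zero (by rw [hcard]; exact hp.ne_zero)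
  apply Subgroup.eq_of_le_of_card_ge hCN
  have hd : Nat.card C ∣ Nat.card N := Subgroup.card_dvd_of_le hCN
  rw [hcard] at hd ⊢
  rcases (Nat.dvd_prime hp).mp hd with h1 | h1
  · exact absurd (Subgroup.card_eq_one.mp h1) hC
  · exact h1.ge

/-- a normal subgroup of order `p` of a finite `p`-group is central -/
theorem central_of_card_prime {N : Subgroup Ω} [Finite S] {p : ℕ} [Fact p.Prime]
    (hS : IsPGroup p S) (hNS : N ≤ S) (hcard : Nat.card N = p)
    (hn : ∀ s ∈ S, ∀ n ∈ N, s * n * s⁻¹ ∈ N) : ∀ n ∈ N, ∀ s ∈ S, s * n = n * s := by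
  have hp : p.Prime := Fact.out
  have hnorm : (N.subgroupOf S).Normal := by
    constructor
    intro a ha b
    rw [Subgroup.mem_subgroupOf] at ha ⊢
    exact hn b b.2 a ha
  have hne : N.subgroupOf S ≠ ⊥ := by
    intro hbot
    have h1 : Disjoint N S := Subgroup.subgroupOf_eq_bot.mp hbot
    have h2 : N = ⊥ := by
      have := h1.eq_bot
      rwa [inf_eq_left.mpr hNS] at this
    rw [h2, Subgroup.card_bot] at hcard
    exact hp.one_lt.ne hcard
  have h2 := Cfsg.Agent.Lib.Helper17.normal_inf_center_ne_bot' hS (N.subgroupOf S) hne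
  obtain ⟨⟨x, hx⟩, hx1⟩ := (Subgroup.ne_bot_iff_exists_ne_one).mp h2
  have hxN : (x : Ω) ∈ N := Subgroup.mem_subgroupOf.mp (Subgroup.mem_inf.mp hx).1
  have hxc : x ∈ Subgroup.center ↥S := (Subgroup.mem_inf.mp hx).2
  have hC : N ⊓ Subgroup.centralizer (S : Set Ω) = N := by
    apply eq_of_le_of_ne_bot_of_card_prime hcard inf_le_left
    intro hbot
    have hmem : (x : Ω) ∈ N ⊓ Subgroup.centralizer (S : Set Ω) := by
      refine Subgroup.mem_inf.mpr ⟨hxN, ?_⟩
      rw [Subgroup.mem_centralizer_iff]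
      intro s hs
      have := Subgroup.mem_center_iff.mp hxc ⟨s, hs⟩
      exact congrArg Subtype.val this
    rw [hbot, Subgroup.mem_bot] at hmem
    apply hx1
    apply Subtype.ext
    apply Subtype.ext
    exact hmem
  intro n hn' s hs
  have h3 : n ∈ Subgroup.centralizer (S : Set Ω) := by
    rw [← hC] at hn'; exact (Subgroup.mem_inf.mp hn').2
  exact Subgroup.mem_centralizer_iff.mp h3 s hs

/-- all commutators of the `p`-group `S` lie in the central subgroup `Z₀` of order `p` -/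
structure CommP (S Z₀ : Subgroup Ω) (p : ℕ) : Prop where
  pg : IsPGroup p S
  le : Z₀ ≤ S
  card : Nat.card Z₀ = p
  comm : ∀ x ∈ S, ∀ y ∈ S, x * y * x⁻¹ * y⁻¹ ∈ Z₀
  cent : ∀ z ∈ Z₀, ∀ s ∈ S, s * z = z * s

namespace CommP

variable {Z₀ : Subgroup Ω} {p : ℕ}

theorem le_center (h : CommP S Z₀ p) : Z₀ ≤ S ⊓ Subgroup.centralizer (S : Set Ω) := by
  intro z hz
  refine Subgroup.mem_inf.mpr ⟨h.le hz, ?_⟩
  rw [Subgroup.mem_centralizer_iff]
  exact fun s hs => h.cent z hz s hs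

theorem le_of_centric (h : CommP S Z₀ p) {F : FusionSystem S} {R : Subgroup Ω}
    (hc : F.IsCentric R) : Z₀ ≤ R := by
  intro z hz
  apply hc.2 R (isConj_refl F hc.1)
  rw [mem_centralizerIn_iff]
  exact ⟨h.le hz, fun y hy => h.cent z hz y (hc.1 hy)⟩

theorem conj_mem (h : CommP S Z₀ p) {R : Subgroup Ω} (hZR : Z₀ ≤ R) {g : Ω} (hg : g ∈ S) {x : Ω}
    (hx : x ∈ R) (hxS : x ∈ S) : g * x * g⁻¹ ∈ R := by
  have h1 : g * x * g⁻¹ = (g * x * g⁻¹ * x⁻¹) * x := by group
  rw [h1]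
  exact R.mul_mem (hZR (h.comm g hg x hxS)) hx

theorem mem_normalizerIn [Finite S] (h : CommP S Z₀ p) {R : Subgroup Ω} (hRS : R ≤ S)
    (hZR : Z₀ ≤ R) {g : Ω} (hg : g ∈ S) : g ∈ normalizerIn S R := by
  have : Finite R := Finite.of_injective (Subgroup.inclusion hRS) (Subgroup.inclusion_injective hRS)
  exact ⟨hg, mem_normalizer_of_conj_mem (fun y hy => h.conj_mem hZR hg hy (hRS hy))⟩

theorem exists_generator [Fact p.Prime] (h : CommP S Z₀ p) :
    ∃ z ∈ Z₀, z ≠ 1 ∧ Subgroup.zpowers z = Z₀ := by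
  have hp : p.Prime := Fact.out
  have hne : Z₀ ≠ ⊥ := by
    intro hbot
    have := h.card
    rw [hbot, Subgroup.card_bot] at this
    exact hp.one_lt.ne this
  rcases Subgroup.bot_or_exists_ne_one Z₀ with hbot | ⟨z, hz, hz1⟩
  · exact absurd hbot hne
  · refine ⟨z, hz, hz1, ?_⟩
    apply eq_of_le_of_ne_bot_of_card_prime h.card (Subgroup.zpowers_le.mpr hz)
    rwa [Ne, Subgroup.zpowers_eq_bot]

/-- a centric radical proper subgroup is abelian -/
theorem essential_comm [Finite S] [Fact p.Prime] (h : CommP S Z₀ p) {F : FusionSystem S}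
    {R : Subgroup Ω} (hc : F.IsCentric R) (hr : F.IsRadical p R) (hne : ∃ g ∈ S, g ∉ R) :
    ∀ a ∈ R, ∀ b ∈ R, a * b = b * a := by
  by_contra hcon
  push Not at hcon
  obtain ⟨a, ha, b, hb, hab⟩ := hcon
  obtain ⟨g, hgS, hgR⟩ := hne
  have hRS : R ≤ S := hc.1
  have hZR : Z₀ ≤ R := h.le_of_centric hc
  have hcZ : a * b * a⁻¹ * b⁻¹ ∈ Z₀ := h.comm a (hRS ha) b (hRS hb)
  have hc1 : a * b * a⁻¹ * b⁻¹ ≠ 1 := by
    intro h1
    apply hab
    have : a * b = (a * b * a⁻¹ * b⁻¹) * (b * a) := by group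
    rw [this, h1, one_mul]
  have hgen : Subgroup.zpowers (a * b * a⁻¹ * b⁻¹) = Z₀ := by
    apply eq_of_le_of_ne_bot_of_card_prime h.card (Subgroup.zpowers_le.mpr hcZ)
    rwa [Ne, Subgroup.zpowers_eq_bot]
  apply hgR
  apply mem_of_stabilizes_chain h.pg hc hr (chainZ Z₀) 2 ?_ rfl le_top
    (h.mem_normalizerIn hRS hZR hgS) ?_
  · intro j
    match j with
    | 0 =>
      intro α _ x hx
      have hx0 : (x : Ω) ∈ (⊥ : Subgroup Ω) := hx
      have hx1 : x = 1 := Subtype.ext (Subgroup.mem_bot.mp hx0)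
      show ((α x : R) : Ω) ∈ (⊥ : Subgroup Ω)
      rw [hx1, map_one]
      exact Subgroup.one_mem _
    | 1 =>
      intro α _ x hx
      have hx0 : (x : Ω) ∈ Z₀ := hx
      show ((α x : R) : Ω) ∈ Z₀
      have hx' : (x : Ω) ∈ Subgroup.zpowers (a * b * a⁻¹ * b⁻¹) := by rw [hgen]; exact hx0
      obtain ⟨k, hk⟩ := Subgroup.mem_zpowers_iff.mp hx'
      have hxk : x = ((⟨a, ha⟩ : R) * ⟨b, hb⟩ * (⟨a, ha⟩ : R)⁻¹ * (⟨b, hb⟩ : R)⁻¹) ^ k := by
        apply Subtype.ext
        rw [Subgroup.coe_zpow]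
        exact hk.symm
      rw [hxk, map_zpow, Subgroup.coe_zpow]
      apply Subgroup.zpow_mem
      rw [map_mul, map_mul, map_mul, map_inv, map_inv]
      exact h.comm _ (hRS (α ⟨a, ha⟩).2) _ (hRS (α ⟨b, hb⟩).2)
    | (n + 2) =>
      intro α _ x _
      exact Subgroup.mem_top _
  · intro j hj x hxR hx
    interval_cases j
    · have hx0 : x ∈ Z₀ := hx
      show x⁻¹ * (g * x * g⁻¹) ∈ (⊥ : Subgroup Ω)
      rw [Subgroup.mem_bot, h.cent x hx0 g hgS]
      group
    · show x⁻¹ * (g * x * g⁻¹) ∈ Z₀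
      have := h.comm x⁻¹ (S.inv_mem (hRS hxR)) g hgS
      have e : x⁻¹ * (g * x * g⁻¹) = x⁻¹ * g * x⁻¹⁻¹ * g⁻¹ := by group
      rw [e]
      exact this

/-- for an essential subgroup `R` some element of `R` has its centralizer inside `R` -/
theorem essential_exists [Finite S] [Fact p.Prime] (h : CommP S Z₀ p) {F : FusionSystem S}
    (hF : F.IsSaturated p) {R : Subgroup Ω} (hR : F.IsEssential p R) :
    ∃ y ∈ R, ∀ g ∈ S, g * y = y * g → g ∈ R := by
  by_contra hcon
  push Not at hcon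
  have hS := h.pg
  have hRS : R ≤ S := hR.1.1
  have hfn := hR.2.1
  have : Finite R := Finite.of_injective (Subgroup.inclusion hRS) (Subgroup.inclusion_injective hRS)
  have hpR : IsPGroup p R :=
    hS.of_injective (Subgroup.inclusion hRS) (Subgroup.inclusion_injective hRS)
  have hZR : Z₀ ≤ R := h.le_of_centric hR.1
  obtain ⟨z, hz, hz1, hgen⟩ := h.exists_generator
  obtain ⟨K, hKA, ⟨β₀, hβ₀A, hβ₀K⟩, hSK, -, hK⟩ := essential_exists_subgroup hS hF hR
  apply hβ₀K
  have key : ∀ γ ∈ F.autGroup R, γ ∈ K := by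
    intro γ hγ
    obtain ⟨g, hgS, hgc, hgR⟩ := hcon ((γ⁻¹ (⟨z, hZR hz⟩ : R) : R) : Ω) (γ⁻¹ (⟨z, hZR hz⟩ : R)).2
    have hgN : g ∈ normalizerIn S R := h.mem_normalizerIn hRS hZR hgS
    obtain ⟨α, hα⟩ : ∃ α : MulAut R, α = conjAutHom S R ⟨g, hgN⟩ := ⟨_, rfl⟩
    have hαapp : ∀ y : R, ((α y : R) : Ω) = g * y * g⁻¹ := by
      intro y; rw [hα]; exact conjAutHom_apply S R ⟨g, hgN⟩ y
    have hw : (⟨z, hZR hz⟩ : R) ∈ Transv.fixS α := by
      rw [Transv.mem_fixS]
      apply Subtype.ext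
      rw [hαapp]
      show g * z * g⁻¹ = z
      rw [h.cent z hz g hgS, mul_inv_cancel_right]
    have htr : ∀ y : R, y⁻¹ * α y ∈ Subgroup.zpowers (⟨z, hZR hz⟩ : R) := by
      intro y
      have h1 : (y : Ω)⁻¹ * (g * y * g⁻¹) ∈ Subgroup.zpowers z := by
        rw [hgen]
        have := h.comm (y : Ω)⁻¹ (S.inv_mem (hRS y.2)) g hgS
        have e : (y : Ω)⁻¹ * (g * y * g⁻¹) = (y : Ω)⁻¹ * g * (y : Ω)⁻¹⁻¹ * g⁻¹ := by group
        rw [e]; exact this
      obtain ⟨k, hk⟩ := Subgroup.mem_zpowers_iff.mp h1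
      rw [Subgroup.mem_zpowers_iff]
      refine ⟨k, Subtype.ext ?_⟩
      rw [Subgroup.coe_zpow, Subgroup.coe_mul, Subgroup.coe_inv, hαapp]
      exact hk
    have hfix : ∀ y : R, α y = y ↔ y ∈ Transv.fixS α := fun y => Iff.rfl
    have hγw : γ⁻¹ (⟨z, hZR hz⟩ : R) ∈ Transv.fixS α := by
      rw [Transv.mem_fixS]
      apply Subtype.ext
      rw [hαapp, hgc, mul_inv_cancel_right]
    obtain ⟨H, hH, hαH, hα'H⟩ := Transv.isPGroup_pair hpR hw htr hfix γ hγw
    have hαS : α ∈ autInducedBy S R := by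
      rw [hα, ← conjAutHom_range]; exact ⟨_, rfl⟩
    have hαG : α ∈ F.autGroup R := autInducedBy_le_autGroup F hRS hαS
    have hα'G : γ * α * γ⁻¹ ∈ F.autGroup R :=
      (F.autGroup R).mul_mem ((F.autGroup R).mul_mem hγ hαG) ((F.autGroup R).inv_mem hγ)
    obtain ⟨c, hc⟩ := exists_conj_isPGroup_mem_autInducedBy hS hF hfn
      (H.subgroupOf (F.autGroup R)) hH.comap_subtype
    have e1 := hc ⟨α, hαG⟩ (Subgroup.mem_subgroupOf.mpr hαH)
    have e2 := hc ⟨γ * α * γ⁻¹, hα'G⟩ (Subgroup.mem_subgroupOf.mpr hα'H)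
    have hcK : (c : MulAut R) ∈ K := by
      apply hK (c : MulAut R) c.2 ⟨g, hgN⟩ hgR
      rw [← hα]
      exact e1
    have hcγK : (c : MulAut R) * γ ∈ K := by
      apply hK _ ((F.autGroup R).mul_mem c.2 hγ) ⟨g, hgN⟩ hgR
      rw [← hα]
      have e3 : (c : MulAut R) * γ * α * ((c : MulAut R) * γ)⁻¹ =
          (c : MulAut R) * (γ * α * γ⁻¹) * (c : MulAut R)⁻¹ := by group
      rw [e3]
      exact e2
    have e4 : γ = (c : MulAut R)⁻¹ * ((c : MulAut R) * γ) := by group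
    rw [e4]
    exact K.mul_mem (K.inv_mem hcK) hcγK
  exact key β₀ hβ₀A

/-- the homomorphism `s ↦ [s, x]` -/
def commHomP (h : CommP S Z₀ p) {x : Ω} (hx : x ∈ S) : ↥S →* ↥Z₀ where
  toFun s := ⟨(s : Ω) * x * (s : Ω)⁻¹ * x⁻¹, h.comm s s.2 x hx⟩
  map_one' := by
    apply Subtype.ext
    simp
  map_mul' s t := by
    apply Subtype.ext
    have hc := h.cent _ (h.comm t t.2 x hx) s s.2
    have hc' := h.cent _ (h.comm t t.2 x hx) _ (h.le (h.comm s s.2 x hx))
    show ((s * t : S) : Ω) * x * ((s * t : S) : Ω)⁻¹ * x⁻¹ =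
      ((s : Ω) * x * (s : Ω)⁻¹ * x⁻¹) * ((t : Ω) * x * (t : Ω)⁻¹ * x⁻¹)
    rw [Subgroup.coe_mul]
    calc (s : Ω) * t * x * ((s : Ω) * t)⁻¹ * x⁻¹
        = ((s : Ω) * ((t : Ω) * x * (t : Ω)⁻¹ * x⁻¹)) * (x * (s : Ω)⁻¹ * x⁻¹) := by group
      _ = (((t : Ω) * x * (t : Ω)⁻¹ * x⁻¹) * (s : Ω)) * (x * (s : Ω)⁻¹ * x⁻¹) := by rw [hc]
      _ = ((t : Ω) * x * (t : Ω)⁻¹ * x⁻¹) * ((s : Ω) * x * (s : Ω)⁻¹ * x⁻¹) := by group
      _ = ((s : Ω) * x * (s : Ω)⁻¹ * x⁻¹) * ((t : Ω) * x * (t : Ω)⁻¹ * x⁻¹) := hc'.symm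

theorem mem_ker_commHomP (h : CommP S Z₀ p) {x : Ω} (hx : x ∈ S) (s : S) :
    s ∈ (h.commHomP hx).ker ↔ (s : Ω) * x = x * s := by
  rw [MonoidHom.mem_ker]
  constructor
  · intro h1
    have h2 : (s : Ω) * x * (s : Ω)⁻¹ * x⁻¹ = 1 := congrArg Subtype.val h1
    have e : (s : Ω) * x = ((s : Ω) * x * (s : Ω)⁻¹ * x⁻¹) * (x * s) := by group
    rw [e, h2, one_mul]
  · intro h1
    apply Subtype.ext
    show (s : Ω) * x * (s : Ω)⁻¹ * x⁻¹ = 1
    rw [h1]
    group

theorem index_ker_dvd (h : CommP S Z₀ p) {x : Ω} (hx : x ∈ S) :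
    (h.commHomP hx).ker.index ∣ p := by
  rw [Subgroup.index_ker]
  have := Subgroup.card_subgroup_dvd_card (h.commHomP hx).range
  rwa [h.card] at this

/-- an abelian subgroup containing the centralizer of one of its elements forces `|S : Z(S)| ≤ p²` -/
theorem index_center_le [Finite S] [Fact p.Prime] (h : CommP S Z₀ p) {R : Subgroup Ω}
    (hRS : R ≤ S) (hab : ∀ a ∈ R, ∀ b ∈ R, a * b = b * a) {y : Ω} (hyR : y ∈ R)
    (hy : ∀ g ∈ S, g * y = y * g → g ∈ R) : (Subgroup.center ↥S).index ≤ p ^ 2 := by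
  have hp : p.Prime := Fact.out
  by_cases htop : ∀ g ∈ S, g ∈ R
  · have : Subgroup.center ↥S = ⊤ := by
      rw [eq_top_iff]
      intro s _
      rw [Subgroup.mem_center_iff]
      intro t
      apply Subtype.ext
      exact hab t (htop t t.2) s (htop s s.2)
    rw [this, Subgroup.index_top]
    exact Nat.one_le_pow _ _ hp.pos
  push Not at htop
  obtain ⟨g, hgS, hgR⟩ := htop
  have hyS : y ∈ S := hRS hyR
  have hKy : (h.commHomP hyS).ker ≤ R.subgroupOf S := by
    intro s hs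
    rw [h.mem_ker_commHomP] at hs
    exact Subgroup.mem_subgroupOf.mpr (hy s s.2 hs)
  have hR'ne : R.subgroupOf S ≠ ⊤ := by
    intro ht
    apply hgR
    have : (⟨g, hgS⟩ : S) ∈ R.subgroupOf S := by rw [ht]; trivial
    exact Subgroup.mem_subgroupOf.mp this
  have hR'idx : (R.subgroupOf S).index = p := by
    have h1 : (R.subgroupOf S).index ∣ (h.commHomP hyS).ker.index := Subgroup.index_dvd_of_le hKy
    have h2 := h1.trans (h.index_ker_dvd hyS)
    rcases (Nat.dvd_prime hp).mp h2 with h3 | h3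
    · exact absurd (Subgroup.index_eq_one.mp h3) hR'ne
    · exact h3
  have hcen : (h.commHomP hyS).ker ⊓ (h.commHomP hgS).ker ≤ Subgroup.center ↥S := by
    intro x hx
    obtain ⟨hx1, hx2⟩ := Subgroup.mem_inf.mp hx
    have hxR : (x : Ω) ∈ R := Subgroup.mem_subgroupOf.mp (hKy hx1)
    rw [h.mem_ker_commHomP] at hx2
    have hRK : R.subgroupOf S ≤ (h.commHomP x.2).ker := by
      intro s hs
      rw [h.mem_ker_commHomP]
      exact hab s (Subgroup.mem_subgroupOf.mp hs) x hxR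
    have hgK : (⟨g, hgS⟩ : S) ∈ (h.commHomP x.2).ker := by
      rw [h.mem_ker_commHomP]
      exact hx2.symm
    have hKtop : (h.commHomP x.2).ker = ⊤ := by
      have h1 := h.index_ker_dvd x.2
      rcases (Nat.dvd_prime hp).mp h1 with h3 | h3
      · exact Subgroup.index_eq_one.mp h3
      · exfalso
        have h4 := Subgroup.relIndex_mul_index hRK
        rw [h3, hR'idx] at h4
        have h5 : (R.subgroupOf S).relIndex (h.commHomP x.2).ker = 1 := by
          have : (R.subgroupOf S).relIndex (h.commHomP x.2).ker * p = 1 * p := by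
            rw [h4, one_mul]
          exact Nat.eq_of_mul_eq_mul_right hp.pos this
        have h6 := Subgroup.relIndex_eq_one.mp h5
        exact hgR (Subgroup.mem_subgroupOf.mp (h6 hgK))
    rw [Subgroup.mem_center_iff]
    intro t
    have ht : t ∈ (h.commHomP x.2).ker := by rw [hKtop]; trivial
    rw [h.mem_ker_commHomP] at ht
    exact Subtype.ext ht
  have h1 : (Subgroup.center ↥S).index ∣ ((h.commHomP hyS).ker ⊓ (h.commHomP hgS).ker).index :=
    Subgroup.index_dvd_of_le hcen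
  have h2 : ((h.commHomP hyS).ker ⊓ (h.commHomP hgS).ker).index ≤
      (h.commHomP hyS).ker.index * (h.commHomP hgS).ker.index := Subgroup.index_inf_le
  have h3 : (h.commHomP hyS).ker.index ≤ p := Nat.le_of_dvd hp.pos (h.index_ker_dvd hyS)
  have h4 : (h.commHomP hgS).ker.index ≤ p := Nat.le_of_dvd hp.pos (h.index_ker_dvd hgS)
  have h5 : ((h.commHomP hyS).ker ⊓ (h.commHomP hgS).ker).index ≠ 0 :=
    Subgroup.index_ne_zero_of_finite
  calc (Subgroup.center ↥S).index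
      ≤ ((h.commHomP hyS).ker ⊓ (h.commHomP hgS).ker).index :=
        Nat.le_of_dvd (Nat.pos_of_ne_zero h5) h1
    _ ≤ (h.commHomP hyS).ker.index * (h.commHomP hgS).ker.index := h2
    _ ≤ p * p := Nat.mul_le_mul h3 h4
    _ = p ^ 2 := (sq p).symm

/-- **Main result**: for odd `p` and a saturated fusion system with trivial core, `Z(S) ≤ Z₀`. -/
theorem center_le [Finite S] [Fact p.Prime] (h : CommP S Z₀ p) {F : FusionSystem S}
    (hF : F.IsSaturated p) (hp2 : p ≠ 2) (hcore : F.core = ⊥) :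
    S ⊓ Subgroup.centralizer (S : Set Ω) ≤ Z₀ := by
  have hp : p.Prime := Fact.out
  have hS := h.pg
  have hS1 : S ≠ ⊥ := by
    intro hbot
    have h1 : Z₀ = ⊥ := by rw [eq_bot_iff, ← hbot]; exact h.le
    have h2 := h.card
    rw [h1, Subgroup.card_bot] at h2
    exact hp.one_lt.ne h2
  by_cases hess : ∃ R, F.IsEssential p R
  · obtain ⟨R, hR⟩ := hess
    have hrad := Cfsg.Agent.S5080.result p hS F hF R hR
    obtain ⟨K, -, -, -, ⟨g₀, hg₀N, hg₀R⟩, -⟩ := essential_exists_subgroup hS hF hR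
    have hab := h.essential_comm hR.1 hrad ⟨g₀, normalizerIn_le_S S R hg₀N, hg₀R⟩
    obtain ⟨y, hyR, hy⟩ := h.essential_exists hF hR
    have hidx := h.index_center_le hR.1.1 hab hyR hy
    have hC := cIdx_of hS hF hS1 hcore hidx
    obtain ⟨h1, -⟩ := hC.center_card_of_odd hF hp2 hcore
    refine h1.trans ?_
    rw [Subgroup.map_le_iff_le_comap]
    show commutator ↥S ≤ Z₀.subgroupOf S
    rw [commutator_def, Subgroup.commutator_le]
    intro a _ b _
    rw [Subgroup.mem_subgroupOf, commutatorElement_def]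
    exact h.comm a a.2 b b.2
  · exfalso
    push Not at hess
    apply hS1
    have hle : F ≤ autRestrictSystem F := by
      apply Cfsg.Agent.S5082.result p hS F hF (autRestrictSystem F)
      rintro P (rfl | hP)
      · intro α hα
        rw [mem_autGroup_iff F le_rfl] at hα
        rw [mem_autGroup_iff _ le_rfl]
        exact ⟨le_rfl, α, hα, fun x => rfl⟩
      · exact absurd hP (hess P)
    have hn : F.IsNormal S := isNormal_top_of_le_autRestrictSystem (fun P => hle P)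
    have := le_core hn
    rw [hcore] at this
    exact eq_bot_iff.mpr this

end CommP

end Cfsg.Agent.Lib.Helper27
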