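import Mathlib
import Cfsg.Prelude.Def_Transfer
import Cfsg.Agent.Lib.Helper1.ClassTwo
import Cfsg.Agent.Lib.Helper1.OrderP4
import Cfsg.Agent.Lib.Helper3.QuatHom
import Cfsg.Agent.Lib.Helper27.CommP

/-!
# Groups of order `p³` and characteristic chains

`CharChain p P`: a chain `⊥ = c 0 ≤ c 1 ≤ c 2 ≤ c 3 = ⊤` of subgroups of `P`, invariant under all
automorphisms of `P`, with `|c (j+1)| = p |c j|`.

A group of order `p³` has such a chain unless it is elementary abelian, extraspecial of exponent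
`p` (`p` odd), or the quaternion group (`p = 2`).
-/

set_option autoImplicit false

namespace Cfsg.Agent.Lib.Helper27

open Cfsg
open scoped commutatorElement

section cube

variable {P : Type*} [Group P]

/-- a chain of characteristic subgroups of orders `1, p, p², p³` -/
def CharChain (p : ℕ) (P : Type*) [Group P] : Prop :=
  ∃ c : ℕ → Subgroup P, c 0 = ⊥ ∧ c 3 = ⊤ ∧ (∀ j, ∀ α : P ≃* P, ∀ x ∈ c j, α x ∈ c j) ∧
    ∀ j < 3, c j ≤ c (j + 1) ∧ Nat.card (c (j + 1)) = p * Nat.card (c j)

theorem charChain_of {p : ℕ} (hcard : Nat.card P = p ^ 3) (C1 C2 : Subgroup P)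
    (h1 : Nat.card C1 = p) (h2 : Nat.card C2 = p ^ 2) (hle : C1 ≤ C2)
    (hc1 : ∀ α : P ≃* P, ∀ x ∈ C1, α x ∈ C1) (hc2 : ∀ α : P ≃* P, ∀ x ∈ C2, α x ∈ C2) :
    CharChain p P := by
  refine ⟨fun j => match j with
    | 0 => ⊥
    | 1 => C1
    | 2 => C2
    | _ => ⊤, rfl, rfl, ?_, ?_⟩
  · intro j α x hx
    rcases j with _ | _ | _ | n
    · have hx' : x ∈ (⊥ : Subgroup P) := hx
      rw [Subgroup.mem_bot] at hx'
      show α x ∈ (⊥ : Subgroup P)
      rw [hx', map_one]; exact Subgroup.one_mem _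
    · exact hc1 α x hx
    · exact hc2 α x hx
    · exact Subgroup.mem_top _
  · intro j hj
    rcases j with _ | _ | _ | n
    · refine ⟨bot_le, ?_⟩
      show Nat.card C1 = p * Nat.card (⊥ : Subgroup P)
      rw [Subgroup.card_bot, mul_one, h1]
    · refine ⟨hle, ?_⟩
      show Nat.card C2 = p * Nat.card C1
      rw [h1, h2]; ring
    · refine ⟨le_top, ?_⟩
      show Nat.card (⊤ : Subgroup P) = p * Nat.card C2
      rw [Subgroup.card_top, hcard, h2]; ring
    · omega

theorem center_char (α : P ≃* P) (x : P) (hx : x ∈ Subgroup.center P) :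
    α x ∈ Subgroup.center P := by
  rw [Subgroup.mem_center_iff] at hx ⊢
  intro g
  have h1 := hx (α.symm g)
  have h2 := congrArg α h1
  rwa [map_mul, map_mul, MulEquiv.apply_symm_apply] at h2

/-- abelian groups of order `p³` -/
theorem abelian_cube {p : ℕ} [hp : Fact p.Prime] [Finite P] (hcard : Nat.card P = p ^ 3)
    (hcomm : ∀ x y : P, x * y = y * x) : (∀ x : P, x ^ p = 1) ∨ CharChain p P := by
  have hpp : p.Prime := hp.out
  obtain ⟨φ, hφ⟩ : ∃ φ : P →* P, ∀ x, φ x = x ^ p :=
    ⟨MonoidHom.mk' (fun x => x ^ p) (fun a b => (Commute.mul_pow (hcomm a b) p)), fun x => rfl⟩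
  obtain ⟨K, hK⟩ : ∃ K : Subgroup P, K = φ.ker := ⟨_, rfl⟩
  obtain ⟨I, hI⟩ : ∃ I : Subgroup P, I = φ.range := ⟨_, rfl⟩
  have hKmem : ∀ x, x ∈ K ↔ x ^ p = 1 := by intro x; rw [hK, MonoidHom.mem_ker, hφ]
  have hImem : ∀ x, x ∈ I ↔ ∃ y, y ^ p = x := by
    intro x
    rw [hI, MonoidHom.mem_range]
    constructor
    · rintro ⟨y, hy⟩; exact ⟨y, by rw [← hφ]; exact hy⟩
    · rintro ⟨y, hy⟩; exact ⟨y, by rw [hφ]; exact hy⟩
  have hKI : Nat.card K * Nat.card I = p ^ 3 := by
    rw [hK, hI, ← Subgroup.index_ker, Subgroup.card_mul_index, hcard]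
  have hcharK : ∀ α : P ≃* P, ∀ x ∈ K, α x ∈ K := by
    intro α x hx
    rw [hKmem] at hx ⊢
    rw [← map_pow, hx, map_one]
  have hcharI : ∀ α : P ≃* P, ∀ x ∈ I, α x ∈ I := by
    intro α x hx
    rw [hImem] at hx ⊢
    obtain ⟨y, rfl⟩ := hx
    exact ⟨α y, by rw [map_pow]⟩
  have hkey : I ≠ ⊥ → I ⊓ K ≠ ⊥ := by
    intro hne hbot
    rcases Subgroup.bot_or_exists_ne_one I with h | ⟨y, hyI, hy1⟩
    · exact hne h
    have hstep : ∀ n : ℕ, y ^ (p ^ n) ≠ 1 := by
      intro n
      induction n with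
      | zero => rw [pow_zero, pow_one]; exact hy1
      | succ n ih =>
        intro h1
        apply ih
        have hmemI : y ^ (p ^ n) ∈ I := I.pow_mem hyI _
        have hmemK : y ^ (p ^ n) ∈ K := by
          rw [hKmem, ← pow_mul, ← pow_succ]; exact h1
        have h2 : y ^ (p ^ n) ∈ I ⊓ K := ⟨hmemI, hmemK⟩
        rw [hbot, Subgroup.mem_bot] at h2
        exact h2
    apply hstep 3
    rw [← hcard]; exact pow_card_eq_one'
  have hdvd : Nat.card I ∣ p ^ 3 := Dvd.intro_left _ hKI
  obtain ⟨m, hm, hIm⟩ := (Nat.dvd_prime_pow hpp).mp hdvd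
  have hppos : 0 < p := hpp.pos
  interval_cases m
  · -- `I = ⊥`
    left
    rw [pow_zero] at hIm
    have hIbot : I = ⊥ := Subgroup.card_eq_one.mp hIm
    intro x
    have h1 : x ^ p ∈ I := (hImem _).mpr ⟨x, rfl⟩
    rw [hIbot, Subgroup.mem_bot] at h1
    exact h1
  · -- `|I| = p`
    right
    rw [pow_one] at hIm
    have hKc : Nat.card K = p ^ 2 := by
      rw [hIm] at hKI
      have h1 : Nat.card K * p = p ^ 2 * p := by rw [hKI]; ring
      exact Nat.eq_of_mul_eq_mul_right hppos h1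
    have hIne : I ≠ ⊥ := by
      intro h
      rw [h, Subgroup.card_bot] at hIm
      exact hpp.one_lt.ne hIm
    have h2 : I ⊓ K = I := eq_of_le_of_ne_bot_of_card_prime hIm inf_le_left (hkey hIne)
    have hIK : I ≤ K := by rw [← h2]; exact inf_le_right
    exact charChain_of hcard I K hIm hKc hIK hcharI hcharK
  · -- `|I| = p²`
    right
    have hKc : Nat.card K = p := by
      rw [hIm] at hKI
      have h1 : Nat.card K * p ^ 2 = p * p ^ 2 := by rw [hKI]; ring
      exact Nat.eq_of_mul_eq_mul_right (pow_pos hppos 2) h1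
    have hIne : I ≠ ⊥ := by
      intro h
      rw [h, Subgroup.card_bot] at hIm
      have : 1 < p ^ 2 := Nat.one_lt_pow (by norm_num) hpp.one_lt
      omega
    have h2 : I ⊓ K = K := eq_of_le_of_ne_bot_of_card_prime hKc inf_le_right (hkey hIne)
    have hKI' : K ≤ I := by rw [← h2]; exact inf_le_left
    exact charChain_of hcard K I hKc hIm hKI' hcharK hcharI
  · -- `|I| = p³`
    exfalso
    have hKc : Nat.card K = 1 := by
      rw [hIm] at hKI
      have h1 : Nat.card K * p ^ 3 = 1 * p ^ 3 := by rw [hKI]; ring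
      exact Nat.eq_of_mul_eq_mul_right (pow_pos hppos 3) h1
    have hKbot : K = ⊥ := Subgroup.card_eq_one.mp hKc
    have hIne : I ≠ ⊥ := by
      intro h
      rw [h, Subgroup.card_bot] at hIm
      have : 1 < p ^ 3 := Nat.one_lt_pow (by norm_num) hpp.one_lt
      omega
    apply hkey hIne
    rw [hKbot]; exact inf_bot_eq _

/-- the centre of a nonabelian group of order `p³` has order `p` -/
theorem card_center_of_cube {p : ℕ} [hp : Fact p.Prime] [Finite P] (hcard : Nat.card P = p ^ 3)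
    (hnc : ¬ ∀ x y : P, x * y = y * x) : Nat.card (Subgroup.center P) = p := by
  have hpp := hp.out
  have hP : IsPGroup p P := IsPGroup.of_card hcard
  have hnt : Nontrivial P := by
    rw [← Finite.one_lt_card_iff_nontrivial, hcard]
    exact Nat.one_lt_pow (by norm_num) hpp.one_lt
  have hZnt : Nontrivial (Subgroup.center P) := hP.center_nontrivial
  have hdvd : Nat.card (Subgroup.center P) ∣ p ^ 3 := by
    rw [← hcard]; exact Subgroup.card_subgroup_dvd_card _
  obtain ⟨m, hm, hZ⟩ := (Nat.dvd_prime_pow hpp).mp hdvd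
  have hidx : Nat.card (Subgroup.center P) * (Subgroup.center P).index = p ^ 3 := by
    rw [Subgroup.card_mul_index, hcard]
  have hppos : 0 < p := hpp.pos
  interval_cases m
  · exfalso
    rw [pow_zero] at hZ
    have h1 := Finite.one_lt_card_iff_nontrivial.mpr hZnt
    omega
  · rw [hZ, pow_one]
  · exfalso
    rw [hZ] at hidx
    have h1 : (Subgroup.center P).index * p ^ 2 = p * p ^ 2 := by
      calc (Subgroup.center P).index * p ^ 2 = p ^ 2 * (Subgroup.center P).index := by ring
        _ = p ^ 3 := hidx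
        _ = p * p ^ 2 := by ring
    have hi : (Subgroup.center P).index = p := Nat.eq_of_mul_eq_mul_right (pow_pos hppos 2) h1
    exact Cfsg.Agent.Lib.Helper1.OrderP4.center_index_ne_prime hpp hi
  · exfalso
    have h1 : Subgroup.center P = ⊤ := by
      rw [← Subgroup.card_eq_iff_eq_top, hZ, hcard]
    exact hnc (Cfsg.Agent.Lib.Helper1.OrderP4.comm_of_center_eq_top h1)

/-- extraspecial groups of order `p³`, `p` odd -/
theorem extraspecial_cube_odd {p : ℕ} [hp : Fact p.Prime] [Finite P] (hcard : Nat.card P = p ^ 3)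
    (hes : Cfsg.IsExtraspecial p P) (hp2 : p ≠ 2) : (∀ x : P, x ^ p = 1) ∨ CharChain p P := by
  have hpp := hp.out
  by_cases hall : ∀ x : P, x ^ p = 1
  · exact Or.inl hall
  right
  obtain ⟨ψ, hψ⟩ : ∃ ψ : P →* Subgroup.center P, ∀ x, ((ψ x : Subgroup.center P) : P) = x ^ p :=
    ⟨Cfsg.Agent.Lib.Helper1.IsSpecial.powHom hp2 hes.1, fun x => rfl⟩
  have hrange : Nat.card ψ.range = p := by
    have h1 : ψ.range ≠ ⊥ := by
      intro hbot
      apply hall
      intro x
      have h2 : ψ x ∈ ψ.range := ⟨x, rfl⟩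
      rw [hbot, Subgroup.mem_bot] at h2
      rw [← hψ, h2]; rfl
    have h2 : Nat.card ψ.range ∣ p := by
      have h3 := Subgroup.card_subgroup_dvd_card ψ.range
      rwa [hes.2] at h3
    rcases (Nat.dvd_prime hpp).mp h2 with h3 | h3
    · exact absurd (Subgroup.card_eq_one.mp h3) h1
    · exact h3
  have hker : Nat.card ψ.ker = p ^ 2 := by
    have h1 : Nat.card ψ.ker * ψ.ker.index = Nat.card P := Subgroup.card_mul_index _
    rw [Subgroup.index_ker, hrange, hcard] at h1
    have h2 : Nat.card ψ.ker * p = p ^ 2 * p := by rw [h1]; ring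
    exact Nat.eq_of_mul_eq_mul_right hpp.pos h2
  have hZK : Subgroup.center P ≤ ψ.ker := by
    intro z hz
    rw [MonoidHom.mem_ker]
    apply Subtype.ext
    rw [hψ]
    have h1 : (⟨z, hz⟩ : Subgroup.center P) ^ p = 1 := by
      rw [← hes.2]; exact pow_card_eq_one'
    exact congrArg Subtype.val h1
  refine charChain_of hcard (Subgroup.center P) ψ.ker hes.2 hker hZK center_char ?_
  intro α x hx
  rw [MonoidHom.mem_ker] at hx ⊢
  apply Subtype.ext
  rw [hψ]
  have h1 : x ^ p = 1 := by rw [← hψ, hx]; rfl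
  show α x ^ p = 1
  rw [← map_pow, h1, map_one]

theorem mem_zpowers_four (h x : P) (hh : h ^ 4 = 1) (hx : x ∈ Subgroup.zpowers h) :
    x = 1 ∨ x = h ∨ x = h ^ 2 ∨ x = h ^ 3 := by
  obtain ⟨k, rfl⟩ := Subgroup.mem_zpowers_iff.1 hx
  have e : h ^ k = h ^ (k % 4) := by
    conv_lhs => rw [← Int.mul_ediv_add_emod k 4]
    rw [zpow_add, zpow_mul, zpow_ofNat, hh, one_zpow, one_mul]
  have h0 : 0 ≤ k % 4 := Int.emod_nonneg _ (by norm_num)
  have h3 : k % 4 < 4 := Int.emod_lt_of_pos _ (by norm_num)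
  rw [e]
  obtain ⟨r, hr⟩ : ∃ r : ℕ, k % 4 = r := ⟨(k % 4).toNat, (Int.toNat_of_nonneg h0).symm⟩
  rw [hr, zpow_natCast]
  have hr3 : r < 4 := by omega
  interval_cases r
  · left; exact pow_zero h
  · right; left; exact pow_one h
  · right; right; left; rfl
  · right; right; right; rfl

/-- extraspecial groups of order `8` -/
theorem extraspecial_cube_two [Finite P] (hcard : Nat.card P = 2 ^ 3)
    (hes : Cfsg.IsExtraspecial 2 P) : Nonempty (P ≃* QuaternionGroup 2) ∨ CharChain 2 P := by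
  haveI : Fact (Nat.Prime 2) := ⟨Nat.prime_two⟩
  obtain ⟨Z, hZdef⟩ : ∃ Z : Subgroup P, Z = Subgroup.center P := ⟨_, rfl⟩
  have hZ2 : Nat.card Z = 2 := by rw [hZdef]; exact hes.2
  have hsq : ∀ u : P, u ^ 2 ∈ Z := by
    intro u
    rw [hZdef, ← hes.1.2.1]
    exact Cfsg.Agent.Lib.Helper1.IsPGroup.pow_mem_frattini hes.1.1 u
  have hcm : ∀ u v : P, ⁅u, v⁆ ∈ Z := by
    intro u v
    rw [hZdef, ← hes.1.2.2, commutator_def]
    exact Subgroup.commutator_mem_commutator (Subgroup.mem_top u) (Subgroup.mem_top v)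
  have hZcomm : ∀ w ∈ Z, ∀ g : P, g * w = w * g := by
    intro w hw g
    rw [hZdef] at hw
    exact Subgroup.mem_center_iff.mp hw g
  -- the central involution
  obtain ⟨z, hzZ, hz1⟩ : ∃ z ∈ Z, z ≠ 1 := by
    rcases Subgroup.bot_or_exists_ne_one Z with h | h
    · rw [h, Subgroup.card_bot] at hZ2; omega
    · exact h
  have hZall : ∀ w ∈ Z, w = 1 ∨ w = z := by
    intro w hw
    obtain ⟨y₀, -, huniq⟩ := (Nat.card_eq_two_iff' (1 : Z)).mp hZ2
    by_cases hw1 : w = 1
    · exact Or.inl hw1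
    right
    have h1 : (⟨w, hw⟩ : Z) = y₀ := huniq _ (fun h => hw1 (congrArg Subtype.val h))
    have h2 : (⟨z, hzZ⟩ : Z) = y₀ := huniq _ (fun h => hz1 (congrArg Subtype.val h))
    exact congrArg Subtype.val (h1.trans h2.symm)
  have hzz : z ^ 2 = 1 := by
    have h1 : (⟨z, hzZ⟩ : Z) ^ 2 = 1 := by rw [← hZ2]; exact pow_card_eq_one'
    exact congrArg Subtype.val h1
  -- an element of order 4
  obtain ⟨x, hx2⟩ : ∃ x : P, x ^ 2 ≠ 1 := by
    by_contra hcon
    push Not at hcon
    have hinv : ∀ a : P, a⁻¹ = a := fun a =>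
      inv_eq_of_mul_eq_one_right (by rw [← pow_two]; exact hcon a)
    have hcomm : ∀ a b : P, a * b = b * a := by
      intro a b
      have h1 : (a * b)⁻¹ = a * b := hinv _
      rw [mul_inv_rev, hinv, hinv] at h1
      exact h1.symm
    have htop : Subgroup.center P = ⊤ := by
      rw [Subgroup.eq_top_iff']
      intro g
      rw [Subgroup.mem_center_iff]
      intro h; exact hcomm h g
    rw [hZdef, htop, Subgroup.card_top, hcard] at hZ2
    omega
  have hxz : x ^ 2 = z := by
    rcases hZall _ (hsq x) with h | h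
    · exact absurd h hx2
    · exact h
  have hx4 : x ^ 4 = 1 := by
    have : x ^ 4 = (x ^ 2) ^ 2 := by rw [← pow_mul]
    rw [this, hxz, hzz]
  have hxord : orderOf x = 4 := by
    have h := orderOf_eq_prime_pow (x := x) (p := 2) (n := 1) (by rw [pow_one]; exact hx2)
      (by norm_num; exact hx4)
    rw [h]; norm_num
  obtain ⟨C, hCdef⟩ : ∃ C : Subgroup P, C = Subgroup.zpowers x := ⟨_, rfl⟩
  have hC4 : Nat.card C = 4 := by rw [hCdef, Nat.card_zpowers, hxord]
  have hCidx : C.index = 2 := by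
    have h1 := Subgroup.card_mul_index C
    rw [hC4, hcard] at h1
    omega
  have hxC : x ∈ C := by rw [hCdef]; exact Subgroup.mem_zpowers x
  have hzC : z ∈ C := by rw [← hxz]; exact C.pow_mem hxC 2
  have hZC : Z ≤ C := by
    intro w hw
    rcases hZall w hw with h | h
    · rw [h]; exact C.one_mem
    · rw [h]; exact hzC
  have hCcomm : ∀ c ∈ C, c * x = x * c := by
    intro c hc
    rw [hCdef] at hc
    obtain ⟨k, rfl⟩ := Subgroup.mem_zpowers_iff.mp hc
    exact ((Commute.refl x).zpow_left k).eq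
  have hCel : ∀ c ∈ C, c = 1 ∨ c = x ∨ c = x ^ 2 ∨ c = x ^ 3 := by
    intro c hc
    rw [hCdef] at hc
    exact mem_zpowers_four x c hx4 hc
  have hxinv : x⁻¹ = x ^ 3 := by
    apply inv_eq_of_mul_eq_one_right
    rw [← pow_succ', hx4]
  have hxnZ : x ∉ Z := by
    intro h
    rcases hZall x h with h1 | h1
    · apply hx2; rw [h1, one_pow]
    · apply hx2; rw [h1]; exact hzz
  -- elements outside `C` invert `x`
  have N1 : ∀ y : P, y ∉ C → y * x * y⁻¹ = x⁻¹ := by
    intro y hy
    rcases hZall _ (hcm y x) with h | h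
    · exfalso
      have hyx : y * x = x * y := by
        rw [commutatorElement_def] at h
        calc y * x = (y * x * y⁻¹ * x⁻¹) * (x * y) := by group
          _ = x * y := by rw [h, one_mul]
      apply hxnZ
      rw [hZdef, Subgroup.mem_center_iff]
      intro g
      by_cases hg : g ∈ C
      · exact hCcomm g hg
      · have h1 : g * y ∈ C :=
          (Subgroup.mul_mem_iff_of_index_two hCidx).mpr ⟨fun h => absurd h hg, fun h => absurd h hy⟩
        have h2 := hCcomm _ h1
        calc g * x = (g * y) * (y⁻¹ * x) := by group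
          _ = (g * y) * (x * y⁻¹) := by
            have : y⁻¹ * x = x * y⁻¹ := by
              calc y⁻¹ * x = y⁻¹ * (x * y) * y⁻¹ := by group
                _ = y⁻¹ * (y * x) * y⁻¹ := by rw [hyx]
                _ = x * y⁻¹ := by group
            rw [this]
          _ = ((g * y) * x) * y⁻¹ := by group
          _ = (x * (g * y)) * y⁻¹ := by rw [h2]
          _ = x * g := by group
    · rw [commutatorElement_def] at h
      calc y * x * y⁻¹ = (y * x * y⁻¹ * x⁻¹) * x := by group
        _ = z * x := by rw [h]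
        _ = x ^ 3 := by rw [← hxz, ← pow_succ]
        _ = x⁻¹ := hxinv.symm
  have N2 : ∀ y : P, y ∉ C → ∀ c ∈ C, y * c * y⁻¹ = c⁻¹ := by
    intro y hy c hc
    rw [hCdef] at hc
    obtain ⟨k, rfl⟩ := Subgroup.mem_zpowers_iff.mp hc
    rw [← conj_zpow, N1 y hy, inv_zpow]
  by_cases hinv : ∃ y : P, y ∉ Z ∧ y ^ 2 = 1
  · -- dihedral case: `C` is characteristic
    right
    obtain ⟨y, hyZ, hy2⟩ := hinv
    have hyC : y ∉ C := by
      intro hy
      rcases hCel y hy with h | h | h | h
      · apply hyZ; rw [h]; exact Z.one_mem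
      · apply hx2; rw [← h]; exact hy2
      · apply hyZ; rw [h, hxz]; exact hzZ
      · apply hx2
        have h1 : (x ^ 3) ^ 2 = x ^ 2 := by
          calc (x ^ 3) ^ 2 = x ^ 4 * x ^ 2 := by rw [← pow_mul, ← pow_add]
            _ = x ^ 2 := by rw [hx4, one_mul]
        rw [← h1, ← h]; exact hy2
    have hyinv : y⁻¹ = y := inv_eq_of_mul_eq_one_right (by rw [← pow_two]; exact hy2)
    have hCall : ∀ u : P, u ^ 2 ≠ 1 → u ∈ C := by
      intro u hu
      by_contra huC
      apply hu
      have h1 : u * y ∈ C :=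
        (Subgroup.mul_mem_iff_of_index_two hCidx).mpr ⟨fun h => absurd h huC, fun h => absurd h hyC⟩
      have h2 := N2 y hyC _ h1
      -- `u = (u y) y`
      have h3 : u = (u * y) * y := by
        rw [mul_assoc, ← pow_two, hy2, mul_one]
      calc u ^ 2 = u * u := pow_two u
        _ = (u * y) * y * ((u * y) * y) := by rw [← h3]
        _ = (u * y) * (y * (u * y) * y⁻¹) * (y * y) := by group
        _ = (u * y) * (u * y)⁻¹ * (y * y) := by rw [h2]
        _ = 1 := by rw [mul_inv_cancel, one_mul, ← pow_two, hy2]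
    have hCchar : ∀ α : P ≃* P, ∀ c ∈ C, α c ∈ C := by
      intro α c hc
      have hαx : α x ∈ C := by
        apply hCall
        intro h
        apply hx2
        apply α.injective
        rw [map_pow, h, map_one]
      rw [hCdef] at hc
      obtain ⟨k, rfl⟩ := Subgroup.mem_zpowers_iff.mp hc
      rw [map_zpow]
      exact C.zpow_mem hαx k
    have hZchar : ∀ α : P ≃* P, ∀ w ∈ Z, α w ∈ Z := by
      intro α w hw
      rw [hZdef] at hw ⊢
      exact center_char α w hw
    exact charChain_of hcard Z C hZ2 (by rw [hC4]; norm_num) hZC hZchar hCchar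
  · -- quaternion case
    left
    push Not at hinv
    obtain ⟨y, hyC⟩ : ∃ y : P, y ∉ C := by
      by_contra hcon
      push Not at hcon
      have h1 : C = ⊤ := by rw [Subgroup.eq_top_iff']; exact hcon
      rw [h1, Subgroup.index_top] at hCidx
      omega
    have hyZ : y ∉ Z := fun h => hyC (hZC h)
    have hy2 : y ^ 2 = x ^ 2 := by
      rcases hZall _ (hsq y) with h | h
      · exact absurd h (hinv y hyZ)
      · rw [h, hxz]
    obtain ⟨f, hfa, hfx⟩ : ∃ f : QuaternionGroup 2 →* P,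
        f (QuaternionGroup.a 1) = x ∧ f (QuaternionGroup.xa 0) = y :=
      ⟨Cfsg.Agent.Lib.Helper3.QuatHom.quatHom x y hx4 hy2 (N1 y hyC),
        Cfsg.Agent.Lib.Helper3.QuatHom.quatHom_a_one x y hx4 hy2 (N1 y hyC),
        Cfsg.Agent.Lib.Helper3.QuatHom.quatHom_xa_zero x y hx4 hy2 (N1 y hyC)⟩
    have hCrange : ∀ c ∈ C, ∃ q, f q = c := by
      intro c hc
      rw [hCdef] at hc
      obtain ⟨k, rfl⟩ := Subgroup.mem_zpowers_iff.mp hc
      exact ⟨QuaternionGroup.a 1 ^ k, by rw [map_zpow, hfa]⟩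
    have hsurj : Function.Surjective f := by
      intro u
      by_cases hu : u ∈ C
      · exact hCrange u hu
      · have h1 : u * y ∈ C :=
          (Subgroup.mul_mem_iff_of_index_two hCidx).mpr ⟨fun h => absurd h hu, fun h => absurd h hyC⟩
        obtain ⟨q, hq⟩ := hCrange _ h1
        refine ⟨q * (QuaternionGroup.xa 0)⁻¹, ?_⟩
        rw [map_mul, map_inv, hq, hfx]
        group
    have hcardQ : Nat.card (QuaternionGroup 2) = 8 := by
      rw [Nat.card_eq_fintype_card, QuaternionGroup.card]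
    have hbij : Function.Bijective f :=
      hsurj.bijective_of_nat_card_le (by rw [hcardQ, hcard]; norm_num)
    exact ⟨(MulEquiv.ofBijective f hbij).symm⟩

end cube

end Cfsg.Agent.Lib.Helper27
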