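import Mathlib
import Cfsg.Agent.Lib.Helper27.SpOBDefs
import Cfsg.Agent.Lib.Helper27.S5666BSIEG

/-!
# S5666 CORE B, piece B-PERP (helper27): `Lk k = (Pk k)^⊥`, radical elements
-/

set_option autoImplicit false
set_option linter.unusedSectionVars false
set_option linter.unusedVariables false

namespace Cfsg.Agent.Lib.Helper27.S5666BPERP

open Matrix Module
open scoped Kronecker commutatorElement
open Cfsg.Agent.Lib.Helper16.Tens
open Cfsg.Agent.Lib.Helper23.S5637T3b (kronGL kronGL_val)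
open Cfsg.Agent.Lib.Helper3.SpT
open Cfsg.Agent.Lib.Helper27.SpOB

variable {F : Type*} [Field F] {a b : ℕ} {J1 : Matrix (Fin a) (Fin a) F} {J2 : Matrix (Fin b) (Fin b) F}

section forms
variable {κ : Type} [Fintype κ] [DecidableEq κ] {J : Matrix κ κ F}

theorem SymG.isUnit_det (hJ : SymG J) : IsUnit J.det := by
  rw [← Matrix.isUnit_iff_isUnit_det, ← Matrix.mulVec_injective_iff_isUnit]
  intro x y hxy
  have h : ∀ z, bf J (x - y) z = 0 := by
    intro z
    rw [hJ.symm]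
    unfold bf
    rw [Matrix.mulVec_sub, hxy, sub_self, dotProduct_zero]
  exact sub_eq_zero.mp (hJ.nondeg _ h)

/-- every functional is represented: `f(x, d) = x ⬝ᵥ φ` -/
theorem SymG.exists_dual_vec (hJ : SymG J) (φ : κ → F) : ∃ d : κ → F, ∀ x, bf J x d = x ⬝ᵥ φ := by
  refine ⟨J⁻¹ *ᵥ φ, fun x => ?_⟩
  unfold bf
  rw [Matrix.mulVec_mulVec, Matrix.mul_nonsing_inv _ (SymG.isUnit_det hJ), Matrix.one_mulVec]

end forms

/-- the tensor form is skew-symmetric -/
theorem bf_kron_skew (h1 : SympG J1) (hJ2 : SymG J2) (x y : Fin a × Fin b → F) :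
    bf (J1 ⊗ₖ J2) x y = - bf (J1 ⊗ₖ J2) y x := by
  refine pur_induction (p := fun x => bf (J1 ⊗ₖ J2) x y = - bf (J1 ⊗ₖ J2) y x) ?_ ?_ ?_ x
  · simp
  · intro x x' hx hx'
    rw [bf_add_left, bf_add_right, hx, hx']
    ring
  · intro u w
    refine pur_induction (p := fun y => bf (J1 ⊗ₖ J2) (pur u w) y = - bf (J1 ⊗ₖ J2) y (pur u w)) ?_ ?_ ?_ y
    · simp
    · intro y y' hy hy'
      rw [bf_add_left, bf_add_right, hy, hy']
      ring
    · intro u' w'
      rw [bf_kron_pur, bf_kron_pur, h1.skew u u', hJ2.symm w w']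
      ring

theorem Lk_le_Pk' (k : Fin b → F) (hk : bf J2 k k = 0) :
    Lk (F := F) (a := a) k ≤ Pk (a := a) J2 k := by
  intro v hv
  obtain ⟨u, rfl⟩ := (mem_Lk_iff k v).mp hv
  exact pur_mem_Pk u hk

/-- `Lk k = (Pk k)^⊥` (`k ≠ 0`) -/
theorem mem_Lk_of_perp (h1 : SympG J1) (hJ2 : SymG J2) (k : Fin b → F) (hk0 : k ≠ 0) (v : Fin a × Fin b → F)
    (h : ∀ p ∈ Pk (a := a) J2 k, bf (J1 ⊗ₖ J2) v p = 0) : v ∈ Lk (F := F) (a := a) k := by
  -- `ctr ψ v = 0` whenever `ψ ⬝ᵥ k = 0`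
  have hc1 : ∀ ψ : Fin b → F, ψ ⬝ᵥ k = 0 → ctr ψ v = 0 := by
    intro ψ hψ
    obtain ⟨d, hd⟩ := SymG.exists_dual_vec hJ2 ψ
    have hdk : bf J2 d k = 0 := by
      rw [hJ2.symm, hd, dotProduct_comm, hψ]
    have hJd : J2 *ᵥ d = ψ := by
      funext j
      have := hd (Pi.single j 1)
      unfold bf at this
      rwa [single_one_dotProduct, single_one_dotProduct] at this
    apply h1.nondeg
    intro u
    have := h (pur u d) (pur_mem_Pk u hdk)
    rwa [bf_kron_pur_right, hJd] at this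
  obtain ⟨j, hj⟩ : ∃ j, k j ≠ 0 := by
    by_contra hall; push Not at hall; exact hk0 (funext hall)
  set ψ0 : Fin b → F := Pi.single j (k j)⁻¹ with hψ0
  have hψ0k : ψ0 ⬝ᵥ k = 1 := by
    rw [hψ0, single_dotProduct, inv_mul_cancel₀ hj]
  rw [mem_Lk_iff]
  refine ⟨ctr ψ0 v, ?_⟩
  have hc2 : ∀ ψ : Fin b → F, ctr ψ (v - pur (ctr ψ0 v) k) = 0 := by
    intro ψ
    obtain ⟨c, hc⟩ : ∃ c, c = ψ ⬝ᵥ k := ⟨_, rfl⟩
    have h3 : ctr (ψ - c • ψ0) v = 0 := by
      apply hc1
      rw [sub_dotProduct, smul_dotProduct, hψ0k, smul_eq_mul, mul_one, hc, sub_self]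
    have h5 : ctr ψ v = c • ctr ψ0 v := by
      have e : ψ = (ψ - c • ψ0) + c • ψ0 := by abel
      rw [e, ctr_add, h3, zero_add, ctr_smul]
    rw [map_sub, ctr_pur, dotProduct_comm k ψ, ← hc, h5, sub_self]
  have h4 : v - pur (ctr ψ0 v) k = 0 := by
    funext ⟨i, j'⟩
    have := congrFun (hc2 (Pi.single j' 1)) i
    rw [ctr_apply] at this
    simp only [Pi.zero_apply] at this ⊢
    rw [Finset.sum_eq_single j'] at this
    · simpa using this
    · intro j'' _ hne
      simp [hne]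
    · simp
  exact sub_eq_zero.mp h4

theorem bf_act (g : GL (Fin a × Fin b) F) (hg : g ∈ IsoG (J1 ⊗ₖ J2)) (x y : Fin a × Fin b → F) :
    bf (J1 ⊗ₖ J2) (act g x) (act g y) = bf (J1 ⊗ₖ J2) x y := hg x y

theorem img_Pk_of_img_Lk (h1 : SympG J1) (hJ2 : SymG J2) (k : Fin b → F) (m : GL (Fin a × Fin b) F)
    (hm : m ∈ IsoG (J1 ⊗ₖ J2)) (hst : img m (Lk (F := F) (a := a) k) = Lk k) :
    img m (Pk (a := a) J2 k) = Pk (a := a) J2 k := by
  have hginv : m⁻¹ ∈ IsoG (J1 ⊗ₖ J2) := (IsoG (J1 ⊗ₖ J2)).inv_mem hm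
  ext v
  rw [mem_img_iff, mem_Pk_iff_perp h1, mem_Pk_iff_perp h1]
  constructor
  · intro hv u
    have hmem : pur u k ∈ img m (Lk (F := F) (a := a) k) := by rw [hst]; exact pur_mem_Lk u k
    rw [mem_img_iff, mem_Lk_iff] at hmem
    obtain ⟨u', hu'⟩ := hmem
    have := hv u'
    rw [← hu', bf_act m⁻¹ hginv] at this
    exact this
  · intro hv u
    have hmem : act m (pur u k) ∈ Lk (F := F) (a := a) k := by
      rw [← hst, mem_img_iff, act_inv_act]
      exact pur_mem_Lk u k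
    obtain ⟨u', hu'⟩ := (mem_Lk_iff _ _).mp hmem
    have := hv u'
    rw [← hu', ← bf_act m⁻¹ hginv, act_inv_act] at this
    exact this

theorem conj_inRad (h1 : SympG J1) (hJ2 : SymG J2) (k : Fin b → F) (m : GL (Fin a × Fin b) F)
    (hm : m ∈ IsoG (J1 ⊗ₖ J2)) (hst : img m (Lk (F := F) (a := a) k) = Lk k)
    (r : GL (Fin a × Fin b) F) (hr : InRad J2 k r) : InRad J2 k (m * r * m⁻¹) := by
  have hP := img_Pk_of_img_Lk h1 hJ2 k m hm hst
  constructor
  · intro x hx
    have hx' : act m⁻¹ x ∈ Lk (F := F) (a := a) k := by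
      rw [← hst, mem_img_iff] at hx
      exact hx
    rw [act_mul, act_mul, hr.fixL _ hx', act_act_inv]
  · intro x hx
    have hx' : act m⁻¹ x ∈ Pk (a := a) J2 k := by
      rw [← hP, mem_img_iff] at hx
      exact hx
    have h1' := hr.modL _ hx'
    have h2 : act m (act r (act m⁻¹ x) - act m⁻¹ x) ∈ Lk (F := F) (a := a) k := by
      rw [← hst]
      exact ⟨_, h1', rfl⟩
    rw [map_sub, act_act_inv] at h2
    rw [act_mul, act_mul]
    exact h2

theorem inRad_mul (k : Fin b → F) (hLP : Lk (F := F) (a := a) k ≤ Pk (a := a) J2 k)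
    (r r' : GL (Fin a × Fin b) F) (hr : InRad J2 k r) (hr' : InRad J2 k r') :
    InRad J2 k (r * r') := by
  constructor
  · intro x hx
    rw [act_mul, hr'.fixL x hx, hr.fixL x hx]
  · intro x hx
    have h1 := hr'.modL x hx
    have h2 : act r' x ∈ Pk (a := a) J2 k := by
      have : act r' x = (act r' x - x) + x := by abel
      rw [this]
      exact Submodule.add_mem _ (hLP h1) hx
    have h3 := hr.modL _ h2
    have : act (r * r') x - x = (act r (act r' x) - act r' x) + (act r' x - x) := by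
      rw [act_mul]; abel
    rw [this]
    exact Submodule.add_mem _ h3 h1

theorem inRad_inv (k : Fin b → F) (hLP : Lk (F := F) (a := a) k ≤ Pk (a := a) J2 k)
    (r : GL (Fin a × Fin b) F) (hr : InRad J2 k r) : InRad J2 k r⁻¹ := by
  constructor
  · intro x hx
    have := hr.fixL x hx
    conv_lhs => rw [← this]
    rw [act_inv_act]
  · intro x hx
    have h1 := hr.modL x hx
    -- `r⁻¹ x - x = -(r x - x)` since `r⁻¹` fixes `r x - x ∈ Lk`
    have h2 : act r⁻¹ (act r x - x) = act r x - x := by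
      have := hr.fixL _ h1
      conv_lhs => rw [← this]
      rw [act_inv_act]
    rw [map_sub, act_inv_act] at h2
    have : act r⁻¹ x - x = -(act r x - x) := by
      rw [← h2]; abel
    rw [this]
    exact Submodule.neg_mem _ h1

/-- a radical element on `Pk k`: `r v = v + l`, `l ∈ Lk k` fixed by every radical element -/
theorem comm_fix (k : Fin b → F) (hLP : Lk (F := F) (a := a) k ≤ Pk (a := a) J2 k)
    (r r' : GL (Fin a × Fin b) F) (hr : InRad J2 k r) (hr' : InRad J2 k r')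
    (v : Fin a × Fin b → F) (hv : v ∈ Pk (a := a) J2 k) : act ⁅r, r'⁆ v = v := by
  have hri := inRad_inv k hLP r hr
  have hr'i := inRad_inv k hLP r' hr'
  rw [commutatorElement_def, act_mul, act_mul, act_mul]
  -- step 1: `r'⁻¹ v = v + l1`
  obtain ⟨l1, hl1, e1⟩ : ∃ l1 ∈ Lk (F := F) (a := a) k, act r'⁻¹ v = v + l1 :=
    ⟨_, hr'i.modL v hv, by abel⟩
  obtain ⟨l2, hl2, e2⟩ : ∃ l2 ∈ Lk (F := F) (a := a) k, act r⁻¹ v = v + l2 :=
    ⟨_, hri.modL v hv, by abel⟩
  have e1' : act r' v = v - l1 := by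
    have := congrArg (act r') e1
    rw [act_act_inv, map_add, hr'.fixL l1 hl1] at this
    exact eq_sub_of_add_eq this.symm
  have e2' : act r v = v - l2 := by
    have := congrArg (act r) e2
    rw [act_act_inv, map_add, hr.fixL l2 hl2] at this
    exact eq_sub_of_add_eq this.symm
  have s2 : act r⁻¹ (v + l1) = v + l2 + l1 := by
    rw [map_add, e2, hri.fixL l1 hl1]
  have s3 : act r' (v + l2 + l1) = v + l2 := by
    rw [map_add, map_add, e1', hr'.fixL l2 hl2, hr'.fixL l1 hl1]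
    abel
  have s4 : act r (v + l2) = v := by
    rw [map_add, e2', hr.fixL l2 hl2]
    abel
  rw [e1, s2, s3, s4]

end Cfsg.Agent.Lib.Helper27.S5666BPERP
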