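import Mathlib
import Cfsg.Agent.Lib.Helper27.SpOBDefs
import Cfsg.Agent.Lib.Helper27.S5666BPERP

/-!
# S5666 CORE B, piece B-ZFIX (helper27): an isometry fixing `U ⊗ k0^⊥` pointwise is `zS A k0` with `A^* = -A`
-/

set_option autoImplicit false
set_option linter.unusedSectionVars false
set_option linter.unusedVariables false

namespace Cfsg.Agent.Lib.Helper27.S5666BZFIX

open Matrix Module
open scoped Kronecker commutatorElement
open Cfsg.Agent.Lib.Helper16.Tens
open Cfsg.Agent.Lib.Helper23.S5637T3b (kronGL kronGL_val)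
open Cfsg.Agent.Lib.Helper3.SpT
open Cfsg.Agent.Lib.Helper27.SpOB
open Cfsg.Agent.Lib.Helper27.S5666BPERP

variable {F : Type*} [Field F] {a b : ℕ} {J1 : Matrix (Fin a) (Fin a) F} {J2 : Matrix (Fin b) (Fin b) F}

/-- a vector pairing to `1` with `k` -/
theorem exists_pair_one (hJ2 : SymG J2) (k : Fin b → F) (hk0 : k ≠ 0) : ∃ k' : Fin b → F, bf J2 k k' = 1 := by
  by_contra hcon
  push Not at hcon
  apply hk0
  apply hJ2.nondeg
  intro y
  by_contra hy
  apply hcon ((bf J2 k y)⁻¹ • y)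
  rw [bf_smul_right, inv_mul_cancel₀ hy]

theorem gl_ext' {g h : GL (Fin a × Fin b) F} (H : ∀ v, act g v = act h v) : g = h := by
  apply Units.ext
  apply mat_ext_mulVec
  intro x
  exact H x

theorem eq_zS_of_fix_Pk (h2 : (2 : F) ≠ 0) (h1 : SympG J1) (hJ2 : SymG J2) (k0 : Fin b → F) (hk0 : k0 ≠ 0)
    (hk : bf J2 k0 k0 = 0) (z : GL (Fin a × Fin b) F) (hz : z ∈ IsoG (J1 ⊗ₖ J2))
    (hfix : ∀ v ∈ Pk (a := a) J2 k0, act z v = v) :
    ∃ A : Matrix (Fin a) (Fin a) F, adj J1 A = -A ∧ z = zS J2 A k0 hk := by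
  obtain ⟨k0', hk0'⟩ := exists_pair_one hJ2 k0 hk0
  have hk0'' : bf J2 k0' k0 = 1 := by rw [hJ2.symm, hk0']
  -- step 1
  have hL : ∀ v, act z v - v ∈ Lk (F := F) (a := a) k0 := by
    intro v
    apply mem_Lk_of_perp h1 hJ2 k0 hk0
    intro p hp
    rw [bf_sub_left]
    conv_lhs => rw [← hfix p hp]
    rw [bf_act z hz, hfix p hp, sub_self]
  -- the matrix `A`
  let φ : (Fin a → F) →ₗ[F] (Fin a → F) :=
    (ctr (a := a) (J2 *ᵥ k0')) ∘ₗ ((act z).toLinearMap - LinearMap.id) ∘ₗ (purL (F := F) (a := a) k0')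
  have hA : ∀ u, act z (pur u k0') = pur u k0' + pur (LinearMap.toMatrix' φ *ᵥ u) k0 := by
    intro u
    obtain ⟨x, hx⟩ := (mem_Lk_iff k0 _).mp (hL (pur u k0'))
    have hφ : LinearMap.toMatrix' φ *ᵥ u = x := by
      rw [← Matrix.toLin'_apply, Matrix.toLin'_toMatrix']
      change ctr (J2 *ᵥ k0') (act z (pur u k0') - pur u k0') = x
      rw [hx, ctr_J_pur, hk0', one_smul]
    rw [hφ, ← hx]
    abel
  refine ⟨LinearMap.toMatrix' φ, ?_, ?_⟩
  · -- skewness
    apply adj_unique h1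
    intro x y
    have h := bf_act z hz (pur x k0') (pur y k0')
    rw [hA x, hA y] at h
    simp only [bf_add_left, bf_add_right, bf_kron_pur, hk, hk0', hk0''] at h
    rw [Matrix.neg_mulVec, bf_neg_right]
    linear_combination h
  · apply gl_ext'
    intro v
    rw [act_zS]
    obtain ⟨w, hw⟩ : ∃ w, w = ctr (J2 *ᵥ k0) v := ⟨_, rfl⟩
    have hp : v - pur w k0' ∈ Pk (a := a) J2 k0 := by
      rw [mem_Pk_iff, map_sub, ctr_J_pur, hk0'', one_smul, hw, sub_self]
    have hv : v = (v - pur w k0') + pur w k0' := by abel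
    conv_lhs => rw [hv]
    rw [map_add, hfix _ hp, hA w, ← hw]
    abel

end Cfsg.Agent.Lib.Helper27.S5666BZFIX
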