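import Mathlib
import Cfsg.Agent.Lib.Helper27.SpOBDefs
import Cfsg.Agent.Lib.Helper27.S5666BZFIX

/-!
# S5666 CORE B, piece B-T3A (helper27), `a = 2`: a radical element of `M` outside `N0` yields a long root element
`zS A k0 ∈ M`, `A ≠ 0`, `A^* = -A`
-/

set_option autoImplicit false
set_option linter.unusedSectionVars false
set_option linter.unusedVariables false

namespace Cfsg.Agent.Lib.Helper27.S5666BT3A

open Matrix Module
open scoped Kronecker commutatorElement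
open Cfsg.Agent.Lib.Helper16.Tens
open Cfsg.Agent.Lib.Helper23.S5637T3b (kronGL kronGL_val)
open Cfsg.Agent.Lib.Helper3.SpT
open Cfsg.Agent.Lib.Helper27.SpOB
open Cfsg.Agent.Lib.Helper27.S5666BISO Cfsg.Agent.Lib.Helper27.S5666BSIEG
open Cfsg.Agent.Lib.Helper27.S5666BPERP Cfsg.Agent.Lib.Helper27.S5666BZFIX

variable {F : Type*} [Field F] {a b : ℕ} {J1 : Matrix (Fin a) (Fin a) F} {J2 : Matrix (Fin b) (Fin b) F}

/-- in dimension two a self-adjoint matrix (for an alternating form) is scalar -/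
theorem scalar_of_selfadj_two (h2 : (2 : F) ≠ 0) {J : Matrix (Fin 2) (Fin 2) F} (hJ : SympG J)
    (C : Matrix (Fin 2) (Fin 2) F) (hC : ∀ x y, bf J (C *ᵥ x) y = bf J x (C *ᵥ y)) :
    ∃ l : F, C = l • (1 : Matrix (Fin 2) (Fin 2) F) := by
  have h00 : J 0 0 = 0 := by
    have := hJ.alt (Pi.single 0 1); rwa [bf_single_single] at this
  have h11 : J 1 1 = 0 := by
    have := hJ.alt (Pi.single 1 1); rwa [bf_single_single] at this
  have h10 : J 1 0 = - J 0 1 := by
    have := hJ.skew (Pi.single 1 1) (Pi.single 0 1); rwa [bf_single_single, bf_single_single] at this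
  have hj : J 0 1 ≠ 0 := by
    intro h0
    have : (Pi.single 0 1 : Fin 2 → F) = 0 := by
      apply hJ.nondeg
      intro y
      unfold bf
      rw [single_one_dotProduct]
      simp [Matrix.mulVec, dotProduct, Fin.sum_univ_two, h00, h0]
    have := congrFun this 0
    simp at this
  have e00 := hC ![1, 0] ![1, 0]
  have e11 := hC ![0, 1] ![0, 1]
  have e01 := hC ![1, 0] ![0, 1]
  unfold bf at e00 e11 e01
  simp [Matrix.mulVec, dotProduct, Fin.sum_univ_two, h00, h11, h10] at e00 e11 e01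
  have hC10 : C 1 0 = 0 := by
    have : 2 * J 0 1 * C 1 0 = 0 := by linear_combination -e00
    rcases mul_eq_zero.mp this with h | h
    · exact absurd h (mul_ne_zero h2 hj)
    · exact h
  have hC01 : C 0 1 = 0 := by
    have : 2 * J 0 1 * C 0 1 = 0 := by linear_combination e11
    rcases mul_eq_zero.mp this with h | h
    · exact absurd h (mul_ne_zero h2 hj)
    · exact h
  have hC0011 : C 0 0 = C 1 1 := by
    have : J 0 1 * (C 0 0 - C 1 1) = 0 := by
      linear_combination e01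
    rcases mul_eq_zero.mp this with h | h
    · exact absurd h hj
    · exact sub_eq_zero.mp h
  refine ⟨C 0 0, ?_⟩
  ext i j
  fin_cases i <;> fin_cases j <;> simp [hC10, hC01, hC0011]

theorem scalar_of_selfadj (h2 : (2 : F) ≠ 0) (ha : a = 2) (h1 : SympG J1)
    (C : Matrix (Fin a) (Fin a) F) (hC : ∀ x y, bf J1 (C *ᵥ x) y = bf J1 x (C *ᵥ y)) :
    ∃ l : F, C = l • (1 : Matrix (Fin a) (Fin a) F) := by
  subst ha
  exact scalar_of_selfadj_two h2 h1 C hC

/-- the `U`-component of `(z - 1)(· ⊗ w)` -/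
noncomputable def Cm (J2 : Matrix (Fin b) (Fin b) F) (k0' : Fin b → F) (z : GL (Fin a × Fin b) F)
    (w : Fin b → F) : Matrix (Fin a) (Fin a) F :=
  LinearMap.toMatrix' ((ctr (a := a) (J2 *ᵥ k0')) ∘ₗ ((act z).toLinearMap - LinearMap.id) ∘ₗ
    (purL (F := F) (a := a) w))

theorem Cm_mulVec (k0' : Fin b → F) (z : GL (Fin a × Fin b) F) (w : Fin b → F) (u : Fin a → F) :
    Cm J2 k0' z w *ᵥ u = ctr (J2 *ᵥ k0') (act z (pur u w) - pur u w) := by
  unfold Cm
  rw [← Matrix.toLin'_apply, Matrix.toLin'_toMatrix']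
  rfl

theorem act_eq_of_inRad (hJ2 : SymG J2) (k0 k0' : Fin b → F) (hk0' : bf J2 k0 k0' = 1)
    (z : GL (Fin a × Fin b) F) (hr : InRad J2 k0 z) (w : Fin b → F) (hw : bf J2 w k0 = 0) (u : Fin a → F) :
    act z (pur u w) = pur u w + pur (Cm J2 k0' z w *ᵥ u) k0 := by
  obtain ⟨x, hx⟩ := (mem_Lk_iff k0 _).mp (hr.modL (pur u w) (pur_mem_Pk u hw))
  rw [Cm_mulVec, hx, ctr_J_pur, hk0', one_smul, ← hx]
  abel

theorem T3A (h2 : (2 : F) ≠ 0) (h1 : SympG J1) (hJ2 : SymG J2) (ha : a = 2) (hb : 5 ≤ b)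
    (M : Subgroup (GL (Fin a × Fin b) F)) (hM : Over J1 J2 M) (k0 : Fin b → F) (hk0 : k0 ≠ 0)
    (hk : bf J2 k0 k0 = 0) (z : GL (Fin a × Fin b) F) (hz : z ∈ M)
    (hzN : z ∉ Cfsg.Geo.kroneckerSubgroup a b F) (hr : InRad J2 k0 z) :
    ∃ A : Matrix (Fin a) (Fin a) F, A ≠ 0 ∧ adj J1 A = -A ∧ zS J2 A k0 hk ∈ M := by
  obtain ⟨k0', hk0'⟩ := exists_pair_one hJ2 k0 hk0
  have hk0'' : bf J2 k0' k0 = 1 := by rw [hJ2.symm, hk0']
  have hzi : z ∈ IsoG (J1 ⊗ₖ J2) := hM.le_Sp hz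
  have hLP : Lk (F := F) (a := a) k0 ≤ Pk (a := a) J2 k0 := Lk_le_Pk' k0 hk
  have hact := act_eq_of_inRad (a := a) hJ2 k0 k0' hk0' z hr
  have hzS0 : zS (a := a) J2 (0 : Matrix (Fin a) (Fin a) F) k0 hk = 1 := by
    apply Units.ext
    rw [zS_val, Matrix.zero_kronecker, add_zero, Units.val_one]
  by_cases hsc : ∀ w, bf J2 w k0 = 0 → ∃ l : F, Cm (a := a) J2 k0' z w = l • (1 : Matrix (Fin a) (Fin a) F)
  · -- case (ii): `z` agrees with some `s_c` on `Pk k0`
    have i0 : Fin a := ⟨0, by omega⟩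
    let e : Fin a → F := Pi.single i0 1
    let Φ : (Fin b → F) →ₗ[F] F :=
      (LinearMap.proj i0) ∘ₗ (ctr (a := a) (J2 *ᵥ k0')) ∘ₗ ((act z).toLinearMap - LinearMap.id) ∘ₗ
        (purR (F := F) (b := b) e)
    have hΦ : ∀ w, Φ w = (Cm (a := a) J2 k0' z w *ᵥ e) i0 := by
      intro w
      rw [Cm_mulVec]
      rfl
    obtain ⟨c, hc⟩ := SymG.exists_dual_vec hJ2 (fun j => - Φ (Pi.single j 1))
    have hc' : ∀ x, bf J2 x c = - Φ x := by
      intro x
      rw [hc x, LinearMap.pi_apply_eq_sum_univ Φ x]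
      simp only [dotProduct, mul_neg, Finset.sum_neg_distrib, smul_eq_mul]
      congr 1
      apply Finset.sum_congr rfl
      intro j _
      congr 2
      funext j'
      simp [Pi.single_apply, eq_comm]
    have hΦk0 : Φ k0 = 0 := by
      rw [hΦ, Cm_mulVec, hr.fixL _ (pur_mem_Lk e k0), sub_self, map_zero]
      rfl
    have hkc : bf J2 k0 c = 0 := by rw [hc', hΦk0, neg_zero]
    have hl : ∀ w, bf J2 w k0 = 0 → Cm (a := a) J2 k0' z w = (Φ w) • (1 : Matrix (Fin a) (Fin a) F) := by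
      intro w hw
      obtain ⟨l, hl⟩ := hsc w hw
      rw [hΦ, hl, Matrix.smul_mulVec, Matrix.one_mulVec]
      simp [e]
    have hsM : sieg (a := a) J2 h2 hJ2 k0 c hk hkc ∈ M :=
      hM.kron_mem _ (sieg_mem_kron h2 hJ2 k0 c hk hkc) (sieg_mem_IsoG h2 hJ2 k0 c hk hkc)
    have hagree : ∀ v ∈ Pk (a := a) J2 k0, act z v = act (sieg (a := a) J2 h2 hJ2 k0 c hk hkc) v := by
      intro v hv
      refine Pk_induction (J2 := J2) k0 (p := fun v => act z v = act (sieg (a := a) J2 h2 hJ2 k0 c hk hkc) v)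
        ?_ ?_ ?_ v hv
      · simp
      · intro x y hx hy
        rw [map_add, map_add, hx, hy]
      · intro u w hw
        rw [hact w hw u, hl w hw, act_sieg_of_mem_Pk h2 hJ2 k0 c hk hkc _ (pur_mem_Pk u hw), ctr_J_pur, hc',
          Matrix.smul_mulVec, Matrix.one_mulVec, pur_smul_left, pur_smul_left]
        module
    have hfix : ∀ v ∈ Pk (a := a) J2 k0, act ((sieg (a := a) J2 h2 hJ2 k0 c hk hkc)⁻¹ * z) v = v := by
      intro v hv
      rw [act_mul, hagree v hv, act_inv_act]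
    have hz'M : (sieg (a := a) J2 h2 hJ2 k0 c hk hkc)⁻¹ * z ∈ M := M.mul_mem (M.inv_mem hsM) hz
    obtain ⟨A, hA, hzA⟩ := eq_zS_of_fix_Pk h2 h1 hJ2 k0 hk0 hk _ (hM.le_Sp hz'M) hfix
    refine ⟨A, ?_, hA, by rw [← hzA]; exact hz'M⟩
    rintro rfl
    rw [hzS0] at hzA
    apply hzN
    have : z = sieg (a := a) J2 h2 hJ2 k0 c hk hkc := by
      rw [← mul_one (sieg (a := a) J2 h2 hJ2 k0 c hk hkc), ← hzA]
      group
    rw [this]
    exact sieg_mem_kron h2 hJ2 k0 c hk hkc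
  · -- case (i): a non-scalar component
    push Not at hsc
    obtain ⟨c, hck, hns⟩ := hsc
    have hkc : bf J2 k0 c = 0 := by rw [hJ2.symm, hck]
    have hsM : sieg (a := a) J2 h2 hJ2 k0 c hk hkc ∈ M :=
      hM.kron_mem _ (sieg_mem_kron h2 hJ2 k0 c hk hkc) (sieg_mem_IsoG h2 hJ2 k0 c hk hkc)
    have hsr := inRad_sieg (a := a) h2 hJ2 k0 c hk hkc
    have hxM : ⁅sieg (a := a) J2 h2 hJ2 k0 c hk hkc, z⁆ ∈ M := by
      rw [commutatorElement_def]
      exact M.mul_mem (M.mul_mem (M.mul_mem hsM hz) (M.inv_mem hsM)) (M.inv_mem hz)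
    have hfix : ∀ v ∈ Pk (a := a) J2 k0, act ⁅sieg (a := a) J2 h2 hJ2 k0 c hk hkc, z⁆ v = v :=
      fun v hv => comm_fix k0 hLP _ _ hsr hr v hv
    obtain ⟨A, hA, hxA⟩ := eq_zS_of_fix_Pk h2 h1 hJ2 k0 hk0 hk _ (hM.le_Sp hxM) hfix
    refine ⟨A, ?_, hA, by rw [← hxA]; exact hxM⟩
    rintro rfl
    rw [hzS0, commutatorElement_eq_one_iff_mul_comm] at hxA
    -- `s z = z s`; evaluate at `u ⊗ k0'`
    suffices hsa : ∀ u u', bf J1 (Cm (a := a) J2 k0' z c *ᵥ u) u' = bf J1 u (Cm (a := a) J2 k0' z c *ᵥ u') by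
      obtain ⟨l, hl⟩ := scalar_of_selfadj h2 ha h1 _ hsa
      exact hns l hl
    intro u u'
    -- `p := z (u ⊗ k0') - u ⊗ k0' ∈ Pk k0`
    obtain ⟨p, hp⟩ : ∃ p, p = act z (pur u k0') - pur u k0' := ⟨_, rfl⟩
    have hzp : act z (pur u k0') = pur u k0' + p := by rw [hp]; abel
    have hpP : p ∈ Pk (a := a) J2 k0 := by
      rw [mem_Pk_iff_perp h1]
      intro x
      rw [hp, bf_sub_left]
      conv_lhs => rw [← hr.fixL _ (pur_mem_Lk x k0)]
      rw [bf_act z hzi, hr.fixL _ (pur_mem_Lk x k0), sub_self]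
    have hpP' : ctr (J2 *ᵥ k0) p = 0 := (mem_Pk_iff k0 p).mp hpP
    -- the commutation relation at `u ⊗ k0'`
    have hcomm : act (sieg (a := a) J2 h2 hJ2 k0 c hk hkc) (act z (pur u k0')) =
        act z (act (sieg (a := a) J2 h2 hJ2 k0 c hk hkc) (pur u k0')) := by
      rw [← act_mul, ← act_mul, hxA]
    have hs1 : act (sieg (a := a) J2 h2 hJ2 k0 c hk hkc) (pur u k0') =
        pur u k0' + pur u c - (bf J2 k0' c + bf J2 c c / 2) • pur u k0 := by
      rw [act_sieg, hk0'']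
      simp only [one_smul, mul_one, pur_sub_right'', pur_add_right, pur_smul_right]
      module
    rw [hzp, map_add, hs1, act_sieg_of_mem_Pk h2 hJ2 k0 c hk hkc p hpP, map_sub, map_add, map_smul,
      hr.fixL _ (pur_mem_Lk u k0), hzp, hact c hck u] at hcomm
    have hkey : pur (Cm (a := a) J2 k0' z c *ᵥ u + ctr (J2 *ᵥ c) p) k0 = 0 := by
      rw [pur_add_left]
      linear_combination (exp := 1) -hcomm
    have hkey' : Cm (a := a) J2 k0' z c *ᵥ u = - ctr (J2 *ᵥ c) p := by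
      rcases pur_eq_zero hkey with h | h
      · exact eq_neg_of_add_eq_zero_left h
      · exact absurd h hk0
    -- the isometry relation
    have hiso := bf_act z hzi (pur u k0') (pur u' c)
    rw [hzp, hact c hck u'] at hiso
    simp only [bf_add_left, bf_add_right, bf_kron_pur_right, hpP', bf_zero_left, ctr_J_pur, hk0'', one_smul,
      add_zero] at hiso
    rw [hkey']
    rw [bf_neg_left]
    linear_combination (-1 : F) * hiso
where
  pur_sub_right'' {u : Fin a → F} {w w' : Fin b → F} : pur u (w - w') = pur u w - pur u w' := by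
    rw [sub_eq_add_neg, pur_add_right, pur_neg_right, ← sub_eq_add_neg]

end Cfsg.Agent.Lib.Helper27.S5666BT3A
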