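import Mathlib
import Cfsg.Agent.Lib.Helper27.SpOBDefs
import Cfsg.Agent.Lib.Helper27.S5666BISO

/-!
# S5666 CORE B, piece B-TRANS (helper27): `N0 ⊓ Sp(V)` is transitive on the standard totally isotropic subspaces `U ⊗ k`,
`k` singular (reflections of `W`)
-/

set_option autoImplicit false
set_option linter.unusedSectionVars false
set_option linter.unusedVariables false

namespace Cfsg.Agent.Lib.Helper27.S5666BTRANS

open Matrix Module
open scoped Kronecker commutatorElement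
open Cfsg.Agent.Lib.Helper16.Tens
open Cfsg.Agent.Lib.Helper23.S5637T3b (kronGL kronGL_val)
open Cfsg.Agent.Lib.Helper3.SpT
open Cfsg.Agent.Lib.Helper27.SpOB
open Cfsg.Agent.Lib.Helper27.S5666BISO

variable {F : Type*} [Field F] {a b : ℕ} {J1 : Matrix (Fin a) (Fin a) F} {J2 : Matrix (Fin b) (Fin b) F}

/-- the reflection `r_w : x ↦ x - (2 f(x,w)/f(w,w)) w` -/
noncomputable def reflM (J : Matrix (Fin b) (Fin b) F) (w : Fin b → F) : Matrix (Fin b) (Fin b) F :=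
  1 - (2 / bf J w w) • E J w w

theorem reflM_mulVec (J : Matrix (Fin b) (Fin b) F) (w x : Fin b → F) :
    reflM J w *ᵥ x = x - (2 / bf J w w * bf J x w) • w := by
  unfold reflM
  rw [Matrix.sub_mulVec, Matrix.one_mulVec, Matrix.smul_mulVec, E_mulVec, smul_smul]

theorem bf_reflM (hJ2 : SymG J2) (w : Fin b → F) (hw : bf J2 w w ≠ 0) (x y : Fin b → F) :
    bf J2 (reflM J2 w *ᵥ x) (reflM J2 w *ᵥ y) = bf J2 x y := by
  rw [reflM_mulVec, reflM_mulVec]
  simp only [bf_sub_left, bf_sub_right, bf_smul_left, bf_smul_right]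
  rw [hJ2.symm w y]
  field_simp
  ring

theorem reflM_mul_self (hJ2 : SymG J2) (w : Fin b → F) (hw : bf J2 w w ≠ 0) :
    reflM J2 w * reflM J2 w = 1 := by
  apply mat_ext_mulVec
  intro x
  rw [← Matrix.mulVec_mulVec, reflM_mulVec, reflM_mulVec, Matrix.one_mulVec]
  simp only [bf_sub_left, bf_smul_left]
  have : (2 / bf J2 w w * (bf J2 x w - 2 / bf J2 w w * bf J2 x w * bf J2 w w)) =
      - (2 / bf J2 w w * bf J2 x w) := by
    field_simp
    ring
  rw [this]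
  module

/-- the reflection as an element of `GL` -/
noncomputable def reflGL (hJ2 : SymG J2) (w : Fin b → F) (hw : bf J2 w w ≠ 0) : GL (Fin b) F :=
  ⟨reflM J2 w, reflM J2 w, reflM_mul_self hJ2 w hw, reflM_mul_self hJ2 w hw⟩

theorem reflGL_val (hJ2 : SymG J2) (w : Fin b → F) (hw : bf J2 w w ≠ 0) :
    ((reflGL hJ2 w hw : GL (Fin b) F) : Matrix (Fin b) (Fin b) F) = reflM J2 w := rfl

/-- `r_{k - k'}` maps `k` to `k'` for singular `k`, `k'` with `f(k,k') ≠ 0` -/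
theorem reflM_map (h2 : (2 : F) ≠ 0) (hJ2 : SymG J2) (k k' : Fin b → F) (hk : bf J2 k k = 0)
    (hk' : bf J2 k' k' = 0) (hkk' : bf J2 k k' ≠ 0) :
    bf J2 (k - k') (k - k') ≠ 0 ∧ reflM J2 (k - k') *ᵥ k = k' := by
  have hsym : bf J2 k' k = bf J2 k k' := hJ2.symm _ _
  have hww : bf J2 (k - k') (k - k') = -2 * bf J2 k k' := by
    simp only [bf_sub_left, bf_sub_right, hk, hk', hsym]
    ring
  have hne : bf J2 (k - k') (k - k') ≠ 0 := by
    rw [hww]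
    exact mul_ne_zero (neg_ne_zero.mpr h2) hkk'
  refine ⟨hne, ?_⟩
  rw [reflM_mulVec, hww]
  simp only [bf_sub_right, hk]
  have : (2 / (-2 * bf J2 k k') * (0 - bf J2 k k')) = 1 := by
    field_simp
    ring
  rw [this, one_smul]
  abel

/-- the image of `U ⊗ k` under `A ⊗ β` -/
theorem img_kronGL_Lk (A : GL (Fin a) F) (B : GL (Fin b) F) (k : Fin b → F) :
    img (kronGL A B) (Lk (F := F) (a := a) k) = Lk ((B : Matrix (Fin b) (Fin b) F) *ᵥ k) := by
  ext v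
  rw [mem_img_iff, mem_Lk_iff, mem_Lk_iff]
  constructor
  · rintro ⟨u, hu⟩
    refine ⟨(A : Matrix (Fin a) (Fin a) F) *ᵥ u, ?_⟩
    rw [← act_kronGL, ← hu, act_act_inv]
  · rintro ⟨u, rfl⟩
    refine ⟨((A⁻¹ : GL (Fin a) F) : Matrix (Fin a) (Fin a) F) *ᵥ u, ?_⟩
    have : pur u ((B : Matrix (Fin b) (Fin b) F) *ᵥ k) =
        act (kronGL A B) (pur (((A⁻¹ : GL (Fin a) F) : Matrix (Fin a) (Fin a) F) *ᵥ u) k) := by
      rw [act_kronGL, Matrix.mulVec_mulVec, ← Units.val_mul, mul_inv_cancel, Units.val_one, Matrix.one_mulVec]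
    rw [this, act_inv_act]

/-- one step: singular `k`, `k'` with `f(k,k') ≠ 0` -/
theorem step (h2 : (2 : F) ≠ 0) (hJ2 : SymG J2) (k k' : Fin b → F) (hk : bf J2 k k = 0)
    (hk' : bf J2 k' k' = 0) (hkk' : bf J2 k k' ≠ 0) :
    ∃ n : GL (Fin a × Fin b) F, n ∈ Cfsg.Geo.kroneckerSubgroup a b F ∧ n ∈ IsoG (J1 ⊗ₖ J2) ∧
      img n (Lk (F := F) (a := a) k) = Lk k' := by
  obtain ⟨hne, hmap⟩ := reflM_map h2 hJ2 k k' hk hk' hkk'
  refine ⟨kronGL 1 (reflGL hJ2 (k - k') hne), ⟨1, reflGL hJ2 (k - k') hne, rfl⟩, ?_, ?_⟩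
  · apply kron_mem_IsoG (J1 := J1) 1 (reflGL hJ2 (k - k') hne) 1 one_ne_zero
    · intro x y
      rw [Units.val_one, Matrix.one_mulVec, Matrix.one_mulVec, one_mul]
    · intro x y
      rw [reflGL_val, bf_reflM hJ2 _ hne, inv_one, one_mul]
  · rw [img_kronGL_Lk, reflGL_val, hmap]

theorem exists_kron_img_Lk (h2 : (2 : F) ≠ 0) (hJ2 : SymG J2) (k k' : Fin b → F) (hk0 : k ≠ 0) (hk'0 : k' ≠ 0)
    (hk : bf J2 k k = 0) (hk' : bf J2 k' k' = 0) :
    ∃ n : GL (Fin a × Fin b) F, n ∈ Cfsg.Geo.kroneckerSubgroup a b F ∧ n ∈ IsoG (J1 ⊗ₖ J2) ∧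
      img n (Lk (F := F) (a := a) k) = Lk k' := by
  by_cases hkk' : bf J2 k k' = 0
  · -- a singular `k''` not orthogonal to `k` and `k'`
    obtain ⟨x1, hx1⟩ : ∃ x, bf J2 k x ≠ 0 := by
      by_contra hcon; push Not at hcon; exact hk0 (hJ2.nondeg k hcon)
    obtain ⟨x2, hx2⟩ : ∃ x, bf J2 k' x ≠ 0 := by
      by_contra hcon; push Not at hcon; exact hk'0 (hJ2.nondeg k' hcon)
    obtain ⟨x, hxk, hxk'⟩ : ∃ x, bf J2 k x ≠ 0 ∧ bf J2 k' x ≠ 0 := by
      by_cases h1 : bf J2 k' x1 = 0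
      · by_cases h3 : bf J2 k x2 = 0
        · refine ⟨x1 + x2, ?_, ?_⟩
          · rw [bf_add_right, h3, add_zero]; exact hx1
          · rw [bf_add_right, h1, zero_add]; exact hx2
        · exact ⟨x2, h3, hx2⟩
      · exact ⟨x1, hx1, h1⟩
    obtain ⟨k'', hk''⟩ : ∃ k'', k'' = x - (bf J2 x x / (2 * bf J2 k x)) • k := ⟨_, rfl⟩
    have hsym : bf J2 x k = bf J2 k x := hJ2.symm _ _
    have hk''s : bf J2 k'' k'' = 0 := by
      rw [hk'']
      simp only [bf_sub_left, bf_sub_right, bf_smul_left, bf_smul_right, hk, hsym]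
      field_simp
      ring
    have hkk'' : bf J2 k k'' ≠ 0 := by
      rw [hk'', bf_sub_right, bf_smul_right, hk, mul_zero, sub_zero]
      exact hxk
    have hk'k'' : bf J2 k'' k' ≠ 0 := by
      rw [hJ2.symm, hk'', bf_sub_right, bf_smul_right, hJ2.symm k' k, hkk', mul_zero, sub_zero]
      exact hxk'
    obtain ⟨n1, hn1k, hn1i, hn1⟩ := step (a := a) (J1 := J1) h2 hJ2 k k'' hk hk''s hkk''
    obtain ⟨n2, hn2k, hn2i, hn2⟩ := step (a := a) (J1 := J1) h2 hJ2 k'' k' hk''s hk' hk'k''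
    refine ⟨n2 * n1, Subgroup.mul_mem _ hn2k hn1k, Subgroup.mul_mem _ hn2i hn1i, ?_⟩
    rw [img_mul, hn1, hn2]
  · exact step h2 hJ2 k k' hk hk' hkk'

end Cfsg.Agent.Lib.Helper27.S5666BTRANS
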