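import Mathlib
import Cfsg.Agent.Lib.Helper27.SpOBDefs
import Cfsg.Agent.Lib.Helper27.S5666BISO
import Cfsg.Agent.Lib.Helper27.S5666BSIEG
import Cfsg.Agent.Lib.Helper27.S5666BPERP
import Cfsg.Agent.Lib.Helper27.S5666BZFIX
import Cfsg.Agent.Lib.Helper27.S5666BT3A
import Cfsg.Agent.Lib.Helper27.S5666BTRANS
import Cfsg.Agent.Lib.Helper1.S5666BT1Final
import Cfsg.Agent.Lib.Helper21.S5666BDECOMP
import Cfsg.Agent.Lib.Helper26.S5666BT3c
import Cfsg.Agent.Lib.Helper13.TensSODefs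

/-!
# S5666 CORE B (helper27, sub-architect): `a = 2`, `b ≥ 7`.  Assembly of the farmed-out pieces
(helper1: GEO, SING, RANK, T1; helper21: DECOMP; helper26: T3c; helper27: ISO, SIEG, PERP, ZFIX, T3A, TRANS)
and the adapter to helper13's top-level interface `core_a2`.
-/

set_option autoImplicit false
set_option linter.unusedSectionVars false
set_option linter.unusedVariables false

namespace Cfsg.Agent.Lib.Helper27.S5666CoreB

open Matrix Module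
open scoped Kronecker commutatorElement
open Cfsg.Agent.Lib.Helper16.Tens
open Cfsg.Agent.Lib.Helper23.S5637T3b (kronGL kronGL_val)
open Cfsg.Agent.Lib.Helper3.SpT
open Cfsg.Agent.Lib.Helper27.SpOB
open Cfsg.Agent.Lib.Helper27.S5666BISO Cfsg.Agent.Lib.Helper27.S5666BSIEG
open Cfsg.Agent.Lib.Helper27.S5666BPERP Cfsg.Agent.Lib.Helper27.S5666BZFIX

variable {F : Type*} [Field F] {a b : ℕ} {J1 : Matrix (Fin a) (Fin a) F} {J2 : Matrix (Fin b) (Fin b) F}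

/-- **T2** -/
theorem T2 (h2 : (2 : F) ≠ 0) (h1 : SympG J1) (hJ2 : SymG J2) (ha : 1 ≤ a) (hb : 5 ≤ b)
    (M : Subgroup (GL (Fin a × Fin b) F)) (hM : Over J1 J2 M) (k0 : Fin b → F) (hk0 : k0 ≠ 0)
    (hk : bf J2 k0 k0 = 0) (m : GL (Fin a × Fin b) F) (hm : m ∈ M)
    (hmN : m ∉ Cfsg.Geo.kroneckerSubgroup a b F) (hst : img m (Lk (F := F) (a := a) k0) = Lk k0) :
    ∃ z ∈ M, z ∉ Cfsg.Geo.kroneckerSubgroup a b F ∧ InRad J2 k0 z := by
  have hmi : m ∈ IsoG (J1 ⊗ₖ J2) := hM.le_Sp hm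
  by_cases hex : ∃ (c : Fin b → F) (hc : bf J2 k0 c = 0),
      m * sieg (a := a) J2 h2 hJ2 k0 c hk hc * m⁻¹ ∉ Cfsg.Geo.kroneckerSubgroup a b F
  · obtain ⟨c, hc, hcN⟩ := hex
    refine ⟨_, ?_, hcN, conj_inRad h1 hJ2 k0 m hmi hst _ (inRad_sieg h2 hJ2 k0 c hk hc)⟩
    exact M.mul_mem (M.mul_mem hm (hM.kron_mem _ (sieg_mem_kron h2 hJ2 k0 c hk hc)
      (sieg_mem_IsoG h2 hJ2 k0 c hk hc))) (M.inv_mem hm)
  · push Not at hex
    obtain ⟨h, hhk, hhi, hrad⟩ :=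
      Cfsg.Agent.Lib.Helper21.S5666BDECOMP.decomp h2 h1 hJ2 ha hb k0 hk0 hk m hmi hst hex
    have hhM : h ∈ M := hM.kron_mem h hhk hhi
    refine ⟨h⁻¹ * m, M.mul_mem (M.inv_mem hhM) hm, ?_, hrad⟩
    intro hzk
    apply hmN
    have : m = h * (h⁻¹ * m) := by group
    rw [this]
    exact Subgroup.mul_mem _ hhk hzk

/-- **CORE B**: an overgroup of `N0 ⊓ Sp(V)` in `Sp(V)` not contained in `N0` contains a full transvection group whose centre
is a pure tensor `u ⊗ k0`, `k0` singular -/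
theorem coreB [Fintype F] (h2 : (2 : F) ≠ 0) (h1 : SympG J1) (hJ2 : SymG J2) (ha : a = 2) (hb : 7 ≤ b)
    (M : Subgroup (GL (Fin a × Fin b) F)) (hM : Over J1 J2 M)
    (hnot : ¬ M ≤ Cfsg.Geo.kroneckerSubgroup a b F) :
    ∃ (k0 : Fin b → F) (hk : bf J2 k0 k0 = 0) (u : Fin a → F), k0 ≠ 0 ∧ u ≠ 0 ∧
      ∀ c : F, zS J2 (c • E J1 u u) k0 hk ∈ M := by
  by_cases hA : HypL J2 M
  · exact absurd (Cfsg.Agent.Lib.Helper1.S5666BT1.T1 h2 h1 hJ2 (by omega) (by omega) M hM hA) hnot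
  · unfold HypL at hA
    push Not at hA
    obtain ⟨m, hm, k, k', hk0, hk'0, hk, hk', himg, hmN⟩ := hA
    obtain ⟨n, hnk, hni, hn⟩ :=
      Cfsg.Agent.Lib.Helper27.S5666BTRANS.exists_kron_img_Lk (a := a) (J1 := J1) h2 hJ2 k k' hk0 hk'0 hk hk'
    have hnM : n ∈ M := hM.kron_mem n hnk hni
    have hst : img (n * m) (Lk (F := F) (a := a) k') = Lk k' := by
      rw [img_mul, himg, hn]
    have hnmN : n * m ∉ Cfsg.Geo.kroneckerSubgroup a b F := by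
      intro hcon
      apply hmN
      have : m = n⁻¹ * (n * m) := by group
      rw [this]
      exact Subgroup.mul_mem _ (Subgroup.inv_mem _ hnk) hcon
    obtain ⟨z, hzM, hzN, hzr⟩ := T2 h2 h1 hJ2 (by omega) (by omega) M hM k' hk'0 hk' (n * m)
      (M.mul_mem hnM hm) hnmN hst
    obtain ⟨A, hA0, hAs, hAM⟩ :=
      Cfsg.Agent.Lib.Helper27.S5666BT3A.T3A h2 h1 hJ2 ha (by omega) M hM k' hk'0 hk' z hzM hzN hzr
    obtain ⟨u, hu0, hu⟩ := Cfsg.Agent.Lib.Helper26.S5666BT3c.T3c h2 h1 hJ2 M hM k' hk' A hA0 hAs hAM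
    exact ⟨k', hk', u, hk'0, hu0, hu⟩

/-! ## the adapter to helper13's top level (`Cfsg.Agent.Lib.Helper13.TensSO`) -/

open Cfsg.Agent.Lib.Helper13.TensSO in
/-- helper13's `core_a2` (exact signature of notes/S5666Skel_helper13.lean.txt, rev 2) -/
theorem core_a2 [Fintype F] {M : Subgroup (GL (Fin a × Fin b) F)} (hS : SetupSO J1 J2) (ha : a = 2) (hb : 7 ≤ b)
    (hM : OverS J1 J2 M) :
    M ≤ Cfsg.Geo.kroneckerSubgroup a b F ∨ ∃ (u : Fin a → F) (w : Fin b → F), u ≠ 0 ∧ w ≠ 0 ∧ bf J2 w w = 0 ∧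
      ∀ (c : F) (t : GL (Fin a × Fin b) F), IsTv (J1 ⊗ₖ J2) (pur u w) c t → t ∈ M := by
  by_cases hnot : M ≤ Cfsg.Geo.kroneckerSubgroup a b F
  · exact Or.inl hnot
  · right
    have hJ2 : SymG J2 := ⟨hS.h2.symm, hS.h2.nondeg⟩
    have hM' : Over J1 J2 M := ⟨fun g hg => hM.le_iso hg, fun g hgk hgi => hM.kron_mem g hgk hgi⟩
    obtain ⟨k0, hk, u, hk0, hu0, hall⟩ := coreB hS.two hS.h1 hJ2 ha hb M hM' hnot
    refine ⟨u, k0, hu0, hk0, hk, ?_⟩
    intro c t ht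
    have : t = zS J2 (c • E J1 u u) k0 hk := by
      apply Units.ext
      apply mat_ext_mulVec
      intro v
      rw [ht v, zS_transv, Matrix.add_mulVec, Matrix.one_mulVec, Matrix.smul_mulVec, E_mulVec, smul_smul]
    rw [this]
    exact hall c

end Cfsg.Agent.Lib.Helper27.S5666CoreB
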