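import Mathlib
import Cfsg.Agent.Lib.Helper13.TensSODefs
import Cfsg.Agent.Lib.Helper13.TensSOCompat
import Cfsg.Agent.Lib.Helper13.S5666T4
import Cfsg.Agent.Lib.Helper13.S5666FOAPI

/-!
# S5666, STRICT (helper27): `N0 ⊓ IsoG < IsoG`

Witness: the transvection `t` with pure centre `u ⊗ w`.  It maps `u' ⊗ w'` (`f₁(u',u) ≠ 0`, `f₂(w',w) ≠ 0`, `w'` not a multiple
of `w`) to the tensor `u' ⊗ w' + c • u ⊗ w` of rank two, whereas a Kronecker product maps pure tensors to pure tensors.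
-/

set_option autoImplicit false
set_option linter.unusedSectionVars false
set_option linter.unusedVariables false

namespace Cfsg.Agent.Lib.Helper27.S5666FOSTRICT

open Matrix Module
open Cfsg.Agent.Lib.Helper16.Tens Cfsg.Agent.Lib.Helper10.TensFund Cfsg.Agent.Lib.Helper13.TensSO
open Cfsg.Agent.Lib.Helper28.TensU (ctrL ctrL_apply ctrL_pur hypL mem_hypL_iff ptL mem_ptL_iff pur_mem_ptL rootGLL
  rootGLL_val act_rootGLL rootGLL_mem_SL rootGLL_mem_kron)
open Cfsg.Agent.Lib.Helper3.SpT (bf SympG bf_add_left bf_add_right bf_smul_left bf_smul_right bf_kron_pur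
  bf_zero_left bf_zero_right bf_neg_left bf_neg_right bf_sub_left bf_sub_right)
open Cfsg.Agent.Lib.Helper13 Cfsg.Agent.Lib.Helper20
open scoped Kronecker

variable {F : Type*} [Field F] {a b : ℕ}
variable {J1 : Matrix (Fin a) (Fin a) F} {J2 : Matrix (Fin b) (Fin b) F}

local notation "K" => Cfsg.Geo.kroneckerSubgroup a b F
local notation "V" => (Fin a × Fin b → F)

/-- a transvection of an alternating form is an isometry -/
theorem isTv_mem_IsoG (hS : SetupSO J1 J2) (x : V) (c : F) (t : GL (Fin a × Fin b) F)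
    (ht : IsTv (J1 ⊗ₖ J2) x c t) : t ∈ IsoG (J1 ⊗ₖ J2) := by
  intro v v'
  rw [ht v, ht v', bf_add_left, bf_add_right, bf_add_right, bf_smul_left, bf_smul_left, bf_smul_right,
    bf_smul_right, S5666T4.bf_kron_alt hS x, S5666T4.bf_kron_skew hS x v']
  ring

/-- a vector `w'` with `f₂(w',w) ≠ 0` which is not a multiple of `w` -/
theorem exists_indep_ne (hJ2 : OrthG J2) (hb : 2 ≤ b) (w : Fin b → F) (hw : w ≠ 0) :
    ∃ w' : Fin b → F, bf J2 w' w ≠ 0 ∧ ∀ d : F, w' ≠ d • w := by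
  -- a vector outside the line of `w`
  obtain ⟨w2, hw2⟩ : ∃ w2 : Fin b → F, ∀ d : F, w2 ≠ d • w := by
    by_contra hcon
    push Not at hcon
    have hle : (⊤ : Submodule F (Fin b → F)) ≤ Submodule.span F {w} := by
      intro v _
      obtain ⟨d, hd⟩ := hcon v
      rw [hd]
      exact Submodule.smul_mem _ _ (Submodule.subset_span rfl)
    have h1 := Submodule.finrank_mono hle
    rw [finrank_top, Module.finrank_fin_fun, finrank_span_singleton hw] at h1
    omega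
  -- a vector non-orthogonal to `w`
  obtain ⟨w0, hw0⟩ : ∃ w0 : Fin b → F, bf J2 w0 w ≠ 0 := by
    by_contra hcon
    push Not at hcon
    apply hw
    apply hJ2.nondeg w
    intro y
    rw [hJ2.symm]
    exact hcon y
  by_cases h2 : bf J2 w2 w = 0
  · by_cases h0 : ∃ d : F, w0 = d • w
    · obtain ⟨d, hd⟩ := h0
      refine ⟨w0 + w2, ?_, ?_⟩
      · rw [bf_add_left, h2, add_zero]
        exact hw0
      · intro d' hd'
        apply hw2 (d' - d)
        rw [sub_smul, ← hd', hd]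
        abel
    · push Not at h0
      exact ⟨w0, hw0, h0⟩
  · exact ⟨w2, h2, hw2⟩

/-- the transvection with centre `u ⊗ w` is not a Kronecker product -/
theorem isTv_pur_not_mem_kron (hS : SetupSO J1 J2) (hb : 2 ≤ b) (u : Fin a → F) (w : Fin b → F)
    (hu : u ≠ 0) (hw : w ≠ 0) (t : GL (Fin a × Fin b) F) (ht : IsTv (J1 ⊗ₖ J2) (pur u w) 1 t) :
    t ∉ K := by
  intro hK
  rw [mem_kron_iff] at hK
  obtain ⟨A, B, hAB⟩ := hK
  obtain ⟨u', hu'⟩ := S5666API.exists_bf_eq_one hS.h1 u hu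
  obtain ⟨w', hw', hind⟩ := exists_indep_ne hS.h2 hb w hw
  have h1 := ht (pur u' w')
  rw [hAB, kron_mulVec_pur, bf_kron_pur, hu', one_mul, one_mul] at h1
  set y := (A : Matrix (Fin a) (Fin a) F) *ᵥ u' with hy
  set z := (B : Matrix (Fin b) (Fin b) F) *ᵥ w' with hz
  -- contract with `J1 u` and with `J1 u'`
  have h2 := congrArg (ctrL (b := b) (J1 *ᵥ u)) h1
  have h3 := congrArg (ctrL (b := b) (J1 *ᵥ u')) h1
  rw [map_add, map_smul, SpO.ctrL_J_pur, SpO.ctrL_J_pur, SpO.ctrL_J_pur, hu', hS.h1.alt, zero_smul, smul_zero,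
    add_zero, one_smul] at h2
  rw [map_add, map_smul, SpO.ctrL_J_pur, SpO.ctrL_J_pur, SpO.ctrL_J_pur, hS.h1.alt, zero_smul, zero_add,
    hS.h1.skew u u', hu'] at h3
  -- `h2 : bf J1 y u • z = w'`, `h3 : bf J1 y u' • z = bf J2 w' w • -1 • w`
  have hyu : bf J1 y u ≠ 0 := by
    intro h0
    rw [h0, zero_smul] at h2
    apply hind 0
    rw [zero_smul]
    exact h2.symm
  have hz' : z = (bf J1 y u)⁻¹ • w' := by
    rw [← h2, smul_smul, inv_mul_cancel₀ hyu, one_smul]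
  rw [hz', smul_smul, smul_smul] at h3
  have hw'' : ∃ d : F, w = d • w' := by
    refine ⟨-(bf J2 w' w)⁻¹ * (bf J1 y u' * (bf J1 y u)⁻¹), ?_⟩
    rw [mul_smul, h3, smul_smul]
    have : -(bf J2 w' w)⁻¹ * (bf J2 w' w * -1) = 1 := by
      field_simp
    rw [this, one_smul]
  obtain ⟨d, hd⟩ := hw''
  by_cases hc : d = 0
  · rw [hc, zero_smul] at hd
    exact hw hd
  · apply hind d⁻¹
    rw [hd, smul_smul, inv_mul_cancel₀ hc, one_smul]

/-- STRICT -/
theorem kron_inf_lt [Fintype F] (hS : SetupSO J1 J2) (ha : 2 ≤ a) (hb : 2 ≤ b) :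
    K ⊓ IsoG (J1 ⊗ₖ J2) < IsoG (J1 ⊗ₖ J2) := by
  have hu : (Pi.single (⟨0, by omega⟩ : Fin a) (1 : F) : Fin a → F) ≠ 0 := by
    intro h
    have := congrFun h ⟨0, by omega⟩
    simp at this
  have hw : (Pi.single (⟨0, by omega⟩ : Fin b) (1 : F) : Fin b → F) ≠ 0 := by
    intro h
    have := congrFun h ⟨0, by omega⟩
    simp at this
  have hT := TensSOCompat.isTv_tvB J1 J2 (S5666T4.hBB hS)
    (pur (Pi.single (⟨0, by omega⟩ : Fin a) (1 : F)) (Pi.single (⟨0, by omega⟩ : Fin b) (1 : F))) 1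
  refine SetLike.lt_iff_le_and_exists.2 ⟨inf_le_right, _, isTv_mem_IsoG hS _ _ _ hT, ?_⟩
  intro hmem
  exact isTv_pur_not_mem_kron hS hb _ _ hu hw _ hT (Subgroup.mem_inf.1 hmem).1

end Cfsg.Agent.Lib.Helper27.S5666FOSTRICT
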