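import Mathlib
import Cfsg.Agent.Lib.Helper13.TensSODefs
import Cfsg.Agent.Lib.Helper13.TensSOCompat
import Cfsg.Agent.Lib.Helper13.S5666T4

/-!
# S5666, A-TRANS (helper27): `N0 ⊓ IsoG` is transitive on the standard subspaces `u ⊗ W`

`n = t_{x,c} ⊗ 1` with `x = u' - u`, `c = 1 / f₁(u,u')` maps `u ⊗ w` to `u' ⊗ w` when `f₁(u,u') ≠ 0`; otherwise pass through
a third vector `y` with `f₁(u,y) ≠ 0 ≠ f₁(y,u')`.
-/

set_option autoImplicit false
set_option linter.unusedSectionVars false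
set_option linter.unusedVariables false

namespace Cfsg.Agent.Lib.Helper27.S5666FOTRANS

open Matrix Module
open Cfsg.Agent.Lib.Helper16.Tens Cfsg.Agent.Lib.Helper10.TensFund Cfsg.Agent.Lib.Helper13.TensSO
open Cfsg.Agent.Lib.Helper28.TensU (ctrL ctrL_apply ctrL_pur hypL mem_hypL_iff ptL mem_ptL_iff pur_mem_ptL rootGLL
  rootGLL_val act_rootGLL rootGLL_mem_SL rootGLL_mem_kron)
open Cfsg.Agent.Lib.Helper3.SpT (bf SympG bf_sub_right)
open Cfsg.Agent.Lib.Helper13 Cfsg.Agent.Lib.Helper20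
open scoped Kronecker

variable {F : Type*} [Field F] {a b : ℕ}
variable {J1 : Matrix (Fin a) (Fin a) F} {J2 : Matrix (Fin b) (Fin b) F}

local notation "K" => Cfsg.Geo.kroneckerSubgroup a b F
local notation "V" => (Fin a × Fin b → F)

/-- an element mapping every `u ⊗ w` to `u' ⊗ w` maps `u ⊗ W` onto `u' ⊗ W` -/
theorem img_ptL_of_act_pur (n : GL (Fin a × Fin b) F) (u u' : Fin a → F)
    (h : ∀ w : Fin b → F, act n (pur u w) = pur u' w) : img n (ptL (b := b) u) = ptL u' := by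
  ext v
  constructor
  · intro hv
    obtain ⟨x, hx, rfl⟩ := hv
    obtain ⟨w, rfl⟩ := (mem_ptL_iff u x).1 hx
    change act n (pur u w) ∈ ptL u'
    rw [h]
    exact pur_mem_ptL u' w
  · intro hv
    obtain ⟨w, rfl⟩ := (mem_ptL_iff u' v).1 hv
    rw [← h]
    exact Submodule.mem_map_of_mem (pur_mem_ptL u w)

/-- the case `f₁(u,u') ≠ 0` -/
theorem exists_kron_act_pur_of_ne (hS : SetupSO J1 J2) (u u' : Fin a → F) (huu' : bf J1 u u' ≠ 0) :
    ∃ n : GL (Fin a × Fin b) F, n ∈ K ∧ n ∈ IsoG (J1 ⊗ₖ J2) ∧ ∀ w : Fin b → F, act n (pur u w) = pur u' w := by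
  refine ⟨rU (b := b) J1 hS.h1 (u' - u) (1 / bf J1 u u'), rU_mem_kron J1 hS.h1 _ _,
    S5666T4.rU_mem_iso hS _ _, ?_⟩
  intro w
  rw [TensSOCompat.rU_eq_rM, SpO.act_rM_pur]
  have e : bf J1 u (u' - u) = bf J1 u u' := by
    rw [bf_sub_right, hS.h1.alt, sub_zero]
  rw [e, one_div, inv_mul_cancel₀ huu', one_smul, add_sub_cancel]

/-- A-TRANS, pointwise form -/
theorem exists_kron_act_pur (hS : SetupSO J1 J2) (u u' : Fin a → F) (hu : u ≠ 0) (hu' : u' ≠ 0) :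
    ∃ n : GL (Fin a × Fin b) F, n ∈ K ∧ n ∈ IsoG (J1 ⊗ₖ J2) ∧ ∀ w : Fin b → F, act n (pur u w) = pur u' w := by
  by_cases huu' : bf J1 u u' = 0
  · have hφ : ∃ x, S5666T4.bfL J1 u x ≠ 0 := by
      by_contra hcon
      push Not at hcon
      exact hu (hS.h1.nondeg u hcon)
    have hψ : ∃ x, S5666T4.bfR J1 u' x ≠ 0 := by
      by_contra hcon
      push Not at hcon
      apply hu'
      apply hS.h1.nondeg u'
      intro y
      rw [hS.h1.skew, show bf J1 y u' = 0 from hcon y, neg_zero]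
    obtain ⟨u3, h3, h3'⟩ := S5666T4.exists_both_ne_zero (S5666T4.bfL J1 u) (S5666T4.bfR J1 u') hφ hψ
    obtain ⟨n1, hn1K, hn1I, hn1⟩ := exists_kron_act_pur_of_ne (b := b) hS u u3 h3
    obtain ⟨n2, hn2K, hn2I, hn2⟩ := exists_kron_act_pur_of_ne (b := b) hS u3 u' h3'
    refine ⟨n2 * n1, (K).mul_mem hn2K hn1K, (IsoG (J1 ⊗ₖ J2)).mul_mem hn2I hn1I, ?_⟩
    intro w
    rw [act_mul, hn1, hn2]
  · exact exists_kron_act_pur_of_ne hS u u' huu'

/-- A-TRANS -/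
theorem exists_kron_img_ptL (hS : SetupSO J1 J2) (u u' : Fin a → F) (hu : u ≠ 0) (hu' : u' ≠ 0) :
    ∃ n : GL (Fin a × Fin b) F, n ∈ K ∧ n ∈ IsoG (J1 ⊗ₖ J2) ∧ img n (ptL (b := b) u) = ptL u' := by
  obtain ⟨n, hnK, hnI, hn⟩ := exists_kron_act_pur (b := b) hS u u' hu hu'
  exact ⟨n, hnK, hnI, img_ptL_of_act_pur n u u' hn⟩

end Cfsg.Agent.Lib.Helper27.S5666FOTRANS
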