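import Mathlib
import Cfsg.Agent.Lib.Helper13.UOmDefs

/-!
# S5700 FO-STRUCT (architect helper13, served by helper27)

The hypotheses of the statement (a quadratic field subalgebra `K`, closed under adjoints for the
polar form of `Q` but not self-adjoint, rescaling `Q`) give a unitary structure `UStr`.
-/

set_option autoImplicit false
set_option linter.unusedSectionVars false
set_option linter.unusedVariables false

namespace Cfsg.Agent.Lib.Helper27.S5700FOSTRUCT

open Matrix Module QuadraticMap Cfsg.Agent.Lib.Helper6 Cfsg.Agent.Lib.Helper13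
open Cfsg.Agent.Lib.Helper13.OND

universe u

section aux
variable {n : ℕ} {F : Type u} [Field F]

/-- two matrices with the same right action inside a nondegenerate form are equal -/
theorem matrix_eq_of_form {B : (Fin n → F) → (Fin n → F) → F}
    (hB : Cfsg.Geo.IsBilinearForm B) (hnd : Cfsg.Geo.IsNondegenerateForm B)
    {A A' : Matrix (Fin n) (Fin n) F} (h : ∀ u v, B u (A *ᵥ v) = B u (A' *ᵥ v)) : A = A' := by
  apply Matrix.toLin'.injective
  apply LinearMap.ext
  intro v
  rw [Matrix.toLin'_apply, Matrix.toLin'_apply]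
  by_contra hne
  have hne' : A *ᵥ v - A' *ᵥ v ≠ 0 := sub_ne_zero.mpr hne
  obtain ⟨⟨x, hx⟩, -⟩ := hnd _ hne'
  apply hx
  have h1 : A *ᵥ v - A' *ᵥ v = A *ᵥ v + (-1 : F) • (A' *ᵥ v) := by
    rw [neg_one_smul, sub_eq_add_neg]
  rw [h1, hB.add_right, hB.smul_right, h x v]
  ring

theorem polar_mulVec_of_scale (Q : (Fin n → F) → F) (k : Matrix (Fin n) (Fin n) F) (c : F)
    (hc : ∀ v, Q (k *ᵥ v) = c * Q v) (u v : Fin n → F) :
    polar Q (k *ᵥ u) (k *ᵥ v) = c * polar Q u v := by
  unfold polar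
  rw [← mulVec_add, hc, hc, hc]
  ring

end aux

theorem exists_ustr {n : ℕ} {F : Type u} [Field F] [Fintype F] (Q : (Fin n → F) → F)
    (hQ : Cfsg.Geo.IsNondegenerateQuadraticForm Q)
    (K : Subalgebra F (Matrix (Fin n) (Fin n) F)) (hK : Cfsg.Geo.IsFieldSubalgebra 2 K)
    (hac : Cfsg.Geo.IsAdjointClosedFor (QuadraticMap.polar Q) K)
    (hnsa : ¬ Cfsg.Geo.IsSelfAdjointFor (QuadraticMap.polar Q) K)
    (hsc : ∀ k ∈ K, ∃ c : F, ∀ v : (Fin n → F), Q (Matrix.mulVec k v) = c * Q v) :
    ∃ (δ : Matrix (Fin n) (Fin n) F) (τ ν : F), UStr (toQF Q hQ) δ τ ν ∧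
      ∀ k : Matrix (Fin n) (Fin n) F, k ∈ K ↔
        ∃ a b : F, k = a • (1 : Matrix (Fin n) (Fin n) F) + b • δ := by
  have hB := hQ.polar_bilinear
  have hnd := hQ.nondegenerate
  -- a non-self-adjoint element
  unfold Cfsg.Geo.IsSelfAdjointFor at hnsa
  push Not at hnsa
  obtain ⟨δ, hδ, u₀, v₀, hne⟩ := hnsa
  obtain ⟨δ', hδ', hadj⟩ := hac δ hδ
  obtain ⟨ν, hν⟩ := hsc δ hδ
  have h1δ : (1 : Matrix (Fin n) (Fin n) F) + δ ∈ K := K.add_mem K.one_mem hδ
  obtain ⟨c₁, hc₁⟩ := hsc _ h1δ
  -- `δ' δ = ν`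
  have hprod : δ' * δ = ν • (1 : Matrix (Fin n) (Fin n) F) := by
    apply matrix_eq_of_form hB hnd
    intro u v
    rw [← mulVec_mulVec, ← hadj, polar_mulVec_of_scale Q δ ν hν, smul_mulVec, one_mulVec,
      hB.smul_right]
  -- `(1 + δ') (1 + δ) = c₁`
  have hadj1 : ∀ u v, polar Q (((1 : Matrix (Fin n) (Fin n) F) + δ) *ᵥ u) v =
      polar Q u (((1 : Matrix (Fin n) (Fin n) F) + δ') *ᵥ v) := by
    intro u v
    rw [add_mulVec, add_mulVec, one_mulVec, one_mulVec, hB.add_left, hB.add_right, hadj]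
  have hprod1 : ((1 : Matrix (Fin n) (Fin n) F) + δ') * (1 + δ) =
      c₁ • (1 : Matrix (Fin n) (Fin n) F) := by
    apply matrix_eq_of_form hB hnd
    intro u v
    rw [← mulVec_mulVec, ← hadj1, polar_mulVec_of_scale Q _ c₁ hc₁, smul_mulVec, one_mulVec,
      hB.smul_right]
  -- the trace
  have hsum : δ + δ' = (c₁ - 1 - ν) • (1 : Matrix (Fin n) (Fin n) F) := by
    have h2 : ((1 : Matrix (Fin n) (Fin n) F) + δ') * (1 + δ) = 1 + (δ + δ') + δ' * δ := by
      rw [Matrix.add_mul, Matrix.mul_add, Matrix.mul_add, Matrix.one_mul, Matrix.one_mul,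
        Matrix.mul_one]
      abel
    rw [h2, hprod] at hprod1
    have h3 : δ + δ' = (1 + (δ + δ') + ν • (1 : Matrix (Fin n) (Fin n) F)) - 1 - ν • 1 := by
      abel
    rw [h3, hprod1]
    module
  set τ : F := c₁ - 1 - ν with hτ
  have hδ'eq : δ' = τ • (1 : Matrix (Fin n) (Fin n) F) - δ := by
    rw [← hsum]
    abel
  have hsq : δ * δ = τ • δ - ν • (1 : Matrix (Fin n) (Fin n) F) := by
    have h2 := hprod
    rw [hδ'eq, Matrix.sub_mul, Matrix.smul_mul, Matrix.one_mul] at h2
    rw [← h2]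
    abel
  -- `δ` is not a scalar
  have hnotscalar : ∀ s : F, δ ≠ s • (1 : Matrix (Fin n) (Fin n) F) := by
    intro s hs
    apply hne
    rw [hs, smul_mulVec, smul_mulVec, one_mulVec, one_mulVec, hB.smul_left, hB.smul_right]
  have hirr : ∀ a : F, a ^ 2 - τ * a + ν ≠ 0 := by
    intro a ha
    have hz : (δ - a • (1 : Matrix (Fin n) (Fin n) F)) *
        ((τ - a) • (1 : Matrix (Fin n) (Fin n) F) - δ) = 0 := by
      have h2 : (δ - a • (1 : Matrix (Fin n) (Fin n) F)) *
          ((τ - a) • (1 : Matrix (Fin n) (Fin n) F) - δ) =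
          τ • δ - δ * δ - (a * τ - a ^ 2) • (1 : Matrix (Fin n) (Fin n) F) := by
        simp only [Matrix.sub_mul, Matrix.mul_sub, Matrix.mul_smul, Matrix.smul_mul,
          Matrix.mul_one, Matrix.one_mul]
        module
      rw [h2, hsq]
      have h3 : τ • δ - (τ • δ - ν • (1 : Matrix (Fin n) (Fin n) F)) -
          (a * τ - a ^ 2) • (1 : Matrix (Fin n) (Fin n) F) =
          (a ^ 2 - τ * a + ν) • (1 : Matrix (Fin n) (Fin n) F) := by
        module
      rw [h3, ha, zero_smul]
    by_cases h0 : δ - a • (1 : Matrix (Fin n) (Fin n) F) = 0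
    · exact hnotscalar a (sub_eq_zero.mp h0)
    · have hmem : δ - a • (1 : Matrix (Fin n) (Fin n) F) ∈ K :=
        K.sub_mem hδ (K.smul_mem K.one_mem a)
      obtain ⟨y, hy, hxy⟩ := hK.inv _ hmem h0
      have hyx : y * (δ - a • (1 : Matrix (Fin n) (Fin n) F)) = 1 := by
        rw [← hK.comm _ hmem y hy]
        exact hxy
      have h4 : (τ - a) • (1 : Matrix (Fin n) (Fin n) F) - δ = 0 := by
        have := congrArg (fun z => y * z) hz
        simp only [Matrix.mul_zero] at this
        rw [← Matrix.mul_assoc, hyx, Matrix.one_mul] at this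
        exact this
      exact hnotscalar (τ - a) (sub_eq_zero.mp h4).symm
  refine ⟨δ, τ, ν, ⟨?_, hsq, ?_, ?_, hirr⟩, ?_⟩
  · -- adjoint
    intro u v
    show polar Q (δ *ᵥ u) v + polar Q u (δ *ᵥ v) = τ * polar Q u v
    rw [hadj, hδ'eq, sub_mulVec, smul_mulVec, one_mulVec]
    have h2 : τ • v - δ *ᵥ v = τ • v + (-1 : F) • (δ *ᵥ v) := by
      rw [neg_one_smul, sub_eq_add_neg]
    rw [h2, hB.add_right, hB.smul_right, hB.smul_right]
    ring
  · intro v
    exact hν v
  · intro v
    show polar Q v (δ *ᵥ v) = τ * Q v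
    have h2 := hc₁ v
    rw [add_mulVec, one_mulVec] at h2
    unfold polar
    rw [h2, hν v, hτ]
    ring
  · -- `K = F + F δ`
    intro k
    constructor
    · intro hk
      haveI : Module.Finite F ↥K := Module.finite_of_finrank_pos (by rw [hK.finrank_eq]; norm_num)
      set w : Fin 3 → ↥K := ![⟨1, K.one_mem⟩, ⟨δ, hδ⟩, ⟨k, hk⟩] with hw
      have hdep : ¬ LinearIndependent F w := by
        intro hli
        have := hli.fintype_card_le_finrank
        rw [hK.finrank_eq, Fintype.card_fin] at this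
        omega
      obtain ⟨g, hg, i, hi⟩ := Fintype.not_linearIndependent_iff.mp hdep
      have hg' : g 0 • (1 : Matrix (Fin n) (Fin n) F) + g 1 • δ + g 2 • k = 0 := by
        have := congrArg (fun z : ↥K => (z : Matrix (Fin n) (Fin n) F)) hg
        simpa [Fin.sum_univ_three, hw] using this
      by_cases h2 : g 2 = 0
      · exfalso
        rw [h2, zero_smul, add_zero] at hg'
        by_cases h1 : g 1 = 0
        · rw [h1, zero_smul, add_zero] at hg'
          have h0 : g 0 ≠ 0 := by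
            fin_cases i
            · exact hi
            · exact absurd h1 hi
            · exact absurd h2 hi
          have hone : (1 : Matrix (Fin n) (Fin n) F) = 0 :=
            (smul_eq_zero.mp hg').resolve_left h0
          apply hnotscalar 0
          rw [zero_smul, ← Matrix.mul_one δ, hone, Matrix.mul_zero]
        · apply hnotscalar (-(g 0) / g 1)
          have : g 1 • δ = (-(g 0)) • (1 : Matrix (Fin n) (Fin n) F) := by
            rw [neg_smul, eq_neg_iff_add_eq_zero, add_comm]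
            exact hg'
          rw [div_eq_inv_mul, ← smul_smul, ← this, smul_smul, inv_mul_cancel₀ h1, one_smul]
      · refine ⟨-(g 0) / g 2, -(g 1) / g 2, ?_⟩
        have : g 2 • k = (-(g 0)) • (1 : Matrix (Fin n) (Fin n) F) + (-(g 1)) • δ := by
          rw [neg_smul, neg_smul, ← neg_add, eq_neg_iff_add_eq_zero, add_comm]
          exact hg'
        have h3 : k = (g 2)⁻¹ • (g 2 • k) := by
          rw [smul_smul, inv_mul_cancel₀ h2, one_smul]
        rw [h3, this, smul_add, smul_smul, smul_smul, div_eq_inv_mul, div_eq_inv_mul]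
    · rintro ⟨a, b, rfl⟩
      exact K.add_mem (K.smul_mem K.one_mem a) (K.smul_mem hδ b)

end Cfsg.Agent.Lib.Helper27.S5700FOSTRUCT
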