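import Cfsg.Agent.Lib.Helper27.StCCTab

/-!
# Steinberg's Theorem 10 (S2398/S2100 farm), Part A, piece [A3] (helper26's skeleton)
-/

set_option autoImplicit false

namespace Cfsg.Agent.Lib.Helper26.StCC

open Cfsg.Lie Cfsg.Agent.Lib.Helper8.Chev Cfsg.Agent.Lib.Helper14.StCC

set_option maxRecDepth 100000 in
/-- [A3] tables: a coweight of value 1, or (long roots of `B₂`) value 2 together with `CommData`. -/
theorem exists_wt_or_commData {D : ChevalleyDatum}
    (hD : D ∈ [chevG2, chevB2, chevD4, chevF4, chevE6, chevE7, chevE8])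
    {r : ℕ} (hr : r < D.nroots) :
    (∃ m : ℕ → ℤ, wt D m r = 1) ∨ ((∃ m : ℕ → ℤ, wt D m r = 2) ∧ CommData D r) := by
  by_cases h : D = chevB2 ∧ r ∈ Cfsg.Agent.Lib.Helper14.StCC.A.Helper27.b2Long
  · obtain ⟨rfl, hr2⟩ := h
    refine Or.inr ⟨Cfsg.Agent.Lib.Helper14.StCC.A.Helper27.exists_wt_two_B2 hr2, ?_⟩
    simp only [Cfsg.Agent.Lib.Helper14.StCC.A.Helper27.b2Long, List.mem_cons, List.mem_nil_iff,
      or_false] at hr2
    unfold CommData
    rcases hr2 with rfl | rfl | rfl | rfl
    · exact ⟨1, 4, 2, 1, 1, by decide, by decide, by decide, by decide, by decide,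
        by decide +kernel, Or.inl rfl, ⟨by decide, by decide, by decide +kernel⟩,
        ⟨by decide, by decide, by decide +kernel⟩, ⟨by decide, by decide, by decide +kernel⟩⟩
    · exact ⟨1, 7, 5, -1, 1, by decide, by decide, by decide, by decide, by decide,
        by decide +kernel, Or.inl rfl, ⟨by decide, by decide, by decide +kernel⟩,
        ⟨by decide, by decide, by decide +kernel⟩, ⟨by decide, by decide, by decide +kernel⟩⟩
    · exact ⟨2, 7, 6, 1, -1, by decide, by decide, by decide, by decide, by decide,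
        by decide +kernel, Or.inr rfl, ⟨by decide, by decide, by decide +kernel⟩,
        ⟨by decide, by decide, by decide +kernel⟩, ⟨by decide, by decide, by decide +kernel⟩⟩
    · exact ⟨5, 4, 6, -1, -1, by decide, by decide, by decide, by decide, by decide,
        by decide +kernel, Or.inr rfl, ⟨by decide, by decide, by decide +kernel⟩,
        ⟨by decide, by decide, by decide +kernel⟩, ⟨by decide, by decide, by decide +kernel⟩⟩
  · exact Or.inl (Cfsg.Agent.Lib.Helper14.StCC.A.Helper27.exists_wt_one hD hr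
      (fun h1 h2 => h ⟨h1, h2⟩))

end Cfsg.Agent.Lib.Helper26.StCC
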