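import Mathlib
import Cfsg.Agent.Lib.Helper15.IP.Defs
import Cfsg.Agent.Lib.Helper20.CD3Step2

/-!
# S4463 farm (helper15), spare of leaf L22 (helper27)

`ψ ∈ Irr(N)` vanishing off `K ⊴ N`, `|N:K| = p^a`, `a > 0` ⇒ `p ∣ ψ(1)`; adapted from helper20's `CD3Step2`.
-/

set_option autoImplicit false
set_option linter.style.haveILetI false

namespace Cfsg.Agent.Lib.Helper27.IPL22

open Cfsg Cfsg.Agent.Lib.Helper2 Cfsg.Agent.Lib.Helper20.CD3 Cfsg.Agent.Lib.Helper15.IP
open scoped commutatorElement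

universe u

variable {G : Type u} [Group G]

theorem prime_dvd_of_vanish [Finite G] (K N : Subgroup G) [K.Normal] (_hKN : K ≤ N) {p a : ℕ}
    (hp : p.Prime) (hidx : K.relIndex N = p ^ a) (ha : 0 < a) (ψ : IrrCharacter ↥N)
    (hvan : ∀ x : ↥N, (x : G) ∉ K → (ψ : ↥N → ℂ) x = 0) : p ∣ charDegree (ψ : ↥N → ℂ) := by
  classical
  haveI : Fintype G := Fintype.ofFinite G
  haveI : Fintype ↥N := Fintype.ofFinite _
  set d := charDegree (ψ : ↥N → ℂ) with hd
  set K' : Subgroup ↥N := K.subgroupOf N with hK'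
  haveI : K'.Normal := by rw [hK']; infer_instance
  haveI : Fintype ↥K' := Fintype.ofFinite _
  obtain ⟨θ, hθ⟩ := Cfsg.Agent.Lib.Helper7.exists_constituent_restrict K' ψ
  obtain ⟨b, d2, hd2', hbd, hb⟩ :=
    DegreeRatio.main K' (ψ : ↥N → ℂ) ψ.2 (θ : ↥K' → ℂ) θ.2 hθ
  have hidx' : K'.index = p ^ a := hidx
  have hb' : b ∣ p ^ a := by rw [← hidx']; exact hb
  have hdb : d = b * d2 := ThompsonDeg.charDegree_eq hbd
  by_cases hb1 : b = 1
  · exfalso
    have hθdeg : charDegree (θ : ↥K' → ℂ) = charDegree (ψ : ↥N → ℂ) := by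
      rw [ThompsonDeg.charDegree_eq hd2', ← hd, hdb, hb1, one_mul]
    have hres := restrict_eq_of_degree_eq K' ψ θ hθ hθdeg
    have hnorm := classInner_restrict_of_vanish K' (ψ : ↥N → ℂ) (fun x hx => hvan x (by
      intro hxK
      exact hx (Subgroup.mem_subgroupOf.mpr hxK)))
    rw [hres, classInner_irrCharacter_self θ, classInner_irrCharacter_self ψ, mul_one, hidx']
      at hnorm
    have h1 : p ^ a = 1 := by exact_mod_cast hnorm.symm
    have h2 : 1 < p ^ a := Nat.one_lt_pow (by omega) hp.one_lt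
    omega
  · obtain ⟨j, _, hj⟩ := (Nat.dvd_prime_pow hp).mp hb'
    have hj0 : j ≠ 0 := by
      rintro rfl
      exact hb1 (by rw [hj, pow_zero])
    rw [hdb, hj]
    exact Dvd.dvd.mul_right (dvd_pow_self p hj0) d2

end Cfsg.Agent.Lib.Helper27.IPL22
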