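import Mathlib
import Cfsg.Prelude.Def_LocalStructure
import Cfsg.Agent.Lib.Helper17.YL

open Cfsg

namespace Cfsg.Agent.Lib.Helper27.FrakLQuot

variable {G : Type*} [Group G]

/-- `W.subgroupOf N` pushed to `L` along the inclusion `N ≤ L` is `W.subgroupOf L` when `W ≤ N`. -/
theorem map_inclusion_subgroupOf {N L W : Subgroup G} (hNL : N ≤ L) (hWN : W ≤ N) :
    (W.subgroupOf N).map (Subgroup.inclusion hNL) = W.subgroupOf L := by
  ext x
  constructor
  · rintro ⟨y, hy, rfl⟩
    exact hy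
  · intro hx
    exact ⟨⟨x.1, hWN hx⟩, hx, rfl⟩

theorem range_inclusion' {N L : Subgroup G} (hNL : N ≤ L) :
    (Subgroup.inclusion hNL).range = N.subgroupOf L := by
  ext x
  constructor
  · rintro ⟨y, rfl⟩
    exact y.2
  · intro hx
    exact ⟨⟨x.1, hx⟩, rfl⟩

/-- the comap of `K` along the inclusion is the `subgroupOf` of its image in `G` -/
theorem comap_inclusion_eq {N L : Subgroup G} (hNL : N ≤ L) (K : Subgroup ↥L) :
    K.comap (Subgroup.inclusion hNL) = (K.map L.subtype).subgroupOf N := by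
  ext x
  rw [Subgroup.mem_comap, Subgroup.mem_subgroupOf]
  constructor
  · intro hx
    exact ⟨Subgroup.inclusion hNL x, hx, rfl⟩
  · rintro ⟨y, hy, hyx⟩
    have : y = Subgroup.inclusion hNL x := Subtype.ext hyx
    rw [← this]
    exact hy

/-- The map `N/A' → L/K` induced by the inclusion. -/
noncomputable def quotIncl {N L : Subgroup G} (hNL : N ≤ L) (K : Subgroup ↥L) [K.Normal]
    (A' : Subgroup ↥N) [A'.Normal] (hA' : A' = (K.map L.subtype).subgroupOf N) :
    ↥N ⧸ A' →* ↥L ⧸ K :=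
  QuotientGroup.map A' K (Subgroup.inclusion hNL) (by rw [hA', ← comap_inclusion_eq hNL K])

theorem quotIncl_mk {N L : Subgroup G} (hNL : N ≤ L) (K : Subgroup ↥L) [K.Normal]
    (A' : Subgroup ↥N) [A'.Normal] (hA' : A' = (K.map L.subtype).subgroupOf N) (x : ↥N) :
    quotIncl hNL K A' hA' (QuotientGroup.mk' A' x) =
      QuotientGroup.mk' K (Subgroup.inclusion hNL x) := rfl

theorem quotIncl_injective {N L : Subgroup G} (hNL : N ≤ L) (K : Subgroup ↥L) [K.Normal]
    (A' : Subgroup ↥N) [A'.Normal] (hA' : A' = (K.map L.subtype).subgroupOf N) :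
    Function.Injective (quotIncl hNL K A' hA') := by
  rw [← MonoidHom.ker_eq_bot_iff]
  unfold quotIncl
  rw [QuotientGroup.ker_map, comap_inclusion_eq hNL K, ← hA']
  exact (Subgroup.map_eq_bot_iff _).2 (le_of_eq (QuotientGroup.ker_mk' A').symm)

theorem map_quotIncl {N L : Subgroup G} (hNL : N ≤ L) (K : Subgroup ↥L) [K.Normal]
    (A' : Subgroup ↥N) [A'.Normal] (hA' : A' = (K.map L.subtype).subgroupOf N)
    (W' : Subgroup ↥N) :
    (W'.map (QuotientGroup.mk' A')).map (quotIncl hNL K A' hA') =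
      (W'.map (Subgroup.inclusion hNL)).map (QuotientGroup.mk' K) := by
  rw [Subgroup.map_map, Subgroup.map_map]
  rfl

theorem range_quotIncl {N L : Subgroup G} (hNL : N ≤ L) (K : Subgroup ↥L) [K.Normal]
    (A' : Subgroup ↥N) [A'.Normal] (hA' : A' = (K.map L.subtype).subgroupOf N) :
    (quotIncl hNL K A' hA').range = (N.subgroupOf L).map (QuotientGroup.mk' K) := by
  have h1 : (quotIncl hNL K A' hA').range =
      ((⊤ : Subgroup ↥N).map (QuotientGroup.mk' A')).map (quotIncl hNL K A' hA') := by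
    rw [← MonoidHom.range_eq_map, MonoidHom.range_eq_top.2 (QuotientGroup.mk'_surjective A'),
      ← MonoidHom.range_eq_map]
  rw [h1, map_quotIncl, ← MonoidHom.range_eq_map, range_inclusion']


/-! ### The abstract uniqueness property and its transport along isomorphisms -/

/-- `Y` is the unique nontrivial elementary abelian `p`-subgroup of `B` normalized by `B`. -/
def UniqueEA (p : ℕ) {X : Type*} [Group X] (Y B : Subgroup X) : Prop :=
  ∀ V : Subgroup X, V ≤ B → (∀ b ∈ B, ∀ v ∈ V, b * v * b⁻¹ ∈ V) → IsPGroup p V →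
    (∀ a ∈ V, ∀ b ∈ V, a * b = b * a) → (∀ a ∈ V, a ^ p = 1) → V ≠ ⊥ → V = Y

/-- The structural hypotheses shared by the three model lemmas. -/
structure ModelHyp {X : Type*} [Group X] (Y B : Subgroup X) : Prop where
  hgen : Subgroup.normalClosure (Y : Set X) = ⊤
  hYB : Y ≤ B
  hBN : B ≤ Subgroup.normalizer (Y : Set X)
  hmax : ∀ P : Subgroup X, Y ≤ P → P ≠ ⊤ → P ≤ B

theorem ModelHyp.map {X X' : Type*} [Group X] [Group X'] (e : X ≃* X') {Y B : Subgroup X}
    (h : ModelHyp Y B) : ModelHyp (Y.map e.toMonoidHom) (B.map e.toMonoidHom) where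
  hgen := by
    have h1 := Subgroup.map_normalClosure (Y : Set X) e.toMonoidHom e.surjective
    rw [h.hgen] at h1
    have h2 : ((Y.map e.toMonoidHom : Subgroup X') : Set X') = e.toMonoidHom '' (Y : Set X) :=
      Subgroup.coe_map _ _
    rw [h2, ← h1]
    exact (MonoidHom.range_eq_map e.toMonoidHom).symm.trans
      (MonoidHom.range_eq_top.2 e.surjective)
  hYB := Subgroup.map_mono h.hYB
  hBN := by
    have := Subgroup.map_mono (f := e.toMonoidHom) h.hBN
    rwa [Subgroup.map_equiv_normalizer_eq] at this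
  hmax := by
    intro P' hYP' hP'
    have hPeq : (P'.comap e.toMonoidHom).map e.toMonoidHom = P' :=
      Subgroup.map_comap_eq_self_of_surjective e.surjective P'
    have h1 : Y ≤ P'.comap e.toMonoidHom := Subgroup.map_le_iff_le_comap.1 hYP'
    have h2 : P'.comap e.toMonoidHom ≠ ⊤ := by
      intro htop
      apply hP'
      rw [← hPeq, htop, ← MonoidHom.range_eq_map]
      exact MonoidHom.range_eq_top.2 e.surjective
    have h3 := h.hmax _ h1 h2
    rw [← hPeq]
    exact Subgroup.map_mono h3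

theorem UniqueEA.of_map {p : ℕ} {X X' : Type*} [Group X] [Group X'] (e : X ≃* X')
    {Y B : Subgroup X} (h : UniqueEA p (Y.map e.toMonoidHom) (B.map e.toMonoidHom)) :
    UniqueEA p Y B := by
  intro V hVB hVn hVp hVc hVe hV1
  have key := h (V.map e.toMonoidHom) (Subgroup.map_mono hVB) ?_ ?_ ?_ ?_ ?_
  · exact Subgroup.map_injective e.injective key
  · rintro _ ⟨b, hb, rfl⟩ _ ⟨v, hv, rfl⟩
    refine ⟨b * v * b⁻¹, hVn b hb v hv, ?_⟩
    simp
  · exact hVp.map e.toMonoidHom
  · rintro _ ⟨a, ha, rfl⟩ _ ⟨b, hb, rfl⟩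
    rw [← map_mul, ← map_mul, hVc a ha b hb]
  · rintro _ ⟨a, ha, rfl⟩
    rw [← map_pow, hVe a ha, map_one]
  · rw [Ne, Subgroup.map_eq_bot_iff_of_injective _ e.injective]
    exact hV1

/-! ### From uniqueness in `L/K` to the statement about `N/A'` -/

theorem conclusion_of_unique {p : ℕ} (L NL Y : Subgroup G) (hYNL : Y ≤ NL) (hNLL : NL ≤ L)
    (hNLn : NL ≤ Subgroup.normalizer (Y : Set G)) (K : Subgroup ↥L) [K.Normal]
    (A' : Subgroup ↥NL) [A'.Normal] (hA' : A' = (K.map L.subtype).subgroupOf NL)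
    (hYc : ∀ a ∈ Y, ∀ b ∈ Y, a * b = b * a) (hYe : ∀ a ∈ Y, a ^ p = 1)
    (hYne : (Y.subgroupOf L).map (QuotientGroup.mk' K) ≠ ⊥)
    (hU : UniqueEA p ((Y.subgroupOf L).map (QuotientGroup.mk' K))
      ((NL.subgroupOf L).map (QuotientGroup.mk' K))) :
    let Ybar : Subgroup (↥NL ⧸ A') := (Y.subgroupOf NL).map (QuotientGroup.mk' A')
    Ybar ≠ ⊥ ∧ Ybar.Normal ∧ IsElementaryAbelian p Ybar ∧
      ∀ V : Subgroup (↥NL ⧸ A'), V.Normal → IsElementaryAbelian p V → V ≠ ⊥ → V = Ybar := by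
  intro Ybar
  have hmapY : Ybar.map (quotIncl hNLL K A' hA') =
      (Y.subgroupOf L).map (QuotientGroup.mk' K) := by
    show ((Y.subgroupOf NL).map (QuotientGroup.mk' A')).map (quotIncl hNLL K A' hA') = _
    rw [map_quotIncl, map_inclusion_subgroupOf hNLL hYNL]
  have hinj := quotIncl_injective hNLL K A' hA'
  refine ⟨?_, ?_, ?_, ?_⟩
  · intro hbot
    apply hYne
    rw [← hmapY, hbot, Subgroup.map_bot]
  · have hn : (Y.subgroupOf NL).Normal :=
      (Subgroup.normal_subgroupOf_iff_le_normalizer hYNL).2 hNLn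
    exact Subgroup.Normal.map hn _ (QuotientGroup.mk'_surjective A')
  · refine ⟨⟨⟨?_⟩⟩, ?_⟩
    · rintro ⟨_, ⟨a, ha, rfl⟩⟩ ⟨_, ⟨b, hb, rfl⟩⟩
      apply Subtype.ext
      show (QuotientGroup.mk' A') a * (QuotientGroup.mk' A') b =
        (QuotientGroup.mk' A') b * (QuotientGroup.mk' A') a
      rw [← map_mul, ← map_mul]
      congr 1
      apply Subtype.ext
      exact hYc a.1 ha b.1 hb
    · rintro _ ⟨a, ha, rfl⟩
      rw [← map_pow]
      have : a ^ p = 1 := by
        apply Subtype.ext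
        have := hYe a.1 ha
        simpa using this
      rw [this, map_one]
  · intro V hVn hVea hV1
    have hVX := hU (V.map (quotIncl hNLL K A' hA')) ?_ ?_ ?_ ?_ ?_ ?_
    · rw [← hmapY] at hVX
      exact Subgroup.map_injective hinj hVX
    · rw [← range_quotIncl hNLL K A' hA']
      exact Subgroup.map_le_range _ _
    · rw [← range_quotIncl hNLL K A' hA']
      rintro _ ⟨c, rfl⟩ _ ⟨w, hw, rfl⟩
      refine ⟨c * w * c⁻¹, hVn.conj_mem w hw c, ?_⟩
      simp
    · intro g
      obtain ⟨g, hg⟩ := g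
      obtain ⟨w, hw, rfl⟩ := hg
      refine ⟨1, ?_⟩
      apply Subtype.ext
      rw [pow_one]
      show (quotIncl hNLL K A' hA' w) ^ p = 1
      rw [← map_pow, hVea.2 w hw, map_one]
    · rintro _ ⟨a, ha, rfl⟩ _ ⟨b, hb, rfl⟩
      rw [← map_mul, ← map_mul]
      congr 1
      have := hVea.1.is_comm.comm ⟨a, ha⟩ ⟨b, hb⟩
      exact congrArg Subtype.val this
    · rintro _ ⟨a, ha, rfl⟩
      rw [← map_pow, hVea.2 a ha, map_one]
    · rw [Ne, Subgroup.map_eq_bot_iff_of_injective _ hinj]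
      exact hV1


/-! ### The structural hypotheses in `L/K` from the `𝔏`-conditions -/

theorem subgroupOf_le_normalizer_subgroupOf {L N Y : Subgroup G}
    (hN : N ≤ Subgroup.normalizer (Y : Set G)) :
    N.subgroupOf L ≤ Subgroup.normalizer ((Y.subgroupOf L : Subgroup ↥L) : Set ↥L) := by
  intro n hn
  have hn' : (n : G) ∈ Subgroup.normalizer (Y : Set G) := hN hn
  rw [Subgroup.mem_normalizer_iff] at hn' ⊢
  intro h
  have := hn' (h : G)
  simpa [Subgroup.mem_subgroupOf] using this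

theorem modelHyp_of_frakL (L NL Y : Subgroup G) (hYL : Y ≤ L)
    (hNL : NL = L ⊓ Subgroup.normalizer (Y : Set G))
    (hgenL : Subgroup.normalClosure ((Y.subgroupOf L : Subgroup ↥L) : Set ↥L) = ⊤)
    (hmaxL : ∀ X : Subgroup G, Y ≤ X → X < L → X ≤ NL)
    (K : Subgroup ↥L) [K.Normal] :
    ModelHyp ((Y.subgroupOf L).map (QuotientGroup.mk' K))
      ((NL.subgroupOf L).map (QuotientGroup.mk' K)) where
  hgen := by
    have h1 := Subgroup.map_normalClosure ((Y.subgroupOf L : Subgroup ↥L) : Set ↥L)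
      (QuotientGroup.mk' K) (QuotientGroup.mk'_surjective K)
    rw [hgenL] at h1
    have h2 : (((Y.subgroupOf L).map (QuotientGroup.mk' K) : Subgroup (↥L ⧸ K)) : Set (↥L ⧸ K))
        = (QuotientGroup.mk' K) '' ((Y.subgroupOf L : Subgroup ↥L) : Set ↥L) :=
      Subgroup.coe_map _ _
    rw [h2, ← h1]
    exact (MonoidHom.range_eq_map _).symm.trans
      (MonoidHom.range_eq_top.2 (QuotientGroup.mk'_surjective K))
  hYB := by
    apply Subgroup.map_mono
    intro y hy
    show (y : G) ∈ NL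
    rw [hNL]
    exact ⟨y.2, Subgroup.le_normalizer hy⟩
  hBN := by
    have h1 : NL.subgroupOf L ≤
        Subgroup.normalizer ((Y.subgroupOf L : Subgroup ↥L) : Set ↥L) :=
      subgroupOf_le_normalizer_subgroupOf (by rw [hNL]; exact inf_le_right)
    exact (Subgroup.map_mono h1).trans (Subgroup.le_normalizer_map _)
  hmax := by
    intro P hYP hP
    have hPeq : (P.comap (QuotientGroup.mk' K)).map (QuotientGroup.mk' K) = P :=
      Subgroup.map_comap_eq_self_of_surjective (QuotientGroup.mk'_surjective K) P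
    have h1 : Y.subgroupOf L ≤ P.comap (QuotientGroup.mk' K) :=
      Subgroup.map_le_iff_le_comap.1 hYP
    have h2 : P.comap (QuotientGroup.mk' K) ≠ ⊤ := by
      intro htop
      apply hP
      rw [← hPeq, htop, ← MonoidHom.range_eq_map]
      exact MonoidHom.range_eq_top.2 (QuotientGroup.mk'_surjective K)
    have h3 : Y ≤ (P.comap (QuotientGroup.mk' K)).map L.subtype := by
      intro y hy
      exact ⟨⟨y, hYL hy⟩, h1 hy, rfl⟩
    have h4 : (P.comap (QuotientGroup.mk' K)).map L.subtype < L := by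
      refine lt_of_le_of_ne (Subgroup.map_subtype_le _) ?_
      intro heq
      apply h2
      rw [eq_top_iff]
      intro x _
      have hx : (x : G) ∈ (P.comap (QuotientGroup.mk' K)).map L.subtype := by
        rw [heq]; exact x.2
      obtain ⟨x', hx', hxx⟩ := hx
      have : x' = x := Subtype.ext hxx
      rw [← this]
      exact hx'
    have h5 := hmaxL _ h3 h4
    rw [← hPeq]
    apply Subgroup.map_mono
    intro x hx
    show (x : G) ∈ NL
    exact h5 ⟨x, hx, rfl⟩

theorem card_map_mk_eq_relIndex (L Y : Subgroup G) (hYL : Y ≤ L) (K : Subgroup ↥L) [K.Normal] :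
    Nat.card ((Y.subgroupOf L).map (QuotientGroup.mk' K)) =
      (Y ⊓ K.map L.subtype).relIndex Y := by
  have h := Subgroup.relIndex_ker (K := Y.subgroupOf L) (QuotientGroup.mk' K)
  rw [QuotientGroup.ker_mk'] at h
  rw [← h, Subgroup.inf_relIndex_left]
  rw [← Subgroup.relIndex_subgroupOf hYL]
  congr 1
  ext x
  rw [Subgroup.mem_subgroupOf]
  constructor
  · intro hx
    exact ⟨x, hx, rfl⟩
  · rintro ⟨y, hy, hyx⟩
    have : y = x := Subtype.ext hyx
    rw [← this]; exact hy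

theorem isPGroup_map_of_exp {p : ℕ} (L Y : Subgroup G) (hYe : ∀ a ∈ Y, a ^ p = 1)
    (K : Subgroup ↥L) [K.Normal] :
    IsPGroup p ((Y.subgroupOf L).map (QuotientGroup.mk' K)) := by
  rintro ⟨_, ⟨a, ha, rfl⟩⟩
  refine ⟨1, ?_⟩
  apply Subtype.ext
  rw [pow_one]
  show (QuotientGroup.mk' K a) ^ p = 1
  rw [← map_pow]
  have : a ^ p = 1 := by
    apply Subtype.ext
    have := hYe a.1 ha
    simpa using this
  rw [this, map_one]

theorem exp_map_of_exp {p : ℕ} (L Y : Subgroup G) (hYe : ∀ a ∈ Y, a ^ p = 1)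
    (K : Subgroup ↥L) [K.Normal] :
    ∀ a ∈ (Y.subgroupOf L).map (QuotientGroup.mk' K), a ^ p = 1 := by
  rintro _ ⟨a, ha, rfl⟩
  rw [← map_pow]
  have : a ^ p = 1 := by
    apply Subtype.ext
    have := hYe a.1 ha
    simpa using this
  rw [this, map_one]

/-- if the normal closure of `Y` is everything and the group is nontrivial, `Y ≠ ⊥`. -/
theorem ne_bot_of_normalClosure {X : Type*} [Group X] [Nontrivial X] (Y : Subgroup X)
    (h : Subgroup.normalClosure (Y : Set X) = ⊤) : Y ≠ ⊥ := by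
  rintro rfl
  have : Subgroup.normalClosure (((⊥ : Subgroup X) : Subgroup X) : Set X) = ⊥ := by
    rw [eq_bot_iff]
    apply Subgroup.normalClosure_le_normal
    intro x hx
    exact hx
  rw [this] at h
  exact bot_ne_top h

/-! ### The three model statements -/

/-- FO-1 as a proposition. -/
def SL2Model (p : ℕ) : Prop :=
  ∀ (F : Type) [Field F] [Fintype F]
    (Y B V : Subgroup (Matrix.SpecialLinearGroup (Fin 2) F)),
    IsPGroup p Y → Nat.card Y = Fintype.card F →
    Subgroup.normalClosure (Y : Set (Matrix.SpecialLinearGroup (Fin 2) F)) = ⊤ →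
    Y ≤ B → B ≤ Subgroup.normalizer (Y : Set (Matrix.SpecialLinearGroup (Fin 2) F)) →
    (∀ P : Subgroup (Matrix.SpecialLinearGroup (Fin 2) F), Y ≤ P → P ≠ ⊤ → P ≤ B) →
    V ≤ B → (∀ b ∈ B, ∀ v ∈ V, b * v * b⁻¹ ∈ V) → IsPGroup p V → V ≠ ⊥ → V = Y

/-- FO-2 as a proposition. -/
def SzModel : Prop :=
  ∀ (F : Type) [Field F] [Fintype F] (m : ℕ), Fintype.card F = 2 ^ (2 * m + 1) →
    ∀ (Y B V : Subgroup ↥(Cfsg.Lie.Sz F (2 ^ (m + 1)))),
    (∀ a ∈ Y, a ^ 2 = 1) → Nat.card Y = Fintype.card F →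
    Subgroup.normalClosure (Y : Set ↥(Cfsg.Lie.Sz F (2 ^ (m + 1)))) = ⊤ →
    Y ≤ B → B ≤ Subgroup.normalizer (Y : Set ↥(Cfsg.Lie.Sz F (2 ^ (m + 1)))) →
    (∀ P : Subgroup ↥(Cfsg.Lie.Sz F (2 ^ (m + 1))), Y ≤ P → P ≠ ⊤ → P ≤ B) →
    V ≤ B → (∀ b ∈ B, ∀ v ∈ V, b * v * b⁻¹ ∈ V) → (∀ a ∈ V, a ^ 2 = 1) → V ≠ ⊥ → V = Y

/-- FO-3 as a proposition. -/
def DihModel : Prop :=
  ∀ (r : ℕ), r.Prime → r ≠ 2 → ∀ (Y B V : Subgroup (DihedralGroup r)),
    IsPGroup 2 Y → Y ≠ ⊥ →
    Subgroup.normalClosure (Y : Set (DihedralGroup r)) = ⊤ →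
    Y ≤ B → B ≤ Subgroup.normalizer (Y : Set (DihedralGroup r)) →
    (∀ P : Subgroup (DihedralGroup r), Y ≤ P → P ≠ ⊤ → P ≤ B) →
    V ≤ B → (∀ b ∈ B, ∀ v ∈ V, b * v * b⁻¹ ∈ V) → IsPGroup 2 V → V ≠ ⊥ → V = Y


/-! ### Main reduction -/

theorem frakL_main {G : Type*} [Group G] [Finite G] {p : ℕ} [Fact p.Prime]
    (hSL : SL2Model p) (hSz : SzModel) (hDih : DihModel)
    (M L : Subgroup G) (hL : Cfsg.IsInFrakL p M L) (NL : Subgroup G)
    (hNL : NL = L ⊓ Subgroup.normalizer (((Cfsg.largestPReducedOf p M) : Subgroup G) : Set G))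
    [hn : (((Cfsg.pCoreOf p L)).subgroupOf NL).Normal] :
    let Ybar : Subgroup (↥NL ⧸ ((Cfsg.pCoreOf p L)).subgroupOf NL) :=
      (((Cfsg.largestPReducedOf p M)).subgroupOf NL).map
        (QuotientGroup.mk' (((Cfsg.pCoreOf p L)).subgroupOf NL))
    Ybar ≠ ⊥ ∧ Ybar.Normal ∧ Cfsg.IsElementaryAbelian p Ybar ∧
      ∀ (V : Subgroup (↥NL ⧸ ((Cfsg.pCoreOf p L)).subgroupOf NL)), V.Normal →
        Cfsg.IsElementaryAbelian p V → V ≠ ⊥ → V = Ybar := by
  obtain ⟨hYL, -, hAN, ⟨hgenL, -⟩, -, ⟨-, hNLmax⟩, hcases⟩ := hL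
  -- notation
  obtain ⟨Y, hYdef⟩ : ∃ Y : Subgroup G, Y = Cfsg.largestPReducedOf p M := ⟨_, rfl⟩
  rw [← hYdef] at hYL hAN hgenL hNLmax hcases hNL ⊢
  have hKn : (pCore p ↥L).Normal := Cfsg.Agent.Lib.Helper17.pCore_normal
  -- Y is elementary abelian
  obtain ⟨hYO, hYC, hYe⟩ := Cfsg.Agent.Lib.Helper17.largestPReducedOf_props (p := p) M
  rw [← hYdef] at hYO hYC hYe
  have hYc : ∀ a ∈ Y, ∀ b ∈ Y, a * b = b * a := by
    intro a ha b hb
    have := (Subgroup.mem_centralizer_iff.1 (hYC hb)) a (hYO ha)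
    exact this
  have hNLL : NL ≤ L := by rw [hNL]; exact inf_le_left
  have hNLn : NL ≤ Subgroup.normalizer (Y : Set G) := by rw [hNL]; exact inf_le_right
  have hYNL : Y ≤ NL := by
    rw [hNL]; exact le_inf hYL Subgroup.le_normalizer
  have hmaxL : ∀ X : Subgroup G, Y ≤ X → X < L → X ≤ NL := by
    intro X h1 h2
    rw [hNL]
    exact hNLmax X h1 h2
  have hMH := modelHyp_of_frakL L NL Y hYL hNL hgenL hmaxL (pCore p ↥L)
  have hA' : (Cfsg.pCoreOf p L).subgroupOf NL = ((pCore p ↥L).map L.subtype).subgroupOf NL := rfl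
  have hcard := card_map_mk_eq_relIndex L Y hYL (pCore p ↥L)
  have hYXp := isPGroup_map_of_exp (p := p) L Y hYe (pCore p ↥L)
  have hYXe := exp_map_of_exp (p := p) L Y hYe (pCore p ↥L)
  -- the uniqueness property and nontriviality in `L/K`
  have hkey : (Y.subgroupOf L).map (QuotientGroup.mk' (pCore p ↥L)) ≠ ⊥ ∧
      UniqueEA p ((Y.subgroupOf L).map (QuotientGroup.mk' (pCore p ↥L)))
        ((NL.subgroupOf L).map (QuotientGroup.mk' (pCore p ↥L))) := by
    rcases hcases with ⟨F, hFf, hFt, hFcard, ⟨e⟩⟩ | ⟨hp2, F, hFf, hFt, m, hF, hFcard, ⟨e⟩⟩ |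
      ⟨hp2, r, hr, hr2, ⟨e⟩⟩
    · -- SL₂
      have hcard' : Nat.card ((Y.subgroupOf L).map (QuotientGroup.mk' (pCore p ↥L))) =
          Fintype.card F := by
        rw [hcard, hFcard]
        congr 1
      refine ⟨?_, ?_⟩
      · intro hbot
        rw [hbot, Subgroup.card_bot] at hcard'
        have := Fintype.one_lt_card (α := F)
        omega
      · apply UniqueEA.of_map e
        intro V hVB hVn hVp _ _ hV1
        have hM' := hMH.map e
        refine hSL F _ _ V (hYXp.map e.toMonoidHom) ?_ hM'.hgen hM'.hYB hM'.hBN hM'.hmax hVB hVn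
          hVp hV1
        rw [Subgroup.card_map_of_injective e.injective]
        exact hcard'
    · -- Suzuki
      subst hp2
      have hcard' : Nat.card ((Y.subgroupOf L).map (QuotientGroup.mk' (pCore 2 ↥L))) =
          Fintype.card F := by
        rw [hcard, hFcard]
        congr 1
      refine ⟨?_, ?_⟩
      · intro hbot
        rw [hbot, Subgroup.card_bot] at hcard'
        have := Fintype.one_lt_card (α := F)
        omega
      · apply UniqueEA.of_map e
        intro V hVB hVn _ _ hVe hV1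
        have hM' := hMH.map e
        refine hSz F m hF _ _ V ?_ ?_ hM'.hgen hM'.hYB hM'.hBN hM'.hmax hVB hVn hVe hV1
        · rintro _ ⟨a, ha, rfl⟩
          rw [← map_pow, hYXe a ha, map_one]
        · rw [Subgroup.card_map_of_injective e.injective]
          exact hcard'
    · -- dihedral
      subst hp2
      have hM' := hMH.map e
      haveI : Nontrivial (DihedralGroup r) := by
        haveI : NeZero r := ⟨hr.ne_zero⟩
        rw [← Finite.one_lt_card_iff_nontrivial, DihedralGroup.nat_card]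
        have := hr.two_le
        omega
      have hY1' := ne_bot_of_normalClosure _ hM'.hgen
      refine ⟨?_, ?_⟩
      · intro hbot
        apply hY1'
        rw [hbot, Subgroup.map_bot]
      · apply UniqueEA.of_map e
        intro V hVB hVn hVp _ _ hV1
        exact hDih r hr hr2 _ _ V (hYXp.map e.toMonoidHom) hY1' hM'.hgen hM'.hYB hM'.hBN hM'.hmax
          hVB hVn hVp hV1
  exact conclusion_of_unique L NL Y hYNL hNLL hNLn (pCore p ↥L)
    ((Cfsg.pCoreOf p L).subgroupOf NL) hA' hYc hYe hkey.1 hkey.2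

end Cfsg.Agent.Lib.Helper27.FrakLQuot
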