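import Mathlib
import Cfsg.Agent.Lib.Helper15.SLNormal

/-!
# Helper27: automorphism groups of `C_p × C_p` containing `SL(2,p)`

If `A` is elementary abelian of order `p ^ 2` and `Γ ≤ Aut A` has order divisible by `p` and no
nontrivial normal `p`-subgroup, then `Γ` contains a copy of `SL(2, p)`.
-/

set_option autoImplicit false

namespace Cfsg.Agent.Lib.Helper27

open Matrix

section RankTwo

variable {A : Type*} [Group A] {p : ℕ} [Fact p.Prime]

theorem zp_add {x : A} (hx : x ^ p = 1) (c d : ZMod p) :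
    x ^ (c + d).val = x ^ c.val * x ^ d.val := by
  rw [ZMod.val_add, ← pow_add, ← pow_eq_pow_mod _ hx]

theorem zp_mul {x : A} (hx : x ^ p = 1) (c d : ZMod p) :
    x ^ (c * d).val = (x ^ c.val) ^ d.val := by
  rw [ZMod.val_mul, ← pow_mul, ← pow_eq_pow_mod _ hx]

theorem zp_natCast {x : A} (hx : x ^ p = 1) (n : ℕ) : x ^ ((n : ZMod p)).val = x ^ n := by
  rw [ZMod.val_natCast, ← pow_eq_pow_mod _ hx]

theorem zp_eq_zero_of_mem {x : A} (hx : x ^ p = 1) (L : Subgroup A) (hxL : x ∉ L) (c : ZMod p)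
    (h : x ^ c.val ∈ L) : c = 0 := by
  by_contra hc
  apply hxL
  have h1 : x = (x ^ c.val) ^ (c⁻¹).val := by
    rw [← zp_mul hx, mul_inv_cancel₀ hc, ZMod.val_one, pow_one]
  rw [h1]
  exact L.pow_mem h _

theorem mul4 (hcomm : ∀ x y : A, x * y = y * x) (a b c d : A) :
    (a * b) * (c * d) = (a * c) * (b * d) := by
  rw [mul_assoc, ← mul_assoc b c d, hcomm b c, mul_assoc c b d, ← mul_assoc]

/-- The subgroup of fixed points of an automorphism. -/
def fixSub (a : MulAut A) : Subgroup A where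
  carrier := {x | a x = x}
  mul_mem' := fun {x y} hx hy => by
    show a (x * y) = x * y
    rw [map_mul, show a x = x from hx, show a y = y from hy]
  one_mem' := map_one a
  inv_mem' := fun {x} hx => by
    show a x⁻¹ = x⁻¹
    rw [map_inv, show a x = x from hx]

theorem mem_fixSub (a : MulAut A) (x : A) : x ∈ fixSub a ↔ a x = x := Iff.rfl

/-- The subgroup of automorphisms preserving a subgroup `M`. -/
def stabSub (M : Subgroup A) : Subgroup (MulAut A) where
  carrier := {g | ∀ y, g y ∈ M ↔ y ∈ M}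
  one_mem' := fun _ => Iff.rfl
  mul_mem' := fun {g h} hg hh y => by
    show g (h y) ∈ M ↔ y ∈ M
    rw [hg (h y), hh y]
  inv_mem' := fun {g} hg y => by
    have := hg (g⁻¹ y)
    rw [MulAut.apply_inv_self] at this
    exact this.symm

theorem mem_stabSub (M : Subgroup A) (g : MulAut A) : g ∈ stabSub M ↔ ∀ y, g y ∈ M ↔ y ∈ M :=
  Iff.rfl

/-- An automorphism of `p`-power order of a finite `p`-group has a nontrivial fixed point in
every nontrivial invariant subgroup. -/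
theorem exists_fixed_ne_one [Finite A] (hA : IsPGroup p A) (a : MulAut A) {k : ℕ}
    (ha : a ^ p ^ k = 1) (M : Subgroup A) (hM : ∀ y, a y ∈ M ↔ y ∈ M) (hne : M ≠ ⊥) :
    ∃ y ∈ M, y ≠ 1 ∧ a y = y := by
  classical
  have hG : IsPGroup p (Subgroup.zpowers a) := by
    rintro ⟨g, hg⟩
    obtain ⟨n, rfl⟩ := Subgroup.mem_zpowers_iff.mp hg
    refine ⟨k, Subtype.ext ?_⟩
    rw [Subgroup.coe_pow, Subgroup.coe_one]
    calc (a ^ n) ^ p ^ k = (a ^ n) ^ ((p ^ k : ℕ) : ℤ) := (zpow_natCast _ _).symm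
      _ = a ^ (n * ((p ^ k : ℕ) : ℤ)) := (zpow_mul a n _).symm
      _ = (a ^ ((p ^ k : ℕ) : ℤ)) ^ n := zpow_mul' a n _
      _ = 1 := by rw [zpow_natCast, ha, _root_.one_zpow]
  have hSt : Subgroup.zpowers a ≤ stabSub M := by
    rw [Subgroup.zpowers_le]
    exact (mem_stabSub M a).mpr hM
  let X : SubMulAction (Subgroup.zpowers a) A :=
    { carrier := (M : Set A)
      smul_mem' := fun g {y} hy => ((mem_stabSub M _).mp (hSt g.2) y).mpr hy }
  have hXcard : Nat.card X = Nat.card M :=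
    Nat.card_congr (Equiv.subtypeEquivRight (fun _ => Iff.rfl))
  have hMnt : Nontrivial M := (Subgroup.nontrivial_iff_ne_bot M).mpr hne
  obtain ⟨n, hn0, hn⟩ := (hA.to_subgroup M).nontrivial_iff_card.mp hMnt
  have hdvd : p ∣ Nat.card X := by
    rw [hXcard, hn]
    exact dvd_pow_self _ (ne_of_gt hn0)
  have h1 : (⟨1, M.one_mem⟩ : X) ∈ MulAction.fixedPoints (Subgroup.zpowers a) X := by
    intro g
    apply Subtype.ext
    show (g : MulAut A) (1 : A) = 1
    exact map_one _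
  obtain ⟨b, hb, hb1⟩ := hG.exists_fixed_point_of_prime_dvd_card_of_fixed_point X hdvd h1
  refine ⟨b.1, b.2, ?_, ?_⟩
  · intro h
    apply hb1
    exact Subtype.ext h.symm
  · have := hb ⟨a, Subgroup.mem_zpowers a⟩
    exact congrArg Subtype.val this

/-- The fixed-point subgroup of an automorphism of order `p` of a group of order `p ^ 2`
has order `p`. -/
theorem fixSub_card [Finite A] (hcard : Nat.card A = p ^ 2) (a : MulAut A) (ha1 : a ≠ 1)
    (hap : a ^ p = 1) : Nat.card (fixSub a) = p := by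
  have hp : p.Prime := Fact.out
  have hA : IsPGroup p A := IsPGroup.of_card hcard
  have hap' : a ^ p ^ 1 = 1 := by rw [pow_one]; exact hap
  have htop : (⊤ : Subgroup A) ≠ ⊥ := by
    intro h
    have h2 : p ^ 2 = 1 := by
      rw [← hcard, ← Subgroup.card_top (G := A), h, Subgroup.card_bot]
    exact absurd h2 (Nat.one_lt_pow two_ne_zero hp.one_lt).ne'
  obtain ⟨y, -, hy1, hy⟩ := exists_fixed_ne_one hA a hap' ⊤ (fun y => by simp) htop
  have hLbot : fixSub a ≠ ⊥ := by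
    intro h
    have hmem : y ∈ fixSub a := hy
    rw [h, Subgroup.mem_bot] at hmem
    exact hy1 hmem
  have hLtop : fixSub a ≠ ⊤ := by
    intro h
    apply ha1
    refine MulEquiv.ext (fun x => ?_)
    have hmem : x ∈ fixSub a := by rw [h]; exact Subgroup.mem_top x
    exact hmem
  have hdiv : Nat.card (fixSub a) ∣ p ^ 2 := by
    rw [← hcard]; exact Subgroup.card_subgroup_dvd_card _
  obtain ⟨k, hk, hkeq⟩ := (Nat.dvd_prime_pow hp).mp hdiv
  interval_cases k
  · exfalso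
    apply hLbot
    rw [← Subgroup.card_eq_one]
    simpa using hkeq
  · simpa using hkeq
  · exfalso
    apply hLtop
    rw [← Subgroup.card_eq_iff_eq_top, hkeq, hcard]

/-- `x ↦ x⁻¹ * a x` as an endomorphism of a commutative group. -/
def commHom (hcomm : ∀ x y : A, x * y = y * x) (a : MulAut A) : A →* A where
  toFun := fun x => x⁻¹ * a x
  map_one' := by simp
  map_mul' := fun x y => by
    show (x * y)⁻¹ * a (x * y) = x⁻¹ * a x * (y⁻¹ * a y)
    rw [map_mul, _root_.mul_inv_rev, hcomm y⁻¹ x⁻¹, mul4 hcomm]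

theorem commHom_apply (hcomm : ∀ x y : A, x * y = y * x) (a : MulAut A) (x : A) :
    commHom hcomm a x = x⁻¹ * a x := rfl

/-- An automorphism of order `p` of an abelian group of order `p ^ 2` acts trivially modulo its
fixed points. -/
theorem fixSub_comm_mem [Finite A] (hcomm : ∀ x y : A, x * y = y * x)
    (hcard : Nat.card A = p ^ 2) (a : MulAut A) (ha1 : a ≠ 1) (hap : a ^ p = 1) (x : A) :
    x⁻¹ * a x ∈ fixSub a := by
  have hp : p.Prime := Fact.out
  have hA : IsPGroup p A := IsPGroup.of_card hcard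
  have hap' : a ^ p ^ 1 = 1 := by rw [pow_one]; exact hap
  have hker : (commHom hcomm a).ker = fixSub a := by
    ext z
    rw [MonoidHom.mem_ker, mem_fixSub, commHom_apply, inv_mul_eq_one]
    exact eq_comm
  have hcardL := fixSub_card hcard a ha1 hap
  have hcardM : Nat.card (commHom hcomm a).range = p := by
    have h1 : Nat.card (commHom hcomm a).ker * (commHom hcomm a).ker.index = Nat.card A :=
      Subgroup.card_mul_index _
    rw [Subgroup.index_ker, hker, hcardL, hcard, pow_two] at h1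
    exact Nat.eq_of_mul_eq_mul_left hp.pos h1
  have hMinv : ∀ y, a y ∈ (commHom hcomm a).range ↔ y ∈ (commHom hcomm a).range := by
    intro y
    constructor
    · rintro ⟨z, hz⟩
      refine ⟨a⁻¹ z, ?_⟩
      apply a.injective
      rw [← hz, commHom_apply, commHom_apply, map_mul, map_inv, MulAut.apply_inv_self]
    · rintro ⟨z, rfl⟩
      refine ⟨a z, ?_⟩
      rw [commHom_apply, commHom_apply, map_mul, map_inv]
  have hMne : (commHom hcomm a).range ≠ ⊥ := by
    intro h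
    rw [h, Subgroup.card_bot] at hcardM
    exact hp.one_lt.ne hcardM
  obtain ⟨y, hyM, hy1, hy⟩ := exists_fixed_ne_one hA a hap' _ hMinv hMne
  have hz : Subgroup.zpowers (⟨y, hyM⟩ : (commHom hcomm a).range) = ⊤ :=
    zpowers_eq_top_of_prime_card hcardM (fun h => hy1 (congrArg Subtype.val h))
  have hx : (⟨commHom hcomm a x, ⟨x, rfl⟩⟩ : (commHom hcomm a).range) ∈
      Subgroup.zpowers (⟨y, hyM⟩ : (commHom hcomm a).range) := by
    rw [hz]; exact Subgroup.mem_top _
  obtain ⟨k, hk⟩ := Subgroup.mem_zpowers_iff.mp hx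
  have hk' : y ^ k = commHom hcomm a x := by
    have := congrArg Subtype.val hk
    simpa using this
  rw [commHom_apply] at hk'
  rw [mem_fixSub, ← hk', map_zpow, hy]

/-- The automorphisms fixing `L` pointwise and acting trivially modulo `L`. -/
def unipSub (L : Subgroup A) : Subgroup (MulAut A) where
  carrier := {γ | (∀ x ∈ L, γ x = x) ∧ ∀ x, x⁻¹ * γ x ∈ L}
  one_mem' := ⟨fun _ _ => rfl, fun x => by
    show x⁻¹ * x ∈ L
    rw [inv_mul_cancel]; exact L.one_mem⟩
  mul_mem' := by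
    rintro γ γ' ⟨h1, h2⟩ ⟨h1', h2'⟩
    refine ⟨fun x hx => ?_, fun x => ?_⟩
    · show γ (γ' x) = x
      rw [h1' x hx, h1 x hx]
    · have h3 : x⁻¹ * γ (γ' x) = (x⁻¹ * γ' x) * ((γ' x)⁻¹ * γ (γ' x)) := by group
      show x⁻¹ * γ (γ' x) ∈ L
      rw [h3]
      exact L.mul_mem (h2' x) (h2 (γ' x))
  inv_mem' := by
    rintro γ ⟨h1, h2⟩
    refine ⟨fun x hx => ?_, fun x => ?_⟩
    · have h3 := h1 x hx
      calc γ⁻¹ x = γ⁻¹ (γ x) := by rw [h3]
        _ = x := MulAut.inv_apply_self _ γ x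
    · have h3 := h2 (γ⁻¹ x)
      rw [MulAut.apply_inv_self] at h3
      have h4 := L.inv_mem h3
      rwa [_root_.mul_inv_rev, inv_inv] at h4

theorem mem_unipSub (L : Subgroup A) (γ : MulAut A) :
    γ ∈ unipSub L ↔ (∀ x ∈ L, γ x = x) ∧ ∀ x, x⁻¹ * γ x ∈ L := Iff.rfl

omit [Fact (Nat.Prime p)] in
theorem unipSub_pow (hexp : ∀ x : A, x ^ p = 1) (L : Subgroup A) (γ : MulAut A)
    (hγ : γ ∈ unipSub L) : γ ^ p = 1 := by
  obtain ⟨h1, h2⟩ := (mem_unipSub L γ).mp hγ
  have key : ∀ (n : ℕ) (x : A), (γ ^ n) x = x * (x⁻¹ * γ x) ^ n := by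
    intro n x
    induction n with
    | zero => simp
    | succ n ih =>
      calc (γ ^ (n + 1)) x = γ ((γ ^ n) x) := by rw [pow_succ', MulAut.mul_apply]
        _ = γ x * (γ (x⁻¹ * γ x)) ^ n := by rw [ih, map_mul, map_pow]
        _ = γ x * (x⁻¹ * γ x) ^ n := by rw [h1 _ (h2 x)]
        _ = x * (x⁻¹ * γ x) ^ (n + 1) := by rw [pow_succ', ← mul_assoc, mul_inv_cancel_left]
  refine MulEquiv.ext (fun x => ?_)
  rw [key p, hexp, mul_one, MulAut.one_apply]

theorem unipSub_isPGroup (hexp : ∀ x : A, x ^ p = 1) (L : Subgroup A) :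
    IsPGroup p (unipSub L) := by
  rintro ⟨γ, hγ⟩
  refine ⟨1, Subtype.ext ?_⟩
  rw [pow_one, Subgroup.coe_pow, Subgroup.coe_one]
  exact unipSub_pow hexp L γ hγ

/-- If `Γ` has no nontrivial normal `p`-subgroup, an element of order `p` of `Γ` has a conjugate
with different fixed points. -/
theorem exists_move [Finite A] (hcomm : ∀ x y : A, x * y = y * x) (hexp : ∀ x : A, x ^ p = 1)
    (hcard : Nat.card A = p ^ 2) (Γ : Subgroup (MulAut A))
    (hOp : ∀ N : Subgroup Γ, N.Normal → IsPGroup p N → N = ⊥)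
    (a : MulAut A) (haΓ : a ∈ Γ) (ha1 : a ≠ 1) (hap : a ^ p = 1) :
    ∃ g ∈ Γ, ∃ x ∈ fixSub a, g x ∉ fixSub a := by
  by_contra hcon
  push Not at hcon
  have hU' : IsPGroup p ((unipSub (fixSub a)).subgroupOf Γ) :=
    (unipSub_isPGroup hexp (fixSub a)).comap_subtype
  have hle : Subgroup.normalClosure ({(⟨a, haΓ⟩ : Γ)} : Set Γ) ≤
      (unipSub (fixSub a)).subgroupOf Γ := by
    unfold Subgroup.normalClosure
    rw [Subgroup.closure_le]
    intro y hy
    rw [Group.mem_conjugatesOfSet_iff] at hy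
    obtain ⟨b, hb, hconj⟩ := hy
    rw [Set.mem_singleton_iff] at hb
    subst hb
    rw [isConj_iff] at hconj
    obtain ⟨c, rfl⟩ := hconj
    rw [SetLike.mem_coe, Subgroup.mem_subgroupOf]
    have hc : (c : MulAut A) ∈ Γ := c.2
    have hc' : (c : MulAut A)⁻¹ ∈ Γ := Γ.inv_mem c.2
    show ((c : MulAut A) * a * (c : MulAut A)⁻¹) ∈ unipSub (fixSub a)
    rw [mem_unipSub]
    constructor
    · intro x hx
      have h1 : (c : MulAut A)⁻¹ x ∈ fixSub a := hcon _ hc' x hx
      show (c : MulAut A) (a ((c : MulAut A)⁻¹ x)) = x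
      rw [(mem_fixSub a _).mp h1, MulAut.apply_inv_self]
    · intro x
      have h2 := fixSub_comm_mem hcomm hcard a ha1 hap ((c : MulAut A)⁻¹ x)
      have h3 := hcon _ hc _ h2
      rw [map_mul, map_inv, MulAut.apply_inv_self] at h3
      exact h3
  have hNp : IsPGroup p (Subgroup.normalClosure ({(⟨a, haΓ⟩ : Γ)} : Set Γ)) := hU'.to_le hle
  have hbot := hOp _ Subgroup.normalClosure_normal hNp
  have hmem : (⟨a, haΓ⟩ : Γ) ∈ Subgroup.normalClosure ({(⟨a, haΓ⟩ : Γ)} : Set Γ) :=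
    Subgroup.subset_normalClosure (Set.mem_singleton _)
  rw [hbot, Subgroup.mem_bot] at hmem
  exact ha1 (congrArg Subtype.val hmem)

/-- In a subgroup of order `p`, every element is a power of a given nontrivial element. -/
theorem exists_zp_of_mem [Finite A] (hexp : ∀ x : A, x ^ p = 1) (L : Subgroup A)
    (hL : Nat.card L = p) (e : A) (heL : e ∈ L) (he1 : e ≠ 1) (y : A) (hy : y ∈ L) :
    ∃ c : ZMod p, y = e ^ c.val := by
  have hz : Subgroup.zpowers (⟨e, heL⟩ : L) = ⊤ :=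
    zpowers_eq_top_of_prime_card hL (fun h => he1 (congrArg Subtype.val h))
  have hy' : (⟨y, hy⟩ : L) ∈ Subgroup.zpowers (⟨e, heL⟩ : L) := by
    rw [hz]; exact Subgroup.mem_top _
  rw [← mem_powers_iff_mem_zpowers, Submonoid.mem_powers_iff] at hy'
  obtain ⟨n, hn⟩ := hy'
  refine ⟨(n : ZMod p), ?_⟩
  rw [zp_natCast (hexp e)]
  have := congrArg Subtype.val hn
  simpa using this.symm

/-- The coordinate homomorphism `(i, j) ↦ e1 ^ i * e2 ^ j`. -/
def coordHom (hcomm : ∀ x y : A, x * y = y * x) (hexp : ∀ x : A, x ^ p = 1) (e1 e2 : A) :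
    Multiplicative (Fin 2 → ZMod p) →* A where
  toFun := fun w => e1 ^ (Multiplicative.toAdd w 0).val * e2 ^ (Multiplicative.toAdd w 1).val
  map_one' := by simp
  map_mul' := fun v w => by
    have h0 : (Multiplicative.toAdd (v * w)) 0 =
        Multiplicative.toAdd v 0 + Multiplicative.toAdd w 0 := rfl
    have h1 : (Multiplicative.toAdd (v * w)) 1 =
        Multiplicative.toAdd v 1 + Multiplicative.toAdd w 1 := rfl
    show e1 ^ (Multiplicative.toAdd (v * w) 0).val * e2 ^ (Multiplicative.toAdd (v * w) 1).val =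
      (e1 ^ (Multiplicative.toAdd v 0).val * e2 ^ (Multiplicative.toAdd v 1).val) *
      (e1 ^ (Multiplicative.toAdd w 0).val * e2 ^ (Multiplicative.toAdd w 1).val)
    rw [h0, h1, zp_add (hexp e1), zp_add (hexp e2), mul4 hcomm]

theorem coordHom_apply (hcomm : ∀ x y : A, x * y = y * x) (hexp : ∀ x : A, x ^ p = 1) (e1 e2 : A)
    (v : Fin 2 → ZMod p) :
    coordHom hcomm hexp e1 e2 (Multiplicative.ofAdd v) = e1 ^ (v 0).val * e2 ^ (v 1).val := rfl

theorem coordHom_injective (hcomm : ∀ x y : A, x * y = y * x) (hexp : ∀ x : A, x ^ p = 1)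
    (e1 e2 : A) (L : Subgroup A) (he1L : e1 ∈ L) (he1 : e1 ≠ 1) (he2L : e2 ∉ L) :
    Function.Injective (coordHom hcomm hexp e1 e2) := by
  rw [injective_iff_map_eq_one]
  intro w hw
  have hw' : e1 ^ (Multiplicative.toAdd w 0).val * e2 ^ (Multiplicative.toAdd w 1).val = 1 := hw
  have h2 : e2 ^ (Multiplicative.toAdd w 1).val ∈ L := by
    have h3 : e2 ^ (Multiplicative.toAdd w 1).val = (e1 ^ (Multiplicative.toAdd w 0).val)⁻¹ :=
      eq_inv_of_mul_eq_one_right hw'
    rw [h3]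
    exact L.inv_mem (L.pow_mem he1L _)
  have hc1 := zp_eq_zero_of_mem (hexp e2) L he2L _ h2
  rw [hc1, ZMod.val_zero, pow_zero, mul_one] at hw'
  have hc0 := zp_eq_zero_of_mem (hexp e1) ⊥ (by rw [Subgroup.mem_bot]; exact he1) _
    (by rw [Subgroup.mem_bot]; exact hw')
  have hall : ∀ i : Fin 2, Multiplicative.toAdd w i = 0 := Fin.forall_fin_two.mpr ⟨hc0, hc1⟩
  have h0 : Multiplicative.toAdd w = 0 := funext hall
  exact Multiplicative.toAdd.injective h0

theorem coordHom_bijective [Finite A] (hcomm : ∀ x y : A, x * y = y * x)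
    (hexp : ∀ x : A, x ^ p = 1) (hcard : Nat.card A = p ^ 2)
    (e1 e2 : A) (L : Subgroup A) (he1L : e1 ∈ L) (he1 : e1 ≠ 1) (he2L : e2 ∉ L) :
    Function.Bijective (coordHom hcomm hexp e1 e2) := by
  refine (coordHom_injective hcomm hexp e1 e2 L he1L he1 he2L).bijective_of_nat_card_le ?_
  have h1 : Nat.card (Multiplicative (Fin 2 → ZMod p)) = p ^ 2 := by
    rw [Nat.card_congr Multiplicative.toAdd, Nat.card_fun, Nat.card_zmod, Nat.card_eq_fintype_card,
      Fintype.card_fin]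
  rw [h1, hcard]

/-- The action of `SL(2, p)` on `Multiplicative (Fin 2 → ZMod p)`. -/
noncomputable def rho0 :
    SpecialLinearGroup (Fin 2) (ZMod p) →* MulAut (Multiplicative (Fin 2 → ZMod p)) :=
  (MulAutMultiplicative (Fin 2 → ZMod p)).symm.toMonoidHom.comp
    (DistribMulAction.toAddAut (SpecialLinearGroup (Fin 2) (ZMod p)) (Fin 2 → ZMod p))

theorem rho0_apply (M : SpecialLinearGroup (Fin 2) (ZMod p)) (v : Fin 2 → ZMod p) :
    rho0 M (Multiplicative.ofAdd v) = Multiplicative.ofAdd (M.1 *ᵥ v) := rfl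

/-- The action of `SL(2, p)` transported along coordinates. -/
noncomputable def rhoOf (ψ : Multiplicative (Fin 2 → ZMod p) ≃* A) :
    SpecialLinearGroup (Fin 2) (ZMod p) →* MulAut A :=
  (MulAut.congr ψ).toMonoidHom.comp rho0

theorem rhoOf_apply (ψ : Multiplicative (Fin 2 → ZMod p) ≃* A)
    (M : SpecialLinearGroup (Fin 2) (ZMod p)) (v : Fin 2 → ZMod p) :
    rhoOf ψ M (ψ (Multiplicative.ofAdd v)) = ψ (Multiplicative.ofAdd (M.1 *ᵥ v)) := by
  show ψ (rho0 M (ψ.symm (ψ (Multiplicative.ofAdd v)))) = _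
  rw [MulEquiv.symm_apply_apply, rho0_apply]

theorem rhoOf_injective (ψ : Multiplicative (Fin 2 → ZMod p) ≃* A) :
    Function.Injective (rhoOf ψ) := by
  rw [injective_iff_map_eq_one]
  intro M hM
  have h1 : ∀ v, M.1 *ᵥ v = v := by
    intro v
    have h2 := rhoOf_apply ψ M v
    rw [hM, MulAut.one_apply] at h2
    exact (Multiplicative.ofAdd.injective (ψ.injective h2)).symm
  apply Subtype.ext
  show M.1 = 1
  refine Matrix.ext_of_mulVec_single (fun i => ?_)
  rw [h1, Matrix.one_mulVec]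

theorem T01_mulVec (c : ZMod p) (v : Fin 2 → ZMod p) :
    (SpecialLinearGroup.transvection (show (0 : Fin 2) ≠ 1 by decide) c).1 *ᵥ v =
      ![v 0 + c * v 1, v 1] := by
  ext i
  fin_cases i <;>
  simp [SpecialLinearGroup.transvection_coe, Matrix.mulVec, dotProduct, Fin.sum_univ_two,
    Matrix.add_apply, Matrix.one_apply, Matrix.single_apply]

theorem T10_mulVec (c : ZMod p) (v : Fin 2 → ZMod p) :
    (SpecialLinearGroup.transvection (show (1 : Fin 2) ≠ 0 by decide) c).1 *ᵥ v =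
      ![v 0, c * v 0 + v 1] := by
  ext i
  fin_cases i <;>
  simp [SpecialLinearGroup.transvection_coe, Matrix.mulVec, dotProduct, Fin.sum_univ_two,
    Matrix.add_apply, Matrix.one_apply, Matrix.single_apply]

theorem fin2_cases (i j : Fin 2) (h : i ≠ j) : (i = 0 ∧ j = 1) ∨ (i = 1 ∧ j = 0) := by
  fin_cases i <;> fin_cases j <;> simp at h ⊢

theorem transvection_nsmul {i j : Fin 2} (hij : i ≠ j) (c : ZMod p) (n : ℕ) :
    SpecialLinearGroup.transvection hij (n • c) = (SpecialLinearGroup.transvection hij c) ^ n := by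
  induction n with
  | zero => rw [zero_smul, pow_zero, SpecialLinearGroup.transvection_coeff_zero]
  | succ n ih => rw [succ_nsmul, SpecialLinearGroup.transvection_add, ih, pow_succ]

theorem exists_nsmul_eq {lam : ZMod p} (h : lam ≠ 0) (c : ZMod p) : ∃ n : ℕ, n • lam = c := by
  refine ⟨(c * lam⁻¹).val, ?_⟩
  rw [nsmul_eq_mul, ZMod.natCast_zmod_val, mul_assoc, inv_mul_cancel₀ h, mul_one]

theorem rhoOf_T01 (hcomm : ∀ x y : A, x * y = y * x) (hexp : ∀ x : A, x ^ p = 1) (e1 e2 : A)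
    (hbij : Function.Bijective (coordHom hcomm hexp e1 e2)) (a : MulAut A) (lam : ZMod p)
    (hae1 : a e1 = e1) (hae2 : a e2 = e2 * e1 ^ lam.val) :
    rhoOf (MulEquiv.ofBijective (coordHom hcomm hexp e1 e2) hbij)
      (SpecialLinearGroup.transvection (show (0 : Fin 2) ≠ 1 by decide) lam) = a := by
  refine MulEquiv.ext (fun x => ?_)
  obtain ⟨w, rfl⟩ := (MulEquiv.ofBijective (coordHom hcomm hexp e1 e2) hbij).surjective x
  obtain ⟨v, rfl⟩ := Multiplicative.ofAdd.surjective w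
  rw [rhoOf_apply, T01_mulVec]
  show e1 ^ (v 0 + lam * v 1).val * e2 ^ (v 1).val = a (e1 ^ (v 0).val * e2 ^ (v 1).val)
  calc e1 ^ (v 0 + lam * v 1).val * e2 ^ (v 1).val
      = (e1 ^ (v 0).val * (e1 ^ lam.val) ^ (v 1).val) * e2 ^ (v 1).val := by
        rw [zp_add (hexp e1), zp_mul (hexp e1)]
    _ = e1 ^ (v 0).val * (e2 ^ (v 1).val * (e1 ^ lam.val) ^ (v 1).val) := by
        rw [mul_assoc, hcomm ((e1 ^ lam.val) ^ (v 1).val)]
    _ = e1 ^ (v 0).val * (e2 * e1 ^ lam.val) ^ (v 1).val := by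
        rw [Commute.mul_pow (show Commute e2 (e1 ^ lam.val) from hcomm _ _)]
    _ = a (e1 ^ (v 0).val * e2 ^ (v 1).val) := by
        rw [map_mul, map_pow, map_pow, hae1, hae2]

theorem rhoOf_T10 (hcomm : ∀ x y : A, x * y = y * x) (hexp : ∀ x : A, x ^ p = 1) (e1 e2 : A)
    (hbij : Function.Bijective (coordHom hcomm hexp e1 e2)) (b : MulAut A) (mu : ZMod p)
    (hbe2 : b e2 = e2) (hbe1 : b e1 = e1 * e2 ^ mu.val) :
    rhoOf (MulEquiv.ofBijective (coordHom hcomm hexp e1 e2) hbij)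
      (SpecialLinearGroup.transvection (show (1 : Fin 2) ≠ 0 by decide) mu) = b := by
  refine MulEquiv.ext (fun x => ?_)
  obtain ⟨w, rfl⟩ := (MulEquiv.ofBijective (coordHom hcomm hexp e1 e2) hbij).surjective x
  obtain ⟨v, rfl⟩ := Multiplicative.ofAdd.surjective w
  rw [rhoOf_apply, T10_mulVec]
  show e1 ^ (v 0).val * e2 ^ (mu * v 0 + v 1).val = b (e1 ^ (v 0).val * e2 ^ (v 1).val)
  calc e1 ^ (v 0).val * e2 ^ (mu * v 0 + v 1).val
      = e1 ^ (v 0).val * ((e2 ^ mu.val) ^ (v 0).val * e2 ^ (v 1).val) := by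
        rw [zp_add (hexp e2), zp_mul (hexp e2)]
    _ = (e1 * e2 ^ mu.val) ^ (v 0).val * e2 ^ (v 1).val := by
        rw [Commute.mul_pow (show Commute e1 (e2 ^ mu.val) from hcomm _ _), mul_assoc]
    _ = b (e1 ^ (v 0).val * e2 ^ (v 1).val) := by
        rw [map_mul, map_pow, map_pow, hbe1, hbe2]

/-- **Main lemma**: an injective homomorphism `SL(2, p) → Aut A` with image in `Γ`. -/
theorem exists_SL2_hom [Finite A] (hcomm : ∀ x y : A, x * y = y * x) (hexp : ∀ x : A, x ^ p = 1)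
    (hcard : Nat.card A = p ^ 2) (Γ : Subgroup (MulAut A)) (hdvd : p ∣ Nat.card Γ)
    (hOp : ∀ N : Subgroup Γ, N.Normal → IsPGroup p N → N = ⊥) :
    ∃ ρ : SpecialLinearGroup (Fin 2) (ZMod p) →* MulAut A, Function.Injective ρ ∧ ∀ M, ρ M ∈ Γ := by
  have hp : p.Prime := Fact.out
  obtain ⟨a', ha'⟩ := exists_prime_orderOf_dvd_card' p hdvd
  obtain ⟨a, haΓ⟩ := a'
  have ha1 : a ≠ 1 := by
    intro h
    subst h
    have h1 : (⟨1, haΓ⟩ : Γ) = 1 := rfl
    rw [h1, orderOf_one] at ha'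
    exact hp.one_lt.ne ha'
  have hap : a ^ p = 1 := by
    have h1 := pow_orderOf_eq_one (⟨a, haΓ⟩ : Γ)
    rw [ha'] at h1
    exact congrArg Subtype.val h1
  obtain ⟨g, hgΓ, e1, he1L, he2L⟩ := exists_move hcomm hexp hcard Γ hOp a haΓ ha1 hap
  have hbΓ : g * a * g⁻¹ ∈ Γ := Γ.mul_mem (Γ.mul_mem hgΓ haΓ) (Γ.inv_mem hgΓ)
  have hbp : (g * a * g⁻¹) ^ p = 1 := by rw [conj_pow, hap, mul_one, mul_inv_cancel]
  have hb1 : g * a * g⁻¹ ≠ 1 := by
    intro h
    apply ha1
    have h2 : a = g⁻¹ * (g * a * g⁻¹) * g := by group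
    rw [h2, h, mul_one, inv_mul_cancel]
  have hbe2 : (g * a * g⁻¹) (g e1) = g e1 := by
    show g (a (g⁻¹ (g e1))) = g e1
    rw [MulAut.inv_apply_self, (mem_fixSub a e1).mp he1L]
  have he1 : e1 ≠ 1 := by
    intro h
    apply he2L
    rw [h, map_one]
    exact (fixSub a).one_mem
  have he2 : g e1 ≠ 1 := by
    intro h
    apply he2L
    rw [h]
    exact (fixSub a).one_mem
  have hLa := fixSub_card hcard a ha1 hap
  have hLb := fixSub_card hcard (g * a * g⁻¹) hb1 hbp
  -- the coefficient of `a`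
  obtain ⟨lam, hlam⟩ := exists_zp_of_mem hexp (fixSub a) hLa e1 he1L he1 ((g e1)⁻¹ * a (g e1))
    (fixSub_comm_mem hcomm hcard a ha1 hap (g e1))
  have hae2 : a (g e1) = g e1 * e1 ^ lam.val := by rw [← hlam, mul_inv_cancel_left]
  have hlam0 : lam ≠ 0 := by
    intro h
    rw [h, ZMod.val_zero, pow_zero, inv_mul_eq_one] at hlam
    exact he2L ((mem_fixSub a _).mpr hlam.symm)
  -- the coefficient of `b`
  obtain ⟨mu, hmu⟩ := exists_zp_of_mem hexp (fixSub (g * a * g⁻¹)) hLb (g e1) hbe2 he2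
    (e1⁻¹ * (g * a * g⁻¹) e1) (fixSub_comm_mem hcomm hcard _ hb1 hbp e1)
  have hbe1 : (g * a * g⁻¹) e1 = e1 * (g e1) ^ mu.val := by rw [← hmu, mul_inv_cancel_left]
  have hmu0 : mu ≠ 0 := by
    intro h
    rw [h, ZMod.val_zero, pow_zero, inv_mul_eq_one] at hmu
    have h1 : e1 ∈ fixSub (g * a * g⁻¹) := (mem_fixSub _ _).mpr hmu.symm
    obtain ⟨c, hc⟩ := exists_zp_of_mem hexp (fixSub (g * a * g⁻¹)) hLb (g e1) hbe2 he2 e1 h1
    have hc0 : c = 0 := zp_eq_zero_of_mem (hexp (g e1)) (fixSub a) he2L c (by rw [← hc]; exact he1L)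
    rw [hc0, ZMod.val_zero, pow_zero] at hc
    exact he1 hc
  have hbij := coordHom_bijective hcomm hexp hcard e1 (g e1) (fixSub a) he1L he1 he2L
  have hT01 := rhoOf_T01 hcomm hexp e1 (g e1) hbij a lam ((mem_fixSub a e1).mp he1L) hae2
  have hT10 := rhoOf_T10 hcomm hexp e1 (g e1) hbij (g * a * g⁻¹) mu hbe2 hbe1
  refine ⟨rhoOf (MulEquiv.ofBijective (coordHom hcomm hexp e1 (g e1)) hbij), rhoOf_injective _, ?_⟩
  intro M
  refine Helper15.SLn_transvection_induction
    (fun M => rhoOf (MulEquiv.ofBijective (coordHom hcomm hexp e1 (g e1)) hbij) M ∈ Γ) ?_ ?_ M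
  · intro i j hij c
    rcases fin2_cases i j hij with ⟨rfl, rfl⟩ | ⟨rfl, rfl⟩
    · obtain ⟨n, rfl⟩ := exists_nsmul_eq hlam0 c
      show rhoOf _ _ ∈ Γ
      rw [transvection_nsmul, map_pow, hT01]
      exact Γ.pow_mem haΓ n
    · obtain ⟨n, rfl⟩ := exists_nsmul_eq hmu0 c
      show rhoOf _ _ ∈ Γ
      rw [transvection_nsmul, map_pow, hT10]
      exact Γ.pow_mem hbΓ n
  · intro M N hM hN
    show rhoOf _ (M * N) ∈ Γ
    rw [map_mul]
    exact Γ.mul_mem hM hN

/-- `Γ` contains a subgroup isomorphic to `SL(2, p)`. -/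
theorem exists_subgroup_SL2 [Finite A] (hcomm : ∀ x y : A, x * y = y * x)
    (hexp : ∀ x : A, x ^ p = 1) (hcard : Nat.card A = p ^ 2) (Γ : Subgroup (MulAut A))
    (hdvd : p ∣ Nat.card Γ) (hOp : ∀ N : Subgroup Γ, N.Normal → IsPGroup p N → N = ⊥) :
    ∃ K : Subgroup Γ, Nonempty (K ≃* SpecialLinearGroup (Fin 2) (ZMod p)) := by
  obtain ⟨ρ, hinj, hmem⟩ := exists_SL2_hom hcomm hexp hcard Γ hdvd hOp
  have hinj' : Function.Injective (ρ.codRestrict Γ hmem) :=
    fun x y h => hinj (congrArg Subtype.val h)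
  exact ⟨(ρ.codRestrict Γ hmem).range, ⟨(MonoidHom.ofInjective hinj').symm⟩⟩

end RankTwo

end Cfsg.Agent.Lib.Helper27
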