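import Mathlib
import Cfsg.Prelude.Def_FusionSystem
import Cfsg.Agent.Lib.Helper27.ParkFusion

set_option autoImplicit false

/-! Park's theorem: every fusion system on a finite group `S` is realized by a finite group, namely
the group of automorphisms of a suitable `S`-`S`-biset as a right `S`-set. -/

namespace Cfsg.Agent.Lib.Helper27.Park

open Cfsg Cfsg.FusionSystem Cfsg.Agent.Lib.Helper27 Classical

universe u

variable {Ω : Type u} [Group Ω] {S : Subgroup Ω}

theorem park_realized [Finite S] (F : FusionSystem S) :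
    ∃ (G : Type u) (_ : Group G) (_ : Finite G) (ι : ↥S →* G), F.IsRealizedBy ι := by
  obtain ⟨γ, τ, hγ, hτ, hsum⟩ := exists_coeff (fam F)
  obtain ⟨n, hn⟩ : ∃ n : Subgroup (↥S × ↥S) → ℕ, n = fun D : Subgroup (↥S × ↥S) => Nat.card D * γ D := ⟨_, rfl⟩
  have hfp : ∀ M : Subgroup (↥S × ↥S), (FixPts (act n) M).ncard =
      if M ∈ fam F then Nat.card (↥S × ↥S) * τ (Nat.card M) else 0 := by
    intro M
    rw [hn]
    exact ncard_fixPts_eq (fam F) (fun D hD L hL => fam_sub F hD hL) (fun D hD g => fam_conj F hD g)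
      γ τ hγ hsum M
  -- the diagonal has positive multiplicity
  have hdiag_pos : 0 < n (diagSub S) := by
    have h1 : upSum γ (diagSub S) = γ (diagSub S) := by
      unfold upSum
      rw [Finset.sum_eq_single (diagSub S)]
      · simp
      · intro D _ hD
        split_ifs with hle
        · by_contra h0
          have hDf := hγ D h0
          have h2 := fam_card_le F hDf
          have hlt : diagSub S < D := lt_of_le_of_ne hle (Ne.symm hD)
          have h3 : Nat.card (diagSub S) < Nat.card D :=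
            Set.ncard_lt_ncard (s := (diagSub S : Set (↥S × ↥S))) (t := (D : Set (↥S × ↥S)))
              (by exact_mod_cast hlt) (Set.toFinite _)
          have h4 : Nat.card S ≤ Nat.card (diagSub S) := by
            apply Nat.card_le_card_of_injective (fun a : S => (⟨(a, a), rfl⟩ : diagSub S))
            intro a a' h
            have := congrArg (fun z : diagSub S => (z : ↥S × ↥S).1) h
            exact this
          omega
        · rfl
      · intro h
        exact absurd (mem_allSub _) h
    have h2 := hsum _ (diagSub_mem_fam F)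
    rw [h1] at h2
    have h3 := hτ (Nat.card (diagSub S))
    rw [hn]
    exact Nat.mul_pos Nat.card_pos (by omega)
  obtain ⟨x₀, hx₀⟩ : ∃ x₀ : PX n, x₀ = ⟨diagSub S, ⟨0, hdiag_pos⟩, QuotientGroup.mk 1⟩ := ⟨_, rfl⟩
  have hstab : ∀ h : ↥S × ↥S, act n h x₀ = x₀ ↔ h ∈ diagSub S := by
    intro h
    rw [hx₀, act_apply]
    constructor
    · intro heq
      have h3 := eq_of_heq (Sigma.mk.inj heq).2
      have h4 : (h • (QuotientGroup.mk 1 : (↥S × ↥S) ⧸ diagSub S)) = QuotientGroup.mk 1 :=
        (Prod.mk.inj h3).2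
      have h5 : (h • (QuotientGroup.mk 1 : (↥S × ↥S) ⧸ diagSub S)) = QuotientGroup.mk (h * 1) := rfl
      rw [h5, QuotientGroup.eq] at h4
      have := (diagSub S).inv_mem h4
      simpa using this
    · intro hh
      have h5 : (h • (QuotientGroup.mk 1 : (↥S × ↥S) ⧸ diagSub S)) = QuotientGroup.mk (h * 1) := rfl
      have h6 : (QuotientGroup.mk (h * 1) : (↥S × ↥S) ⧸ diagSub S) = QuotientGroup.mk 1 := by
        rw [QuotientGroup.eq]
        have := (diagSub S).inv_mem hh
        simpa using this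
      rw [h5, h6]
  -- the group
  obtain ⟨C, hC⟩ : ∃ C : Subgroup (Equiv.Perm (PX n)),
      C = Subgroup.centralizer (Set.range fun b : S => act n ((1 : S), b)) := ⟨_, rfl⟩
  have hCmem : ∀ g : Equiv.Perm (PX n), g ∈ C ↔ ∀ b : S, act n ((1 : S), b) * g = g * act n ((1 : S), b) := by
    intro g
    rw [hC, Subgroup.mem_centralizer_iff]
    constructor
    · intro h b
      exact h _ ⟨b, rfl⟩
    · rintro h _ ⟨b, rfl⟩
      exact h b
  have hιmem : ∀ a : S, ((act n).comp (MonoidHom.inl S S)) a ∈ C := by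
    intro a
    rw [hCmem]
    intro b
    show act n (1, b) * act n (a, 1) = act n (a, 1) * act n (1, b)
    rw [← map_mul, ← map_mul]
    congr 1
    ext <;> simp
  obtain ⟨ι, hι⟩ : ∃ ι : ↥S →* ↥C, ι = ((act n).comp (MonoidHom.inl S S)).codRestrict C hιmem :=
    ⟨_, rfl⟩
  have hιval : ∀ a : S, ((ι a : ↥C) : Equiv.Perm (PX n)) = act n (a, 1) := by
    intro a
    rw [hι]; rfl
  refine ⟨↥C, inferInstance, inferInstance, ι, ?_, ?_⟩
  · -- injectivity
    intro a a' haa
    have h1 : act n (a, 1) = act n (a', 1) := by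
      rw [← hιval, ← hιval, haa]
    have h2 : act n ((a', 1)⁻¹ * (a, 1)) x₀ = x₀ := by
      rw [map_mul, map_inv, h1, inv_mul_cancel]; rfl
    rw [hstab] at h2
    have h3 : a'⁻¹ * a = 1⁻¹ * 1 := h2
    have h4 : a'⁻¹ * a = 1 := by simpa using h3
    exact (inv_mul_eq_one.mp h4).symm
  · intro P hP φ hφS
    haveI : Finite ↥P := Finite.of_injective (Subgroup.inclusion hP) (Subgroup.inclusion_injective hP)
    constructor
    · intro hφ
      have hinj := F.injective_of_mem hφ
      have hfix : ∀ L : Subgroup (↥P × ↥S), (FixPts ((act n).comp (j₁ hP)) L).ncard =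
          (FixPts ((act n).comp (j₂ φ hφS)) L).ncard := by
        intro L
        have e1 : FixPts ((act n).comp (j₁ hP)) L = FixPts (act n) (L.map (j₁ hP)) := by
          ext x
          constructor
          · rintro h _ ⟨k, hk, rfl⟩
            exact h k hk
          · intro h k hk
            exact h _ ⟨k, hk, rfl⟩
        have e2 : FixPts ((act n).comp (j₂ φ hφS)) L = FixPts (act n) (L.map (j₂ φ hφS)) := by
          ext x
          constructor
          · rintro h _ ⟨k, hk, rfl⟩
            exact h k hk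
          · intro h k hk
            exact h _ ⟨k, hk, rfl⟩
        rw [e1, e2, hfp, hfp]
        have h1 := fam_twist F hP hφ L
        have c1 : Nat.card (L.map (j₁ hP)) = Nat.card L :=
          Subgroup.card_map_of_injective (j₁_injective hP)
        have c2 : Nat.card (L.map (j₂ φ hφS)) = Nat.card L :=
          Subgroup.card_map_of_injective (j₂_injective hφS hinj)
        by_cases h : L.map (j₁ hP) ∈ fam F
        · rw [if_pos h, if_pos (h1.mp h), c1, c2]
        · rw [if_neg h, if_neg (fun h' => h (h1.mpr h'))]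
      obtain ⟨e, he⟩ := burnside_marks (K := ↥P × ↥S) _ (PX n) (PX n) _ _ rfl hfix
      have heC : (e : Equiv.Perm (PX n)) ∈ C := by
        rw [hCmem]
        intro b
        apply Equiv.ext
        intro x
        have h1 := he ((1 : P), b) x
        have h2 : ((act n).comp (j₁ hP)) ((1 : P), b) = act n ((1 : S), b) := by
          show act n (j₁ hP ((1 : P), b)) = _
          congr 1
        have h3 : ((act n).comp (j₂ φ hφS)) ((1 : P), b) = act n ((1 : S), b) := by
          show act n (j₂ φ hφS ((1 : P), b)) = _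
          congr 1
          show (φ.codRestrict S hφS 1, b) = (1, b)
          rw [map_one]
        rw [h2, h3] at h1
        exact h1.symm
      refine ⟨⟨e, heC⟩, fun u => ?_⟩
      rw [eq_mul_inv_iff_mul_eq]
      apply Subtype.ext
      show ((ι ⟨φ u, hφS u⟩ : ↥C) : Equiv.Perm (PX n)) * e = e * ((ι ⟨u, hP u.2⟩ : ↥C) : Equiv.Perm (PX n))
      rw [hιval, hιval]
      apply Equiv.ext
      intro x
      have h1 := he (u, (1 : S)) x
      exact h1.symm
    · rintro ⟨g, hg⟩
      have hgC := (hCmem g.1).mp g.2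
      obtain ⟨y, hy⟩ : ∃ y : PX n, y = (g : Equiv.Perm (PX n)) x₀ := ⟨_, rfl⟩
      obtain ⟨D, i, q⟩ := y
      have hD : D ∈ fam F := by
        apply hγ
        intro h0
        have h1 : 0 < n D := Fin.pos i
        rw [hn] at h1
        simp only [h0, mul_zero, lt_self_iff_false] at h1
      obtain ⟨h₀, rfl⟩ := QuotientGroup.mk_surjective q
      have hfam' := fam_conj F hD h₀⁻¹
      obtain ⟨Q', θ', hθ', hg'⟩ := hfam'
      apply hom_of_left_inverse F hθ' φ
      intro u
      have hu1 : ((ι ⟨φ u, hφS u⟩ : ↥C) : Equiv.Perm (PX n)) * g = g * ((ι ⟨u, hP u.2⟩ : ↥C) : Equiv.Perm (PX n)) := by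
        have := hg u
        rw [eq_mul_inv_iff_mul_eq] at this
        exact congrArg Subtype.val this
      rw [hιval, hιval] at hu1
      have hfix : act n ((⟨φ u, hφS u⟩ : S), (⟨u, hP u.2⟩ : S)) ((g : Equiv.Perm (PX n)) x₀) =
          (g : Equiv.Perm (PX n)) x₀ := by
        have h1 : ((⟨φ u, hφS u⟩ : S), (⟨u, hP u.2⟩ : S)) =
            ((⟨φ u, hφS u⟩ : S), (1 : S)) * ((1 : S), (⟨u, hP u.2⟩ : S)) := by
          ext <;> simp
        rw [h1, map_mul, Equiv.Perm.mul_apply]
        have h2 : act n ((1 : S), (⟨u, hP u.2⟩ : S)) ((g : Equiv.Perm (PX n)) x₀) =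
            (g : Equiv.Perm (PX n)) (act n ((1 : S), (⟨u, hP u.2⟩ : S)) x₀) := by
          have := congrArg (fun z : Equiv.Perm (PX n) => z x₀) (hgC ⟨u, hP u.2⟩)
          exact this
        rw [h2]
        have h3 : act n ((⟨φ u, hφS u⟩ : S), (1 : S)) ((g : Equiv.Perm (PX n))
            (act n ((1 : S), (⟨u, hP u.2⟩ : S)) x₀)) =
            (g : Equiv.Perm (PX n)) (act n ((⟨u, hP u.2⟩ : S), (1 : S))
              (act n ((1 : S), (⟨u, hP u.2⟩ : S)) x₀)) := by
          have := congrArg (fun z : Equiv.Perm (PX n) => z (act n ((1 : S), (⟨u, hP u.2⟩ : S)) x₀)) hu1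
          exact this
        rw [h3]
        congr 1
        rw [← Equiv.Perm.mul_apply, ← map_mul, hstab]
        show (⟨u, hP u.2⟩ : S) * 1 = 1 * ⟨u, hP u.2⟩
        simp
      rw [← hy, act_apply] at hfix
      have h3 := eq_of_heq (Sigma.mk.inj hfix).2
      have h4 : ((((⟨φ u, hφS u⟩ : S), (⟨u, hP u.2⟩ : S)) : ↥S × ↥S) •
          (QuotientGroup.mk h₀ : (↥S × ↥S) ⧸ D)) = QuotientGroup.mk h₀ := (Prod.mk.inj h3).2
      have h5 : ((((⟨φ u, hφS u⟩ : S), (⟨u, hP u.2⟩ : S)) : ↥S × ↥S) •
          (QuotientGroup.mk h₀ : (↥S × ↥S) ⧸ D)) =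
          QuotientGroup.mk (((⟨φ u, hφS u⟩ : S), (⟨u, hP u.2⟩ : S)) * h₀) := rfl
      rw [h5, QuotientGroup.eq] at h4
      have h6 : (((⟨φ u, hφS u⟩ : S), (⟨u, hP u.2⟩ : S)) : ↥S × ↥S) ∈ conjSub D h₀⁻¹ := by
        rw [mem_conjSub]
        have := D.inv_mem h4
        simpa [mul_assoc] using this
      obtain ⟨hq, h7⟩ := (hg' _ _).mp h6
      exact ⟨hq, h7⟩

end Cfsg.Agent.Lib.Helper27.Park
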