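import Mathlib
import Cfsg.Agent.Lib.Helper27.LGMain
import Cfsg.Agent.Lib.Helper27.FusionRealizedSub
import Cfsg.Agent.Lib.Helper13.Frobenius

set_option autoImplicit false

/-! Bridging between realized fusion systems and the group: Frobenius' criterion. -/

namespace Cfsg.Agent.Lib.Helper27.LG

open Cfsg Cfsg.FusionSystem Cfsg.Agent.Lib.Helper27 Cfsg.Agent.H26 Cfsg.Agent.Lib.Helper13

variable {Ω : Type*} [Group Ω] {S : Subgroup Ω} {G : Type*} [Group G] {p : ℕ} [Fact p.Prime]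

/-- Powers of an automorphism induced by conjugation. -/
theorem ext1_pow_apply {ι : S →* G} {P : Subgroup Ω} (hPS : P ≤ S) (α : MulAut P) (g : G)
    (h : ∀ x : P, ext1 ι ((α x : P) : Ω) = g * ext1 ι x * g⁻¹) (j : ℕ) (x : P) :
    ext1 ι (((α ^ j) x : P) : Ω) = g ^ j * ext1 ι x * (g ^ j)⁻¹ := by
  induction j generalizing x with
  | zero => simp
  | succ j ih =>
    rw [pow_succ', MulAut.mul_apply, h, ih, pow_succ']
    group

/-- A realized system with a nontrivial automorphism of order prime to `p`: the group is not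
"locally central". -/
theorem not_localCentral_of_nonInner [Finite S] {F : FusionSystem S} {ι : S →* G} (hreal : F.IsRealizedBy ι)
    (hS : IsPGroup p S) [Finite G] (h : NonInner p F) : ¬ LocalCentral p G := by
  intro hLC
  obtain ⟨P, α, hα, h1, n, hn, hαn⟩ := h
  obtain ⟨hPS, -, g, hg⟩ := (realized_hom_iff hreal _).mp hα
  have hg' : ∀ x : P, ext1 ι ((α x : P) : Ω) = g * ext1 ι x * g⁻¹ := fun x => hg x
  haveI : Finite ↥P := Finite.of_injective (Subgroup.inclusion hPS) (Subgroup.inclusion_injective hPS)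
  -- the image of `P`
  obtain ⟨Q, hQdef⟩ : ∃ Q : Subgroup G, Q = (P.subgroupOf S).map ι := ⟨_, rfl⟩
  have hQmem : ∀ y : G, y ∈ Q ↔ ∃ x : P, ext1 ι (x : Ω) = y := by
    intro y
    rw [hQdef]
    constructor
    · rintro ⟨s, hs, rfl⟩
      exact ⟨⟨s, Subgroup.mem_subgroupOf.mp hs⟩, ext1_coe ι s⟩
    · rintro ⟨x, rfl⟩
      exact ⟨⟨x, hPS x.2⟩, Subgroup.mem_subgroupOf.mpr x.2, (ext1_coe ι ⟨x, hPS x.2⟩).symm⟩
  have hQp : IsPGroup p Q := by
    rw [hQdef]
    exact (hS.to_subgroup _).map ι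
  haveI : Finite ↥Q := by
    rw [hQdef]
    infer_instance
  have hgN : ∀ j : ℕ, g ^ j ∈ Subgroup.normalizer (Q : Set G) := by
    intro j
    apply Subgroup.pow_mem
    apply mem_normalizer_of_conj_mem
    intro y hy
    obtain ⟨x, rfl⟩ := (hQmem y).mp hy
    rw [← hg' x]
    exact (hQmem _).mpr ⟨α x, rfl⟩
  obtain ⟨k, m, hm, hgm⟩ := exists_pow_pprime p g
  have hord : (orderOf (g ^ p ^ k)).Coprime p :=
    Nat.Coprime.coprime_dvd_left (orderOf_dvd_of_pow_eq_one hgm) hm
  have hcen := hLC Q hQp _ (hgN (p ^ k)) hord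
  rw [Subgroup.mem_centralizer_iff] at hcen
  -- so `α ^ p ^ k = 1`
  have hαk : α ^ p ^ k = 1 := by
    ext x
    apply ext1_inj hreal.1 (hPS (_ : P).2) (hPS x.2)
    rw [ext1_pow_apply hPS α g hg' (p ^ k) x]
    have h3 := hcen _ ((hQmem _).mpr ⟨x, rfl⟩)
    rw [← h3, mul_inv_cancel_right]
  apply h1
  have h4 : α ^ n ∈ (⊥ : Subgroup (MulAut P)) := by rw [hαn]; exact Subgroup.one_mem _
  have h5 : α ^ p ^ k ∈ (⊥ : Subgroup (MulAut P)) := by rw [hαk]; exact Subgroup.one_mem _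
  exact Subgroup.mem_bot.mp (pow_mem_of_coprime ⊥ h4 h5 (Nat.Coprime.pow_right k hn))

/-- A `p'`-element normalizing the image of `W` and normalizing but not centralizing a subgroup of the image
of `S` makes `W` bad. -/
theorem bad_of_conj [Finite S] {F : FusionSystem S} {ι : S →* G} (hreal : F.IsRealizedBy ι)
    {W : Subgroup Ω} (hWS : W ≤ S) (hWn : normalizerIn S W = S) {g : G} {Q : Subgroup G} (hQ : Q ≤ ι.range)
    (hgW : g ∈ Subgroup.normalizer (((W.subgroupOf S).map ι : Subgroup G) : Set G))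
    (hgQ : g ∈ Subgroup.normalizer (Q : Set G)) (hgord : (orderOf g).Coprime p)
    (hgc : g ∉ Subgroup.centralizer (Q : Set G)) : Bad p F W := by
  have hinj := hreal.1
  have hWG : (W.subgroupOf S).map ι ≤ ι.range := by
    rintro _ ⟨s, -, rfl⟩
    exact ⟨s, rfl⟩
  have hRG : Q ⊔ (W.subgroupOf S).map ι ≤ ι.range := sup_le hQ hWG
  have hgR : g ∈ Subgroup.normalizer ((Q ⊔ (W.subgroupOf S).map ι : Subgroup G) : Set G) :=
    mem_normalizer_sup hgQ hgW
  have hRS : pullback ι (Q ⊔ (W.subgroupOf S).map ι) ≤ S := fun x hx => (mem_pullback_iff.mp hx).1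
  haveI : Finite ↥(pullback ι (Q ⊔ (W.subgroupOf S).map ι)) :=
    Finite.of_injective (Subgroup.inclusion hRS) (Subgroup.inclusion_injective hRS)
  have hconj : ∀ x ∈ pullback ι (Q ⊔ (W.subgroupOf S).map ι),
      g * ext1 ι x * g⁻¹ ∈ Q ⊔ (W.subgroupOf S).map ι := by
    intro x hx
    exact (Subgroup.mem_normalizer_iff.mp hgR _).mp (mem_pullback_iff.mp hx).2
  have h : ∀ x ∈ pullback ι (Q ⊔ (W.subgroupOf S).map ι), g * ext1 ι x * g⁻¹ ∈ ι.range :=
    fun x hx => hRG (hconj x hx)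
  have hα₀ := rconj_mem_hom hreal g hRS h
  have hα₀e := ext1_rconj hinj g hRS h
  have hα₀R : ∀ x : ↥(pullback ι (Q ⊔ (W.subgroupOf S).map ι)),
      rconj hinj g hRS h x ∈ pullback ι (Q ⊔ (W.subgroupOf S).map ι) := by
    intro x
    rw [mem_pullback_iff]
    refine ⟨rconj_mem hinj g hRS h x, ?_⟩
    rw [hα₀e]
    exact hconj x x.2
  have hbij : Function.Bijective ((rconj hinj g hRS h).codRestrict _ hα₀R) := by
    have hi : Function.Injective ((rconj hinj g hRS h).codRestrict _ hα₀R) := by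
      intro a b hab
      have hab' : rconj hinj g hRS h a = rconj hinj g hRS h b :=
        congrArg (fun w : ↥(pullback ι (Q ⊔ (W.subgroupOf S).map ι)) => (w : Ω)) hab
      exact F.injective_of_mem hα₀ hab'
    exact ⟨hi, Finite.injective_iff_surjective.mp hi⟩
  obtain ⟨α, hαdef⟩ : ∃ α : MulAut ↥(pullback ι (Q ⊔ (W.subgroupOf S).map ι)),
      α = MulEquiv.ofBijective ((rconj hinj g hRS h).codRestrict _ hα₀R) hbij := ⟨_, rfl⟩
  have hαe : ∀ x : ↥(pullback ι (Q ⊔ (W.subgroupOf S).map ι)),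
      ext1 ι ((α x : ↥(pullback ι (Q ⊔ (W.subgroupOf S).map ι))) : Ω) = g * ext1 ι x * g⁻¹ := by
    intro x
    rw [← hα₀e x, hαdef]
    rfl
  have hαiso : IsIso F (α : _ ≃* _) := by
    have h3 : (pullback ι (Q ⊔ (W.subgroupOf S).map ι)).subtype.comp (α : _ ≃* _).toMonoidHom =
        rconj hinj g hRS h := by
      ext x
      rw [hαdef]
      rfl
    unfold IsIso
    rw [h3]
    exact hα₀
  have hWR : W ≤ pullback ι (Q ⊔ (W.subgroupOf S).map ι) := by
    intro x hx
    rw [mem_pullback_iff]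
    refine ⟨hWS hx, Subgroup.mem_sup_right ?_⟩
    rw [ext1_of_mem ι (hWS hx)]
    exact ⟨⟨x, hWS hx⟩, Subgroup.mem_subgroupOf.mpr hx, rfl⟩
  refine ⟨_, α, hWR, ?_, hαiso, ?_, ?_, orderOf g, hgord, ?_⟩
  · rw [hWn]
    exact hRS
  · intro x hx
    have h3 : ext1 ι (x : Ω) ∈ (W.subgroupOf S).map ι := by
      rw [ext1_of_mem ι (hWS hx)]
      exact ⟨⟨x, hWS hx⟩, Subgroup.mem_subgroupOf.mpr hx, rfl⟩
    have h4 := (Subgroup.mem_normalizer_iff.mp hgW _).mp h3
    rw [← hαe x] at h4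
    obtain ⟨s, hs, hs'⟩ := h4
    have h5 : ext1 ι (s : Ω) = ext1 ι ((α x : ↥(pullback ι (Q ⊔ (W.subgroupOf S).map ι))) : Ω) := by
      rw [ext1_coe]
      exact hs'
    have h6 := ext1_inj hinj s.2 (hRS (α x).2) h5
    rw [← h6]
    exact Subgroup.mem_subgroupOf.mp hs
  · intro h3
    apply hgc
    rw [Subgroup.mem_centralizer_iff]
    intro q hq
    obtain ⟨s, rfl⟩ := hQ hq
    have hsR : (s : Ω) ∈ pullback ι (Q ⊔ (W.subgroupOf S).map ι) := by
      rw [mem_pullback_iff]
      refine ⟨s.2, Subgroup.mem_sup_left ?_⟩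
      rw [ext1_coe]
      exact hq
    have h4 := hαe ⟨s, hsR⟩
    rw [h3, MulAut.one_apply, ext1_coe] at h4
    calc ι s * g = g * ι s * g⁻¹ * g := by rw [← h4]
      _ = g * ι s := by group
  · ext x
    apply ext1_inj hinj (hRS (_ : ↥(pullback ι (Q ⊔ (W.subgroupOf S).map ι))).2) (hRS x.2)
    rw [ext1_pow_apply hRS α g hαe (orderOf g) x, pow_orderOf_eq_one]
    simp

/-- If the normalizer of the image of `W ⊴ S` has no normal `p`-complement then `W` is bad. -/
theorem bad_of_not_npc_normalizer {Ω : Type*} [Group Ω] {S : Subgroup Ω} {G : Type*} [Group G] [Finite S]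
    [Finite G] {F : FusionSystem S} {ι : S →* G} (hreal : F.IsRealizedBy ι)
    (Sy : Sylow p G) (hSy : (Sy : Subgroup G) = ι.range) {W : Subgroup Ω} (hWS : W ≤ S)
    (hWn : normalizerIn S W = S)
    (hnpc : ¬ HasNormalPComplement p ↥(Subgroup.normalizer (((W.subgroupOf S).map ι : Subgroup G) : Set G))) :
    Bad p F W := by
  -- the Sylow subgroup lies in the normalizer
  have hle : (Sy : Subgroup G) ≤ Subgroup.normalizer (((W.subgroupOf S).map ι : Subgroup G) : Set G) := by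
    rw [hSy]
    rintro _ ⟨s, rfl⟩
    haveI : Finite ↥((W.subgroupOf S).map ι) := inferInstance
    apply mem_normalizer_of_conj_mem
    rintro _ ⟨w, hw, rfl⟩
    have hsN : (s : Ω) ∈ normalizerIn S W := by rw [hWn]; exact s.2
    have h1 : (s : Ω) * w * (s : Ω)⁻¹ ∈ W :=
      conj_mem_of_mem_normalizerIn hsN (Subgroup.mem_subgroupOf.mp hw)
    refine ⟨s * w * s⁻¹, Subgroup.mem_subgroupOf.mpr h1, ?_⟩
    rw [map_mul, map_mul, map_inv]
  have hnlc : ¬ LocalCentral p
      ↥(Subgroup.normalizer (((W.subgroupOf S).map ι : Subgroup G) : Set G)) := by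
    intro hlc
    apply hnpc
    obtain ⟨K, hKn, hK⟩ := exists_normal_complement_of_localCentral hlc (Sy.subtype hle)
    exact ⟨Sy.subtype hle, K, hKn, hK⟩
  have hex : ∃ (Q : Subgroup ↥(Subgroup.normalizer (((W.subgroupOf S).map ι : Subgroup G) : Set G)))
      (g : ↥(Subgroup.normalizer (((W.subgroupOf S).map ι : Subgroup G) : Set G))),
      Q ≤ ((Sy.subtype hle : Sylow p _) : Subgroup _) ∧ g ∈ Subgroup.normalizer (Q : Set _) ∧
        (orderOf g).Coprime p ∧ g ∉ Subgroup.centralizer (Q : Set _) := by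
    by_contra hcon
    push Not at hcon
    apply hnlc
    apply localCentral_of_sylow (Sy.subtype hle)
    intro Q hQ g hg hcop
    exact hcon Q g hQ hg hcop
  obtain ⟨Q, g, hQ, hgN, hgo, hgc⟩ := hex
  have hQr : Q.map (Subgroup.subtype _) ≤ ι.range := by
    rintro _ ⟨y, hy, rfl⟩
    have h1 := hQ hy
    rw [Sylow.coe_subtype, Subgroup.mem_subgroupOf, hSy] at h1
    exact h1
  refine bad_of_conj hreal hWS hWn hQr g.2 ?_ ?_ ?_
  · rw [Subgroup.mem_normalizer_iff]
    intro x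
    constructor
    · rintro ⟨y, hy, rfl⟩
      exact ⟨g * y * g⁻¹, (Subgroup.mem_normalizer_iff.mp hgN y).mp hy, rfl⟩
    · rintro ⟨y, hy, hyx⟩
      have h1 : x = ((g⁻¹ * y * g : ↥(Subgroup.normalizer (((W.subgroupOf S).map ι : Subgroup G) : Set G))) : G) := by
        have : (y : G) = g * x * (g : G)⁻¹ := hyx
        simp only [Subgroup.coe_mul, Subgroup.coe_inv, this]
        group
      rw [h1]
      refine ⟨g⁻¹ * y * g, ?_, rfl⟩
      have h2 := (Subgroup.mem_normalizer_iff.mp (Subgroup.inv_mem _ hgN) y).mp hy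
      rw [inv_inv] at h2
      exact h2
  · rw [Subgroup.orderOf_coe]
    exact hgo
  · intro h1
    apply hgc
    rw [Subgroup.mem_centralizer_iff] at h1 ⊢
    intro y hy
    have h2 := h1 (y : G) ⟨y, hy, rfl⟩
    exact Subtype.ext h2

/-- A realized non-inner system: the group has no normal `p`-complement. -/
theorem not_npc_of_nonInner {Ω : Type*} [Group Ω] {S : Subgroup Ω} {G : Type*} [Group G] [Finite S]
    [Finite G] {F : FusionSystem S} {ι : S →* G} (hreal : F.IsRealizedBy ι) (hS : IsPGroup p S)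
    (h : NonInner p F) : ¬ HasNormalPComplement p G := by
  rintro ⟨P, K, hKn, hK⟩
  exact not_localCentral_of_nonInner hreal hS h (localCentral_of_normal_complement P K hK)

end Cfsg.Agent.Lib.Helper27.LG
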