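import Mathlib
import Cfsg.Agent.Lib.Helper27.LGGroup
import Cfsg.Agent.Lib.Helper18.MaxAbelian
import Cfsg.Agent.S0659

set_option autoImplicit false

/-! The Glauberman–Thompson criterion for fusion systems: `Z(J(S))`. -/

namespace Cfsg.Agent.Lib.Helper27.LG

open Cfsg Cfsg.FusionSystem Cfsg.Agent.Lib.Helper27 Cfsg.Agent.H26 Cfsg.Agent.Lib.Helper13
open Cfsg.Agent.Lib.Helper18

universe u

section zj

/-- `Z(J(Q))` for a group `Q` (abelian version). -/
def zjA (Q : Type*) [Group Q] : Subgroup Q :=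
  Cfsg.thompsonSubgroupA Q ⊓ Subgroup.centralizer (Cfsg.thompsonSubgroupA Q : Set Q)

theorem thompsonA_characteristic (Q : Type*) [Group Q] : (Cfsg.thompsonSubgroupA Q).Characteristic :=
  Subgroup.characteristic_iff_map_eq.mpr (fun φ => thompsonSubgroupA_map_equiv φ)

theorem zjA_characteristic (Q : Type*) [Group Q] : (zjA Q).Characteristic := by
  haveI := thompsonA_characteristic Q
  unfold zjA
  infer_instance

theorem zjA_map_le {Q R : Type*} [Group Q] [Group R] (φ : Q ≃* R) :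
    (zjA Q).map φ.toMonoidHom ≤ zjA R := by
  rintro _ ⟨x, hx, rfl⟩
  obtain ⟨hx1, hx2⟩ := Subgroup.mem_inf.mp hx
  refine Subgroup.mem_inf.mpr ⟨?_, ?_⟩
  · rw [← thompsonSubgroupA_map_equiv φ]
    exact Subgroup.mem_map_of_mem _ hx1
  · rw [Subgroup.mem_centralizer_iff]
    intro z hz
    have hz' : z ∈ (Cfsg.thompsonSubgroupA Q).map φ.toMonoidHom := by
      rw [thompsonSubgroupA_map_equiv φ]
      exact hz
    obtain ⟨w, hw, rfl⟩ := hz'
    rw [Subgroup.mem_centralizer_iff] at hx2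
    have := hx2 w hw
    show φ w * φ x = φ x * φ w
    rw [← map_mul, ← map_mul, this]

theorem zjA_map_equiv {Q R : Type*} [Group Q] [Group R] (φ : Q ≃* R) :
    (zjA Q).map φ.toMonoidHom = zjA R := by
  apply le_antisymm (zjA_map_le φ)
  intro y hy
  have h1 := zjA_map_le φ.symm (Subgroup.mem_map_of_mem _ hy)
  refine ⟨φ.symm y, h1, ?_⟩
  simp

theorem zjA_ne_bot {p : ℕ} [Fact p.Prime] {Q : Type*} [Group Q] [Finite Q] [Nontrivial Q] (hQ : IsPGroup p Q) :
    zjA Q ≠ ⊥ := by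
  have hJ : Cfsg.thompsonSubgroupA Q ≠ ⊥ := thompsonSubgroupA_ne_bot
  haveI : Nontrivial ↥(Cfsg.thompsonSubgroupA Q) := (Subgroup.nontrivial_iff_ne_bot _).mpr hJ
  have hJp : IsPGroup p ↥(Cfsg.thompsonSubgroupA Q) := hQ.to_subgroup _
  haveI := hJp.center_nontrivial
  obtain ⟨z, hz⟩ := exists_ne (1 : Subgroup.center ↥(Cfsg.thompsonSubgroupA Q))
  intro hbot
  apply hz
  have hmem : ((z : ↥(Cfsg.thompsonSubgroupA Q)) : Q) ∈ zjA Q := by
    refine Subgroup.mem_inf.mpr ⟨(z : ↥(Cfsg.thompsonSubgroupA Q)).2, ?_⟩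
    rw [Subgroup.mem_centralizer_iff]
    intro w hw
    have := Subgroup.mem_center_iff.mp z.2 ⟨w, hw⟩
    exact congrArg Subtype.val this
  rw [hbot, Subgroup.mem_bot] at hmem
  apply Subtype.ext
  apply Subtype.ext
  exact hmem

variable {Ω : Type*} [Group Ω]

theorem subgroupOf_centerThompsonAOf (S : Subgroup Ω) :
    (Cfsg.centerThompsonAOf S).subgroupOf S = zjA S := by
  ext s
  rw [Subgroup.mem_subgroupOf]
  unfold Cfsg.centerThompsonAOf Cfsg.thompsonSubgroupAOf zjA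
  rw [Subgroup.mem_inf, Subgroup.mem_inf, Subgroup.mem_centralizer_iff, Subgroup.mem_centralizer_iff]
  constructor
  · rintro ⟨⟨j, hj, hjs⟩, h2⟩
    have hjs' : j = s := Subtype.ext hjs
    refine ⟨hjs' ▸ hj, fun w hw => ?_⟩
    have := h2 (w : Ω) ⟨w, hw, rfl⟩
    exact Subtype.ext this
  · rintro ⟨h1, h2⟩
    refine ⟨⟨s, h1, rfl⟩, ?_⟩
    rintro _ ⟨w, hw, rfl⟩
    exact congrArg Subtype.val (h2 w hw)

theorem centerThompsonAOf_le (S : Subgroup Ω) : Cfsg.centerThompsonAOf S ≤ S := by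
  intro x hx
  obtain ⟨j, -, rfl⟩ := hx.1
  exact j.2

theorem centerThompsonAOf_eq_map (S : Subgroup Ω) :
    Cfsg.centerThompsonAOf S = (zjA S).map S.subtype := by
  rw [← subgroupOf_centerThompsonAOf, Subgroup.map_subgroupOf_eq_of_le (centerThompsonAOf_le S)]

theorem map_centerThompsonAOf {S : Subgroup Ω} {G : Type*} [Group G] {ι : S →* G} (hinj : Function.Injective ι) :
    ((Cfsg.centerThompsonAOf S).subgroupOf S).map ι = Cfsg.centerThompsonAOf ι.range := by
  rw [subgroupOf_centerThompsonAOf, centerThompsonAOf_eq_map ι.range,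
    ← zjA_map_equiv (MonoidHom.ofInjective hinj), Subgroup.map_map]
  rfl

end zj

/-- The family `{Z(J(S))}`. -/
def famZJ : ∀ (Ω : Type u) [Group Ω], Subgroup Ω → Set (Subgroup Ω) :=
  fun _ _ S => {Cfsg.centerThompsonAOf S}

/-- The empty family. -/
def famEmpty : ∀ (Ω : Type u) [Group Ω], Subgroup Ω → Set (Subgroup Ω) := fun _ _ _ => ∅

theorem char_centerThompsonAOf {p : ℕ} [Fact p.Prime] {Ω : Type*} [Group Ω] (S : Subgroup Ω) [Finite S]
    (hS : IsPGroup p S) (hS1 : S ≠ ⊥) :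
    Cfsg.centerThompsonAOf S ≠ ⊥ ∧ Cfsg.centerThompsonAOf S ≤ S ∧
      ((Cfsg.centerThompsonAOf S).subgroupOf S).Characteristic := by
  refine ⟨?_, centerThompsonAOf_le S, ?_⟩
  · intro h
    haveI : Nontrivial ↥S := (Subgroup.nontrivial_iff_ne_bot S).mpr hS1
    apply zjA_ne_bot hS
    rw [← subgroupOf_centerThompsonAOf, h]
    exact Subgroup.bot_subgroupOf S
  · rw [subgroupOf_centerThompsonAOf]
    exact zjA_characteristic _

theorem good_ZJ {p : ℕ} [Fact p.Prime] (hp : p ≠ 2) : Good famZJ.{u} famEmpty.{u} famEmpty.{u} p := by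
  constructor
  · intro Ω _ S _ hS hS1 V hV
    rcases hV with hV | hV | hV
    · rw [Set.mem_singleton_iff.mp hV]
      exact char_centerThompsonAOf S hS hS1
    · exact absurd hV (Set.notMem_empty _)
    · exact absurd hV (Set.notMem_empty _)
  · intro Ω _ S _ hS F G _ ι hmodel hNI
    obtain ⟨hfin, hreal, ⟨T, hT⟩, -⟩ := hmodel
    haveI := hfin
    left
    refine ⟨_, rfl, ?_⟩
    obtain ⟨-, hWS, hchar⟩ := char_centerThompsonAOf S hS (ne_bot_of_nonInner hNI)
    haveI : Finite ↥(Cfsg.centerThompsonAOf S) :=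
      Finite.of_injective (Subgroup.inclusion hWS) (Subgroup.inclusion_injective hWS)
    apply bad_of_not_npc_normalizer hreal T hT hWS (normalizerIn_eq_of_char hWS hchar)
    rw [map_centerThompsonAOf hreal.1, ← hT]
    intro hnpc
    exact not_npc_of_nonInner hreal hS hNI (Cfsg.Agent.S0659.result hp T hnpc)

end Cfsg.Agent.Lib.Helper27.LG
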