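import Mathlib
import Cfsg.Agent.Lib.Helper27.LGZJ

set_option autoImplicit false

/-! Interface with the inner fusion system. -/

namespace Cfsg.Agent.Lib.Helper27.LG

open Cfsg Cfsg.FusionSystem Cfsg.Agent.Lib.Helper27 Cfsg.Agent.H26

variable {Ω : Type*} [Group Ω] {S : Subgroup Ω}

/-- If `F` is inner, so is every normalizer system. -/
theorem normalizerSystem_inner {F : FusionSystem S}
    (hF : ∀ P : Subgroup Ω, F.Hom P = (innerFusionSystem S).Hom P) {W : Subgroup Ω} [Finite W]
    (N : FusionSystem (normalizerIn S W)) (hN : F.IsNormalizerSystem W N) (P : Subgroup Ω) :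
    N.Hom P = (innerFusionSystem (normalizerIn S W)).Hom P := by
  apply Set.Subset.antisymm _ (inner_le N P)
  intro φ hφ
  rw [hN P] at hφ
  obtain ⟨-, hPN, -, ψ, hψ, hψφ, hψW⟩ := hφ
  rw [hF] at hψ
  obtain ⟨-, h, hhS, hh⟩ := hψ
  refine ⟨hPN, h, ⟨hhS, ?_⟩, fun x => ?_⟩
  · apply mem_normalizer_of_conj_mem
    intro w hw
    have h1 : ψ ⟨w, (le_sup_right : W ≤ P ⊔ W) hw⟩ ∈ (W.subgroupOf (P ⊔ W)).map ψ :=
      ⟨_, Subgroup.mem_subgroupOf.mpr hw, rfl⟩
    rw [hψW, hh] at h1
    exact h1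
  · rw [← hψφ x, hh]
    rfl

/-- If `F` is inner, so is every centralizer system. -/
theorem centralizerSystem_inner {F : FusionSystem S}
    (hF : ∀ P : Subgroup Ω, F.Hom P = (innerFusionSystem S).Hom P) {W : Subgroup Ω}
    (N : FusionSystem (centralizerIn S W)) (hN : F.IsCentralizerSystem W N) (P : Subgroup Ω) :
    N.Hom P = (innerFusionSystem (centralizerIn S W)).Hom P := by
  apply Set.Subset.antisymm _ (inner_le N P)
  intro φ hφ
  rw [hN P] at hφ
  obtain ⟨-, hPN, -, ψ, hψ, hψφ, hψW⟩ := hφ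
  rw [hF] at hψ
  obtain ⟨-, h, hhS, hh⟩ := hψ
  refine ⟨hPN, h, ?_, fun x => ?_⟩
  · rw [mem_centralizerIn_iff]
    refine ⟨hhS, fun w hw => ?_⟩
    have h1 := hψW ⟨w, hw⟩
    rw [hh] at h1
    have h2 : h * w * h⁻¹ = w := h1
    calc w * h = h * w * h⁻¹ * h := by rw [h2]
      _ = h * w := by group
  · rw [← hψφ x, hh]
    rfl

/-- A system with the same maps as the inner system has no nontrivial automorphism of order prime to `p`. -/
theorem not_nonInner_of_inner [Finite S] {p : ℕ} [Fact p.Prime] (hS : IsPGroup p S) {F : FusionSystem S}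
    (hF : ∀ P : Subgroup Ω, F.Hom P = (innerFusionSystem S).Hom P) : ¬ NonInner p F := by
  rintro ⟨P, α, hα, h1, h2⟩
  apply not_nonInner_inner hS
  refine ⟨P, α, ?_, h1, h2⟩
  unfold IsIso at hα ⊢
  rw [← hF]
  exact hα

/-- A bad subgroup has a non-inner normalizer system. -/
theorem Bad.not_inner_nsys [Finite S] {p : ℕ} [Fact p.Prime] (hS : IsPGroup p S) {F : FusionSystem S}
    {W : Subgroup Ω} (hWS : W ≤ S) (h : Bad p F W) (N : FusionSystem (normalizerIn S W))
    (hN : F.IsNormalizerSystem W N) :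
    ¬ ∀ P : Subgroup Ω, N.Hom P = (innerFusionSystem (normalizerIn S W)).Hom P := by
  intro hinner
  have hTS : normalizerIn S W ≤ S := inf_le_left
  haveI : Finite ↥(normalizerIn S W) :=
    Finite.of_injective (Subgroup.inclusion hTS) (Subgroup.inclusion_injective hTS)
  have hTp : IsPGroup p ↥(normalizerIn S W) :=
    hS.of_injective (Subgroup.inclusion hTS) (Subgroup.inclusion_injective hTS)
  exact not_nonInner_of_inner hTp hinner (h.to_nsys hWS hN).nonInner

end Cfsg.Agent.Lib.Helper27.LG
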