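import Mathlib
import Cfsg.Prelude.Def_Characters
import Cfsg.Agent.Lib.Helper2.Expansion

/-!
# S3701 FO-D (helper27): the norm bound

If `τ : ι → G` is an injective family of nonidentity elements such that every conjugation between
members of the family is induced by an element of `H`, then for irreducible `χ`
`|G| ∑ᵢ |χ(τᵢ)|² ≤ |H| (|G| - χ(1)²)`.
-/

set_option autoImplicit false

namespace Cfsg.Agent.Lib.Helper27.S3701FOD

open Cfsg Cfsg.Agent.Lib.Helper2
open scoped ComplexConjugate

/-- first orthogonality relation in real form -/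
theorem sum_normSq_irr {G : Type*} [Group G] [Fintype G] (χ : G → ℂ)
    (hχ : IsIrrCharacter G χ) : ∑ g : G, Complex.normSq (χ g) = (Nat.card G : ℝ) := by
  have h := classInner_irrCharacter_self (⟨χ, hχ⟩ : IrrCharacter G)
  rw [classInner_def] at h
  have hne : (Nat.card G : ℂ) ≠ 0 := card_ne_zero_complex
  have h2 : ∑ g : G, χ g * conj (χ g) = (Nat.card G : ℂ) := by
    have := congrArg (fun z => (Nat.card G : ℂ) * z) h
    simp only [mul_one] at this
    rw [← mul_assoc, mul_inv_cancel₀ hne, one_mul] at this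
    exact this
  have h3 : ((∑ g : G, Complex.normSq (χ g) : ℝ) : ℂ) = ((Nat.card G : ℝ) : ℂ) := by
    rw [Complex.ofReal_sum, Complex.ofReal_natCast, ← h2]
    simp only [Complex.mul_conj]
  exact Complex.ofReal_injective h3

theorem norm_bound {G : Type*} [Group G] [Finite G] (H : Subgroup G) (n : ℕ)
    (hcardH : Nat.card H = n) {ι : Type*} [Fintype ι] (τ : ι → G) (hτ : Function.Injective τ)
    (h1 : ∀ i, τ i ≠ 1)
    (hTI : ∀ i j : ι, ∀ g : G, g * τ i * g⁻¹ = τ j → g ∈ H)
    (χ : G → ℂ) (hχ : IsIrrCharacter G χ) :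
    (Nat.card G : ℝ) * ∑ i, Complex.normSq (χ (τ i))
      ≤ (n : ℝ) * ((Nat.card G : ℝ) - Complex.normSq (χ 1)) := by
  classical
  have : Fintype G := Fintype.ofFinite G
  have hcf : IsClassFunction G χ := IrrCharacter.isClassFunction (⟨χ, hχ⟩ : IrrCharacter G)
  set N : G → ℝ := fun y => Complex.normSq (χ y) with hN
  have hN0 : ∀ y, 0 ≤ N y := fun y => Complex.normSq_nonneg _
  set Φ : G × ι → G := fun p => p.1 * τ p.2 * p.1⁻¹ with hΦ
  -- the sum over pairs
  have hS1 : ∑ p : G × ι, N (Φ p) = (Nat.card G : ℝ) * ∑ i, N (τ i) := by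
    rw [Fintype.sum_prod_type, Finset.sum_comm]
    rw [Finset.mul_sum]
    apply Finset.sum_congr rfl
    intro i _
    have : ∀ x : G, N (Φ (x, i)) = N (τ i) := by
      intro x
      simp only [hN, hΦ]
      rw [hcf]
    rw [Finset.sum_congr rfl (fun x _ => this x), Finset.sum_const, Finset.card_univ,
      nsmul_eq_mul, Nat.card_eq_fintype_card]
  -- fibre bound
  have hfib : ∀ b : G, ((Finset.univ.filter (fun p : G × ι => Φ p = b)).card : ℝ) * N b
      ≤ if b = 1 then 0 else (n : ℝ) * N b := by
    intro b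
    by_cases hb : b = 1
    · rw [if_pos hb]
      have hempty : Finset.univ.filter (fun p : G × ι => Φ p = b) = ∅ := by
        rw [Finset.filter_eq_empty_iff]
        intro p _ hp
        apply h1 p.2
        have : p.1 * τ p.2 * p.1⁻¹ = 1 := by rw [← hb]; exact hp
        have h2 : τ p.2 = p.1⁻¹ * (p.1 * τ p.2 * p.1⁻¹) * p.1 := by group
        rw [h2, this]
        group
      rw [hempty, Finset.card_empty, Nat.cast_zero, zero_mul]
    · rw [if_neg hb]
      apply mul_le_mul_of_nonneg_right _ (hN0 b)
      rcases (Finset.univ.filter (fun p : G × ι => Φ p = b)).eq_empty_or_nonempty with he | hne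
      · rw [he, Finset.card_empty, Nat.cast_zero]
        exact Nat.cast_nonneg n
      · obtain ⟨p₀, hp₀⟩ := hne
        rw [Finset.mem_filter] at hp₀
        have hp₀' : p₀.1 * τ p₀.2 * p₀.1⁻¹ = b := hp₀.2
        have hcardt : (Finset.univ.filter (fun g : G => g ∈ H)).card = n := by
          rw [← hcardH, Nat.card_eq_fintype_card, Fintype.card_subtype]
        have hle : (Finset.univ.filter (fun p : G × ι => Φ p = b)).card
            ≤ (Finset.univ.filter (fun g : G => g ∈ H)).card := by
          apply Finset.card_le_card_of_injOn (fun p : G × ι => p₀.1⁻¹ * p.1)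
          · intro p hp
            rw [Finset.mem_coe, Finset.mem_filter] at hp
            have hp' : p.1 * τ p.2 * p.1⁻¹ = b := hp.2
            rw [Finset.mem_coe, Finset.mem_filter]
            refine ⟨Finset.mem_univ _, hTI p.2 p₀.2 _ ?_⟩
            have e : p₀.1⁻¹ * p.1 * τ p.2 * (p₀.1⁻¹ * p.1)⁻¹
                = p₀.1⁻¹ * (p.1 * τ p.2 * p.1⁻¹) * p₀.1 := by group
            rw [e, hp', ← hp₀']
            group
          · intro p hp q hq hpq
            rw [Finset.mem_coe, Finset.mem_filter] at hp hq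
            have hp' : p.1 * τ p.2 * p.1⁻¹ = b := hp.2
            have hq' : q.1 * τ q.2 * q.1⁻¹ = b := hq.2
            have e1 : p.1 = q.1 := mul_left_cancel hpq
            have e2 : τ p.2 = τ q.2 := by
              rw [← hq', e1] at hp'
              have := mul_right_cancel hp'
              exact mul_left_cancel this
            exact Prod.ext e1 (hτ e2)
        rw [hcardt] at hle
        exact_mod_cast hle
  -- fibrewise decomposition
  have hS2 : ∑ p : G × ι, N (Φ p)
      = ∑ b : G, ((Finset.univ.filter (fun p : G × ι => Φ p = b)).card : ℝ) * N b := by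
    rw [← Finset.sum_fiberwise Finset.univ Φ (fun p => N (Φ p))]
    apply Finset.sum_congr rfl
    intro b _
    have : ∀ p ∈ Finset.univ.filter (fun p : G × ι => Φ p = b), N (Φ p) = N b := by
      intro p hp
      rw [(Finset.mem_filter.mp hp).2]
    rw [Finset.sum_congr rfl this, Finset.sum_const, nsmul_eq_mul]
  have hS3 : ∑ b : G, (if b = 1 then 0 else (n : ℝ) * N b)
      = (n : ℝ) * ((Nat.card G : ℝ) - N 1) := by
    have hsum := sum_normSq_irr χ hχ
    have e : ∀ b : G, (if b = 1 then 0 else (n : ℝ) * N b)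
        = (n : ℝ) * N b - (if b = 1 then (n : ℝ) * N 1 else 0) := by
      intro b
      by_cases hb : b = 1
      · rw [if_pos hb, if_pos hb, hb, sub_self]
      · rw [if_neg hb, if_neg hb, sub_zero]
    rw [Finset.sum_congr rfl (fun b _ => e b), Finset.sum_sub_distrib, ← Finset.mul_sum,
      Finset.sum_ite_eq' Finset.univ (1 : G), if_pos (Finset.mem_univ _)]
    have : ∑ i : G, N i = (Nat.card G : ℝ) := hsum
    rw [this]
    ring
  calc (Nat.card G : ℝ) * ∑ i, Complex.normSq (χ (τ i))
      = ∑ p : G × ι, N (Φ p) := hS1.symm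
    _ = ∑ b : G, ((Finset.univ.filter (fun p : G × ι => Φ p = b)).card : ℝ) * N b := hS2
    _ ≤ ∑ b : G, (if b = 1 then 0 else (n : ℝ) * N b) :=
        Finset.sum_le_sum (fun b _ => hfib b)
    _ = (n : ℝ) * ((Nat.card G : ℝ) - Complex.normSq (χ 1)) := hS3

end Cfsg.Agent.Lib.Helper27.S3701FOD
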