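import Mathlib

set_option autoImplicit false

namespace Cfsg.Agent.Lib.Helper27

open scoped BigOperators

section
variable {G : Type*} [CommGroup G] [Finite G] (A : Subgroup (MulAut G))

/-- fixed points of a group of automorphisms -/
def autFixedSubgroup : Subgroup G where
  carrier := {x | ∀ a ∈ A, a x = x}
  one_mem' := fun a _ => map_one a
  mul_mem' := fun {x y} hx hy a ha => by rw [map_mul, hx a ha, hy a ha]
  inv_mem' := fun {x} hx a ha => by rw [map_inv, hx a ha]

/-- the commutator `[G, A]` -/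
def autCommSubgroup : Subgroup G :=
  Subgroup.closure {y | ∃ (x : G) (a : MulAut G), a ∈ A ∧ y = x⁻¹ * a x}

theorem mem_autFixedSubgroup_iff (x : G) : x ∈ autFixedSubgroup A ↔ ∀ a ∈ A, a x = x := Iff.rfl

/-- the norm map -/
noncomputable def autNormHom : G →* G :=
  letI := Fintype.ofFinite A
  ∏ a : A, ((a : MulAut G) : G ≃* G).toMonoidHom

theorem autNormHom_apply (x : G) :
    autNormHom A x = (letI := Fintype.ofFinite A; ∏ a : A, (a : MulAut G) x) := by
  letI := Fintype.ofFinite A
  unfold autNormHom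
  rw [MonoidHom.finsetProd_apply]
  rfl

theorem autNormHom_mem_fixed (x : G) : autNormHom A x ∈ autFixedSubgroup A := by
  letI := Fintype.ofFinite A
  intro b hb
  rw [autNormHom_apply, map_prod]
  convert (Fintype.prod_equiv (Equiv.mulLeft (⟨b, hb⟩ : A)) (fun a : A => (b : MulAut G) ((a : MulAut G) x))
    (fun a : A => (a : MulAut G) x) ?_) using 1
  intro a
  rfl

theorem autNormHom_apply_aut (x : G) (b : MulAut G) (hb : b ∈ A) : autNormHom A (b x) = autNormHom A x := by
  letI := Fintype.ofFinite A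
  rw [autNormHom_apply, autNormHom_apply]
  convert (Fintype.prod_equiv (Equiv.mulRight (⟨b, hb⟩ : A)) (fun a : A => (a : MulAut G) (b x))
    (fun a : A => (a : MulAut G) x) ?_) using 1
  intro a
  rfl

theorem autNormHom_of_fixed {x : G} (hx : x ∈ autFixedSubgroup A) : autNormHom A x = x ^ Nat.card A := by
  letI := Fintype.ofFinite A
  rw [autNormHom_apply]
  rw [Finset.prod_congr rfl (fun a _ => hx a.1 a.2)]
  rw [Finset.prod_const, Finset.card_univ, Nat.card_eq_fintype_card]

theorem autNormHom_comm_eq_one {y : G} (hy : y ∈ autCommSubgroup A) : autNormHom A y = 1 := by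
  unfold autCommSubgroup at hy
  induction hy using Subgroup.closure_induction with
  | mem z hz =>
    obtain ⟨x, a, ha, rfl⟩ := hz
    rw [map_mul, map_inv, autNormHom_apply_aut A x a ha]
    simp
  | one => exact map_one _
  | mul a b _ _ ha hb => rw [map_mul, ha, hb, one_mul]
  | inv a _ ha => rw [map_inv, ha, inv_one]

theorem autNormHom_mul_inv_pow_mem (x : G) : autNormHom A x * (x ^ Nat.card A)⁻¹ ∈ autCommSubgroup A := by
  letI := Fintype.ofFinite A
  have : autNormHom A x * (x ^ Nat.card A)⁻¹ = ∏ a : A, (x⁻¹ * (a : MulAut G) x) := by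
    rw [Finset.prod_mul_distrib, Finset.prod_const, Finset.card_univ, ← Nat.card_eq_fintype_card,
      autNormHom_apply, inv_pow, mul_comm]
  rw [this]
  apply Subgroup.prod_mem
  intro a _
  exact Subgroup.subset_closure ⟨x, a.1, a.2, rfl⟩

theorem fixed_inf_comm_eq_bot (hcop : Nat.Coprime (Nat.card A) (Nat.card G)) :
    autFixedSubgroup A ⊓ autCommSubgroup A = ⊥ := by
  rw [eq_bot_iff]
  rintro x ⟨hx1, hx2⟩
  have h1 := autNormHom_of_fixed A hx1
  have h2 := autNormHom_comm_eq_one A hx2
  rw [h1] at h2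
  have h3 : orderOf x ∣ Nat.card A := orderOf_dvd_of_pow_eq_one h2
  have h4 : orderOf x ∣ Nat.card G := orderOf_dvd_natCard x
  have h5 : orderOf x = 1 := Nat.eq_one_of_dvd_coprimes hcop h3 h4
  rw [Subgroup.mem_bot]
  exact orderOf_eq_one_iff.mp h5

theorem fixed_sup_comm_eq_top (hcop : Nat.Coprime (Nat.card A) (Nat.card G)) :
    autFixedSubgroup A ⊔ autCommSubgroup A = ⊤ := by
  rw [eq_top_iff]
  intro x _
  obtain ⟨y, rfl⟩ : ∃ y : G, y ^ Nat.card A = x := by
    have := (powCoprime hcop.symm).surjective x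
    obtain ⟨y, hy⟩ := this
    exact ⟨y, hy⟩
  have h1 : autNormHom A y ∈ autFixedSubgroup A ⊔ autCommSubgroup A :=
    Subgroup.mem_sup_left (autNormHom_mem_fixed A y)
  have h2 : autNormHom A y * (y ^ Nat.card A)⁻¹ ∈ autFixedSubgroup A ⊔ autCommSubgroup A :=
    Subgroup.mem_sup_right (autNormHom_mul_inv_pow_mem A y)
  have h3 := Subgroup.mul_mem _ (Subgroup.inv_mem _ h2) h1
  have h4 : (autNormHom A y * (y ^ Nat.card A)⁻¹)⁻¹ * autNormHom A y = y ^ Nat.card A := by
    rw [mul_inv_rev, inv_inv, mul_assoc, inv_mul_cancel, mul_one]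
  rwa [h4] at h3

end

end Cfsg.Agent.Lib.Helper27
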