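import Cfsg.Agent.Lib.Helper2.StA4
set_option autoImplicit false

/-!
# FO-C of helper2's S2401 farm-out (helper27)

In a type-A Steinberg group (`n ≥ 3`), an element of `W̃` acting monomially with trivial permutation lies
in `H̃`.  Proof: filtration `W_m = ⟨w_ij(u) : i, j < m⟩` and the coset decomposition
`W_{m+1} ⊆ W_m H̃ ∪ ⋃_{i<m} w_{im}(1) W_m H̃`.
-/

namespace Cfsg.Agent.Lib.Helper27.StHtilC

open Cfsg.Agent.Lib.Helper2.StA Cfsg.Agent.Lib.Helper2.StA.StRep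

variable {n : ℕ} {K : Type*} [Field K] {G : Type*} [Group G] (S : StRep n K G)

/-- the subgroup generated by the `w_ij(u)` with both indices below `m` -/
def Wlt (m : ℕ) : Subgroup G :=
  Subgroup.closure {g : G | ∃ i j : Fin n, ∃ u : Kˣ, i ≠ j ∧ i.val < m ∧ j.val < m ∧ g = S.w i j u}

theorem Wlt_le_Wtil (m : ℕ) : Wlt S m ≤ S.Wtil := by
  unfold Wlt Wtil
  apply Subgroup.closure_mono
  rintro g ⟨i, j, u, hij, _, _, rfl⟩
  exact ⟨i, j, u, hij, rfl⟩

theorem Wtil_le_Wlt : S.Wtil ≤ Wlt S n := by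
  unfold Wlt Wtil
  apply Subgroup.closure_mono
  rintro g ⟨i, j, u, hij, rfl⟩
  exact ⟨i, j, u, hij, i.isLt, j.isLt, rfl⟩

theorem w_mem_Wlt {m : ℕ} {i j : Fin n} (hij : i ≠ j) (hi : i.val < m) (hj : j.val < m) (u : Kˣ) :
    S.w i j u ∈ Wlt S m :=
  Subgroup.subset_closure ⟨i, j, u, hij, hi, hj, rfl⟩

/-- `H̃` is normalized by `W̃` -/
theorem cj_mem_Htil (hn : 3 ≤ n) {g : G} (hg : g ∈ S.Wtil) {h : G} (hh : h ∈ S.Htil) :
    cj g h ∈ S.Htil := by
  obtain ⟨σ, d, hm⟩ := S.exists_monAct_of_mem_Wtil hn hg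
  have hh' : h ∈ Subgroup.closure {g : G | ∃ i j, ∃ u : Kˣ, i ≠ j ∧ g = S.h i j u} := hh
  clear hh
  induction hh' using Subgroup.closure_induction with
  | mem y hy =>
    obtain ⟨k, l, t, hkl, rfl⟩ := hy
    rw [hm.cj_h hkl]
    have hkl' : σ k ≠ σ l := fun e => hkl (σ.injective e)
    exact S.Htil.mul_mem (S.h_mem_Htil hkl' _) (S.Htil.inv_mem (S.h_mem_Htil hkl' _))
  | one => rw [cj_one]; exact S.Htil.one_mem
  | mul y z _ _ hy hz => rw [cj_mul]; exact S.Htil.mul_mem hy hz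
  | inv y _ hy => rw [cj_inv]; exact S.Htil.inv_mem hy

theorem exists_monAct_one_of_mem_Htil (hn : 3 ≤ n) {h : G} (hh : h ∈ S.Htil) :
    ∃ d, S.MonAct h 1 d := by
  have hh' : h ∈ Subgroup.closure {g : G | ∃ i j, ∃ u : Kˣ, i ≠ j ∧ g = S.h i j u} := hh
  clear hh
  induction hh' using Subgroup.closure_induction with
  | mem y hy =>
    obtain ⟨i, j, u, hij, rfl⟩ := hy
    exact ⟨_, S.monAct_h hn hij u⟩
  | one => exact ⟨_, MonAct.one S⟩
  | mul y z _ _ hy hz =>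
    obtain ⟨d, h1⟩ := hy
    obtain ⟨d', h2⟩ := hz
    have h3 := h1.mul h2
    rw [mul_one] at h3
    exact ⟨_, h3⟩
  | inv y _ hy =>
    obtain ⟨d, h1⟩ := hy
    have h3 := h1.inv
    rw [inv_one] at h3
    exact ⟨_, h3⟩

theorem exists_monAct_fix_of_mem_Wlt (hn : 3 ≤ n) (m : ℕ) {g : G} (hg : g ∈ Wlt S m) :
    ∃ σ d, S.MonAct g σ d ∧ ∀ k : Fin n, m ≤ k.val → σ k = k := by
  have hg' : g ∈ Subgroup.closure {g : G | ∃ i j : Fin n, ∃ u : Kˣ, i ≠ j ∧ i.val < m ∧ j.val < m ∧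
      g = S.w i j u} := hg
  clear hg
  induction hg' using Subgroup.closure_induction with
  | mem y hy =>
    obtain ⟨i, j, u, hij, hi, hj, rfl⟩ := hy
    refine ⟨_, _, S.monAct_w hn hij u, fun k hk => Equiv.swap_apply_of_ne_of_ne ?_ ?_⟩
    · rintro rfl; omega
    · rintro rfl; omega
  | one => exact ⟨1, _, MonAct.one S, fun k _ => rfl⟩
  | mul y z _ _ hy hz =>
    obtain ⟨σ, d, h1, f1⟩ := hy
    obtain ⟨σ', d', h2, f2⟩ := hz
    exact ⟨_, _, h1.mul h2, fun k hk => by rw [Equiv.Perm.mul_apply, f2 k hk, f1 k hk]⟩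
  | inv y _ hy =>
    obtain ⟨σ, d, h1, f1⟩ := hy
    exact ⟨_, _, h1.inv, fun k hk => by rw [Equiv.Perm.inv_eq_iff_eq]; exact (f1 k hk).symm⟩

/-- membership in the set `W_m H̃` -/
def InA (m : ℕ) (g : G) : Prop := ∃ a ∈ Wlt S m, ∃ h ∈ S.Htil, g = a * h

theorem InA.mul_left_W {m : ℕ} {g : G} (hg : InA S m g) {y : G} (hy : y ∈ Wlt S m) :
    InA S m (y * g) := by
  obtain ⟨a, ha, h, hh, rfl⟩ := hg
  exact ⟨y * a, (Wlt S m).mul_mem hy ha, h, hh, by rw [mul_assoc]⟩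

theorem InA.mul_left_H (hn : 3 ≤ n) {m : ℕ} {g : G} (hg : InA S m g) {y : G} (hy : y ∈ S.Htil) :
    InA S m (y * g) := by
  obtain ⟨a, ha, h, hh, rfl⟩ := hg
  refine ⟨a, ha, cj a⁻¹ y * h, S.Htil.mul_mem
    (cj_mem_Htil S hn ((Wlt S m).inv_mem ha |> fun h' => Wlt_le_Wtil S m h') hy) hh, ?_⟩
  unfold cj
  group

theorem InA.exists_monAct (hn : 3 ≤ n) {m : ℕ} {g : G} (hg : InA S m g) :
    ∃ σ d, S.MonAct g σ d ∧ ∀ k : Fin n, m ≤ k.val → σ k = k := by
  obtain ⟨a, ha, h, hh, rfl⟩ := hg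
  obtain ⟨σ, d, h1, f1⟩ := exists_monAct_fix_of_mem_Wlt S hn m ha
  obtain ⟨d', h2⟩ := exists_monAct_one_of_mem_Htil S hn hh
  exact ⟨_, _, h1.mul h2, fun k hk => by rw [Equiv.Perm.mul_apply, Equiv.Perm.one_apply, f1 k hk]⟩

/-- `w_ij(u) = w_ij(1) h''` with `h'' ∈ H̃` -/
theorem exists_w_eq_w_one_mul (hn : 3 ≤ n) {i j : Fin n} (hij : i ≠ j) (u : Kˣ) :
    ∃ h ∈ S.Htil, S.w i j u = S.w i j 1 * h := by
  refine ⟨cj (S.w i j 1)⁻¹ (S.h i j u), cj_mem_Htil S hn (S.Wtil.inv_mem (S.w_mem_Wtil hij 1))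
    (S.h_mem_Htil hij u), ?_⟩
  rw [S.w_eq_h_mul_w_one hij u]
  unfold cj
  group

/-- the alternative of the coset decomposition -/
def InT (m : ℕ) (hm : m < n) (g : G) : Prop :=
  InA S m g ∨ ∃ i : Fin n, i.val < m ∧ ∃ x, InA S m x ∧ g = S.w i ⟨m, hm⟩ 1 * x

/-- left multiplication by `w_kM(u)`, `k < m`, `M = m` -/
theorem InT.step_b (hn : 3 ≤ n) {m : ℕ} (hm : m < n) {k : Fin n} (hk : k.val < m) (u : Kˣ) {z : G}
    (hz : InT S m hm z) : InT S m hm (S.w k ⟨m, hm⟩ u * z) := by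
  have hkM : k ≠ ⟨m, hm⟩ := by
    intro e; rw [e] at hk; simp at hk
  obtain ⟨h'', hh'', hw⟩ := exists_w_eq_w_one_mul S hn hkM u
  rcases hz with hz | ⟨i, hi, x, hx, rfl⟩
  · right
    refine ⟨k, hk, h'' * z, hz.mul_left_H S hn hh'', ?_⟩
    rw [hw, mul_assoc]
  · by_cases hik : i = k
    · subst hik
      left
      have e : S.w i ⟨m, hm⟩ u * (S.w i ⟨m, hm⟩ 1 * x)
          = S.h i ⟨m, hm⟩ u * ((S.h i ⟨m, hm⟩ (-1))⁻¹ * x) := by
        rw [S.w_eq_h_mul_w_one hkM u, ← S.w_one_mul_w_one hkM]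
        group
      rw [e]
      exact (hx.mul_left_H S hn (S.Htil.inv_mem (S.h_mem_Htil hkM _))).mul_left_H S hn
        (S.h_mem_Htil hkM _)
    · right
      have hiM : i ≠ ⟨m, hm⟩ := by
        intro e; rw [e] at hi; simp at hi
      have hmon := S.monAct_w hn hiM (-1)
      have hcj := hmon.cj_w hkM u
      rw [Equiv.swap_apply_of_ne_of_ne (Ne.symm hik) hkM, Equiv.swap_apply_right] at hcj
      -- hcj : cj (w i M (-1)) (w k M u) = w k i (c * u)
      refine ⟨i, hi, S.w k i (dw i ⟨m, hm⟩ (-1) k / dw i ⟨m, hm⟩ (-1) ⟨m, hm⟩ * u) * x,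
        hx.mul_left_W S (w_mem_Wlt S (Ne.symm hik) hk hi _), ?_⟩
      rw [← hcj, ← S.w_inv hiM 1]
      unfold cj
      group

/-- left multiplication by a generator of `W_{m+1}` -/
theorem InT.step (hn : 3 ≤ n) {m : ℕ} (hm : m < n) {k l : Fin n} (hkl : k ≠ l) (hk : k.val < m + 1)
    (hl : l.val < m + 1) (u : Kˣ) {z : G} (hz : InT S m hm z) : InT S m hm (S.w k l u * z) := by
  by_cases hlm : l.val < m
  · by_cases hkm : k.val < m
    · -- both below m
      have hy : S.w k l u ∈ Wlt S m := w_mem_Wlt S hkl hkm hlm u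
      rcases hz with hz | ⟨i, hi, x, hx, rfl⟩
      · left; exact hz.mul_left_W S hy
      · right
        have hiM : i ≠ ⟨m, hm⟩ := by
          intro e; rw [e] at hi; simp at hi
        have hkM : k ≠ ⟨m, hm⟩ := by
          intro e; rw [e] at hkm; simp at hkm
        have hlM : l ≠ ⟨m, hm⟩ := by
          intro e; rw [e] at hlm; simp at hlm
        have hmon := S.monAct_w hn hkl u
        have hcj := hmon.cj_w hiM 1
        rw [Equiv.swap_apply_of_ne_of_ne (Ne.symm hkM) (Ne.symm hlM)] at hcj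
        have hi' : ((Equiv.swap k l) i).val < m := by
          by_cases h1 : i = k
          · rw [h1, Equiv.swap_apply_left]; exact hlm
          · by_cases h2 : i = l
            · rw [h2, Equiv.swap_apply_right]; exact hkm
            · rw [Equiv.swap_apply_of_ne_of_ne h1 h2]; exact hi
        have hi'M : (Equiv.swap k l) i ≠ ⟨m, hm⟩ := by
          intro e; rw [e] at hi'; simp at hi'
        obtain ⟨h'', hh'', hw⟩ := exists_w_eq_w_one_mul S hn hi'M
          (dw k l u i / dw k l u ⟨m, hm⟩ * 1)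
        refine ⟨(Equiv.swap k l) i, hi', h'' * (S.w k l u * x),
          (hx.mul_left_W S hy).mul_left_H S hn hh'', ?_⟩
        have e1 : S.w k l u * S.w i ⟨m, hm⟩ 1 = cj (S.w k l u) (S.w i ⟨m, hm⟩ 1) * S.w k l u := by
          unfold cj; group
        rw [← mul_assoc, e1, hcj, hw]
        group
    · -- k = M
      have hkM : k = ⟨m, hm⟩ := by
        apply Fin.ext; simp; omega
      subst hkM
      rw [S.w_swap hn hkl.symm u]
      exact hz.step_b S hn hm hlm _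
  · have hlM : l = ⟨m, hm⟩ := by
      apply Fin.ext; simp; omega
    subst hlM
    have hkm : k.val < m := by
      by_contra hcon
      apply hkl
      apply Fin.ext; simp; omega
    exact hz.step_b S hn hm hkm u

theorem coset_decomp (hn : 3 ≤ n) {m : ℕ} (hm : m < n) {g : G} (hg : g ∈ Wlt S (m + 1)) :
    InT S m hm g := by
  have hg' : g ∈ Subgroup.closure {g : G | ∃ i j : Fin n, ∃ u : Kˣ, i ≠ j ∧ i.val < m + 1 ∧
      j.val < m + 1 ∧ g = S.w i j u} := hg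
  clear hg
  induction hg' using Subgroup.closure_induction_left with
  | one => exact Or.inl ⟨1, (Wlt S m).one_mem, 1, S.Htil.one_mem, by simp⟩
  | mul_left y hy z _ hz =>
    obtain ⟨i, j, u, hij, hi, hj, rfl⟩ := hy
    exact hz.step S hn hm hij hi hj u
  | inv_mul_cancel y hy z _ hz =>
    obtain ⟨i, j, u, hij, hi, hj, rfl⟩ := hy
    rw [S.w_inv hij]
    exact hz.step S hn hm hij hi hj (-u)

theorem mem_Htil_of_mem_Wlt (hn : 3 ≤ n) : ∀ m : ℕ, m ≤ n → ∀ g : G, g ∈ Wlt S m →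
    ∀ d : Fin n → Kˣ, S.MonAct g 1 d → g ∈ S.Htil := by
  intro m
  induction m with
  | zero =>
    intro _ g hg d _
    have : Wlt S 0 = ⊥ := by
      unfold Wlt
      rw [Subgroup.closure_eq_bot_iff]
      rintro g ⟨i, j, u, _, hi, _, rfl⟩
      omega
    rw [this, Subgroup.mem_bot] at hg
    rw [hg]; exact S.Htil.one_mem
  | succ m ih =>
    intro hmn g hg d hmon
    have hm : m < n := hmn
    have key : ∀ x, InA S m x → ∀ d', S.MonAct x 1 d' → x ∈ S.Htil := by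
      rintro x ⟨a, ha, h, hh, rfl⟩ d' hx
      obtain ⟨d'', h2⟩ := exists_monAct_one_of_mem_Htil S hn hh
      have h3 := hx.mul h2.inv
      rw [inv_one, mul_one, mul_assoc, mul_inv_cancel, mul_one] at h3
      exact S.Htil.mul_mem (ih (by omega) a ha _ h3) hh
    rcases coset_decomp S hn hm hg with hA | ⟨i, hi, x, hx, rfl⟩
    · exact key g hA d hmon
    · exfalso
      obtain ⟨σ, dx, hxm, hfix⟩ := hx.exists_monAct S hn
      have hiM : i ≠ ⟨m, hm⟩ := by
        intro e; rw [e] at hi; simp at hi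
      have h1 := (S.monAct_w hn hiM 1).mul hxm
      have h2 := MonAct.perm_unique (by omega) h1 hmon
      have h3 := congrArg (fun τ : Equiv.Perm (Fin n) => τ ⟨m, hm⟩) h2
      simp only [Equiv.Perm.mul_apply, Equiv.Perm.one_apply] at h3
      rw [hfix ⟨m, hm⟩ (le_refl _), Equiv.swap_apply_right] at h3
      exact hiM h3

/-- FO-C -/
theorem mem_Htil_of_monAct_one {n : ℕ} {K : Type*} [Field K] {G : Type*} [Group G] (S : StRep n K G)
    (hn : 3 ≤ n) {g : G} (hg : g ∈ S.Wtil) {d : Fin n → Kˣ} (h1 : S.MonAct g 1 d) : g ∈ S.Htil :=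
  mem_Htil_of_mem_Wlt S hn n (le_refl n) g (Wtil_le_Wlt S hg) d h1

end Cfsg.Agent.Lib.Helper27.StHtilC
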