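import Mathlib
import Cfsg.Prelude.Def_Characters
import Cfsg.Prelude.Def_OddOrderLocal
import Cfsg.Agent.Lib.Helper2.Integrality
import Cfsg.Agent.Lib.Helper2.InductionTI
import Cfsg.Agent.Lib.Helper2.BurnsidePQ
import Cfsg.Agent.Lib.Helper7.PairCount2

/-!
# S4018-C of helper29's farm-out (helper27): the character identity

For an irreducible character `χ` of `G` in the TI-configuration of S4018:
`K s² = d² + 2 m d (2 m c - d)` with `d = χ(1)`, `s = χ(v)`, `c = ⟨χ|_C, 1_C⟩`.
-/

set_option autoImplicit false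
open scoped ComplexConjugate
open Cfsg

namespace Cfsg.Agent.Lib.Helper27.S4018C

open Cfsg.Agent.Lib.Helper2 Cfsg.Agent.Lib.Helper7 Cfsg.Agent.Lib.Helper25

section
variable {G : Type*} [Group G] [Fintype G]

/-- degree data of an irreducible character -/
theorem exists_degree {χ : G → ℂ} (hχ : IsIrrCharacter G χ) :
    ∃ d : ℕ, 0 < d ∧ d ∣ Nat.card G ∧ χ 1 = (d : ℂ) := by
  obtain ⟨n, ρ, hirr, rfl⟩ := hχ
  haveI := hirr
  have h1 := finrank_dvd_card ρ
  have h2 := finrank_pos_of_isIrreducible ρ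
  rw [Module.finrank_fin_fun] at h1 h2
  exact ⟨n, h2, h1, rep_char_one ρ⟩

theorem isCharacter_one' (H : Type*) [Group H] : IsCharacter H (fun _ => (1 : ℂ)) :=
  isCharacter_of_irr isIrrCharacter_one

/-- the sum of a character over a subgroup is a natural multiple of the order -/
theorem exists_nat_sum_subgroup {χ : G → ℂ} (hχ : IsCharacter G χ) (C : Subgroup G) [Fintype C] :
    ∃ c : ℕ, ∑ g : C, χ (g : G) = (Nat.card C : ℂ) * c := by
  have h1 := Cfsg.Agent.Lib.Helper2.IsCharacter.restrict hχ C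
  obtain ⟨c, hc⟩ := classInner_isCharacter_nat h1 (isCharacter_one' C)
  refine ⟨c, ?_⟩
  rw [classInner_def] at hc
  simp only [map_one, mul_one] at hc
  have hne : (Nat.card C : ℂ) ≠ 0 := by exact_mod_cast Nat.card_pos.ne'
  rw [← hc]
  field_simp

theorem mem_zpowers_invol (x : G) (hx : orderOf x = 2) (u : G)
    (hu : u ∈ Subgroup.zpowers x) : u = 1 ∨ u = x := by
  obtain ⟨k, rfl⟩ := Subgroup.mem_zpowers_iff.mp hu
  rw [← zpow_mod_orderOf, hx]
  push_cast
  have h1 : 0 ≤ k % 2 := Int.emod_nonneg k (by norm_num)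
  have h2 : k % 2 < 2 := Int.emod_lt_of_pos k (by norm_num)
  have h3 : k % 2 = 0 ∨ k % 2 = 1 := by omega
  rcases h3 with h | h
  · left; rw [h]; simp
  · right; rw [h]; simp

theorem sum_zpowers_invol (x : G) (hx : orderOf x = 2) [Fintype (Subgroup.zpowers x)]
    (F : G → ℂ) : ∑ u : Subgroup.zpowers x, F (u : G) = F 1 + F x := by
  have hx1 : x ≠ 1 := by
    intro h; rw [h, orderOf_one] at hx; norm_num at hx
  rw [Fintype.sum_eq_add (1 : Subgroup.zpowers x) ⟨x, Subgroup.mem_zpowers x⟩]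
  · rfl
  · intro h
    exact hx1 (congrArg Subtype.val h).symm
  · rintro u ⟨h1, h2⟩
    exfalso
    rcases mem_zpowers_invol x hx u u.2 with h | h
    · exact h1 (Subtype.ext h)
    · exact h2 (Subtype.ext h)

/-- a character value at an involution is an integer -/
theorem exists_int_value_involution {χ : G → ℂ} (hχ : IsCharacter G χ) (v : G)
    (hv : orderOf v = 2) : ∃ s : ℤ, χ v = (s : ℂ) := by
  classical
  obtain ⟨d, hd⟩ := char_one_eq hχ
  haveI : Fintype (Subgroup.zpowers v) := Fintype.ofFinite _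
  have h1 := Cfsg.Agent.Lib.Helper2.IsCharacter.restrict hχ (Subgroup.zpowers v)
  obtain ⟨a, ha⟩ := classInner_isCharacter_nat h1 (isCharacter_one' (Subgroup.zpowers v))
  rw [classInner_def] at ha
  simp only [map_one, mul_one] at ha
  rw [sum_zpowers_invol v hv χ, Nat.card_zpowers, hv, hd] at ha
  refine ⟨2 * a - d, ?_⟩
  push_cast at ha ⊢
  have h2 : (2 : ℂ) ≠ 0 := two_ne_zero
  field_simp at ha
  linear_combination ha

open Classical in
/-- the indicator function of `C ∖ {1}` on the normalizer of `C` -/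
noncomputable def psi (C : Subgroup G) : Subgroup.normalizer (C : Set G) → ℂ :=
  fun x => if (x : G) ∈ C ∧ (x : G) ≠ 1 then 1 else 0

theorem psi_isClassFunction (C : Subgroup G) :
    IsClassFunction (Subgroup.normalizer (C : Set G)) (psi C) := by
  intro g h
  unfold psi
  have h1 : ((h * g * h⁻¹ : Subgroup.normalizer (C : Set G)) : G) ∈ C ↔ (g : G) ∈ C := by
    have := (Subgroup.mem_normalizer_iff.1 h.2 (g : G))
    exact this.symm
  have h2 : ((h * g * h⁻¹ : Subgroup.normalizer (C : Set G)) : G) ≠ 1 ↔ (g : G) ≠ 1 := by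
    rw [Ne, Ne, not_iff_not]
    constructor
    · intro e
      have e' : (h : G) * (g : G) * (h : G)⁻¹ = 1 := e
      have : (g : G) = (h : G)⁻¹ * ((h : G) * (g : G) * (h : G)⁻¹) * (h : G) := by group
      rw [this, e']; group
    · intro e
      show (h : G) * (g : G) * (h : G)⁻¹ = 1
      rw [e]; group
  classical
  exact if_congr (and_congr h1 h2) rfl rfl

theorem psi_eq_zero (C : Subgroup G) (x : Subgroup.normalizer (C : Set G))
    (hx : (x : G) ∉ (C : Set G)) : psi C x = 0 := by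
  unfold psi
  rw [if_neg]
  intro h
  exact hx h.1

/-- the induced function `Φ` -/
noncomputable def Phi (C : Subgroup G) : G → ℂ :=
  Cfsg.indFun (Subgroup.normalizer (C : Set G)) (psi C)

theorem Phi_apply_mem (C : Subgroup G) (hTI : Cfsg.IsTISubset (C : Set G)) {w : G} (hw : w ∈ C)
    (hw1 : w ≠ 1) : Phi C w = 1 := by
  have hwN : w ∈ Subgroup.normalizer (C : Set G) := Subgroup.le_normalizer hw
  have := indFun_TI_apply (C : Set G) hTI (psi C) (psi_isClassFunction C) (psi_eq_zero C)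
    ⟨w, hwN⟩ hw (fun h => hw1 (congrArg Subtype.val h))
  unfold Phi
  rw [this]
  unfold psi
  rw [if_pos ⟨hw, hw1⟩]

theorem Phi_one (C : Subgroup G) : Phi C 1 = 0 := by
  unfold Phi
  rw [Cfsg.Agent.Lib.Helper2.indFun_apply]
  have : ∀ x : G, Cfsg.extendByZero (Subgroup.normalizer (C : Set G)) (psi C) (x⁻¹ * 1 * x) = 0 := by
    intro x
    have e : x⁻¹ * 1 * x = ((1 : Subgroup.normalizer (C : Set G)) : G) := by simp
    rw [e, extendByZero_coe]
    unfold psi
    rw [if_neg]
    intro h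
    exact h.2 rfl
  rw [Finset.sum_eq_zero (fun x _ => this x), mul_zero]

theorem Phi_eq_zero (C : Subgroup G) {w : G} (hw : ∀ h : G, h⁻¹ * w * h ∉ C) : Phi C w = 0 := by
  unfold Phi
  rw [Cfsg.Agent.Lib.Helper2.indFun_apply]
  have : ∀ x : G, Cfsg.extendByZero (Subgroup.normalizer (C : Set G)) (psi C) (x⁻¹ * w * x) = 0 := by
    intro x
    by_cases hx : x⁻¹ * w * x ∈ Subgroup.normalizer (C : Set G)
    · rw [extendByZero_of_mem _ _ hx]
      exact psi_eq_zero C _ (hw x)
    · exact extendByZero_of_not_mem _ _ hx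
  rw [Finset.sum_eq_zero (fun x _ => this x), mul_zero]

theorem Phi_isClassFunction (C : Subgroup G) : IsClassFunction G (Phi C) :=
  indFun_isClassFunction _ _

end

section Main

variable {G : Type*} [Group G] [Fintype G] [DecidableEq G]

theorem pairCount2_eq (C : Subgroup G) (v : G) (m K : ℕ) (hTI : Cfsg.IsTISubset (C : Set G))
    (hCv : Nat.card (Subgroup.centralizer ({v} : Set G)) = 4 * m)
    (hpair1 : Nat.card {p : G × G // IsConj v p.1 ∧ IsConj v p.2 ∧ p.1 * p.2 = 1} = K)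
    (hpairC : ∀ w ∈ C, w ≠ 1 →
      Nat.card {p : G × G // IsConj v p.1 ∧ IsConj v p.2 ∧ p.1 * p.2 = w} = 2 * m)
    (hpair0 : ∀ w : G, w ≠ 1 → (∀ h : G, h⁻¹ * w * h ∉ C) →
      Nat.card {p : G × G // IsConj v p.1 ∧ IsConj v p.2 ∧ p.1 * p.2 = w} = 0) (w : G) :
    pairCount2 v v w = ((4 * m : ℕ) : ℂ) ^ 2 *
      ((K : ℂ) * (if w = 1 then 1 else 0) + ((2 * m : ℕ) : ℂ) * Phi C w) := by
  by_cases hw1 : w = 1
  · subst hw1
    rw [pairCount2_eq_card, hCv, hpair1, Phi_one, if_pos rfl]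
    ring
  · rw [if_neg hw1]
    by_cases hex : ∃ h : G, h⁻¹ * w * h ∈ C
    · obtain ⟨h, hh⟩ := hex
      have hw'1 : h⁻¹ * w * h ≠ 1 := by
        intro e
        apply hw1
        have : w = h * (h⁻¹ * w * h) * h⁻¹ := by group
        rw [this, e]; group
      have e0 : h * (h⁻¹ * w * h) * h⁻¹ = w := by group
      have e1 : pairCount2 v v w = pairCount2 v v (h⁻¹ * w * h) := by
        have := pairCount2_isClassFunction v v (h⁻¹ * w * h) h
        rw [e0] at this
        exact this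
      have e2 : Phi C w = Phi C (h⁻¹ * w * h) := by
        have := Phi_isClassFunction C (h⁻¹ * w * h) h
        rw [e0] at this
        exact this
      rw [e1, e2, pairCount2_eq_card, hCv, hpairC _ hh hw'1, Phi_apply_mem C hTI hh hw'1]
      push_cast
      ring
    · push Not at hex
      rw [pairCount2_eq_card, hCv, hpair0 w hw1 hex, Phi_eq_zero C hex]
      simp

open Classical in
theorem extendByZero_psi (C : Subgroup G) (g : G) :
    Cfsg.extendByZero (Subgroup.normalizer (C : Set G)) (psi C) g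
      = (if g ∈ C then (1 : ℂ) else 0) - (if g = 1 then (1 : ℂ) else 0) := by
  by_cases hg : g ∈ Subgroup.normalizer (C : Set G)
  · rw [extendByZero_of_mem _ _ hg]
    unfold psi
    by_cases h1 : g ∈ C
    · by_cases h2 : g = 1
      · simp [h1, h2]
      · simp [h1, h2]
    · have h2 : g ≠ 1 := fun e => h1 (e ▸ C.one_mem)
      simp [h1, h2]
  · rw [extendByZero_of_not_mem _ _ hg]
    have h1 : g ∉ C := fun h => hg (Subgroup.le_normalizer h)
    have h2 : g ≠ 1 := fun e => h1 (e ▸ C.one_mem)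
    simp [h1, h2]

open Classical in
theorem extendByZero_one (C : Subgroup G) (g : G) :
    Cfsg.extendByZero C (fun _ => (1 : ℂ)) g = if g ∈ C then (1 : ℂ) else 0 := by
  by_cases hg : g ∈ C
  · rw [extendByZero_of_mem _ _ hg, if_pos hg]
  · rw [extendByZero_of_not_mem _ _ hg, if_neg hg]

theorem classInner_Phi (C : Subgroup G) [Fintype C] {χ : G → ℂ} (hχ : IsCharacter G χ) (d c : ℕ)
    (hd : χ 1 = d) (hc : ∑ g : C, χ (g : G) = (Nat.card C : ℂ) * c) :
    Cfsg.classInner (Phi C) χ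
      = (Nat.card (Subgroup.normalizer (C : Set G)) : ℂ)⁻¹ * ((Nat.card C : ℂ) * c - d) := by
  classical
  haveI : Fintype (Subgroup.normalizer (C : Set G)) := Fintype.ofFinite _
  unfold Phi
  rw [frobenius_reciprocity (Subgroup.normalizer (C : Set G)) (psi C) χ
    (isClassFunction_of_char hχ), classInner_def]
  congr 1
  have h1 := sum_extendByZero_mul (Subgroup.normalizer (C : Set G)) (psi C) (fun g => conj (χ g))
  have h2 := sum_extendByZero_mul C (fun _ => (1 : ℂ)) (fun g => conj (χ g))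
  simp only [one_mul] at h2
  rw [← h1]
  have h3 : ∑ g : C, conj (χ (g : G)) = (Nat.card C : ℂ) * c := by
    rw [← map_sum, hc, map_mul, Complex.conj_natCast, Complex.conj_natCast]
  rw [← h3, ← h2]
  simp_rw [extendByZero_psi, extendByZero_one, sub_mul]
  rw [Finset.sum_sub_distrib]
  congr 1
  simp only [ite_mul, one_mul, zero_mul]
  rw [Finset.sum_ite_eq']
  simp [hd]

/-- S4018-C -/
theorem char_identity {G : Type*} [Group G] [Fintype G] [DecidableEq G] (C : Subgroup G) (v : G)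
    (m K : ℕ) (hm : 0 < m) (hv : orderOf v = 2) (hTI : Cfsg.IsTISubset (C : Set G))
    (hNcard : Nat.card (Subgroup.normalizer (C : Set G)) = 4 * m) (hCcard : Nat.card C = 2 * m)
    (hCv : Nat.card (Subgroup.centralizer ({v} : Set G)) = 4 * m) (hG : Nat.card G = 4 * m * K)
    (hpair1 : Nat.card {p : G × G // IsConj v p.1 ∧ IsConj v p.2 ∧ p.1 * p.2 = 1} = K)
    (hpairC : ∀ w ∈ C, w ≠ 1 →
      Nat.card {p : G × G // IsConj v p.1 ∧ IsConj v p.2 ∧ p.1 * p.2 = w} = 2 * m)
    (hpair0 : ∀ w : G, w ≠ 1 → (∀ h : G, h⁻¹ * w * h ∉ C) →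
      Nat.card {p : G × G // IsConj v p.1 ∧ IsConj v p.2 ∧ p.1 * p.2 = w} = 0)
    (χ : G → ℂ) (hχ : Cfsg.IsIrrCharacter G χ) :
    ∃ (d : ℕ) (s : ℤ) (c : ℕ), 0 < d ∧ d ∣ Nat.card G ∧ χ 1 = (d : ℂ) ∧ χ v = (s : ℂ) ∧
      (K : ℤ) * s ^ 2 = (d : ℤ) ^ 2 + 2 * m * d * (2 * m * c - d) := by
  classical
  haveI : Fintype C := Fintype.ofFinite _
  have hχc := isCharacter_of_irr hχ
  obtain ⟨d, hd0, hdvd, hd⟩ := exists_degree hχ
  obtain ⟨s, hs⟩ := exists_int_value_involution hχc v hv
  obtain ⟨c, hc⟩ := exists_nat_sum_subgroup hχc C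
  refine ⟨d, s, c, hd0, hdvd, hd, hs, ?_⟩
  have hA := classInner_pairCount2 v v hχ
  have hfun : pairCount2 v v = fun w => ((4 * m : ℕ) : ℂ) ^ 2 *
      ((K : ℂ) * (if w = 1 then 1 else 0) + ((2 * m : ℕ) : ℂ) * Phi C w) :=
    funext (pairCount2_eq C v m K hTI hCv hpair1 hpairC hpair0)
  have hB : Cfsg.classInner (pairCount2 v v) χ = ((4 * m : ℕ) : ℂ) ^ 2 *
      ((K : ℂ) * ((Nat.card G : ℂ)⁻¹ * d) + ((2 * m : ℕ) : ℂ) * Cfsg.classInner (Phi C) χ) := by
    rw [hfun, classInner_def, classInner_def]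
    have : ∀ w : G, ((4 * m : ℕ) : ℂ) ^ 2 *
        ((K : ℂ) * (if w = 1 then 1 else 0) + ((2 * m : ℕ) : ℂ) * Phi C w) * conj (χ w)
        = ((4 * m : ℕ) : ℂ) ^ 2 * (K : ℂ) * (if w = 1 then conj (χ w) else 0)
          + ((4 * m : ℕ) : ℂ) ^ 2 * ((2 * m : ℕ) : ℂ) * (Phi C w * conj (χ w)) := by
      intro w
      by_cases hw : w = 1
      · simp only [hw, if_true]; ring
      · simp only [hw, if_false]; ring
    simp_rw [this]
    rw [Finset.sum_add_distrib, ← Finset.mul_sum, ← Finset.mul_sum, Finset.sum_ite_eq']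
    simp only [Finset.mem_univ, if_true, hd, Complex.conj_natCast]
    ring
  rw [hB, classInner_Phi C hχc d c hd hc, hNcard, hCcard, hG, hd, hs] at hA
  have hm' : (m : ℂ) ≠ 0 := by exact_mod_cast hm.ne'
  have hd' : (d : ℂ) ≠ 0 := by exact_mod_cast hd0.ne'
  have hK0 : 0 < K := by
    rcases Nat.eq_zero_or_pos K with h | h
    · rw [h, mul_zero] at hG
      exact absurd hG Nat.card_pos.ne'
    · exact h
  have hK' : (K : ℂ) ≠ 0 := by exact_mod_cast hK0.ne'
  have key : (K : ℂ) * (s : ℂ) ^ 2 = (d : ℂ) ^ 2 + 2 * m * d * (2 * m * c - d) := by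
    simp only [map_div₀, map_mul, Complex.conj_natCast, map_intCast] at hA
    push_cast at hA
    field_simp at hA
    linear_combination (-1 : ℂ) * hA
  exact_mod_cast key

end Main

end Cfsg.Agent.Lib.Helper27.S4018C
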