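import Mathlib
import Cfsg.Prelude.Def_Blocks
import Cfsg.Prelude.Def_BlockLocal
import Cfsg.Prelude.Def_BlockRank
import Cfsg.Prelude.Def_BrauerPairs
import Cfsg.Agent.Lib.Helper24.PairTools
import Cfsg.Agent.Lib.Helper24.SubpairUnique
import Cfsg.Agent.Lib.Helper24.SubpairStep
import Cfsg.Agent.Lib.Helper24.CentPairs
import Cfsg.Agent.Lib.Helper7.DefectOrder
import Cfsg.Agent.Lib.Helper7.KleinCount
import Cfsg.Agent.S4717

/-!
# S4640 farm (helper24), leaf [D] `exists_major` (helper27)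

For `u` in an abelian defect group `P` of `B`: a block of `C_G(u)` inducing `B`, of the same defect.
-/

set_option autoImplicit false

namespace Cfsg.Agent.Lib.Helper24.PIdx

open Cfsg
open scoped ComplexConjugate

variable {G : Type*} [Group G] [Fintype G] {p : ℕ} [Fact p.Prime] {M : Ideal Cfsg.AlgInt}

/-- [D] for `u` in an abelian defect group `P` of `B`: a block of `C_G(u)` inducing `B`, of the
same defect (a major subsection) -/
theorem exists_major (hM : Cfsg.IsPModular p M) (B : Set (Cfsg.IrrCharacter G))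
    (hB : Cfsg.IsPBlock M B) (P : Subgroup G) (hPD : Cfsg.IsDefectGroup p M B P)
    (hPab : ∀ x ∈ P, ∀ y ∈ P, x * y = y * x) (u : G) (hu : u ∈ P) :
    ∃ f : Set (Cfsg.IrrCharacter
        (Subgroup.centralizer ((Subgroup.zpowers u : Subgroup G) : Set G))),
      Cfsg.IsInducedBlock M (Subgroup.centralizer ((Subgroup.zpowers u : Subgroup G) : Set G)) f B ∧
      Cfsg.blockDefect p f = Cfsg.blockDefect p B := by
  classical
  haveI : Fintype (Subgroup.centralizer ((Subgroup.zpowers u : Subgroup G) : Set G)) :=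
    Fintype.ofFinite _
  obtain ⟨e, hmax⟩ :=
    Cfsg.Agent.Lib.Helper24.exists_isMaximalBrauerPair_of_isDefectGroup hM B hB P hPD
  have hPe : Cfsg.IsBrauerPair p M P e := hmax.1.1
  have hQP : Subgroup.zpowers u ≤ P := by
    rw [Subgroup.zpowers_le]
    exact hu
  obtain ⟨f, hf, hle⟩ :=
    Cfsg.Agent.Lib.Helper24.exists_subpairLE hM P e hPe (Subgroup.zpowers u) hQP
  have hQf : Cfsg.IsBrauerPair p M (Subgroup.zpowers u) f := ⟨hPe.1.to_le hQP, hf⟩
  have hBf : Cfsg.IsBrauerPairOf p M B (Subgroup.zpowers u) f :=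
    (Cfsg.Agent.Lib.Helper24.isBrauerPairOf_iff_of_subpairLE hM hPe hQf hle B hB).mp hmax.1
  -- `u` is a `p`-element
  have hx : ∃ k : ℕ, orderOf u = p ^ k := by
    obtain ⟨k, hk⟩ := (IsPGroup.iff_orderOf.mp hPe.1) ⟨u, hu⟩
    refine ⟨k, ?_⟩
    rw [← hk]
    exact (Subgroup.orderOf_mk u hu).symm
  have hind := (Cfsg.Agent.Lib.Helper7.isBrauerPairOf_zpowers_iff p hM B u hx f).mp hBf
  refine ⟨f, hind, le_antisymm ?_ ?_⟩
  · exact Cfsg.Agent.S4717.blockDefect_le_of_isInducedBlock hM _ f B hind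
  · obtain ⟨D, hD, hDle⟩ :=
      Cfsg.Agent.Lib.Helper24.exists_isDefectGroup_ge_centralizerIn hM P (Subgroup.zpowers u) e f
        hPe hQP hle
    have hPC : P ≤ Subgroup.centralizer ((Subgroup.zpowers u : Subgroup G) : Set G) := by
      intro x hx'
      rw [Subgroup.mem_centralizer_iff]
      intro y hy
      exact hPab y (hQP hy) x hx'
    have h1 := Cfsg.Agent.Lib.Helper7.card_of_isDefectGroup hM f hf D hD
    have h2 := Cfsg.Agent.Lib.Helper7.card_of_isDefectGroup hM B hB P hPD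
    have h3 : Nat.card ((P ⊓ Subgroup.centralizer ((Subgroup.zpowers u : Subgroup G) : Set G)).subgroupOf
        (Subgroup.centralizer ((Subgroup.zpowers u : Subgroup G) : Set G))) = Nat.card P := by
      rw [inf_eq_left.mpr hPC]
      exact Nat.card_congr (Subgroup.subgroupOfEquivOfLe hPC).toEquiv
    have h4 := Subgroup.card_le_of_le hDle
    rw [h3, h1, h2] at h4
    exact (Nat.pow_le_pow_iff_right (Fact.out : p.Prime).one_lt).1 h4

end Cfsg.Agent.Lib.Helper24.PIdx
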