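import Mathlib
import Cfsg.Agent.Lib.Helper10.DihedralRecog

set_option autoImplicit false

namespace Cfsg.Agent.Lib.Helper27.RU28a

variable {X : Type*} [Group X] [Finite X]

/-- index of `Y` is six -/
theorem index_six (Y : Subgroup X) (hX : Nat.card X = 6 * Nat.card Y) : Y.index = 6 := by
  have h := Y.card_mul_index
  rw [hX] at h
  have hpos : 0 < Nat.card Y := Nat.card_pos
  have : Nat.card Y * Y.index = Nat.card Y * 6 := by rw [h]; ring
  exact Nat.eq_of_mul_eq_mul_left hpos this

/-- the centre is contained in `Y` -/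
theorem center_le (Y : Subgroup X) (hY : Y ≤ Subgroup.center X)
    (hX : Nat.card X = 6 * Nat.card Y) (hnab : ∃ a b : X, a * b * a⁻¹ * b⁻¹ ∉ Y) :
    Subgroup.center X ≤ Y := by
  have h6 := index_six Y hX
  have hrel := Subgroup.relIndex_mul_index hY
  rw [h6] at hrel
  have hdvd : (Subgroup.center X).index ∣ 6 := Dvd.intro_left _ hrel
  have hle : (Subgroup.center X).index ≤ 6 := Nat.le_of_dvd (by norm_num) hdvd
  have hcomm : IsCyclic (X ⧸ Subgroup.center X) → False := by
    intro hc
    obtain ⟨a, b, hab⟩ := hnab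
    apply hab
    have := commutative_of_cyclic_center_quotient (QuotientGroup.mk' (Subgroup.center X))
      (by rw [QuotientGroup.ker_mk']) a b
    rw [this, mul_inv_cancel_right, mul_inv_cancel]
    exact Y.one_mem
  have hcard : Nat.card (X ⧸ Subgroup.center X) = (Subgroup.center X).index := rfl
  have hidx : (Subgroup.center X).index = 6 := by
    by_contra hne
    have hpos : 0 < (Subgroup.center X).index :=
      Nat.pos_of_ne_zero Subgroup.index_ne_zero_of_finite
    interval_cases h : (Subgroup.center X).index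
    · apply hcomm
      haveI : Subsingleton (X ⧸ Subgroup.center X) :=
        (Nat.card_eq_one_iff_unique.1 hcard).1
      infer_instance
    · apply hcomm
      haveI : Fact (Nat.Prime 2) := ⟨Nat.prime_two⟩
      exact isCyclic_of_prime_card hcard
    · apply hcomm
      haveI : Fact (Nat.Prime 3) := ⟨Nat.prime_three⟩
      exact isCyclic_of_prime_card hcard
    · norm_num at hdvd
    · norm_num at hdvd
    · exact hne rfl
  rw [hidx] at hrel
  have h1 : Y.relIndex (Subgroup.center X) = 1 := by omega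
  exact Subgroup.relIndex_eq_one.1 h1

/-- an element of order dividing two in `Y` is trivial -/
theorem eq_one_of_sq (Y : Subgroup X) (hodd : Odd (Nat.card Y)) {z : X} (hz : z ∈ Y)
    (h2 : z ^ 2 = 1) : z = 1 := by
  have h1 : orderOf z ∣ 2 := orderOf_dvd_of_pow_eq_one h2
  have h3 : orderOf z ∣ Nat.card Y := Subgroup.orderOf_dvd_natCard Y hz
  have hcop : Nat.Coprime 2 (Nat.card Y) := (Nat.coprime_two_left).2 hodd
  have h4 : orderOf z ∣ 1 := by
    have := Nat.dvd_gcd h1 h3
    rwa [hcop] at this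
  exact orderOf_eq_one_iff.1 (Nat.dvd_one.1 h4)

/-- no Klein four-subgroups -/
theorem eq_one_or_eq_of_commute (Y : Subgroup X) (hodd : Odd (Nat.card Y))
    (hX : Nat.card X = 6 * Nat.card Y) {u w : X} (hu : orderOf u = 2) (hw : w ^ 2 = 1)
    (huw : u * w = w * u) : w = 1 ∨ w = u := by
  haveI : Fact (Nat.Prime 2) := ⟨Nat.prime_two⟩
  have hu2 : u ^ 2 = 1 := by rw [← hu]; exact pow_orderOf_eq_one u
  have hp : ∀ g : X, g ^ 2 = 1 → IsPGroup 2 (Subgroup.zpowers g) := by
    intro g hg
    rintro ⟨y, hy⟩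
    obtain ⟨i, rfl⟩ := Subgroup.mem_zpowers_iff.1 hy
    refine ⟨1, ?_⟩
    apply Subtype.ext
    simp only [pow_one, Subgroup.coe_pow, Subgroup.coe_one]
    rw [← zpow_natCast, ← zpow_mul, mul_comm, zpow_mul, zpow_natCast, hg, one_zpow]
  have hnorm : Subgroup.zpowers u ≤ Subgroup.normalizer (Subgroup.zpowers w) := by
    rw [Subgroup.zpowers_le]
    rw [Subgroup.mem_normalizer_iff]
    intro h
    have hc : Commute u w := huw
    constructor
    · intro hh
      obtain ⟨i, rfl⟩ := Subgroup.mem_zpowers_iff.1 hh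
      rw [(hc.zpow_right i).mul_inv_cancel]
      exact hh
    · intro hh
      obtain ⟨i, hi⟩ := Subgroup.mem_zpowers_iff.1 hh
      have : h = u⁻¹ * w ^ i * u := by rw [hi]; group
      rw [this]
      have hc' : Commute u⁻¹ (w ^ i) := (hc.zpow_right i).inv_left
      rw [hc'.eq, mul_assoc, inv_mul_cancel, mul_one]
      exact Subgroup.zpow_mem _ (Subgroup.mem_zpowers _) i
  have hE : IsPGroup 2 (Subgroup.zpowers u ⊔ Subgroup.zpowers w : Subgroup X) :=
    IsPGroup.to_sup_of_normal_right' (hp u hu2) (hp w hw) hnorm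
  obtain ⟨k, hk⟩ := IsPGroup.iff_card.1 hE
  have hdvd : 2 ^ k ∣ 6 * Nat.card Y := by
    rw [← hk, ← hX]
    exact Subgroup.card_subgroup_dvd_card _
  have hcop : Nat.Coprime (2 ^ k) (Nat.card Y) :=
    Nat.Coprime.pow_left k ((Nat.coprime_two_left).2 hodd)
  have hd6 : 2 ^ k ∣ 6 := hcop.dvd_of_dvd_mul_right hdvd
  have hk1 : k ≤ 1 := by
    by_contra hlt
    have h2 : 2 ≤ k := by omega
    have : 2 ^ 2 ∣ 6 := (pow_dvd_pow 2 h2).trans hd6
    norm_num at this
  have hcE : Nat.card (Subgroup.zpowers u ⊔ Subgroup.zpowers w : Subgroup X) ≤ 2 := by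
    rw [hk]
    calc 2 ^ k ≤ 2 ^ 1 := Nat.pow_le_pow_right (by norm_num) hk1
      _ = 2 := by norm_num
  have hcu : Nat.card (Subgroup.zpowers u) = 2 := by rw [Nat.card_zpowers, hu]
  have heq : Subgroup.zpowers u = Subgroup.zpowers u ⊔ Subgroup.zpowers w :=
    Subgroup.eq_of_le_of_card_ge le_sup_left (by rw [hcu]; exact hcE)
  have hwu : w ∈ Subgroup.zpowers u := by
    rw [heq]
    exact (le_sup_right : Subgroup.zpowers w ≤ _) (Subgroup.mem_zpowers w)
  obtain ⟨i, rfl⟩ := Subgroup.mem_zpowers_iff.1 hwu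
  rw [← zpow_mod_orderOf, hu]
  have h01 : i % ((2 : ℕ) : ℤ) = 0 ∨ i % ((2 : ℕ) : ℤ) = 1 := by omega
  rcases h01 with h | h
  · left; rw [h, zpow_zero]
  · right; rw [h, zpow_one]


/-- [N28a] a central extension of a nonabelian group of order six by a central subgroup of odd
order contains a complement of order six -/
theorem exists_s3' (Y : Subgroup X)
    (hY : Y ≤ Subgroup.center X) (hodd : Odd (Nat.card Y)) (hX : Nat.card X = 6 * Nat.card Y)
    (hnab : ∃ a b : X, a * b * a⁻¹ * b⁻¹ ∉ Y) :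
    ∃ K : Subgroup X, Nat.card K = 6 ∧ K ⊓ Y = ⊥ := by
  haveI : Fact (Nat.Prime 2) := ⟨Nat.prime_two⟩
  have hcen := center_le Y hY hX hnab
  have h6 := index_six Y hX
  -- an involution
  have h2X : 2 ∣ Nat.card X := by rw [hX]; exact ⟨3 * Nat.card Y, by ring⟩
  obtain ⟨u, hu⟩ := exists_prime_orderOf_dvd_card' 2 h2X
  have hu2 : u ^ 2 = 1 := by rw [← hu]; exact pow_orderOf_eq_one u
  have hu1 : u ≠ 1 := by
    rintro rfl
    rw [orderOf_one] at hu
    norm_num at hu
  have huinv : u⁻¹ = u := by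
    rw [inv_eq_iff_mul_eq_one, ← pow_two, hu2]
  have huY : u ∉ Y := fun h => hu1 (eq_one_of_sq Y hodd h hu2)
  have hucen : u ∉ Subgroup.center X := fun h => huY (hcen h)
  rw [Subgroup.mem_center_iff] at hucen
  push Not at hucen
  obtain ⟨x, hx⟩ := hucen
  -- the conjugate
  set v : X := x * u * x⁻¹ with hv
  have hv2 : v ^ 2 = 1 := by rw [hv, conj_pow, hu2, mul_one, mul_inv_cancel]
  have hvinv : v⁻¹ = v := by
    rw [inv_eq_iff_mul_eq_one, ← pow_two, hv2]
  have hvu : v ≠ u := by
    intro h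
    apply hx
    have h' : x * u * x⁻¹ = u := h
    calc x * u = (x * u * x⁻¹) * x := by group
      _ = u * x := by rw [h']
  have hv1 : v ≠ 1 := by
    intro h
    apply hu1
    have : x * u * x⁻¹ = 1 := h
    rw [mul_inv_eq_one] at this
    exact mul_left_cancel (this.trans (mul_one x).symm)
  have hnc : u * v ≠ v * u := by
    intro h
    rcases eq_one_or_eq_of_commute Y hodd hX hu hv2 h with h1 | h1
    · exact hv1 h1
    · exact hvu h1
  -- the rotation
  set q : X := (u * v) ^ 2 with hq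
  have hinvr : u * (u * v) * u⁻¹ = (u * v)⁻¹ := by
    rw [mul_inv_rev, hvinv, huinv, ← mul_assoc, ← pow_two, hu2, one_mul]
  have hinvq : u * q * u⁻¹ = q⁻¹ := by
    rw [hq, ← conj_pow, hinvr, inv_pow]
  have hq1 : q ≠ 1 := by
    intro h
    apply hnc
    rw [hq, pow_two] at h
    have : u * v = (u * v)⁻¹ := by
      rw [eq_inv_iff_mul_eq_one]; exact h
    rw [this, mul_inv_rev, hvinv, huinv]
  have hYn : Y.Normal := by
    constructor
    intro n hn g
    have := hY hn
    rw [Subgroup.mem_center_iff] at this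
    rw [this g, mul_inv_cancel_right]
    exact hn
  have hq3Y : q ^ 3 ∈ Y := by
    have := Subgroup.pow_index_mem Y (u * v)
    rw [h6] at this
    rw [hq, ← pow_mul]
    exact this
  have hq3 : q ^ 3 = 1 := by
    apply eq_one_of_sq Y hodd hq3Y
    have hc := hY hq3Y
    rw [Subgroup.mem_center_iff] at hc
    have h1 : u * q ^ 3 * u⁻¹ = q ^ 3 := by
      rw [hc u, mul_inv_cancel_right]
    have h2 : u * q ^ 3 * u⁻¹ = (q ^ 3)⁻¹ := by
      rw [← conj_pow, hinvq, inv_pow]
    rw [pow_two]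
    nth_rewrite 1 [← h1]
    rw [h2, inv_mul_cancel]
  haveI : Fact (Nat.Prime 3) := ⟨Nat.prime_three⟩
  have hordq : orderOf q = 3 := orderOf_eq_prime hq3 hq1
  have hunot : u ∉ Subgroup.zpowers q := by
    intro h
    obtain ⟨m, hm⟩ := Subgroup.mem_zpowers_iff.1 h
    have hcomm : Commute u q := by
      rw [← hm]
      exact (Commute.refl q).zpow_left m
    have h1 : q = q⁻¹ := by
      rw [← hinvq, hcomm.mul_inv_cancel]
    have h2 : q ^ 2 = 1 := by
      rw [pow_two]
      nth_rewrite 1 [h1]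
      exact inv_mul_cancel q
    apply hq1
    calc q = q ^ 3 * (q ^ 2)⁻¹ := by group
      _ = 1 := by rw [hq3, h2, inv_one, mul_one]
  obtain ⟨e⟩ := Cfsg.Agent.Lib.Helper10.nonempty_mulEquiv_dihedralGroup 3 u q hordq
    (by rw [← pow_two, hu2]) hinvq hunot
  refine ⟨Subgroup.zpowers u ⊔ Subgroup.zpowers q, ?_, ?_⟩
  · rw [Nat.card_congr e.toEquiv, DihedralGroup.nat_card]
  · rw [Subgroup.eq_bot_iff_forall]
    rintro g ⟨hgK, hgY⟩
    have hgc := hY hgY
    rw [Subgroup.mem_center_iff] at hgc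
    have hcenD : e ⟨g, hgK⟩ ∈ Subgroup.center (DihedralGroup 3) := by
      rw [Subgroup.mem_center_iff]
      intro d
      obtain ⟨k, rfl⟩ := e.surjective d
      rw [← map_mul, ← map_mul]
      congr 1
      apply Subtype.ext
      exact hgc k.1
    rw [DihedralGroup.center_eq_bot_of_odd_ne_one (by decide) (by norm_num), Subgroup.mem_bot] at hcenD
    have := e.injective (hcenD.trans (map_one e).symm)
    exact congrArg Subtype.val this

end Cfsg.Agent.Lib.Helper27.RU28a
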