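import Mathlib
import Cfsg.Agent.Lib.Helper24.SLB.Defs
import Cfsg.Agent.Lib.Helper15.UnipSL

set_option autoImplicit false

/-! S4538 farm (helper24), piece **[J]** (helper27): Frobenius reciprocity for the flag permutation
characters of `SL_n(F)`: `⟨χ_ρ, fpcSL a⟩` is the dimension of the space of `Psl a`-fixed vectors. -/

namespace Cfsg.Agent.Lib.Helper24.SLB

open Matrix
open scoped ComplexConjugate

namespace Helper27

/-- Cauchy–Frobenius with a class function as weight, for a transitive action. -/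
theorem sum_mul_card_fixedBy {S X : Type*} [Group S] [Fintype S] [MulAction S X] [Finite X]
    [MulAction.IsPretransitive S X] (x₀ : X) (Q : Subgroup S) [Fintype Q]
    (hQ : MulAction.stabilizer S x₀ = Q) (f : S → ℂ)
    (hf : ∀ s t : S, f (t * s * t⁻¹) = f s) :
    ∑ s : S, f s * (Nat.card (MulAction.fixedBy X s) : ℂ) =
      (Nat.card X : ℂ) * ∑ s : Q, f s := by
  classical
  have : Fintype X := Fintype.ofFinite X
  have h1 : ∀ s : S, f s * (Nat.card (MulAction.fixedBy X s) : ℂ) =
      ∑ x : X, if s • x = x then f s else 0 := by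
    intro s
    rw [← Finset.sum_filter, Finset.sum_const, nsmul_eq_mul, mul_comm]
    congr 2
    rw [Nat.card_eq_fintype_card, Fintype.card_subtype]
    rfl
  rw [Finset.sum_congr rfl (fun s _ => h1 s), Finset.sum_comm]
  have h2 : ∀ x : X, (∑ s : S, if s • x = x then f s else 0) = ∑ s : Q, f s := by
    intro x
    obtain ⟨t, rfl⟩ := MulAction.exists_smul_eq S x₀ x
    rw [← Equiv.sum_comp (MulAut.conj t).toEquiv]
    have h3 : ∀ s : S, (if (MulAut.conj t).toEquiv s • t • x₀ = t • x₀ then
        f ((MulAut.conj t).toEquiv s) else 0) = if s • x₀ = x₀ then f s else 0 := by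
      intro s
      have e1 : (MulAut.conj t).toEquiv s = t * s * t⁻¹ := rfl
      rw [e1, hf]
      have e2 : (t * s * t⁻¹) • t • x₀ = t • s • x₀ := by
        rw [smul_smul, smul_smul, inv_mul_cancel_right, mul_smul]
      rw [e2]
      by_cases h : s • x₀ = x₀
      · rw [if_pos h, if_pos (by rw [h])]
      · rw [if_neg h, if_neg]
        intro h'
        exact h (smul_left_cancel t h')
    rw [Finset.sum_congr rfl (fun s _ => h3 s), ← Finset.sum_filter]
    apply Finset.sum_subtype
    intro s
    rw [Finset.mem_filter, ← hQ, MulAction.mem_stabilizer_iff]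
    exact ⟨fun h => h.2, fun h => ⟨Finset.mem_univ _, h⟩⟩
  rw [Finset.sum_congr rfl (fun x _ => h2 x), Finset.sum_const, nsmul_eq_mul, Finset.card_univ,
    Nat.card_eq_fintype_card]

/-- the inner product of a class function with a transitive permutation character -/
theorem inv_card_mul_sum_fixedBy {S X : Type*} [Group S] [Fintype S] [MulAction S X] [Finite X]
    [MulAction.IsPretransitive S X] (x₀ : X) (Q : Subgroup S) [Fintype Q]
    (hQ : MulAction.stabilizer S x₀ = Q) (f : S → ℂ)
    (hf : ∀ s t : S, f (t * s * t⁻¹) = f s) :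
    (Nat.card S : ℂ)⁻¹ * ∑ s : S, f s * (Nat.card (MulAction.fixedBy X s) : ℂ) =
      (Nat.card Q : ℂ)⁻¹ * ∑ s : Q, f s := by
  rw [sum_mul_card_fixedBy x₀ Q hQ f hf]
  have hcard : Nat.card Q * Nat.card X = Nat.card S := by
    rw [← MulAction.index_stabilizer_of_transitive S x₀, hQ]
    exact Subgroup.card_mul_index Q
  have hS : (Nat.card S : ℂ) ≠ 0 := by
    exact_mod_cast Nat.card_pos.ne'
  have hQ0 : (Nat.card Q : ℂ) ≠ 0 := by
    exact_mod_cast Nat.card_pos.ne'
  have hc : (Nat.card S : ℂ) = (Nat.card Q : ℂ) * (Nat.card X : ℂ) := by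
    rw [← hcard]; push_cast; ring
  have hX : (Nat.card X : ℂ) ≠ 0 := by
    intro h
    rw [h, mul_zero] at hc
    exact hS hc
  rw [hc]
  field_simp

variable {n : ℕ} {F : Type*} [Field F] [Fintype F]

/-- Frobenius reciprocity: `⟨χ_ρ, fpcSL a⟩` is the average of `χ_ρ` over `Psl a`. -/
theorem classInner_fpcSL_eq_avg [Fintype (SpecialLinearGroup (Fin n) F)] (a : Fin n → ℕ)
    [Fintype (Psl n F a)] {d : ℕ}
    (ρ : Representation ℂ (SpecialLinearGroup (Fin n) F) (Fin d → ℂ)) :
    Cfsg.classInner ρ.character (Cfsg.Agent.Lib.Helper15.UnipSL.fpcSL n F a) =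
      (Nat.card (Psl n F a) : ℂ)⁻¹ * ∑ s : Psl n F a, ρ.character (s : SpecialLinearGroup (Fin n) F) := by
  classical
  let X := GL (Fin n) F ⧸ Cfsg.parabolicGL n F a
  let act : MulAction (SpecialLinearGroup (Fin n) F) X :=
    MulAction.compHom X (SpecialLinearGroup.toGL : SpecialLinearGroup (Fin n) F →* GL (Fin n) F)
  have hsmul : ∀ (s : SpecialLinearGroup (Fin n) F) (x : X),
      s • x = (SpecialLinearGroup.toGL s : GL (Fin n) F) • x := fun _ _ => rfl
  have : Finite X := inferInstance
  have : MulAction.IsPretransitive (SpecialLinearGroup (Fin n) F) X := by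
    refine ⟨fun x y => ?_⟩
    obtain ⟨g, hg⟩ := MulAction.exists_smul_eq (GL (Fin n) F) x y
    obtain ⟨s, hs⟩ := Cfsg.Agent.Lib.Helper15.UnipSL.toGL_hstab a a (x, x) g
    refine ⟨s, ?_⟩
    rw [hsmul, ← hg]
    exact congrArg Prod.fst hs
  let x₀ : X := ((1 : GL (Fin n) F) : GL (Fin n) F ⧸ Cfsg.parabolicGL n F a)
  have hstab : MulAction.stabilizer (SpecialLinearGroup (Fin n) F) x₀ = Psl n F a := by
    ext s
    rw [MulAction.mem_stabilizer_iff, hsmul]
    change ((SpecialLinearGroup.toGL s * 1 : GL (Fin n) F) : GL (Fin n) F ⧸ Cfsg.parabolicGL n F a) =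
      ((1 : GL (Fin n) F) : GL (Fin n) F ⧸ Cfsg.parabolicGL n F a) ↔ _
    rw [mul_one, eq_comm, QuotientGroup.eq, inv_one, one_mul]
    rfl
  have key := inv_card_mul_sum_fixedBy (S := SpecialLinearGroup (Fin n) F) (X := X) x₀
    (Psl n F a) hstab ρ.character (fun s t => Representation.char_conj ρ s t)
  rw [← key]
  unfold Cfsg.classInner
  congr 1
  apply Finset.sum_congr rfl
  intro s _
  unfold Cfsg.Agent.Lib.Helper15.UnipSL.fpcSL Cfsg.fixedPointCharacter
  rw [Complex.conj_natCast]
  rfl

/-- the average of the character over a subgroup is the dimension of the fixed space -/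
theorem avg_char_eq_finrank {S : Type*} [Group S] [Finite S] (Q : Subgroup S) {d : ℕ}
    (ρ : Representation ℂ S (Fin d → ℂ)) [Fintype Q] :
    (Nat.card Q : ℂ)⁻¹ * ∑ s : Q, ρ.character (s : S) =
      (Module.finrank ℂ (Representation.invariants (ρ.comp Q.subtype)) : ℂ) := by
  have hQ : (Nat.card Q : ℂ) ≠ 0 := by
    exact_mod_cast Nat.card_pos.ne'
  let _ : Invertible (Nat.card Q : ℂ) := invertibleOfNonzero hQ
  have h := Representation.card_inv_mul_sum_char_eq_finrank (ρ.comp Q.subtype)
  rw [← h]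
  rfl

end Helper27

open Cfsg.Agent.Lib.Helper24.SLB.Helper27

variable {n : ℕ} {F : Type*} [Field F] [Fintype F]

section J
variable [Fintype (SpecialLinearGroup (Fin n) F)]

/-- **[J1]** Frobenius reciprocity for the flag permutation characters: no fixed vectors -/
theorem classInner_fpcSL_eq_zero (a : Fin n → ℕ) {d : ℕ}
    (ρ : Representation ℂ (SpecialLinearGroup (Fin n) F) (Fin d → ℂ))
    (h0 : ∀ v : Fin d → ℂ, (∀ g ∈ Psl n F a, ρ g v = v) → v = 0) :
    Cfsg.classInner ρ.character (Cfsg.Agent.Lib.Helper15.UnipSL.fpcSL n F a) = 0 := by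
  classical
  let _ : Fintype (Psl n F a) := Fintype.ofFinite _
  rw [classInner_fpcSL_eq_avg, avg_char_eq_finrank]
  have hbot : Representation.invariants (ρ.comp (Psl n F a).subtype) = ⊥ := by
    rw [eq_bot_iff]
    intro v hv
    rw [Representation.mem_invariants] at hv
    rw [Submodule.mem_bot]
    apply h0
    intro g hg
    exact hv ⟨g, hg⟩
  rw [hbot, finrank_bot, Nat.cast_zero]

/-- **[J2]** Frobenius reciprocity for the flag permutation characters: a line of fixed vectors -/
theorem classInner_fpcSL_eq_one (a : Fin n → ℕ) {d : ℕ}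
    (ρ : Representation ℂ (SpecialLinearGroup (Fin n) F) (Fin d → ℂ))
    (y : Fin d → ℂ) (hy0 : y ≠ 0) (hy : ∀ g ∈ Psl n F a, ρ g y = y)
    (hline : ∀ v : Fin d → ℂ, (∀ g ∈ Psl n F a, ρ g v = v) → ∃ c : ℂ, v = c • y) :
    Cfsg.classInner ρ.character (Cfsg.Agent.Lib.Helper15.UnipSL.fpcSL n F a) = 1 := by
  classical
  let _ : Fintype (Psl n F a) := Fintype.ofFinite _
  rw [classInner_fpcSL_eq_avg, avg_char_eq_finrank]
  have hspan : Representation.invariants (ρ.comp (Psl n F a).subtype) = Submodule.span ℂ {y} := by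
    apply le_antisymm
    · intro v hv
      rw [Representation.mem_invariants] at hv
      obtain ⟨c, rfl⟩ := hline v (fun g hg => hv ⟨g, hg⟩)
      exact Submodule.smul_mem _ _ (Submodule.mem_span_singleton_self y)
    · rw [Submodule.span_singleton_le_iff_mem, Representation.mem_invariants]
      intro g
      exact hy g g.2
  rw [hspan, finrank_span_singleton hy0, Nat.cast_one]

end J

end Cfsg.Agent.Lib.Helper24.SLB
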