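import Mathlib
import Cfsg.Agent.Lib.Helper24.SLB.Defs
import Cfsg.Agent.Lib.Helper15.Parabolic
import Cfsg.Agent.Lib.Helper15.FlagPairs

set_option autoImplicit false

/-! S4538 farm (helper24), piece **[K]** (helper27): `Psl_ones` and `exists_ns_mem_Psl`
(block-label combinatorics of the standard parabolic subgroups of `SL_n`). -/

namespace Cfsg.Agent.Lib.Helper24.SLB

open Matrix

namespace Helper27

open Cfsg.Agent.Lib.Helper15

variable {n : ℕ}

theorem partSum_ones {a : ℕ} (ha : a ≤ n) : partSum (fun _ : Fin n => 1) a = a := by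
  unfold partSum
  rw [Finset.sum_const, smul_eq_mul, mul_one, Fin.card_filter_val_lt]
  exact min_eq_right ha

theorem compLabel_ones (i : Fin n) : Cfsg.compLabel (fun _ : Fin n => 1) i = i.val := by
  apply compLabel_eq_of_mem
  · rw [partSum_ones i.2.le]
  · rw [partSum_ones (Nat.succ_le_of_lt i.2)]
    exact Nat.lt_succ_self _

/-- a composition of `n` with `n` parts different from `(1, …, 1)` has a part `≥ 2` -/
theorem exists_two_le (a : Fin n → ℕ) (hsum : ∑ i, a i = n) (ha : a ≠ fun _ => 1) :
    ∃ j : Fin n, 2 ≤ a j := by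
  by_contra hcon
  push Not at hcon
  have hle : ∀ j, a j ≤ 1 := fun j => Nat.lt_succ_iff.mp (hcon j)
  apply ha
  have hsum1 : ∑ i : Fin n, (1 : ℕ) = n := by simp
  have heq : ∀ i ∈ (Finset.univ : Finset (Fin n)), a i = 1 := by
    apply (Finset.sum_eq_sum_iff_of_le (fun i _ => hle i)).mp
    rw [hsum, hsum1]
  funext j
  exact heq j (Finset.mem_univ j)

end Helper27

open Cfsg.Agent.Lib.Helper24.SLB.Helper27 Cfsg.Agent.Lib.Helper15

variable {n : ℕ} {F : Type*} [Field F]

/-- **[K1]** the parabolic subgroup of the composition `(1, …, 1)` is the Borel subgroup -/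
theorem Psl_ones : Psl n F (fun _ => 1) = Bsl n F := by
  ext g
  rw [mem_Psl, mem_Bsl]
  have h : Cfsg.compLabel (fun _ : Fin n => 1) = fun i : Fin n => i.val := funext compLabel_ones
  rw [h]
  constructor
  · intro hg i j hij
    exact hg (show (j : ℕ) < (i : ℕ) from hij)
  · intro hg i j hij
    exact hg (show id j < id i from hij)

/-- **[K2]** every other standard parabolic subgroup contains a simple reflection -/
theorem exists_ns_mem_Psl (a : Fin n → ℕ) (hsum : ∑ i, a i = n) (ha : a ≠ fun _ => 1) :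
    Bsl n F ≤ Psl n F a ∧ ∃ (k : ℕ) (hk : k + 1 < n), ns k hk ∈ Psl n F a := by
  have hB : Bsl n F ≤ Psl n F a := by
    intro g hg
    exact Bru.upper_le_parabolic (F := F) a hg
  refine ⟨hB, ?_⟩
  obtain ⟨j, hj⟩ := exists_two_le a hsum ha
  -- the block `j` occupies the positions `partSum a j ≤ i < partSum a (j+1)`
  have hsucc := partSum_succ a j
  have htop : partSum a (j.val + 1) ≤ n := by
    have := partSum_mono a (show j.val + 1 ≤ n from j.2)
    rwa [partSum_top, hsum] at this
  set k := partSum a j.val with hkdef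
  have hk : k + 1 < n := by omega
  have hlab0 : Cfsg.compLabel a (fi k hk) = j.val :=
    compLabel_eq_of_mem a (fi k hk) j (le_refl _) (by show k < _; omega)
  have hlab1 : Cfsg.compLabel a (fs k hk) = j.val :=
    compLabel_eq_of_mem a (fs k hk) j (by show k ≤ k + 1; omega) (by show k + 1 < _; omega)
  refine ⟨k, hk, ?_⟩
  have hxs : ∀ c : F, xs k hk c ∈ Psl n F a := by
    intro c
    apply hB
    rw [mem_Bsl_iff]
    intro i i' hlt
    rw [xs_coe, Matrix.add_apply, Matrix.one_apply_ne (ne_of_gt hlt), zero_add,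
      Matrix.single_apply, if_neg]
    rintro ⟨rfl, rfl⟩
    exact absurd hlt (by simp [Fin.lt_def])
  have hxm : ∀ c : F, xm k hk c ∈ Psl n F a := by
    intro c
    rw [mem_Psl]
    intro i i' hlt
    have hne : i ≠ i' := by
      rintro rfl
      exact lt_irrefl _ hlt
    rw [xm_coe, Matrix.add_apply, Matrix.one_apply_ne hne, zero_add, Matrix.single_apply, if_neg]
    rintro ⟨rfl, rfl⟩
    rw [hlab0, hlab1] at hlt
    exact lt_irrefl _ hlt
  unfold ns
  exact (Psl n F a).mul_mem ((Psl n F a).mul_mem (hxs 1) (hxm (-1))) (hxs 1)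

end Cfsg.Agent.Lib.Helper24.SLB
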