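import Mathlib
import Cfsg.Prelude.Def_FischerSpaces
import Cfsg.Agent.Lib.Helper27.ThreeTransp
import Cfsg.Agent.Lib.Helper27.ZStarW1

/-!
# Helper27: 3-transposition sets of width one (conditional on the `Z*`-theorem)
-/

set_option autoImplicit false

namespace Cfsg.Agent.Lib.Helper27.W1

open Cfsg Cfsg.Agent.Lib.Helper27.TT
open scoped Pointwise

universe u

section Elementary

variable {G : Type*} [Group G] [Finite G] {D : Set G}

theorem width_eq_one_iff {d : G} (hd : d ∈ D) :
    Cfsg.commutingWidth D = 1 ↔ ∀ a ∈ D, ∀ b ∈ D, Commute a b → a = b := by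
  unfold Cfsg.commutingWidth
  have hbdd : BddAbove {n : ℕ | ∃ E : Set G, E ⊆ D ∧ E.Finite ∧
      (∀ a ∈ E, ∀ b ∈ E, Commute a b) ∧ E.ncard = n} := by
    refine ⟨Nat.card G, ?_⟩
    rintro n ⟨E, -, -, -, rfl⟩
    exact Set.ncard_le_card E
  constructor
  · intro h a ha b hb hab
    by_contra hne
    have h2 : 2 ∈ {n : ℕ | ∃ E : Set G, E ⊆ D ∧ E.Finite ∧
        (∀ a ∈ E, ∀ b ∈ E, Commute a b) ∧ E.ncard = n} := by
      refine ⟨{a, b}, ?_, Set.toFinite _, ?_, Set.ncard_pair hne⟩
      · intro x hx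
        rcases hx with h1 | h1
        · rw [h1]; exact ha
        · rw [Set.mem_singleton_iff] at h1; rw [h1]; exact hb
      · intro x hx y hy
        rcases hx with h1 | h1 <;> rcases hy with h2 | h2
        · rw [h1, h2]
        · rw [Set.mem_singleton_iff] at h2; rw [h1, h2]; exact hab
        · rw [Set.mem_singleton_iff] at h1; rw [h1, h2]; exact hab.symm
        · rw [Set.mem_singleton_iff] at h1 h2; rw [h1, h2]
    have h3 := le_csSup hbdd h2
    rw [h] at h3
    omega
  · intro h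
    apply IsGreatest.csSup_eq
    constructor
    · refine ⟨{d}, ?_, Set.toFinite _, ?_, Set.ncard_singleton d⟩
      · intro x hx; rw [Set.mem_singleton_iff] at hx; rw [hx]; exact hd
      · intro x hx y hy
        rw [Set.mem_singleton_iff] at hx hy; rw [hx, hy]
    · rintro n ⟨E, hED, -, hEc, rfl⟩
      have hsub : E.Subsingleton := by
        intro a ha b hb
        exact h a (hED ha) b (hED hb) (hEc a ha b hb)
      exact Set.ncard_le_one_iff_subsingleton.mpr hsub

end Elementary

variable {G : Type u} [Group G] [Finite G] {D : Set G}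

/-- In a conjugation-invariant set of 3-transpositions of width one, all products of two members
lie in `O₃(G)`. -/
theorem mul_mem_pCore_of_width_one (hZ : ZStarHyp.{u}) (hD : IsThreeTranspositionSet D)
    (hc : ∀ g : G, ∀ d ∈ D, g * d * g⁻¹ ∈ D)
    (hw : ∀ a ∈ D, ∀ b ∈ D, Commute a b → a = b) {x y : G} (hx : x ∈ D) (hy : y ∈ D) :
    x * y ∈ Cfsg.pCore 3 G := by
  have h3 : ∀ a ∈ D, ∀ b ∈ D, (a * b) ^ 3 = 1 := by
    intro a ha b hb
    by_cases hab : Commute a b
    · rw [hw a ha b hb hab, mul_self_of_mem hD hb, one_pow]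
    · exact pow_three_of_not_commute hD ha hb hab
  obtain ⟨T, hT, hTd⟩ := w1_core hZ (fun a ha => mul_self_of_mem hD ha)
    (fun a ha => ne_one_of_mem hD ha) h3 hc hx
  let K : Set G := {k | ∃ a ∈ D, ∃ b ∈ D, k = a * b}
  have hK : ∀ g : G, ∀ k ∈ K, g * k * g⁻¹ ∈ K := by
    rintro g k ⟨a, ha, b, hb, rfl⟩
    exact ⟨g * a * g⁻¹, hc g a ha, g * b * g⁻¹, hc g b hb, by group⟩
  have hn := Cfsg.Agent.Lib.Helper21.closure_normal_of_conj_invariant K hK
  have hle : Subgroup.closure K ≤ T := by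
    rw [Subgroup.closure_le]
    rintro k ⟨a, ha, b, hb, rfl⟩
    have ia : a⁻¹ = a := inv_of_mem hD ha
    have ix : x⁻¹ = x := inv_of_mem hD hx
    have h1 := Subgroup.mul_mem _ (Subgroup.inv_mem _ (hTd a ha)) (hTd b hb)
    have h2 : (x * a)⁻¹ * (x * b) = a * b := by
      rw [mul_inv_rev, ia, ix]
      simp only [mul_assoc]
      rw [← mul_assoc x x b, mul_self_of_mem hD hx, one_mul]
    rw [h2] at h1
    exact h1
  exact Cfsg.Agent.Lib.Helper16.le_pCore _ hn (hT.to_le hle)
    (Subgroup.subset_closure ⟨x, hx, y, hy, rfl⟩)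

/-- S5346, modulo the `Z*`-theorem. -/
theorem width_one_iff (hZ : ZStarHyp.{u}) (hD : Cfsg.IsThreeTranspositionGroup D) {d : G}
    (hd : d ∈ D) :
    Cfsg.commutingWidth D = 1 ↔ Subgroup.zpowers d ⊔ Cfsg.pCore 3 G = ⊤ := by
  obtain ⟨hD3, hc, hgen⟩ := hD
  have : Fact (Nat.Prime 3) := ⟨Nat.prime_three⟩
  have hQn : (Cfsg.pCore 3 G).Normal := Cfsg.Agent.Lib.Helper16.pCore_normal
  have hQp : IsPGroup 3 (Cfsg.pCore 3 G) := Cfsg.Agent.Lib.Helper16.pCore_isPGroup
  rw [width_eq_one_iff hd]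
  constructor
  · intro hw
    rw [eq_top_iff, ← hgen, Subgroup.closure_le]
    intro e he
    have h1 := mul_mem_pCore_of_width_one hZ hD3 hc hw hd he
    have h2 : e = d * (d * e) := by
      rw [← mul_assoc, mul_self_of_mem hD3 hd, one_mul]
    rw [SetLike.mem_coe, h2]
    exact Subgroup.mul_mem _ (Subgroup.mem_sup_left (Subgroup.mem_zpowers d))
      (Subgroup.mem_sup_right h1)
  · intro htop a ha b hb hab
    by_contra hne
    -- every member of `D` lies in `d * O₃(G)`
    have hcoset : ∀ e ∈ D, d⁻¹ * e ∈ Cfsg.pCore 3 G := by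
      intro e he
      have hmem : e ∈ Subgroup.zpowers d ⊔ Cfsg.pCore 3 G := by rw [htop]; exact Subgroup.mem_top e
      have hmul : (↑(Subgroup.zpowers d ⊔ Cfsg.pCore 3 G) : Set G) =
          (Subgroup.zpowers d : Set G) * (Cfsg.pCore 3 G : Set G) := Subgroup.mul_normal _ _
      have hmem' : e ∈ (Subgroup.zpowers d : Set G) * (Cfsg.pCore 3 G : Set G) := by
        rw [← hmul]; exact hmem
      obtain ⟨z, hz, t, ht, hzt⟩ := Set.mem_mul.mp hmem'
      obtain ⟨m, rfl⟩ := Subgroup.mem_zpowers_iff.mp hz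
      -- `d ^ m` is `1` or `d`
      have hd2 : d ^ (2 : ℤ) = 1 := by
        rw [zpow_ofNat, pow_two]; exact mul_self_of_mem hD3 hd
      rcases Int.emod_two_eq_zero_or_one m with hm | hm
      · -- `e ∈ O₃(G)`, impossible
        exfalso
        have hm' : d ^ m = 1 := by
          rw [← Int.mul_ediv_add_emod m 2, hm, add_zero, zpow_mul, hd2, one_zpow]
        rw [hm', one_mul] at hzt
        have heQ : e ∈ Cfsg.pCore 3 G := by rw [← hzt]; exact ht
        obtain ⟨k, hk⟩ := hQp ⟨e, heQ⟩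
        have hk' : e ^ (3 ^ k) = 1 := by
          have := congrArg Subtype.val hk
          simpa using this
        have ho1 := orderOf_dvd_of_pow_eq_one hk'
        rw [hD3.1 e he] at ho1
        have := (Nat.Prime.dvd_of_dvd_pow Nat.prime_two ho1)
        omega
      · have hm' : d ^ m = d := by
          rw [← Int.mul_ediv_add_emod m 2, hm, zpow_add, zpow_mul, hd2, one_zpow, one_mul, zpow_one]
        rw [hm'] at hzt
        rw [← hzt, inv_mul_cancel_left]
        exact ht
    have h1 := hcoset a ha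
    have h2 := hcoset b hb
    have h3 : a⁻¹ * b ∈ Cfsg.pCore 3 G := by
      have := Subgroup.mul_mem _ (Subgroup.inv_mem _ h1) h2
      have e : (d⁻¹ * a)⁻¹ * (d⁻¹ * b) = a⁻¹ * b := by group
      rw [e] at this; exact this
    rw [inv_of_mem hD3 ha] at h3
    -- `a * b` is an involution in a 3-group
    have hsq : (a * b) * (a * b) = 1 :=
      mul_mul_self_of_commute hab (mul_self_of_mem hD3 ha) (mul_self_of_mem hD3 hb)
    obtain ⟨k, hk⟩ := hQp ⟨a * b, h3⟩
    have hk' : (a * b) ^ (3 ^ k) = 1 := by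
      have := congrArg Subtype.val hk
      simpa using this
    have ho1 := orderOf_dvd_of_pow_eq_one hk'
    have ho2 : orderOf (a * b) ∣ 2 := orderOf_dvd_of_pow_eq_one (by rw [pow_two]; exact hsq)
    have hcop : Nat.Coprime (3 ^ k) 2 := Nat.Coprime.pow_left k (by norm_num)
    have ho : orderOf (a * b) = 1 := Nat.eq_one_of_dvd_coprimes hcop ho1 ho2
    have hab1 : a * b = 1 := orderOf_eq_one_iff.mp ho
    have := eq_inv_of_mul_eq_one_left hab1
    rw [inv_of_mem hD3 hb] at this
    exact hne this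

end Cfsg.Agent.Lib.Helper27.W1
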