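import Cfsg.Agent.Lib.Helper27.S2244FO1a

/-!
# S2244 FO-1 (for helper26): the witness table of type `E₈` (7140 pairs).
-/

set_option autoImplicit false

namespace Cfsg.Agent.Lib.Helper27.S2244FO1

open Cfsg Cfsg.Lie Matrix Cfsg.Agent.Lib.Helper8.Chev

/-- the witness table of type `E8` -/
def sepW_E8 : List (List ℕ) :=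
  [[2, 2, 2, 3, 3, 3, 2, 4, 4, 4, 3, 2, 5, 5, 5, 4, 3, 2, 6, 6, 5, 4, 3, 2, 6, 6, 4, 3, 2, 5, 5, 3, 2, 4, 4, 2, 3, 3, 2, 2, 14, 6, 5, 4, 3, 2, 7, 7, 4, 3, 2, 5, 5, 3, 2, 4, 4, 2, 3, 3, 2, 2, 6, 3, 2, 4, 4, 2, 3, 3, 2, 2, 5, 2, 3, 3, 2, 2, 4, 2, 2, 3, 2, 2, 3, 3, 2, 2, 4, 2, 2, 3, 2, 2, 2, 3, 2, 2, 2, 2, 3, 2, 2, 2, 2, 2, 2, 3, 2, 2, 2, 2, 2, 2, 2, 2, 3, 2, 2], [0, 3, 3, 0, 3, 4, 4, 0, 4, 3, 5, 5, 0, 5, 4, 3, 6, 6, 0, 5, 4, 3, 6, 6, 0, 4, 3, 5, 5, 0, 3, 4, 4, 0, 3, 3, 0, 14, 0, 0, 6, 5, 4, 3, 7, 7, 0, 4, 3, 5, 5, 0, 3, 4, 4, 0, 3, 3, 0, 6, 0, 0, 3, 4, 4, 0, 3, 3, 0, 5, 0, 0, 3, 3, 0, 4, 0, 0, 3, 0, 0, 0, 3,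 3, 0, 4, 0, 0, 3, 0, 0, 0, 3, 0, 0, 0, 0, 3, 0, 0, 0, 0, 0, 0, 3, 0, 0, 0, 0, 0, 0, 0, 0, 0, 0, 0, 0, 3], [3, 1, 3, 3, 4, 1, 4, 4, 3, 5, 1, 5, 5, 4, 3, 6, 1, 6, 5, 4, 3, 6, 1, 6, 4, 3, 5, 1, 5, 3, 4, 1, 4, 3, 1, 3, 1, 14, 1, 6, 5, 4, 3, 7, 1, 7, 4, 3, 5, 1, 5, 3, 4, 1, 4, 3, 1, 3, 1, 6, 1, 3, 4, 1, 4, 3, 1, 3, 1, 5, 1, 3, 1, 3, 1, 4, 1, 1, 3, 1, 1, 3, 1, 3, 1, 4, 1, 1, 3, 1, 1, 1, 3, 1, 1, 1, 1, 3, 1, 1, 1, 1, 1, 1, 3, 1, 1, 1, 1, 1, 1, 1, 1, 1, 1, 3, 1], [1, 0, 4, 4, 1, 0, 4, 5, 5, 1, 0, 5, 4, 6, 6, 1, 0, 5, 4, 6, 6, 1, 0, 4, 5, 5, 1, 0, 4, 4, 1, 0, 14, 1, 0, 1, 0, 0, 6, 5, 4, 7, 7, 1, 0, 4, 5, 5, 1, 0, 4,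 4, 1, 0, 6, 1, 0, 1, 0, 0, 4, 4, 1, 0, 5, 1, 0, 1, 0, 0, 4, 1, 0, 1, 0, 0, 1, 0, 0, 0, 4, 1, 0, 1, 0, 0, 1, 0, 0, 0, 1, 0, 0, 0, 0, 1, 0, 0, 0, 0, 0, 0, 1, 0, 0, 0, 0, 0, 0, 0, 0, 0, 0, 0, 0, 1], [0, 4, 2, 4, 0, 4, 5, 2, 5, 0, 5, 4, 6, 2, 6, 0, 5, 4, 6, 2, 6, 0, 4, 5, 2, 5, 0, 4, 2, 4, 0, 2, 14, 0, 2, 0, 0, 6, 5, 4, 7, 2, 7, 0, 4, 5, 2, 5, 0, 4, 2, 4, 0, 2, 6, 0, 2, 0, 0, 4, 2, 4, 0, 2, 5, 0, 2, 0, 0, 2, 4, 0, 2, 0, 0, 2, 0, 0, 0, 2, 4, 0, 2, 0, 0, 2, 0, 0, 0, 2, 0, 0, 0, 0, 2, 0, 0, 0, 0, 0, 0, 2, 0, 0, 0, 0, 0, 0, 0, 0, 0, 0, 0, 0, 2], [4, 2, 1, 4, 4, 5, 2, 1, 5, 5, 4, 6, 2, 1, 6, 5, 4, 6, 2, 1, 6, 4, 5,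 2, 1, 5, 4, 2, 1, 4, 2, 1, 14, 1, 2, 1, 6, 5, 4, 7, 2, 1, 7, 4, 5, 2, 1, 5, 4, 2, 1, 4, 2, 1, 6, 1, 2, 1, 4, 2, 1, 4, 2, 1, 5, 1, 2, 1, 2, 1, 4, 1, 2, 1, 1, 2, 1, 1, 2, 1, 4, 1, 2, 1, 1, 2, 1, 1, 1, 2, 1, 1, 1, 1, 2, 1, 1, 1, 1, 1, 1, 2, 1, 1, 1, 1, 1, 1, 1, 1, 1, 1, 2, 1], [2, 1, 0, 5, 5, 2, 1, 0, 5, 6, 6, 2, 1, 0, 5, 6, 6, 2, 1, 0, 5, 5, 2, 1, 0, 14, 2, 1, 0, 2, 1, 0, 1, 0, 0, 6, 5, 7, 7, 2, 1, 0, 5, 5, 2, 1, 0, 6, 2, 1, 0, 2, 1, 0, 1, 0, 0, 5, 2, 1, 0, 2, 1, 0, 1, 0, 0, 2, 1, 0, 1, 0, 0, 1, 0, 0, 0, 2, 1, 0, 1, 0, 0, 1, 0, 0, 0, 1, 0, 0, 0, 0, 1, 0, 0, 0, 0, 0, 0, 1, 0, 0, 0, 0, 0, 0, 0, 0, 0, 0, 0, 0,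 1], [1, 0, 5, 3, 5, 1, 0, 5, 6, 3, 6, 1, 0, 5, 6, 3, 6, 1, 0, 5, 3, 5, 1, 0, 3, 14, 1, 0, 3, 1, 0, 1, 0, 0, 6, 5, 7, 3, 7, 1, 0, 5, 3, 5, 1, 0, 3, 6, 1, 0, 3, 1, 0, 1, 0, 0, 3, 5, 1, 0, 3, 1, 0, 1, 0, 0, 3, 1, 0, 1, 0, 0, 1, 0, 0, 0, 3, 1, 0, 1, 0, 0, 1, 0, 0, 0, 1, 0, 0, 0, 0, 1, 0, 0, 0, 0, 0, 0, 1, 0, 0, 0, 0, 0, 0, 0, 0, 0, 0, 0, 0, 1], [0, 5, 3, 2, 5, 0, 5, 6, 3, 2, 6, 0, 5, 6, 3, 2, 6, 0, 5, 3, 2, 5, 0, 3, 2, 14, 0, 2, 3, 0, 2, 0, 0, 6, 5, 7, 3, 2, 7, 0, 5, 3, 2, 5, 0, 3, 2, 6, 0, 2, 3, 0, 2, 0, 0, 3, 2, 5, 0, 2, 3, 0, 2, 0, 0, 2, 3, 0, 2, 0, 0, 2, 0, 0, 0, 2, 3, 0, 2, 0, 0, 2, 0, 0, 0, 2, 0, 0, 0, 0,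 2, 0, 0, 0, 0, 0, 0, 2, 0, 0, 0, 0, 0, 0, 0, 0, 0, 0, 0, 0, 2], [5, 3, 2, 1, 5, 5, 6, 3, 2, 1, 6, 5, 6, 3, 2, 1, 6, 5, 3, 2, 1, 5, 3, 2, 1, 14, 2, 1, 3, 1, 2, 1, 6, 5, 7, 3, 2, 1, 7, 5, 3, 2, 1, 5, 3, 2, 1, 6, 2, 1, 3, 1, 2, 1, 3, 2, 1, 5, 2, 1, 3, 1, 2, 1, 2, 1, 3, 1, 2, 1, 1, 2, 1, 1, 2, 1, 3, 1, 2, 1, 1, 2, 1, 1, 1, 2, 1, 1, 1, 1, 2, 1, 1, 1, 1, 1, 1, 2, 1, 1, 1, 1, 1, 1, 1, 1, 1, 1, 2, 1], [3, 2, 1, 0, 6, 6, 3, 2, 1, 0, 6, 6, 3, 2, 1, 0, 14, 3, 2, 1, 0, 3, 2, 1, 0, 2, 1, 0, 1, 0, 0, 6, 7, 7, 3, 2, 1, 0, 6, 3, 2, 1, 0, 3, 2, 1, 0, 2, 1, 0, 1, 0, 0, 3, 2, 1, 0, 2, 1, 0, 1, 0, 0, 2, 1, 0, 1, 0, 0, 1, 0, 0,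 0, 2, 1, 0, 1, 0, 0, 1, 0, 0, 0, 1, 0, 0, 0, 0, 1, 0, 0, 0, 0, 0, 0, 1, 0, 0, 0, 0, 0, 0, 0, 0, 0, 0, 0, 0, 1], [2, 1, 0, 6, 4, 6, 2, 1, 0, 6, 4, 6, 2, 1, 0, 4, 14, 2, 1, 0, 4, 2, 1, 0, 2, 1, 0, 1, 0, 0, 6, 7, 4, 7, 2, 1, 0, 4, 6, 2, 1, 0, 4, 2, 1, 0, 2, 1, 0, 1, 0, 0, 4, 2, 1, 0, 2, 1, 0, 1, 0, 0, 2, 1, 0, 1, 0, 0, 1, 0, 0, 0, 2, 1, 0, 1, 0, 0, 1, 0, 0, 0, 1, 0, 0, 0, 0, 1, 0, 0, 0, 0, 0, 0, 1, 0, 0, 0, 0, 0, 0, 0, 0, 0, 0, 0, 0, 1], [1, 0, 6, 4, 3, 6, 1, 0, 6, 4, 3, 6, 1, 0, 4, 3, 14, 1, 0, 3, 4, 1, 0, 3, 1, 0, 1, 0, 0, 6, 7, 4, 3, 7, 1, 0, 4, 3, 6, 1, 0, 3, 4, 1, 0, 3, 1, 0, 1, 0, 0, 3, 4, 1, 0, 3, 1, 0,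 1, 0, 0, 3, 1, 0, 1, 0, 0, 1, 0, 0, 0, 3, 1, 0, 1, 0, 0, 1, 0, 0, 0, 1, 0, 0, 0, 0, 1, 0, 0, 0, 0, 0, 0, 1, 0, 0, 0, 0, 0, 0, 0, 0, 0, 0, 0, 0, 1], [0, 6, 4, 3, 2, 6, 0, 6, 4, 3, 2, 6, 0, 4, 3, 2, 14, 0, 3, 2, 4, 0, 2, 3, 0, 2, 0, 0, 6, 7, 4, 3, 2, 7, 0, 4, 3, 2, 6, 0, 3, 2, 4, 0, 2, 3, 0, 2, 0, 0, 3, 2, 4, 0, 2, 3, 0, 2, 0, 0, 2, 3, 0, 2, 0, 0, 2, 0, 0, 0, 2, 3, 0, 2, 0, 0, 2, 0, 0, 0, 2, 0, 0, 0, 0, 2, 0, 0, 0, 0, 0, 0, 2, 0, 0, 0, 0, 0, 0, 0, 0, 0, 0, 0, 0, 2], [6, 4, 3, 2, 1, 6, 6, 4, 3, 2, 1, 6, 4, 3, 2, 1, 14, 3, 2, 1, 4, 2, 1, 3, 1, 2, 1, 6, 7, 4, 3, 2, 1, 7, 4, 3, 2, 1, 6, 3, 2, 1, 4, 2, 1, 3, 1, 2,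 1, 3, 2, 1, 4, 2, 1, 3, 1, 2, 1, 2, 1, 3, 1, 2, 1, 1, 2, 1, 1, 2, 1, 3, 1, 2, 1, 1, 2, 1, 1, 1, 2, 1, 1, 1, 1, 2, 1, 1, 1, 1, 1, 1, 2, 1, 1, 1, 1, 1, 1, 1, 1, 1, 1, 2, 1], [4, 3, 2, 1, 0, 14, 4, 3, 2, 1, 0, 4, 3, 2, 1, 0, 3, 2, 1, 0, 2, 1, 0, 1, 0, 0, 9, 9, 4, 3, 2, 1, 0, 4, 3, 2, 1, 0, 3, 2, 1, 0, 2, 1, 0, 1, 0, 0, 3, 2, 1, 0, 2, 1, 0, 1, 0, 0, 2, 1, 0, 1, 0, 0, 1, 0, 0, 0, 2, 1, 0, 1, 0, 0, 1, 0, 0, 0, 1, 0, 0, 0, 0, 1, 0, 0, 0, 0, 0, 0, 1, 0, 0, 0, 0, 0, 0, 0, 0, 0, 0, 0, 0, 1], [3, 2, 1, 0, 5, 14, 3, 2, 1, 0, 5, 3, 2, 1, 0, 3, 2, 1, 0, 2, 1, 0, 1, 0, 0, 8, 5, 8, 3, 2, 1, 0, 5, 3, 2, 1, 0, 3, 2, 1, 0, 2,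 1, 0, 1, 0, 0, 3, 2, 1, 0, 2, 1, 0, 1, 0, 0, 2, 1, 0, 1, 0, 0, 1, 0, 0, 0, 2, 1, 0, 1, 0, 0, 1, 0, 0, 0, 1, 0, 0, 0, 0, 1, 0, 0, 0, 0, 0, 0, 1, 0, 0, 0, 0, 0, 0, 0, 0, 0, 0, 0, 0, 1], [2, 1, 0, 5, 4, 14, 2, 1, 0, 4, 5, 2, 1, 0, 4, 2, 1, 0, 2, 1, 0, 1, 0, 0, 8, 5, 4, 8, 2, 1, 0, 4, 5, 2, 1, 0, 4, 2, 1, 0, 2, 1, 0, 1, 0, 0, 4, 2, 1, 0, 2, 1, 0, 1, 0, 0, 2, 1, 0, 1, 0, 0, 1, 0, 0, 0, 2, 1, 0, 1, 0, 0, 1, 0, 0, 0, 1, 0, 0, 0, 0, 1, 0, 0, 0, 0, 0, 0, 1, 0, 0, 0, 0, 0, 0, 0, 0, 0, 0, 0, 0, 1], [1, 0, 5, 4, 3, 14, 1, 0, 4, 3, 5, 1, 0, 3, 4, 1, 0, 3, 1, 0, 1, 0, 0, 8, 5, 4, 3, 8, 1, 0, 4, 3, 5, 1, 0, 3, 4, 1, 0, 3,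 1, 0, 1, 0, 0, 3, 4, 1, 0, 3, 1, 0, 1, 0, 0, 3, 1, 0, 1, 0, 0, 1, 0, 0, 0, 3, 1, 0, 1, 0, 0, 1, 0, 0, 0, 1, 0, 0, 0, 0, 1, 0, 0, 0, 0, 0, 0, 1, 0, 0, 0, 0, 0, 0, 0, 0, 0, 0, 0, 0, 1], [0, 5, 4, 3, 2, 14, 0, 4, 3, 2, 5, 0, 3, 2, 4, 0, 2, 3, 0, 2, 0, 0, 8, 5, 4, 3, 2, 8, 0, 4, 3, 2, 5, 0, 3, 2, 4, 0, 2, 3, 0, 2, 0, 0, 3, 2, 4, 0, 2, 3, 0, 2, 0, 0, 2, 3, 0, 2, 0, 0, 2, 0, 0, 0, 2, 3, 0, 2, 0, 0, 2, 0, 0, 0, 2, 0, 0, 0, 0, 2, 0, 0, 0, 0, 0, 0, 2, 0, 0, 0, 0, 0, 0, 0, 0, 0, 0, 0, 0, 2], [5, 4, 3, 2, 1, 14, 4, 3, 2, 1, 5, 3, 2, 1, 4, 2, 1, 3, 1, 2, 1, 8, 5, 4, 3, 2, 1, 8, 4, 3, 2, 1, 5, 3, 2, 1, 4, 2, 1, 3, 1, 2,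 1, 3, 2, 1, 4, 2, 1, 3, 1, 2, 1, 2, 1, 3, 1, 2, 1, 1, 2, 1, 1, 2, 1, 3, 1, 2, 1, 1, 2, 1, 1, 1, 2, 1, 1, 1, 1, 2, 1, 1, 1, 1, 1, 1, 2, 1, 1, 1, 1, 1, 1, 1, 1, 1, 1, 2, 1], [4, 3, 2, 1, 0, 4, 3, 2, 1, 0, 3, 2, 1, 0, 2, 1, 0, 1, 0, 0, 9, 9, 4, 3, 2, 1, 0, 4, 3, 2, 1, 0, 3, 2, 1, 0, 2, 1, 0, 1, 0, 0, 3, 2, 1, 0, 2, 1, 0, 1, 0, 0, 2, 1, 0, 1, 0, 0, 1, 0, 0, 0, 2, 1, 0, 1, 0, 0, 1, 0, 0, 0, 1, 0, 0, 0, 0, 1, 0, 0, 0, 0, 0, 0, 1, 0, 0, 0, 0, 0, 0, 0, 0, 0, 0, 0, 0, 1], [3, 2, 1, 0, 5, 3, 2, 1, 0, 3, 2, 1, 0, 2, 1, 0, 1, 0, 0, 8, 5, 8, 3, 2, 1, 0, 5, 3, 2, 1, 0, 3, 2, 1, 0, 2, 1, 0, 1, 0, 0, 3, 2, 1, 0, 2, 1, 0,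 1, 0, 0, 2, 1, 0, 1, 0, 0, 1, 0, 0, 0, 2, 1, 0, 1, 0, 0, 1, 0, 0, 0, 1, 0, 0, 0, 0, 1, 0, 0, 0, 0, 0, 0, 1, 0, 0, 0, 0, 0, 0, 0, 0, 0, 0, 0, 0, 1], [2, 1, 0, 4, 5, 2, 1, 0, 4, 2, 1, 0, 2, 1, 0, 1, 0, 0, 8, 5, 4, 8, 2, 1, 0, 4, 5, 2, 1, 0, 4, 2, 1, 0, 2, 1, 0, 1, 0, 0, 4, 2, 1, 0, 2, 1, 0, 1, 0, 0, 2, 1, 0, 1, 0, 0, 1, 0, 0, 0, 2, 1, 0, 1, 0, 0, 1, 0, 0, 0, 1, 0, 0, 0, 0, 1, 0, 0, 0, 0, 0, 0, 1, 0, 0, 0, 0, 0, 0, 0, 0, 0, 0, 0, 0, 1], [1, 0, 4, 3, 5, 1, 0, 3, 4, 1, 0, 3, 1, 0, 1, 0, 0, 8, 5, 4, 3, 8, 1, 0, 4, 3, 5, 1, 0, 3, 4, 1, 0, 3, 1, 0, 1, 0, 0, 3, 4, 1, 0, 3, 1, 0, 1, 0, 0, 3, 1, 0, 1, 0, 0, 1, 0, 0,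 0, 3, 1, 0, 1, 0, 0, 1, 0, 0, 0, 1, 0, 0, 0, 0, 1, 0, 0, 0, 0, 0, 0, 1, 0, 0, 0, 0, 0, 0, 0, 0, 0, 0, 0, 0, 1], [0, 4, 3, 2, 5, 0, 3, 2, 4, 0, 2, 3, 0, 2, 0, 0, 8, 5, 4, 3, 2, 8, 0, 4, 3, 2, 5, 0, 3, 2, 4, 0, 2, 3, 0, 2, 0, 0, 3, 2, 4, 0, 2, 3, 0, 2, 0, 0, 2, 3, 0, 2, 0, 0, 2, 0, 0, 0, 2, 3, 0, 2, 0, 0, 2, 0, 0, 0, 2, 0, 0, 0, 0, 2, 0, 0, 0, 0, 0, 0, 2, 0, 0, 0, 0, 0, 0, 0, 0, 0, 0, 0, 0, 2], [4, 3, 2, 1, 5, 3, 2, 1, 4, 2, 1, 3, 1, 2, 1, 8, 5, 4, 3, 2, 1, 8, 4, 3, 2, 1, 5, 3, 2, 1, 4, 2, 1, 3, 1, 2, 1, 3, 2, 1, 4, 2, 1, 3, 1, 2, 1, 2, 1, 3, 1, 2, 1, 1, 2, 1, 1, 2, 1, 3, 1, 2, 1, 1, 2, 1, 1, 1, 2, 1, 1, 1,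 1, 2, 1, 1, 1, 1, 1, 1, 2, 1, 1, 1, 1, 1, 1, 1, 1, 1, 1, 2, 1], [3, 2, 1, 0, 3, 2, 1, 0, 2, 1, 0, 1, 0, 0, 6, 7, 7, 3, 2, 1, 0, 6, 3, 2, 1, 0, 3, 2, 1, 0, 2, 1, 0, 1, 0, 0, 3, 2, 1, 0, 2, 1, 0, 1, 0, 0, 2, 1, 0, 1, 0, 0, 1, 0, 0, 0, 2, 1, 0, 1, 0, 0, 1, 0, 0, 0, 1, 0, 0, 0, 0, 1, 0, 0, 0, 0, 0, 0, 1, 0, 0, 0, 0, 0, 0, 0, 0, 0, 0, 0, 0, 1], [2, 1, 0, 4, 2, 1, 0, 2, 1, 0, 1, 0, 0, 6, 7, 4, 7, 2, 1, 0, 4, 6, 2, 1, 0, 4, 2, 1, 0, 2, 1, 0, 1, 0, 0, 4, 2, 1, 0, 2, 1, 0, 1, 0, 0, 2, 1, 0, 1, 0, 0, 1, 0, 0, 0, 2, 1, 0, 1, 0, 0, 1, 0, 0, 0, 1, 0, 0, 0, 0, 1, 0, 0, 0, 0, 0, 0, 1, 0, 0, 0, 0, 0, 0, 0, 0, 0, 0, 0, 0,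 1], [1, 0, 3, 4, 1, 0, 3, 1, 0, 1, 0, 0, 6, 7, 4, 3, 7, 1, 0, 4, 3, 6, 1, 0, 3, 4, 1, 0, 3, 1, 0, 1, 0, 0, 3, 4, 1, 0, 3, 1, 0, 1, 0, 0, 3, 1, 0, 1, 0, 0, 1, 0, 0, 0, 3, 1, 0, 1, 0, 0, 1, 0, 0, 0, 1, 0, 0, 0, 0, 1, 0, 0, 0, 0, 0, 0, 1, 0, 0, 0, 0, 0, 0, 0, 0, 0, 0, 0, 0, 1], [0, 3, 2, 4, 0, 2, 3, 0, 2, 0, 0, 6, 7, 4, 3, 2, 7, 0, 4, 3, 2, 6, 0, 3, 2, 4, 0, 2, 3, 0, 2, 0, 0, 3, 2, 4, 0, 2, 3, 0, 2, 0, 0, 2, 3, 0, 2, 0, 0, 2, 0, 0, 0, 2, 3, 0, 2, 0, 0, 2, 0, 0, 0, 2, 0, 0, 0, 0, 2, 0, 0, 0, 0, 0, 0, 2, 0, 0, 0, 0, 0, 0, 0, 0, 0, 0, 0, 0, 2], [3, 2, 1, 4, 2, 1, 3, 1, 2, 1, 6, 7, 4, 3, 2, 1, 7, 4, 3, 2, 1, 6, 3,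 2, 1, 4, 2, 1, 3, 1, 2, 1, 3, 2, 1, 4, 2, 1, 3, 1, 2, 1, 2, 1, 3, 1, 2, 1, 1, 2, 1, 1, 2, 1, 3, 1, 2, 1, 1, 2, 1, 1, 1, 2, 1, 1, 1, 1, 2, 1, 1, 1, 1, 1, 1, 2, 1, 1, 1, 1, 1, 1, 1, 1, 1, 1, 2, 1], [2, 1, 0, 2, 1, 0, 1, 0, 0, 6, 5, 7, 7, 2, 1, 0, 5, 5, 2, 1, 0, 6, 2, 1, 0, 2, 1, 0, 1, 0, 0, 5, 2, 1, 0, 2, 1, 0, 1, 0, 0, 2, 1, 0, 1, 0, 0, 1, 0, 0, 0, 2, 1, 0, 1, 0, 0, 1, 0, 0, 0, 1, 0, 0, 0, 0, 1, 0, 0, 0, 0, 0, 0, 1, 0, 0, 0, 0, 0, 0, 0, 0, 0, 0, 0, 0, 1], [1, 0, 3, 1, 0, 1, 0, 0, 6, 5, 7, 3, 7, 1, 0, 5, 3, 5, 1, 0, 3, 6, 1, 0, 3, 1, 0, 1, 0, 0, 3, 5, 1, 0, 3, 1, 0, 1, 0, 0, 3, 1, 0, 1, 0, 0, 1, 0, 0, 0, 3,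 1, 0, 1, 0, 0, 1, 0, 0, 0, 1, 0, 0, 0, 0, 1, 0, 0, 0, 0, 0, 0, 1, 0, 0, 0, 0, 0, 0, 0, 0, 0, 0, 0, 0, 1], [0, 2, 3, 0, 2, 0, 0, 6, 5, 7, 3, 2, 7, 0, 5, 3, 2, 5, 0, 3, 2, 6, 0, 2, 3, 0, 2, 0, 0, 3, 2, 5, 0, 2, 3, 0, 2, 0, 0, 2, 3, 0, 2, 0, 0, 2, 0, 0, 0, 2, 3, 0, 2, 0, 0, 2, 0, 0, 0, 2, 0, 0, 0, 0, 2, 0, 0, 0, 0, 0, 0, 2, 0, 0, 0, 0, 0, 0, 0, 0, 0, 0, 0, 0, 2], [2, 1, 3, 1, 2, 1, 6, 5, 7, 3, 2, 1, 7, 5, 3, 2, 1, 5, 3, 2, 1, 6, 2, 1, 3, 1, 2, 1, 3, 2, 1, 5, 2, 1, 3, 1, 2, 1, 2, 1, 3, 1, 2, 1, 1, 2, 1, 1, 2, 1, 3, 1, 2, 1, 1, 2, 1, 1, 1, 2, 1, 1, 1, 1, 2, 1, 1, 1, 1, 1, 1, 2, 1, 1, 1, 1, 1, 1, 1, 1, 1, 1, 2,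 1], [1, 0, 1, 0, 0, 6, 5, 4, 7, 7, 1, 0, 4, 5, 5, 1, 0, 4, 4, 1, 0, 6, 1, 0, 1, 0, 0, 4, 4, 1, 0, 5, 1, 0, 1, 0, 0, 4, 1, 0, 1, 0, 0, 1, 0, 0, 0, 4, 1, 0, 1, 0, 0, 1, 0, 0, 0, 1, 0, 0, 0, 0, 1, 0, 0, 0, 0, 0, 0, 1, 0, 0, 0, 0, 0, 0, 0, 0, 0, 0, 0, 0, 1], [0, 2, 0, 0, 6, 5, 4, 7, 2, 7, 0, 4, 5, 2, 5, 0, 4, 2, 4, 0, 2, 6, 0, 2, 0, 0, 4, 2, 4, 0, 2, 5, 0, 2, 0, 0, 2, 4, 0, 2, 0, 0, 2, 0, 0, 0, 2, 4, 0, 2, 0, 0, 2, 0, 0, 0, 2, 0, 0, 0, 0, 2, 0, 0, 0, 0, 0, 0, 2, 0, 0, 0, 0, 0, 0, 0, 0, 0, 0, 0, 0, 2], [1, 2, 1, 6, 5, 4, 7, 2, 1, 7, 4, 5, 2, 1, 5, 4, 2, 1, 4, 2, 1, 6, 1, 2, 1, 4, 2, 1, 4, 2, 1, 5, 1, 2, 1, 2, 1,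 4, 1, 2, 1, 1, 2, 1, 1, 2, 1, 4, 1, 2, 1, 1, 2, 1, 1, 1, 2, 1, 1, 1, 1, 2, 1, 1, 1, 1, 1, 1, 2, 1, 1, 1, 1, 1, 1, 1, 1, 1, 1, 2, 1], [0, 0, 6, 5, 4, 3, 7, 7, 0, 4, 3, 5, 5, 0, 3, 4, 4, 0, 3, 3, 0, 6, 0, 0, 3, 4, 4, 0, 3, 3, 0, 5, 0, 0, 3, 3, 0, 4, 0, 0, 3, 0, 0, 0, 3, 3, 0, 4, 0, 0, 3, 0, 0, 0, 3, 0, 0, 0, 0, 3, 0, 0, 0, 0, 0, 0, 3, 0, 0, 0, 0, 0, 0, 0, 0, 0, 0, 0, 0, 3], [1, 6, 5, 4, 3, 7, 1, 7, 4, 3, 5, 1, 5, 3, 4, 1, 4, 3, 1, 3, 1, 6, 1, 3, 4, 1, 4, 3, 1, 3, 1, 5, 1, 3, 1, 3, 1, 4, 1, 1, 3, 1, 1, 3, 1, 3, 1, 4, 1, 1, 3, 1, 1, 1, 3, 1, 1, 1, 1, 3, 1, 1, 1, 1, 1, 1, 3, 1, 1, 1, 1, 1, 1, 1, 1, 1, 1, 3, 1],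 [6, 5, 4, 3, 2, 7, 7, 4, 3, 2, 5, 5, 3, 2, 4, 4, 2, 3, 3, 2, 2, 6, 3, 2, 4, 4, 2, 3, 3, 2, 2, 5, 2, 3, 3, 2, 2, 4, 2, 2, 3, 2, 2, 3, 3, 2, 2, 4, 2, 2, 3, 2, 2, 2, 3, 2, 2, 2, 2, 3, 2, 2, 2, 2, 2, 2, 3, 2, 2, 2, 2, 2, 2, 2, 2, 3, 2, 2], [5, 4, 3, 2, 1, 0, 4, 3, 2, 1, 0, 3, 2, 1, 0, 2, 1, 0, 1, 0, 0, 3, 2, 1, 0, 2, 1, 0, 1, 0, 0, 2, 1, 0, 1, 0, 0, 1, 0, 0, 0, 2, 1, 0, 1, 0, 0, 1, 0, 0, 0, 1, 0, 0, 0, 0, 1, 0, 0, 0, 0, 0, 0, 1, 0, 0, 0, 0, 0, 0, 0, 0, 0, 0, 0, 0, 1], [4, 3, 2, 1, 0, 4, 3, 2, 1, 0, 3, 2, 1, 0, 2, 1, 0, 1, 0, 0, 3, 2, 1, 0, 2, 1, 0, 1, 0, 0, 2, 1, 0, 1, 0, 0, 1, 0, 0, 0, 2, 1, 0, 1, 0, 0, 1, 0,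 0, 0, 1, 0, 0, 0, 0, 1, 0, 0, 0, 0, 0, 0, 1, 0, 0, 0, 0, 0, 0, 0, 0, 0, 0, 0, 0, 1], [3, 2, 1, 0, 5, 3, 2, 1, 0, 3, 2, 1, 0, 2, 1, 0, 1, 0, 0, 3, 2, 1, 0, 2, 1, 0, 1, 0, 0, 2, 1, 0, 1, 0, 0, 1, 0, 0, 0, 2, 1, 0, 1, 0, 0, 1, 0, 0, 0, 1, 0, 0, 0, 0, 1, 0, 0, 0, 0, 0, 0, 1, 0, 0, 0, 0, 0, 0, 0, 0, 0, 0, 0, 0, 1], [2, 1, 0, 4, 5, 2, 1, 0, 4, 2, 1, 0, 2, 1, 0, 1, 0, 0, 4, 2, 1, 0, 2, 1, 0, 1, 0, 0, 2, 1, 0, 1, 0, 0, 1, 0, 0, 0, 2, 1, 0, 1, 0, 0, 1, 0, 0, 0, 1, 0, 0, 0, 0, 1, 0, 0, 0, 0, 0, 0, 1, 0, 0, 0, 0, 0, 0, 0, 0, 0, 0, 0, 0, 1], [1, 0, 4, 3, 5, 1, 0, 3, 4, 1, 0, 3, 1, 0, 1, 0, 0, 3, 4, 1, 0, 3, 1, 0, 1, 0,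 0, 3, 1, 0, 1, 0, 0, 1, 0, 0, 0, 3, 1, 0, 1, 0, 0, 1, 0, 0, 0, 1, 0, 0, 0, 0, 1, 0, 0, 0, 0, 0, 0, 1, 0, 0, 0, 0, 0, 0, 0, 0, 0, 0, 0, 0, 1], [0, 4, 3, 2, 5, 0, 3, 2, 4, 0, 2, 3, 0, 2, 0, 0, 3, 2, 4, 0, 2, 3, 0, 2, 0, 0, 2, 3, 0, 2, 0, 0, 2, 0, 0, 0, 2, 3, 0, 2, 0, 0, 2, 0, 0, 0, 2, 0, 0, 0, 0, 2, 0, 0, 0, 0, 0, 0, 2, 0, 0, 0, 0, 0, 0, 0, 0, 0, 0, 0, 0, 2], [4, 3, 2, 1, 5, 3, 2, 1, 4, 2, 1, 3, 1, 2, 1, 3, 2, 1, 4, 2, 1, 3, 1, 2, 1, 2, 1, 3, 1, 2, 1, 1, 2, 1, 1, 2, 1, 3, 1, 2, 1, 1, 2, 1, 1, 1, 2, 1, 1, 1, 1, 2, 1, 1, 1, 1, 1, 1, 2, 1, 1, 1, 1, 1, 1, 1, 1, 1, 1, 2, 1], [3, 2, 1, 0, 3, 2, 1, 0, 2, 1, 0, 1, 0,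 0, 3, 2, 1, 0, 2, 1, 0, 1, 0, 0, 2, 1, 0, 1, 0, 0, 1, 0, 0, 0, 2, 1, 0, 1, 0, 0, 1, 0, 0, 0, 1, 0, 0, 0, 0, 1, 0, 0, 0, 0, 0, 0, 1, 0, 0, 0, 0, 0, 0, 0, 0, 0, 0, 0, 0, 1], [2, 1, 0, 4, 2, 1, 0, 2, 1, 0, 1, 0, 0, 4, 2, 1, 0, 2, 1, 0, 1, 0, 0, 2, 1, 0, 1, 0, 0, 1, 0, 0, 0, 2, 1, 0, 1, 0, 0, 1, 0, 0, 0, 1, 0, 0, 0, 0, 1, 0, 0, 0, 0, 0, 0, 1, 0, 0, 0, 0, 0, 0, 0, 0, 0, 0, 0, 0, 1], [1, 0, 3, 4, 1, 0, 3, 1, 0, 1, 0, 0, 3, 4, 1, 0, 3, 1, 0, 1, 0, 0, 3, 1, 0, 1, 0, 0, 1, 0, 0, 0, 3, 1, 0, 1, 0, 0, 1, 0, 0, 0, 1, 0, 0, 0, 0, 1, 0, 0, 0, 0, 0, 0, 1, 0, 0, 0, 0, 0, 0, 0, 0, 0, 0, 0, 0, 1], [0, 3, 2, 4, 0, 2, 3, 0, 2,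 0, 0, 3, 2, 4, 0, 2, 3, 0, 2, 0, 0, 2, 3, 0, 2, 0, 0, 2, 0, 0, 0, 2, 3, 0, 2, 0, 0, 2, 0, 0, 0, 2, 0, 0, 0, 0, 2, 0, 0, 0, 0, 0, 0, 2, 0, 0, 0, 0, 0, 0, 0, 0, 0, 0, 0, 0, 2], [3, 2, 1, 4, 2, 1, 3, 1, 2, 1, 3, 2, 1, 4, 2, 1, 3, 1, 2, 1, 2, 1, 3, 1, 2, 1, 1, 2, 1, 1, 2, 1, 3, 1, 2, 1, 1, 2, 1, 1, 1, 2, 1, 1, 1, 1, 2, 1, 1, 1, 1, 1, 1, 2, 1, 1, 1, 1, 1, 1, 1, 1, 1, 1, 2, 1], [2, 1, 0, 2, 1, 0, 1, 0, 0, 5, 2, 1, 0, 2, 1, 0, 1, 0, 0, 2, 1, 0, 1, 0, 0, 1, 0, 0, 0, 2, 1, 0, 1, 0, 0, 1, 0, 0, 0, 1, 0, 0, 0, 0, 1, 0, 0, 0, 0, 0, 0, 1, 0, 0, 0, 0, 0, 0, 0, 0, 0, 0, 0, 0, 1], [1, 0, 3, 1, 0, 1, 0, 0, 3, 5, 1, 0, 3, 1,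 0, 1, 0, 0, 3, 1, 0, 1, 0, 0, 1, 0, 0, 0, 3, 1, 0, 1, 0, 0, 1, 0, 0, 0, 1, 0, 0, 0, 0, 1, 0, 0, 0, 0, 0, 0, 1, 0, 0, 0, 0, 0, 0, 0, 0, 0, 0, 0, 0, 1], [0, 2, 3, 0, 2, 0, 0, 3, 2, 5, 0, 2, 3, 0, 2, 0, 0, 2, 3, 0, 2, 0, 0, 2, 0, 0, 0, 2, 3, 0, 2, 0, 0, 2, 0, 0, 0, 2, 0, 0, 0, 0, 2, 0, 0, 0, 0, 0, 0, 2, 0, 0, 0, 0, 0, 0, 0, 0, 0, 0, 0, 0, 2], [2, 1, 3, 1, 2, 1, 3, 2, 1, 5, 2, 1, 3, 1, 2, 1, 2, 1, 3, 1, 2, 1, 1, 2, 1, 1, 2, 1, 3, 1, 2, 1, 1, 2, 1, 1, 1, 2, 1, 1, 1, 1, 2, 1, 1, 1, 1, 1, 1, 2, 1, 1, 1, 1, 1, 1, 1, 1, 1, 1, 2, 1], [1, 0, 1, 0, 0, 4, 4, 1, 0, 5, 1, 0, 1, 0, 0, 4, 1, 0, 1, 0, 0, 1, 0, 0, 0, 4, 1, 0,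 1, 0, 0, 1, 0, 0, 0, 1, 0, 0, 0, 0, 1, 0, 0, 0, 0, 0, 0, 1, 0, 0, 0, 0, 0, 0, 0, 0, 0, 0, 0, 0, 1], [0, 2, 0, 0, 4, 2, 4, 0, 2, 5, 0, 2, 0, 0, 2, 4, 0, 2, 0, 0, 2, 0, 0, 0, 2, 4, 0, 2, 0, 0, 2, 0, 0, 0, 2, 0, 0, 0, 0, 2, 0, 0, 0, 0, 0, 0, 2, 0, 0, 0, 0, 0, 0, 0, 0, 0, 0, 0, 0, 2], [1, 2, 1, 4, 2, 1, 4, 2, 1, 5, 1, 2, 1, 2, 1, 4, 1, 2, 1, 1, 2, 1, 1, 2, 1, 4, 1, 2, 1, 1, 2, 1, 1, 1, 2, 1, 1, 1, 1, 2, 1, 1, 1, 1, 1, 1, 2, 1, 1, 1, 1, 1, 1, 1, 1, 1, 1, 2, 1], [0, 0, 3, 4, 4, 0, 3, 3, 0, 5, 0, 0, 3, 3, 0, 4, 0, 0, 3, 0, 0, 0, 3, 3, 0, 4, 0, 0, 3, 0, 0, 0, 3, 0, 0, 0, 0, 3, 0, 0, 0, 0, 0, 0, 3, 0, 0, 0, 0, 0, 0,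 0, 0, 0, 0, 0, 0, 3], [1, 3, 4, 1, 4, 3, 1, 3, 1, 5, 1, 3, 1, 3, 1, 4, 1, 1, 3, 1, 1, 3, 1, 3, 1, 4, 1, 1, 3, 1, 1, 1, 3, 1, 1, 1, 1, 3, 1, 1, 1, 1, 1, 1, 3, 1, 1, 1, 1, 1, 1, 1, 1, 1, 1, 3, 1], [3, 2, 4, 4, 2, 3, 3, 2, 2, 5, 2, 3, 3, 2, 2, 4, 2, 2, 3, 2, 2, 3, 3, 2, 2, 4, 2, 2, 3, 2, 2, 2, 3, 2, 2, 2, 2, 3, 2, 2, 2, 2, 2, 2, 3, 2, 2, 2, 2, 2, 2, 2, 2, 3, 2, 2], [2, 1, 0, 2, 1, 0, 1, 0, 0, 2, 1, 0, 1, 0, 0, 1, 0, 0, 0, 2, 1, 0, 1, 0, 0, 1, 0, 0, 0, 1, 0, 0, 0, 0, 1, 0, 0, 0, 0, 0, 0, 1, 0, 0, 0, 0, 0, 0, 0, 0, 0, 0, 0, 0, 1], [1, 0, 3, 1, 0, 1, 0, 0, 3, 1, 0, 1, 0, 0, 1, 0, 0, 0, 3, 1, 0, 1, 0, 0, 1, 0, 0,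 0, 1, 0, 0, 0, 0, 1, 0, 0, 0, 0, 0, 0, 1, 0, 0, 0, 0, 0, 0, 0, 0, 0, 0, 0, 0, 1], [0, 2, 3, 0, 2, 0, 0, 2, 3, 0, 2, 0, 0, 2, 0, 0, 0, 2, 3, 0, 2, 0, 0, 2, 0, 0, 0, 2, 0, 0, 0, 0, 2, 0, 0, 0, 0, 0, 0, 2, 0, 0, 0, 0, 0, 0, 0, 0, 0, 0, 0, 0, 2], [2, 1, 3, 1, 2, 1, 2, 1, 3, 1, 2, 1, 1, 2, 1, 1, 2, 1, 3, 1, 2, 1, 1, 2, 1, 1, 1, 2, 1, 1, 1, 1, 2, 1, 1, 1, 1, 1, 1, 2, 1, 1, 1, 1, 1, 1, 1, 1, 1, 1, 2, 1], [1, 0, 1, 0, 0, 4, 1, 0, 1, 0, 0, 1, 0, 0, 0, 4, 1, 0, 1, 0, 0, 1, 0, 0, 0, 1, 0, 0, 0, 0, 1, 0, 0, 0, 0, 0, 0, 1, 0, 0, 0, 0, 0, 0, 0, 0, 0, 0, 0, 0, 1], [0, 2, 0, 0, 2, 4, 0, 2, 0, 0, 2, 0, 0, 0, 2, 4, 0, 2, 0,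 0, 2, 0, 0, 0, 2, 0, 0, 0, 0, 2, 0, 0, 0, 0, 0, 0, 2, 0, 0, 0, 0, 0, 0, 0, 0, 0, 0, 0, 0, 2], [1, 2, 1, 2, 1, 4, 1, 2, 1, 1, 2, 1, 1, 2, 1, 4, 1, 2, 1, 1, 2, 1, 1, 1, 2, 1, 1, 1, 1, 2, 1, 1, 1, 1, 1, 1, 2, 1, 1, 1, 1, 1, 1, 1, 1, 1, 1, 2, 1], [0, 0, 3, 3, 0, 4, 0, 0, 3, 0, 0, 0, 3, 3, 0, 4, 0, 0, 3, 0, 0, 0, 3, 0, 0, 0, 0, 3, 0, 0, 0, 0, 0, 0, 3, 0, 0, 0, 0, 0, 0, 0, 0, 0, 0, 0, 0, 3], [1, 3, 1, 3, 1, 4, 1, 1, 3, 1, 1, 3, 1, 3, 1, 4, 1, 1, 3, 1, 1, 1, 3, 1, 1, 1, 1, 3, 1, 1, 1, 1, 1, 1, 3, 1, 1, 1, 1, 1, 1, 1, 1, 1, 1, 3, 1], [2, 3, 3, 2, 2, 4, 2, 2, 3, 2, 2, 3, 3, 2, 2, 4, 2, 2, 3, 2, 2, 2, 3, 2, 2, 2, 2,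 3, 2, 2, 2, 2, 2, 2, 3, 2, 2, 2, 2, 2, 2, 2, 2, 3, 2, 2], [1, 0, 1, 0, 0, 1, 0, 0, 0, 5, 1, 0, 1, 0, 0, 1, 0, 0, 0, 1, 0, 0, 0, 0, 1, 0, 0, 0, 0, 0, 0, 1, 0, 0, 0, 0, 0, 0, 0, 0, 0, 0, 0, 0, 1], [0, 2, 0, 0, 2, 0, 0, 0, 2, 5, 0, 2, 0, 0, 2, 0, 0, 0, 2, 0, 0, 0, 0, 2, 0, 0, 0, 0, 0, 0, 2, 0, 0, 0, 0, 0, 0, 0, 0, 0, 0, 0, 0, 2], [1, 2, 1, 1, 2, 1, 1, 2, 1, 5, 1, 2, 1, 1, 2, 1, 1, 1, 2, 1, 1, 1, 1, 2, 1, 1, 1, 1, 1, 1, 2, 1, 1, 1, 1, 1, 1, 1, 1, 1, 1, 2, 1], [0, 0, 3, 0, 0, 0, 3, 3, 0, 5, 0, 0, 3, 0, 0, 0, 3, 0, 0, 0, 0, 3, 0, 0, 0, 0, 0, 0, 3, 0, 0, 0, 0, 0, 0, 0, 0, 0, 0, 0, 0, 3], [1, 1, 3, 1, 1, 3, 1, 3,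 1, 5, 1, 1, 3, 1, 1, 1, 3, 1, 1, 1, 1, 3, 1, 1, 1, 1, 1, 1, 3, 1, 1, 1, 1, 1, 1, 1, 1, 1, 1, 3, 1], [2, 2, 3, 2, 2, 3, 3, 2, 2, 5, 2, 2, 3, 2, 2, 2, 3, 2, 2, 2, 2, 3, 2, 2, 2, 2, 2, 2, 3, 2, 2, 2, 2, 2, 2, 2, 2, 3, 2, 2], [0, 0, 0, 4, 4, 0, 4, 0, 0, 5, 0, 0, 0, 4, 0, 0, 0, 0, 4, 0, 0, 0, 0, 0, 0, 4, 0, 0, 0, 0, 0, 0, 0, 0, 0, 0, 0, 0, 4], [1, 1, 4, 1, 4, 1, 4, 1, 1, 5, 1, 1, 1, 4, 1, 1, 1, 1, 4, 1, 1, 1, 1, 1, 1, 4, 1, 1, 1, 1, 1, 1, 1, 1, 1, 1, 4, 1], [2, 2, 4, 4, 2, 2, 4, 2, 2, 5, 2, 2, 2, 4, 2, 2, 2, 2, 4, 2, 2, 2, 2, 2, 2, 4, 2, 2, 2, 2, 2, 2, 2, 2, 4, 2, 2], [3, 3, 3, 4, 4, 4, 3, 3, 3, 5, 3, 3, 3, 4,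 3, 3, 3, 3, 4, 3, 3, 3, 3, 3, 3, 4, 3, 3, 3, 3, 3, 3, 4, 3, 3, 3], [1, 0, 1, 0, 0, 1, 0, 0, 0, 1, 0, 0, 0, 0, 1, 0, 0, 0, 0, 0, 0, 1, 0, 0, 0, 0, 0, 0, 0, 0, 0, 0, 0, 0, 1], [0, 2, 0, 0, 2, 0, 0, 0, 2, 0, 0, 0, 0, 2, 0, 0, 0, 0, 0, 0, 2, 0, 0, 0, 0, 0, 0, 0, 0, 0, 0, 0, 0, 2], [1, 2, 1, 1, 2, 1, 1, 1, 2, 1, 1, 1, 1, 2, 1, 1, 1, 1, 1, 1, 2, 1, 1, 1, 1, 1, 1, 1, 1, 1, 1, 2, 1], [0, 0, 3, 0, 0, 0, 3, 0, 0, 0, 0, 3, 0, 0, 0, 0, 0, 0, 3, 0, 0, 0, 0, 0, 0, 0, 0, 0, 0, 0, 0, 3], [1, 1, 3, 1, 1, 1, 3, 1, 1, 1, 1, 3, 1, 1, 1, 1, 1, 1, 3, 1, 1, 1, 1, 1, 1, 1, 1, 1, 1, 3, 1], [2, 2, 3, 2, 2, 2, 3, 2, 2, 2, 2, 3, 2, 2,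 2, 2, 2, 2, 3, 2, 2, 2, 2, 2, 2, 2, 2, 3, 2, 2], [0, 0, 0, 4, 0, 0, 0, 0, 4, 0, 0, 0, 0, 0, 0, 4, 0, 0, 0, 0, 0, 0, 0, 0, 0, 0, 0, 0, 4], [1, 1, 1, 4, 1, 1, 1, 1, 4, 1, 1, 1, 1, 1, 1, 4, 1, 1, 1, 1, 1, 1, 1, 1, 1, 1, 4, 1], [2, 2, 2, 4, 2, 2, 2, 2, 4, 2, 2, 2, 2, 2, 2, 4, 2, 2, 2, 2, 2, 2, 2, 2, 4, 2, 2], [3, 3, 3, 4, 3, 3, 3, 3, 4, 3, 3, 3, 3, 3, 3, 4, 3, 3, 3, 3, 3, 3, 4, 3, 3, 3], [0, 0, 0, 0, 5, 0, 0, 0, 0, 0, 0, 5, 0, 0, 0, 0, 0, 0, 0, 0, 0, 0, 0, 0, 5], [1, 1, 1, 1, 5, 1, 1, 1, 1, 1, 1, 5, 1, 1, 1, 1, 1, 1, 1, 1, 1, 1, 5, 1], [2, 2, 2, 2, 5, 2, 2, 2, 2, 2, 2, 5, 2, 2, 2, 2, 2, 2, 2, 2, 5, 2, 2], [3,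 3, 3, 3, 5, 3, 3, 3, 3, 3, 3, 5, 3, 3, 3, 3, 3, 3, 5, 3, 3, 3], [4, 4, 4, 4, 5, 4, 4, 4, 4, 4, 4, 5, 4, 4, 4, 4, 5, 4, 4, 4, 4], [0, 0, 0, 0, 0, 0, 6, 0, 0, 0, 0, 0, 0, 0, 0, 0, 0, 0, 0, 6], [1, 1, 1, 1, 1, 1, 6, 1, 1, 1, 1, 1, 1, 1, 1, 1, 1, 6, 1], [2, 2, 2, 2, 2, 2, 6, 2, 2, 2, 2, 2, 2, 2, 2, 6, 2, 2], [3, 3, 3, 3, 3, 3, 6, 3, 3, 3, 3, 3, 3, 6, 3, 3, 3], [4, 4, 4, 4, 4, 4, 6, 4, 4, 4, 4, 6, 4, 4, 4, 4], [5, 5, 5, 5, 5, 5, 6, 5, 5, 6, 5, 5, 5, 5, 5], [7, 7, 7, 7, 7, 7, 8, 8, 7, 7, 7, 7, 7, 7], [0, 0, 0, 0, 0, 0, 0, 0, 0, 0, 0, 0, 14], [1, 1, 1, 1, 1, 1, 1, 1, 1, 1, 14, 1], [2, 2, 2, 2, 2, 2, 2, 2, 14, 2,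 2], [3, 3, 3, 3, 3, 3, 14, 3, 3, 3], [4, 4, 4, 4, 14, 4, 4, 4, 4], [5, 5, 14, 5, 5, 5, 5, 5], [14, 6, 6, 6, 6, 6, 6], [7, 7, 7, 7, 7, 7], [8, 8, 8, 8, 8], [9, 9, 9, 9], [10, 10, 10], [11, 11], [12], []]

set_option maxRecDepth 100000 in
theorem sepOK_E8 : sepOK chevE8 okv1 sepW_E8 = true := by decide +kernel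

end Cfsg.Agent.Lib.Helper27.S2244FO1
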