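import Cfsg.Agent.Lib.Helper27.S2244FO1a
import Cfsg.Agent.Lib.Helper27.S2244FO1_E8

/-!
# S2244 FO-1 (for helper26): torus separation witnesses.
-/

set_option autoImplicit false

namespace Cfsg.Agent.Lib.Helper27.S2244FO1

open Cfsg Cfsg.Lie Matrix Cfsg.Agent.Lib.Helper8.Chev

variable {D : ChevalleyDatum}

/-- FO-1: torus separation witnesses.  For positive roots `k < s` (indices) there is a root `p`
with `⟨k, p^∨⟩ = 0` and `⟨s, p^∨⟩` small and non-zero. -/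
theorem sep_witness (hD : D ∈ [chevG2, chevB2, chevD4, chevF4, chevE6, chevE7, chevE8])
    {k s : ℕ} (hk : D.nroots / 2 ≤ k) (hks : k < s) (hs : s < D.nroots) :
    ∃ p, p < D.nroots ∧ aco D p k = 0 ∧
      ((aco D p s = 1 ∨ aco D p s = -1) ∨
       (D ∈ [chevG2, chevB2, chevD4, chevF4] ∧ (aco D p s = 2 ∨ aco D p s = -2)) ∨
       (D = chevG2 ∧ (aco D p s = 3 ∨ aco D p s = -3) ∧
          ((k = 6 ∧ s = 10) ∨ (k = 6 ∧ s = 11) ∨ (k = 10 ∧ s = 11)))) := by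
  have T := (validJ_of_mem hD).T
  have hkn : k < D.nroots := lt_trans hks hs
  simp only [List.mem_cons, List.mem_nil_iff, or_false] at hD
  rcases hD with rfl | rfl | rfl | rfl | rfl | rfl | rfl
  · obtain ⟨p, hp, h1, h2⟩ := sepOK_spec sepOK_G2 hk hks hs
    rw [acoF_eq T hp hkn] at h1
    rw [acoF_eq T hp hs] at h2
    refine ⟨p, hp, h1, ?_⟩
    rcases okv3_spec h2 with (h | h) | h
    · exact Or.inl h
    · exact Or.inr (Or.inl ⟨by simp, h⟩)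
    · exact Or.inr (Or.inr ⟨rfl, h.1, h.2⟩)
  · obtain ⟨p, hp, h1, h2⟩ := sepOK_spec sepOK_B2 hk hks hs
    rw [acoF_eq T hp hkn] at h1
    rw [acoF_eq T hp hs] at h2
    refine ⟨p, hp, h1, ?_⟩
    rcases okv2_spec h2 with h | h
    · exact Or.inl h
    · exact Or.inr (Or.inl ⟨by simp, h⟩)
  · obtain ⟨p, hp, h1, h2⟩ := sepOK_spec sepOK_D4 hk hks hs
    rw [acoF_eq T hp hkn] at h1
    rw [acoF_eq T hp hs] at h2
    refine ⟨p, hp, h1, ?_⟩
    rcases okv2_spec h2 with h | h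
    · exact Or.inl h
    · exact Or.inr (Or.inl ⟨by simp, h⟩)
  · obtain ⟨p, hp, h1, h2⟩ := sepOK_spec sepOK_F4 hk hks hs
    rw [acoF_eq T hp hkn] at h1
    rw [acoF_eq T hp hs] at h2
    refine ⟨p, hp, h1, ?_⟩
    rcases okv2_spec h2 with h | h
    · exact Or.inl h
    · exact Or.inr (Or.inl ⟨by simp, h⟩)
  · obtain ⟨p, hp, h1, h2⟩ := sepOK_spec sepOK_E6 hk hks hs
    rw [acoF_eq T hp hkn] at h1
    rw [acoF_eq T hp hs] at h2
    exact ⟨p, hp, h1, Or.inl (okv1_spec h2)⟩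
  · obtain ⟨p, hp, h1, h2⟩ := sepOK_spec sepOK_E7 hk hks hs
    rw [acoF_eq T hp hkn] at h1
    rw [acoF_eq T hp hs] at h2
    exact ⟨p, hp, h1, Or.inl (okv1_spec h2)⟩
  · obtain ⟨p, hp, h1, h2⟩ := sepOK_spec sepOK_E8 hk hks hs
    rw [acoF_eq T hp hkn] at h1
    rw [acoF_eq T hp hs] at h2
    exact ⟨p, hp, h1, Or.inl (okv1_spec h2)⟩

end Cfsg.Agent.Lib.Helper27.S2244FO1
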