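import Cfsg.Agent.Lib.Helper15.AltOrders

set_option autoImplicit false

/-! The element orders of the alternating group of degree 10. -/

namespace Cfsg.Agent.Lib.Helper27.A10Alt

/-- the spectrum of the alternating group of degree 10 -/
def S : Finset ℕ := {1, 2, 3, 4, 5, 6, 7, 8, 9, 10, 12, 15, 21}

/-- all lists of at most `f` numbers, each at least 2, of sum at most `b` -/
def allLists : ℕ → ℕ → List (List ℕ)
  | 0, _ => [[]]
  | f + 1, b => [] :: (List.range (b + 1)).flatMap fun x =>
      if 2 ≤ x then (allLists f (b - x)).map (x :: ·) else []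

theorem nil_mem_allLists (f b : ℕ) : [] ∈ allLists f b := by
  cases f <;> simp [allLists]

theorem mem_allLists (l : List ℕ) (f b : ℕ) (h2 : ∀ x ∈ l, 2 ≤ x) (hs : l.sum ≤ b)
    (hl : l.length ≤ f) : l ∈ allLists f b := by
  induction l generalizing f b with
  | nil => exact nil_mem_allLists f b
  | cons x l ih =>
    cases f with
    | zero => simp at hl
    | succ f =>
      rw [List.sum_cons] at hs
      have hx2 : 2 ≤ x := h2 x (List.mem_cons_self ..)
      have hl' : l ∈ allLists f (b - x) :=
        ih f (b - x) (fun y hy => h2 y (List.mem_cons_of_mem _ hy)) (by omega)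
          (by simpa using hl)
      unfold allLists
      refine List.mem_cons_of_mem _ (List.mem_flatMap.mpr ⟨x, List.mem_range.mpr (by omega), ?_⟩)
      rw [if_pos hx2]
      exact List.mem_map.mpr ⟨l, hl', rfl⟩

theorem check_lists : ∀ l ∈ allLists 5 10, (l.sum + l.length) % 2 = 0 → l.foldr Nat.lcm 1 ∈ S := by
  decide +kernel

theorem lcm_coe (l : List ℕ) : Multiset.lcm (l : Multiset ℕ) = l.foldr Nat.lcm 1 := by
  induction l with
  | nil => simp
  | cons a l ih =>
    rw [← Multiset.cons_coe, Multiset.lcm_cons, ih, List.foldr_cons]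
    rfl

theorem lcm_mem_S (m : Multiset ℕ) (hsum : m.sum ≤ 10) (h2 : ∀ a ∈ m, 2 ≤ a)
    (hev : Even (m.sum + Multiset.card m)) : m.lcm ∈ S := by
  have hcard : Multiset.card m ≤ 5 := by
    have := Cfsg.Agent.Lib.Helper15.card_mul_le_sum m 2 h2
    omega
  induction m using Quotient.inductionOn with
  | _ l =>
    have e1 : Multiset.sum (l : Multiset ℕ) = l.sum := Multiset.sum_coe l
    have e2 : Multiset.card (l : Multiset ℕ) = l.length := Multiset.coe_card l
    change Multiset.lcm (l : Multiset ℕ) ∈ S
    change Multiset.sum (l : Multiset ℕ) ≤ 10 at hsum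
    change ∀ a ∈ (l : Multiset ℕ), 2 ≤ a at h2
    change Even (Multiset.sum (l : Multiset ℕ) + Multiset.card (l : Multiset ℕ)) at hev
    change Multiset.card (l : Multiset ℕ) ≤ 5 at hcard
    rw [e1] at hsum
    rw [e1, e2] at hev
    rw [e2] at hcard
    rw [lcm_coe]
    exact check_lists l (mem_allLists l 5 10 (fun x hx => h2 x (Multiset.mem_coe.mpr hx)) hsum hcard)
      (Nat.even_iff.mp hev)

theorem range_orderOf_alt :
    Set.range (orderOf : alternatingGroup (Fin 10) → ℕ) = (S : Set ℕ) := by
  ext d
  rw [Cfsg.Agent.Lib.Helper15.mem_range_orderOf_alt_iff]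
  constructor
  · rintro ⟨m, hsum, h2, hev, rfl⟩
    exact lcm_mem_S m hsum h2 hev
  · intro hd
    have hd' : d ∈ S := hd
    unfold S at hd'
    simp only [Finset.mem_insert, Finset.mem_singleton] at hd'
    rcases hd' with rfl | rfl | rfl | rfl | rfl | rfl | rfl | rfl | rfl | rfl | rfl | rfl | rfl
    · exact ⟨0, by decide, by decide, by decide, by simp⟩
    · exact ⟨{2, 2}, by decide, by decide, by decide, by simp⟩
    · exact ⟨{3}, by decide, by decide, by decide, by simp⟩
    · exact ⟨{4, 2}, by decide, by decide, by decide, by simp; rfl⟩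
    · exact ⟨{5}, by decide, by decide, by decide, by simp⟩
    · exact ⟨{3, 2, 2}, by decide, by decide, by decide, by simp; rfl⟩
    · exact ⟨{7}, by decide, by decide, by decide, by simp⟩
    · exact ⟨{8, 2}, by decide, by decide, by decide, by simp; rfl⟩
    · exact ⟨{9}, by decide, by decide, by decide, by simp⟩
    · exact ⟨{5, 2, 2}, by decide, by decide, by decide, by simp; rfl⟩
    · exact ⟨{4, 3, 2}, by decide, by decide, by decide, by simp; rfl⟩
    · exact ⟨{5, 3}, by decide, by decide, by decide, by simp; rfl⟩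
    · exact ⟨{7, 3}, by decide, by decide, by decide, by simp; rfl⟩

end Cfsg.Agent.Lib.Helper27.A10Alt
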