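import Cfsg.Agent.Lib.Helper27.A10ChkDefs

set_option autoImplicit false

/-! Translation of the data-level certificates to statements on Mathlib matrices. -/

namespace Cfsg.Agent.Lib.Helper27.A10Cert

open Cfsg.Agent.Lib.Helper27.A10Mat Cfsg.Agent.Lib.Helper27.A10Data
  Cfsg.Agent.Lib.Helper27.A10Chk

/-- the ring of pairs of matrices -/
abbrev R := Matrix (Fin 4) (Fin 4) (ZMod 7) × Matrix (Fin 12) (Fin 12) (ZMod 3)

/-- the pair of matrices in Mathlib's sense -/
def toP (x : Pair) : R := (toM 4 7 x.1, toM 12 3 x.2)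

theorem length_mulM (p : ℕ) (A B : List (List ℕ)) : (mulM p A B).length = A.length := by
  simp [mulM]

theorem wf_pmul (x y : Pair) (hx : wf x) : wf (pmul x y) := by
  unfold wf pmul
  simp only [length_mulM]
  exact hx

theorem toP_pmul (x y : Pair) (hy : wf y) : toP (pmul x y) = toP x * toP y := by
  unfold toP pmul
  rw [Prod.mk_mul_mk, toM_mulM 4 7 _ _ hy.1, toM_mulM 12 3 _ _ hy.2]

theorem toP_pone : toP pone = 1 := by
  unfold toP pone
  rw [toM_one, toM_one]
  rfl

theorem toP_pneg : toP pneg = -1 := by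
  unfold toP pneg
  rw [toM_scalM, toM_scalM]
  have h7 : ((6 : ℕ) : ZMod 7) = -1 := by decide
  have h3 : ((2 : ℕ) : ZMod 3) = -1 := by decide
  rw [h7, h3, neg_one_smul, neg_one_smul]
  rfl

theorem toM_eq_zero_of_isZ (n p : ℕ) (S : List (List ℕ)) (h : isZ p S = true) :
    toM n p S = 0 := by
  ext i j
  unfold toM
  rw [Matrix.zero_apply]
  unfold isZ at h
  rw [List.all_eq_true] at h
  by_cases hi : (i : ℕ) < S.length
  · rw [List.getD_eq_getElem _ _ hi]
    have hr := h _ (List.getElem_mem hi)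
    rw [List.all_eq_true] at hr
    by_cases hj : (j : ℕ) < (S[(i : ℕ)]).length
    · rw [List.getD_eq_getElem _ _ hj]
      have := hr _ (List.getElem_mem hj)
      rw [decide_eq_true_eq] at this
      rw [ZMod.natCast_eq_zero_iff]
      exact Nat.dvd_of_mod_eq_zero this
    · rw [List.getD_eq_default _ _ (not_lt.mp hj)]; simp
  · rw [List.getD_eq_default _ _ (not_lt.mp hi)]; simp

/-- the certificate at the level of matrices -/
def CertR (M : R) : Prop :=
  M = 1 ∨ (∃ k, 1 ≤ k ∧ k ≤ 6 ∧ M ^ k = -1) ∨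
    (M ^ 3 = 1 ∧ 1 + M.1 + M.1 ^ 2 = 0) ∨
    (M ^ 5 = 1 ∧ 1 + M.1 + M.1 ^ 2 + M.1 ^ 3 + M.1 ^ 4 = 0)

theorem certR_of_cert (x : Pair) (hx : wf x) (h : cert x = true) : CertR (toP x) := by
  have w2 : wf (pmul x x) := wf_pmul _ _ hx
  have w3 : wf (pmul (pmul x x) x) := wf_pmul _ _ w2
  have w4 : wf (pmul (pmul x x) (pmul x x)) := wf_pmul _ _ w2
  have e2 : toP (pmul x x) = toP x ^ 2 := by rw [toP_pmul _ _ hx, sq]
  have e3 : toP (pmul (pmul x x) x) = toP x ^ 3 := by rw [toP_pmul _ _ hx, e2, ← pow_succ]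
  have e4 : toP (pmul (pmul x x) (pmul x x)) = toP x ^ 4 := by
    rw [toP_pmul _ _ w2, e2, ← pow_add]
  have e5 : toP (pmul (pmul (pmul x x) (pmul x x)) x) = toP x ^ 5 := by
    rw [toP_pmul _ _ hx, e4, ← pow_succ]
  have e6 : toP (pmul (pmul (pmul x x) x) (pmul (pmul x x) x)) = toP x ^ 6 := by
    rw [toP_pmul _ _ w3, e3, ← pow_add]
  have f2 : toM 4 7 (pmul x x).1 = (toP x).1 ^ 2 := by
    have := congrArg Prod.fst e2; simpa [toP] using this
  have f3 : toM 4 7 (pmul (pmul x x) x).1 = (toP x).1 ^ 3 := by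
    have := congrArg Prod.fst e3; simpa [toP] using this
  have f4 : toM 4 7 (pmul (pmul x x) (pmul x x)).1 = (toP x).1 ^ 4 := by
    have := congrArg Prod.fst e4; simpa [toP] using this
  unfold cert at h
  simp only [Bool.or_eq_true, Bool.and_eq_true, decide_eq_true_eq] at h
  rcases h with (h | h) | h
  · left; rw [h, toP_pone]
  · right; left; exact ⟨1, le_refl _, by norm_num, by rw [pow_one, h, toP_pneg]⟩
  rcases h with h | h
  · right; left; exact ⟨2, by norm_num, by norm_num, by rw [← e2, h, toP_pneg]⟩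
  rcases h with h | h
  · right; left; exact ⟨4, by norm_num, by norm_num, by rw [← e4, h, toP_pneg]⟩
  rcases h with (h | h) | h
  · right; left; exact ⟨3, by norm_num, by norm_num, by rw [← e3, h, toP_pneg]⟩
  · right; right; left
    refine ⟨by rw [← e3, h.1, toP_pone], ?_⟩
    have := toM_eq_zero_of_isZ 4 7 _ h.2
    rw [toM_addRows, toM_addRows, toM_one, f2] at this
    exact this
  rcases h with (h | h) | h
  · right; left; exact ⟨5, by norm_num, by norm_num, by rw [← e5, h, toP_pneg]⟩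
  · right; right; right
    refine ⟨by rw [← e5, h.1, toP_pone], ?_⟩
    have := toM_eq_zero_of_isZ 4 7 _ h.2
    rw [toM_addRows, toM_addRows, toM_addRows, toM_addRows, toM_one, f2, f3, f4] at this
    exact this
  · right; left; exact ⟨6, by norm_num, by norm_num, by rw [← e6, h, toP_pneg]⟩

end Cfsg.Agent.Lib.Helper27.A10Cert
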