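import Cfsg.Agent.Lib.Helper27.A10ChkDefs

set_option autoImplicit false

/-! Kernel check: the list of 240 elements is closed under right multiplication by the first
generator; small checks on the generators. -/

namespace Cfsg.Agent.Lib.Helper27.A10Chk

open Cfsg.Agent.Lib.Helper27.A10Mat Cfsg.Agent.Lib.Helper27.A10Data

theorem one_mem : pone ∈ L := by decide +kernel

theorem wf_L : ∀ x ∈ L, wf x := by decide +kernel

theorem wf_gA : wf gA := by decide +kernel
theorem wf_gB : wf gB := by decide +kernel
theorem wf_gAi : wf gAi := by decide +kernel
theorem wf_gBi : wf gBi := by decide +kernel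

theorem gA_inv : pmul gA gAi = pone ∧ pmul gAi gA = pone := by decide +kernel
theorem gB_inv : pmul gB gBi = pone ∧ pmul gBi gB = pone := by decide +kernel

set_option maxRecDepth 1000000 in
theorem closed_A : ∀ x ∈ L, pmul x gA ∈ L := by decide +kernel

end Cfsg.Agent.Lib.Helper27.A10Chk
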