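import Cfsg.Agent.Lib.Helper27.A10ChkDefs

set_option autoImplicit false

/-! Kernel check: the list of 240 elements is closed under right multiplication by the second
generator. -/

namespace Cfsg.Agent.Lib.Helper27.A10Chk

open Cfsg.Agent.Lib.Helper27.A10Mat Cfsg.Agent.Lib.Helper27.A10Data

set_option maxRecDepth 1000000 in
theorem closed_B : ∀ x ∈ L, pmul x gB ∈ L := by decide +kernel

end Cfsg.Agent.Lib.Helper27.A10Chk
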