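import Cfsg.Agent.Lib.Helper27.A10Data

set_option autoImplicit false

/-! Definitions for the kernel checks on the explicit list of the 240 elements of `2.S₅⁻`. -/

namespace Cfsg.Agent.Lib.Helper27.A10Chk

open Cfsg.Agent.Lib.Helper27.A10Mat Cfsg.Agent.Lib.Helper27.A10Data

/-- product of pairs -/
def pmul (x y : Pair) : Pair := (mulM 7 x.1 y.1, mulM 3 x.2 y.2)
/-- the identity -/
def pone : Pair := (scalM 4 1, scalM 12 1)
/-- minus the identity -/
def pneg : Pair := (scalM 4 6, scalM 12 2)

/-- all entries vanish modulo `p` -/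
def isZ (p : ℕ) (S : List (List ℕ)) : Bool := S.all fun r => r.all fun a => decide (a % p = 0)

/-- the certificate of an element -/
def cert (x : Pair) : Bool :=
  decide (x = pone) || decide (x = pneg) ||
  (let x2 := pmul x x
   decide (x2 = pneg) ||
   (let x4 := pmul x2 x2
    decide (x4 = pneg) ||
    (let x3 := pmul x2 x
     decide (x3 = pneg) ||
     (decide (x3 = pone) && isZ 7 (addRows (addRows (scalM 4 1) x.1) x2.1)) ||
     (let x5 := pmul x4 x
      decide (x5 = pneg) ||
      (decide (x5 = pone) &&
        isZ 7 (addRows (addRows (addRows (addRows (scalM 4 1) x.1) x2.1) x3.1) x4.1)) ||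
      decide (pmul x3 x3 = pneg)))))

/-- well-formedness: the numbers of rows -/
def wf (x : Pair) : Prop := x.1.length ≤ 4 ∧ x.2.length ≤ 12

instance (x : Pair) : Decidable (wf x) := by unfold wf; infer_instance

end Cfsg.Agent.Lib.Helper27.A10Chk
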