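import Cfsg.Agent.Lib.Helper27.A10ChkDefs

set_option autoImplicit false

/-! Kernel checks for the elements of orders 8, 12, 10, 9, 15 of `(7^(4k) × 3^12) : 2.S₅⁻`. -/

namespace Cfsg.Agent.Lib.Helper27.A10Chk

open Cfsg.Agent.Lib.Helper27.A10Mat Cfsg.Agent.Lib.Helper27.A10Data

/-- powers of pairs -/
def ppow (x : Pair) : ℕ → Pair
  | 0 => pone
  | k + 1 => pmul (ppow x k) x

/-- the product of the two generators -/
def gAB : Pair := pmul gA gB

/-- an entry, modulo `p` -/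
def ent (p : ℕ) (X : List (List ℕ)) (i j : ℕ) : ℕ := (X.getD i []).getD j 0 % p

theorem wA4 : ppow gA 4 = pneg := by decide +kernel
theorem wB6 : ppow gB 6 = pneg := by decide +kernel
theorem wB4 : ent 7 (ppow gB 4).1 0 1 ≠ 0 := by decide +kernel
theorem wAB5 : ppow gAB 5 = pneg := by decide +kernel
theorem wAB2 : ent 7 (ppow gAB 2).1 0 1 ≠ 0 := by decide +kernel
theorem wAB6 : ent 7 (ppow gAB 6).1 0 1 ≠ 0 := by decide +kernel
theorem wS3 : ent 3 (addRows (addRows (scalM 12 1) (ppow gB 4).2) (ppow gB 8).2) 0 0 ≠ 0 := by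
  decide +kernel
theorem wS5 : ent 3 (addRows (addRows (addRows (addRows (scalM 12 1) (ppow gAB 2).2)
    (ppow gAB 4).2) (ppow gAB 6).2) (ppow gAB 8).2) 0 0 ≠ 0 := by
  decide +kernel

end Cfsg.Agent.Lib.Helper27.A10Chk
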