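import Cfsg.Agent.Lib.Helper27.A10Mat

set_option autoImplicit false

/-! The group `2.S₅⁻` of order 240 as an explicit list of pairs of matrices: a 4 × 4 matrix over `ZMod 7`
(the action on `F₄₉²`, semilinear) and a 12 × 12 matrix over `ZMod 3` (the action on `U ⊗ Sym² U'` over `F₉`). -/

namespace Cfsg.Agent.Lib.Helper27.A10Data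

/-- pairs of matrices, as lists of rows -/
abbrev Pair := List (List ℕ) × List (List ℕ)

/-- first generator, of order 8 -/
def gA : Pair := ([[2,2,0,3],[1,5,5,0],[6,1,1,1],[4,1,4,6]], [[2,1,0,2,2,2,1,0,1,2,0,1],[1,1,2,0,2,1,0,2,2,2,1,0],[1,1,0,2,2,0,0,2,1,2,2,2],[1,2,2,0,0,1,2,0,2,2,2,1],[1,2,1,2,1,2,2,0,2,0,2,0],[2,2,2,2,2,2,0,1,0,1,0,1],[1,1,2,0,2,1,1,1,2,0,2,1],[1,2,0,1,1,1,1,2,0,1,1,1],[1,2,2,0,0,1,1,2,2,0,0,1],[2,2,0,1,1,0,2,2,0,1,1,0],[2,2,2,2,2,2,2,2,2,2,2,2],[2,1,2,1,2,1,2,1,2,1,2,1]])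

/-- its inverse -/
def gAi : Pair := ([[6,1,0,4],[4,1,2,0],[6,6,5,2],[3,1,1,2]], [[1,1,2,0,2,1,0,2,2,2,1,0],[1,2,0,1,1,1,2,0,2,1,0,2],[1,1,0,1,0,1,0,2,2,1,2,1],[1,2,1,0,1,0,2,0,1,1,1,1],[1,1,1,2,2,2,0,2,2,0,0,1],[1,2,2,2,2,1,2,0,0,1,1,0],[2,2,1,0,1,2,1,2,0,1,1,1],[2,1,0,2,2,2,2,2,1,0,1,2],[2,2,0,2,0,2,1,2,1,0,1,0],[2,1,2,0,2,0,2,2,0,2,0,2],[2,2,2,1,1,1,1,2,2,2,2,1],[2,1,1,1,1,2,2,2,2,1,1,1]])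

/-- second generator, of order 12 -/
def gB : Pair := ([[6,1,1,1],[4,1,4,6],[4,6,1,5],[3,3,6,6]], [[2,2,2,2,2,2,2,2,2,2,2,2],[2,1,2,1,2,1,2,1,2,1,2,1],[0,2,2,1,1,0,0,2,2,1,1,0],[2,0,1,1,0,2,2,0,1,1,0,2],[2,1,2,2,1,2,2,1,2,2,1,2],[1,1,2,1,2,2,1,1,2,1,2,2],[1,0,1,0,1,0,0,2,0,2,0,2],[0,2,0,2,0,2,2,0,2,0,2,0],[2,2,0,2,1,2,2,1,2,0,2,2],[2,1,2,0,2,2,1,1,0,1,2,1],[0,2,1,0,0,1,2,0,0,2,1,0],[2,0,0,2,1,0,0,1,2,0,0,2]])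

/-- its inverse -/
def gBi : Pair := ([[6,5,1,6],[6,1,3,6],[4,1,1,1],[4,3,4,6]], [[0,2,1,1,1,0,2,1,0,1,2,2],[2,0,1,2,0,2,1,1,1,0,2,1],[1,0,0,1,1,0,2,2,1,2,2,2],[0,2,1,0,0,2,2,1,2,2,2,1],[0,1,2,1,1,0,1,2,2,0,2,2],[1,0,1,1,0,2,2,2,0,1,2,1],[1,0,2,1,0,1,1,2,0,2,1,1],[0,2,1,1,1,0,2,2,2,0,1,2],[0,1,2,0,0,1,1,1,2,1,1,1],[1,0,0,1,1,0,1,2,1,1,1,2],[2,0,2,2,0,1,2,1,1,0,1,1],[0,1,2,1,1,0,1,1,0,2,1,2]])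

set_option maxRecDepth 1000000 in
/-- the 240 elements -/
def L : List Pair := [
  ([[1,0,0,0],[0,1,0,0],[0,0,1,0],[0,0,0,1]], [[1,0,0,0,0,0,0,0,0,0,0,0],[0,1,0,0,0,0,0,0,0,0,0,0],[0,0,1,0,0,0,0,0,0,0,0,0],[0,0,0,1,0,0,0,0,0,0,0,0],[0,0,0,0,1,0,0,0,0,0,0,0],[0,0,0,0,0,1,0,0,0,0,0,0],[0,0,0,0,0,0,1,0,0,0,0,0],[0,0,0,0,0,0,0,1,0,0,0,0],[0,0,0,0,0,0,0,0,1,0,0,0],[0,0,0,0,0,0,0,0,0,1,0,0],[0,0,0,0,0,0,0,0,0,0,1,0],[0,0,0,0,0,0,0,0,0,0,0,1]]),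
  ([[2,2,0,3],[1,5,5,0],[6,1,1,1],[4,1,4,6]], [[2,1,0,2,2,2,1,0,1,2,0,1],[1,1,2,0,2,1,0,2,2,2,1,0],[1,1,0,2,2,0,0,2,1,2,2,2],[1,2,2,0,0,1,2,0,2,2,2,1],[1,2,1,2,1,2,2,0,2,0,2,0],[2,2,2,2,2,2,0,1,0,1,0,1],[1,1,2,0,2,1,1,1,2,0,2,1],[1,2,0,1,1,1,1,2,0,1,1,1],[1,2,2,0,0,1,1,2,2,0,0,1],[2,2,0,1,1,0,2,2,0,1,1,0],[2,2,2,2,2,2,2,2,2,2,2,2],[2,1,2,1,2,1,2,1,2,1,2,1]]),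
  ([[6,1,1,1],[4,1,4,6],[4,6,1,5],[3,3,6,6]], [[2,2,2,2,2,2,2,2,2,2,2,2],[2,1,2,1,2,1,2,1,2,1,2,1],[0,2,2,1,1,0,0,2,2,1,1,0],[2,0,1,1,0,2,2,0,1,1,0,2],[2,1,2,2,1,2,2,1,2,2,1,2],[1,1,2,1,2,2,1,1,2,1,2,2],[1,0,1,0,1,0,0,2,0,2,0,2],[0,2,0,2,0,2,2,0,2,0,2,0],[2,2,0,2,1,2,2,1,2,0,2,2],[2,1,2,0,2,2,1,1,0,1,2,1],[0,2,1,0,0,1,2,0,0,2,1,0],[2,0,0,2,1,0,0,1,2,0,0,2]]),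
  ([[4,3,1,3],[2,4,2,1],[2,5,3,4],[1,2,5,3]], [[0,2,0,0,0,0,0,0,0,0,0,0],[1,0,0,0,0,0,0,0,0,0,0,0],[1,2,0,1,0,0,0,0,0,0,0,0],[1,1,2,0,0,0,0,0,0,0,0,0],[2,0,1,2,0,2,0,0,0,0,0,0],[0,2,1,1,1,0,0,0,0,0,0,0],[1,1,0,0,0,0,0,1,0,0,0,0],[2,1,0,0,0,0,2,0,0,0,0,0],[0,2,2,2,0,0,2,1,0,2,0,0],[1,0,1,2,0,0,2,2,1,0,0,0],[1,2,0,2,1,1,1,0,2,1,0,1],[1,1,1,0,2,1,0,1,2,2,2,0]]),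
  ([[1,6,0,4],[4,1,5,0],[5,2,3,2],[6,5,6,3]], [[1,1,0,2,1,2,2,0,2,2,0,1],[2,1,1,0,1,1,0,2,1,2,2,0],[1,2,1,1,1,2,0,1,2,0,0,1],[1,1,2,1,1,1,2,0,0,2,2,0],[2,2,2,0,1,2,1,0,2,1,0,1],[1,2,0,2,1,1,0,1,2,2,2,0],[1,2,2,0,2,2,1,0,1,1,0,2],[1,1,0,2,1,2,0,1,2,1,1,0],[2,2,1,2,2,2,0,2,1,0,0,2],[1,2,1,1,1,2,1,0,0,1,1,0],[2,1,0,1,2,2,2,0,1,2,0,2],[2,2,2,0,1,2,0,2,1,1,1,0]]),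
  ([[2,5,3,4],[1,2,5,3],[5,2,2,1],[6,5,3,2]], [[1,2,0,2,1,1,1,0,2,1,0,1],[1,1,1,0,2,1,0,1,2,2,2,0],[2,2,1,2,2,2,0,2,1,0,0,2],[1,2,1,1,1,2,1,0,0,1,1,0],[2,1,1,0,1,1,2,0,2,2,0,1],[2,2,0,1,2,1,0,2,1,2,2,0],[2,2,2,0,1,2,1,0,2,1,0,1],[1,2,0,2,1,1,0,1,2,2,2,0],[2,1,2,2,2,1,0,2,1,0,0,2],[2,2,1,2,2,2,1,0,0,1,1,0],[1,1,0,2,1,2,2,0,2,2,0,1],[2,1,1,0,1,1,0,2,1,2,2,0]]),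
  ([[5,2,3,2],[6,5,6,3],[4,3,3,5],[2,4,1,3]], [[2,1,0,1,2,2,2,0,1,2,0,2],[2,2,2,0,1,2,0,2,1,1,1,0],[2,0,2,0,2,2,1,1,1,1,0,2],[0,2,0,2,1,2,2,1,2,1,1,0],[1,1,1,2,2,2,0,1,1,0,0,2],[2,1,1,1,1,2,2,0,0,1,1,0],[0,2,1,1,1,0,1,0,2,1,0,1],[1,0,2,1,0,1,0,1,2,2,2,0],[2,1,2,1,1,0,2,2,2,2,0,1],[2,2,2,2,0,1,1,2,1,2,2,0],[2,0,0,1,1,0,0,2,2,0,0,1],[0,2,2,0,0,1,1,0,0,2,2,0]]),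
  ([[1,6,0,3],[3,6,5,0],[1,1,2,5],[4,6,6,5]], [[2,2,1,0,1,2,0,1,1,1,2,0],[2,1,0,2,2,2,1,0,1,2,0,1],[2,2,0,2,0,2,0,1,1,2,1,2],[2,1,2,0,2,0,1,0,2,2,2,2],[2,2,2,1,1,1,0,1,1,0,0,2],[2,1,1,1,1,2,1,0,0,2,2,0],[1,1,2,0,2,1,2,1,0,2,2,2],[1,2,0,1,1,1,1,1,2,0,2,1],[1,1,0,1,0,1,2,1,2,0,2,0],[1,2,1,0,1,0,1,1,0,1,0,1],[1,1,1,2,2,2,2,1,1,1,1,2],[1,2,2,2,2,1,1,1,1,2,2,2]]),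
  ([[0,1,0,3],[4,0,5,0],[0,2,0,1],[1,0,4,0]], [[1,2,1,2,1,2,1,2,1,2,1,2],[2,2,2,2,2,2,2,2,2,2,2,2],[2,1,1,2,0,0,2,1,1,2,0,0],[1,1,2,2,0,0,1,1,2,2,0,0],[1,2,0,0,0,0,1,2,0,0,0,0],[2,2,0,0,0,0,2,2,0,0,0,0],[1,2,1,2,1,2,0,0,0,0,0,0],[2,2,2,2,2,2,0,0,0,0,0,0],[2,1,1,2,0,0,0,0,0,0,0,0],[1,1,2,2,0,0,0,0,0,0,0,0],[1,2,0,0,0,0,0,0,0,0,0,0],[2,2,0,0,0,0,0,0,0,0,0,0]]),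
  ([[3,1,4,6],[4,4,3,3],[3,4,0,2],[2,4,1,0]], [[2,2,0,2,2,1,2,0,1,1,0,1],[2,1,2,0,1,1,0,1,1,2,1,0],[1,1,2,0,1,0,1,0,1,2,2,1],[1,2,0,1,0,2,0,2,2,2,1,1],[2,2,2,1,1,1,2,0,0,1,1,0],[2,1,1,1,1,2,0,1,1,0,0,2],[2,2,0,2,2,1,1,2,1,0,2,2],[2,1,2,0,1,1,2,2,0,2,2,1],[1,1,2,0,1,0,2,1,0,2,0,1],[1,2,0,1,0,2,1,1,2,0,1,0],[2,2,2,1,1,1,1,2,2,2,2,1],[2,1,1,1,1,2,2,2,2,1,1,1]]),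
  ([[0,5,0,5],[6,0,6,0],[0,3,0,2],[5,0,1,0]], [[0,0,0,0,0,0,0,0,0,0,2,1],[0,0,0,0,0,0,0,0,0,0,1,1],[0,0,0,0,0,0,0,0,2,1,0,0],[0,0,0,0,0,0,0,0,1,1,0,0],[0,0,0,0,0,0,2,1,0,0,0,0],[0,0,0,0,0,0,1,1,0,0,0,0],[0,0,0,0,2,1,0,0,0,0,0,0],[0,0,0,0,1,1,0,0,0,0,0,0],[0,0,2,1,0,0,0,0,0,0,0,0],[0,0,1,1,0,0,0,0,0,0,0,0],[2,1,0,0,0,0,0,0,0,0,0,0],[1,1,0,0,0,0,0,0,0,0,0,0]]),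
  ([[1,1,2,5],[4,6,6,5],[0,2,2,2],[1,0,1,5]], [[1,1,1,2,2,2,2,1,1,1,1,2],[1,2,2,2,2,1,1,1,1,2,2,2],[1,1,2,0,1,0,2,1,0,2,0,1],[1,2,0,1,0,2,1,1,2,0,1,0],[1,1,0,1,1,2,2,1,2,0,1,1],[1,2,1,0,2,2,1,1,0,1,1,2],[2,2,2,1,1,1,2,0,0,1,1,0],[2,1,1,1,1,2,0,1,1,0,0,2],[2,2,1,0,2,0,2,0,2,1,1,2],[2,1,0,2,0,1,0,1,1,1,2,2],[2,2,0,2,2,1,2,0,1,1,0,1],[2,1,2,0,1,1,0,1,1,2,1,0]]),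
  ([[0,2,0,1],[1,0,4,0],[0,1,0,5],[4,0,6,0]], [[1,2,0,0,0,0,0,0,0,0,0,0],[2,2,0,0,0,0,0,0,0,0,0,0],[0,0,2,1,0,0,0,0,0,0,0,0],[0,0,1,1,0,0,0,0,0,0,0,0],[0,0,0,0,1,2,0,0,0,0,0,0],[0,0,0,0,2,2,0,0,0,0,0,0],[0,0,0,0,0,0,2,1,0,0,0,0],[0,0,0,0,0,0,1,1,0,0,0,0],[0,0,0,0,0,0,0,0,1,2,0,0],[0,0,0,0,0,0,0,0,2,2,0,0],[0,0,0,0,0,0,0,0,0,0,2,1],[0,0,0,0,0,0,0,0,0,0,1,1]]),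
  ([[3,4,0,2],[2,4,1,0],[0,3,3,3],[5,0,5,4]], [[2,2,2,1,1,1,1,2,2,2,2,1],[2,1,1,1,1,2,2,2,2,1,1,1],[0,0,2,2,1,2,0,0,1,2,1,1],[0,0,2,1,2,2,0,0,2,2,1,2],[0,0,0,0,2,2,0,0,0,0,1,2],[0,0,0,0,2,1,0,0,0,0,2,2],[0,0,0,0,0,0,2,2,2,1,1,1],[0,0,0,0,0,0,2,1,1,1,1,2],[0,0,0,0,0,0,0,0,2,2,1,2],[0,0,0,0,0,0,0,0,2,1,2,2],[0,0,0,0,0,0,0,0,0,0,2,2],[0,0,0,0,0,0,0,0,0,0,2,1]]),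
  ([[0,3,0,2],[5,0,1,0],[0,5,0,4],[6,0,2,0]], [[2,1,0,0,0,0,0,0,0,0,0,0],[1,1,0,0,0,0,0,0,0,0,0,0],[1,2,1,2,0,0,0,0,0,0,0,0],[2,2,2,2,0,0,0,0,0,0,0,0],[2,1,1,2,2,1,0,0,0,0,0,0],[1,1,2,2,1,1,0,0,0,0,0,0],[2,1,0,0,0,0,1,2,0,0,0,0],[1,1,0,0,0,0,2,2,0,0,0,0],[1,2,1,2,0,0,2,1,2,1,0,0],[2,2,2,2,0,0,1,1,1,1,0,0],[2,1,1,2,2,1,1,2,2,1,1,2],[1,1,2,2,1,1,2,2,1,1,2,2]]),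
  ([[6,0,0,0],[0,6,0,0],[0,0,6,0],[0,0,0,6]], [[2,0,0,0,0,0,0,0,0,0,0,0],[0,2,0,0,0,0,0,0,0,0,0,0],[0,0,2,0,0,0,0,0,0,0,0,0],[0,0,0,2,0,0,0,0,0,0,0,0],[0,0,0,0,2,0,0,0,0,0,0,0],[0,0,0,0,0,2,0,0,0,0,0,0],[0,0,0,0,0,0,2,0,0,0,0,0],[0,0,0,0,0,0,0,2,0,0,0,0],[0,0,0,0,0,0,0,0,2,0,0,0],[0,0,0,0,0,0,0,0,0,2,0,0],[0,0,0,0,0,0,0,0,0,0,2,0],[0,0,0,0,0,0,0,0,0,0,0,2]]),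
  ([[4,2,1,6],[6,4,4,1],[5,1,2,5],[3,5,1,2]], [[1,2,2,0,2,2,0,1,2,1,1,0],[1,1,0,2,1,2,2,0,2,2,0,1],[0,1,1,0,1,2,1,1,1,2,0,1],[2,0,0,1,1,1,2,1,1,1,2,0],[1,1,2,2,1,1,2,0,1,0,2,0],[2,1,1,2,2,1,0,2,0,1,0,2],[1,0,1,1,0,2,2,0,2,2,0,1],[0,1,2,1,1,0,0,2,1,2,2,0],[1,2,2,2,1,0,2,1,1,1,2,0],[1,1,1,2,0,1,2,2,2,1,0,2],[0,1,0,2,0,1,0,2,0,1,0,2],[2,0,1,0,2,0,1,0,2,0,1,0]]),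
  ([[6,1,3,4],[3,6,5,3],[6,4,0,6],[5,6,4,0]], [[2,2,2,0,1,2,0,2,1,1,1,0],[1,2,0,2,1,1,1,0,2,1,0,1],[1,0,0,0,0,2,2,2,0,0,2,1],[0,1,0,0,1,0,1,2,0,0,2,2],[1,2,0,1,1,1,1,0,1,2,0,1],[1,1,2,0,2,1,0,1,1,1,2,0],[0,2,1,1,1,0,1,2,0,2,1,1],[1,0,2,1,0,1,1,1,1,0,2,1],[2,2,0,0,2,1,0,1,0,0,1,0],[1,2,0,0,2,2,2,0,0,0,0,1],[1,0,1,2,0,1,1,1,2,0,2,1],[0,1,1,1,2,0,2,1,0,2,2,2]]),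
  ([[6,3,1,3],[2,6,2,1],[4,5,0,4],[1,4,5,0]], [[1,1,1,0,2,1,0,1,2,2,2,0],[2,1,0,1,2,2,2,0,1,2,0,2],[0,1,1,0,2,2,1,2,2,2,0,2],[2,0,0,1,1,2,1,1,1,2,1,0],[1,2,1,2,1,2,1,0,1,0,1,0],[1,1,1,1,1,1,0,1,0,1,0,1],[2,0,1,2,0,2,2,0,1,2,0,2],[0,2,1,1,1,0,0,2,1,1,1,0],[1,1,1,2,1,0,1,1,1,2,1,0],[2,1,1,1,0,1,2,1,1,1,0,1],[0,1,0,1,0,1,0,1,0,1,0,1],[2,0,2,0,2,0,2,0,2,0,2,0]]),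
  ([[6,0,5,0],[0,6,0,5],[4,0,0,0],[0,4,0,0]], [[1,0,2,0,1,0,2,0,1,0,2,0],[0,1,0,2,0,1,0,2,0,1,0,2],[0,0,1,0,1,0,0,0,2,0,2,0],[0,0,0,1,0,1,0,0,0,2,0,2],[0,0,0,0,1,0,0,0,0,0,2,0],[0,0,0,0,0,1,0,0,0,0,0,2],[0,0,0,0,0,0,1,0,2,0,1,0],[0,0,0,0,0,0,0,1,0,2,0,1],[0,0,0,0,0,0,0,0,1,0,1,0],[0,0,0,0,0,0,0,0,0,1,0,1],[0,0,0,0,0,0,0,0,0,0,1,0],[0,0,0,0,0,0,0,0,0,0,0,1]]),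
  ([[0,4,5,2],[5,0,6,5],[5,6,3,4],[4,5,5,3]], [[1,0,2,2,0,2,2,1,2,0,1,1],[0,1,1,2,1,0,2,2,0,2,2,1],[0,1,2,2,2,1,2,2,2,0,0,1],[2,0,1,2,2,2,1,2,0,2,2,0],[2,0,1,0,2,0,1,2,2,1,1,2],[0,2,0,1,0,2,1,1,2,2,1,1],[0,1,1,2,1,0,0,2,2,1,2,0],[2,0,1,1,0,1,1,0,2,2,0,2],[2,0,1,2,2,2,1,0,2,1,1,1],[0,2,1,1,1,2,0,1,2,2,2,1],[0,2,0,1,0,2,0,1,0,2,0,1],[1,0,2,0,1,0,2,0,1,0,2,0]]),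
  ([[4,2,3,2],[6,4,6,3],[4,3,2,5],[2,4,1,2]], [[0,2,0,2,0,2,0,2,0,2,0,2],[1,0,1,0,1,0,1,0,1,0,1,0],[1,0,1,1,1,2,1,0,1,1,1,2],[0,1,2,1,1,1,0,1,2,1,1,1],[0,1,1,1,2,0,0,1,1,1,2,0],[2,0,2,1,0,2,2,0,2,1,0,2],[1,0,1,0,1,0,1,1,1,1,1,1],[0,1,0,1,0,1,2,1,2,1,2,1],[0,1,2,1,1,1,2,1,1,0,0,2],[2,0,2,2,2,1,2,2,0,1,1,0],[2,0,2,1,0,2,2,2,1,0,1,2],[0,2,2,2,1,0,1,2,0,1,1,1]]),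
  ([[0,6,1,4],[4,0,5,1],[4,2,3,2],[6,4,6,3]], [[2,1,2,2,1,2,1,1,2,1,2,2],[2,2,1,2,1,1,2,1,2,2,1,2],[0,2,2,1,1,0,2,0,1,1,0,2],[1,0,2,2,0,1,0,2,2,1,1,0],[2,2,2,2,2,2,2,1,2,1,2,1],[1,2,1,2,1,2,2,2,2,2,2,2],[2,0,0,2,1,0,2,0,0,2,1,0],[0,2,1,0,0,1,0,2,1,0,0,1],[2,1,2,0,2,2,2,1,2,0,2,2],[2,2,0,2,1,2,2,2,0,2,1,2],[0,2,0,2,0,2,0,2,0,2,0,2],[1,0,1,0,1,0,1,0,1,0,1,0]]),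
  ([[0,0,6,0],[0,0,0,6],[1,0,6,0],[0,1,0,6]], [[0,0,0,0,0,0,0,0,0,0,2,0],[0,0,0,0,0,0,0,0,0,0,0,2],[0,0,0,0,0,0,0,0,1,0,1,0],[0,0,0,0,0,0,0,0,0,1,0,1],[0,0,0,0,0,0,2,0,1,0,2,0],[0,0,0,0,0,0,0,2,0,1,0,2],[0,0,0,0,1,0,0,0,0,0,2,0],[0,0,0,0,0,1,0,0,0,0,0,2],[0,0,2,0,2,0,0,0,1,0,1,0],[0,0,0,2,0,2,0,0,0,1,0,1],[1,0,2,0,1,0,2,0,1,0,2,0],[0,1,0,2,0,1,0,2,0,1,0,2]]),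
  ([[5,1,2,5],[3,5,1,2],[1,6,1,6],[4,1,4,1]], [[0,1,0,2,0,1,0,2,0,1,0,2],[2,0,1,0,2,0,1,0,2,0,1,0],[2,0,1,2,2,2,1,0,2,1,1,1],[0,2,1,1,1,2,0,1,2,2,2,1],[0,2,2,1,2,0,0,1,1,2,1,0],[1,0,2,2,0,2,2,0,1,1,0,1],[2,0,1,0,2,0,1,2,2,1,1,2],[0,2,0,1,0,2,1,1,2,2,1,1],[0,2,1,1,1,2,1,1,1,0,0,2],[1,0,2,1,1,1,2,1,0,1,1,0],[1,0,2,2,0,2,2,1,2,0,1,1],[0,1,1,2,1,0,2,2,0,2,2,1]]),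
  ([[6,4,0,6],[5,6,4,0],[0,3,4,2],[2,0,6,4]], [[1,0,1,2,0,1,1,1,2,0,2,1],[0,1,1,1,2,0,2,1,0,2,2,2],[0,1,2,1,1,1,2,1,1,0,0,2],[2,0,2,2,2,1,2,2,0,1,1,0],[2,0,2,0,2,0,2,2,2,2,2,2],[0,2,0,2,0,2,1,2,1,2,1,2],[0,1,1,1,2,0,0,1,1,1,2,0],[2,0,2,1,0,2,2,0,2,1,0,2],[2,0,2,2,2,1,2,0,2,2,2,1],[0,2,1,2,2,2,0,2,1,2,2,2],[0,2,0,2,0,2,0,2,0,2,0,2],[1,0,1,0,1,0,1,0,1,0,1,0]]),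
  ([[4,5,0,4],[1,4,5,0],[5,2,6,1],[6,5,3,6]], [[0,1,0,1,0,1,0,1,0,1,0,1],[2,0,2,0,2,0,2,0,2,0,2,0],[2,1,2,0,2,2,2,1,2,0,2,2],[2,2,0,2,1,2,2,2,0,2,1,2],[1,0,0,1,2,0,1,0,0,1,2,0],[0,1,2,0,0,2,0,1,2,0,0,2],[2,2,2,2,2,2,2,1,2,1,2,1],[1,2,1,2,1,2,2,2,2,2,2,2],[0,1,1,2,2,0,1,0,2,2,0,1],[2,0,1,1,0,2,0,1,1,2,2,0],[2,1,2,2,1,2,1,1,2,1,2,2],[2,2,1,2,1,1,2,1,2,2,1,2]]),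
  ([[4,0,0,0],[0,4,0,0],[5,0,2,0],[0,5,0,2]], [[0,0,0,0,0,0,0,0,0,0,1,0],[0,0,0,0,0,0,0,0,0,0,0,1],[0,0,0,0,0,0,0,0,2,0,1,0],[0,0,0,0,0,0,0,0,0,2,0,1],[0,0,0,0,0,0,1,0,1,0,1,0],[0,0,0,0,0,0,0,1,0,1,0,1],[0,0,0,0,2,0,0,0,0,0,2,0],[0,0,0,0,0,2,0,0,0,0,0,2],[0,0,1,0,2,0,0,0,1,0,2,0],[0,0,0,1,0,2,0,0,0,1,0,2],[2,0,2,0,2,0,2,0,2,0,2,0],[0,2,0,2,0,2,0,2,0,2,0,2]]),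
  ([[5,6,3,4],[4,5,5,3],[5,2,5,2],[6,5,6,5]], [[0,2,0,1,0,2,0,1,0,2,0,1],[1,0,2,0,1,0,2,0,1,0,2,0],[1,1,2,0,1,2,2,2,1,0,2,1],[2,1,0,2,1,1,1,2,0,1,2,2],[1,0,0,1,2,0,2,0,0,2,1,0],[0,1,2,0,0,2,0,2,1,0,0,1],[1,2,2,1,1,2,2,2,1,1,2,2],[1,1,2,2,1,1,1,2,2,1,1,2],[0,2,2,2,2,0,2,0,2,1,0,1],[1,0,1,2,0,2,0,2,2,2,2,0],[1,1,2,1,2,2,1,2,1,1,2,1],[2,1,2,2,1,2,1,1,2,1,2,2]]),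
  ([[4,3,2,5],[2,4,1,2],[0,1,6,3],[3,0,2,6]], [[2,0,2,1,0,2,2,2,1,0,1,2],[0,2,2,2,1,0,1,2,0,1,1,1],[1,2,2,1,2,0,2,0,1,0,2,2],[1,1,2,2,0,2,0,2,0,1,1,2],[0,2,1,0,0,1,1,2,1,1,2,1],[1,0,0,1,2,0,1,1,2,1,2,2],[2,2,1,0,1,2,2,1,0,2,2,2],[1,2,0,1,1,1,2,2,1,0,1,2],[2,0,1,0,2,2,0,1,0,2,2,1],[0,2,0,1,1,2,2,0,1,0,2,2],[1,2,1,1,2,1,2,2,1,2,1,1],[1,1,2,1,2,2,1,2,1,1,2,1]]),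
  ([[5,5,0,4],[6,2,2,0],[1,6,6,6],[3,6,3,1]], [[1,2,0,1,1,1,2,0,2,1,0,2],[2,2,1,0,1,2,0,1,1,1,2,0],[2,2,0,1,1,0,0,1,2,1,1,1],[2,1,1,0,0,2,1,0,1,1,1,2],[2,1,2,1,2,1,1,0,1,0,1,0],[1,1,1,1,1,1,0,2,0,2,0,2],[2,2,1,0,1,2,2,2,1,0,1,2],[2,1,0,2,2,2,2,1,0,2,2,2],[2,1,1,0,0,2,2,1,1,0,0,2],[1,1,0,2,2,0,1,1,0,2,2,0],[1,1,1,1,1,1,1,1,1,1,1,1],[1,2,1,2,1,2,1,2,1,2,1,2]]),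
  ([[1,6,6,6],[3,6,3,1],[3,1,6,2],[4,4,1,1]], [[1,1,1,1,1,1,1,1,1,1,1,1],[1,2,1,2,1,2,1,2,1,2,1,2],[0,1,1,2,2,0,0,1,1,2,2,0],[1,0,2,2,0,1,1,0,2,2,0,1],[1,2,1,1,2,1,1,2,1,1,2,1],[2,2,1,2,1,1,2,2,1,2,1,1],[2,0,2,0,2,0,0,1,0,1,0,1],[0,1,0,1,0,1,1,0,1,0,1,0],[1,1,0,1,2,1,1,2,1,0,1,1],[1,2,1,0,1,1,2,2,0,2,1,2],[0,1,2,0,0,2,1,0,0,1,2,0],[1,0,0,1,2,0,0,2,1,0,0,1]]),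
  ([[5,4,0,0],[2,2,0,0],[1,1,6,5],[4,6,6,1]], [[1,2,1,0,2,2,0,2,2,1,2,0],[2,2,0,2,2,1,2,0,1,1,0,1],[1,0,1,0,1,2,2,1,2,1,0,2],[0,2,0,2,2,2,1,1,1,1,2,0],[2,2,1,2,1,1,2,0,0,2,1,0],[2,1,2,2,1,2,0,1,2,0,0,2],[0,1,1,2,1,0,1,0,2,2,0,2],[1,0,2,2,0,2,0,2,2,1,2,0],[1,2,1,2,0,1,2,2,2,2,1,0],[2,2,2,2,1,0,2,1,2,1,0,2],[1,0,0,1,2,0,0,2,1,0,0,1],[0,2,1,0,0,1,2,0,0,2,1,0]]),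
  ([[5,2,0,1],[1,2,4,0],[1,5,6,2],[6,6,1,1]], [[0,0,0,0,0,0,0,0,0,0,2,2],[0,0,0,0,0,0,0,0,0,0,2,1],[0,0,0,0,0,0,0,0,1,1,1,0],[0,0,0,0,0,0,0,0,1,2,0,2],[0,0,0,0,0,0,2,2,1,0,1,2],[0,0,0,0,0,0,2,1,0,2,2,2],[0,0,0,0,1,1,0,0,0,0,0,2],[0,0,0,0,1,2,0,0,0,0,2,0],[0,0,2,2,2,0,0,0,0,1,2,2],[0,0,2,1,0,1,0,0,1,0,2,1],[1,1,2,0,2,1,0,2,2,2,1,0],[1,2,0,1,1,1,2,0,2,1,0,2]]),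
  ([[5,3,3,3],[5,2,5,4],[5,3,2,5],[5,2,6,5]], [[2,1,1,1,1,2,2,2,2,1,1,1],[1,1,1,2,2,2,2,1,1,1,1,2],[1,1,2,1,0,0,2,1,2,2,0,0],[1,2,1,1,0,0,1,1,2,1,0,0],[1,2,0,0,0,0,1,1,0,0,0,0],[2,2,0,0,0,0,1,2,0,0,0,0],[1,1,1,2,2,2,0,0,0,0,0,0],[1,2,2,2,2,1,0,0,0,0,0,0],[1,2,1,1,0,0,0,0,0,0,0,0],[2,2,1,2,0,0,0,0,0,0,0,0],[2,2,0,0,0,0,0,0,0,0,0,0],[2,1,0,0,0,0,0,0,0,0,0,0]]),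
  ([[1,2,2,2],[1,6,1,5],[0,0,2,3],[0,0,5,5]], [[1,1,0,0,0,0,0,0,0,0,0,0],[1,2,0,0,0,0,0,0,0,0,0,0],[2,0,1,1,0,0,0,0,0,0,0,0],[0,1,1,2,0,0,0,0,0,0,0,0],[2,1,1,0,1,1,0,0,0,0,0,0],[1,1,0,2,1,2,0,0,0,0,0,0],[0,1,0,0,0,0,1,1,0,0,0,0],[1,0,0,0,0,0,1,2,0,0,0,0],[1,1,0,1,0,0,2,0,1,1,0,0],[1,2,1,0,0,0,0,1,1,2,0,0],[2,0,2,2,0,1,2,1,1,0,1,1],[0,1,2,1,1,0,1,1,0,2,1,2]]),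
  ([[5,3,0,2],[5,2,1,0],[1,2,6,1],[1,6,4,1]], [[1,2,2,2,2,1,1,1,1,2,2,2],[2,2,2,1,1,1,1,2,2,2,2,1],[0,1,0,1,2,1,2,0,2,0,2,2],[1,0,1,0,1,1,0,1,0,1,2,1],[1,1,1,0,2,1,2,1,0,1,2,2],[1,2,0,2,1,1,1,1,1,0,2,1],[1,0,0,2,2,0,2,2,2,1,1,1],[0,2,2,0,0,1,2,1,1,1,1,2],[1,2,1,2,2,0,1,0,1,0,1,1],[2,2,2,2,0,1,0,2,0,2,1,2],[0,1,2,2,2,0,1,2,0,2,1,1],[1,0,2,1,0,1,2,2,2,0,1,2]]),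
  ([[5,3,2,5],[5,2,6,5],[0,0,6,2],[0,0,1,1]], [[2,2,0,0,0,0,0,0,0,0,0,0],[2,1,0,0,0,0,0,0,0,0,0,0],[0,2,2,2,0,0,0,0,0,0,0,0],[2,0,2,1,0,0,0,0,0,0,0,0],[2,1,0,1,2,2,0,0,0,0,0,0],[1,1,1,0,2,1,0,0,0,0,0,0],[1,0,0,0,0,0,2,2,0,0,0,0],[0,2,0,0,0,0,2,1,0,0,0,0],[2,2,1,0,0,0,0,2,2,2,0,0],[2,1,0,2,0,0,2,0,2,1,0,0],[0,2,1,1,1,0,2,1,0,1,2,2],[2,0,1,2,0,2,1,1,1,0,2,1]]),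
  ([[0,3,5,2],[5,0,1,2],[1,1,0,5],[4,6,6,0]], [[0,1,2,0,0,2,1,0,0,1,2,0],[1,0,0,1,2,0,0,2,1,0,0,1],[2,2,0,2,1,2,2,1,2,0,2,2],[2,1,2,0,2,2,1,1,0,1,2,1],[2,0,2,0,2,0,0,1,0,1,0,1],[0,1,0,1,0,1,1,0,1,0,1,0],[2,1,2,2,1,2,2,1,2,2,1,2],[1,1,2,1,2,2,1,1,2,1,2,2],[0,1,1,2,2,0,0,1,1,2,2,0],[1,0,2,2,0,1,1,0,2,2,0,1],[2,2,2,2,2,2,2,2,2,2,2,2],[2,1,2,1,2,1,2,1,2,1,2,1]]),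
  ([[0,1,4,3],[4,0,5,3],[3,4,4,4],[2,4,2,3]], [[2,1,0,2,2,2,1,0,1,2,0,1],[1,1,2,0,2,1,0,2,2,2,1,0],[0,2,0,1,1,2,1,2,2,1,2,0],[2,0,1,0,2,2,2,2,1,1,0,1],[2,2,1,2,1,1,0,1,2,0,0,2],[2,1,2,2,1,2,1,0,0,1,2,0],[2,0,2,1,0,2,0,1,1,1,2,0],[0,1,1,1,2,0,1,0,1,2,0,1],[2,1,1,2,1,0,1,1,2,2,0,2],[1,1,2,2,0,2,1,2,2,1,2,0],[0,2,1,0,0,1,2,0,0,2,1,0],[2,0,0,2,1,0,0,1,2,0,0,2]]),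
  ([[0,6,5,3],[3,0,5,2],[1,5,0,0],[6,6,0,0]], [[1,1,2,2,1,1,2,2,1,1,2,2],[1,2,2,1,1,2,2,1,1,2,2,1],[2,0,2,1,0,1,1,0,1,2,0,2],[0,1,1,1,1,0,0,2,2,2,2,0],[2,1,2,2,1,2,1,2,1,1,2,1],[1,1,2,1,2,2,2,2,1,2,1,1],[0,1,0,2,0,1,1,0,2,0,1,0],[1,0,2,0,1,0,0,2,0,1,0,2],[1,1,2,0,1,2,1,2,0,1,2,2],[1,2,0,1,2,2,2,2,1,0,2,1],[2,0,0,2,1,0,0,1,2,0,0,2],[0,1,2,0,0,2,1,0,0,1,2,0]]),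
  ([[0,5,5,5],[6,0,6,2],[1,6,0,3],[3,6,5,0]], [[1,1,0,1,1,2,1,0,2,2,0,2],[1,2,1,0,2,2,0,2,2,1,2,0],[1,1,1,2,1,1,1,0,0,2,1,0],[1,2,2,2,1,2,0,2,2,0,0,2],[1,1,2,0,2,1,1,0,1,2,0,1],[1,2,0,1,1,1,0,2,2,2,1,0],[2,2,0,2,2,1,0,1,1,2,1,0],[2,1,2,0,1,1,1,0,2,2,0,2],[2,2,2,1,2,2,0,1,1,0,0,1],[2,1,1,1,2,1,1,0,0,2,1,0],[2,2,1,0,1,2,0,1,1,1,2,0],[2,1,0,2,2,2,1,0,1,2,0,1]]),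
  ([[1,2,0,6],[1,6,3,0],[1,2,2,2],[1,6,1,5]], [[0,2,1,1,1,0,2,1,0,1,2,2],[2,0,1,2,0,2,1,1,1,0,2,1],[1,1,2,0,0,0,0,1,1,1,0,0],[1,2,0,1,0,0,1,0,1,2,0,0],[1,0,0,0,0,0,2,2,0,0,0,0],[0,2,0,0,0,0,2,1,0,0,0,0],[1,2,0,2,1,1,0,0,0,0,0,0],[2,2,2,0,1,2,0,0,0,0,0,0],[0,2,2,2,0,0,0,0,0,0,0,0],[2,0,2,1,0,0,0,0,0,0,0,0],[1,1,0,0,0,0,0,0,0,0,0,0],[1,2,0,0,0,0,0,0,0,0,0,0]]),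
  ([[1,2,6,1],[1,6,4,1],[3,6,6,6],[3,4,3,1]], [[0,1,2,2,2,0,1,2,0,2,1,1],[1,0,2,1,0,1,2,2,2,0,1,2],[2,0,0,2,2,0,1,1,2,1,1,1],[0,1,2,0,0,1,1,2,1,1,1,2],[0,2,1,2,2,0,2,1,1,0,1,1],[2,0,2,2,0,1,1,1,0,2,1,2],[2,0,1,2,0,2,2,1,0,1,2,2],[0,1,2,2,2,0,1,1,1,0,2,1],[0,2,1,0,0,2,2,2,1,2,2,2],[2,0,0,2,2,0,2,1,2,2,2,1],[1,0,1,1,0,2,1,2,2,0,2,2],[0,2,1,2,2,0,2,2,0,1,2,1]]),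
  ([[0,0,5,4],[0,0,2,2],[1,2,0,6],[1,6,3,0]], [[1,0,1,1,0,2,1,2,2,0,2,2],[0,2,1,2,2,0,2,2,0,1,2,1],[0,1,2,0,0,1,1,1,2,1,1,1],[1,0,0,1,1,0,1,2,1,1,1,2],[2,0,1,2,0,2,2,1,0,1,2,2],[0,1,2,2,2,0,1,1,1,0,2,1],[0,1,2,1,1,0,1,2,2,0,2,2],[1,0,1,1,0,2,2,2,0,1,2,1],[2,0,0,2,2,0,1,1,2,1,1,1],[0,1,2,0,0,1,1,2,1,1,1,2],[0,2,1,1,1,0,2,1,0,1,2,2],[2,0,1,2,0,2,1,1,1,0,2,1]]),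
  ([[3,1,6,2],[4,4,1,1],[2,2,0,3],[1,5,5,0]], [[0,1,2,0,0,2,1,0,0,1,2,0],[1,0,0,1,2,0,0,2,1,0,0,1],[2,1,1,2,1,0,1,1,2,2,0,2],[1,1,2,2,0,2,1,2,2,1,2,0],[1,0,1,2,0,1,0,2,2,2,1,0],[0,2,2,2,1,0,2,0,2,1,0,2],[2,2,1,2,1,1,0,1,2,0,0,2],[2,1,2,2,1,2,1,0,0,1,2,0],[0,1,0,2,2,1,2,1,1,2,1,0],[1,0,2,0,1,1,1,1,2,2,0,2],[2,1,0,2,2,2,1,0,1,2,0,1],[1,1,2,0,2,1,0,2,2,2,1,0]]),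
  ([[1,1,6,5],[4,6,6,1],[3,4,6,5],[2,4,6,1]], [[1,0,0,1,2,0,0,2,1,0,0,1],[0,2,1,0,0,1,2,0,0,2,1,0],[1,1,2,0,1,2,1,2,0,1,2,2],[1,2,0,1,2,2,2,2,1,0,2,1],[0,2,0,1,0,2,2,0,1,0,2,0],[2,0,1,0,2,0,0,1,0,2,0,1],[2,1,2,2,1,2,1,2,1,1,2,1],[1,1,2,1,2,2,2,2,1,2,1,1],[1,0,1,2,0,2,2,0,2,1,0,1],[0,2,2,2,2,0,0,1,1,1,1,0],[1,1,2,2,1,1,2,2,1,1,2,2],[1,2,2,1,1,2,2,1,1,2,2,1]]),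
  ([[1,5,6,2],[6,6,1,1],[3,3,6,1],[5,4,4,1]], [[1,1,2,0,2,1,0,2,2,2,1,0],[1,2,0,1,1,1,2,0,2,1,0,2],[2,2,2,1,2,2,0,1,1,0,0,1],[2,1,1,1,2,1,1,0,0,2,1,0],[1,1,0,1,1,2,0,2,2,1,2,0],[1,2,1,0,2,2,2,0,1,1,0,1],[1,1,2,0,2,1,1,0,1,2,0,1],[1,2,0,1,1,1,0,2,2,2,1,0],[2,2,2,1,2,2,2,0,0,1,2,0],[2,1,1,1,2,1,0,1,1,0,0,1],[1,1,0,1,1,2,1,0,2,2,0,2],[1,2,1,0,2,2,0,2,2,1,2,0]]),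
  ([[0,0,2,3],[0,0,5,5],[6,5,0,1],[6,1,4,0]], [[2,0,2,2,0,1,2,1,1,0,1,1],[0,1,2,1,1,0,1,1,0,2,1,2],[0,2,1,0,0,2,2,2,1,2,2,2],[2,0,0,2,2,0,2,1,2,2,2,1],[1,0,2,1,0,1,1,2,0,2,1,1],[0,2,1,1,1,0,2,2,2,0,1,2],[0,2,1,2,2,0,2,1,1,0,1,1],[2,0,2,2,0,1,1,1,0,2,1,2],[1,0,0,1,1,0,2,2,1,2,2,2],[0,2,1,0,0,2,2,1,2,2,2,1],[0,1,2,2,2,0,1,2,0,2,1,1],[1,0,2,1,0,1,2,2,2,0,1,2]]),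
  ([[0,0,6,2],[0,0,1,1],[2,4,4,4],[2,5,2,3]], [[0,2,1,1,1,0,2,1,0,1,2,2],[2,0,1,2,0,2,1,1,1,0,2,1],[1,2,1,2,2,0,1,0,1,0,1,1],[2,2,2,2,0,1,0,2,0,2,1,2],[2,0,0,1,1,0,1,1,1,2,2,2],[0,1,1,0,0,2,1,2,2,2,2,1],[1,1,1,0,2,1,2,1,0,1,2,2],[1,2,0,2,1,1,1,1,1,0,2,1],[0,2,0,2,1,2,1,0,1,0,1,1],[2,0,2,0,2,2,0,2,0,2,1,2],[1,2,2,2,2,1,1,1,1,2,2,2],[2,2,2,1,1,1,1,2,2,2,2,1]]),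
  ([[1,1,0,5],[4,6,6,0],[1,5,2,3],[6,6,5,5]], [[2,2,2,2,2,2,2,2,2,2,2,2],[2,1,2,1,2,1,2,1,2,1,2,1],[1,0,0,2,2,1,1,0,0,2,2,1],[0,2,2,0,1,1,0,2,2,0,1,1],[1,2,0,2,1,1,1,2,0,2,1,1],[2,2,2,0,1,2,2,2,2,0,1,2],[0,2,0,2,0,2,2,1,2,1,2,1],[2,0,2,0,2,0,1,1,1,1,1,1],[2,2,2,1,2,0,0,2,2,0,1,1],[2,1,1,1,0,1,2,0,0,1,1,2],[1,0,2,1,0,1,2,2,2,0,1,2],[0,2,1,1,1,0,2,1,0,1,2,2]]),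
  ([[3,4,4,4],[2,4,2,3],[3,3,0,1],[5,4,4,0]], [[0,2,1,0,0,1,2,0,0,2,1,0],[2,0,0,2,1,0,0,1,2,0,0,2],[1,0,1,1,2,2,0,2,1,2,2,1],[0,2,1,2,2,1,2,0,2,2,1,1],[0,1,2,2,2,0,1,0,2,1,0,1],[1,0,2,1,0,1,0,2,1,1,1,0],[1,0,0,1,2,0,2,2,1,2,1,1],[0,2,1,0,0,1,2,1,2,2,1,2],[0,1,2,1,1,2,1,2,2,0,1,0],[1,0,1,1,2,2,2,2,0,1,0,2],[2,0,1,2,0,2,1,1,1,0,2,1],[0,1,2,2,2,0,1,2,0,2,1,1]]),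
  ([[1,5,0,0],[6,6,0,0],[1,6,2,4],[3,6,2,5]], [[2,0,0,2,1,0,0,1,2,0,0,2],[0,1,2,0,0,2,1,0,0,1,2,0],[0,2,1,1,1,1,2,0,1,2,1,2],[2,0,1,2,1,2,0,1,2,2,2,2],[1,0,1,1,0,2,0,2,1,2,2,0],[0,2,1,2,2,0,2,0,2,2,0,1],[0,2,1,0,0,1,2,2,1,2,1,1],[2,0,0,2,1,0,2,1,2,2,1,2],[1,0,2,1,2,1,1,2,0,2,0,2],[0,2,1,1,1,1,2,2,2,0,2,0],[0,1,2,1,1,0,1,1,0,2,1,2],[1,0,1,1,0,2,1,2,2,0,2,2]]),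
  ([[3,6,6,6],[3,4,3,1],[2,4,0,5],[2,5,6,0]], [[1,0,1,1,0,2,1,2,2,0,2,2],[0,2,1,2,2,0,2,2,0,1,2,1],[2,1,1,2,0,2,0,2,0,1,2,2],[1,1,2,2,2,0,2,0,1,0,2,1],[0,1,1,0,0,2,1,1,1,2,2,2],[1,0,0,2,2,0,1,2,2,2,2,1],[1,1,0,2,1,2,2,1,1,0,1,1],[1,2,2,0,2,2,1,1,0,2,1,2],[1,0,2,0,1,2,0,1,0,2,1,1],[0,2,0,1,2,2,1,0,2,0,1,2],[2,1,1,1,1,2,2,2,2,1,1,1],[1,1,1,2,2,2,2,1,1,1,1,2]]),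
  ([[3,4,6,4],[5,3,5,6],[5,2,4,3],[6,5,2,4]], [[0,1,0,0,0,0,0,0,0,0,0,0],[2,0,0,0,0,0,0,0,0,0,0,0],[2,1,0,2,0,0,0,0,0,0,0,0],[2,2,1,0,0,0,0,0,0,0,0,0],[1,0,2,1,0,1,0,0,0,0,0,0],[0,1,2,2,2,0,0,0,0,0,0,0],[2,2,0,0,0,0,0,2,0,0,0,0],[1,2,0,0,0,0,1,0,0,0,0,0],[0,1,1,1,0,0,1,2,0,1,0,0],[2,0,2,1,0,0,1,1,2,0,0,0],[2,1,0,1,2,2,2,0,1,2,0,2],[2,2,2,0,1,2,0,2,1,1,1,0]]),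
  ([[6,1,0,3],[3,6,2,0],[2,5,4,5],[1,2,1,4]], [[2,2,0,1,2,1,1,0,1,1,0,2],[1,2,2,0,2,2,0,1,2,1,1,0],[2,1,2,2,2,1,0,2,1,0,0,2],[2,2,1,2,2,2,1,0,0,1,1,0],[1,1,1,0,2,1,2,0,1,2,0,2],[2,1,0,1,2,2,0,2,1,1,1,0],[2,1,1,0,1,1,2,0,2,2,0,1],[2,2,0,1,2,1,0,2,1,2,2,0],[1,1,2,1,1,1,0,1,2,0,0,1],[2,1,2,2,2,1,2,0,0,2,2,0],[1,2,0,2,1,1,1,0,2,1,0,1],[1,1,1,0,2,1,0,1,2,2,2,0]]),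
  ([[5,2,4,3],[6,5,2,4],[2,5,5,6],[1,2,4,5]], [[2,1,0,1,2,2,2,0,1,2,0,2],[2,2,2,0,1,2,0,2,1,1,1,0],[1,1,2,1,1,1,0,1,2,0,0,1],[2,1,2,2,2,1,2,0,0,2,2,0],[1,2,2,0,2,2,1,0,1,1,0,2],[1,1,0,2,1,2,0,1,2,1,1,0],[1,1,1,0,2,1,2,0,1,2,0,2],[2,1,0,1,2,2,0,2,1,1,1,0],[1,2,1,1,1,2,0,1,2,0,0,1],[1,1,2,1,1,1,2,0,0,2,2,0],[2,2,0,1,2,1,1,0,1,1,0,2],[1,2,2,0,2,2,0,1,2,1,1,0]]),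
  ([[2,5,4,5],[1,2,1,4],[3,4,4,2],[5,3,6,4]], [[1,2,0,2,1,1,1,0,2,1,0,1],[1,1,1,0,2,1,0,1,2,2,2,0],[1,0,1,0,1,1,2,2,2,2,0,1],[0,1,0,1,2,1,1,2,1,2,2,0],[2,2,2,1,1,1,0,2,2,0,0,1],[1,2,2,2,2,1,1,0,0,2,2,0],[0,1,2,2,2,0,2,0,1,2,0,2],[2,0,1,2,0,2,0,2,1,1,1,0],[1,2,1,2,2,0,1,1,1,1,0,2],[1,1,1,1,0,2,2,1,2,1,1,0],[1,0,0,2,2,0,0,1,1,0,0,2],[0,1,1,0,0,2,2,0,0,1,1,0]]),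
  ([[0,2,6,1],[6,0,3,6],[3,4,3,4],[5,3,5,3]], [[0,2,0,1,0,2,0,1,0,2,0,1],[1,0,2,0,1,0,2,0,1,0,2,0],[1,2,2,2,1,0,2,1,1,1,2,0],[1,1,1,2,0,1,2,2,2,1,0,2],[2,0,2,2,0,1,1,0,1,1,0,2],[0,2,1,2,2,0,0,1,2,1,1,0],[1,1,2,2,1,1,2,0,1,0,2,0],[2,1,1,2,2,1,0,2,0,1,0,2],[0,2,2,0,2,1,2,2,2,1,0,2],[1,0,0,2,2,2,1,2,2,2,1,0],[1,2,2,0,2,2,0,1,2,1,1,0],[1,1,0,2,1,2,2,0,2,2,0,1]]),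
  ([[4,2,0,1],[6,4,3,0],[0,4,6,4],[5,0,5,6]], [[0,2,2,1,2,0,1,1,0,1,1,2],[1,0,2,2,0,2,2,1,2,0,1,1],[0,2,2,2,1,1,1,1,2,0,1,0],[1,0,1,2,2,1,2,1,0,2,0,1],[0,2,2,0,0,1,1,1,1,2,2,2],[1,0,0,2,2,0,2,1,1,1,1,2],[0,1,1,2,1,0,2,0,1,1,0,1],[2,0,1,1,0,1,0,2,2,1,2,0],[0,1,1,1,2,2,2,0,2,1,1,2],[2,0,2,1,1,2,0,2,2,2,1,1],[0,1,1,0,0,2,2,0,0,1,1,0],[2,0,0,1,1,0,0,2,2,0,0,1]]),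
  ([[2,0,0,0],[0,2,0,0],[2,0,4,0],[0,2,0,4]], [[2,0,2,0,2,0,2,0,2,0,2,0],[0,2,0,2,0,2,0,2,0,2,0,2],[2,0,1,0,0,0,2,0,1,0,0,0],[0,2,0,1,0,0,0,2,0,1,0,0],[2,0,0,0,0,0,2,0,0,0,0,0],[0,2,0,0,0,0,0,2,0,0,0,0],[1,0,1,0,1,0,0,0,0,0,0,0],[0,1,0,1,0,1,0,0,0,0,0,0],[1,0,2,0,0,0,0,0,0,0,0,0],[0,1,0,2,0,0,0,0,0,0,0,0],[1,0,0,0,0,0,0,0,0,0,0,0],[0,1,0,0,0,0,0,0,0,0,0,0]]),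
  ([[6,3,5,2],[2,6,6,5],[0,6,4,3],[4,0,2,4]], [[1,1,2,1,2,2,1,2,1,1,2,1],[2,1,2,2,1,2,1,1,2,1,2,2],[1,2,0,2,0,2,2,2,2,0,2,0],[1,1,1,0,1,0,1,2,0,2,0,2],[2,2,0,1,2,1,2,1,1,0,1,1],[1,2,2,0,2,2,2,2,0,1,2,1],[1,2,1,1,2,1,0,1,2,0,0,2],[1,1,2,1,2,2,2,0,0,2,1,0],[2,2,2,0,2,0,1,0,2,1,2,1],[1,2,0,2,0,2,0,1,2,2,2,2],[2,1,1,0,1,1,0,2,1,2,2,0],[2,2,0,1,2,1,1,0,1,1,0,2]]),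
  ([[1,3,2,1],[2,1,3,2],[3,4,2,5],[5,3,1,2]], [[0,0,0,0,0,0,0,0,0,0,0,1],[0,0,0,0,0,0,0,0,0,0,2,0],[0,0,0,0,0,0,0,0,0,1,2,2],[0,0,0,0,0,0,0,0,2,0,1,2],[0,0,0,0,0,0,0,1,1,1,2,0],[0,0,0,0,0,0,2,0,2,1,0,2],[0,0,0,0,0,1,0,0,0,0,2,1],[0,0,0,0,2,0,0,0,0,0,2,2],[0,0,0,1,2,2,0,0,2,1,0,1],[0,0,2,0,1,2,0,0,2,2,2,0],[0,1,1,1,2,0,2,1,0,2,2,2],[2,0,2,1,0,2,2,2,1,0,1,2]]),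
  ([[0,0,3,0],[0,0,0,3],[2,0,0,0],[0,2,0,0]], [[1,0,2,0,1,0,2,0,1,0,2,0],[0,1,0,2,0,1,0,2,0,1,0,2],[1,0,0,0,2,0,2,0,0,0,1,0],[0,1,0,0,0,2,0,2,0,0,0,1],[1,0,1,0,1,0,2,0,2,0,2,0],[0,1,0,1,0,1,0,2,0,2,0,2],[2,0,1,0,2,0,2,0,1,0,2,0],[0,2,0,1,0,2,0,2,0,1,0,2],[2,0,0,0,1,0,2,0,0,0,1,0],[0,2,0,0,0,1,0,2,0,0,0,1],[2,0,2,0,2,0,2,0,2,0,2,0],[0,2,0,2,0,2,0,2,0,2,0,2]]),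
  ([[3,2,6,3],[6,3,2,6],[3,5,0,6],[1,3,4,0]], [[0,2,2,2,1,0,1,2,0,1,1,1],[1,0,1,2,0,1,1,1,2,0,2,1],[0,2,2,0,0,2,1,2,2,2,1,2],[1,0,0,2,1,0,1,1,1,2,1,1],[0,2,2,1,2,0,1,2,1,0,2,2],[1,0,2,2,0,2,1,1,0,1,1,2],[0,1,1,1,2,0,2,2,1,0,1,2],[2,0,2,1,0,2,1,2,0,1,1,1],[0,1,1,0,0,1,2,2,2,1,2,2],[2,0,0,1,2,0,1,2,2,2,1,2],[0,1,1,2,1,0,2,2,0,2,2,1],[2,0,1,1,0,1,1,2,1,0,2,2]]),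
  ([[0,0,2,0],[0,0,0,2],[3,0,6,0],[0,3,0,6]], [[1,0,1,0,1,0,1,0,1,0,1,0],[0,1,0,1,0,1,0,1,0,1,0,1],[0,0,1,0,2,0,0,0,1,0,2,0],[0,0,0,1,0,2,0,0,0,1,0,2],[0,0,0,0,1,0,0,0,0,0,1,0],[0,0,0,0,0,1,0,0,0,0,0,1],[0,0,0,0,0,0,1,0,1,0,1,0],[0,0,0,0,0,0,0,1,0,1,0,1],[0,0,0,0,0,0,0,0,1,0,2,0],[0,0,0,0,0,0,0,0,0,1,0,2],[0,0,0,0,0,0,0,0,0,0,1,0],[0,0,0,0,0,0,0,0,0,0,0,1]]),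
  ([[0,6,2,6],[4,0,4,2],[2,5,6,1],[1,2,3,6]], [[0,0,0,0,0,0,0,0,0,0,0,2],[0,0,0,0,0,0,0,0,0,0,1,0],[0,0,0,0,0,0,0,0,0,2,1,0],[0,0,0,0,0,0,0,0,1,0,0,1],[0,0,0,0,0,0,0,2,2,0,0,1],[0,0,0,0,0,0,1,0,0,2,2,0],[0,0,0,0,0,2,0,0,0,0,1,0],[0,0,0,0,1,0,0,0,0,0,0,1],[0,0,0,2,1,0,0,0,1,0,0,1],[0,0,1,0,0,1,0,0,0,1,2,0],[0,2,2,0,0,1,1,0,0,2,2,0],[1,0,0,2,2,0,0,1,1,0,0,2]]),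
  ([[6,0,1,0],[0,6,0,1],[6,0,0,0],[0,6,0,0]], [[2,0,1,0,2,0,1,0,2,0,1,0],[0,2,0,1,0,2,0,1,0,2,0,1],[1,0,1,0,0,0,2,0,2,0,0,0],[0,1,0,1,0,0,0,2,0,2,0,0],[2,0,0,0,0,0,1,0,0,0,0,0],[0,2,0,0,0,0,0,1,0,0,0,0],[2,0,1,0,2,0,0,0,0,0,0,0],[0,2,0,1,0,2,0,0,0,0,0,0],[1,0,1,0,0,0,0,0,0,0,0,0],[0,1,0,1,0,0,0,0,0,0,0,0],[2,0,0,0,0,0,0,0,0,0,0,0],[0,2,0,0,0,0,0,0,0,0,0,0]]),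
  ([[3,4,2,5],[5,3,1,2],[2,1,0,4],[3,2,5,0]], [[0,1,1,1,2,0,2,1,0,2,2,2],[2,0,2,1,0,2,2,2,1,0,1,2],[0,2,2,1,2,1,1,2,1,0,1,0],[1,0,2,2,2,2,1,1,0,1,0,1],[0,1,1,0,0,2,2,1,1,1,1,2],[2,0,0,1,1,0,2,2,2,1,1,1],[0,1,1,1,2,0,2,0,2,1,0,2],[2,0,2,1,0,2,0,2,2,2,1,0],[0,2,2,1,2,1,1,0,2,2,2,2],[1,0,2,2,2,2,0,1,1,2,1,2],[0,1,1,0,0,2,2,0,0,1,1,0],[2,0,0,1,1,0,0,2,2,0,0,1]]),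
  ([[3,4,1,6],[5,3,4,1],[4,3,0,2],[2,4,6,0]], [[1,0,0,2,2,0,0,1,1,0,0,2],[0,1,1,0,0,2,2,0,0,1,1,0],[2,1,2,1,1,0,2,2,2,2,0,1],[2,2,2,2,0,1,1,2,1,2,2,0],[0,1,2,2,2,0,2,0,1,2,0,2],[2,0,1,2,0,2,0,2,1,1,1,0],[1,1,1,2,2,2,0,1,1,0,0,2],[2,1,1,1,1,2,2,0,0,1,1,0],[1,0,1,0,1,1,2,2,2,2,0,1],[0,1,0,1,2,1,1,2,1,2,2,0],[2,1,0,1,2,2,2,0,1,2,0,2],[2,2,2,0,1,2,0,2,1,1,1,0]]),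
  ([[2,5,0,1],[1,2,3,0],[1,6,5,2],[4,1,6,5]], [[0,2,0,0,0,0,0,0,0,0,0,0],[1,0,0,0,0,0,0,0,0,0,0,0],[1,1,0,1,0,0,0,0,0,0,0,0],[2,1,2,0,0,0,0,0,0,0,0,0],[1,0,1,1,0,2,0,0,0,0,0,0],[0,1,2,1,1,0,0,0,0,0,0,0],[1,2,0,0,0,0,0,1,0,0,0,0],[1,1,0,0,0,0,2,0,0,0,0,0],[0,2,2,1,0,0,2,2,0,2,0,0],[1,0,2,2,0,0,1,2,1,0,0,0],[1,1,0,2,1,2,2,0,2,2,0,1],[2,1,1,0,1,1,0,2,1,2,2,0]]),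
  ([[1,6,5,2],[4,1,6,5],[6,1,5,1],[3,6,3,5]], [[1,1,0,2,1,2,2,0,2,2,0,1],[2,1,1,0,1,1,0,2,1,2,2,0],[2,0,1,0,2,1,2,1,1,2,0,2],[0,2,0,1,2,2,2,2,1,1,1,0],[2,1,1,1,1,2,0,2,2,0,0,1],[2,2,2,1,1,1,1,0,0,2,2,0],[0,1,2,1,1,0,2,0,2,2,0,1],[2,0,2,2,0,1,0,2,1,2,2,0],[1,1,2,2,2,0,2,1,1,2,0,2],[2,1,1,2,0,2,2,2,1,1,1,0],[2,0,0,1,1,0,0,2,2,0,0,1],[0,2,2,0,0,1,1,0,0,2,2,0]]),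
  ([[4,3,5,2],[2,4,6,5],[5,6,0,3],[4,5,2,0]], [[0,2,2,2,1,0,1,2,0,1,1,1],[1,0,1,2,0,1,1,1,2,0,2,1],[0,1,1,2,1,2,2,1,2,0,2,0],[2,0,1,1,1,1,2,2,0,2,0,2],[0,2,2,0,0,1,1,2,2,2,2,1],[1,0,0,2,2,0,1,1,1,2,2,2],[0,2,2,2,1,0,1,0,1,2,0,1],[1,0,1,2,0,1,0,1,1,1,2,0],[0,1,1,2,1,2,2,0,1,1,1,1],[2,0,1,1,1,1,0,2,2,1,2,1],[0,2,2,0,0,1,1,0,0,2,2,0],[1,0,0,2,2,0,0,1,1,0,0,2]]),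
  ([[6,1,6,1],[3,6,3,6],[4,2,1,6],[6,4,4,1]], [[2,0,1,1,0,1,1,2,1,0,2,2],[0,2,2,1,2,0,1,1,0,1,1,2],[1,2,0,0,1,1,0,2,0,0,1,0],[1,1,0,0,2,1,1,0,0,0,0,1],[0,2,1,2,2,0,1,1,0,2,1,2],[1,0,1,1,0,2,2,1,1,0,1,1],[2,2,0,2,2,1,1,0,2,2,0,2],[1,2,1,0,2,2,0,1,1,2,1,0],[2,0,0,0,0,2,2,1,0,0,2,2],[0,2,0,0,1,0,2,2,0,0,1,2],[1,2,2,0,2,2,0,1,2,1,1,0],[1,1,0,2,1,2,2,0,2,2,0,1]]),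
  ([[0,4,6,4],[5,0,5,6],[3,2,6,3],[6,3,2,6]], [[0,1,1,0,0,2,2,0,0,1,1,0],[2,0,0,1,1,0,0,2,2,0,0,1],[0,1,1,2,1,2,2,0,1,1,1,1],[2,0,1,1,1,1,0,2,2,1,2,1],[0,1,1,1,2,0,2,0,2,1,0,2],[2,0,2,1,0,2,0,2,2,2,1,0],[0,2,2,0,0,1,1,2,2,2,2,1],[1,0,0,2,2,0,1,1,1,2,2,2],[0,2,2,1,2,1,1,2,1,0,1,0],[1,0,2,2,2,2,1,1,0,1,0,1],[0,2,2,2,1,0,1,2,0,1,1,1],[1,0,1,2,0,1,1,1,2,0,2,1]]),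
  ([[4,0,3,0],[0,4,0,3],[0,0,2,0],[0,0,0,2]], [[1,0,0,0,0,0,0,0,0,0,0,0],[0,1,0,0,0,0,0,0,0,0,0,0],[2,0,1,0,0,0,0,0,0,0,0,0],[0,2,0,1,0,0,0,0,0,0,0,0],[1,0,1,0,1,0,0,0,0,0,0,0],[0,1,0,1,0,1,0,0,0,0,0,0],[1,0,0,0,0,0,1,0,0,0,0,0],[0,1,0,0,0,0,0,1,0,0,0,0],[2,0,1,0,0,0,2,0,1,0,0,0],[0,2,0,1,0,0,0,2,0,1,0,0],[1,0,1,0,1,0,1,0,1,0,1,0],[0,1,0,1,0,1,0,1,0,1,0,1]]),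
  ([[2,5,6,1],[1,2,3,6],[2,6,4,2],[4,2,6,4]], [[0,2,2,0,0,1,1,0,0,2,2,0],[1,0,0,2,2,0,0,1,1,0,0,2],[0,1,1,1,2,2,2,0,2,1,1,2],[2,0,2,1,1,2,0,2,2,2,1,1],[0,2,2,1,2,0,1,0,2,2,0,2],[1,0,2,2,0,2,0,1,1,2,1,0],[0,2,2,0,0,1,1,1,1,2,2,2],[1,0,0,2,2,0,2,1,1,1,1,2],[0,1,1,1,2,2,2,2,1,0,2,0],[2,0,2,1,1,2,1,2,0,1,0,2],[0,2,2,1,2,0,1,1,0,1,1,2],[1,0,2,2,0,2,2,1,2,0,1,1]]),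
  ([[4,0,1,0],[0,4,0,1],[4,0,3,0],[0,4,0,3]], [[0,0,0,0,0,0,0,0,0,0,2,0],[0,0,0,0,0,0,0,0,0,0,0,2],[0,0,0,0,0,0,0,0,1,0,0,0],[0,0,0,0,0,0,0,0,0,1,0,0],[0,0,0,0,0,0,2,0,0,0,0,0],[0,0,0,0,0,0,0,2,0,0,0,0],[0,0,0,0,1,0,0,0,0,0,0,0],[0,0,0,0,0,1,0,0,0,0,0,0],[0,0,2,0,0,0,0,0,0,0,0,0],[0,0,0,2,0,0,0,0,0,0,0,0],[1,0,0,0,0,0,0,0,0,0,0,0],[0,1,0,0,0,0,0,0,0,0,0,0]]),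
  ([[2,5,5,6],[1,2,4,5],[4,3,1,3],[2,4,2,1]], [[2,2,0,1,2,1,1,0,1,1,0,2],[1,2,2,0,2,2,0,1,2,1,1,0],[0,2,2,1,0,0,2,2,0,2,0,0],[1,0,2,2,0,0,1,2,1,0,0,0],[2,1,0,0,0,0,0,2,0,0,0,0],[2,2,0,0,0,0,1,0,0,0,0,0],[1,0,1,1,0,2,0,0,0,0,0,0],[0,1,2,1,1,0,0,0,0,0,0,0],[2,2,0,2,0,0,0,0,0,0,0,0],[1,2,1,0,0,0,0,0,0,0,0,0],[0,2,0,0,0,0,0,0,0,0,0,0],[1,0,0,0,0,0,0,0,0,0,0,0]]),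
  ([[3,4,4,2],[5,3,6,4],[1,6,0,4],[4,1,5,0]], [[1,0,0,2,2,0,0,1,1,0,0,2],[0,1,1,0,0,2,2,0,0,1,1,0],[1,1,2,2,2,0,2,1,1,2,0,2],[2,1,1,2,0,2,2,2,1,1,1,0],[0,2,1,2,2,0,1,0,1,1,0,2],[1,0,1,1,0,2,0,1,2,1,1,0],[2,1,1,1,1,2,0,2,2,0,0,1],[2,2,2,1,1,1,1,0,0,2,2,0],[1,0,2,0,1,2,1,2,2,1,0,1],[0,1,0,2,1,1,1,1,2,2,2,0],[1,1,0,2,1,2,2,0,2,2,0,1],[2,1,1,0,1,1,0,2,1,2,2,0]]),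
  ([[3,4,3,4],[5,3,5,3],[3,2,4,3],[6,3,2,4]], [[1,2,2,0,2,2,0,1,2,1,1,0],[1,1,0,2,1,2,2,0,2,2,0,1],[2,2,2,0,2,0,1,0,2,1,2,1],[1,2,0,2,0,2,0,1,2,2,2,2],[2,1,2,2,1,2,0,2,1,0,0,1],[2,2,1,2,1,1,1,0,0,1,2,0],[2,2,0,1,2,1,2,1,1,0,1,1],[1,2,2,0,2,2,2,2,0,1,2,1],[2,1,0,1,0,1,1,1,1,0,1,0],[2,2,2,0,2,0,2,1,0,1,0,1],[1,1,2,1,2,2,1,2,1,1,2,1],[2,1,2,2,1,2,1,1,2,1,2,2]]),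
  ([[2,0,4,0],[0,2,0,4],[0,0,4,0],[0,0,0,4]], [[1,0,0,0,0,0,0,0,0,0,0,0],[0,1,0,0,0,0,0,0,0,0,0,0],[1,0,1,0,0,0,0,0,0,0,0,0],[0,1,0,1,0,0,0,0,0,0,0,0],[1,0,2,0,1,0,0,0,0,0,0,0],[0,1,0,2,0,1,0,0,0,0,0,0],[2,0,0,0,0,0,1,0,0,0,0,0],[0,2,0,0,0,0,0,1,0,0,0,0],[2,0,2,0,0,0,1,0,1,0,0,0],[0,2,0,2,0,0,0,1,0,1,0,0],[2,0,1,0,2,0,1,0,2,0,1,0],[0,2,0,1,0,2,0,1,0,2,0,1]]),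
  ([[0,6,4,3],[4,0,2,4],[1,3,6,1],[2,1,3,6]], [[2,1,1,0,1,1,0,2,1,2,2,0],[2,2,0,1,2,1,1,0,1,1,0,2],[2,0,0,0,0,2,2,1,0,0,2,2],[0,2,0,0,1,0,2,2,0,0,1,2],[1,1,0,1,1,2,2,0,1,1,0,1],[2,1,2,0,1,1,0,2,2,1,2,0],[0,2,1,2,2,0,1,1,0,2,1,2],[1,0,1,1,0,2,2,1,1,0,1,1],[2,1,0,0,2,2,0,1,0,0,2,0],[2,2,0,0,1,2,2,0,0,0,0,2],[2,0,1,1,0,1,1,2,1,0,2,2],[0,2,2,1,2,0,1,1,0,1,1,2]]),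
  ([[3,5,0,6],[1,3,4,0],[0,3,1,3],[2,0,2,1]], [[0,1,1,2,1,0,2,2,0,2,2,1],[2,0,1,1,0,1,1,2,1,0,2,2],[0,1,1,1,2,2,2,2,1,0,2,0],[2,0,2,1,1,2,1,2,0,1,0,2],[0,1,1,0,0,2,2,2,2,1,1,1],[2,0,0,1,1,0,1,2,2,2,2,1],[0,2,2,1,2,0,1,0,2,2,0,2],[1,0,2,2,0,2,0,1,1,2,1,0],[0,2,2,2,1,1,1,0,1,2,2,1],[1,0,1,2,2,1,0,1,1,1,2,2],[0,2,2,0,0,1,1,0,0,2,2,0],[1,0,0,2,2,0,0,1,1,0,0,2]]),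
  ([[3,0,6,0],[0,3,0,6],[3,0,4,0],[0,3,0,4]], [[0,0,0,0,0,0,0,0,0,0,1,0],[0,0,0,0,0,0,0,0,0,0,0,1],[0,0,0,0,0,0,0,0,2,0,0,0],[0,0,0,0,0,0,0,0,0,2,0,0],[0,0,0,0,0,0,1,0,0,0,0,0],[0,0,0,0,0,0,0,1,0,0,0,0],[0,0,0,0,2,0,0,0,0,0,0,0],[0,0,0,0,0,2,0,0,0,0,0,0],[0,0,1,0,0,0,0,0,0,0,0,0],[0,0,0,1,0,0,0,0,0,0,0,0],[2,0,0,0,0,0,0,0,0,0,0,0],[0,2,0,0,0,0,0,0,0,0,0,0]]),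
  ([[2,1,0,4],[3,2,5,0],[6,4,5,6],[5,6,4,5]], [[0,1,1,0,0,2,2,0,0,1,1,0],[2,0,0,1,1,0,0,2,2,0,0,1],[0,0,0,2,1,0,0,0,1,0,0,1],[0,0,1,0,0,1,0,0,0,1,2,0],[0,0,0,0,0,1,0,0,0,0,2,0],[0,0,0,0,2,0,0,0,0,0,0,2],[0,0,0,0,0,0,0,2,2,0,0,1],[0,0,0,0,0,0,1,0,0,2,2,0],[0,0,0,0,0,0,0,0,0,1,2,0],[0,0,0,0,0,0,0,0,2,0,0,2],[0,0,0,0,0,0,0,0,0,0,0,2],[0,0,0,0,0,0,0,0,0,0,1,0]]),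
  ([[4,3,0,2],[2,4,6,0],[1,6,6,3],[4,1,2,6]], [[2,1,0,1,2,2,2,0,1,2,0,2],[2,2,2,0,1,2,0,2,1,1,1,0],[0,2,2,2,0,0,2,1,0,2,0,0],[1,0,1,2,0,0,2,2,1,0,0,0],[2,2,0,0,0,0,0,2,0,0,0,0],[1,2,0,0,0,0,1,0,0,0,0,0],[2,0,1,2,0,2,0,0,0,0,0,0],[0,2,1,1,1,0,0,0,0,0,0,0],[2,1,0,2,0,0,0,0,0,0,0,0],[2,2,1,0,0,0,0,0,0,0,0,0],[0,2,0,0,0,0,0,0,0,0,0,0],[1,0,0,0,0,0,0,0,0,0,0,0]]),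
  ([[6,1,5,1],[3,6,3,5],[5,2,0,6],[6,5,4,0]], [[2,0,0,1,1,0,0,2,2,0,0,1],[0,2,2,0,0,1,1,0,0,2,2,0],[0,2,1,0,0,0,1,0,0,1,0,0],[1,0,0,1,0,0,0,1,2,0,0,0],[1,0,0,0,0,0,0,1,0,0,0,0],[0,1,0,0,0,0,2,0,0,0,0,0],[0,2,2,0,0,1,0,0,0,0,0,0],[1,0,0,2,2,0,0,0,0,0,0,0],[1,0,0,1,0,0,0,0,0,0,0,0],[0,1,2,0,0,0,0,0,0,0,0,0],[0,1,0,0,0,0,0,0,0,0,0,0],[2,0,0,0,0,0,0,0,0,0,0,0]]),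
  ([[5,6,0,3],[4,5,2,0],[1,3,2,1],[2,1,3,2]], [[0,2,2,0,0,1,1,0,0,2,2,0],[1,0,0,2,2,0,0,1,1,0,0,2],[0,0,0,1,2,0,0,0,2,0,0,2],[0,0,2,0,0,2,0,0,0,2,1,0],[0,0,0,0,0,2,0,0,0,0,1,0],[0,0,0,0,1,0,0,0,0,0,0,1],[0,0,0,0,0,0,0,1,1,0,0,2],[0,0,0,0,0,0,2,0,0,1,1,0],[0,0,0,0,0,0,0,0,0,2,1,0],[0,0,0,0,0,0,0,0,1,0,0,1],[0,0,0,0,0,0,0,0,0,0,0,1],[0,0,0,0,0,0,0,0,0,0,2,0]]),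
  ([[2,6,4,2],[4,2,6,4],[0,1,5,1],[3,0,3,5]], [[0,2,2,1,2,0,1,1,0,1,1,2],[1,0,2,2,0,2,2,1,2,0,1,1],[0,0,0,1,2,1,0,0,2,2,0,1],[0,0,2,0,2,2,0,0,1,2,2,0],[0,0,0,0,0,2,0,0,0,0,1,1],[0,0,0,0,1,0,0,0,0,0,2,1],[0,0,0,0,0,0,0,1,1,2,1,0],[0,0,0,0,0,0,2,0,1,1,0,1],[0,0,0,0,0,0,0,0,0,2,1,2],[0,0,0,0,0,0,0,0,1,0,1,1],[0,0,0,0,0,0,0,0,0,0,0,1],[0,0,0,0,0,0,0,0,0,0,2,0]]),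
  ([[6,1,0,4],[4,1,2,0],[6,6,5,2],[3,1,1,2]], [[1,1,2,0,2,1,0,2,2,2,1,0],[1,2,0,1,1,1,2,0,2,1,0,2],[1,1,0,1,0,1,0,2,2,1,2,1],[1,2,1,0,1,0,2,0,1,1,1,1],[1,1,1,2,2,2,0,2,2,0,0,1],[1,2,2,2,2,1,2,0,0,1,1,0],[2,2,1,0,1,2,1,2,0,1,1,1],[2,1,0,2,2,2,2,2,1,0,1,2],[2,2,0,2,0,2,1,2,1,0,1,0],[2,1,2,0,2,0,2,2,0,2,0,2],[2,2,2,1,1,1,1,2,2,2,2,1],[2,1,1,1,1,2,2,2,2,1,1,1]]),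
  ([[0,6,0,4],[3,0,2,0],[0,5,0,6],[6,0,3,0]], [[2,1,2,1,2,1,2,1,2,1,2,1],[1,1,1,1,1,1,1,1,1,1,1,1],[1,2,2,1,0,0,1,2,2,1,0,0],[2,2,1,1,0,0,2,2,1,1,0,0],[2,1,0,0,0,0,2,1,0,0,0,0],[1,1,0,0,0,0,1,1,0,0,0,0],[2,1,2,1,2,1,0,0,0,0,0,0],[1,1,1,1,1,1,0,0,0,0,0,0],[1,2,2,1,0,0,0,0,0,0,0,0],[2,2,1,1,0,0,0,0,0,0,0,0],[2,1,0,0,0,0,0,0,0,0,0,0],[1,1,0,0,0,0,0,0,0,0,0,0]]),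
  ([[4,6,3,1],[3,3,4,4],[4,3,0,5],[5,3,6,0]], [[1,1,0,1,1,2,1,0,2,2,0,2],[1,2,1,0,2,2,0,2,2,1,2,0],[2,2,1,0,2,0,2,0,2,1,1,2],[2,1,0,2,0,1,0,1,1,1,2,2],[1,1,1,2,2,2,1,0,0,2,2,0],[1,2,2,2,2,1,0,2,2,0,0,1],[1,1,0,1,1,2,2,1,2,0,1,1],[1,2,1,0,2,2,1,1,0,1,1,2],[2,2,1,0,2,0,1,2,0,1,0,2],[2,1,0,2,0,1,2,2,1,0,2,0],[1,1,1,2,2,2,2,1,1,1,1,2],[1,2,2,2,2,1,1,1,1,2,2,2]]),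
  ([[0,2,0,2],[1,0,1,0],[0,4,0,5],[2,0,6,0]], [[0,0,0,0,0,0,0,0,0,0,1,2],[0,0,0,0,0,0,0,0,0,0,2,2],[0,0,0,0,0,0,0,0,1,2,0,0],[0,0,0,0,0,0,0,0,2,2,0,0],[0,0,0,0,0,0,1,2,0,0,0,0],[0,0,0,0,0,0,2,2,0,0,0,0],[0,0,0,0,1,2,0,0,0,0,0,0],[0,0,0,0,2,2,0,0,0,0,0,0],[0,0,1,2,0,0,0,0,0,0,0,0],[0,0,2,2,0,0,0,0,0,0,0,0],[1,2,0,0,0,0,0,0,0,0,0,0],[2,2,0,0,0,0,0,0,0,0,0,0]]),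
  ([[6,6,5,2],[3,1,1,2],[0,5,5,5],[6,0,6,2]], [[2,2,2,1,1,1,1,2,2,2,2,1],[2,1,1,1,1,2,2,2,2,1,1,1],[2,2,1,0,2,0,1,2,0,1,0,2],[2,1,0,2,0,1,2,2,1,0,2,0],[2,2,0,2,2,1,1,2,1,0,2,2],[2,1,2,0,1,1,2,2,0,2,2,1],[1,1,1,2,2,2,1,0,0,2,2,0],[1,2,2,2,2,1,0,2,2,0,0,1],[1,1,2,0,1,0,1,0,1,2,2,1],[1,2,0,1,0,2,0,2,2,2,1,1],[1,1,0,1,1,2,1,0,2,2,0,2],[1,2,1,0,2,2,0,2,2,1,2,0]]),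
  ([[0,5,0,6],[6,0,3,0],[0,6,0,2],[3,0,1,0]], [[2,1,0,0,0,0,0,0,0,0,0,0],[1,1,0,0,0,0,0,0,0,0,0,0],[0,0,1,2,0,0,0,0,0,0,0,0],[0,0,2,2,0,0,0,0,0,0,0,0],[0,0,0,0,2,1,0,0,0,0,0,0],[0,0,0,0,1,1,0,0,0,0,0,0],[0,0,0,0,0,0,1,2,0,0,0,0],[0,0,0,0,0,0,2,2,0,0,0,0],[0,0,0,0,0,0,0,0,2,1,0,0],[0,0,0,0,0,0,0,0,1,1,0,0],[0,0,0,0,0,0,0,0,0,0,1,2],[0,0,0,0,0,0,0,0,0,0,2,2]]),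
  ([[4,3,0,5],[5,3,6,0],[0,4,4,4],[2,0,2,3]], [[1,1,1,2,2,2,2,1,1,1,1,2],[1,2,2,2,2,1,1,1,1,2,2,2],[0,0,1,1,2,1,0,0,2,1,2,2],[0,0,1,2,1,1,0,0,1,1,2,1],[0,0,0,0,1,1,0,0,0,0,2,1],[0,0,0,0,1,2,0,0,0,0,1,1],[0,0,0,0,0,0,1,1,1,2,2,2],[0,0,0,0,0,0,1,2,2,2,2,1],[0,0,0,0,0,0,0,0,1,1,2,1],[0,0,0,0,0,0,0,0,1,2,1,1],[0,0,0,0,0,0,0,0,0,0,1,1],[0,0,0,0,0,0,0,0,0,0,1,2]]),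
  ([[0,4,0,5],[2,0,6,0],[0,2,0,3],[1,0,5,0]], [[1,2,0,0,0,0,0,0,0,0,0,0],[2,2,0,0,0,0,0,0,0,0,0,0],[2,1,2,1,0,0,0,0,0,0,0,0],[1,1,1,1,0,0,0,0,0,0,0,0],[1,2,2,1,1,2,0,0,0,0,0,0],[2,2,1,1,2,2,0,0,0,0,0,0],[1,2,0,0,0,0,2,1,0,0,0,0],[2,2,0,0,0,0,1,1,0,0,0,0],[2,1,2,1,0,0,1,2,1,2,0,0],[1,1,1,1,0,0,2,2,2,2,0,0],[1,2,2,1,1,2,2,1,1,2,2,1],[2,2,1,1,2,2,1,1,2,2,1,1]]),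
  ([[0,3,6,5],[5,0,6,1],[2,5,4,1],[6,5,4,3]], [[2,0,0,2,1,0,0,1,2,0,0,2],[0,1,2,0,0,2,1,0,0,1,2,0],[1,2,1,2,0,1,2,2,2,2,1,0],[2,2,2,2,1,0,2,1,2,1,0,2],[0,2,2,1,2,0,2,0,1,1,0,1],[2,0,1,1,0,1,0,1,1,2,1,0],[2,2,1,2,1,1,2,0,0,2,1,0],[2,1,2,2,1,2,0,1,2,0,0,2],[2,0,2,0,2,1,1,2,1,2,0,1],[0,1,0,1,1,1,2,2,2,2,1,0],[1,2,1,0,2,2,0,2,2,1,2,0],[2,2,0,2,2,1,2,0,1,1,0,1]]),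
  ([[0,6,6,6],[3,0,3,1],[2,2,4,3],[1,5,5,3]], [[2,2,1,0,1,2,0,1,1,1,2,0],[2,1,0,2,2,2,1,0,1,2,0,1],[0,0,2,2,2,0,0,0,0,1,2,2],[0,0,2,1,0,1,0,0,1,0,2,1],[0,0,0,0,2,2,0,0,0,0,0,1],[0,0,0,0,2,1,0,0,0,0,1,0],[0,0,0,0,0,0,2,2,1,0,1,2],[0,0,0,0,0,0,2,1,0,2,2,2],[0,0,0,0,0,0,0,0,2,2,2,0],[0,0,0,0,0,0,0,0,2,1,0,1],[0,0,0,0,0,0,0,0,0,0,2,2],[0,0,0,0,0,0,0,0,0,0,2,1]]),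
  ([[0,5,0,4],[6,0,2,0],[0,2,0,2],[1,0,1,0]], [[2,1,1,2,2,1,1,2,2,1,1,2],[1,1,2,2,1,1,2,2,1,1,2,2],[0,0,1,2,1,2,0,0,2,1,2,1],[0,0,2,2,2,2,0,0,1,1,1,1],[0,0,0,0,2,1,0,0,0,0,1,2],[0,0,0,0,1,1,0,0,0,0,2,2],[0,0,0,0,0,0,1,2,2,1,1,2],[0,0,0,0,0,0,2,2,1,1,2,2],[0,0,0,0,0,0,0,0,2,1,2,1],[0,0,0,0,0,0,0,0,1,1,1,1],[0,0,0,0,0,0,0,0,0,0,1,2],[0,0,0,0,0,0,0,0,0,0,2,2]]),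
  ([[0,2,4,1],[1,0,4,3],[3,3,4,1],[5,4,4,3]], [[2,1,2,0,1,1,0,1,1,2,1,0],[1,1,0,1,1,2,1,0,2,2,0,2],[1,1,1,0,0,2,1,0,2,1,1,1],[1,2,0,2,2,0,0,2,1,1,1,2],[1,2,2,1,1,2,0,2,0,1,0,2],[2,2,1,1,2,2,2,0,1,0,2,0],[1,1,0,1,1,2,2,2,0,2,2,1],[1,2,1,0,2,2,2,1,2,0,1,1],[1,2,0,2,2,0,2,1,0,1,1,0],[2,2,2,0,0,1,1,1,1,0,0,2],[2,2,1,1,2,2,1,1,2,2,1,1],[2,1,1,2,2,1,1,2,2,1,1,2]]),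
  ([[4,4,0,6],[2,3,3,0],[0,1,4,3],[4,0,5,3]], [[1,0,2,1,0,1,2,2,2,0,1,2],[0,2,1,1,1,0,2,1,0,1,2,2],[2,1,0,0,1,1,2,0,0,0,0,1],[1,1,0,0,1,2,0,1,0,0,1,0],[0,1,1,1,2,0,1,2,0,1,1,1],[1,0,1,2,0,1,2,2,1,0,1,2],[1,1,1,0,2,1,0,2,1,1,1,0],[1,2,0,2,1,1,2,0,1,2,0,2],[1,0,0,0,0,2,1,1,0,0,1,2],[0,2,0,0,2,0,1,2,0,0,2,2],[2,1,0,2,2,2,1,0,1,2,0,1],[1,1,2,0,2,1,0,2,2,2,1,0]]),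
  ([[5,2,2,2],[1,2,1,5],[0,5,6,1],[6,0,4,1]], [[2,0,1,2,0,2,1,1,1,0,2,1],[0,1,2,2,2,0,1,2,0,2,1,1],[2,2,2,1,2,0,0,2,2,0,1,1],[2,1,1,1,0,1,2,0,0,1,1,2],[0,1,0,1,0,1,1,2,1,2,1,2],[1,0,1,0,1,0,2,2,2,2,2,2],[1,2,0,2,1,1,1,2,0,2,1,1],[2,2,2,0,1,2,2,2,2,0,1,2],[2,0,0,1,1,2,2,0,0,1,1,2],[0,1,1,0,2,2,0,1,1,0,2,2],[2,2,2,2,2,2,2,2,2,2,2,2],[2,1,2,1,2,1,2,1,2,1,2,1]]),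
  ([[4,6,0,0],[3,3,0,0],[0,2,4,1],[1,0,4,3]], [[0,1,2,1,1,0,1,1,0,2,1,2],[1,0,1,1,0,2,1,2,2,0,2,2],[2,1,0,0,2,2,0,2,0,0,1,0],[1,1,0,0,2,1,2,0,0,0,0,2],[1,0,2,2,0,2,1,2,1,0,2,2],[0,2,2,1,2,0,2,2,0,2,2,1],[2,2,0,1,2,1,2,0,2,2,0,1],[2,1,1,0,1,1,0,1,2,1,1,0],[0,1,0,0,2,0,2,2,0,0,1,2],[1,0,0,0,0,1,2,1,0,0,2,2],[2,1,2,0,1,1,0,1,1,2,1,0],[1,1,0,1,1,2,1,0,2,2,0,2]]),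
  ([[4,3,3,3],[5,3,5,4],[4,4,0,6],[2,3,3,0]], [[0,1,2,0,0,2,1,0,0,1,2,0],[1,0,0,1,2,0,0,2,1,0,0,1],[2,0,2,2,1,1,0,1,2,1,1,2],[0,1,2,1,1,2,1,0,1,1,2,2],[0,2,1,1,1,0,2,0,1,2,0,2],[2,0,1,2,0,2,0,1,2,2,2,0],[2,0,0,2,1,0,1,1,2,1,2,2],[0,1,2,0,0,2,1,2,1,1,2,1],[0,2,1,2,2,1,2,1,1,0,2,0],[2,0,2,2,1,1,1,1,0,2,0,1],[1,0,2,1,0,1,2,2,2,0,1,2],[0,2,1,1,1,0,2,1,0,1,2,2]]),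
  ([[5,4,3,1],[2,2,4,4],[5,2,2,2],[1,2,1,5]], [[2,1,0,2,2,2,1,0,1,2,0,1],[1,1,2,0,2,1,0,2,2,2,1,0],[2,0,0,0,0,1,2,2,0,0,2,1],[0,1,0,0,1,0,2,1,0,0,1,1],[1,1,1,0,2,1,0,2,1,1,1,0],[1,2,0,2,1,1,2,0,1,2,0,2],[0,2,2,2,1,0,2,1,0,2,2,2],[2,0,2,1,0,2,1,1,2,0,2,1],[2,1,0,0,1,1,2,0,0,0,0,1],[1,1,0,0,1,2,0,1,0,0,1,0],[2,0,1,2,0,2,1,1,1,0,2,1],[0,1,2,2,2,0,1,2,0,2,1,1]]),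
  ([[3,1,0,0],[4,4,0,0],[0,5,3,6],[6,0,3,4]], [[0,2,1,2,2,0,2,2,0,1,2,1],[2,0,2,2,0,1,2,1,1,0,1,1],[1,2,0,0,1,1,0,1,0,0,2,0],[2,2,0,0,1,2,1,0,0,0,0,1],[2,0,1,1,0,1,2,1,2,0,1,1],[0,1,1,2,1,0,1,1,0,1,1,2],[1,1,0,2,1,2,1,0,1,1,0,2],[1,2,2,0,2,2,0,2,1,2,2,0],[0,2,0,0,1,0,1,1,0,0,2,1],[2,0,0,0,0,2,1,2,0,0,1,1],[1,2,1,0,2,2,0,2,2,1,2,0],[2,2,0,2,2,1,2,0,1,1,0,1]]),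
  ([[1,5,2,3],[6,6,5,5],[0,4,2,5],[2,0,6,5]], [[1,0,2,1,0,1,2,2,2,0,1,2],[0,2,1,1,1,0,2,1,0,1,2,2],[0,1,2,1,1,2,1,2,2,0,1,0],[1,0,1,1,2,2,2,2,0,1,0,2],[2,0,0,2,1,0,1,1,2,1,2,2],[0,1,2,0,0,2,1,2,1,1,2,1],[0,1,2,2,2,0,1,0,2,1,0,1],[1,0,2,1,0,1,0,2,1,1,1,0],[2,0,2,2,1,1,0,1,2,1,1,2],[0,1,2,1,1,2,1,0,1,1,2,2],[0,2,1,0,0,1,2,0,0,2,1,0],[2,0,0,2,1,0,0,1,2,0,0,2]]),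
  ([[0,3,0,3],[5,0,5,0],[0,1,0,4],[4,0,2,0]], [[1,2,1,2,1,2,1,2,1,2,1,2],[2,2,2,2,2,2,2,2,2,2,2,2],[0,0,2,1,1,2,0,0,2,1,1,2],[0,0,1,1,2,2,0,0,1,1,2,2],[0,0,0,0,1,2,0,0,0,0,1,2],[0,0,0,0,2,2,0,0,0,0,2,2],[0,0,0,0,0,0,2,1,2,1,2,1],[0,0,0,0,0,0,1,1,1,1,1,1],[0,0,0,0,0,0,0,0,1,2,2,1],[0,0,0,0,0,0,0,0,2,2,1,1],[0,0,0,0,0,0,0,0,0,0,2,1],[0,0,0,0,0,0,0,0,0,0,1,1]]),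
  ([[4,6,1,5],[3,3,6,6],[5,5,0,4],[6,2,2,0]], [[0,2,1,0,0,1,2,0,0,2,1,0],[2,0,0,2,1,0,0,1,2,0,0,2],[1,2,2,1,2,0,2,2,1,1,0,1],[2,2,1,1,0,1,2,1,1,2,1,0],[2,0,2,1,0,2,0,1,1,1,2,0],[0,1,1,1,2,0,1,0,1,2,0,1],[1,1,2,1,2,2,0,2,1,0,0,1],[1,2,1,1,2,1,2,0,0,2,1,0],[0,2,0,1,1,2,1,2,2,1,2,0],[2,0,1,0,2,2,2,2,1,1,0,1],[1,2,0,1,1,1,2,0,2,1,0,2],[2,2,1,0,1,2,0,1,1,1,2,0]]),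
  ([[1,6,2,4],[3,6,2,5],[0,1,2,4],[4,0,2,5]], [[0,1,2,1,1,0,1,1,0,2,1,2],[1,0,1,1,0,2,1,2,2,0,2,2],[2,2,2,1,0,2,1,0,0,2,2,2],[2,1,1,1,2,0,0,2,2,0,2,1],[2,0,1,0,2,0,2,1,1,2,2,1],[0,1,0,2,0,1,1,1,2,2,1,1],[2,1,1,0,1,1,1,2,2,0,2,2],[1,1,0,2,1,2,2,2,0,1,2,1],[0,1,1,0,1,2,0,2,2,0,2,1],[1,0,0,2,2,2,2,0,0,1,1,1],[2,2,1,1,2,2,1,1,2,2,1,1],[2,1,1,2,2,1,1,2,2,1,1,2]]),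
  ([[5,5,3,4],[6,2,2,4],[5,4,2,3],[2,2,5,5]], [[0,0,0,0,0,0,0,0,0,0,1,1],[0,0,0,0,0,0,0,0,0,0,1,2],[0,0,0,0,0,0,0,0,2,2,1,2],[0,0,0,0,0,0,0,0,2,1,2,2],[0,0,0,0,0,0,1,1,1,2,2,2],[0,0,0,0,0,0,1,2,2,2,2,1],[0,0,0,0,2,2,0,0,0,0,1,2],[0,0,0,0,2,1,0,0,0,0,2,2],[0,0,1,1,2,1,0,0,2,1,2,2],[0,0,1,2,1,1,0,0,1,1,2,1],[2,2,2,1,1,1,1,2,2,2,2,1],[2,1,1,1,1,2,2,2,2,1,1,1]]),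
  ([[0,3,0,5],[5,0,6,0],[0,6,0,6],[3,0,3,0]], [[1,2,2,1,1,2,2,1,1,2,2,1],[2,2,1,1,2,2,1,1,2,2,1,1],[1,2,1,2,0,0,2,1,2,1,0,0],[2,2,2,2,0,0,1,1,1,1,0,0],[1,2,0,0,0,0,2,1,0,0,0,0],[2,2,0,0,0,0,1,1,0,0,0,0],[2,1,1,2,2,1,0,0,0,0,0,0],[1,1,2,2,1,1,0,0,0,0,0,0],[2,1,2,1,0,0,0,0,0,0,0,0],[1,1,1,1,0,0,0,0,0,0,0,0],[2,1,0,0,0,0,0,0,0,0,0,0],[1,1,0,0,0,0,0,0,0,0,0,0]]),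
  ([[6,2,1,5],[1,1,6,6],[4,4,1,6],[2,3,3,6]], [[2,2,1,0,1,2,0,1,1,1,2,0],[2,1,0,2,2,2,1,0,1,2,0,1],[1,1,1,2,1,1,0,2,2,0,0,2],[1,2,2,2,1,2,2,0,0,1,2,0],[2,2,0,2,2,1,0,1,1,2,1,0],[2,1,2,0,1,1,1,0,2,2,0,2],[2,2,1,0,1,2,2,0,2,1,0,2],[2,1,0,2,2,2,0,1,1,1,2,0],[1,1,1,2,1,1,1,0,0,2,1,0],[1,2,2,2,1,2,0,2,2,0,0,2],[2,2,0,2,2,1,2,0,1,1,0,1],[2,1,2,0,1,1,0,1,1,2,1,0]]),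
  ([[4,4,1,6],[2,3,3,6],[5,2,0,1],[1,2,4,0]], [[2,2,0,2,2,1,2,0,1,1,0,1],[2,1,2,0,1,1,0,1,1,2,1,0],[0,0,2,2,0,1,0,0,2,0,2,2],[0,0,2,1,1,0,0,0,0,1,2,1],[0,0,0,0,2,2,0,0,0,0,2,0],[0,0,0,0,2,1,0,0,0,0,0,1],[0,0,0,0,0,0,2,2,0,2,2,1],[0,0,0,0,0,0,2,1,2,0,1,1],[0,0,0,0,0,0,0,0,2,2,0,1],[0,0,0,0,0,0,0,0,2,1,1,0],[0,0,0,0,0,0,0,0,0,0,2,2],[0,0,0,0,0,0,0,0,0,0,2,1]]),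
  ([[0,1,0,4],[4,0,2,0],[0,5,0,1],[6,0,4,0]], [[0,0,0,0,0,0,0,0,0,0,2,1],[0,0,0,0,0,0,0,0,0,0,1,1],[0,0,0,0,0,0,0,0,2,1,2,1],[0,0,0,0,0,0,0,0,1,1,1,1],[0,0,0,0,0,0,2,1,1,2,2,1],[0,0,0,0,0,0,1,1,2,2,1,1],[0,0,0,0,2,1,0,0,0,0,1,2],[0,0,0,0,1,1,0,0,0,0,2,2],[0,0,2,1,2,1,0,0,1,2,1,2],[0,0,1,1,1,1,0,0,2,2,2,2],[2,1,1,2,2,1,1,2,2,1,1,2],[1,1,2,2,1,1,2,2,1,1,2,2]]),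
  ([[6,1,5,3],[4,1,5,2],[0,6,5,3],[3,0,5,2]], [[0,2,1,2,2,0,2,2,0,1,2,1],[2,0,2,2,0,1,2,1,1,0,1,1],[1,1,1,2,0,1,2,0,0,1,1,1],[1,2,2,2,1,0,0,1,1,0,1,2],[1,0,2,0,1,0,1,2,2,1,1,2],[0,2,0,1,0,2,2,2,1,1,2,2],[1,2,2,0,2,2,2,1,1,0,1,1],[2,2,0,1,2,1,1,1,0,2,1,2],[0,2,2,0,2,1,0,1,1,0,1,2],[2,0,0,1,1,1,1,0,0,2,2,2],[1,1,2,2,1,1,2,2,1,1,2,2],[1,2,2,1,1,2,2,1,1,2,2,1]]),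
  ([[4,3,1,2],[5,3,1,6],[5,4,0,0],[2,2,0,0]], [[2,2,1,1,2,2,1,1,2,2,1,1],[2,1,1,2,2,1,1,2,2,1,1,2],[2,1,0,1,1,0,1,2,0,2,2,0],[1,1,1,0,0,2,2,2,2,0,0,1],[1,1,0,1,1,2,2,2,0,2,2,1],[1,2,1,0,2,2,2,1,2,0,1,1],[2,1,1,2,2,1,0,1,0,2,0,1],[1,1,2,2,1,1,1,0,2,0,1,0],[1,1,1,0,0,2,1,0,2,1,1,1],[1,2,0,2,2,0,0,2,1,1,1,2],[1,2,1,0,2,2,0,2,2,1,2,0],[2,2,0,2,2,1,2,0,1,1,0,1]]),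
  ([[3,3,4,1],[5,4,4,3],[3,1,0,0],[4,4,0,0]], [[2,2,1,1,2,2,1,1,2,2,1,1],[2,1,1,2,2,1,1,2,2,1,1,2],[0,2,2,0,2,1,0,1,1,0,1,2],[2,0,0,1,1,1,1,0,0,2,2,2],[2,1,1,0,1,1,1,2,2,0,2,2],[1,1,0,2,1,2,2,2,0,1,2,1],[1,0,2,0,1,0,1,2,2,1,1,2],[0,2,0,1,0,2,2,2,1,1,2,2],[2,2,2,1,0,2,1,0,0,2,2,2],[2,1,1,1,2,0,0,2,2,0,2,1],[0,2,1,2,2,0,2,2,0,1,2,1],[2,0,2,2,0,1,2,1,1,0,1,1]]),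
  ([[3,4,6,5],[2,4,6,1],[2,3,0,0],[5,5,0,0]], [[1,1,2,2,1,1,2,2,1,1,2,2],[1,2,2,1,1,2,2,1,1,2,2,1],[1,2,0,2,2,0,2,1,0,1,1,0],[2,2,2,0,0,1,1,1,1,0,0,2],[2,2,0,2,2,1,1,1,0,1,1,2],[2,1,2,0,1,1,1,2,1,0,2,2],[1,2,2,1,1,2,0,2,0,1,0,2],[2,2,1,1,2,2,2,0,1,0,2,0],[2,2,2,0,0,1,2,0,1,2,2,2],[2,1,0,1,1,0,0,1,2,2,2,1],[2,1,2,0,1,1,0,1,1,2,1,0],[1,1,0,1,1,2,1,0,2,2,0,2]]),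
  ([[0,2,1,6],[1,0,3,6],[5,4,3,1],[2,2,4,4]], [[1,1,1,1,1,1,1,1,1,1,1,1],[1,2,1,2,1,2,1,2,1,2,1,2],[1,2,2,0,0,1,1,2,2,0,0,1],[2,2,0,1,1,0,2,2,0,1,1,0],[2,2,1,0,1,2,2,2,1,0,1,2],[2,1,0,2,2,2,2,1,0,2,2,2],[1,2,1,2,1,2,2,0,2,0,2,0],[2,2,2,2,2,2,0,1,0,1,0,1],[2,2,0,1,1,0,0,1,2,1,1,1],[2,1,1,0,0,2,1,0,1,1,1,2],[2,1,0,2,2,2,1,0,1,2,0,1],[1,1,2,0,2,1,0,2,2,2,1,0]]),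
  ([[0,6,0,2],[3,0,1,0],[0,1,0,3],[4,0,5,0]], [[0,0,0,0,0,0,0,0,0,0,1,2],[0,0,0,0,0,0,0,0,0,0,2,2],[0,0,0,0,0,0,0,0,1,2,2,1],[0,0,0,0,0,0,0,0,2,2,1,1],[0,0,0,0,0,0,1,2,1,2,1,2],[0,0,0,0,0,0,2,2,2,2,2,2],[0,0,0,0,1,2,0,0,0,0,1,2],[0,0,0,0,2,2,0,0,0,0,2,2],[0,0,1,2,2,1,0,0,1,2,2,1],[0,0,2,2,1,1,0,0,2,2,1,1],[1,2,1,2,1,2,1,2,1,2,1,2],[2,2,2,2,2,2,2,2,2,2,2,2]]),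
  ([[0,4,4,4],[2,0,2,3],[3,1,4,6],[4,4,3,3]], [[0,0,0,0,0,0,0,0,0,0,1,1],[0,0,0,0,0,0,0,0,0,0,1,2],[0,0,0,0,0,0,0,0,2,2,0,1],[0,0,0,0,0,0,0,0,2,1,1,0],[0,0,0,0,0,0,1,1,0,1,1,2],[0,0,0,0,0,0,1,2,1,0,2,2],[0,0,0,0,2,2,0,0,0,0,2,0],[0,0,0,0,2,1,0,0,0,0,0,1],[0,0,1,1,0,2,0,0,1,0,1,1],[0,0,1,2,2,0,0,0,0,2,1,2],[2,2,0,2,2,1,2,0,1,1,0,1],[2,1,2,0,1,1,0,1,1,2,1,0]]),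
  ([[0,2,0,3],[1,0,5,0],[0,5,0,5],[6,0,6,0]], [[1,2,2,1,1,2,2,1,1,2,2,1],[2,2,1,1,2,2,1,1,2,2,1,1],[0,0,2,1,2,1,0,0,1,2,1,2],[0,0,1,1,1,1,0,0,2,2,2,2],[0,0,0,0,1,2,0,0,0,0,2,1],[0,0,0,0,2,2,0,0,0,0,1,1],[0,0,0,0,0,0,2,1,1,2,2,1],[0,0,0,0,0,0,1,1,2,2,1,1],[0,0,0,0,0,0,0,0,1,2,1,2],[0,0,0,0,0,0,0,0,2,2,2,2],[0,0,0,0,0,0,0,0,0,0,2,1],[0,0,0,0,0,0,0,0,0,0,1,1]]),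
  ([[2,5,4,1],[6,5,4,3],[2,2,5,3],[1,5,5,2]], [[1,2,1,0,2,2,0,2,2,1,2,0],[2,2,0,2,2,1,2,0,1,1,0,1],[0,1,0,0,2,0,2,2,0,0,1,2],[1,0,0,0,0,1,2,1,0,0,2,2],[1,1,0,2,1,2,1,0,1,1,0,2],[1,2,2,0,2,2,0,2,1,2,2,0],[1,0,2,2,0,2,1,2,1,0,2,2],[0,2,2,1,2,0,2,2,0,2,2,1],[1,2,0,0,1,1,0,1,0,0,2,0],[2,2,0,0,1,2,1,0,0,0,0,1],[0,1,2,1,1,0,1,1,0,2,1,2],[1,0,1,1,0,2,1,2,2,0,2,2]]),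
  ([[2,2,4,3],[1,5,5,3],[2,3,5,4],[5,5,2,2]], [[0,0,0,0,0,0,0,0,0,0,2,2],[0,0,0,0,0,0,0,0,0,0,2,1],[0,0,0,0,0,0,0,0,1,1,2,1],[0,0,0,0,0,0,0,0,1,2,1,1],[0,0,0,0,0,0,2,2,2,1,1,1],[0,0,0,0,0,0,2,1,1,1,1,2],[0,0,0,0,1,1,0,0,0,0,2,1],[0,0,0,0,1,2,0,0,0,0,1,1],[0,0,2,2,1,2,0,0,1,2,1,1],[0,0,2,1,2,2,0,0,2,2,1,2],[1,1,1,2,2,2,2,1,1,1,1,2],[1,2,2,2,2,1,1,1,1,2,2,2]]),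
  ([[0,5,6,1],[6,0,4,1],[2,3,4,6],[5,5,3,3]], [[2,2,2,2,2,2,2,2,2,2,2,2],[2,1,2,1,2,1,2,1,2,1,2,1],[2,1,1,0,0,2,2,1,1,0,0,2],[1,1,0,2,2,0,1,1,0,2,2,0],[1,1,2,0,2,1,1,1,2,0,2,1],[1,2,0,1,1,1,1,2,0,1,1,1],[2,1,2,1,2,1,1,0,1,0,1,0],[1,1,1,1,1,1,0,2,0,2,0,2],[1,1,0,2,2,0,0,2,1,2,2,2],[1,2,2,0,0,1,2,0,2,2,2,1],[1,2,0,1,1,1,2,0,2,1,0,2],[2,2,1,0,1,2,0,1,1,1,2,0]]),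
  ([[0,5,3,6],[6,0,3,4],[4,4,3,6],[2,3,3,4]], [[1,2,1,0,2,2,0,2,2,1,2,0],[2,2,0,2,2,1,2,0,1,1,0,1],[2,2,2,0,0,1,2,0,1,2,2,2],[2,1,0,1,1,0,0,1,2,2,2,1],[2,1,1,2,2,1,0,1,0,2,0,1],[1,1,2,2,1,1,1,0,2,0,1,0],[2,2,0,2,2,1,1,1,0,1,1,2],[2,1,2,0,1,1,1,2,1,0,2,2],[2,1,0,1,1,0,1,2,0,2,2,0],[1,1,1,0,0,2,2,2,2,0,0,1],[1,1,2,2,1,1,2,2,1,1,2,2],[1,2,2,1,1,2,2,1,1,2,2,1]]),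
  ([[0,4,2,5],[2,0,6,5],[6,6,0,2],[3,1,1,0]], [[0,2,1,0,0,1,2,0,0,2,1,0],[2,0,0,2,1,0,0,1,2,0,0,2],[1,1,0,1,2,1,1,2,1,0,1,1],[1,2,1,0,1,1,2,2,0,2,1,2],[1,0,1,0,1,0,0,2,0,2,0,2],[0,2,0,2,0,2,2,0,2,0,2,0],[1,2,1,1,2,1,1,2,1,1,2,1],[2,2,1,2,1,1,2,2,1,2,1,1],[0,2,2,1,1,0,0,2,2,1,1,0],[2,0,1,1,0,2,2,0,1,1,0,2],[1,1,1,1,1,1,1,1,1,1,1,1],[1,2,1,2,1,2,1,2,1,2,1,2]]),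
  ([[0,1,2,4],[4,0,2,5],[6,2,0,0],[1,1,0,0]], [[2,2,1,1,2,2,1,1,2,2,1,1],[2,1,1,2,2,1,1,2,2,1,1,2],[1,0,1,2,0,2,2,0,2,1,0,1],[0,2,2,2,2,0,0,1,1,1,1,0],[1,2,1,1,2,1,2,1,2,2,1,2],[2,2,1,2,1,1,1,1,2,1,2,2],[0,2,0,1,0,2,2,0,1,0,2,0],[2,0,1,0,2,0,0,1,0,2,0,1],[2,2,1,0,2,1,2,1,0,2,1,1],[2,1,0,2,1,1,1,1,2,0,1,2],[1,0,0,1,2,0,0,2,1,0,0,1],[0,2,1,0,0,1,2,0,0,2,1,0]]),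
  ([[5,4,2,3],[2,2,5,5],[0,6,6,6],[3,0,3,1]], [[2,2,2,1,1,1,1,2,2,2,2,1],[2,1,1,1,1,2,2,2,2,1,1,1],[1,1,0,1,0,1,2,1,2,0,2,0],[1,2,1,0,1,0,1,1,0,1,0,1],[2,2,1,0,1,2,1,2,0,1,1,1],[2,1,0,2,2,2,2,2,1,0,1,2],[2,2,2,1,1,1,0,1,1,0,0,2],[2,1,1,1,1,2,1,0,0,2,2,0],[1,1,0,1,0,1,0,2,2,1,2,1],[1,2,1,0,1,0,2,0,1,1,1,1],[2,2,1,0,1,2,0,1,1,1,2,0],[2,1,0,2,2,2,1,0,1,2,0,1]]),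
  ([[0,6,0,6],[3,0,3,0],[0,3,0,1],[5,0,4,0]], [[2,1,0,0,0,0,0,0,0,0,0,0],[1,1,0,0,0,0,0,0,0,0,0,0],[2,1,1,2,0,0,0,0,0,0,0,0],[1,1,2,2,0,0,0,0,0,0,0,0],[2,1,2,1,2,1,0,0,0,0,0,0],[1,1,1,1,1,1,0,0,0,0,0,0],[1,2,0,0,0,0,1,2,0,0,0,0],[2,2,0,0,0,0,2,2,0,0,0,0],[1,2,2,1,0,0,1,2,2,1,0,0],[2,2,1,1,0,0,2,2,1,1,0,0],[1,2,1,2,1,2,1,2,1,2,1,2],[2,2,2,2,2,2,2,2,2,2,2,2]]),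
  ([[0,5,0,1],[6,0,4,0],[0,4,0,4],[2,0,2,0]], [[2,1,1,2,2,1,1,2,2,1,1,2],[1,1,2,2,1,1,2,2,1,1,2,2],[1,2,0,0,2,1,2,1,0,0,1,2],[2,2,0,0,1,1,1,1,0,0,2,2],[2,1,2,1,2,1,1,2,1,2,1,2],[1,1,1,1,1,1,2,2,2,2,2,2],[2,1,1,2,2,1,2,1,1,2,2,1],[1,1,2,2,1,1,1,1,2,2,1,1],[1,2,0,0,2,1,1,2,0,0,2,1],[2,2,0,0,1,1,2,2,0,0,1,1],[2,1,2,1,2,1,2,1,2,1,2,1],[1,1,1,1,1,1,1,1,1,1,1,1]]),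
  ([[0,1,0,5],[4,0,6,0],[0,6,0,4],[3,0,2,0]], [[0,0,0,0,0,0,0,0,0,0,2,1],[0,0,0,0,0,0,0,0,0,0,1,1],[0,0,0,0,0,0,0,0,2,1,1,2],[0,0,0,0,0,0,0,0,1,1,2,2],[0,0,0,0,0,0,2,1,2,1,2,1],[0,0,0,0,0,0,1,1,1,1,1,1],[0,0,0,0,2,1,0,0,0,0,2,1],[0,0,0,0,1,1,0,0,0,0,1,1],[0,0,2,1,1,2,0,0,2,1,1,2],[0,0,1,1,2,2,0,0,1,1,2,2],[2,1,2,1,2,1,2,1,2,1,2,1],[1,1,1,1,1,1,1,1,1,1,1,1]]),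
  ([[2,3,0,0],[5,5,0,0],[6,6,1,2],[3,1,1,6]], [[2,1,2,0,1,1,0,1,1,2,1,0],[1,1,0,1,1,2,1,0,2,2,0,2],[2,0,2,0,2,1,1,2,1,2,0,1],[0,1,0,1,1,1,2,2,2,2,1,0],[1,1,2,1,2,2,1,0,0,1,2,0],[1,2,1,1,2,1,0,2,1,0,0,1],[0,2,2,1,2,0,2,0,1,1,0,1],[2,0,1,1,0,1,0,1,1,2,1,0],[2,1,2,1,0,2,1,1,1,1,2,0],[1,1,1,1,2,0,1,2,1,2,0,1],[2,0,0,2,1,0,0,1,2,0,0,2],[0,1,2,0,0,2,1,0,0,1,2,0]]),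
  ([[3,5,6,1],[1,3,3,6],[2,6,5,2],[4,2,6,5]], [[2,1,1,0,1,1,0,2,1,2,2,0],[2,2,0,1,2,1,1,0,1,1,0,2],[0,2,2,0,2,1,2,2,2,1,0,2],[1,0,0,2,2,2,1,2,2,2,1,0],[2,2,1,1,2,2,1,0,2,0,1,0],[1,2,2,1,1,2,0,1,0,2,0,1],[2,0,2,2,0,1,1,0,1,1,0,2],[0,2,1,2,2,0,0,1,2,1,1,0],[2,1,1,1,2,0,1,2,2,2,1,0],[2,2,2,1,0,2,1,1,1,2,0,1],[0,2,0,1,0,2,0,1,0,2,0,1],[1,0,2,0,1,0,2,0,1,0,2,0]]),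
  ([[1,6,4,3],[4,1,2,4],[1,3,0,1],[2,1,3,0]], [[1,1,1,0,2,1,0,1,2,2,2,0],[2,1,0,1,2,2,2,0,1,2,0,2],[2,0,0,0,0,1,1,1,0,0,1,2],[0,2,0,0,2,0,2,1,0,0,1,1],[2,1,0,2,2,2,2,0,2,1,0,2],[2,2,1,0,1,2,0,2,2,2,1,0],[0,1,2,2,2,0,2,1,0,1,2,2],[2,0,1,2,0,2,2,2,2,0,1,2],[1,1,0,0,1,2,0,2,0,0,2,0],[2,1,0,0,1,1,1,0,0,0,0,2],[2,0,2,1,0,2,2,2,1,0,1,2],[0,2,2,2,1,0,1,2,0,1,1,1]]),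
  ([[1,4,6,4],[5,1,5,6],[3,2,0,3],[6,3,2,0]], [[2,2,2,0,1,2,0,2,1,1,1,0],[1,2,0,2,1,1,1,0,2,1,0,1],[0,2,2,0,1,1,2,1,1,1,0,1],[1,0,0,2,2,1,2,2,2,1,2,0],[2,1,2,1,2,1,2,0,2,0,2,0],[2,2,2,2,2,2,0,2,0,2,0,2],[1,0,2,1,0,1,1,0,2,1,0,1],[0,1,2,2,2,0,0,1,2,2,2,0],[2,2,2,1,2,0,2,2,2,1,2,0],[1,2,2,2,0,2,1,2,2,2,0,2],[0,2,0,2,0,2,0,2,0,2,0,2],[1,0,1,0,1,0,1,0,1,0,1,0]]),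
  ([[1,0,2,0],[0,1,0,2],[3,0,0,0],[0,3,0,0]], [[2,0,1,0,2,0,1,0,2,0,1,0],[0,2,0,1,0,2,0,1,0,2,0,1],[0,0,2,0,2,0,0,0,1,0,1,0],[0,0,0,2,0,2,0,0,0,1,0,1],[0,0,0,0,2,0,0,0,0,0,1,0],[0,0,0,0,0,2,0,0,0,0,0,1],[0,0,0,0,0,0,2,0,1,0,2,0],[0,0,0,0,0,0,0,2,0,1,0,2],[0,0,0,0,0,0,0,0,2,0,2,0],[0,0,0,0,0,0,0,0,0,2,0,2],[0,0,0,0,0,0,0,0,0,0,2,0],[0,0,0,0,0,0,0,0,0,0,0,2]]),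
  ([[0,3,2,5],[2,0,1,2],[2,1,4,3],[3,2,2,4]], [[2,0,1,1,0,1,1,2,1,0,2,2],[0,2,2,1,2,0,1,1,0,1,1,2],[0,2,1,1,1,2,1,1,1,0,0,2],[1,0,2,1,1,1,2,1,0,1,1,0],[1,0,2,0,1,0,2,1,1,2,2,1],[0,1,0,2,0,1,2,2,1,1,2,2],[0,2,2,1,2,0,0,1,1,2,1,0],[1,0,2,2,0,2,2,0,1,1,0,1],[1,0,2,1,1,1,2,0,1,2,2,2],[0,1,2,2,2,1,0,2,1,1,1,2],[0,1,0,2,0,1,0,2,0,1,0,2],[2,0,1,0,2,0,1,0,2,0,1,0]]),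
  ([[3,5,4,5],[1,3,1,4],[3,4,5,2],[5,3,6,5]], [[0,1,0,1,0,1,0,1,0,1,0,1],[2,0,2,0,2,0,2,0,2,0,2,0],[2,0,2,2,2,1,2,0,2,2,2,1],[0,2,1,2,2,2,0,2,1,2,2,2],[0,2,2,2,1,0,0,2,2,2,1,0],[1,0,1,2,0,1,1,0,1,2,0,1],[2,0,2,0,2,0,2,2,2,2,2,2],[0,2,0,2,0,2,1,2,1,2,1,2],[0,2,1,2,2,2,1,2,2,0,0,1],[1,0,1,1,1,2,1,1,0,2,2,0],[1,0,1,2,0,1,1,1,2,0,2,1],[0,1,1,1,2,0,2,1,0,2,2,2]]),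
  ([[0,1,6,3],[3,0,2,6],[3,5,4,5],[1,3,1,4]], [[1,2,1,1,2,1,2,2,1,2,1,1],[1,1,2,1,2,2,1,2,1,1,2,1],[0,1,1,2,2,0,1,0,2,2,0,1],[2,0,1,1,0,2,0,1,1,2,2,0],[1,1,1,1,1,1,1,2,1,2,1,2],[2,1,2,1,2,1,1,1,1,1,1,1],[1,0,0,1,2,0,1,0,0,1,2,0],[0,1,2,0,0,2,0,1,2,0,0,2],[1,2,1,0,1,1,1,2,1,0,1,1],[1,1,0,1,2,1,1,1,0,1,2,1],[0,1,0,1,0,1,0,1,0,1,0,1],[2,0,2,0,2,0,2,0,2,0,2,0]]),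
  ([[0,0,1,0],[0,0,0,1],[6,0,1,0],[0,6,0,1]], [[0,0,0,0,0,0,0,0,0,0,1,0],[0,0,0,0,0,0,0,0,0,0,0,1],[0,0,0,0,0,0,0,0,2,0,2,0],[0,0,0,0,0,0,0,0,0,2,0,2],[0,0,0,0,0,0,1,0,2,0,1,0],[0,0,0,0,0,0,0,1,0,2,0,1],[0,0,0,0,2,0,0,0,0,0,1,0],[0,0,0,0,0,2,0,0,0,0,0,1],[0,0,1,0,1,0,0,0,2,0,2,0],[0,0,0,1,0,1,0,0,0,2,0,2],[2,0,1,0,2,0,1,0,2,0,1,0],[0,2,0,1,0,2,0,1,0,2,0,1]]),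
  ([[2,6,5,2],[4,2,6,5],[6,1,6,1],[3,6,3,6]], [[0,2,0,1,0,2,0,1,0,2,0,1],[1,0,2,0,1,0,2,0,1,0,2,0],[1,0,2,1,1,1,2,0,1,2,2,2],[0,1,2,2,2,1,0,2,1,1,1,2],[0,1,1,2,1,0,0,2,2,1,2,0],[2,0,1,1,0,1,1,0,2,2,0,2],[1,0,2,0,1,0,2,1,1,2,2,1],[0,1,0,2,0,1,2,2,1,1,2,2],[0,1,2,2,2,1,2,2,2,0,0,1],[2,0,1,2,2,2,1,2,0,2,2,0],[2,0,1,1,0,1,1,2,1,0,2,2],[0,2,2,1,2,0,1,1,0,1,1,2]]),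
  ([[1,3,0,1],[2,1,3,0],[0,4,3,5],[5,0,1,3]], [[2,0,2,1,0,2,2,2,1,0,1,2],[0,2,2,2,1,0,1,2,0,1,1,1],[0,2,1,2,2,2,1,2,2,0,0,1],[1,0,1,1,1,2,1,1,0,2,2,0],[1,0,1,0,1,0,1,1,1,1,1,1],[0,1,0,1,0,1,2,1,2,1,2,1],[0,2,2,2,1,0,0,2,2,2,1,0],[1,0,1,2,0,1,1,0,1,2,0,1],[1,0,1,1,1,2,1,0,1,1,1,2],[0,1,2,1,1,1,0,1,2,1,1,1],[0,1,0,1,0,1,0,1,0,1,0,1],[2,0,2,0,2,0,2,0,2,0,2,0]]),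
  ([[3,2,0,3],[6,3,2,0],[2,5,1,6],[1,2,4,1]], [[0,2,0,2,0,2,0,2,0,2,0,2],[1,0,1,0,1,0,1,0,1,0,1,0],[1,2,1,0,1,1,1,2,1,0,1,1],[1,1,0,1,2,1,1,1,0,1,2,1],[2,0,0,2,1,0,2,0,0,2,1,0],[0,2,1,0,0,1,0,2,1,0,0,1],[1,1,1,1,1,1,1,2,1,2,1,2],[2,1,2,1,2,1,1,1,1,1,1,1],[0,2,2,1,1,0,2,0,1,1,0,2],[1,0,2,2,0,1,0,2,2,1,1,0],[1,2,1,1,2,1,2,2,1,2,1,1],[1,1,2,1,2,2,1,2,1,1,2,1]]),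
  ([[3,0,0,0],[0,3,0,0],[2,0,5,0],[0,2,0,5]], [[0,0,0,0,0,0,0,0,0,0,2,0],[0,0,0,0,0,0,0,0,0,0,0,2],[0,0,0,0,0,0,0,0,1,0,2,0],[0,0,0,0,0,0,0,0,0,1,0,2],[0,0,0,0,0,0,2,0,2,0,2,0],[0,0,0,0,0,0,0,2,0,2,0,2],[0,0,0,0,1,0,0,0,0,0,1,0],[0,0,0,0,0,1,0,0,0,0,0,1],[0,0,2,0,1,0,0,0,2,0,1,0],[0,0,0,2,0,1,0,0,0,2,0,1],[1,0,1,0,1,0,1,0,1,0,1,0],[0,1,0,1,0,1,0,1,0,1,0,1]]),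
  ([[2,1,4,3],[3,2,2,4],[2,5,2,5],[1,2,1,2]], [[0,1,0,2,0,1,0,2,0,1,0,2],[2,0,1,0,2,0,1,0,2,0,1,0],[2,2,1,0,2,1,1,1,2,0,1,2],[1,2,0,1,2,2,2,1,0,2,1,1],[2,0,0,2,1,0,1,0,0,1,2,0],[0,2,1,0,0,1,0,1,2,0,0,2],[2,1,1,2,2,1,1,1,2,2,1,1],[2,2,1,1,2,2,2,1,1,2,2,1],[0,1,1,1,1,0,1,0,1,2,0,2],[2,0,2,1,0,1,0,1,1,1,1,0],[2,2,1,2,1,1,2,1,2,2,1,2],[1,2,1,1,2,1,2,2,1,2,1,1]]),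
  ([[3,4,5,2],[5,3,6,5],[0,6,1,4],[4,0,5,1]], [[1,0,1,2,0,1,1,1,2,0,2,1],[0,1,1,1,2,0,2,1,0,2,2,2],[2,1,1,2,1,0,1,0,2,0,1,1],[2,2,1,1,0,1,0,1,0,2,2,1],[0,1,2,0,0,2,2,1,2,2,1,2],[2,0,0,2,1,0,2,2,1,2,1,1],[1,1,2,0,2,1,1,2,0,1,1,1],[2,1,0,2,2,2,1,1,2,0,2,1],[1,0,2,0,1,1,0,2,0,1,1,2],[0,1,0,2,2,1,1,0,2,0,1,1],[2,1,2,2,1,2,1,1,2,1,2,2],[2,2,1,2,1,1,2,1,2,2,1,2]]),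
  ([[3,0,4,0],[0,3,0,4],[0,0,5,0],[0,0,0,5]], [[2,0,0,0,0,0,0,0,0,0,0,0],[0,2,0,0,0,0,0,0,0,0,0,0],[1,0,2,0,0,0,0,0,0,0,0,0],[0,1,0,2,0,0,0,0,0,0,0,0],[2,0,2,0,2,0,0,0,0,0,0,0],[0,2,0,2,0,2,0,0,0,0,0,0],[2,0,0,0,0,0,2,0,0,0,0,0],[0,2,0,0,0,0,0,2,0,0,0,0],[1,0,2,0,0,0,1,0,2,0,0,0],[0,1,0,2,0,0,0,1,0,2,0,0],[2,0,2,0,2,0,2,0,2,0,2,0],[0,2,0,2,0,2,0,2,0,2,0,2]]),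
  ([[6,1,4,3],[3,6,2,4],[0,5,4,5],[1,0,1,4]], [[0,1,1,2,1,0,2,2,0,2,2,1],[2,0,1,1,0,1,1,2,1,0,2,2],[0,2,2,0,0,2,1,1,1,2,1,1],[1,0,0,2,1,0,2,1,1,1,2,1],[0,1,1,1,2,0,2,2,1,0,1,2],[2,0,2,1,0,2,1,2,0,1,1,1],[0,1,1,2,1,0,2,1,2,0,1,1],[2,0,1,1,0,1,2,2,0,2,2,1],[0,2,2,0,0,2,1,2,2,2,1,2],[1,0,0,2,1,0,1,1,1,2,1,1],[0,1,1,1,2,0,2,1,0,2,2,2],[2,0,2,1,0,2,2,2,1,0,1,2]]),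
  ([[1,6,2,6],[4,1,4,2],[2,5,0,1],[1,2,3,0]], [[1,0,0,2,2,0,0,1,1,0,0,2],[0,1,1,0,0,2,2,0,0,1,1,0],[0,1,2,0,0,0,2,0,0,2,0,0],[2,0,0,2,0,0,0,2,1,0,0,0],[2,0,0,0,0,0,0,2,0,0,0,0],[0,2,0,0,0,0,1,0,0,0,0,0],[0,1,1,0,0,2,0,0,0,0,0,0],[2,0,0,1,1,0,0,0,0,0,0,0],[2,0,0,2,0,0,0,0,0,0,0,0],[0,2,1,0,0,0,0,0,0,0,0,0],[0,2,0,0,0,0,0,0,0,0,0,0],[1,0,0,0,0,0,0,0,0,0,0,0]]),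
  ([[4,3,6,1],[2,4,3,6],[3,4,0,5],[5,3,1,0]], [[2,0,0,1,1,0,0,2,2,0,0,1],[0,2,2,0,0,1,1,0,0,2,2,0],[1,2,1,2,2,0,1,1,1,1,0,2],[1,1,1,1,0,2,2,1,2,1,1,0],[0,2,1,1,1,0,1,0,2,1,0,1],[1,0,2,1,0,1,0,1,2,2,2,0],[2,2,2,1,1,1,0,2,2,0,0,1],[1,2,2,2,2,1,1,0,0,2,2,0],[2,0,2,0,2,2,1,1,1,1,0,2],[0,2,0,2,1,2,2,1,2,1,1,0],[1,2,0,2,1,1,1,0,2,1,0,1],[1,1,1,0,2,1,0,1,2,2,2,0]]),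
  ([[6,3,0,5],[2,6,1,0],[6,1,4,3],[3,6,2,4]], [[0,0,0,0,0,0,0,0,0,0,0,1],[0,0,0,0,0,0,0,0,0,0,2,0],[0,0,0,0,0,0,0,0,0,1,2,1],[0,0,0,0,0,0,0,0,2,0,2,2],[0,0,0,0,0,0,0,1,1,2,1,0],[0,0,0,0,0,0,2,0,1,1,0,1],[0,0,0,0,0,1,0,0,0,0,2,2],[0,0,0,0,2,0,0,0,0,0,1,2],[0,0,0,1,2,1,0,0,2,2,0,1],[0,0,2,0,2,2,0,0,1,2,2,0],[0,1,1,2,1,0,2,2,0,2,2,1],[2,0,1,1,0,1,1,2,1,0,2,2]]),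
  ([[6,1,2,5],[3,6,1,2],[1,6,2,6],[4,1,4,2]], [[2,2,0,1,2,1,1,0,1,1,0,2],[1,2,2,0,2,2,0,1,2,1,1,0],[1,0,2,0,1,2,1,2,2,1,0,1],[0,1,0,2,1,1,1,1,2,2,2,0],[1,2,2,2,2,1,0,1,1,0,0,2],[1,1,1,2,2,2,2,0,0,1,1,0],[0,2,1,2,2,0,1,0,1,1,0,2],[1,0,1,1,0,2,0,1,2,1,1,0],[2,2,1,1,1,0,1,2,2,1,0,1],[1,2,2,1,0,1,1,1,2,2,2,0],[1,0,0,2,2,0,0,1,1,0,0,2],[0,1,1,0,0,2,2,0,0,1,1,0]]),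
  ([[1,6,6,3],[4,1,2,6],[4,3,6,1],[2,4,3,6]], [[0,2,0,0,0,0,0,0,0,0,0,0],[1,0,0,0,0,0,0,0,0,0,0,0],[1,0,0,1,0,0,0,0,0,0,0,0],[0,1,2,0,0,0,0,0,0,0,0,0],[0,1,1,0,0,2,0,0,0,0,0,0],[2,0,0,1,1,0,0,0,0,0,0,0],[1,0,0,0,0,0,0,1,0,0,0,0],[0,1,0,0,0,0,2,0,0,0,0,0],[0,1,2,0,0,0,2,0,0,2,0,0],[2,0,0,2,0,0,0,2,1,0,0,0],[2,0,0,1,1,0,0,2,2,0,0,1],[0,2,2,0,0,1,1,0,0,2,2,0]]),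
  ([[5,2,2,1],[6,5,3,2],[3,4,6,4],[5,3,5,6]], [[1,1,0,2,1,2,2,0,2,2,0,1],[2,1,1,0,1,1,0,2,1,2,2,0],[0,1,1,2,0,0,1,1,0,1,0,0],[2,0,1,1,0,0,2,1,2,0,0,0],[1,2,0,0,0,0,0,1,0,0,0,0],[1,1,0,0,0,0,2,0,0,0,0,0],[2,0,2,2,0,1,0,0,0,0,0,0],[0,2,1,2,2,0,0,0,0,0,0,0],[1,1,0,1,0,0,0,0,0,0,0,0],[2,1,2,0,0,0,0,0,0,0,0,0],[0,1,0,0,0,0,0,0,0,0,0,0],[2,0,0,0,0,0,0,0,0,0,0,0]]),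
  ([[1,4,0,2],[5,1,6,0],[1,6,3,4],[4,1,5,3]], [[0,0,0,0,0,0,0,0,0,0,0,2],[0,0,0,0,0,0,0,0,0,0,1,0],[0,0,0,0,0,0,0,0,0,2,1,2],[0,0,0,0,0,0,0,0,1,0,1,1],[0,0,0,0,0,0,0,2,2,1,2,0],[0,0,0,0,0,0,1,0,2,2,0,2],[0,0,0,0,0,2,0,0,0,0,1,1],[0,0,0,0,1,0,0,0,0,0,2,1],[0,0,0,2,1,2,0,0,1,1,0,2],[0,0,1,0,1,1,0,0,2,1,1,0],[0,2,2,1,2,0,1,1,0,1,1,2],[1,0,2,2,0,2,2,1,2,0,1,1]]),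
  ([[0,5,2,1],[1,0,3,2],[2,6,0,2],[4,2,6,0]], [[1,1,1,0,2,1,0,1,2,2,2,0],[2,1,0,1,2,2,2,0,1,2,0,2],[1,2,2,0,1,0,1,0,1,1,2,2],[1,1,0,2,0,1,0,1,2,1,1,2],[2,2,1,2,1,1,0,2,1,0,0,1],[1,2,1,1,2,1,1,0,0,1,2,0],[1,2,0,2,1,1,2,2,2,0,1,2],[1,1,1,0,2,1,1,2,0,2,1,1],[2,2,0,1,0,2,2,1,1,0,2,0],[1,2,2,0,1,0,2,2,0,1,0,2],[2,1,2,2,1,2,1,1,2,1,2,2],[2,2,1,2,1,1,2,1,2,2,1,2]]),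
  ([[4,3,3,5],[2,4,1,3],[6,1,0,3],[3,6,2,0]], [[2,0,0,1,1,0,0,2,2,0,0,1],[0,2,2,0,0,1,1,0,0,2,2,0],[2,2,1,1,1,0,1,2,2,1,0,1],[1,2,2,1,0,1,1,1,2,2,2,0],[0,1,2,1,1,0,2,0,2,2,0,1],[2,0,2,2,0,1,0,2,1,2,2,0],[1,2,2,2,2,1,0,1,1,0,0,2],[1,1,1,2,2,2,2,0,0,1,1,0],[2,0,1,0,2,1,2,1,1,2,0,2],[0,2,0,1,2,2,2,2,1,1,1,0],[2,2,0,1,2,1,1,0,1,1,0,2],[1,2,2,0,2,2,0,1,2,1,1,0]]),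
  ([[1,3,6,1],[2,1,3,6],[1,4,2,5],[5,1,1,2]], [[2,0,1,1,0,1,1,2,1,0,2,2],[0,2,2,1,2,0,1,1,0,1,1,2],[2,2,2,2,1,0,2,0,2,0,2,1],[1,2,1,2,0,1,0,2,0,2,2,2],[0,1,2,0,0,2,2,2,1,2,1,1],[2,0,0,2,1,0,1,2,1,1,2,1],[1,2,1,0,2,2,2,2,0,2,2,1],[1,1,0,1,1,2,1,2,1,0,2,2],[2,0,2,0,2,1,0,1,0,1,1,1],[0,2,0,2,2,2,2,0,2,0,2,1],[2,2,1,2,1,1,2,1,2,2,1,2],[1,2,1,1,2,1,2,2,1,2,1,1]]),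
  ([[4,5,3,4],[1,4,5,3],[0,2,6,1],[6,0,3,6]], [[2,2,1,2,1,1,2,1,2,2,1,2],[1,2,1,1,2,1,2,2,1,2,1,1],[0,2,2,2,2,0,2,0,2,1,0,1],[1,0,1,2,0,2,0,2,2,2,2,0],[2,1,1,2,2,1,1,1,2,2,1,1],[2,2,1,1,2,2,2,1,1,2,2,1],[1,0,0,1,2,0,2,0,0,2,1,0],[0,1,2,0,0,2,0,2,1,0,0,1],[2,2,1,0,2,1,1,1,2,0,1,2],[1,2,0,1,2,2,2,1,0,2,1,1],[0,2,0,1,0,2,0,1,0,2,0,1],[1,0,2,0,1,0,2,0,1,0,2,0]]),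
  ([[2,6,0,2],[4,2,6,0],[2,1,5,1],[3,2,3,5]], [[2,1,2,2,1,2,1,1,2,1,2,2],[2,2,1,2,1,1,2,1,2,2,1,2],[2,0,1,0,2,2,0,1,0,2,2,1],[0,2,0,1,1,2,2,0,1,0,2,2],[1,1,2,0,2,1,1,2,0,1,1,1],[2,1,0,2,2,2,1,1,2,0,2,1],[0,2,1,0,0,1,1,2,1,1,2,1],[1,0,0,1,2,0,1,1,2,1,2,2],[2,1,1,2,1,0,1,0,2,0,1,1],[2,2,1,1,0,1,0,1,0,2,2,1],[2,0,2,1,0,2,2,2,1,0,1,2],[0,2,2,2,1,0,1,2,0,1,1,1]]),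
  ([[5,0,3,0],[0,5,0,3],[0,0,3,0],[0,0,0,3]], [[2,0,0,0,0,0,0,0,0,0,0,0],[0,2,0,0,0,0,0,0,0,0,0,0],[2,0,2,0,0,0,0,0,0,0,0,0],[0,2,0,2,0,0,0,0,0,0,0,0],[2,0,1,0,2,0,0,0,0,0,0,0],[0,2,0,1,0,2,0,0,0,0,0,0],[1,0,0,0,0,0,2,0,0,0,0,0],[0,1,0,0,0,0,0,2,0,0,0,0],[1,0,1,0,0,0,2,0,2,0,0,0],[0,1,0,1,0,0,0,2,0,2,0,0],[1,0,2,0,1,0,2,0,1,0,2,0],[0,1,0,2,0,1,0,2,0,1,0,2]]),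
  ([[0,1,3,4],[3,0,5,3],[6,4,1,6],[5,6,4,1]], [[1,2,2,0,2,2,0,1,2,1,1,0],[1,1,0,2,1,2,2,0,2,2,0,1],[1,0,0,0,0,1,1,2,0,0,1,1],[0,1,0,0,2,0,1,1,0,0,2,1],[2,2,0,2,2,1,1,0,2,2,0,2],[1,2,1,0,2,2,0,1,1,2,1,0],[0,1,2,1,1,0,2,2,0,1,2,1],[2,0,2,2,0,1,1,2,2,0,2,2],[1,2,0,0,1,1,0,2,0,0,1,0],[1,1,0,0,2,1,1,0,0,0,0,1],[1,0,2,2,0,2,2,1,2,0,1,1],[0,1,1,2,1,0,2,2,0,2,2,1]]),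
  ([[6,4,1,6],[5,6,4,1],[6,3,5,2],[2,6,6,5]], [[1,0,2,2,0,2,2,1,2,0,1,1],[0,1,1,2,1,0,2,2,0,2,2,1],[1,1,1,1,2,0,1,0,1,0,1,2],[2,1,2,1,0,2,0,1,0,1,1,1],[0,2,1,0,0,1,1,1,2,1,2,2],[1,0,0,1,2,0,2,1,2,2,1,2],[2,1,2,0,1,1,1,1,0,1,1,2],[2,2,0,2,2,1,2,1,2,0,1,1],[1,0,1,0,1,2,0,2,0,2,2,2],[0,1,0,1,1,1,1,0,1,0,1,2],[1,1,2,1,2,2,1,2,1,1,2,1],[2,1,2,2,1,2,1,1,2,1,2,2]]),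
  ([[6,4,5,6],[5,6,4,5],[4,3,5,2],[2,4,6,5]], [[0,0,0,0,0,0,0,0,0,0,0,2],[0,0,0,0,0,0,0,0,0,0,1,0],[0,0,0,0,0,0,0,0,0,2,1,1],[0,0,0,0,0,0,0,0,1,0,2,1],[0,0,0,0,0,0,0,2,2,2,1,0],[0,0,0,0,0,0,1,0,1,2,0,1],[0,0,0,0,0,2,0,0,0,0,1,2],[0,0,0,0,1,0,0,0,0,0,1,1],[0,0,0,2,1,1,0,0,1,2,0,2],[0,0,1,0,2,1,0,0,1,1,1,0],[0,2,2,2,1,0,1,2,0,1,1,1],[1,0,1,2,0,1,1,1,2,0,2,1]]),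
  ([[4,5,1,4],[1,4,5,1],[4,2,0,1],[6,4,3,0]], [[0,1,1,1,2,0,2,1,0,2,2,2],[2,0,2,1,0,2,2,2,1,0,1,2],[0,1,1,0,0,1,2,1,1,1,2,1],[2,0,0,1,2,0,2,2,2,1,2,2],[0,1,1,2,1,0,2,1,2,0,1,1],[2,0,1,1,0,1,2,2,0,2,2,1],[0,2,2,2,1,0,1,1,2,0,2,1],[1,0,1,2,0,1,2,1,0,2,2,2],[0,2,2,0,0,2,1,1,1,2,1,1],[1,0,0,2,1,0,2,1,1,1,2,1],[0,2,2,1,2,0,1,1,0,1,1,2],[1,0,2,2,0,2,2,1,2,0,1,1]]),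
  ([[2,5,2,5],[1,2,1,2],[0,4,5,2],[5,0,6,5]], [[2,2,1,2,1,1,2,1,2,2,1,2],[1,2,1,1,2,1,2,2,1,2,1,1],[1,0,1,0,1,2,0,2,0,2,2,2],[0,1,0,1,1,1,1,0,1,0,1,2],[1,2,1,0,2,2,2,2,0,2,2,1],[1,1,0,1,1,2,1,2,1,0,2,2],[0,2,1,0,0,1,1,1,2,1,2,2],[1,0,0,1,2,0,2,1,2,2,1,2],[2,2,2,2,1,0,2,0,2,0,2,1],[1,2,1,2,0,1,0,2,0,2,2,2],[1,0,2,2,0,2,2,1,2,0,1,1],[0,1,1,2,1,0,2,2,0,2,2,1]]),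
  ([[0,5,4,5],[1,0,1,4],[1,4,0,2],[5,1,6,0]], [[0,1,1,1,2,0,2,1,0,2,2,2],[2,0,2,1,0,2,2,2,1,0,1,2],[0,0,0,2,1,1,0,0,1,2,0,2],[0,0,1,0,2,1,0,0,1,1,1,0],[0,0,0,0,0,1,0,0,0,0,2,1],[0,0,0,0,2,0,0,0,0,0,2,2],[0,0,0,0,0,0,0,2,2,2,1,0],[0,0,0,0,0,0,1,0,1,2,0,1],[0,0,0,0,0,0,0,0,0,1,2,2],[0,0,0,0,0,0,0,0,2,0,1,2],[0,0,0,0,0,0,0,0,0,0,0,2],[0,0,0,0,0,0,0,0,0,0,1,0]]),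
  ([[3,2,4,3],[6,3,2,4],[0,5,1,6],[1,0,4,1]], [[1,1,2,1,2,2,1,2,1,1,2,1],[2,1,2,2,1,2,1,1,2,1,2,2],[0,1,1,1,1,0,1,0,1,2,0,2],[2,0,2,1,0,1,0,1,1,1,1,0],[1,2,2,1,1,2,2,2,1,1,2,2],[1,1,2,2,1,1,1,2,2,1,1,2],[2,0,0,2,1,0,1,0,0,1,2,0],[0,2,1,0,0,1,0,1,2,0,0,2],[1,1,2,0,1,2,2,2,1,0,2,1],[2,1,0,2,1,1,1,2,0,1,2,2],[0,1,0,2,0,1,0,2,0,1,0,2],[2,0,1,0,2,0,1,0,2,0,1,0]]),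
  ([[0,4,3,5],[5,0,1,3],[6,1,3,4],[3,6,5,3]], [[0,1,0,1,0,1,0,1,0,1,0,1],[2,0,2,0,2,0,2,0,2,0,2,0],[2,2,2,1,2,0,2,2,2,1,2,0],[1,2,2,2,0,2,1,2,2,2,0,2],[2,0,1,2,0,2,2,0,1,2,0,2],[0,2,1,1,1,0,0,2,1,1,1,0],[2,1,2,1,2,1,2,0,2,0,2,0],[2,2,2,2,2,2,0,2,0,2,0,2],[0,1,1,0,2,2,1,2,2,2,0,2],[2,0,0,1,1,2,1,1,1,2,1,0],[2,2,2,0,1,2,0,2,1,1,1,0],[1,2,0,2,1,1,1,0,2,1,0,1]]),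
  ([[2,5,1,6],[1,2,4,1],[6,3,1,3],[2,6,2,1]], [[1,2,1,1,2,1,2,2,1,2,1,1],[1,1,2,1,2,2,1,2,1,1,2,1],[2,2,0,1,0,2,2,1,1,0,2,0],[1,2,2,0,1,0,2,2,0,1,0,2],[2,1,0,1,2,2,1,1,1,0,2,1],[2,2,2,0,1,2,2,1,0,1,2,2],[2,2,1,2,1,1,0,2,1,0,0,1],[1,2,1,1,2,1,1,0,0,1,2,0],[2,1,1,0,2,0,2,0,2,2,1,1],[2,2,0,1,0,2,0,2,1,2,2,1],[1,1,1,0,2,1,0,1,2,2,2,0],[2,1,0,1,2,2,2,0,1,2,0,2]]),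
  ([[2,0,5,0],[0,2,0,5],[6,0,5,0],[0,6,0,5]], [[1,0,1,0,1,0,1,0,1,0,1,0],[0,1,0,1,0,1,0,1,0,1,0,1],[2,0,0,0,1,0,2,0,0,0,1,0],[0,2,0,0,0,1,0,2,0,0,0,1],[1,0,2,0,1,0,1,0,2,0,1,0],[0,1,0,2,0,1,0,1,0,2,0,1],[1,0,1,0,1,0,2,0,2,0,2,0],[0,1,0,1,0,1,0,2,0,2,0,2],[2,0,0,0,1,0,1,0,0,0,2,0],[0,2,0,0,0,1,0,1,0,0,0,2],[1,0,2,0,1,0,2,0,1,0,2,0],[0,1,0,2,0,1,0,2,0,1,0,2]]),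
  ([[0,0,5,0],[0,0,0,5],[4,0,1,0],[0,4,0,1]], [[2,0,2,0,2,0,2,0,2,0,2,0],[0,2,0,2,0,2,0,2,0,2,0,2],[0,0,2,0,1,0,0,0,2,0,1,0],[0,0,0,2,0,1,0,0,0,2,0,1],[0,0,0,0,2,0,0,0,0,0,2,0],[0,0,0,0,0,2,0,0,0,0,0,2],[0,0,0,0,0,0,2,0,2,0,2,0],[0,0,0,0,0,0,0,2,0,2,0,2],[0,0,0,0,0,0,0,0,2,0,1,0],[0,0,0,0,0,0,0,0,0,2,0,1],[0,0,0,0,0,0,0,0,0,0,2,0],[0,0,0,0,0,0,0,0,0,0,0,2]]),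
  ([[3,4,0,5],[5,3,1,0],[6,1,1,4],[3,6,5,1]], [[1,2,0,2,1,1,1,0,2,1,0,1],[1,1,1,0,2,1,0,1,2,2,2,0],[0,1,1,1,0,0,1,2,0,1,0,0],[2,0,2,1,0,0,1,1,2,0,0,0],[1,1,0,0,0,0,0,1,0,0,0,0],[2,1,0,0,0,0,2,0,0,0,0,0],[1,0,2,1,0,1,0,0,0,0,0,0],[0,1,2,2,2,0,0,0,0,0,0,0],[1,2,0,1,0,0,0,0,0,0,0,0],[1,1,2,0,0,0,0,0,0,0,0,0],[0,1,0,0,0,0,0,0,0,0,0,0],[2,0,0,0,0,0,0,0,0,0,0,0]]),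
  ([[1,6,3,4],[4,1,5,3],[0,2,3,2],[6,0,6,3]], [[0,2,2,1,2,0,1,1,0,1,1,2],[1,0,2,2,0,2,2,1,2,0,1,1],[0,1,1,0,0,1,2,2,2,1,2,2],[2,0,0,1,2,0,1,2,2,2,1,2],[0,2,2,2,1,0,1,1,2,0,2,1],[1,0,1,2,0,1,2,1,0,2,2,2],[0,2,2,1,2,0,1,2,1,0,2,2],[1,0,2,2,0,2,1,1,0,1,1,2],[0,1,1,0,0,1,2,1,1,1,2,1],[2,0,0,1,2,0,2,2,2,1,2,2],[0,2,2,2,1,0,1,2,0,1,1,1],[1,0,1,2,0,1,1,1,2,0,2,1]]),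
  ([[1,4,2,5],[5,1,1,2],[0,1,3,4],[3,0,5,3]], [[2,2,1,2,1,1,2,1,2,2,1,2],[1,2,1,1,2,1,2,2,1,2,1,1],[2,1,0,1,0,1,1,1,1,0,1,0],[2,2,2,0,2,0,2,1,0,1,0,1],[1,1,0,2,1,2,1,2,2,0,2,2],[2,1,1,0,1,1,1,1,0,2,1,2],[2,1,2,2,1,2,0,2,1,0,0,1],[2,2,1,2,1,1,1,0,0,1,2,0],[1,1,1,0,1,0,2,0,1,2,1,2],[2,1,0,1,0,1,0,2,1,1,1,1],[1,2,2,0,2,2,0,1,2,1,1,0],[1,1,0,2,1,2,2,0,2,2,0,1]]),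
  ([[2,1,5,1],[3,2,3,5],[0,2,5,6],[6,0,4,5]], [[2,0,2,1,0,2,2,2,1,0,1,2],[0,2,2,2,1,0,1,2,0,1,1,1],[2,2,0,0,2,1,0,1,0,0,1,0],[1,2,0,0,2,2,2,0,0,0,0,1],[0,1,2,2,2,0,2,1,0,1,2,2],[2,0,1,2,0,2,2,2,2,0,1,2],[1,2,0,1,1,1,1,0,1,2,0,1],[1,1,2,0,2,1,0,1,1,1,2,0],[2,0,0,0,0,1,1,1,0,0,1,2],[0,2,0,0,2,0,2,1,0,0,1,1],[2,2,2,0,1,2,0,2,1,1,1,0],[1,2,0,2,1,1,1,0,2,1,0,1]]),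
  ([[0,3,4,2],[2,0,6,4],[1,6,4,3],[4,1,2,4]], [[0,2,0,2,0,2,0,2,0,2,0,2],[1,0,1,0,1,0,1,0,1,0,1,0],[1,1,1,2,1,0,1,1,1,2,1,0],[2,1,1,1,0,1,2,1,1,1,0,1],[1,0,2,1,0,1,1,0,2,1,0,1],[0,1,2,2,2,0,0,1,2,2,2,0],[1,2,1,2,1,2,1,0,1,0,1,0],[1,1,1,1,1,1,0,1,0,1,0,1],[0,2,2,0,1,1,2,1,1,1,0,1],[1,0,0,2,2,1,2,2,2,1,2,0],[1,1,1,0,2,1,0,1,2,2,2,0],[2,1,0,1,2,2,2,0,1,2,0,2]]),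
  ([[5,2,6,1],[6,5,3,6],[1,4,6,4],[5,1,5,6]], [[2,1,2,2,1,2,1,1,2,1,2,2],[2,2,1,2,1,1,2,1,2,2,1,2],[1,1,0,2,0,1,1,2,2,0,1,0],[2,1,1,0,2,0,1,1,0,2,0,1],[1,2,0,2,1,1,2,2,2,0,1,2],[1,1,1,0,2,1,1,2,0,2,1,1],[1,1,2,1,2,2,0,1,2,0,0,2],[2,1,2,2,1,2,2,0,0,2,1,0],[1,2,2,0,1,0,1,0,1,1,2,2],[1,1,0,2,0,1,0,1,2,1,1,2],[2,2,2,0,1,2,0,2,1,1,1,0],[1,2,0,2,1,1,1,0,2,1,0,1]]),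
  ([[0,5,1,6],[1,0,4,1],[4,3,4,3],[2,4,2,4]], [[0,1,0,2,0,1,0,2,0,1,0,2],[2,0,1,0,2,0,1,0,2,0,1,0],[2,1,1,1,2,0,1,2,2,2,1,0],[2,2,2,1,0,2,1,1,1,2,0,1],[1,0,1,1,0,2,2,0,2,2,0,1],[0,1,2,1,1,0,0,2,1,2,2,0],[2,2,1,1,2,2,1,0,2,0,1,0],[1,2,2,1,1,2,0,1,0,2,0,1],[0,1,1,0,1,2,1,1,1,2,0,1],[2,0,0,1,1,1,2,1,1,1,2,0],[2,1,1,0,1,1,0,2,1,2,2,0],[2,2,0,1,2,1,1,0,1,1,0,2]]),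
  ([[2,5,0,6],[6,5,3,0],[6,2,1,5],[1,1,6,6]], [[0,0,0,0,0,0,0,0,0,0,1,1],[0,0,0,0,0,0,0,0,0,0,1,2],[0,0,0,0,0,0,0,0,2,2,2,0],[0,0,0,0,0,0,0,0,2,1,0,1],[0,0,0,0,0,0,1,1,2,0,2,1],[0,0,0,0,0,0,1,2,0,1,1,1],[0,0,0,0,2,2,0,0,0,0,0,1],[0,0,0,0,2,1,0,0,0,0,1,0],[0,0,1,1,1,0,0,0,0,2,1,1],[0,0,1,2,0,2,0,0,2,0,1,2],[2,2,1,0,1,2,0,1,1,1,2,0],[2,1,0,2,2,2,1,0,1,2,0,1]]),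
  ([[2,4,4,4],[2,5,2,3],[2,4,5,2],[2,5,1,2]], [[1,2,2,2,2,1,1,1,1,2,2,2],[2,2,2,1,1,1,1,2,2,2,2,1],[2,2,1,2,0,0,1,2,1,1,0,0],[2,1,2,2,0,0,2,2,1,2,0,0],[2,1,0,0,0,0,2,2,0,0,0,0],[1,1,0,0,0,0,2,1,0,0,0,0],[2,2,2,1,1,1,0,0,0,0,0,0],[2,1,1,1,1,2,0,0,0,0,0,0],[2,1,2,2,0,0,0,0,0,0,0,0],[1,1,2,1,0,0,0,0,0,0,0,0],[1,1,0,0,0,0,0,0,0,0,0,0],[1,2,0,0,0,0,0,0,0,0,0,0]]),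
  ([[6,5,5,5],[6,1,6,2],[0,0,5,4],[0,0,2,2]], [[2,2,0,0,0,0,0,0,0,0,0,0],[2,1,0,0,0,0,0,0,0,0,0,0],[1,0,2,2,0,0,0,0,0,0,0,0],[0,2,2,1,0,0,0,0,0,0,0,0],[1,2,2,0,2,2,0,0,0,0,0,0],[2,2,0,1,2,1,0,0,0,0,0,0],[0,2,0,0,0,0,2,2,0,0,0,0],[2,0,0,0,0,0,2,1,0,0,0,0],[2,2,0,2,0,0,1,0,2,2,0,0],[2,1,2,0,0,0,0,2,2,1,0,0],[1,0,1,1,0,2,1,2,2,0,2,2],[0,2,1,2,2,0,2,2,0,1,2,1]]),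
  ([[2,4,0,5],[2,5,6,0],[6,5,1,6],[6,1,3,6]], [[2,1,1,1,1,2,2,2,2,1,1,1],[1,1,1,2,2,2,2,1,1,1,1,2],[0,2,0,2,1,2,1,0,1,0,1,1],[2,0,2,0,2,2,0,2,0,2,1,2],[2,2,2,0,1,2,1,2,0,2,1,1],[2,1,0,1,2,2,2,2,2,0,1,2],[2,0,0,1,1,0,1,1,1,2,2,2],[0,1,1,0,0,2,1,2,2,2,2,1],[2,1,2,1,1,0,2,0,2,0,2,2],[1,1,1,1,0,2,0,1,0,1,2,1],[0,2,1,1,1,0,2,1,0,1,2,2],[2,0,1,2,0,2,1,1,1,0,2,1]]),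
  ([[2,4,5,2],[2,5,1,2],[0,0,1,5],[0,0,6,6]], [[1,1,0,0,0,0,0,0,0,0,0,0],[1,2,0,0,0,0,0,0,0,0,0,0],[0,1,1,1,0,0,0,0,0,0,0,0],[1,0,1,2,0,0,0,0,0,0,0,0],[1,2,0,2,1,1,0,0,0,0,0,0],[2,2,2,0,1,2,0,0,0,0,0,0],[2,0,0,0,0,0,1,1,0,0,0,0],[0,1,0,0,0,0,1,2,0,0,0,0],[1,1,2,0,0,0,0,1,1,1,0,0],[1,2,0,1,0,0,1,0,1,2,0,0],[0,1,2,2,2,0,1,2,0,2,1,1],[1,0,2,1,0,1,2,2,2,0,1,2]]),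
  ([[0,6,3,4],[3,0,2,4],[4,3,3,3],[5,3,5,4]], [[1,2,0,1,1,1,2,0,2,1,0,2],[2,2,1,0,1,2,0,1,1,1,2,0],[0,1,0,2,2,1,2,1,1,2,1,0],[1,0,2,0,1,1,1,1,2,2,0,2],[1,1,2,1,2,2,0,2,1,0,0,1],[1,2,1,1,2,1,2,0,0,2,1,0],[1,0,1,2,0,1,0,2,2,2,1,0],[0,2,2,2,1,0,2,0,2,1,0,2],[1,2,2,1,2,0,2,2,1,1,0,1],[2,2,1,1,0,1,2,1,1,2,1,0],[0,1,2,0,0,2,1,0,0,1,2,0],[1,0,0,1,2,0,0,2,1,0,0,1]]),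
  ([[0,2,2,2],[1,0,1,5],[6,1,0,4],[4,1,2,0]], [[2,2,0,2,2,1,2,0,1,1,0,1],[2,1,2,0,1,1,0,1,1,2,1,0],[2,2,2,1,2,2,2,0,0,1,2,0],[2,1,1,1,2,1,0,1,1,0,0,1],[2,2,1,0,1,2,2,0,2,1,0,2],[2,1,0,2,2,2,0,1,1,1,2,0],[1,1,0,1,1,2,0,2,2,1,2,0],[1,2,1,0,2,2,2,0,1,1,0,1],[1,1,1,2,1,1,0,2,2,0,0,2],[1,2,2,2,1,2,2,0,0,1,2,0],[1,1,2,0,2,1,0,2,2,2,1,0],[1,2,0,1,1,1,2,0,2,1,0,2]]),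
  ([[6,5,0,1],[6,1,4,0],[6,5,5,5],[6,1,6,2]], [[0,1,2,2,2,0,1,2,0,2,1,1],[1,0,2,1,0,1,2,2,2,0,1,2],[2,2,1,0,0,0,0,2,2,2,0,0],[2,1,0,2,0,0,2,0,2,1,0,0],[2,0,0,0,0,0,1,1,0,0,0,0],[0,1,0,0,0,0,1,2,0,0,0,0],[2,1,0,1,2,2,0,0,0,0,0,0],[1,1,1,0,2,1,0,0,0,0,0,0],[0,1,1,1,0,0,0,0,0,0,0,0],[1,0,1,2,0,0,0,0,0,0,0,0],[2,2,0,0,0,0,0,0,0,0,0,0],[2,1,0,0,0,0,0,0,0,0,0,0]]),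
  ([[6,5,1,6],[6,1,3,6],[4,1,1,1],[4,3,4,6]], [[0,2,1,1,1,0,2,1,0,1,2,2],[2,0,1,2,0,2,1,1,1,0,2,1],[1,0,0,1,1,0,2,2,1,2,2,2],[0,2,1,0,0,2,2,1,2,2,2,1],[0,1,2,1,1,0,1,2,2,0,2,2],[1,0,1,1,0,2,2,2,0,1,2,1],[1,0,2,1,0,1,1,2,0,2,1,1],[0,2,1,1,1,0,2,2,2,0,1,2],[0,1,2,0,0,1,1,1,2,1,1,1],[1,0,0,1,1,0,1,2,1,1,1,2],[2,0,2,2,0,1,2,1,1,0,1,1],[0,1,2,1,1,0,1,1,0,2,1,2]]),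
  ([[6,6,1,2],[3,1,1,6],[4,3,1,2],[5,3,1,6]], [[2,0,0,2,1,0,0,1,2,0,0,2],[0,1,2,0,0,2,1,0,0,1,2,0],[2,2,1,0,2,1,2,1,0,2,1,1],[2,1,0,2,1,1,1,1,2,0,1,2],[0,1,0,2,0,1,1,0,2,0,1,0],[1,0,2,0,1,0,0,2,0,1,0,2],[1,2,1,1,2,1,2,1,2,2,1,2],[2,2,1,2,1,1,1,1,2,1,2,2],[2,0,2,1,0,1,1,0,1,2,0,2],[0,1,1,1,1,0,0,2,2,2,2,0],[2,2,1,1,2,2,1,1,2,2,1,1],[2,1,1,2,2,1,1,2,2,1,1,2]]),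
  ([[0,0,1,5],[0,0,6,6],[5,3,3,3],[5,2,5,4]], [[0,1,2,2,2,0,1,2,0,2,1,1],[1,0,2,1,0,1,2,2,2,0,1,2],[2,1,2,1,1,0,2,0,2,0,2,2],[1,1,1,1,0,2,0,1,0,1,2,1],[1,0,0,2,2,0,2,2,2,1,1,1],[0,2,2,0,0,1,2,1,1,1,1,2],[2,2,2,0,1,2,1,2,0,2,1,1],[2,1,0,1,2,2,2,2,2,0,1,2],[0,1,0,1,2,1,2,0,2,0,2,2],[1,0,1,0,1,1,0,1,0,1,2,1],[2,1,1,1,1,2,2,2,2,1,1,1],[1,1,1,2,2,2,2,1,1,1,1,2]]),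
  ([[6,6,0,2],[3,1,1,0],[6,2,5,4],[1,1,2,2]], [[1,1,1,1,1,1,1,1,1,1,1,1],[1,2,1,2,1,2,1,2,1,2,1,2],[2,0,0,1,1,2,2,0,0,1,1,2],[0,1,1,0,2,2,0,1,1,0,2,2],[2,1,0,1,2,2,2,1,0,1,2,2],[1,1,1,0,2,1,1,1,1,0,2,1],[0,1,0,1,0,1,1,2,1,2,1,2],[1,0,1,0,1,0,2,2,2,2,2,2],[1,1,1,2,1,0,0,1,1,0,2,2],[1,2,2,2,0,2,1,0,0,2,2,1],[2,0,1,2,0,2,1,1,1,0,2,1],[0,1,2,2,2,0,1,2,0,2,1,1]]),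
  ([[6,2,0,0],[1,1,0,0],[6,1,5,3],[4,1,5,2]], [[1,0,0,1,2,0,0,2,1,0,0,1],[0,2,1,0,0,1,2,0,0,2,1,0],[0,1,2,2,2,2,1,0,2,1,2,1],[1,0,2,1,2,1,0,2,1,1,1,1],[2,0,2,2,0,1,0,1,2,1,1,0],[0,1,2,1,1,0,1,0,1,1,0,2],[0,1,2,0,0,2,1,1,2,1,2,2],[1,0,0,1,2,0,1,2,1,1,2,1],[2,0,1,2,1,2,2,1,0,1,0,1],[0,1,2,2,2,2,1,1,1,0,1,0],[0,2,1,2,2,0,2,2,0,1,2,1],[2,0,2,2,0,1,2,1,1,0,1,1]]),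
  ([[4,1,1,1],[4,3,4,6],[5,3,0,2],[5,2,1,0]], [[2,0,2,2,0,1,2,1,1,0,1,1],[0,1,2,1,1,0,1,1,0,2,1,2],[1,2,2,1,0,1,0,1,0,2,1,1],[2,2,1,1,1,0,1,0,2,0,1,2],[0,2,2,0,0,1,2,2,2,1,1,1],[2,0,0,1,1,0,2,1,1,1,1,2],[2,2,0,1,2,1,1,2,2,0,2,2],[2,1,1,0,1,1,2,2,0,1,2,1],[2,0,1,0,2,1,0,2,0,1,2,2],[0,1,0,2,1,1,2,0,1,0,2,1],[1,2,2,2,2,1,1,1,1,2,2,2],[2,2,2,1,1,1,1,2,2,2,2,1]]),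
  ([[2,3,4,6],[5,5,3,3],[2,5,5,5],[6,5,6,2]], [[1,2,0,1,1,1,2,0,2,1,0,2],[2,2,1,0,1,2,0,1,1,1,2,0],[1,0,0,0,0,2,1,1,0,0,1,2],[0,2,0,0,2,0,1,2,0,0,2,2],[2,2,2,0,1,2,0,1,2,2,2,0],[2,1,0,1,2,2,1,0,2,1,0,1],[0,1,1,1,2,0,1,2,0,1,1,1],[1,0,1,2,0,1,2,2,1,0,1,2],[1,2,0,0,2,2,1,0,0,0,0,2],[2,2,0,0,2,1,0,2,0,0,2,0],[1,0,2,1,0,1,2,2,2,0,1,2],[0,2,1,1,1,0,2,1,0,1,2,2]]),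
  ([[0,2,0,6],[1,0,3,0],[0,3,0,3],[5,0,5,0]], [[1,2,2,1,1,2,2,1,1,2,2,1],[2,2,1,1,2,2,1,1,2,2,1,1],[2,1,0,0,1,2,1,2,0,0,2,1],[1,1,0,0,2,2,2,2,0,0,1,1],[1,2,1,2,1,2,2,1,2,1,2,1],[2,2,2,2,2,2,1,1,1,1,1,1],[1,2,2,1,1,2,1,2,2,1,1,2],[2,2,1,1,2,2,2,2,1,1,2,2],[2,1,0,0,1,2,2,1,0,0,1,2],[1,1,0,0,2,2,1,1,0,0,2,2],[1,2,1,2,1,2,1,2,1,2,1,2],[2,2,2,2,2,2,2,2,2,2,2,2]]),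
  ([[0,4,0,2],[2,0,1,0],[0,1,0,1],[4,0,4,0]], [[2,1,1,2,2,1,1,2,2,1,1,2],[1,1,2,2,1,1,2,2,1,1,2,2],[2,1,2,1,0,0,1,2,1,2,0,0],[1,1,1,1,0,0,2,2,2,2,0,0],[2,1,0,0,0,0,1,2,0,0,0,0],[1,1,0,0,0,0,2,2,0,0,0,0],[1,2,2,1,1,2,0,0,0,0,0,0],[2,2,1,1,2,2,0,0,0,0,0,0],[1,2,1,2,0,0,0,0,0,0,0,0],[2,2,2,2,0,0,0,0,0,0,0,0],[1,2,0,0,0,0,0,0,0,0,0,0],[2,2,0,0,0,0,0,0,0,0,0,0]]),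
  ([[0,4,0,6],[2,0,3,0],[0,3,0,5],[5,0,6,0]], [[2,1,2,1,2,1,2,1,2,1,2,1],[1,1,1,1,1,1,1,1,1,1,1,1],[2,1,0,0,1,2,2,1,0,0,1,2],[1,1,0,0,2,2,1,1,0,0,2,2],[2,1,1,2,2,1,2,1,1,2,2,1],[1,1,2,2,1,1,1,1,2,2,1,1],[1,2,1,2,1,2,2,1,2,1,2,1],[2,2,2,2,2,2,1,1,1,1,1,1],[1,2,0,0,2,1,2,1,0,0,1,2],[2,2,0,0,1,1,1,1,0,0,2,2],[1,2,2,1,1,2,2,1,1,2,2,1],[2,2,1,1,2,2,1,1,2,2,1,1]]),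
  ([[3,3,6,1],[5,4,4,1],[2,5,0,6],[6,5,3,0]], [[1,1,0,1,1,2,1,0,2,2,0,2],[1,2,1,0,2,2,0,2,2,1,2,0],[0,0,1,1,0,2,0,0,1,0,1,1],[0,0,1,2,2,0,0,0,0,2,1,2],[0,0,0,0,1,1,0,0,0,0,1,0],[0,0,0,0,1,2,0,0,0,0,0,2],[0,0,0,0,0,0,1,1,0,1,1,2],[0,0,0,0,0,0,1,2,1,0,2,2],[0,0,0,0,0,0,0,0,1,1,0,2],[0,0,0,0,0,0,0,0,1,2,2,0],[0,0,0,0,0,0,0,0,0,0,1,1],[0,0,0,0,0,0,0,0,0,0,1,2]]),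
  ([[0,6,0,3],[3,0,5,0],[0,2,0,6],[1,0,3,0]], [[0,0,0,0,0,0,0,0,0,0,1,2],[0,0,0,0,0,0,0,0,0,0,2,2],[0,0,0,0,0,0,0,0,1,2,1,2],[0,0,0,0,0,0,0,0,2,2,2,2],[0,0,0,0,0,0,1,2,2,1,1,2],[0,0,0,0,0,0,2,2,1,1,2,2],[0,0,0,0,1,2,0,0,0,0,2,1],[0,0,0,0,2,2,0,0,0,0,1,1],[0,0,1,2,1,2,0,0,2,1,2,1],[0,0,2,2,2,2,0,0,1,1,1,1],[1,2,2,1,1,2,2,1,1,2,2,1],[2,2,1,1,2,2,1,1,2,2,1,1]]),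
  ([[0,3,0,1],[5,0,4,0],[0,4,0,2],[2,0,1,0]], [[1,2,1,2,1,2,1,2,1,2,1,2],[2,2,2,2,2,2,2,2,2,2,2,2],[1,2,0,0,2,1,1,2,0,0,2,1],[2,2,0,0,1,1,2,2,0,0,1,1],[1,2,2,1,1,2,1,2,2,1,1,2],[2,2,1,1,2,2,2,2,1,1,2,2],[2,1,2,1,2,1,1,2,1,2,1,2],[1,1,1,1,1,1,2,2,2,2,2,2],[2,1,0,0,1,2,1,2,0,0,2,1],[1,1,0,0,2,2,2,2,0,0,1,1],[2,1,1,2,2,1,1,2,2,1,1,2],[1,1,2,2,1,1,2,2,1,1,2,2]]),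
  ([[0,4,1,2],[2,0,1,6],[5,2,3,6],[1,2,3,4]], [[1,0,0,1,2,0,0,2,1,0,0,1],[0,2,1,0,0,1,2,0,0,2,1,0],[2,1,2,1,0,2,1,1,1,1,2,0],[1,1,1,1,2,0,1,2,1,2,0,1],[0,1,1,2,1,0,1,0,2,2,0,2],[1,0,2,2,0,2,0,2,2,1,2,0],[1,1,2,1,2,2,1,0,0,1,2,0],[1,2,1,1,2,1,0,2,1,0,0,1],[1,0,1,0,1,2,2,1,2,1,0,2],[0,2,0,2,2,2,1,1,1,1,2,0],[2,1,2,0,1,1,0,1,1,2,1,0],[1,1,0,1,1,2,1,0,2,2,0,2]]),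
  ([[0,0,3,1],[0,0,4,4],[4,1,3,4],[4,3,2,4]], [[1,2,2,2,2,1,1,1,1,2,2,2],[2,2,2,1,1,1,1,2,2,2,2,1],[1,0,2,0,1,2,0,1,0,2,1,1],[0,2,0,1,2,2,1,0,2,0,1,2],[2,2,0,1,2,1,1,2,2,0,2,2],[2,1,1,0,1,1,2,2,0,1,2,1],[0,1,1,0,0,2,1,1,1,2,2,2],[1,0,0,2,2,0,1,2,2,2,2,1],[1,2,2,1,0,1,0,1,0,2,1,1],[2,2,1,1,1,0,1,0,2,0,1,2],[1,0,1,1,0,2,1,2,2,0,2,2],[0,2,1,2,2,0,2,2,0,1,2,1]]),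
  ([[3,6,0,4],[3,4,2,0],[0,0,3,1],[0,0,4,4]], [[2,2,0,0,0,0,0,0,0,0,0,0],[2,1,0,0,0,0,0,0,0,0,0,0],[2,1,2,2,0,0,0,0,0,0,0,0],[1,1,2,1,0,0,0,0,0,0,0,0],[1,1,1,2,2,2,0,0,0,0,0,0],[1,2,2,2,2,1,0,0,0,0,0,0],[2,1,0,0,0,0,2,2,0,0,0,0],[1,1,0,0,0,0,2,1,0,0,0,0],[1,1,2,1,0,0,2,1,2,2,0,0],[1,2,1,1,0,0,1,1,2,1,0,0],[1,2,2,2,2,1,1,1,1,2,2,2],[2,2,2,1,1,1,1,2,2,2,2,1]]),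
  ([[0,3,3,3],[5,0,5,4],[4,6,3,1],[3,3,4,4]], [[0,0,0,0,0,0,0,0,0,0,2,2],[0,0,0,0,0,0,0,0,0,0,2,1],[0,0,0,0,0,0,0,0,1,1,0,2],[0,0,0,0,0,0,0,0,1,2,2,0],[0,0,0,0,0,0,2,2,0,2,2,1],[0,0,0,0,0,0,2,1,2,0,1,1],[0,0,0,0,1,1,0,0,0,0,1,0],[0,0,0,0,1,2,0,0,0,0,0,2],[0,0,2,2,0,1,0,0,2,0,2,2],[0,0,2,1,1,0,0,0,0,1,2,1],[1,1,0,1,1,2,1,0,2,2,0,2],[1,2,1,0,2,2,0,2,2,1,2,0]]),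
  ([[5,5,2,4],[6,2,2,5],[0,3,6,5],[5,0,6,1]], [[0,2,1,2,2,0,2,2,0,1,2,1],[2,0,2,2,0,1,2,1,1,0,1,1],[1,0,2,1,2,1,1,2,0,2,0,2],[0,2,1,1,1,1,2,2,2,0,2,0],[0,1,2,0,0,2,1,1,2,1,2,2],[1,0,0,1,2,0,1,2,1,1,2,1],[1,0,1,1,0,2,0,2,1,2,2,0],[0,2,1,2,2,0,2,0,2,2,0,1],[0,1,2,2,2,2,1,0,2,1,2,1],[1,0,2,1,2,1,0,2,1,1,1,1],[2,0,0,2,1,0,0,1,2,0,0,2],[0,1,2,0,0,2,1,0,0,1,2,0]]),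
  ([[4,1,3,4],[4,3,2,4],[4,1,0,3],[4,3,5,0]], [[1,0,1,1,0,2,1,2,2,0,2,2],[0,2,1,2,2,0,2,2,0,1,2,1],[1,1,0,1,0,0,2,0,1,1,0,0],[1,2,1,0,0,0,0,1,1,2,0,0],[0,2,0,0,0,0,2,2,0,0,0,0],[2,0,0,0,0,0,2,1,0,0,0,0],[2,1,1,0,1,1,0,0,0,0,0,0],[1,1,0,2,1,2,0,0,0,0,0,0],[1,0,2,2,0,0,0,0,0,0,0,0],[0,2,2,1,0,0,0,0,0,0,0,0],[1,1,0,0,0,0,0,0,0,0,0,0],[1,2,0,0,0,0,0,0,0,0,0,0]]),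
  ([[4,4,3,6],[2,3,3,4],[4,6,0,0],[3,3,0,0]], [[1,1,2,2,1,1,2,2,1,1,2,2],[1,2,2,1,1,2,2,1,1,2,2,1],[0,1,1,0,1,2,0,2,2,0,2,1],[1,0,0,2,2,2,2,0,0,1,1,1],[1,2,2,0,2,2,2,1,1,0,1,1],[2,2,0,1,2,1,1,1,0,2,1,2],[2,0,1,0,2,0,2,1,1,2,2,1],[0,1,0,2,0,1,1,1,2,2,1,1],[1,1,1,2,0,1,2,0,0,1,1,1],[1,2,2,2,1,0,0,1,1,0,1,2],[0,1,2,1,1,0,1,1,0,2,1,2],[1,0,1,1,0,2,1,2,2,0,2,2]]),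
  ([[2,2,5,3],[1,5,5,2],[0,4,1,2],[2,0,1,6]], [[0,1,2,1,1,0,1,1,0,2,1,2],[1,0,1,1,0,2,1,2,2,0,2,2],[2,0,1,2,1,2,2,1,0,1,0,1],[0,1,2,2,2,2,1,1,1,0,1,0],[0,2,1,0,0,1,2,2,1,2,1,1],[2,0,0,2,1,0,2,1,2,2,1,2],[2,0,2,2,0,1,0,1,2,1,1,0],[0,1,2,1,1,0,1,0,1,1,0,2],[0,2,1,1,1,1,2,0,1,2,1,2],[2,0,1,2,1,2,0,1,2,2,2,2],[1,0,0,1,2,0,0,2,1,0,0,1],[0,2,1,0,0,1,2,0,0,2,1,0]]),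
  ([[2,3,5,4],[5,5,2,2],[0,1,1,1],[4,0,4,6]], [[1,1,1,2,2,2,2,1,1,1,1,2],[1,2,2,2,2,1,1,1,1,2,2,2],[2,2,0,2,0,2,1,2,1,0,1,0],[2,1,2,0,2,0,2,2,0,2,0,2],[1,1,2,0,2,1,2,1,0,2,2,2],[1,2,0,1,1,1,1,1,2,0,2,1],[1,1,1,2,2,2,0,2,2,0,0,1],[1,2,2,2,2,1,2,0,0,1,1,0],[2,2,0,2,0,2,0,1,1,2,1,2],[2,1,2,0,2,0,1,0,2,2,2,2],[1,1,2,0,2,1,0,2,2,2,1,0],[1,2,0,1,1,1,2,0,2,1,0,2]]),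
  ([[6,2,5,4],[1,1,2,2],[0,3,5,2],[5,0,1,2]], [[2,0,1,2,0,2,1,1,1,0,2,1],[0,1,2,2,2,0,1,2,0,2,1,1],[0,2,1,2,2,1,2,1,1,0,2,0],[2,0,2,2,1,1,1,1,0,2,0,1],[1,0,0,1,2,0,2,2,1,2,1,1],[0,2,1,0,0,1,2,1,2,2,1,2],[0,2,1,1,1,0,2,0,1,2,0,2],[2,0,1,2,0,2,0,1,2,2,2,0],[1,0,1,1,2,2,0,2,1,2,2,1],[0,2,1,2,2,1,2,0,2,2,1,1],[0,1,2,0,0,2,1,0,0,1,2,0],[1,0,0,1,2,0,0,2,1,0,0,1]]),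
  ([[2,5,5,5],[6,5,6,2],[0,2,1,6],[1,0,3,6]], [[1,0,2,1,0,1,2,2,2,0,1,2],[0,2,1,1,1,0,2,1,0,1,2,2],[1,1,1,2,1,0,0,1,1,0,2,2],[1,2,2,2,0,2,1,0,0,2,2,1],[0,2,0,2,0,2,2,1,2,1,2,1],[2,0,2,0,2,0,1,1,1,1,1,1],[2,1,0,1,2,2,2,1,0,1,2,2],[1,1,1,0,2,1,1,1,1,0,2,1],[1,0,0,2,2,1,1,0,0,2,2,1],[0,2,2,0,1,1,0,2,2,0,1,1],[1,1,1,1,1,1,1,1,1,1,1,1],[1,2,1,2,1,2,1,2,1,2,1,2]]),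
  ([[0,1,0,1],[4,0,4,0],[0,4,0,6],[2,0,3,0]], [[1,2,0,0,0,0,0,0,0,0,0,0],[2,2,0,0,0,0,0,0,0,0,0,0],[1,2,2,1,0,0,0,0,0,0,0,0],[2,2,1,1,0,0,0,0,0,0,0,0],[1,2,1,2,1,2,0,0,0,0,0,0],[2,2,2,2,2,2,0,0,0,0,0,0],[2,1,0,0,0,0,2,1,0,0,0,0],[1,1,0,0,0,0,1,1,0,0,0,0],[2,1,1,2,0,0,2,1,1,2,0,0],[1,1,2,2,0,0,1,1,2,2,0,0],[2,1,2,1,2,1,2,1,2,1,2,1],[1,1,1,1,1,1,1,1,1,1,1,1]]),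
  ([[5,2,3,6],[1,2,3,4],[5,5,2,4],[6,2,2,5]], [[2,1,2,0,1,1,0,1,1,2,1,0],[1,1,0,1,1,2,1,0,2,2,0,2],[0,2,0,0,1,0,1,1,0,0,2,1],[2,0,0,0,0,2,1,2,0,0,1,1],[2,2,0,1,2,1,2,0,2,2,0,1],[2,1,1,0,1,1,0,1,2,1,1,0],[2,0,1,1,0,1,2,1,2,0,1,1],[0,1,1,2,1,0,1,1,0,1,1,2],[2,1,0,0,2,2,0,2,0,0,1,0],[1,1,0,0,2,1,2,0,0,0,0,2],[0,2,1,2,2,0,2,2,0,1,2,1],[2,0,2,2,0,1,2,1,1,0,1,1]]),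
  ([[4,1,0,3],[4,3,5,0],[0,0,4,6],[0,0,3,3]], [[1,1,0,0,0,0,0,0,0,0,0,0],[1,2,0,0,0,0,0,0,0,0,0,0],[1,2,1,1,0,0,0,0,0,0,0,0],[2,2,1,2,0,0,0,0,0,0,0,0],[2,2,2,1,1,1,0,0,0,0,0,0],[2,1,1,1,1,2,0,0,0,0,0,0],[1,2,0,0,0,0,1,1,0,0,0,0],[2,2,0,0,0,0,1,2,0,0,0,0],[2,2,1,2,0,0,1,2,1,1,0,0],[2,1,2,2,0,0,2,2,1,2,0,0],[2,1,1,1,1,2,2,2,2,1,1,1],[1,1,1,2,2,2,2,1,1,1,1,2]]),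
  ([[0,1,1,1],[4,0,4,6],[5,5,3,4],[6,2,2,4]], [[1,1,2,0,2,1,0,2,2,2,1,0],[1,2,0,1,1,1,2,0,2,1,0,2],[0,0,1,1,1,0,0,0,0,2,1,1],[0,0,1,2,0,2,0,0,2,0,1,2],[0,0,0,0,1,1,0,0,0,0,0,2],[0,0,0,0,1,2,0,0,0,0,2,0],[0,0,0,0,0,0,1,1,2,0,2,1],[0,0,0,0,0,0,1,2,0,1,1,1],[0,0,0,0,0,0,0,0,1,1,1,0],[0,0,0,0,0,0,0,0,1,2,0,2],[0,0,0,0,0,0,0,0,0,0,1,1],[0,0,0,0,0,0,0,0,0,0,1,2]]),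
  ([[5,0,0,0],[0,5,0,0],[5,0,3,0],[0,5,0,3]], [[1,0,1,0,1,0,1,0,1,0,1,0],[0,1,0,1,0,1,0,1,0,1,0,1],[1,0,2,0,0,0,1,0,2,0,0,0],[0,1,0,2,0,0,0,1,0,2,0,0],[1,0,0,0,0,0,1,0,0,0,0,0],[0,1,0,0,0,0,0,1,0,0,0,0],[2,0,2,0,2,0,0,0,0,0,0,0],[0,2,0,2,0,2,0,0,0,0,0,0],[2,0,1,0,0,0,0,0,0,0,0,0],[0,2,0,1,0,0,0,0,0,0,0,0],[2,0,0,0,0,0,0,0,0,0,0,0],[0,2,0,0,0,0,0,0,0,0,0,0]]),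
  ([[0,0,4,0],[0,0,0,4],[5,0,0,0],[0,5,0,0]], [[2,0,1,0,2,0,1,0,2,0,1,0],[0,2,0,1,0,2,0,1,0,2,0,1],[2,0,0,0,1,0,1,0,0,0,2,0],[0,2,0,0,0,1,0,1,0,0,0,2],[2,0,2,0,2,0,1,0,1,0,1,0],[0,2,0,2,0,2,0,1,0,1,0,1],[1,0,2,0,1,0,1,0,2,0,1,0],[0,1,0,2,0,1,0,1,0,2,0,1],[1,0,0,0,2,0,1,0,0,0,2,0],[0,1,0,0,0,2,0,1,0,0,0,2],[1,0,1,0,1,0,1,0,1,0,1,0],[0,1,0,1,0,1,0,1,0,1,0,1]]),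
  ([[0,1,5,1],[3,0,3,5],[5,2,1,6],[6,5,4,1]], [[0,0,0,0,0,0,0,0,0,0,0,1],[0,0,0,0,0,0,0,0,0,0,2,0],[0,0,0,0,0,0,0,0,0,1,2,0],[0,0,0,0,0,0,0,0,2,0,0,2],[0,0,0,0,0,0,0,1,1,0,0,2],[0,0,0,0,0,0,2,0,0,1,1,0],[0,0,0,0,0,1,0,0,0,0,2,0],[0,0,0,0,2,0,0,0,0,0,0,2],[0,0,0,1,2,0,0,0,2,0,0,2],[0,0,2,0,0,2,0,0,0,2,1,0],[0,1,1,0,0,2,2,0,0,1,1,0],[2,0,0,1,1,0,0,2,2,0,0,1]]),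
  ([[1,0,6,0],[0,1,0,6],[1,0,0,0],[0,1,0,0]], [[1,0,2,0,1,0,2,0,1,0,2,0],[0,1,0,2,0,1,0,2,0,1,0,2],[2,0,2,0,0,0,1,0,1,0,0,0],[0,2,0,2,0,0,0,1,0,1,0,0],[1,0,0,0,0,0,2,0,0,0,0,0],[0,1,0,0,0,0,0,2,0,0,0,0],[1,0,2,0,1,0,0,0,0,0,0,0],[0,1,0,2,0,1,0,0,0,0,0,0],[2,0,2,0,0,0,0,0,0,0,0,0],[0,2,0,2,0,0,0,0,0,0,0,0],[1,0,0,0,0,0,0,0,0,0,0,0],[0,1,0,0,0,0,0,0,0,0,0,0]]),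
  ([[5,2,0,6],[6,5,4,0],[6,1,2,5],[3,6,1,2]], [[0,1,0,0,0,0,0,0,0,0,0,0],[2,0,0,0,0,0,0,0,0,0,0,0],[2,2,0,2,0,0,0,0,0,0,0,0],[1,2,1,0,0,0,0,0,0,0,0,0],[2,0,2,2,0,1,0,0,0,0,0,0],[0,2,1,2,2,0,0,0,0,0,0,0],[2,1,0,0,0,0,0,2,0,0,0,0],[2,2,0,0,0,0,1,0,0,0,0,0],[0,1,1,2,0,0,1,1,0,1,0,0],[2,0,1,1,0,0,2,1,2,0,0,0],[2,2,0,1,2,1,1,0,1,1,0,2],[1,2,2,0,2,2,0,1,2,1,1,0]]),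
  ([[1,6,1,6],[4,1,4,1],[3,5,6,1],[1,3,3,6]], [[1,0,2,2,0,2,2,1,2,0,1,1],[0,1,1,2,1,0,2,2,0,2,2,1],[2,1,0,0,2,2,0,1,0,0,2,0],[2,2,0,0,1,2,2,0,0,0,0,2],[0,1,2,1,1,0,2,2,0,1,2,1],[2,0,2,2,0,1,1,2,2,0,2,2],[1,1,0,1,1,2,2,0,1,1,0,1],[2,1,2,0,1,1,0,2,2,1,2,0],[1,0,0,0,0,1,1,2,0,0,1,1],[0,1,0,0,2,0,1,1,0,0,2,1],[2,1,1,0,1,1,0,2,1,2,2,0],[2,2,0,1,2,1,1,0,1,1,0,2]]),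
  ([[0,3,1,3],[2,0,2,1],[4,5,1,4],[1,4,5,1]], [[0,2,2,0,0,1,1,0,0,2,2,0],[1,0,0,2,2,0,0,1,1,0,0,2],[0,2,2,1,2,1,1,0,2,2,2,2],[1,0,2,2,2,2,0,1,1,2,1,2],[0,2,2,2,1,0,1,0,1,2,0,1],[1,0,1,2,0,1,0,1,1,1,2,0],[0,1,1,0,0,2,2,1,1,1,1,2],[2,0,0,1,1,0,2,2,2,1,1,1],[0,1,1,2,1,2,2,1,2,0,2,0],[2,0,1,1,1,1,2,2,0,2,0,2],[0,1,1,1,2,0,2,1,0,2,2,2],[2,0,2,1,0,2,2,2,1,0,1,2]]),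
  ([[5,2,1,6],[6,5,4,1],[5,1,3,5],[3,5,1,3]], [[0,1,1,0,0,2,2,0,0,1,1,0],[2,0,0,1,1,0,0,2,2,0,0,1],[0,2,2,2,1,1,1,0,1,2,2,1],[1,0,1,2,2,1,0,1,1,1,2,2],[0,1,1,2,1,0,2,0,1,1,0,1],[2,0,1,1,0,1,0,2,2,1,2,0],[0,1,1,0,0,2,2,2,2,1,1,1],[2,0,0,1,1,0,1,2,2,2,2,1],[0,2,2,2,1,1,1,1,2,0,1,0],[1,0,1,2,2,1,2,1,0,2,0,1],[0,1,1,2,1,0,2,2,0,2,2,1],[2,0,1,1,0,1,1,2,1,0,2,2]]),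
  ([[4,3,4,3],[2,4,2,4],[4,5,3,4],[1,4,5,3]], [[2,1,1,0,1,1,0,2,1,2,2,0],[2,2,0,1,2,1,1,0,1,1,0,2],[1,1,1,0,1,0,2,0,1,2,1,2],[2,1,0,1,0,1,0,2,1,1,1,1],[1,2,1,1,2,1,0,1,2,0,0,2],[1,1,2,1,2,2,2,0,0,2,1,0],[1,1,0,2,1,2,1,2,2,0,2,2],[2,1,1,0,1,1,1,1,0,2,1,2],[1,2,0,2,0,2,2,2,2,0,2,0],[1,1,1,0,1,0,1,2,0,2,0,2],[2,2,1,2,1,1,2,1,2,2,1,2],[1,2,1,1,2,1,2,2,1,2,1,1]]),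
  ([[5,1,3,5],[3,5,1,3],[0,6,2,6],[4,0,4,2]], [[0,1,1,2,1,0,2,2,0,2,2,1],[2,0,1,1,0,1,1,2,1,0,2,2],[0,0,0,2,1,2,0,0,1,1,0,2],[0,0,1,0,1,1,0,0,2,1,1,0],[0,0,0,0,0,1,0,0,0,0,2,2],[0,0,0,0,2,0,0,0,0,0,1,2],[0,0,0,0,0,0,0,2,2,1,2,0],[0,0,0,0,0,0,1,0,2,2,0,2],[0,0,0,0,0,0,0,0,0,1,2,1],[0,0,0,0,0,0,0,0,2,0,2,2],[0,0,0,0,0,0,0,0,0,0,0,2],[0,0,0,0,0,0,0,0,0,0,1,0]]),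
  ([[6,1,1,4],[3,6,5,1],[3,4,1,6],[5,3,4,1]], [[0,1,0,0,0,0,0,0,0,0,0,0],[2,0,0,0,0,0,0,0,0,0,0,0],[2,0,0,2,0,0,0,0,0,0,0,0],[0,2,1,0,0,0,0,0,0,0,0,0],[0,2,2,0,0,1,0,0,0,0,0,0],[1,0,0,2,2,0,0,0,0,0,0,0],[2,0,0,0,0,0,0,2,0,0,0,0],[0,2,0,0,0,0,1,0,0,0,0,0],[0,2,1,0,0,0,1,0,0,1,0,0],[1,0,0,1,0,0,0,1,2,0,0,0],[1,0,0,2,2,0,0,1,1,0,0,2],[0,1,1,0,0,2,2,0,0,1,1,0]]),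
  ([[5,6,2,6],[4,5,4,2],[0,5,2,1],[1,0,3,2]], [[1,0,1,2,0,1,1,1,2,0,2,1],[0,1,1,1,2,0,2,1,0,2,2,2],[1,1,0,0,1,2,0,2,0,0,2,0],[2,1,0,0,1,1,1,0,0,0,0,2],[0,2,1,1,1,0,1,2,0,2,1,1],[1,0,2,1,0,1,1,1,1,0,2,1],[2,1,0,2,2,2,2,0,2,1,0,2],[2,2,1,0,1,2,0,2,2,2,1,0],[1,0,0,0,0,2,2,2,0,0,2,1],[0,1,0,0,1,0,1,2,0,0,2,2],[1,1,1,0,2,1,0,1,2,2,2,0],[2,1,0,1,2,2,2,0,1,2,0,2]]),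
  ([[5,1,0,5],[3,5,1,0],[5,6,2,6],[4,5,4,2]], [[1,2,1,1,2,1,2,2,1,2,1,1],[1,1,2,1,2,2,1,2,1,1,2,1],[1,0,2,0,1,1,0,2,0,1,1,2],[0,1,0,2,2,1,1,0,2,0,1,1],[2,2,1,0,1,2,2,1,0,2,2,2],[1,2,0,1,1,1,2,2,1,0,1,2],[0,1,2,0,0,2,2,1,2,2,1,2],[2,0,0,2,1,0,2,2,1,2,1,1],[1,2,2,1,2,0,2,0,1,0,2,2],[1,1,2,2,0,2,0,2,0,1,1,2],[1,0,1,2,0,1,1,1,2,0,2,1],[0,1,1,1,2,0,2,1,0,2,2,2]]),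
  ([[0,2,5,6],[6,0,4,5],[5,1,0,5],[3,5,1,0]], [[2,2,2,0,1,2,0,2,1,1,1,0],[1,2,0,2,1,1,1,0,2,1,0,1],[2,1,1,0,2,0,2,0,2,2,1,1],[2,2,0,1,0,2,0,2,1,2,2,1],[1,1,2,1,2,2,0,1,2,0,0,2],[2,1,2,2,1,2,2,0,0,2,1,0],[2,1,0,1,2,2,1,1,1,0,2,1],[2,2,2,0,1,2,2,1,0,1,2,2],[1,1,0,2,0,1,1,2,2,0,1,0],[2,1,1,0,2,0,1,1,0,2,0,1],[1,2,1,1,2,1,2,2,1,2,1,1],[1,1,2,1,2,2,1,2,1,1,2,1]]),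
  ([[5,0,2,0],[0,5,0,2],[1,0,2,0],[0,1,0,2]], [[2,0,2,0,2,0,2,0,2,0,2,0],[0,2,0,2,0,2,0,2,0,2,0,2],[1,0,0,0,2,0,1,0,0,0,2,0],[0,1,0,0,0,2,0,1,0,0,0,2],[2,0,1,0,2,0,2,0,1,0,2,0],[0,2,0,1,0,2,0,2,0,1,0,2],[2,0,2,0,2,0,1,0,1,0,1,0],[0,2,0,2,0,2,0,1,0,1,0,1],[1,0,0,0,2,0,2,0,0,0,1,0],[0,1,0,0,0,2,0,2,0,0,0,1],[2,0,1,0,2,0,1,0,2,0,1,0],[0,2,0,1,0,2,0,1,0,2,0,1]]),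
  ([[5,2,5,2],[6,5,6,5],[0,3,2,5],[2,0,1,2]], [[1,1,2,1,2,2,1,2,1,1,2,1],[2,1,2,2,1,2,1,1,2,1,2,2],[2,0,2,0,2,1,0,1,0,1,1,1],[0,2,0,2,2,2,2,0,2,0,2,1],[2,1,2,0,1,1,1,1,0,1,1,2],[2,2,0,2,2,1,2,1,2,0,1,1],[0,1,2,0,0,2,2,2,1,2,1,1],[2,0,0,2,1,0,1,2,1,1,2,1],[1,1,1,1,2,0,1,0,1,0,1,2],[2,1,2,1,0,2,0,1,0,1,1,1],[2,0,1,1,0,1,1,2,1,0,2,2],[0,2,2,1,2,0,1,1,0,1,1,2]]),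
  ([[0,2,3,2],[6,0,6,3],[6,3,0,5],[2,6,1,0]], [[0,2,2,2,1,0,1,2,0,1,1,1],[1,0,1,2,0,1,1,1,2,0,2,1],[0,0,0,1,2,2,0,0,2,1,0,1],[0,0,2,0,1,2,0,0,2,2,2,0],[0,0,0,0,0,2,0,0,0,0,1,2],[0,0,0,0,1,0,0,0,0,0,1,1],[0,0,0,0,0,0,0,1,1,1,2,0],[0,0,0,0,0,0,2,0,2,1,0,2],[0,0,0,0,0,0,0,0,0,2,1,1],[0,0,0,0,0,0,0,0,1,0,2,1],[0,0,0,0,0,0,0,0,0,0,0,1],[0,0,0,0,0,0,0,0,0,0,2,0]]),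
  ([[3,3,0,1],[5,4,4,0],[0,6,3,4],[3,0,2,4]], [[2,0,1,2,0,2,1,1,1,0,2,1],[0,1,2,2,2,0,1,2,0,2,1,1],[1,2,0,0,2,2,1,0,0,0,0,2],[2,2,0,0,2,1,0,2,0,0,2,0],[0,2,2,2,1,0,2,1,0,2,2,2],[2,0,2,1,0,2,1,1,2,0,2,1],[2,2,2,0,1,2,0,1,2,2,2,0],[2,1,0,1,2,2,1,0,2,1,0,1],[2,0,0,0,0,1,2,2,0,0,2,1],[0,1,0,0,1,0,2,1,0,0,1,1],[1,2,0,1,1,1,2,0,2,1,0,2],[2,2,1,0,1,2,0,1,1,1,2,0]]),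
  ([[0,4,0,4],[2,0,2,0],[0,6,0,3],[3,0,5,0]], [[2,1,2,1,2,1,2,1,2,1,2,1],[1,1,1,1,1,1,1,1,1,1,1,1],[0,0,1,2,2,1,0,0,1,2,2,1],[0,0,2,2,1,1,0,0,2,2,1,1],[0,0,0,0,2,1,0,0,0,0,2,1],[0,0,0,0,1,1,0,0,0,0,1,1],[0,0,0,0,0,0,1,2,1,2,1,2],[0,0,0,0,0,0,2,2,2,2,2,2],[0,0,0,0,0,0,0,0,2,1,1,2],[0,0,0,0,0,0,0,0,1,1,2,2],[0,0,0,0,0,0,0,0,0,0,1,2],[0,0,0,0,0,0,0,0,0,0,2,2]]),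
  ([[3,6,4,3],[3,4,5,3],[3,6,0,4],[3,4,2,0]], [[2,0,2,2,0,1,2,1,1,0,1,1],[0,1,2,1,1,0,1,1,0,2,1,2],[2,2,0,2,0,0,1,0,2,2,0,0],[2,1,2,0,0,0,0,2,2,1,0,0],[0,1,0,0,0,0,1,1,0,0,0,0],[1,0,0,0,0,0,1,2,0,0,0,0],[1,2,2,0,2,2,0,0,0,0,0,0],[2,2,0,1,2,1,0,0,0,0,0,0],[2,0,1,1,0,0,0,0,0,0,0,0],[0,1,1,2,0,0,0,0,0,0,0,0],[2,2,0,0,0,0,0,0,0,0,0,0],[2,1,0,0,0,0,0,0,0,0,0,0]]),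
  ([[0,0,4,6],[0,0,3,3],[3,6,4,3],[3,4,5,3]], [[2,1,1,1,1,2,2,2,2,1,1,1],[1,1,1,2,2,2,2,1,1,1,1,2],[2,0,1,0,2,1,0,2,0,1,2,2],[0,1,0,2,1,1,2,0,1,0,2,1],[1,1,0,2,1,2,2,1,1,0,1,1],[1,2,2,0,2,2,1,1,0,2,1,2],[0,2,2,0,0,1,2,2,2,1,1,1],[2,0,0,1,1,0,2,1,1,1,1,2],[2,1,1,2,0,2,0,2,0,1,2,2],[1,1,2,2,2,0,2,0,1,0,2,1],[2,0,2,2,0,1,2,1,1,0,1,1],[0,1,2,1,1,0,1,1,0,2,1,2]])]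

end Cfsg.Agent.Lib.Helper27.A10Data
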