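import Mathlib

set_option autoImplicit false

/-! A bare-hands semidirect product `V ⋊ H` of an additive group `V` by a group `H` acting on it,
with the formula for powers. -/

namespace Cfsg.Agent.Lib.Helper27.A10SD

/-- pairs `(v, h)`; the product is `(v, h) (v', h') = (v + h • v', h h')` -/
@[ext] structure SD (H V : Type) where
  v : V
  h : H

variable {H V : Type} [Group H] [AddCommGroup V] [DistribMulAction H V]

instance : Mul (SD H V) := ⟨fun a b => ⟨a.v + a.h • b.v, a.h * b.h⟩⟩
instance : One (SD H V) := ⟨⟨0, 1⟩⟩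
instance : Inv (SD H V) := ⟨fun a => ⟨-(a.h⁻¹ • a.v), a.h⁻¹⟩⟩

@[simp] theorem mul_v (a b : SD H V) : (a * b).v = a.v + a.h • b.v := rfl
@[simp] theorem mul_h (a b : SD H V) : (a * b).h = a.h * b.h := rfl
@[simp] theorem one_v : (1 : SD H V).v = 0 := rfl
@[simp] theorem one_h : (1 : SD H V).h = 1 := rfl
@[simp] theorem inv_v (a : SD H V) : a⁻¹.v = -(a.h⁻¹ • a.v) := rfl
@[simp] theorem inv_h (a : SD H V) : a⁻¹.h = a.h⁻¹ := rfl

instance : Group (SD H V) where
  mul_assoc a b c := by
    ext
    · simp [smul_add, mul_smul, add_assoc]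
    · simp [mul_assoc]
  one_mul a := by ext <;> simp
  mul_one a := by ext <;> simp
  inv_mul_cancel a := by ext <;> simp

/-- the projection to `H` -/
def proj : SD H V →* H where
  toFun a := a.h
  map_one' := rfl
  map_mul' _ _ := rfl

@[simp] theorem proj_apply (a : SD H V) : proj a = a.h := rfl

theorem pow_eq (a : SD H V) (m : ℕ) :
    a ^ m = ⟨∑ i ∈ Finset.range m, a.h ^ i • a.v, a.h ^ m⟩ := by
  induction m with
  | zero =>
    rw [pow_zero]
    ext <;> simp
  | succ m ih =>
    rw [pow_succ, ih]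
    ext
    · simp [Finset.sum_range_succ]
    · simp [pow_succ]

/-- `(v, h) ^ (m c) = 1` when `h ^ m = 1` and `c` kills the `m`-th norm of `v` -/
theorem pow_mul_eq_one (a : SD H V) (m c : ℕ) (hm : a.h ^ m = 1)
    (hc : c • ∑ i ∈ Finset.range m, a.h ^ i • a.v = 0) : a ^ (m * c) = 1 := by
  rw [pow_mul, pow_eq a m, hm, pow_eq]
  ext
  · simp only [one_pow, one_smul, Finset.sum_const, Finset.card_range, one_v]
    exact hc
  · simp

/-- `(v, h) ^ (2 k) = 1` when `h ^ k` acts as `-1` -/
theorem pow_two_mul_eq_one (a : SD H V) (k : ℕ) (hh : a.h ^ (2 * k) = 1)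
    (hk : ∀ n : V, a.h ^ k • n = -n) : a ^ (2 * k) = 1 := by
  have := pow_mul_eq_one a (2 * k) 1 hh ?_
  · simpa using this
  · rw [one_smul, two_mul, Finset.sum_range_add]
    have : ∀ i ∈ Finset.range k, a.h ^ (k + i) • a.v = -(a.h ^ i • a.v) := by
      intro i _
      rw [add_comm, pow_add, mul_smul, hk, smul_neg]
    rw [Finset.sum_congr rfl this, Finset.sum_neg_distrib, add_neg_cancel]

/-- the inclusion of `H` -/
def inr : H →* SD H V where
  toFun h := ⟨0, h⟩
  map_one' := rfl
  map_mul' _ _ := by ext <;> simp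

@[simp] theorem inr_v (h : H) : (inr h : SD H V).v = 0 := rfl
@[simp] theorem inr_h (h : H) : (inr h : SD H V).h = h := rfl

theorem inr_injective : Function.Injective (inr : H → SD H V) := by
  intro h h' e
  have := congrArg SD.h e
  simpa using this

theorem orderOf_inr (h : H) : orderOf (inr h : SD H V) = orderOf h :=
  orderOf_injective inr inr_injective h

/-- the bijection with the product -/
def equivProd : SD H V ≃ V × H where
  toFun a := (a.v, a.h)
  invFun x := ⟨x.1, x.2⟩
  left_inv _ := rfl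
  right_inv _ := rfl

instance [Finite H] [Finite V] : Finite (SD H V) := Finite.of_equiv _ equivProd.symm

end Cfsg.Agent.Lib.Helper27.A10SD
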