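import Cfsg.Agent.Lib.Helper27.A10Cert
import Cfsg.Agent.Lib.Helper27.A10SD

set_option autoImplicit false

/-! The groups `(7^(4k) × 3^12) : 2.S₅⁻`: definition, and the element orders from above. -/

namespace Cfsg.Agent.Lib.Helper27.A10Grp

open Cfsg.Agent.Lib.Helper27.A10Mat Cfsg.Agent.Lib.Helper27.A10Data
  Cfsg.Agent.Lib.Helper27.A10Chk Cfsg.Agent.Lib.Helper27.A10Cert Cfsg.Agent.Lib.Helper27.A10SD
open Matrix

/-- the ambient group of pairs of invertible matrices -/
abbrev Lam := GL (Fin 4) (ZMod 7) × GL (Fin 12) (ZMod 3)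

/-- the module: `k` copies of `F₇⁴`, one copy of `F₃¹²` -/
abbrev Vk (k : ℕ) := (Fin k → Fin 4 → ZMod 7) × (Fin 12 → ZMod 3)

/-- the pair of matrices of an element of the ambient group -/
def val : Lam →* R :=
  MonoidHom.prodMap (Units.coeHom _) (Units.coeHom _)

theorem val_apply (g : Lam) : val g = ((g.1 : Matrix _ _ _), (g.2 : Matrix _ _ _)) := rfl

theorem val_injective : Function.Injective val := by
  intro g g' h
  rw [val_apply, val_apply, Prod.mk.injEq] at h
  exact Prod.ext (Units.ext h.1) (Units.ext h.2)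

instance (k : ℕ) : SMul Lam (Vk k) :=
  ⟨fun g n => (fun i => (val g).1 *ᵥ n.1 i, (val g).2 *ᵥ n.2)⟩

theorem smul_def (k : ℕ) (g : Lam) (n : Vk k) :
    g • n = (fun i => (val g).1 *ᵥ n.1 i, (val g).2 *ᵥ n.2) := rfl

instance (k : ℕ) : DistribMulAction Lam (Vk k) where
  one_smul n := by
    rw [smul_def, map_one]
    ext <;> simp
  mul_smul g g' n := by
    rw [smul_def, smul_def, smul_def, map_mul]
    ext <;> simp [Matrix.mulVec_mulVec]
  smul_zero g := by
    rw [smul_def]
    ext <;> simp
  smul_add g n n' := by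
    rw [smul_def, smul_def, smul_def]
    ext <;> simp [Matrix.mulVec_add]

/-- `g ^ j` acts through the `j`-th powers of the matrices -/
theorem pow_smul_def (k : ℕ) (g : Lam) (j : ℕ) (n : Vk k) :
    g ^ j • n = (fun i => (val g).1 ^ j *ᵥ n.1 i, (val g).2 ^ j *ᵥ n.2) := by
  rw [smul_def, map_pow]
  rfl

/-- the norm `∑ i < m, g ^ i • n` through the matrices -/
theorem sum_pow_smul (k : ℕ) (g : Lam) (m : ℕ) (n : Vk k) :
    ∑ j ∈ Finset.range m, g ^ j • n =
      (fun i => (∑ j ∈ Finset.range m, (val g).1 ^ j) *ᵥ n.1 i,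
        (∑ j ∈ Finset.range m, (val g).2 ^ j) *ᵥ n.2) := by
  induction m with
  | zero => ext <;> simp
  | succ m ih =>
    rw [Finset.sum_range_succ, ih, pow_smul_def, Finset.sum_range_succ, Finset.sum_range_succ]
    ext <;> simp [Matrix.add_mulVec]

theorem three_nsmul (w : Fin 12 → ZMod 3) : 3 • w = 0 := by
  ext i
  simp only [Pi.smul_apply, Pi.zero_apply, nsmul_eq_mul]
  have : ((3 : ℕ) : ZMod 3) = 0 := by decide
  rw [this, zero_mul]

theorem seven_nsmul (v : Fin 4 → ZMod 7) : 7 • v = 0 := by
  ext i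
  simp only [Pi.smul_apply, Pi.zero_apply, nsmul_eq_mul]
  have : ((7 : ℕ) : ZMod 7) = 0 := by decide
  rw [this, zero_mul]

theorem twentyone_nsmul (k : ℕ) (n : Vk k) : 21 • n = 0 := by
  ext i j
  · rw [Prod.smul_fst, Pi.smul_apply, Pi.smul_apply, nsmul_eq_mul]
    have : ((21 : ℕ) : ZMod 7) = 0 := by decide
    rw [this, zero_mul]
    rfl
  · rw [Prod.smul_snd, Pi.smul_apply, nsmul_eq_mul]
    have : ((21 : ℕ) : ZMod 3) = 0 := by decide
    rw [this, zero_mul]
    rfl

/-- the exponents that occur -/
def E : Finset ℕ := {2, 4, 6, 8, 10, 12, 9, 15, 21}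

/-- an element whose matrices carry a certificate has, with any translation part, a power
`e ∈ E` equal to one -/
theorem exists_pow_eq_one (k : ℕ) (a : SD Lam (Vk k)) (h : CertR (val a.h)) :
    ∃ e ∈ E, a ^ e = 1 := by
  rcases h with h | ⟨j, hj1, hj6, hj⟩ | ⟨h3, hs⟩ | ⟨h5, hs⟩
  · -- trivial linear part
    have h1 : a.h = 1 := val_injective (by rw [h, map_one])
    refine ⟨21, by decide, ?_⟩
    have := pow_mul_eq_one a 1 21 (by rw [pow_one, h1]) ?_
    · simpa using this
    · rw [Finset.sum_range_one, pow_zero, one_smul]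
      exact twentyone_nsmul k a.v
  · -- `h ^ j = -1`
    refine ⟨2 * j, ?_, ?_⟩
    · unfold E; interval_cases j <;> decide
    · apply pow_two_mul_eq_one a j
      · apply val_injective
        rw [map_pow, map_one, mul_comm, pow_mul, hj]
        simp
      · intro n
        rw [pow_smul_def]
        have e1 : (val a.h).1 ^ j = -1 := by
          have := congrArg Prod.fst hj; simpa using this
        have e2 : (val a.h).2 ^ j = -1 := by
          have := congrArg Prod.snd hj; simpa using this
        rw [e1, e2]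
        ext <;> simp [Matrix.neg_mulVec]
  · -- order 3
    refine ⟨9, by decide, ?_⟩
    have := pow_mul_eq_one a 3 3 (val_injective (by rw [map_pow, h3, map_one])) ?_
    · simpa using this
    · rw [sum_pow_smul]
      have e1 : ∑ j ∈ Finset.range 3, (val a.h).1 ^ j = 0 := by
        rw [Finset.sum_range_succ, Finset.sum_range_succ, Finset.sum_range_one, pow_zero, pow_one]
        exact hs
      rw [e1]
      ext i
      · simp
      · simp only [Prod.smul_snd, Prod.snd_zero]
        rw [three_nsmul]
  · -- order 5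
    refine ⟨15, by decide, ?_⟩
    have := pow_mul_eq_one a 5 3 (val_injective (by rw [map_pow, h5, map_one])) ?_
    · simpa using this
    · rw [sum_pow_smul]
      have e1 : ∑ j ∈ Finset.range 5, (val a.h).1 ^ j = 0 := by
        simp only [Finset.sum_range_succ, Finset.sum_range_zero, zero_add, pow_zero, pow_one]
        exact hs
      rw [e1]
      ext i
      · simp
      · simp only [Prod.smul_snd, Prod.snd_zero]
        rw [three_nsmul]

end Cfsg.Agent.Lib.Helper27.A10Grp
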