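import Mathlib

set_option autoImplicit false

/-! Square matrices over `ZMod p` as lists of rows of natural numbers, with a product that the
kernel evaluates quickly (no indexing: rows are combined linearly), and the translation to
Mathlib's matrices. -/

namespace Cfsg.Agent.Lib.Helper27.A10Mat

/-- sum of two vectors; a missing entry counts as zero -/
def addv : List ℕ → List ℕ → List ℕ
  | [], w => w
  | a :: u, [] => a :: u
  | a :: u, b :: w => (a + b) :: addv u w

theorem getD_addv (u w : List ℕ) (j : ℕ) :
    (addv u w).getD j 0 = u.getD j 0 + w.getD j 0 := by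
  induction u generalizing w j with
  | nil => simp [addv]
  | cons a u ih =>
    cases w with
    | nil => simp [addv]
    | cons b w =>
      cases j with
      | zero => simp [addv]
      | succ j =>
        simp only [addv, List.getD_cons_succ]
        exact ih w j

theorem getD_map_mul (c : ℕ) (u : List ℕ) (j : ℕ) :
    (u.map (c * ·)).getD j 0 = c * u.getD j 0 := by
  induction u generalizing j with
  | nil => simp
  | cons a u ih =>
    cases j with
    | zero => simp
    | succ j => simpa using ih j

theorem getD_map_mod (p : ℕ) (u : List ℕ) (j : ℕ) :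
    (u.map (· % p)).getD j 0 = u.getD j 0 % p := by
  induction u generalizing j with
  | nil => simp
  | cons a u ih =>
    cases j with
    | zero => simp
    | succ j => simpa using ih j

/-- the linear combination of the rows `us` with the coefficients `cs` -/
def rowMul : List ℕ → List (List ℕ) → List ℕ
  | c :: cs, u :: us => addv (u.map (c * ·)) (rowMul cs us)
  | [], _ => []
  | _ :: _, [] => []

theorem getD_rowMul (r : List ℕ) (B : List (List ℕ)) (j : ℕ) :
    (rowMul r B).getD j 0 = (List.zipWith (fun c u => c * u.getD j 0) r B).sum := by
  induction r generalizing B with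
  | nil => simp [rowMul]
  | cons c cs ih =>
    cases B with
    | nil => simp [rowMul]
    | cons u us =>
      simp only [rowMul, List.zipWith_cons_cons, List.sum_cons]
      rw [getD_addv, getD_map_mul, ih]

/-- the product of two matrices, entries reduced modulo `p` -/
def mulM (p : ℕ) (A B : List (List ℕ)) : List (List ℕ) :=
  A.map fun r => (rowMul r B).map (· % p)

theorem getD_mulM (p : ℕ) (A B : List (List ℕ)) (i : ℕ) :
    (mulM p A B).getD i [] = (rowMul (A.getD i []) B).map (· % p) := by
  unfold mulM
  induction A generalizing i with
  | nil => simp [rowMul]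
  | cons a A ih =>
    cases i with
    | zero => simp
    | succ i => simpa using ih i

/-- the matrix in Mathlib's sense -/
def toM (n p : ℕ) (A : List (List ℕ)) : Matrix (Fin n) (Fin n) (ZMod p) :=
  fun i j => (((A.getD i []).getD j 0 : ℕ) : ZMod p)

theorem sum_zip (n p : ℕ) (r : List ℕ) (B : List (List ℕ)) (hB : B.length ≤ n) (j : ℕ) :
    (((List.zipWith (fun c u => c * u.getD j 0) r B).sum : ℕ) : ZMod p) =
      ∑ l : Fin n, ((r.getD l 0 : ℕ) : ZMod p) * (((B.getD l []).getD j 0 : ℕ) : ZMod p) := by
  induction n generalizing r B with
  | zero =>
    have : B = [] := List.length_eq_zero_iff.mp (Nat.le_zero.mp hB)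
    subst this
    simp
  | succ n ih =>
    cases r with
    | nil => simp
    | cons c cs =>
      cases B with
      | nil => simp
      | cons u us =>
        have hus : us.length ≤ n := by simpa using hB
        rw [Fin.sum_univ_succ]
        simp only [List.zipWith_cons_cons, List.sum_cons, Nat.cast_add, Nat.cast_mul,
          Fin.val_zero, List.getD_cons_zero, Fin.val_succ, List.getD_cons_succ]
        rw [ih cs us hus]

theorem toM_mulM (n p : ℕ) (A B : List (List ℕ)) (hB : B.length ≤ n) :
    toM n p (mulM p A B) = toM n p A * toM n p B := by
  ext i j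
  rw [Matrix.mul_apply]
  unfold toM
  rw [getD_mulM, getD_map_mod, ZMod.natCast_mod, getD_rowMul, sum_zip n p _ _ hB]

/-- powers -/
def powM (p : ℕ) (I A : List (List ℕ)) : ℕ → List (List ℕ)
  | 0 => I
  | k + 1 => mulM p (powM p I A k) A

theorem toM_powM (n p : ℕ) (I A : List (List ℕ)) (hI : toM n p I = 1) (hA : A.length ≤ n)
    (k : ℕ) : toM n p (powM p I A k) = toM n p A ^ k := by
  induction k with
  | zero => rw [pow_zero]; exact hI
  | succ k ih => rw [pow_succ, ← ih]; exact toM_mulM n p _ _ hA

/-- sum of two matrices, entries reduced modulo `p`; missing entries count as zero -/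
def addRows : List (List ℕ) → List (List ℕ) → List (List ℕ)
  | [], B => B
  | r :: A, [] => r :: A
  | r :: A, s :: B => addv r s :: addRows A B

theorem getD_addRows (A B : List (List ℕ)) (i : ℕ) :
    (addRows A B).getD i [] = addv (A.getD i []) (B.getD i []) := by
  induction A generalizing B i with
  | nil => simp [addRows, addv]
  | cons r A ih =>
    cases B with
    | nil =>
      cases i with
      | zero => cases r <;> simp [addRows, addv]
      | succ i =>
        simp only [addRows, List.getD_cons_succ, List.getD_nil]
        cases h : A.getD i [] <;> simp [addv]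
    | cons s B =>
      cases i with
      | zero => simp [addRows]
      | succ i =>
        simp only [addRows, List.getD_cons_succ]
        exact ih B i

theorem toM_addRows (n p : ℕ) (A B : List (List ℕ)) :
    toM n p (addRows A B) = toM n p A + toM n p B := by
  ext i j
  rw [Matrix.add_apply]
  unfold toM
  rw [getD_addRows, getD_addv, Nat.cast_add]

/-- the scalar matrix of size `n` -/
def scalM (n c : ℕ) : List (List ℕ) :=
  (List.range n).map fun i => (List.range n).map fun j => if i = j then c else 0

theorem toM_scalM (n p c : ℕ) : toM n p (scalM n c) = (c : ZMod p) • (1 : Matrix (Fin n) (Fin n) (ZMod p)) := by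
  ext i j
  unfold toM scalM
  have hi : (i : ℕ) < n := i.2
  have hj : (j : ℕ) < n := j.2
  simp only [List.getD_eq_getElem?_getD, List.getElem?_map, List.getElem?_range hi,
    Option.map_some, Option.getD_some, List.getElem?_range hj, Matrix.smul_apply,
    Matrix.one_apply, smul_eq_mul]
  by_cases h : i = j
  · subst h; simp
  · have : (i : ℕ) ≠ j := fun h' => h (Fin.ext h')
    simp [h, this]

theorem toM_one (n p : ℕ) : toM n p (scalM n 1) = 1 := by
  rw [toM_scalM, Nat.cast_one, one_smul]

theorem toM_zero (n p : ℕ) : toM n p (scalM n 0) = 0 := by
  rw [toM_scalM, Nat.cast_zero, zero_smul]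

theorem toM_nil (n p : ℕ) : toM n p [] = 0 := by
  ext i j
  simp [toM]

end Cfsg.Agent.Lib.Helper27.A10Mat
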