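import Cfsg.Agent.Lib.Helper27.A10Grp
import Cfsg.Agent.Lib.Helper27.A10ChkA
import Cfsg.Agent.Lib.Helper27.A10ChkB
import Cfsg.Agent.Lib.Helper27.A10ChkC

set_option autoImplicit false

/-! The subgroup `2.S₅⁻` of the ambient group generated by two explicit elements lies in the
explicit list; the groups `G k` and the bound for their element orders. -/

namespace Cfsg.Agent.Lib.Helper27.A10Sub

open Cfsg.Agent.Lib.Helper27.A10Mat Cfsg.Agent.Lib.Helper27.A10Data
  Cfsg.Agent.Lib.Helper27.A10Chk Cfsg.Agent.Lib.Helper27.A10Cert Cfsg.Agent.Lib.Helper27.A10SD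
  Cfsg.Agent.Lib.Helper27.A10Grp

/-- a pair with an inverse pair, as an element of the ambient group -/
def mkLam (x xi : Pair) (h : pmul x xi = pone ∧ pmul xi x = pone) (wx : wf x) (wxi : wf xi) :
    Lam :=
  have h1 : toP x * toP xi = 1 := by rw [← toP_pmul _ _ wxi, h.1, toP_pone]
  have h2 : toP xi * toP x = 1 := by rw [← toP_pmul _ _ wx, h.2, toP_pone]
  (⟨(toP x).1, (toP xi).1, congrArg Prod.fst h1, congrArg Prod.fst h2⟩,
    ⟨(toP x).2, (toP xi).2, congrArg Prod.snd h1, congrArg Prod.snd h2⟩)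

theorem val_mkLam (x xi : Pair) (h : pmul x xi = pone ∧ pmul xi x = pone) (wx : wf x)
    (wxi : wf xi) : val (mkLam x xi h wx wxi) = toP x := rfl

/-- the first generator -/
def GA : Lam := mkLam gA gAi gA_inv wf_gA wf_gAi
/-- the second generator -/
def GB : Lam := mkLam gB gBi gB_inv wf_gB wf_gBi

theorem val_GA : val GA = toP gA := rfl
theorem val_GB : val GB = toP gB := rfl

/-- the subgroup `2.S₅⁻` -/
def Hsub : Subgroup Lam := Subgroup.closure {GA, GB}

theorem GA_mem : GA ∈ Hsub := Subgroup.subset_closure (by simp)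
theorem GB_mem : GB ∈ Hsub := Subgroup.subset_closure (by simp)

/-- membership in the list, on the level of matrices -/
def InL (g : Lam) : Prop := ∃ x ∈ L, toP x = val g

theorem inL_mul_gen (g y : Lam) (hy : y = GA ∨ y = GB) (hg : InL g) : InL (g * y) := by
  obtain ⟨x, hx, hxg⟩ := hg
  rcases hy with rfl | rfl
  · exact ⟨pmul x gA, closed_A x hx, by rw [toP_pmul _ _ wf_gA, hxg, map_mul, val_GA]⟩
  · exact ⟨pmul x gB, closed_B x hx, by rw [toP_pmul _ _ wf_gB, hxg, map_mul, val_GB]⟩

theorem inL_mul_pow (g y : Lam) (hy : y = GA ∨ y = GB) (j : ℕ) (hg : InL g) : InL (g * y ^ j) := by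
  induction j with
  | zero => simpa using hg
  | succ j ih =>
    rw [pow_succ, ← mul_assoc]
    exact inL_mul_gen _ _ hy ih

theorem inL_of_mem (g : Lam) (hg : g ∈ Hsub) : InL g := by
  unfold Hsub at hg
  induction hg using Subgroup.closure_induction_right with
  | one => exact ⟨pone, one_mem, by rw [toP_pone, map_one]⟩
  | mul_right x hx y hy ih =>
    exact inL_mul_gen x y (by simpa using hy) ih
  | mul_inv_cancel x hx y hy ih =>
    have hy' : y = GA ∨ y = GB := by simpa using hy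
    have hpos : 0 < orderOf y := orderOf_pos y
    have : y⁻¹ = y ^ (orderOf y - 1) := by
      apply inv_eq_of_mul_eq_one_left
      rw [← pow_succ, Nat.sub_add_cancel hpos, pow_orderOf_eq_one]
    rw [this]
    exact inL_mul_pow x y hy' _ ih

theorem certR_of_mem (g : Lam) (hg : g ∈ Hsub) : CertR (val g) := by
  obtain ⟨x, hx, hxg⟩ := inL_of_mem g hg
  rw [← hxg]
  exact certR_of_cert x (wf_L x hx) (cert_L x hx)

/-- the group `(7^(4k) × 3^12) : 2.S₅⁻` -/
def G (k : ℕ) : Subgroup (SD Lam (Vk k)) := Hsub.comap proj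

theorem mem_G (k : ℕ) (a : SD Lam (Vk k)) : a ∈ G k ↔ a.h ∈ Hsub := Iff.rfl

/-- the spectrum of the alternating group of degree 10 -/
def S : Finset ℕ := {1, 2, 3, 4, 5, 6, 7, 8, 9, 10, 12, 15, 21}

theorem orderOf_mem_S (k : ℕ) (a : SD Lam (Vk k)) (ha : a ∈ G k) : orderOf a ∈ S := by
  obtain ⟨e, he, hae⟩ := exists_pow_eq_one k a (certR_of_mem a.h ha)
  have hdvd : orderOf a ∣ e := orderOf_dvd_of_pow_eq_one hae
  have key : ∀ e ∈ E, ∀ d ∈ Nat.divisors e, d ∈ S := by decide
  exact key e he _ (Nat.mem_divisors.mpr ⟨hdvd, by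
    rintro rfl
    revert he
    decide⟩)

end Cfsg.Agent.Lib.Helper27.A10Sub
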