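import Cfsg.Agent.Lib.Helper27.A10Sub
import Cfsg.Agent.Lib.Helper27.A10ChkW

set_option autoImplicit false

/-! Elements of orders 8, 12, 10, 9, 15, 21 in `(7^(4k) × 3^12) : 2.S₅⁻`, and its spectrum. -/

namespace Cfsg.Agent.Lib.Helper27.A10Wit

open Cfsg.Agent.Lib.Helper27.A10Mat Cfsg.Agent.Lib.Helper27.A10Data
  Cfsg.Agent.Lib.Helper27.A10Chk Cfsg.Agent.Lib.Helper27.A10Cert Cfsg.Agent.Lib.Helper27.A10SD
  Cfsg.Agent.Lib.Helper27.A10Grp Cfsg.Agent.Lib.Helper27.A10Sub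
open Matrix

theorem wf_pone : wf pone := by decide

theorem wf_ppow (x : Pair) (hx : wf x) (k : ℕ) : wf (ppow x k) := by
  cases k with
  | zero => exact wf_pone
  | succ k =>
    induction k with
    | zero => exact wf_pmul _ _ wf_pone
    | succ k ih => exact wf_pmul _ _ ih

theorem toP_ppow (x : Pair) (hx : wf x) (k : ℕ) : toP (ppow x k) = toP x ^ k := by
  induction k with
  | zero => rw [pow_zero]; exact toP_pone
  | succ k ih => rw [pow_succ, ← ih]; exact toP_pmul _ _ hx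

theorem wf_gAB : wf gAB := wf_pmul _ _ wf_gA

theorem val_GAB : val (GA * GB) = toP gAB := by
  rw [map_mul, val_GA, val_GB]
  exact (toP_pmul _ _ wf_gB).symm

theorem neg_one_ne_one : (-1 : R) ≠ 1 := by
  intro h
  have h1 := congrFun (congrFun (congrArg Prod.fst h) 0) 0
  simp only [Prod.fst_neg, Prod.fst_one, Matrix.neg_apply, Matrix.one_apply_eq] at h1
  revert h1
  decide

theorem toM_apply_ne_zero (n p : ℕ) (X : List (List ℕ)) (i j : Fin n)
    (h : ent p X i j ≠ 0) : toM n p X i j ≠ 0 := by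
  unfold toM
  rw [Ne, ZMod.natCast_eq_zero_iff]
  intro hd
  exact h (Nat.mod_eq_zero_of_dvd hd)

theorem toP_ne_one (x : Pair) (h : ent 7 x.1 0 1 ≠ 0) : toP x ≠ 1 := by
  intro e
  have h1 := congrFun (congrFun (congrArg Prod.fst e) 0) 1
  have h2 := toM_apply_ne_zero 4 7 x.1 0 1 (by simpa using h)
  apply h2
  simpa [toP] using h1

/-- powers in the ambient group through the data -/
theorem val_pow_GA (j : ℕ) : val (GA ^ j) = toP (ppow gA j) := by
  rw [map_pow, val_GA, toP_ppow _ wf_gA]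
theorem val_pow_GB (j : ℕ) : val (GB ^ j) = toP (ppow gB j) := by
  rw [map_pow, val_GB, toP_ppow _ wf_gB]
theorem val_pow_GAB (j : ℕ) : val ((GA * GB) ^ j) = toP (ppow gAB j) := by
  rw [map_pow, val_GAB, toP_ppow _ wf_gAB]

theorem GA_pow4 : val (GA ^ 4) = -1 := by rw [val_pow_GA, wA4, toP_pneg]
theorem GB_pow6 : val (GB ^ 6) = -1 := by rw [val_pow_GB, wB6, toP_pneg]
theorem GAB_pow5 : val ((GA * GB) ^ 5) = -1 := by rw [val_pow_GAB, wAB5, toP_pneg]

theorem pow_eq_one_of_val_neg {g : Lam} {j : ℕ} (h : val (g ^ j) = -1) : g ^ (2 * j) = 1 := by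
  apply val_injective
  rw [mul_comm, pow_mul, map_pow, h, map_one]
  simp

theorem pow_ne_one_of_val_neg {g : Lam} {j : ℕ} (h : val (g ^ j) = -1) : g ^ j ≠ 1 := by
  intro e
  rw [e, map_one] at h
  exact neg_one_ne_one h.symm

theorem orderOf_GA : orderOf GA = 8 := by
  have h1 : GA ^ 2 ^ (2 + 1) = 1 := pow_eq_one_of_val_neg GA_pow4
  have h2 : ¬ GA ^ 2 ^ 2 = 1 := pow_ne_one_of_val_neg GA_pow4
  exact orderOf_eq_prime_pow h2 h1

theorem eq_twelve (d : ℕ) (h12 : d ∣ 12) (h6 : ¬ d ∣ 6) (h4 : ¬ d ∣ 4) : d = 12 := by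
  have := Nat.le_of_dvd (by norm_num) h12
  interval_cases d <;> first | rfl | (exfalso; revert h12 h6 h4; decide)

theorem eq_ten (d : ℕ) (h10 : d ∣ 10) (h5 : ¬ d ∣ 5) (h2 : ¬ d ∣ 2) : d = 10 := by
  have := Nat.le_of_dvd (by norm_num) h10
  interval_cases d <;> first | rfl | (exfalso; revert h10 h5 h2; decide)

theorem eq_fifteen (d : ℕ) (h15 : d ∣ 15) (h5 : ¬ d ∣ 5) (h3 : ¬ d ∣ 3) : d = 15 := by
  have := Nat.le_of_dvd (by norm_num) h15
  interval_cases d <;> first | rfl | (exfalso; revert h15 h5 h3; decide)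

theorem eq_twentyone (d : ℕ) (h21 : d ∣ 21) (h7 : ¬ d ∣ 7) (h3 : ¬ d ∣ 3) : d = 21 := by
  have := Nat.le_of_dvd (by norm_num) h21
  interval_cases d <;> first | rfl | (exfalso; revert h21 h7 h3; decide)

theorem orderOf_GB : orderOf GB = 12 := by
  apply eq_twelve
  · exact orderOf_dvd_of_pow_eq_one (pow_eq_one_of_val_neg GB_pow6)
  · rw [orderOf_dvd_iff_pow_eq_one]
    exact pow_ne_one_of_val_neg GB_pow6
  · rw [orderOf_dvd_iff_pow_eq_one]
    intro e
    have := val_pow_GB 4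
    rw [e, map_one] at this
    exact toP_ne_one _ wB4 this.symm

theorem orderOf_GAB : orderOf (GA * GB) = 10 := by
  apply eq_ten
  · exact orderOf_dvd_of_pow_eq_one (pow_eq_one_of_val_neg GAB_pow5)
  · rw [orderOf_dvd_iff_pow_eq_one]
    exact pow_ne_one_of_val_neg GAB_pow5
  · rw [orderOf_dvd_iff_pow_eq_one]
    intro e
    have := val_pow_GAB 2
    rw [e, map_one] at this
    exact toP_ne_one _ wAB2 this.symm


/-- the translation vector of the witnesses of orders 9 and 15 -/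
def v0 (k : ℕ) : Vk k := (0, Pi.single 0 1)

theorem sum_v0 (k : ℕ) (h : Lam) (m : ℕ) :
    (∑ j ∈ Finset.range m, h ^ j • v0 k).2 0 = (∑ j ∈ Finset.range m, (val h).2 ^ j) 0 0 := by
  rw [sum_pow_smul]
  show ((∑ j ∈ Finset.range m, (val h).2 ^ j) *ᵥ Pi.single 0 1) 0 = _
  rw [Matrix.mulVec_single_one]
  rfl

theorem nsmul_sum_v0 (k : ℕ) (h : Lam) (m : ℕ) :
    3 • ∑ j ∈ Finset.range m, h ^ j • v0 k = 0 := by
  rw [sum_pow_smul]
  ext i
  · simp [v0]
  · simp only [Prod.smul_snd, Prod.snd_zero]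
    rw [three_nsmul]

/-- the witness of order 9 -/
def a9 (k : ℕ) : SD Lam (Vk k) := ⟨v0 k, GB ^ 4⟩

theorem a9_mem (k : ℕ) : a9 k ∈ G k := pow_mem GB_mem 4

theorem orderOf_a9 (k : ℕ) : orderOf (a9 k) = 9 := by
  have h3 : (a9 k).h ^ 3 = 1 := by
    show (GB ^ 4) ^ 3 = 1
    rw [← pow_mul]
    exact pow_eq_one_of_val_neg GB_pow6
  have h1 : a9 k ^ 3 ^ (1 + 1) = 1 := pow_mul_eq_one (a9 k) 3 3 h3 (nsmul_sum_v0 k _ 3)
  have h2 : ¬ a9 k ^ 3 ^ 1 = 1 := by
    intro e
    rw [pow_one, pow_eq] at e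
    have e1 := congrArg SD.v e
    have e2 : (∑ j ∈ Finset.range 3, (GB ^ 4) ^ j • v0 k).2 0 = 0 := by
      exact congrFun (congrArg Prod.snd e1) 0
    rw [sum_v0] at e2
    have hB : ∀ j, (val (GB ^ 4)).2 ^ j = toM 12 3 (ppow gB (4 * j)).2 := by
      intro j
      have := congrArg Prod.snd (val_pow_GB (4 * j))
      rw [pow_mul, map_pow] at this
      simpa [toP] using this
    have hsum : ∑ j ∈ Finset.range 3, (val (GB ^ 4)).2 ^ j =
        toM 12 3 (addRows (addRows (scalM 12 1) (ppow gB 4).2) (ppow gB 8).2) := by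
      rw [toM_addRows, toM_addRows, toM_one, Finset.sum_range_succ, Finset.sum_range_succ,
        Finset.sum_range_one, pow_zero, hB 1, hB 2]
    rw [hsum] at e2
    exact toM_apply_ne_zero 12 3 _ 0 0 wS3 e2
  exact orderOf_eq_prime_pow h2 h1

/-- the witness of order 15 -/
def a15 (k : ℕ) : SD Lam (Vk k) := ⟨v0 k, (GA * GB) ^ 2⟩

theorem a15_mem (k : ℕ) : a15 k ∈ G k := pow_mem (mul_mem GA_mem GB_mem) 2

theorem orderOf_a15 (k : ℕ) : orderOf (a15 k) = 15 := by
  have h5 : (a15 k).h ^ 5 = 1 := by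
    show ((GA * GB) ^ 2) ^ 5 = 1
    rw [← pow_mul]
    exact pow_eq_one_of_val_neg GAB_pow5
  apply eq_fifteen
  · exact orderOf_dvd_of_pow_eq_one (pow_mul_eq_one (a15 k) 5 3 h5 (nsmul_sum_v0 k _ 5))
  · rw [orderOf_dvd_iff_pow_eq_one]
    intro e
    rw [pow_eq] at e
    have e1 := congrArg SD.v e
    have e2 : (∑ j ∈ Finset.range 5, ((GA * GB) ^ 2) ^ j • v0 k).2 0 = 0 := by
      exact congrFun (congrArg Prod.snd e1) 0
    rw [sum_v0] at e2
    have hB : ∀ j, (val ((GA * GB) ^ 2)).2 ^ j = toM 12 3 (ppow gAB (2 * j)).2 := by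
      intro j
      have := congrArg Prod.snd (val_pow_GAB (2 * j))
      rw [pow_mul, map_pow] at this
      simpa [toP] using this
    have hsum : ∑ j ∈ Finset.range 5, (val ((GA * GB) ^ 2)).2 ^ j =
        toM 12 3 (addRows (addRows (addRows (addRows (scalM 12 1) (ppow gAB 2).2)
          (ppow gAB 4).2) (ppow gAB 6).2) (ppow gAB 8).2) := by
      rw [toM_addRows, toM_addRows, toM_addRows, toM_addRows, toM_one]
      simp only [Finset.sum_range_succ, Finset.sum_range_zero, zero_add, pow_zero]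
      rw [hB 1, hB 2, hB 3, hB 4]
    rw [hsum] at e2
    exact toM_apply_ne_zero 12 3 _ 0 0 wS5 e2
  · rw [orderOf_dvd_iff_pow_eq_one]
    intro e
    have e1 := congrArg SD.h e
    rw [pow_eq] at e1
    have e2 : ((GA * GB) ^ 2) ^ 3 = 1 := e1
    rw [← pow_mul] at e2
    have := val_pow_GAB 6
    rw [show 2 * 3 = 6 from rfl] at e2
    rw [e2, map_one] at this
    exact toP_ne_one _ wAB6 this.symm

/-- the witness of order 21 -/
def a21 (k : ℕ) : SD Lam (Vk k) := ⟨(fun _ => Pi.single 0 1, Pi.single 0 1), 1⟩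

theorem a21_mem (k : ℕ) : a21 k ∈ G k := Hsub.one_mem

theorem a21_pow (k m : ℕ) : a21 k ^ m = ⟨m • (a21 k).v, 1⟩ := by
  rw [pow_eq]
  ext1
  · show ∑ i ∈ Finset.range m, (1 : Lam) ^ i • (a21 k).v = m • (a21 k).v
    simp
  · show (1 : Lam) ^ m = 1
    simp

theorem orderOf_a21 (k : ℕ) (hk : 0 < k) : orderOf (a21 k) = 21 := by
  apply eq_twentyone
  · apply orderOf_dvd_of_pow_eq_one
    rw [a21_pow, twentyone_nsmul]
    rfl
  · rw [orderOf_dvd_iff_pow_eq_one, a21_pow]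
    intro e
    have e1 := congrFun (congrArg Prod.snd (congrArg SD.v e)) 0
    have e2 : (7 : ℕ) • (1 : ZMod 3) = 0 := by simpa [a21] using e1
    revert e2
    decide
  · rw [orderOf_dvd_iff_pow_eq_one, a21_pow]
    intro e
    have e1 := congrFun (congrFun (congrArg Prod.fst (congrArg SD.v e)) ⟨0, hk⟩) 0
    have e2 : (3 : ℕ) • (1 : ZMod 7) = 0 := by simpa [a21] using e1
    revert e2
    decide

theorem exists_of_dvd (k : ℕ) {a : SD Lam (Vk k)} (ha : a ∈ G k) {N d : ℕ} (hN : orderOf a = N)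
    (hN0 : N ≠ 0) (hd : d ∣ N) : ∃ b ∈ G k, orderOf b = d := by
  refine ⟨a ^ (orderOf a / d), pow_mem ha _, ?_⟩
  exact orderOf_pow_orderOf_div (by rw [hN]; exact hN0) (by rw [hN]; exact hd)

theorem exists_orderOf (k : ℕ) (hk : 0 < k) (d : ℕ) (hd : d ∈ S) : ∃ b ∈ G k, orderOf b = d := by
  have m8 : (inr GA : SD Lam (Vk k)) ∈ G k := GA_mem
  have o8 : orderOf (inr GA : SD Lam (Vk k)) = 8 := by rw [orderOf_inr, orderOf_GA]
  have m12 : (inr GB : SD Lam (Vk k)) ∈ G k := GB_mem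
  have o12 : orderOf (inr GB : SD Lam (Vk k)) = 12 := by rw [orderOf_inr, orderOf_GB]
  have m10 : (inr (GA * GB) : SD Lam (Vk k)) ∈ G k := mul_mem GA_mem GB_mem
  have o10 : orderOf (inr (GA * GB) : SD Lam (Vk k)) = 10 := by rw [orderOf_inr, orderOf_GAB]
  unfold S at hd
  simp only [Finset.mem_insert, Finset.mem_singleton] at hd
  rcases hd with rfl | rfl | rfl | rfl | rfl | rfl | rfl | rfl | rfl | rfl | rfl | rfl | rfl
  · exact exists_of_dvd k m8 o8 (by norm_num) (by norm_num)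
  · exact exists_of_dvd k m8 o8 (by norm_num) (by norm_num)
  · exact exists_of_dvd k m12 o12 (by norm_num) (by norm_num)
  · exact exists_of_dvd k m8 o8 (by norm_num) (by norm_num)
  · exact exists_of_dvd k m10 o10 (by norm_num) (by norm_num)
  · exact exists_of_dvd k m12 o12 (by norm_num) (by norm_num)
  · exact exists_of_dvd k (a21_mem k) (orderOf_a21 k hk) (by norm_num) (by norm_num)
  · exact exists_of_dvd k m8 o8 (by norm_num) (by norm_num)
  · exact exists_of_dvd k (a9_mem k) (orderOf_a9 k) (by norm_num) (by norm_num)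
  · exact exists_of_dvd k m10 o10 (by norm_num) (by norm_num)
  · exact exists_of_dvd k m12 o12 (by norm_num) (by norm_num)
  · exact exists_of_dvd k (a15_mem k) (orderOf_a15 k) (by norm_num) (by norm_num)
  · exact exists_of_dvd k (a21_mem k) (orderOf_a21 k hk) (by norm_num) (by norm_num)

/-- the spectrum of `(7^(4k) × 3^12) : 2.S₅⁻` -/
theorem range_orderOf (k : ℕ) (hk : 0 < k) :
    Set.range (orderOf : ↥(G k) → ℕ) = (S : Set ℕ) := by
  ext d
  constructor
  · rintro ⟨a, rfl⟩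
    rw [← Subgroup.orderOf_coe]
    exact orderOf_mem_S k a a.2
  · intro hd
    obtain ⟨b, hb, hbd⟩ := exists_orderOf k hk d hd
    exact ⟨⟨b, hb⟩, by rw [← Subgroup.orderOf_coe]; exact hbd⟩

/-- the order is large -/
theorem lt_card (k : ℕ) : k < Nat.card ↥(G k) := by
  let ι : (Fin k → Fin 4 → ZMod 7) → ↥(G k) := fun f => ⟨⟨(f, 0), 1⟩, Hsub.one_mem⟩
  have hι : Function.Injective ι := by
    intro f f' e
    have := congrArg (fun a : ↥(G k) => (a : SD Lam (Vk k)).v.1) e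
    exact this
  have h1 := Nat.card_le_card_of_injective ι hι
  have h2 : Nat.card (Fin k → Fin 4 → ZMod 7) = (7 ^ 4) ^ k := by
    rw [Nat.card_eq_fintype_card, Fintype.card_fun, Fintype.card_fun, ZMod.card, Fintype.card_fin,
      Fintype.card_fin]
  rw [h2] at h1
  calc k < 2 ^ k := Nat.lt_two_pow_self
    _ ≤ (7 ^ 4) ^ k := Nat.pow_le_pow_left (by norm_num) k
    _ ≤ _ := h1

end Cfsg.Agent.Lib.Helper27.A10Wit
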