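import Mathlib
import Cfsg.Prelude.Def_FusionSystem
import Cfsg.Agent.Lib.Helper27.FusionNormalCrit
import Cfsg.Agent.Lib.Helper27.FusionTopNormal

set_option autoImplicit false

/-! Fusion systems with a chain of strongly closed subgroups with cyclic steps: automizers are
abelian modulo a normal `p`-subgroup, so `S` is normal in the system. -/

namespace Cfsg.Agent.Lib.Helper27

open Cfsg Cfsg.FusionSystem

section Arith

theorem pow_pred_dvd {p k n : ℕ} [Fact p.Prime] (hn : n.Coprime p) (hn0 : 0 < n) {a : ℤ}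
    (h : ((p ^ k : ℕ) : ℤ) ∣ a ^ n - 1) : ((p ^ k : ℕ) : ℤ) ∣ a ^ (p - 1) - 1 := by
  have hp : p.Prime := Fact.out
  rcases Nat.eq_zero_or_pos k with rfl | hk
  · simp
  have h1 : ((a : ZMod (p ^ k))) ^ n = 1 := by
    have := (ZMod.intCast_eq_intCast_iff_dvd_sub 1 (a ^ n) (p ^ k)).mpr h
    push_cast at this
    exact this.symm
  let u : (ZMod (p ^ k))ˣ := Units.ofPowEqOne _ n h1 hn0.ne'
  have hu : u ^ n = 1 := Units.pow_ofPowEqOne h1 hn0.ne'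
  have hu2 : u ^ (p ^ k).totient = 1 := ZMod.pow_totient u
  have hd1 : orderOf u ∣ n := orderOf_dvd_of_pow_eq_one hu
  have hd2 : orderOf u ∣ p ^ (k - 1) * (p - 1) := by
    rw [← Nat.totient_prime_pow hp hk]; exact orderOf_dvd_of_pow_eq_one hu2
  have hcop : (orderOf u).Coprime (p ^ (k - 1)) :=
    (Nat.Coprime.coprime_dvd_left hd1 hn).pow_right _
  have hd3 : orderOf u ∣ p - 1 := hcop.dvd_of_dvd_mul_left hd2
  have hu3 : u ^ (p - 1) = 1 := orderOf_dvd_iff_pow_eq_one.mp hd3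
  have h2 : ((a : ZMod (p ^ k))) ^ (p - 1) = 1 := by
    have := congrArg Units.val hu3
    simpa [u] using this
  have := (ZMod.intCast_eq_intCast_iff_dvd_sub 1 (a ^ (p - 1)) (p ^ k)).mp (by push_cast; exact h2.symm)
  exact this

end Arith

section GroupLemmas

variable {Ω : Type*} [Group Ω]

/-- If `M = N ⊔ ⟨x⟩` with `N` normalized by `S ∋ x`, then `(M ⊓ R)/(N ⊓ R)` is cyclic. -/
theorem exists_generator_mod {S N M : Subgroup Ω} (R : Subgroup Ω) (hNS : N ≤ S)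
    (hNn : ∀ s ∈ S, ∀ n ∈ N, s * n * s⁻¹ ∈ N) {x : Ω} (hx : x ∈ S)
    (hM : M = N ⊔ Subgroup.zpowers x) :
    ∃ v₀ ∈ M ⊓ R, ∀ v ∈ M ⊓ R, ∃ i : ℤ, v₀ ^ (-i) * v ∈ N := by
  haveI hN' : (N.subgroupOf S).Normal := by
    constructor
    intro n hn s
    rw [Subgroup.mem_subgroupOf] at hn ⊢
    have := hNn s s.2 n hn
    simpa using this
  have hMS : M ≤ S := by
    rw [hM]; exact sup_le hNS (by rw [Subgroup.zpowers_le]; exact hx)
  let π := QuotientGroup.mk' (N.subgroupOf S)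
  have hker : ∀ v : S, π v = 1 ↔ (v : Ω) ∈ N := by
    intro v
    rw [QuotientGroup.mk'_apply, QuotientGroup.eq_one_iff, Subgroup.mem_subgroupOf]
  have hπM : ∀ v : S, (v : Ω) ∈ M → π v ∈ Subgroup.zpowers (π ⟨x, hx⟩) := by
    intro v hv
    have h1 : N ⊔ Subgroup.zpowers x ≤ ((Subgroup.zpowers (π ⟨x, hx⟩)).comap π).map S.subtype := by
      apply sup_le
      · intro n hn
        refine ⟨⟨n, hNS hn⟩, ?_, rfl⟩
        rw [SetLike.mem_coe, Subgroup.mem_comap, (hker ⟨n, hNS hn⟩).mpr hn]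
        exact Subgroup.one_mem _
      · rw [Subgroup.zpowers_le]
        exact ⟨⟨x, hx⟩, Subgroup.mem_zpowers _, rfl⟩
    rw [hM] at hv
    obtain ⟨v', hv', hvv⟩ := h1 hv
    have : v' = v := Subtype.ext hvv
    rw [← this]; exact hv'
  let B : Subgroup (S ⧸ N.subgroupOf S) := ((M ⊓ R).subgroupOf S).map π
  have hB : B ≤ Subgroup.zpowers (π ⟨x, hx⟩) := by
    rintro _ ⟨v, hv, rfl⟩
    exact hπM v (Subgroup.mem_subgroupOf.mp hv).1
  haveI : IsCyclic B := Subgroup.isCyclic_of_le hB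
  obtain ⟨g, hg⟩ := IsCyclic.exists_generator (α := B)
  obtain ⟨v₀, hv₀, hgv⟩ := g.2
  refine ⟨(v₀ : Ω), Subgroup.mem_subgroupOf.mp hv₀, fun v hv => ?_⟩
  have hvS : v ∈ S := hMS hv.1
  have hvB : π ⟨v, hvS⟩ ∈ B := ⟨⟨v, hvS⟩, Subgroup.mem_subgroupOf.mpr hv, rfl⟩
  have h1 := hg ⟨π ⟨v, hvS⟩, hvB⟩
  rw [Subgroup.mem_zpowers_iff] at h1
  obtain ⟨i, hi⟩ := h1
  refine ⟨i, ?_⟩
  have h2 : (g : S ⧸ N.subgroupOf S) ^ i = π ⟨v, hvS⟩ := by
    have := congrArg (fun z : B => (z : S ⧸ N.subgroupOf S)) hi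
    simpa using this
  rw [← hgv] at h2
  have h3 : π (v₀ ^ (-i) * ⟨v, hvS⟩) = 1 := by
    rw [map_mul, map_zpow, ← h2, zpow_neg, inv_mul_cancel]
  have h4 := (hker _).mp h3
  simpa using h4

end GroupLemmas

section Cyc

variable {R : Type*} [Group R] {V W : Subgroup R} [hWn : W.Normal] {v₀ : R}

theorem cyc_mk_eq (hgen : ∀ v ∈ V, ∃ i : ℤ, v₀ ^ (-i) * v ∈ W) {v : R} (hv : v ∈ V) :
    ∃ i : ℤ, (QuotientGroup.mk v : R ⧸ W) = (QuotientGroup.mk v₀) ^ i := by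
  obtain ⟨i, hi⟩ := hgen v hv
  refine ⟨i, ?_⟩
  have h1 : (QuotientGroup.mk (v₀ ^ (-i) * v) : R ⧸ W) = 1 := (QuotientGroup.eq_one_iff _).mpr hi
  rw [QuotientGroup.mk_mul, QuotientGroup.mk_zpow, zpow_neg, inv_mul_eq_one] at h1
  exact h1.symm

theorem cyc_key (γ : R ≃* R) (hγW : ∀ w ∈ W, γ w ∈ W) {c : ℤ}
    (hc : (QuotientGroup.mk (γ v₀) : R ⧸ W) = (QuotientGroup.mk v₀) ^ c) (y : R) (k : ℤ)
    (hy : (QuotientGroup.mk y : R ⧸ W) = (QuotientGroup.mk v₀) ^ k) :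
    (QuotientGroup.mk (γ y) : R ⧸ W) = (QuotientGroup.mk v₀) ^ (c * k) := by
  have h1 : (QuotientGroup.mk (v₀ ^ k) : R ⧸ W) = QuotientGroup.mk y := by
    rw [QuotientGroup.mk_zpow, hy]
  rw [QuotientGroup.eq] at h1
  have h2 := hγW _ h1
  rw [map_mul, map_inv, map_zpow] at h2
  have h3 : (QuotientGroup.mk ((γ v₀) ^ k) : R ⧸ W) = QuotientGroup.mk (γ y) := by
    rw [QuotientGroup.eq]; exact h2
  rw [← h3, QuotientGroup.mk_zpow, hc, ← zpow_mul]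

/-- Two automorphisms preserving `V ≥ W` with `V/W` cyclic commute modulo `W` on `V`. -/
theorem comm_mod_of_cyclic_section (hv₀ : v₀ ∈ V) (hgen : ∀ v ∈ V, ∃ i : ℤ, v₀ ^ (-i) * v ∈ W)
    (α β : R ≃* R) (hαV : ∀ v ∈ V, α v ∈ V) (hαW : ∀ w ∈ W, α w ∈ W)
    (hβV : ∀ v ∈ V, β v ∈ V) (hβW : ∀ w ∈ W, β w ∈ W) :
    ∀ x ∈ V, (β (α x))⁻¹ * α (β x) ∈ W := by
  intro x hx
  obtain ⟨a, ha⟩ := cyc_mk_eq hgen (hαV v₀ hv₀)
  obtain ⟨b, hb⟩ := cyc_mk_eq hgen (hβV v₀ hv₀)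
  obtain ⟨i, hi⟩ := cyc_mk_eq hgen hx
  have h1 := cyc_key α hαW ha x i hi
  have h2 := cyc_key β hβW hb (α x) (a * i) h1
  have h3 := cyc_key β hβW hb x i hi
  have h4 := cyc_key α hαW ha (β x) (b * i) h3
  rw [← QuotientGroup.eq, h2, h4]
  congr 1; ring

/-- An automorphism of order prime to `p` of a finite `p`-group, preserving `V ≥ W` with `V/W` cyclic,
has `(p-1)`-st power acting trivially on `V/W`. -/
theorem pow_mod_of_cyclic_section [Finite R] {p : ℕ} [Fact p.Prime] (hR : IsPGroup p R) (hv₀ : v₀ ∈ V)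
    (hgen : ∀ v ∈ V, ∃ i : ℤ, v₀ ^ (-i) * v ∈ W)
    (α : MulAut R) (hαV : ∀ v ∈ V, α v ∈ V) (hαW : ∀ w ∈ W, α w ∈ W) {n : ℕ} (hn0 : 0 < n)
    (hn : n.Coprime p) (hαn : α ^ n = 1) : ∀ x ∈ V, x⁻¹ * (α ^ (p - 1)) x ∈ W := by
  intro x hx
  obtain ⟨a, ha⟩ := cyc_mk_eq hgen (hαV v₀ hv₀)
  obtain ⟨i, hi⟩ := cyc_mk_eq hgen hx
  have hiter : ∀ (j : ℕ) (y : R) (k : ℤ),
      (QuotientGroup.mk y : R ⧸ W) = (QuotientGroup.mk v₀ : R ⧸ W) ^ k →
      (QuotientGroup.mk ((α ^ j) y) : R ⧸ W) = (QuotientGroup.mk v₀ : R ⧸ W) ^ (a ^ j * k) := by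
    intro j
    induction j with
    | zero => intro y k hy; simpa using hy
    | succ j ih =>
      intro y k hy
      rw [pow_succ', MulAut.mul_apply]
      have := cyc_key (v₀ := v₀) (α : R ≃* R) hαW ha _ _ (ih y k hy)
      rw [this]; congr 1; ring
  obtain ⟨k, hk⟩ := (IsPGroup.iff_orderOf.mp (hR.to_quotient W)) (QuotientGroup.mk v₀ : R ⧸ W)
  have h1 := hiter n v₀ 1 (by rw [zpow_one])
  rw [hαn, MulAut.one_apply, mul_one] at h1
  have h2 : (QuotientGroup.mk v₀ : R ⧸ W) ^ (a ^ n - 1) = 1 := by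
    rw [zpow_sub, zpow_one, ← h1, mul_inv_cancel]
  have h3 : ((p ^ k : ℕ) : ℤ) ∣ a ^ n - 1 := by
    rw [← hk]; exact orderOf_dvd_iff_zpow_eq_one.mpr h2
  have h4 : ((p ^ k : ℕ) : ℤ) ∣ a ^ (p - 1) - 1 := pow_pred_dvd hn hn0 h3
  have h5 : (QuotientGroup.mk v₀ : R ⧸ W) ^ (a ^ (p - 1)) = QuotientGroup.mk v₀ := by
    have : (QuotientGroup.mk v₀ : R ⧸ W) ^ (a ^ (p - 1) - 1) = 1 := by
      rw [← hk] at h4; exact orderOf_dvd_iff_zpow_eq_one.mp h4
    rw [zpow_sub, zpow_one, mul_inv_eq_one] at this; exact this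
  have h6 := hiter (p - 1) x i hi
  rw [zpow_mul, h5, ← hi] at h6
  rw [← QuotientGroup.eq]; exact h6.symm

end Cyc

section PCore

theorem mem_pCore_of_commutators {A : Type*} [Group A] {p : ℕ} [Fact p.Prime]
    (K : Subgroup A) (hKn : K.Normal) (hK : IsPGroup p K) (hcomm : ∀ a b : A, a * b * a⁻¹ * b⁻¹ ∈ K) (γ : A)
    {k : ℕ} (hγ : γ ^ (p ^ k) = 1) : γ ∈ pCore p A := by
  have hLn : (K ⊔ Subgroup.zpowers γ).Normal := by
    constructor
    intro l hl a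
    have : a * l * a⁻¹ = (a * l * a⁻¹ * l⁻¹) * l := by group
    rw [this]
    exact Subgroup.mul_mem _ (Subgroup.mem_sup_left (hcomm a l)) hl
  have hγp : IsPGroup p (Subgroup.zpowers γ) := by
    rintro ⟨y, hy⟩
    refine ⟨k, ?_⟩
    obtain ⟨i, rfl⟩ := Subgroup.mem_zpowers_iff.mp hy
    apply Subtype.ext
    show (γ ^ i) ^ (p ^ k) = 1
    rw [← zpow_natCast, ← zpow_mul, mul_comm, zpow_mul, zpow_natCast, hγ, one_zpow]
  haveI := hKn
  have hLp : IsPGroup p ↥(K ⊔ Subgroup.zpowers γ) := IsPGroup.to_sup_of_normal_left hK hγp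
  exact Cfsg.Agent.Lib.Helper1.le_pCore hLn hLp (Subgroup.mem_sup_right (Subgroup.mem_zpowers γ))

end PCore

section Fusion

variable {Ω : Type*} [Group Ω] {S : Subgroup Ω}

/-- A chain of strongly closed subgroups with cyclic steps (indexed by `ℕ`, relevant up to `m`). -/
structure ChainData (F : FusionSystem S) (c : ℕ → Subgroup Ω) (m : ℕ) : Prop where
  sc : ∀ j, F.StronglyClosed (c j)
  step : ∀ j < m, c j ≤ c (j + 1) ∧ ∃ x ∈ S, c (j + 1) = c j ⊔ Subgroup.zpowers x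

theorem chain_inv {F : FusionSystem S} {c : ℕ → Subgroup Ω} {m : ℕ} (h : ChainData F c m)
    {R : Subgroup Ω} (hRS : R ≤ S) :
    ∀ j, ∀ α : F.autGroup R, ∀ x : R, (x : Ω) ∈ c j ⊓ R →
      ((((α : MulAut R) x : R)) : Ω) ∈ c j ⊓ R := by
  intro j α x hx
  have hα : IsIso F ((α : MulAut R) : R ≃* R) := (mem_autGroup_iff F hRS α).mp α.2
  refine ⟨?_, ((α : MulAut R) x).2⟩
  have hle : c j ⊓ R ≤ R := inf_le_right
  exact (h.sc j).2 (c j ⊓ R) inf_le_left _ (hom_restrict F hle hα) ⟨x, hx⟩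

theorem chain_section {F : FusionSystem S} {c : ℕ → Subgroup Ω} {m : ℕ} (h : ChainData F c m)
    {R : Subgroup Ω} (hRS : R ≤ S) {j : ℕ} (hj : j < m) :
    ((c j ⊓ R).subgroupOf R).Normal ∧ ∃ v₀ : R, v₀ ∈ (c (j + 1) ⊓ R).subgroupOf R ∧
      ∀ v ∈ (c (j + 1) ⊓ R).subgroupOf R, ∃ i : ℤ, v₀ ^ (-i) * v ∈ (c j ⊓ R).subgroupOf R := by
  constructor
  · constructor
    intro n hn r
    rw [Subgroup.mem_subgroupOf] at hn ⊢
    refine ⟨?_, (r * n * r⁻¹).2⟩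
    have := stronglyClosed_conj_mem (h.sc j) (hRS r.2) hn.1
    simpa using this
  · obtain ⟨-, x, hx, hM⟩ := h.step j hj
    obtain ⟨v₀, hv₀, hgen⟩ := exists_generator_mod R (h.sc j).1
      (fun s hs n hn => stronglyClosed_conj_mem (h.sc j) hs hn) hx hM
    refine ⟨⟨v₀, hv₀.2⟩, Subgroup.mem_subgroupOf.mpr hv₀, fun v hv => ?_⟩
    rw [Subgroup.mem_subgroupOf] at hv
    obtain ⟨i, hi⟩ := hgen v hv
    refine ⟨i, ?_⟩
    rw [Subgroup.mem_subgroupOf]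
    refine ⟨?_, (_ : R).2⟩
    simpa using hi

theorem commutator_mem_chainStabilizer {F : FusionSystem S} {c : ℕ → Subgroup Ω} {m : ℕ}
    (h : ChainData F c m) {R : Subgroup Ω} (hRS : R ≤ S) (α β : F.autGroup R) :
    α * β * α⁻¹ * β⁻¹ ∈ chainStabilizer F R (fun j => c j ⊓ R) m (chain_inv h hRS) := by
  intro j hj x hx
  obtain ⟨hWn, v₀, hv₀, hgen⟩ := chain_section h hRS hj
  haveI := hWn
  have hinv := chain_inv h hRS
  have hV : ∀ γ : F.autGroup R, ∀ v ∈ (c (j + 1) ⊓ R).subgroupOf R,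
      (γ : MulAut R) v ∈ (c (j + 1) ⊓ R).subgroupOf R :=
    fun γ v hv => Subgroup.mem_subgroupOf.mpr (hinv (j + 1) γ v (Subgroup.mem_subgroupOf.mp hv))
  have hW : ∀ γ : F.autGroup R, ∀ v ∈ (c j ⊓ R).subgroupOf R,
      (γ : MulAut R) v ∈ (c j ⊓ R).subgroupOf R :=
    fun γ v hv => Subgroup.mem_subgroupOf.mpr (hinv j γ v (Subgroup.mem_subgroupOf.mp hv))
  obtain ⟨x', hx'⟩ : ∃ x' : R, x' = ((α⁻¹ : F.autGroup R) : MulAut R)
      (((β⁻¹ : F.autGroup R) : MulAut R) x) := ⟨_, rfl⟩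
  have hx'V : x' ∈ (c (j + 1) ⊓ R).subgroupOf R := by
    rw [hx']
    exact hV α⁻¹ _ (hV β⁻¹ x (Subgroup.mem_subgroupOf.mpr hx))
  have key := comm_mod_of_cyclic_section hv₀ hgen ((α : MulAut R) : R ≃* R) ((β : MulAut R) : R ≃* R)
    (hV α) (hW α) (hV β) (hW β) x' hx'V
  have e1 : ((β : MulAut R) : R ≃* R) (((α : MulAut R) : R ≃* R) x') = x := by
    rw [hx']
    simp
  have e2 : ((α * β * α⁻¹ * β⁻¹ : F.autGroup R) : MulAut R) x =
      ((α : MulAut R) : R ≃* R) (((β : MulAut R) : R ≃* R) x') := by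
    rw [hx']
    simp [MulAut.mul_apply]
  rw [e1] at key
  show ((x⁻¹ * ((α * β * α⁻¹ * β⁻¹ : F.autGroup R) : MulAut R) x : R) : Ω) ∈ c j ⊓ R
  rw [e2]
  exact Subgroup.mem_subgroupOf.mp key

theorem pow_pred_mem_chainStabilizer [Finite S] {p : ℕ} [Fact p.Prime] (hS : IsPGroup p S)
    {F : FusionSystem S} {c : ℕ → Subgroup Ω} {m : ℕ}
    (h : ChainData F c m) {R : Subgroup Ω} (hRS : R ≤ S) (α : F.autGroup R) {n : ℕ} (hn0 : 0 < n)
    (hn : n.Coprime p) (hαn : α ^ n = 1) :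
    α ^ (p - 1) ∈ chainStabilizer F R (fun j => c j ⊓ R) m (chain_inv h hRS) := by
  intro j hj x hx
  obtain ⟨hWn, v₀, hv₀, hgen⟩ := chain_section h hRS hj
  haveI := hWn
  have hinv := chain_inv h hRS
  haveI : Finite R := Finite.of_injective (Subgroup.inclusion hRS) (Subgroup.inclusion_injective hRS)
  have hpR : IsPGroup p R := hS.of_injective (Subgroup.inclusion hRS) (Subgroup.inclusion_injective hRS)
  have hV : ∀ v ∈ (c (j + 1) ⊓ R).subgroupOf R,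
      (α : MulAut R) v ∈ (c (j + 1) ⊓ R).subgroupOf R :=
    fun v hv => Subgroup.mem_subgroupOf.mpr (hinv (j + 1) α v (Subgroup.mem_subgroupOf.mp hv))
  have hW : ∀ v ∈ (c j ⊓ R).subgroupOf R,
      (α : MulAut R) v ∈ (c j ⊓ R).subgroupOf R :=
    fun v hv => Subgroup.mem_subgroupOf.mpr (hinv j α v (Subgroup.mem_subgroupOf.mp hv))
  have hαn' : (α : MulAut R) ^ n = 1 := by
    have := congrArg (fun z : F.autGroup R => (z : MulAut R)) hαn
    simpa using this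
  have key := pow_mod_of_cyclic_section hpR hv₀ hgen (α : MulAut R) hV hW hn0 hn hαn' x
    (Subgroup.mem_subgroupOf.mpr hx)
  show ((x⁻¹ * ((α ^ (p - 1) : F.autGroup R) : MulAut R) x : R) : Ω) ∈ c j ⊓ R
  have e : ((α ^ (p - 1) : F.autGroup R) : MulAut R) = (α : MulAut R) ^ (p - 1) := by simp
  rw [e]
  exact Subgroup.mem_subgroupOf.mp key

/-- A saturated fusion system with a chain of strongly closed subgroups with cyclic steps from `⊥` to
`S` has `S` as a normal subgroup. -/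
theorem isNormal_top_of_chain [Finite S] {p : ℕ} [Fact p.Prime] (hS : IsPGroup p S)
    {F : FusionSystem S} (hF : F.IsSaturated p) {c : ℕ → Subgroup Ω} {m : ℕ}
    (h : ChainData F c m) (hc0 : c 0 = ⊥) (hcm : c m = S) : F.IsNormal S := by
  apply isNormal_top_of_no_proper_frc hS hF
  intro R hRlt hfn hcen hrad
  have hRS : R ≤ S := hRlt.le
  obtain ⟨g, hgN, hgR⟩ := exists_mem_normalizerIn_not_mem hS hRlt
  apply hgR
  have hb0 : (fun j => c j ⊓ R) 0 = ⊥ := by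
    show c 0 ⊓ R = ⊥
    rw [hc0, bot_inf_eq]
  have hbm : R ≤ (fun j => c j ⊓ R) m := by
    show R ≤ c m ⊓ R
    rw [hcm]; exact le_inf hRS le_rfl
  have hKn := chainStabilizer_normal F R (fun j => c j ⊓ R) m (chain_inv h hRS)
  have hKp := chainStabilizer_isPGroup hS F hRS (fun j => c j ⊓ R) m (chain_inv h hRS) hb0 hbm
  have h1 : conjAutHom S R ⟨g, hgN⟩ ∈ autInducedBy S R := by
    rw [← conjAutHom_range]; exact ⟨_, rfl⟩
  have h1A : conjAutHom S R ⟨g, hgN⟩ ∈ F.autGroup R := autInducedBy_le_autGroup F hRS h1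
  obtain ⟨k, hk⟩ := hS ⟨g, hgN.1⟩
  have hγ : (⟨conjAutHom S R ⟨g, hgN⟩, h1A⟩ : F.autGroup R) ^ (p ^ k) = 1 := by
    apply Subtype.ext
    show (conjAutHom S R ⟨g, hgN⟩) ^ (p ^ k) = 1
    rw [← map_pow]
    have : (⟨g, hgN⟩ : normalizerIn S R) ^ (p ^ k) = 1 := by
      apply Subtype.ext
      have := congrArg (fun z : S => (z : Ω)) hk
      simpa using this
    rw [this, map_one]
  have h2 := mem_pCore_of_commutators _ hKn hKp (commutator_mem_chainStabilizer h hRS) _ hγ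
  apply mem_of_conjAutHom_mem_inn hcen hgN
  rw [← hrad.2]
  exact ⟨_, h2, rfl⟩

end Fusion

end Cfsg.Agent.Lib.Helper27
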