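import Mathlib
import Cfsg.Agent.Lib.Helper27.SupersolChain

set_option autoImplicit false

/-! Finite abelian `p`-groups with pairwise distinct invariants: every `p'`-group of automorphisms
is abelian of exponent dividing `p - 1`. -/

namespace Cfsg.Agent.Lib.Helper27.AbAut

universe u

/-- `x` lies in the `l`-th layer of the socle: `x^p = 1` and `x` is a `p^l`-th power. -/
def InLayer {T : Type*} [Monoid T] (p l : ℕ) (x : T) : Prop :=
  x ^ p = 1 ∧ ∃ y : T, y ^ (p ^ l) = x

/-- every socle layer quotient is cyclic -/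
def CycSoc (p : ℕ) (T : Type*) [Group T] : Prop :=
  ∀ l : ℕ, ∃ v₀ : T, InLayer p l v₀ ∧
    ∀ v : T, InLayer p l v → ∃ i : ℤ, InLayer p (l + 1) (v₀ ^ (-i) * v)

/-- every `p'`-subgroup of `Aut T` is abelian of exponent dividing `p - 1` -/
def PAut (p : ℕ) (T : Type*) [Group T] : Prop :=
  ∀ A : Subgroup (MulAut T), (Nat.card A).Coprime p →
    (∀ a ∈ A, ∀ b ∈ A, a * b = b * a) ∧ ∀ a ∈ A, a ^ (p - 1) = 1

theorem inLayer_map {T T' : Type*} [Monoid T] [Monoid T'] {p l : ℕ} (e : T →* T') {x : T}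
    (h : InLayer p l x) : InLayer p l (e x) := by
  obtain ⟨h1, y, hy⟩ := h
  refine ⟨?_, e y, ?_⟩
  · rw [← map_pow, h1, map_one]
  · rw [← map_pow, hy]

/-- the `l`-th layer as a subgroup -/
def layerSub (T : Type*) [CommGroup T] (p l : ℕ) : Subgroup T where
  carrier := {x | InLayer p l x}
  mul_mem' := by
    rintro a b ⟨ha, y, hy⟩ ⟨hb, z, hz⟩
    refine ⟨?_, y * z, ?_⟩
    · rw [mul_pow, ha, hb, one_mul]
    · rw [mul_pow, hy, hz]
  one_mem' := ⟨one_pow _, 1, one_pow _⟩
  inv_mem' := by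
    rintro a ⟨ha, y, hy⟩
    refine ⟨?_, y⁻¹, ?_⟩
    · rw [inv_pow, ha, inv_one]
    · rw [inv_pow, hy]

theorem mem_layerSub {T : Type*} [CommGroup T] {p l : ℕ} {x : T} :
    x ∈ layerSub T p l ↔ InLayer p l x := Iff.rfl

theorem two_step {T : Type*} [Group T] (c : MulAut T) {x : T}
    (hx : c (x⁻¹ * c x) = x⁻¹ * c x) (n : ℕ) : (c ^ n) x = x * (x⁻¹ * c x) ^ n := by
  induction n with
  | zero => simp
  | succ n ih =>
    rw [pow_succ', MulAut.mul_apply, ih, map_mul, map_pow, hx, pow_succ', ← mul_assoc, ← mul_assoc,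
      mul_inv_cancel, one_mul]

theorem three_step {T : Type*} [Group T] [Finite T] (c : MulAut T) (V W : Subgroup T)
    (hW : ∀ w ∈ W, c w = w) (hVW : ∀ v ∈ V, v⁻¹ * c v ∈ W) (hTV : ∀ x : T, x⁻¹ * c x ∈ V) :
    c ^ (Nat.card T * Nat.card T) = 1 := by
  have h1 : ∀ v ∈ V, (c ^ Nat.card T) v = v := by
    intro v hv
    rw [two_step c (hW _ (hVW v hv)), pow_card_eq_one', mul_one]
  have h2 : ∀ (n : ℕ) (x : T), x⁻¹ * (c ^ n) x ∈ V := by
    intro n
    induction n with
    | zero => intro x; simp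
    | succ n ih =>
      intro x
      rw [pow_succ', MulAut.mul_apply]
      have : x⁻¹ * c ((c ^ n) x) = (x⁻¹ * (c ^ n) x) * (((c ^ n) x)⁻¹ * c ((c ^ n) x)) := by group
      rw [this]
      exact V.mul_mem (ih x) (hTV _)
  rw [pow_mul]
  ext x
  rw [two_step (c ^ Nat.card T) (h1 _ (h2 _ x)), pow_card_eq_one', mul_one, MulAut.one_apply]

/-- restriction of automorphisms to a characteristic subgroup -/
def resAut {T : Type*} [Group T] (K : Subgroup T) (hK : ∀ (e : MulAut T), ∀ x ∈ K, e x ∈ K) :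
    MulAut T →* MulAut K where
  toFun e :=
    { toFun := fun x => ⟨e x, hK e x x.2⟩
      invFun := fun x => ⟨e⁻¹ x, hK e⁻¹ x x.2⟩
      left_inv := fun x => Subtype.ext (MulAut.inv_apply_self _ e x)
      right_inv := fun x => Subtype.ext (MulAut.apply_inv_self _ e x)
      map_mul' := fun x y => Subtype.ext (map_mul e _ _) }
  map_one' := by ext; rfl
  map_mul' a b := by ext; rfl

theorem resAut_apply {T : Type*} [Group T] (K : Subgroup T)
    (hK : ∀ (e : MulAut T), ∀ x ∈ K, e x ∈ K) (e : MulAut T) (x : K) :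
    ((resAut K hK e x : K) : T) = e x := rfl

theorem pAut_of_injective {p : ℕ} {T₀ T : Type*} [Group T₀] [Group T]
    (Ψ : MulAut T₀ →* MulAut T) (hΨ : Function.Injective Ψ) (h : PAut p T) : PAut p T₀ := by
  intro A hA
  have hcard : Nat.card (A.map Ψ) = Nat.card A := Subgroup.card_map_of_injective hΨ
  obtain ⟨h1, h2⟩ := h (A.map Ψ) (by rw [hcard]; exact hA)
  constructor
  · intro a ha b hb
    apply hΨ
    rw [map_mul, map_mul]
    exact h1 _ (Subgroup.mem_map_of_mem _ ha) _ (Subgroup.mem_map_of_mem _ hb)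
  · intro a ha
    apply hΨ
    rw [map_pow, map_one]
    exact h2 _ (Subgroup.mem_map_of_mem _ ha)

theorem pAut_of_mulEquiv {p : ℕ} {T T' : Type*} [Group T] [Group T'] (e : T ≃* T')
    (h : PAut p T') : PAut p T :=
  pAut_of_injective (MulAut.congr e).toMonoidHom (MulAut.congr e).injective h

section Main

variable {p : ℕ} [Fact p.Prime]

theorem inLayer_sub_iff {T : Type*} [CommGroup T] {l : ℕ} (x : (powMonoidHom p : T →* T).range) :
    InLayer p l x ↔ InLayer p (l + 1) (x : T) := by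
  constructor
  · rintro ⟨hx, y, hy⟩
    refine ⟨by simpa using congrArg Subtype.val hx, ?_⟩
    obtain ⟨z, hz⟩ := y.2
    refine ⟨z, ?_⟩
    rw [powMonoidHom_apply] at hz
    rw [pow_succ', pow_mul, hz, ← hy]
    rfl
  · rintro ⟨hx, z, hz⟩
    refine ⟨Subtype.ext (by simpa using hx), ⟨z ^ p, z, rfl⟩, Subtype.ext ?_⟩
    show (z ^ p) ^ (p ^ l) = (x : T)
    rw [← pow_mul, ← pow_succ', hz]

theorem cycSoc_sub {T : Type*} [CommGroup T] (h : CycSoc p T) :
    CycSoc p (powMonoidHom p : T →* T).range := by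
  intro l
  obtain ⟨v₀, hv₀, hgen⟩ := h (l + 1)
  have hv₀mem : v₀ ∈ (powMonoidHom p : T →* T).range := by
    obtain ⟨_, y, hy⟩ := hv₀
    refine ⟨y ^ (p ^ l), ?_⟩
    rw [powMonoidHom_apply, ← pow_mul, ← pow_succ, hy]
  refine ⟨⟨v₀, hv₀mem⟩, (inLayer_sub_iff _).mpr hv₀, ?_⟩
  intro v hv
  obtain ⟨i, hi⟩ := hgen v ((inLayer_sub_iff v).mp hv)
  exact ⟨i, (inLayer_sub_iff _).mpr hi⟩

theorem key_trivial {T : Type*} [CommGroup T] [Finite T] (hT : IsPGroup p T)
    (A : Subgroup (MulAut T)) (hA : (Nat.card A).Coprime p) (c : MulAut T) (hc : c ∈ A)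
    (h1 : ∀ x ∈ (powMonoidHom p : T →* T).range, c x = x)
    (h2 : ∀ v ∈ layerSub T p 0, v⁻¹ * c v ∈ layerSub T p 1) : c = 1 := by
  have h3 := three_step c (layerSub T p 0) (layerSub T p 1) ?_ h2 ?_
  · have h4 : c ^ Nat.card A = 1 := by
      have := pow_card_eq_one' (G := A) (x := ⟨c, hc⟩)
      exact congrArg Subtype.val this
    obtain ⟨k, hk⟩ := IsPGroup.iff_card.mp hT
    have hcop : (Nat.card T * Nat.card T).Coprime (Nat.card A) := by
      rw [hk]
      have : (p ^ k).Coprime (Nat.card A) := (Nat.Coprime.pow_right k hA).symm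
      exact Nat.Coprime.mul_left this this
    have h5 := pow_gcd_eq_one.mpr ⟨h3, h4⟩
    rw [hcop, pow_one] at h5
    exact h5
  · rintro w ⟨_, y, hy⟩
    apply h1
    refine ⟨y, ?_⟩
    rw [powMonoidHom_apply, ← hy, pow_one]
  · intro x
    refine ⟨?_, _, pow_one _⟩
    rw [mul_pow, inv_pow, ← map_pow, h1 (x ^ p) ⟨x, rfl⟩]
    exact inv_mul_cancel _

theorem pAut_of_cycSoc_aux : ∀ (n : ℕ) (T : Type u) [CommGroup T] [Finite T], Nat.card T = n →
    IsPGroup p T → CycSoc p T → PAut p T := by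
  have hp : p.Prime := Fact.out
  intro n
  induction n using Nat.strong_induction_on with
  | _ n ih =>
  intro T _ _ hcard hT hcyc A hA
  by_cases htriv : Subsingleton T
  · have h1 : ∀ e : MulAut T, e = 1 := fun e => by ext x; exact Subsingleton.elim _ _
    exact ⟨fun a _ b _ => by rw [h1 a, h1 b], fun a _ => by rw [h1 a, one_pow]⟩
  have hnt : Nontrivial T := not_subsingleton_iff_nontrivial.mp htriv
  -- T₁ = p-th powers
  have hlt : Nat.card (powMonoidHom p : T →* T).range < n := by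
    rw [← hcard]
    apply lt_of_le_of_ne (Subgroup.card_le_card_group _)
    intro heq
    have htop := Subgroup.eq_top_of_card_eq _ heq
    have hsurj : Function.Surjective (powMonoidHom p : T →* T) := MonoidHom.range_eq_top.mp htop
    have hinj : Function.Injective (powMonoidHom p : T →* T) :=
      Finite.injective_iff_surjective.mpr hsurj
    have hdvd : p ∣ Nat.card T := by
      rcases hT.card_eq_or_dvd with h | h
      · exact absurd (Nat.card_eq_one_iff_unique.mp h).1 htriv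
      · exact h
    obtain ⟨x, hx⟩ := exists_prime_orderOf_dvd_card' p hdvd
    have hx1 : (powMonoidHom p : T →* T) x = (powMonoidHom p : T →* T) 1 := by
      rw [powMonoidHom_apply, powMonoidHom_apply, one_pow, ← hx, pow_orderOf_eq_one]
    have := hinj hx1
    rw [this, orderOf_one] at hx
    exact hp.one_lt.ne hx
  have hP1 : PAut p (powMonoidHom p : T →* T).range :=
    ih _ hlt _ rfl (hT.to_subgroup _) (cycSoc_sub hcyc)
  have hK : ∀ (e : MulAut T), ∀ x ∈ (powMonoidHom p : T →* T).range,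
      e x ∈ (powMonoidHom p : T →* T).range := by
    rintro e _ ⟨y, rfl⟩
    exact ⟨e y, by rw [powMonoidHom_apply, powMonoidHom_apply, map_pow]⟩
  obtain ⟨hc1, he1⟩ := hP1 (A.map (resAut _ hK)) (Nat.Coprime.coprime_dvd_left
    (Subgroup.card_map_dvd _ _) hA)
  obtain ⟨v₀, hv₀, hgen⟩ := hcyc 0
  have hinv : ∀ (e : MulAut T) (l : ℕ), ∀ v ∈ layerSub T p l, e v ∈ layerSub T p l :=
    fun e l v hv => inLayer_map (e : T ≃* T).toMonoidHom hv
  have hA0 : 0 < Nat.card A := Nat.pos_of_ne_zero (by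
    intro h0; rw [h0] at hA; exact hp.one_lt.ne' (by simpa using hA))
  constructor
  · intro a ha b hb
    have hcA : (b * a)⁻¹ * (a * b) ∈ A := A.mul_mem (A.inv_mem (A.mul_mem hb ha)) (A.mul_mem ha hb)
    have key := key_trivial hT A hA _ hcA ?_ ?_
    · exact (inv_mul_eq_one.mp key).symm
    · intro x hx
      have h1 : resAut _ hK ((b * a)⁻¹ * (a * b)) = 1 := by
        rw [map_mul, map_inv, map_mul, map_mul, inv_mul_eq_one]
        exact hc1 _ (Subgroup.mem_map_of_mem _ hb) _ (Subgroup.mem_map_of_mem _ ha)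
      have h2 := congrArg (fun e => ((e ⟨x, hx⟩ : (powMonoidHom p : T →* T).range) : T)) h1
      exact h2
    · intro v hv
      have h1 := comm_mod_of_cyclic_section (V := layerSub T p 0) (W := layerSub T p 1) hv₀ hgen
        (a : T ≃* T) (b : T ≃* T) (hinv a 0) (hinv a 1) (hinv b 0) (hinv b 1) v hv
      have h2 := hinv (b * a)⁻¹ 1 _ h1
      have h3 : (b * a)⁻¹ ((b (a v))⁻¹ * a (b v)) = v⁻¹ * ((b * a)⁻¹ * (a * b)) v := by
        rw [map_mul, map_inv]
        congr 1
        rw [inv_inj]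
        exact MulAut.inv_apply_self _ (b * a) v
      rw [h3] at h2
      exact h2
  · intro a ha
    have hcA : a ^ (p - 1) ∈ A := A.pow_mem ha _
    have han : a ^ Nat.card A = 1 := by
      have := pow_card_eq_one' (G := A) (x := ⟨a, ha⟩)
      exact congrArg Subtype.val this
    apply key_trivial hT A hA _ hcA
    · intro x hx
      have h1 : resAut _ hK (a ^ (p - 1)) = 1 := by
        rw [map_pow]
        exact he1 _ (Subgroup.mem_map_of_mem _ ha)
      have h2 := congrArg (fun e => ((e ⟨x, hx⟩ : (powMonoidHom p : T →* T).range) : T)) h1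
      exact h2
    · intro v hv
      exact pow_mod_of_cyclic_section (V := layerSub T p 0) (W := layerSub T p 1) hT hv₀ hgen
        a (hinv a 0) (hinv a 1) hA0 hA han v hv

theorem pAut_of_cycSoc (T : Type u) [CommGroup T] [Finite T] (hT : IsPGroup p T)
    (hcyc : CycSoc p T) : PAut p T :=
  pAut_of_cycSoc_aux _ T rfl hT hcyc

end Main

end Cfsg.Agent.Lib.Helper27.AbAut
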