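import Mathlib
import Cfsg.Agent.Lib.Helper27.AbAutCyc

set_option autoImplicit false

/-! A homocyclic factor `C × C` gives `p'`-groups of automorphisms that are not abelian of exponent
dividing `p - 1`. -/

namespace Cfsg.Agent.Lib.Helper27.AbAut

section Gen

theorem isPGroup_zpowers {G : Type*} [Group G] {p k : ℕ} (g : G) (hg : g ^ (p ^ k) = 1) :
    IsPGroup p (Subgroup.zpowers g) := by
  rintro ⟨y, hy⟩
  refine ⟨k, ?_⟩
  obtain ⟨i, rfl⟩ := Subgroup.mem_zpowers_iff.mp hy
  apply Subtype.ext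
  show (g ^ i) ^ (p ^ k) = 1
  rw [← zpow_natCast, ← zpow_mul, mul_comm, zpow_mul, zpow_natCast, hg, one_zpow]

theorem zpowers_le_normalizer_zpowers {G : Type*} [Group G] (t r : G) (h : t * r * t⁻¹ = r⁻¹) :
    Subgroup.zpowers t ≤ Subgroup.normalizer (Subgroup.zpowers r : Set G) := by
  rw [Subgroup.zpowers_le, Subgroup.mem_normalizer_iff]
  have h' : t⁻¹ * r * t = r⁻¹ := by
    have e1 : t⁻¹ * (t * r * t⁻¹)⁻¹ * t = r⁻¹ := by group
    rw [h, inv_inv] at e1
    exact e1
  intro x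
  constructor
  · intro hx
    obtain ⟨j, rfl⟩ := Subgroup.mem_zpowers_iff.mp hx
    rw [← conj_zpow, h]
    exact Subgroup.zpow_mem _ (Subgroup.inv_mem _ (Subgroup.mem_zpowers r)) j
  · intro hx
    obtain ⟨j, hj⟩ := Subgroup.mem_zpowers_iff.mp hx
    have hx2 : x = t⁻¹ * r ^ j * t := by rw [hj]; group
    have h3 : t⁻¹ * r ^ j * t = (t⁻¹ * r * t) ^ j := by
      have := conj_zpow (a := t⁻¹) (b := r) (i := j)
      rw [inv_inv] at this
      exact this.symm
    rw [hx2, h3, h']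
    exact Subgroup.zpow_mem _ (Subgroup.inv_mem _ (Subgroup.mem_zpowers r)) j

/-- automorphisms of the left factor extend to the product -/
def prodLeftAut (T₀ H : Type*) [Group T₀] [Group H] : MulAut T₀ →* MulAut (T₀ × H) where
  toFun a := MulEquiv.prodCongr a (MulEquiv.refl H)
  map_one' := by ext <;> rfl
  map_mul' a b := by ext <;> rfl

theorem prodLeftAut_injective (T₀ H : Type*) [Group T₀] [Group H] :
    Function.Injective (prodLeftAut T₀ H) := by
  intro a b hab
  ext x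
  exact congrArg (fun e => (e (x, (1 : H))).1) hab

end Gen

section CC

variable (C : Type*) [CommGroup C]

/-- `(x, y) ↦ (y⁻¹, x y⁻¹)`, of order `3` -/
def omegaAut : MulAut (C × C) :=
  { toFun := fun z => (z.2⁻¹, z.1 * z.2⁻¹)
    invFun := fun z => (z.1⁻¹ * z.2, z.1⁻¹)
    left_inv := fun z => by ext <;> simp
    right_inv := fun z => by ext <;> simp
    map_mul' := fun a b => by
      ext
      · simp [mul_comm]
      · simp [mul_comm, mul_left_comm, mul_assoc] }

/-- `(x, y) ↦ (y, x⁻¹)`, of order `4` -/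
def rhoAut : MulAut (C × C) :=
  { toFun := fun z => (z.2, z.1⁻¹)
    invFun := fun z => (z.2⁻¹, z.1)
    left_inv := fun z => by ext <;> simp
    right_inv := fun z => by ext <;> simp
    map_mul' := fun a b => by
      ext
      · simp
      · simp [mul_comm] }

/-- `(x, y) ↦ (x⁻¹, y)`, of order `2` -/
def tauAut : MulAut (C × C) :=
  { toFun := fun z => (z.1⁻¹, z.2)
    invFun := fun z => (z.1⁻¹, z.2)
    left_inv := fun z => by ext <;> simp
    right_inv := fun z => by ext <;> simp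
    map_mul' := fun a b => by
      ext
      · simp [mul_comm]
      · simp }

theorem omegaAut_apply (z : C × C) : omegaAut C z = (z.2⁻¹, z.1 * z.2⁻¹) := rfl
theorem rhoAut_apply (z : C × C) : rhoAut C z = (z.2, z.1⁻¹) := rfl
theorem tauAut_apply (z : C × C) : tauAut C z = (z.1⁻¹, z.2) := rfl

theorem omegaAut_pow : omegaAut C ^ 3 = 1 := by
  have h : omegaAut C ^ 3 = omegaAut C * omegaAut C * omegaAut C := by rw [pow_succ, pow_two]
  rw [h]
  ext z <;> simp [MulAut.mul_apply, omegaAut_apply]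

theorem rhoAut_pow : rhoAut C ^ (2 ^ 2) = 1 := by
  have h : rhoAut C ^ (2 ^ 2) = rhoAut C * rhoAut C * rhoAut C * rhoAut C := by
    rw [show (2 : ℕ) ^ 2 = 4 from rfl, pow_succ, pow_succ, pow_two]
  rw [h]
  ext z <;> simp [MulAut.mul_apply, rhoAut_apply]

theorem tauAut_pow : tauAut C ^ (2 ^ 1) = 1 := by
  have h : tauAut C ^ (2 ^ 1) = tauAut C * tauAut C := by
    rw [pow_one, pow_two]
  rw [h]
  ext z <;> simp [MulAut.mul_apply, tauAut_apply]

theorem tau_rho : tauAut C * rhoAut C * (tauAut C)⁻¹ = (rhoAut C)⁻¹ := by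
  have h1 : (tauAut C)⁻¹ = tauAut C := by
    rw [inv_eq_iff_mul_eq_one]
    have := tauAut_pow C
    rwa [pow_one, pow_two] at this
  rw [h1, eq_inv_iff_mul_eq_one]
  ext z
  · show ((tauAut C) ((rhoAut C) ((tauAut C) ((rhoAut C) z)))).1 = z.1
    simp [rhoAut_apply, tauAut_apply]
  · show ((tauAut C) ((rhoAut C) ((tauAut C) ((rhoAut C) z)))).2 = z.2
    simp [rhoAut_apply, tauAut_apply]

theorem finite_mulAut' (T : Type*) [Group T] [Finite T] : Finite (MulAut T) :=
  Finite.of_injective (fun e : MulAut T => (e : T → T)) DFunLike.coe_injective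

theorem not_pAut_two (hC : ∃ g : C, g ≠ 1) : ¬ PAut 2 (C × C) := by
  intro h
  obtain ⟨g, hg⟩ := hC
  have hcard : (Nat.card (Subgroup.zpowers (omegaAut C))).Coprime 2 := by
    rw [Nat.card_zpowers]
    have h3 : orderOf (omegaAut C) ∣ 3 := orderOf_dvd_of_pow_eq_one (omegaAut_pow C)
    exact Nat.Coprime.coprime_dvd_left h3 (by norm_num)
  have h1 := (h _ hcard).2 _ (Subgroup.mem_zpowers (omegaAut C))
  have h2 : omegaAut C = 1 := by simpa using h1
  have h3 := congrArg (fun e : MulAut (C × C) => (e (g, 1)).1) h2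
  simp only [omegaAut_apply, MulAut.one_apply, inv_one] at h3
  exact hg h3.symm

theorem not_pAut_odd [Finite C] (p : ℕ) [Fact p.Prime] (hp2 : p ≠ 2) (hC : ∃ g : C, g ≠ g⁻¹) :
    ¬ PAut p (C × C) := by
  have hp : p.Prime := Fact.out
  intro h
  obtain ⟨g, hg⟩ := hC
  haveI : Fact (Nat.Prime 2) := ⟨Nat.prime_two⟩
  have hP : IsPGroup 2 ↥(Subgroup.zpowers (tauAut C) ⊔ Subgroup.zpowers (rhoAut C)) :=
    IsPGroup.to_sup_of_normal_right' (isPGroup_zpowers _ (tauAut_pow C))
      (isPGroup_zpowers _ (rhoAut_pow C)) (zpowers_le_normalizer_zpowers _ _ (tau_rho C))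
  haveI : Finite (MulAut (C × C)) := finite_mulAut' _
  obtain ⟨k, hk⟩ := IsPGroup.iff_card.mp hP
  have hcard : (Nat.card ↥(Subgroup.zpowers (tauAut C) ⊔ Subgroup.zpowers (rhoAut C))).Coprime p := by
    rw [hk]
    exact Nat.Coprime.pow_left k ((Nat.coprime_primes Nat.prime_two hp).mpr (Ne.symm hp2))
  have h1 := (h _ hcard).1 _ (Subgroup.mem_sup_right (Subgroup.mem_zpowers (rhoAut C)))
    _ (Subgroup.mem_sup_left (Subgroup.mem_zpowers (tauAut C)))
  have h3 := congrArg (fun e : MulAut (C × C) => (e (g, 1)).2) h1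
  simp only [MulAut.mul_apply, rhoAut_apply, tauAut_apply, inv_inv] at h3
  exact hg h3

end CC

section Final

theorem not_pAut_of_square (p : ℕ) [Fact p.Prime] (n : ℕ) (hn : 0 < n) (H : Type*) [CommGroup H]
    {T : Type*} [Group T]
    (e : T ≃* (Multiplicative (ZMod (p ^ n)) × Multiplicative (ZMod (p ^ n))) × H) :
    ¬ PAut p T := by
  have hp : p.Prime := Fact.out
  intro hT
  have h1 : PAut p ((Multiplicative (ZMod (p ^ n)) × Multiplicative (ZMod (p ^ n))) × H) :=
    pAut_of_mulEquiv e.symm hT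
  have h2 : PAut p (Multiplicative (ZMod (p ^ n)) × Multiplicative (ZMod (p ^ n))) :=
    pAut_of_injective (prodLeftAut _ H) (prodLeftAut_injective _ H) h1
  haveI : NeZero (p ^ n) := ⟨pow_ne_zero _ hp.ne_zero⟩
  haveI : Fact (1 < p ^ n) := ⟨Nat.one_lt_pow hn.ne' hp.one_lt⟩
  by_cases hp2 : p = 2
  · subst hp2
    refine not_pAut_two _ ⟨Multiplicative.ofAdd 1, ?_⟩ h2
    rw [Ne, ofAdd_eq_one]
    exact one_ne_zero
  · refine not_pAut_odd _ p hp2 ⟨Multiplicative.ofAdd 1, ?_⟩ h2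
    intro h3
    rw [← ofAdd_neg] at h3
    have h4 : (1 : ZMod (p ^ n)) = -1 := Multiplicative.ofAdd.injective h3
    have h5 : ((2 : ℕ) : ZMod (p ^ n)) = 0 := by
      push_cast
      have : (1 : ZMod (p ^ n)) + 1 = 0 := by nth_rewrite 2 [h4]; exact add_neg_cancel _
      rw [← this]; norm_num
    rw [ZMod.natCast_eq_zero_iff] at h5
    have h6 : p ∣ 2 := dvd_trans (dvd_pow_self p hn.ne') h5
    exact hp2 ((Nat.prime_dvd_prime_iff_eq hp Nat.prime_two).mp h6)

end Final

end Cfsg.Agent.Lib.Helper27.AbAut
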