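import Mathlib
import Cfsg.Agent.Lib.Helper27.AbAutCyc

set_option autoImplicit false

/-! Finite abelian `p`-groups without a homocyclic factor `C × C` have cyclic socle layers. -/

namespace Cfsg.Agent.Lib.Helper27.AbAut

section Cyclic

variable {C : Type*} [Group C] {p : ℕ} (g : C)

theorem cyc_dvd [Fact p.Prime] {m' : ℕ} (hord : orderOf g = p ^ (m' + 1)) {a : ℤ}
    (h : (g ^ a) ^ p = 1) : ∃ b : ℤ, a = (p : ℤ) ^ m' * b := by
  have hp : p.Prime := Fact.out
  have h1 : g ^ (a * (p : ℤ)) = 1 := by rw [zpow_mul, zpow_natCast]; exact h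
  have h2 : ((orderOf g : ℕ) : ℤ) ∣ a * (p : ℤ) := orderOf_dvd_iff_zpow_eq_one.mpr h1
  rw [hord] at h2
  push_cast at h2
  rw [pow_succ] at h2
  have hp0 : (p : ℤ) ≠ 0 := by exact_mod_cast hp.ne_zero
  obtain ⟨b, hb⟩ := (mul_dvd_mul_iff_right hp0).mp h2
  exact ⟨b, hb⟩

theorem cyc_pow_eq_one {m l : ℕ} (hord : orderOf g = p ^ m) (hml : m ≤ l)
    (hg : ∀ x : C, ∃ a : ℤ, x = g ^ a) (y : C) : y ^ (p ^ l) = 1 := by
  obtain ⟨a, rfl⟩ := hg y
  have h1 : g ^ (p ^ l) = 1 := by
    apply orderOf_dvd_iff_pow_eq_one.mp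
    rw [hord]
    exact pow_dvd_pow p hml
  rw [← zpow_natCast, ← zpow_mul, mul_comm, zpow_mul, zpow_natCast, h1, one_zpow]

theorem cyc_layer [Fact p.Prime] {m l : ℕ} (hord : orderOf g = p ^ m)
    (hg : ∀ x : C, ∃ a : ℤ, x = g ^ a) (hml : m ≠ l + 1) (x : C) (hx : InLayer p l x) :
    ∃ y' : C, y' ^ (p ^ (l + 1)) = x := by
  obtain ⟨hx1, y, hy⟩ := hx
  rcases lt_or_gt_of_ne hml with h | h
  · refine ⟨1, ?_⟩
    rw [one_pow, ← hy]
    exact (cyc_pow_eq_one g hord (Nat.lt_succ_iff.mp h) hg y).symm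
  · obtain ⟨m', rfl⟩ : ∃ m', m = m' + 1 := ⟨m - 1, by omega⟩
    obtain ⟨a, rfl⟩ := hg x
    obtain ⟨b, rfl⟩ := cyc_dvd g hord hx1
    refine ⟨g ^ ((p : ℤ) ^ (m' - (l + 1)) * b), ?_⟩
    rw [← zpow_natCast, ← zpow_mul]
    congr 1
    have h3 : m' = (m' - (l + 1)) + (l + 1) := by omega
    conv_rhs => rw [h3, pow_add]
    push_cast
    ring

theorem cyc_soc [Fact p.Prime] {l : ℕ} (hord : orderOf g = p ^ (l + 1))
    (hg : ∀ x : C, ∃ a : ℤ, x = g ^ a) (x : C) (hx : x ^ p = 1) :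
    ∃ k : ℤ, x = (g ^ (p ^ l)) ^ k := by
  obtain ⟨a, rfl⟩ := hg x
  obtain ⟨b, rfl⟩ := cyc_dvd g hord hx
  refine ⟨b, ?_⟩
  rw [← zpow_natCast, ← zpow_mul]
  push_cast
  rfl

end Cyclic

section PiSec

theorem cycSoc_pi {ι : Type*} (C : ι → Type*) [∀ i, CommGroup (C i)] (p : ℕ) [Fact p.Prime]
    (g : ∀ i, C i) (hg : ∀ i (x : C i), ∃ a : ℤ, x = g i ^ a) (f : ι → ℕ)
    (hord : ∀ i, orderOf (g i) = p ^ f i) (hf : Function.Injective f) :
    CycSoc p (∀ i, C i) := by
  classical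
  intro l
  by_cases h : ∃ i₀, f i₀ = l + 1
  · obtain ⟨i₀, hi₀⟩ := h
    have hc₀ : (g i₀ ^ (p ^ l)) ^ p = 1 := by
      rw [← pow_mul, ← pow_succ, ← hi₀, ← hord, pow_orderOf_eq_one]
    have hv₀ : (Pi.mulSingle i₀ (g i₀ ^ (p ^ l)) : ∀ i, C i) ^ p = 1 := by
      rw [← Pi.mulSingle_pow, hc₀, Pi.mulSingle_one]
    refine ⟨Pi.mulSingle i₀ (g i₀ ^ (p ^ l)), ⟨hv₀, Pi.mulSingle i₀ (g i₀), ?_⟩, ?_⟩
    · rw [← Pi.mulSingle_pow]
    · rintro v ⟨hv, y, hy⟩
      have hvi : ∀ i, (v i) ^ p = 1 := fun i => by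
        have := congrFun hv i
        simpa using this
      obtain ⟨k, hk⟩ := cyc_soc (g i₀) (by rw [hord, hi₀]) (hg i₀) (v i₀) (hvi i₀)
      refine ⟨k, ?_, ?_⟩
      · rw [mul_pow, hv, mul_one, ← zpow_natCast, ← zpow_mul, mul_comm, zpow_mul, zpow_natCast, hv₀,
          one_zpow]
      · have hall : ∀ i, ∃ yi : C i, yi ^ (p ^ (l + 1)) =
            ((Pi.mulSingle i₀ (g i₀ ^ (p ^ l)) : ∀ i, C i) ^ (-k) * v) i := by
          intro i
          by_cases hi : i = i₀
          · subst hi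
            refine ⟨1, ?_⟩
            rw [one_pow, Pi.mul_apply, Pi.pow_apply, Pi.mulSingle_eq_same, hk, zpow_neg,
              inv_mul_cancel]
          · have hfi : f i ≠ l + 1 := fun h => hi (hf (h.trans hi₀.symm))
            have h1 : ((Pi.mulSingle i₀ (g i₀ ^ (p ^ l)) : ∀ i, C i) ^ (-k) * v) i = v i := by
              rw [Pi.mul_apply, Pi.pow_apply, Pi.mulSingle_eq_of_ne hi, one_zpow, one_mul]
            rw [h1]
            exact cyc_layer (g i) (hord i) (hg i) hfi (v i) ⟨hvi i, y i, by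
              have := congrFun hy i
              simpa using this⟩
        choose y' hy' using hall
        exact ⟨y', funext (fun i => by rw [Pi.pow_apply]; exact hy' i)⟩
  · push Not at h
    refine ⟨1, ⟨one_pow _, 1, one_pow _⟩, ?_⟩
    rintro v ⟨hv, y, hy⟩
    refine ⟨0, ?_⟩
    rw [neg_zero, zpow_zero, one_mul]
    refine ⟨hv, ?_⟩
    have hall : ∀ i, ∃ yi : C i, yi ^ (p ^ (l + 1)) = v i := by
      intro i
      exact cyc_layer (g i) (hord i) (hg i) (h i) (v i) ⟨by
        have := congrFun hv i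
        simpa using this, y i, by
        have := congrFun hy i
        simpa using this⟩
    choose y' hy' using hall
    exact ⟨y', funext (fun i => by rw [Pi.pow_apply]; exact hy' i)⟩

theorem pi_split {ι : Type*} [DecidableEq ι] (C : ι → Type*) [∀ i, CommGroup (C i)] (i j : ι)
    (hij : i ≠ j) (D : Type*) [CommGroup D] (ei : C i ≃* D) (ej : C j ≃* D) :
    Nonempty ((∀ k, C k) ≃* (D × D) × (∀ k : {k // k ≠ i ∧ k ≠ j}, C k.1)) := by
  let φ : (∀ k, C k) →* (D × D) × (∀ k : {k // k ≠ i ∧ k ≠ j}, C k.1) :=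
    { toFun := fun x => ((ei (x i), ej (x j)), fun k => x k.1)
      map_one' := by
        refine Prod.ext (Prod.ext ?_ ?_) ?_
        · exact map_one ei
        · exact map_one ej
        · rfl
      map_mul' := fun x y => by
        refine Prod.ext (Prod.ext ?_ ?_) ?_
        · exact map_mul ei _ _
        · exact map_mul ej _ _
        · rfl }
  refine ⟨MulEquiv.ofBijective φ ⟨?_, ?_⟩⟩
  · intro x y hxy
    funext k
    by_cases hki : k = i
    · subst hki
      exact ei.injective (congrArg (fun z => z.1.1) hxy)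
    by_cases hkj : k = j
    · subst hkj
      exact ej.injective (congrArg (fun z => z.1.2) hxy)
    · exact congrFun (congrArg (fun z => z.2) hxy) ⟨k, hki, hkj⟩
  · rintro ⟨⟨a, b⟩, h⟩
    refine ⟨Function.update (Function.update
      (fun k => if hk : k ≠ i ∧ k ≠ j then h ⟨k, hk⟩ else 1) i (ei.symm a)) j (ej.symm b), ?_⟩
    refine Prod.ext (Prod.ext ?_ ?_) ?_
    · show ei (Function.update (Function.update _ i (ei.symm a)) j (ej.symm b) i) = a
      rw [Function.update_of_ne hij, Function.update_self, MulEquiv.apply_symm_apply]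
    · show ej (Function.update (Function.update _ i (ei.symm a)) j (ej.symm b) j) = b
      rw [Function.update_self, MulEquiv.apply_symm_apply]
    · funext k
      show Function.update (Function.update _ i (ei.symm a)) j (ej.symm b) k.1 = h k
      rw [Function.update_of_ne k.2.2, Function.update_of_ne k.2.1, dif_pos k.2]

end PiSec

section Struct

theorem exists_cast_equiv (p a b : ℕ) (h : a = b) :
    Nonempty (Multiplicative (ZMod (p ^ a)) ≃* Multiplicative (ZMod (p ^ b))) := by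
  subst h
  exact ⟨MulEquiv.refl _⟩

theorem zmod_gen (N : ℕ) (x : Multiplicative (ZMod N)) :
    ∃ a : ℤ, x = (Multiplicative.ofAdd (1 : ZMod N)) ^ a := by
  refine ⟨(ZMod.cast (Multiplicative.toAdd x) : ℤ), ?_⟩
  rw [← ofAdd_zsmul, zsmul_one, ZMod.intCast_zmod_cast]
  rfl

theorem zmod_order (N : ℕ) : orderOf (Multiplicative.ofAdd (1 : ZMod N)) = N := by
  rw [orderOf_ofAdd_eq_addOrderOf, ZMod.addOrderOf_one]

theorem pAut_of_no_square {S : Type*} [Group S] [Finite S] (hcomm : ∀ a b : S, a * b = b * a)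
    (p : ℕ) [Fact p.Prime] (hS : IsPGroup p S)
    (hno : ¬ ∃ (n : ℕ) (H : Type) (_ : CommGroup H), 0 < n ∧
      Nonempty (S ≃* (Multiplicative (ZMod (p ^ n)) × Multiplicative (ZMod (p ^ n))) × H)) :
    PAut p S := by
  classical
  have hp : p.Prime := Fact.out
  obtain ⟨ι, hι, n, hn, ⟨e⟩⟩ : ∃ (ι : Type) (_ : Fintype ι) (n : ι → ℕ),
       (∀ (i : ι), 1 < n i) ∧ Nonempty (S ≃* ((i : ι) → Multiplicative (ZMod (n i)))) := by
    letI : CommGroup S := { ‹Group S› with mul_comm := hcomm }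
    exact CommGroup.equiv_prod_multiplicative_zmod_of_finite S
  haveI := hι
  obtain ⟨k, hk⟩ := IsPGroup.iff_card.mp hS
  have hdvd : ∀ i, ∃ m, n i = p ^ m := by
    intro i
    have h1 : Nat.card (Multiplicative (ZMod (n i))) ∣ Nat.card ((i : ι) → Multiplicative (ZMod (n i))) :=
      Subgroup.card_dvd_of_injective (MonoidHom.mulSingle (fun i => Multiplicative (ZMod (n i))) i)
        (Pi.mulSingle_injective (M := fun i => Multiplicative (ZMod (n i))) i)
    rw [← Nat.card_congr e.toEquiv, hk, Nat.card_congr Multiplicative.toAdd, Nat.card_zmod] at h1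
    obtain ⟨m, _, hm⟩ := (Nat.dvd_prime_pow hp).mp h1
    exact ⟨m, hm⟩
  choose f hf using hdvd
  have hn' : n = fun i => p ^ f i := funext hf
  subst hn'
  have hf0 : ∀ i, 0 < f i := by
    intro i
    rcases Nat.eq_zero_or_pos (f i) with h | h
    · have := hn i
      simp only [h, pow_zero, lt_self_iff_false] at this
    · exact h
  have hinj : Function.Injective f := by
    intro i j hfij
    by_contra hij
    obtain ⟨ej⟩ := exists_cast_equiv p (f j) (f i) hfij.symm
    obtain ⟨e2⟩ := pi_split (fun i => Multiplicative (ZMod (p ^ f i))) i j hij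
      (Multiplicative (ZMod (p ^ f i))) (MulEquiv.refl _) ej
    exact hno ⟨f i, _, inferInstance, hf0 i, ⟨e.trans e2⟩⟩
  have hcyc : CycSoc p ((i : ι) → Multiplicative (ZMod (p ^ f i))) :=
    cycSoc_pi (fun i => Multiplicative (ZMod (p ^ f i))) p (fun i => Multiplicative.ofAdd 1)
      (fun i x => zmod_gen _ x) f (fun i => zmod_order _) hinj
  haveI : ∀ i, NeZero (p ^ f i) := fun i => ⟨pow_ne_zero _ hp.ne_zero⟩
  haveI : Finite ((i : ι) → Multiplicative (ZMod (p ^ f i))) := Finite.of_equiv S e.toEquiv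
  exact pAut_of_mulEquiv e (pAut_of_cycSoc _ (hS.of_equiv e) hcyc)

end Struct

end Cfsg.Agent.Lib.Helper27.AbAut
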