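import Mathlib
import Cfsg.Prelude.Def_FusionSystem
import Cfsg.Agent.Lib.Helper27.FusionTopNormal
import Cfsg.Agent.Lib.Helper27.AbAutNeg
import Cfsg.Agent.Lib.Helper27.AbStruct

set_option autoImplicit false

/-! Abelian `S`: resistance, and the automorphism criterion. -/

namespace Cfsg.Agent.Lib.Helper27.AbAut

open Cfsg Cfsg.FusionSystem Cfsg.Agent.Lib.Helper27

variable {Ω : Type*} [Group Ω] {S : Subgroup Ω}

theorem abelian_resistant [Finite S] {p : ℕ} [Fact p.Prime] (hS : IsPGroup p ↥S)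
    (hcomm : ∀ s ∈ S, ∀ t ∈ S, s * t = t * s) {F : FusionSystem S} (hF : F.IsSaturated p) :
    F.IsNormal S := by
  apply isNormal_top_of_no_proper_frc hS hF
  intro R hR _ hc _
  have h1 := hc.2 R (isConj_refl F hc.1)
  apply hR.ne
  apply le_antisymm hR.le
  intro s hs
  apply h1
  rw [mem_centralizerIn_iff]
  exact ⟨hs, fun x hx => hcomm x (hR.le hx) s hs⟩

theorem pAut_iff (p : ℕ) (T : Type*) [Group T] :
    PAut p T ↔ ∀ H : Subgroup (MulAut T), (Nat.card ↥H).Coprime p →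
      IsMulCommutative ↥H ∧ ∀ h ∈ H, h ^ (p - 1) = 1 := by
  constructor
  · intro h H hH
    obtain ⟨h1, h2⟩ := h H hH
    exact ⟨⟨⟨fun a b => Subtype.ext (h1 a.1 a.2 b.1 b.2)⟩⟩, h2⟩
  · intro h A hA
    obtain ⟨h1, h2⟩ := h A hA
    refine ⟨fun a ha b hb => ?_, h2⟩
    exact congrArg Subtype.val (h1.is_comm.comm ⟨a, ha⟩ ⟨b, hb⟩)

end Cfsg.Agent.Lib.Helper27.AbAut
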