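import Mathlib

/-!
# Abelian `p`-groups with `|Ω₁| ≤ p²`: characteristic chains or homocyclic

For a group `X` with a commutativity hypothesis `hc`, we define the power endomorphisms, the
subgroups `pw` (image of the `n`-th power map), `om` (kernel of the `n`-th power map) and prove:
a characteristic subgroup `A` with `|Ω₁(A)| ≤ p²` either has order `p^(2k)` and exponent
dividing `p^k`, or admits a chain of characteristic subgroups with steps of order `p`.
-/

set_option autoImplicit false

namespace Cfsg.Agent.Lib.Helper27.ATG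

variable {X : Type*} [Group X]

/-- the `n`-th power map of a commutative group -/
def powHom (hc : ∀ x y : X, x * y = y * x) (n : ℕ) : X →* X where
  toFun x := x ^ n
  map_one' := one_pow n
  map_mul' x y := Commute.mul_pow (hc x y) n

theorem powHom_apply (hc : ∀ x y : X, x * y = y * x) (n : ℕ) (x : X) : powHom hc n x = x ^ n := rfl

/-- the image of `A` under the `n`-th power map -/
def pw (hc : ∀ x y : X, x * y = y * x) (n : ℕ) (A : Subgroup X) : Subgroup X := A.map (powHom hc n)

/-- the elements of `A` of order dividing `n` -/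
def om (hc : ∀ x y : X, x * y = y * x) (n : ℕ) (A : Subgroup X) : Subgroup X :=
  A ⊓ (powHom hc n).ker

/-- the elements of `A` whose `n`-th power lies in `M` -/
def lft (hc : ∀ x y : X, x * y = y * x) (n : ℕ) (A M : Subgroup X) : Subgroup X :=
  A ⊓ M.comap (powHom hc n)

section basic

variable (hc : ∀ x y : X, x * y = y * x) {n : ℕ} {A B M : Subgroup X} {x : X}

theorem mem_pw : x ∈ pw hc n A ↔ ∃ y ∈ A, y ^ n = x := by
  unfold pw; rw [Subgroup.mem_map]; rfl

theorem mem_om : x ∈ om hc n A ↔ x ∈ A ∧ x ^ n = 1 := by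
  unfold om; rw [Subgroup.mem_inf, MonoidHom.mem_ker]; rfl

theorem mem_lft : x ∈ lft hc n A M ↔ x ∈ A ∧ x ^ n ∈ M := by
  unfold lft; rw [Subgroup.mem_inf, Subgroup.mem_comap]; rfl

theorem pw_le : pw hc n A ≤ A := by
  intro x hx
  obtain ⟨y, hy, rfl⟩ := (mem_pw hc).mp hx
  exact A.pow_mem hy n

theorem om_le : om hc n A ≤ A := fun x hx => ((mem_om hc).mp hx).1

theorem lft_le : lft hc n A M ≤ A := fun x hx => ((mem_lft hc).mp hx).1

theorem om_mono (h : A ≤ B) : om hc n A ≤ om hc n B := by
  intro x hx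
  obtain ⟨h1, h2⟩ := (mem_om hc).mp hx
  exact (mem_om hc).mpr ⟨h h1, h2⟩

theorem pw_mono (h : A ≤ B) : pw hc n A ≤ pw hc n B := by
  intro x hx
  obtain ⟨y, hy, rfl⟩ := (mem_pw hc).mp hx
  exact (mem_pw hc).mpr ⟨y, h hy, rfl⟩

theorem pw_lft (hM : M ≤ pw hc n A) : pw hc n (lft hc n A M) = M := by
  ext x
  constructor
  · intro hx
    obtain ⟨y, hy, rfl⟩ := (mem_pw hc).mp hx
    exact ((mem_lft hc).mp hy).2
  · intro hx
    obtain ⟨y, hy, rfl⟩ := (mem_pw hc).mp (hM hx)
    exact (mem_pw hc).mpr ⟨y, (mem_lft hc).mpr ⟨hy, hx⟩, rfl⟩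

theorem om_lft : om hc n (lft hc n A M) = om hc n A := by
  ext x
  rw [mem_om, mem_om, mem_lft]
  constructor
  · rintro ⟨⟨h1, _⟩, h3⟩
    exact ⟨h1, h3⟩
  · rintro ⟨h1, h3⟩
    exact ⟨⟨h1, by rw [h3]; exact M.one_mem⟩, h3⟩

theorem card_eq_om_mul_pw (n : ℕ) (A : Subgroup X) :
    Nat.card A = Nat.card (om hc n A) * Nat.card (pw hc n A) := by
  have h1 := Subgroup.relIndex_mul_relIndex (⊥ : Subgroup X) (om hc n A) A bot_le (om_le hc)
  rw [Subgroup.relIndex_bot_left, Subgroup.relIndex_bot_left] at h1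
  have h2 : (om hc n A).relIndex A = Nat.card (pw hc n A) := by
    unfold om pw
    rw [Subgroup.inf_relIndex_left]
    exact Subgroup.relIndex_ker (K := A) (f := powHom hc n)
  rw [h2] at h1
  exact h1.symm

end basic

/-- invariance under all automorphisms -/
def IsChr (A : Subgroup X) : Prop := ∀ α : X ≃* X, ∀ x ∈ A, α x ∈ A

theorem isChr_bot : IsChr (⊥ : Subgroup X) := by
  intro α x hx
  rw [Subgroup.mem_bot] at hx ⊢
  rw [hx, map_one]

theorem isChr_top : IsChr (⊤ : Subgroup X) := fun _ _ _ => Subgroup.mem_top _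

theorem isChr_pw (hc : ∀ x y : X, x * y = y * x) {n : ℕ} {A : Subgroup X} (hA : IsChr A) :
    IsChr (pw hc n A) := by
  intro α x hx
  obtain ⟨y, hy, rfl⟩ := (mem_pw hc).mp hx
  exact (mem_pw hc).mpr ⟨α y, hA α y hy, (map_pow α y n).symm⟩

theorem isChr_lft (hc : ∀ x y : X, x * y = y * x) {n : ℕ} {A M : Subgroup X} (hA : IsChr A)
    (hM : IsChr M) : IsChr (lft hc n A M) := by
  intro α x hx
  obtain ⟨h1, h2⟩ := (mem_lft hc).mp hx
  refine (mem_lft hc).mpr ⟨hA α x h1, ?_⟩
  rw [← map_pow]
  exact hM α _ h2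

/-- `A` is reachable from `⊥` by a chain of characteristic subgroups with steps of order `p` -/
def Reach (p : ℕ) (A : Subgroup X) : Prop :=
  ∃ (m : ℕ) (c : ℕ → Subgroup X), c 0 = ⊥ ∧ c m = A ∧ (∀ j, IsChr (c j)) ∧
    ∀ j < m, c j ≤ c (j + 1) ∧ Nat.card (c (j + 1)) = p * Nat.card (c j)

theorem reach_bot (p : ℕ) : Reach p (⊥ : Subgroup X) :=
  ⟨0, fun _ => ⊥, rfl, rfl, fun _ => isChr_bot, fun j hj => absurd hj (Nat.not_lt_zero j)⟩

theorem reach_step {p : ℕ} {A B : Subgroup X} (hA : Reach p A) (hle : A ≤ B) (hB : IsChr B)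
    (hcard : Nat.card B = p * Nat.card A) : Reach p B := by
  obtain ⟨m, c, h0, hm, hch, hst⟩ := hA
  refine ⟨m + 1, fun j => if j ≤ m then c j else B, ?_, ?_, ?_, ?_⟩
  · show (if 0 ≤ m then c 0 else B) = ⊥
    rw [if_pos (Nat.zero_le m), h0]
  · show (if m + 1 ≤ m then c (m + 1) else B) = B
    rw [if_neg (by omega)]
  · intro j
    show IsChr (if j ≤ m then c j else B)
    by_cases hj : j ≤ m
    · rw [if_pos hj]; exact hch j
    · rw [if_neg hj]; exact hB
  · intro j hj
    have e1 : (if j ≤ m then c j else B) = c j := if_pos (by omega)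
    show (if j ≤ m then c j else B) ≤ (if j + 1 ≤ m then c (j + 1) else B) ∧
      Nat.card ↥(if j + 1 ≤ m then c (j + 1) else B) = p * Nat.card ↥(if j ≤ m then c j else B)
    rw [e1]
    by_cases hjm : j < m
    · have e2 : (if j + 1 ≤ m then c (j + 1) else B) = c (j + 1) := if_pos (by omega)
      rw [e2]
      exact hst j hjm
    · have h1 : j = m := by omega
      have e2 : (if j + 1 ≤ m then c (j + 1) else B) = B := if_neg (by omega)
      rw [e2, h1, hm]
      exact ⟨hle, hcard⟩

section pgroup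

variable [Finite X] {p : ℕ} [Fact p.Prime]

theorem card_eq_pow_le (hX : IsPGroup p X) (O : Subgroup X) (m : ℕ) (h : Nat.card O ≤ p ^ m) :
    ∃ j ≤ m, Nat.card O = p ^ j := by
  obtain ⟨j, hj⟩ := (hX.to_subgroup O).exists_card_eq
  refine ⟨j, ?_, hj⟩
  rw [hj] at h
  exact (Nat.pow_le_pow_iff_right (Fact.out : p.Prime).one_lt).mp h

theorem card_step (hX : IsPGroup p X) {A B : Subgroup X} (hle : A ≤ B) (hne : A ≠ B) :
    p * Nat.card A ≤ Nat.card B := by
  have hp : p.Prime := Fact.out
  obtain ⟨a, ha⟩ := (hX.to_subgroup A).exists_card_eq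
  obtain ⟨b, hb⟩ := (hX.to_subgroup B).exists_card_eq
  have hlt : a < b := by
    rcases Nat.lt_or_ge a b with h | h
    · exact h
    · exfalso
      apply hne
      apply Subgroup.eq_of_le_of_card_ge hle
      rw [ha, hb]
      exact Nat.pow_le_pow_right hp.pos h
  rw [ha, hb, ← pow_succ']
  exact Nat.pow_le_pow_right hp.pos hlt

theorem eq_bot_of_om_eq_bot (hc : ∀ x y : X, x * y = y * x) (hX : IsPGroup p X) {A : Subgroup X}
    (h : om hc p A = ⊥) : A = ⊥ := by
  have key : ∀ n : ℕ, ∀ x ∈ A, x ^ (p ^ n) = 1 → x = 1 := by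
    intro n
    induction n with
    | zero =>
      intro x _ hx
      rw [pow_zero, pow_one] at hx
      exact hx
    | succ n ih =>
      intro x hxA hx
      apply ih x hxA
      have h1 : x ^ (p ^ n) ∈ om hc p A :=
        (mem_om hc).mpr ⟨A.pow_mem hxA _, by rw [← pow_mul, ← pow_succ]; exact hx⟩
      rw [h, Subgroup.mem_bot] at h1
      exact h1
  rw [Subgroup.eq_bot_iff_forall]
  intro x hxA
  obtain ⟨n, hn⟩ := hX x
  exact key n x hxA hn

theorem reach_of_om_le (hc : ∀ x y : X, x * y = y * x) (hX : IsPGroup p X) :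
    ∀ N : ℕ, ∀ A : Subgroup X, Nat.card A = N → IsChr A → Nat.card (om hc p A) ≤ p → Reach p A := by
  have hp : p.Prime := Fact.out
  intro N
  induction N using Nat.strong_induction_on with
  | _ N ih =>
    intro A hN hA hom
    by_cases hbot : A = ⊥
    · rw [hbot]; exact reach_bot p
    · have h1 := card_eq_om_mul_pw hc p A
      have h2 : om hc p A ≠ ⊥ := fun h => hbot (eq_bot_of_om_eq_bot hc hX h)
      obtain ⟨j, hj1, hj⟩ := card_eq_pow_le hX (om hc p A) 1 (by rw [pow_one]; exact hom)
      have hj0 : j ≠ 0 := by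
        intro h0
        rw [h0, pow_zero] at hj
        exact h2 (Subgroup.card_eq_one.mp hj)
      have hj' : j = 1 := by omega
      rw [hj', pow_one] at hj
      rw [hj] at h1
      have hpos : 0 < Nat.card (pw hc p A) := Nat.card_pos
      have hlt : Nat.card (pw hc p A) < N := by
        rw [← hN, h1]
        calc Nat.card (pw hc p A) < 2 * Nat.card (pw hc p A) := by omega
          _ ≤ p * Nat.card (pw hc p A) := Nat.mul_le_mul_right _ hp.two_le
      have hY := ih _ hlt (pw hc p A) rfl (isChr_pw hc hA)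
        (le_trans (Subgroup.card_le_of_le (om_mono hc (pw_le hc))) hom)
      exact reach_step hY (pw_le hc) hA h1

/-- the dichotomy: homocyclic numerics, or a characteristic chain -/
theorem main_claim (hc : ∀ x y : X, x * y = y * x) (hX : IsPGroup p X) :
    ∀ N : ℕ, ∀ A : Subgroup X, Nat.card A = N → IsChr A → Nat.card (om hc p A) ≤ p ^ 2 →
      (∃ k : ℕ, Nat.card A = p ^ (2 * k) ∧ ∀ x ∈ A, x ^ (p ^ k) = 1) ∨
      (Reach p A ∧ ∃ M : Subgroup X, IsChr M ∧ pw hc p A ≤ M ∧ M ≤ A ∧
        Nat.card A = p * Nat.card M) := by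
  have hp : p.Prime := Fact.out
  intro N
  induction N using Nat.strong_induction_on with
  | _ N ih =>
    intro A hN hA hom
    have h1 := card_eq_om_mul_pw hc p A
    obtain ⟨j, hj2, hj⟩ := card_eq_pow_le hX (om hc p A) 2 hom
    have hpos : 0 < Nat.card (pw hc p A) := Nat.card_pos
    rcases (by omega : j = 0 ∨ j = 1 ∨ j = 2) with h0 | h0 | h0
    · left
      rw [h0, pow_zero] at hj
      have hbot : A = ⊥ := eq_bot_of_om_eq_bot hc hX (Subgroup.card_eq_one.mp hj)
      refine ⟨0, ?_, ?_⟩
      · rw [hbot, Subgroup.card_bot, Nat.mul_zero, pow_zero]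
      · intro x hx
        rw [hbot, Subgroup.mem_bot] at hx
        rw [hx, one_pow]
    · right
      rw [h0, pow_one] at hj
      refine ⟨reach_of_om_le hc hX _ A rfl hA (le_of_eq hj), pw hc p A, isChr_pw hc hA, le_refl _,
        pw_le hc, ?_⟩
      rw [h1, hj]
    · rw [h0] at hj
      rw [hj] at h1
      have hlt : Nat.card (pw hc p A) < N := by
        rw [← hN, h1]
        calc Nat.card (pw hc p A) < 2 * Nat.card (pw hc p A) := by omega
          _ ≤ p ^ 2 * Nat.card (pw hc p A) :=
            Nat.mul_le_mul_right _ (by nlinarith [hp.two_le])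
      rcases ih _ hlt (pw hc p A) rfl (isChr_pw hc hA)
        (le_trans (Subgroup.card_le_of_le (om_mono hc (pw_le hc))) hom) with
        ⟨k, hk1, hk2⟩ | ⟨hR, M, hMc, hM1, hM2, hM3⟩
      · left
        refine ⟨k + 1, ?_, ?_⟩
        · rw [h1, hk1]; ring
        · intro x hx
          rw [pow_succ', pow_mul]
          exact hk2 _ ((mem_pw hc).mpr ⟨x, hx, rfl⟩)
      · right
        have hYL : pw hc p A ≤ lft hc p A M := by
          intro y hy
          exact (mem_lft hc).mpr ⟨pw_le hc hy, hM1 ((mem_pw hc).mpr ⟨y, hy, rfl⟩)⟩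
        have hLc : IsChr (lft hc p A M) := isChr_lft hc hA hMc
        have hcL : Nat.card (lft hc p A M) = p ^ 2 * Nat.card M := by
          rw [card_eq_om_mul_pw hc p (lft hc p A M), om_lft hc, pw_lft hc hM2, hj]
        have hcL1 : Nat.card (lft hc p A M) = p * Nat.card (pw hc p A) := by
          rw [hcL, hM3]; ring
        have hcA : Nat.card A = p * Nat.card (lft hc p A M) := by
          rw [h1, hcL, hM3]; ring
        exact ⟨reach_step (reach_step hR hYL hLc hcL1) (lft_le hc) hA hcA,
          lft hc p A M, hLc, hYL, lft_le hc, hcA⟩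

end pgroup

/-- a finite `p`-group whose Frattini quotient has order at most `p²` is generated by two elements -/
theorem exists_two_gen [Finite X] {p : ℕ} [Fact p.Prime] (hX : IsPGroup p X)
    (hidx : (frattini X).index ≤ p ^ 2) : ∃ a b : X, Subgroup.closure {a, b} = ⊤ := by
  have hcardX : Nat.card X ≤ p ^ 2 * Nat.card (frattini X) := by
    rw [← Subgroup.card_mul_index (frattini X), mul_comm]
    exact Nat.mul_le_mul_right _ hidx
  have hfin : ∀ a b : X, Subgroup.closure {a, b} ⊔ frattini X = ⊤ → Subgroup.closure {a, b} = ⊤ :=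
    fun a b h => frattini_nongenerating h
  by_cases h1 : ∃ a : X, a ∉ frattini X
  · obtain ⟨a, ha⟩ := h1
    obtain ⟨A1, hA1⟩ : ∃ A1 : Subgroup X, A1 = Subgroup.closure {a} ⊔ frattini X := ⟨_, rfl⟩
    have haA1 : a ∈ A1 := by
      rw [hA1]; exact Subgroup.mem_sup_left (Subgroup.subset_closure (Set.mem_singleton a))
    have hΦA1 : frattini X ≤ A1 := by rw [hA1]; exact le_sup_right
    have hne1 : frattini X ≠ A1 := fun h => ha (by rw [h]; exact haA1)
    have hc1 := card_step hX hΦA1 hne1
    by_cases h2 : ∃ b : X, b ∉ A1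
    · obtain ⟨b, hb⟩ := h2
      refine ⟨a, b, hfin a b ?_⟩
      obtain ⟨A2, hA2⟩ : ∃ A2 : Subgroup X, A2 = Subgroup.closure {a, b} ⊔ frattini X := ⟨_, rfl⟩
      have hA12 : A1 ≤ A2 := by
        rw [hA1, hA2]
        apply sup_le_sup_right
        apply Subgroup.closure_mono
        intro z hz
        rw [Set.mem_singleton_iff] at hz
        rw [hz]; exact Set.mem_insert a {b}
      have hbA2 : b ∈ A2 := by
        rw [hA2]
        exact Subgroup.mem_sup_left
          (Subgroup.subset_closure (Set.mem_insert_of_mem a (Set.mem_singleton b)))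
      have hne2 : A1 ≠ A2 := fun h => hb (by rw [h]; exact hbA2)
      have hc2 := card_step hX hA12 hne2
      rw [← hA2]
      apply (Subgroup.card_eq_iff_eq_top A2).mp
      apply le_antisymm (Subgroup.card_le_card_group A2)
      calc Nat.card X ≤ p ^ 2 * Nat.card (frattini X) := hcardX
        _ = p * (p * Nat.card (frattini X)) := by ring
        _ ≤ p * Nat.card A1 := Nat.mul_le_mul_left _ hc1
        _ ≤ Nat.card A2 := hc2
    · push Not at h2
      refine ⟨a, 1, hfin a 1 ?_⟩
      rw [eq_top_iff]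
      intro x _
      have hx : x ∈ A1 := h2 x
      rw [hA1] at hx
      refine (sup_le_sup_right (Subgroup.closure_mono ?_) (frattini X)) hx
      intro z hz
      rw [Set.mem_singleton_iff] at hz
      rw [hz]; exact Set.mem_insert a {1}
  · push Not at h1
    refine ⟨1, 1, hfin 1 1 ?_⟩
    rw [eq_top_iff]
    intro x _
    exact Subgroup.mem_sup_right (h1 x)

/-- the homomorphism `(i, j) ↦ a ^ i * b ^ j` from `C_q × C_q` -/
def pairHom (hc : ∀ x y : X, x * y = y * x) {q : ℕ} [NeZero q] (hexp : ∀ x : X, x ^ q = 1)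
    (a b : X) : Multiplicative (ZMod q × ZMod q) →* X where
  toFun v := a ^ (Multiplicative.toAdd v).1.val * b ^ (Multiplicative.toAdd v).2.val
  map_one' := by simp
  map_mul' v w := by
    have hpowmod : ∀ (x : X) (m : ℕ), x ^ (m % q) = x ^ m := by
      intro x m
      conv_rhs => rw [← Nat.mod_add_div m q]
      rw [pow_add, pow_mul, hexp, one_pow, mul_one]
    have e1 : ∀ s t u w : X, (s * t) * (u * w) = (s * u) * (t * w) := by
      intro s t u w
      rw [mul_assoc, mul_assoc, ← mul_assoc t u w, hc t u, mul_assoc]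
    show a ^ (Multiplicative.toAdd (v * w)).1.val * b ^ (Multiplicative.toAdd (v * w)).2.val = _
    rw [toAdd_mul, Prod.fst_add, Prod.snd_add, ZMod.val_add, ZMod.val_add, hpowmod, hpowmod,
      pow_add, pow_add]
    exact e1 _ _ _ _

theorem pairHom_apply (hc : ∀ x y : X, x * y = y * x) {q : ℕ} [NeZero q] (hexp : ∀ x : X, x ^ q = 1)
    (a b : X) (v : Multiplicative (ZMod q × ZMod q)) :
    pairHom hc hexp a b v = a ^ (Multiplicative.toAdd v).1.val * b ^ (Multiplicative.toAdd v).2.val :=
  rfl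

/-- a two-generated commutative group of order `q²` and exponent dividing `q` is `C_q × C_q` -/
theorem exists_iso [Finite X] (hc : ∀ x y : X, x * y = y * x) {q : ℕ} (hq : 1 < q)
    (hcard : Nat.card X = q * q) (hexp : ∀ x : X, x ^ q = 1) (a b : X)
    (hgen : Subgroup.closure {a, b} = ⊤) : Nonempty (X ≃* Multiplicative (ZMod q × ZMod q)) := by
  haveI : NeZero q := ⟨by omega⟩
  haveI : Fact (1 < q) := ⟨hq⟩
  have hrange : (pairHom hc hexp a b).range = ⊤ := by
    rw [eq_top_iff, ← hgen, Subgroup.closure_le]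
    intro z hz
    rw [SetLike.mem_coe, MonoidHom.mem_range]
    rcases hz with hz | hz
    · rw [hz]
      refine ⟨Multiplicative.ofAdd ((1 : ZMod q), (0 : ZMod q)), ?_⟩
      show a ^ (1 : ZMod q).val * b ^ (0 : ZMod q).val = a
      rw [ZMod.val_one, ZMod.val_zero, pow_one, pow_zero, mul_one]
    · rw [Set.mem_singleton_iff] at hz
      rw [hz]
      refine ⟨Multiplicative.ofAdd ((0 : ZMod q), (1 : ZMod q)), ?_⟩
      show a ^ (0 : ZMod q).val * b ^ (1 : ZMod q).val = b
      rw [ZMod.val_one, ZMod.val_zero, pow_one, pow_zero, one_mul]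
  have hsurj : Function.Surjective (pairHom hc hexp a b) := MonoidHom.range_eq_top.mp hrange
  have hcardM : Nat.card (Multiplicative (ZMod q × ZMod q)) = q * q := by
    rw [Nat.card_congr (Multiplicative.toAdd (α := ZMod q × ZMod q)), Nat.card_prod, Nat.card_zmod]
  have hbij : Function.Bijective (pairHom hc hexp a b) :=
    hsurj.bijective_of_nat_card_le (by rw [hcardM, hcard])
  exact ⟨(MulEquiv.ofBijective (pairHom hc hexp a b) hbij).symm⟩

end Cfsg.Agent.Lib.Helper27.ATG
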