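import Mathlib
import Cfsg.Agent.H5.GTMain
import Cfsg.Agent.Lib.Helper27.FusionSat

set_option autoImplicit false

/-! An axiomatic version of Glauberman's ZJ-theorem: for a family `𝒜` of abelian subgroups of a
Sylow `p`-subgroup satisfying an invariance and a replacement axiom, the intersection of the family
is normal in a `p`-stable group `G` with `C_G(O_p(G)) ≤ O_p(G)`. -/

namespace Cfsg.Agent.Lib.Helper27.AxZJ

open scoped commutatorElement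
open Cfsg.H5.ZJ Cfsg.H5.GT Cfsg.Agent.Lib.Helper13

section defs

variable {G : Type*} [Group G]

/-- The intersection of the members of the family contained in `R`. -/
def Iof (𝒜 : Set (Subgroup G)) (R : Subgroup G) : Subgroup G :=
  ⨅ A ∈ {A : Subgroup G | A ∈ 𝒜 ∧ A ≤ R}, A

theorem mem_Iof {𝒜 : Set (Subgroup G)} {R : Subgroup G} {x : G} :
    x ∈ Iof 𝒜 R ↔ ∀ A ∈ 𝒜, A ≤ R → x ∈ A := by
  unfold Iof
  simp only [Subgroup.mem_iInf, Set.mem_ofPred_eq]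
  exact ⟨fun h A hA hAR => h A ⟨hA, hAR⟩, fun h A hA => h A hA.1 hA.2⟩

theorem Iof_le {𝒜 : Set (Subgroup G)} {R A : Subgroup G} (hA : A ∈ 𝒜) (hAR : A ≤ R) : Iof 𝒜 R ≤ A :=
  fun _ hx => mem_Iof.1 hx A hA hAR

theorem Iof_mono {𝒜 : Set (Subgroup G)} {R R' : Subgroup G} (h : R ≤ R') : Iof 𝒜 R' ≤ Iof 𝒜 R :=
  fun _ hx => mem_Iof.2 (fun A hA hAR => mem_Iof.1 hx A hA (hAR.trans h))

end defs

section main

variable {G : Type*} [Group G] [Finite G] {p : ℕ} [Fact p.Prime]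

/-- The axiomatic ZJ-theorem, intersections with normal `p`-subgroups. -/
theorem inf_normal
    (hst : ∀ (P : Subgroup G) [P.Normal], IsPGroup p P → Cfsg.IsPStableOn p P)
    (S : Sylow p G) (𝒜 : Set (Subgroup G))
    (h𝒜 : ∀ A ∈ 𝒜, A ≤ (S : Subgroup G) ∧ ∀ x ∈ A, ∀ y ∈ A, x * y = y * x) (hne : 𝒜.Nonempty)
    (hinv : ∀ R : Subgroup G, R ≤ (S : Subgroup G) → (∃ A ∈ 𝒜, A ≤ R) →
      Subgroup.normalizer (R : Set G) ≤ Subgroup.normalizer (Iof 𝒜 R : Set G))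
    (hrep : ∀ B : Subgroup G, B ≤ (S : Subgroup G) → ⁅⁅B, B⁆, B⁆ = ⊥ →
      (∃ A ∈ 𝒜, ⁅B, B⁆ ≤ A ∧ ¬ B ≤ A) →
      ∃ A ∈ 𝒜, ⁅B, B⁆ ≤ A ∧ ¬ B ≤ A ∧ B ≤ Subgroup.normalizer (A : Set G)) :
    ∀ n : ℕ, ∀ B : Subgroup G, B.Normal → IsPGroup p B → Nat.card B = n →
      (Iof 𝒜 (S : Subgroup G) ⊓ B).Normal := by
  intro n
  induction n using Nat.strong_induction_on with
  | _ n ih =>
  intro B hBn hBp hcard
  haveI := hBn
  obtain ⟨A₀, hA₀⟩ := hne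
  have hBS : B ≤ S := hBp.le_sylow_of_normal S
  have hDS : (S : Subgroup G) ≤ Subgroup.normalizer (Iof 𝒜 (S : Subgroup G) : Set G) :=
    Subgroup.le_normalizer.trans (hinv _ le_rfl ⟨A₀, hA₀, (h𝒜 A₀ hA₀).1⟩)
  have hDle : ∀ A ∈ 𝒜, Iof 𝒜 (S : Subgroup G) ≤ A := fun A hA => Iof_le hA (h𝒜 A hA).1
  have hDc : ∀ x ∈ Iof 𝒜 (S : Subgroup G), ∀ y ∈ Iof 𝒜 (S : Subgroup G), x * y = y * x :=
    fun x hx y hy => (h𝒜 A₀ hA₀).2 x (hDle A₀ hA₀ hx) y (hDle A₀ hA₀ hy)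
  -- Step 1: `B` is the normal closure of `D ⊓ B`
  by_cases h1 : Subgroup.normalClosure ((Iof 𝒜 (S : Subgroup G) ⊓ B : Subgroup G) : Set G) = B
  swap
  · have hle : Subgroup.normalClosure ((Iof 𝒜 (S : Subgroup G) ⊓ B : Subgroup G) : Set G) ≤ B :=
      Subgroup.normalClosure_le_normal (fun x hx => hx.2)
    have hlt : Nat.card (Subgroup.normalClosure
        ((Iof 𝒜 (S : Subgroup G) ⊓ B : Subgroup G) : Set G)) < n := by
      rw [← hcard]; exact card_lt_of_lt (lt_of_le_of_ne hle h1)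
    have h2 := ih _ hlt _ Subgroup.normalClosure_normal (hBp.to_le hle) rfl
    have e1 : Iof 𝒜 (S : Subgroup G) ⊓
        Subgroup.normalClosure ((Iof 𝒜 (S : Subgroup G) ⊓ B : Subgroup G) : Set G) =
        Iof 𝒜 (S : Subgroup G) ⊓ B :=
      le_antisymm (inf_le_inf_left _ hle) (le_inf inf_le_left Subgroup.subset_normalClosure)
    rwa [e1] at h2
  -- Step 2
  by_cases hbot : B = ⊥
  · rw [hbot, inf_bot_eq]; infer_instance
  have hB'lt : ⁅B, B⁆ < B := commutator_lt_of_isPGroup hBp hbot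
  have hW'n : (Iof 𝒜 (S : Subgroup G) ⊓ ⁅B, B⁆).Normal :=
    ih _ (by rw [← hcard]; exact card_lt_of_lt hB'lt) ⁅B, B⁆ inferInstance
      (hBp.to_le hB'lt.le) rfl
  -- Steps 3, 4
  have hBBD : ⁅B, B⁆ ≤ Iof 𝒜 (S : Subgroup G) := by
    have h3 : ⁅Iof 𝒜 (S : Subgroup G) ⊓ B, B⁆ ≤ Iof 𝒜 (S : Subgroup G) ⊓ ⁅B, B⁆ := by
      refine le_inf ?_ (Subgroup.commutator_mono inf_le_right le_rfl)
      rw [Subgroup.commutator_le]
      intro z hz b hb
      have hb' := hDS (hBS hb)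
      have h5 : b * z⁻¹ * b⁻¹ ∈ Iof 𝒜 (S : Subgroup G) :=
        (Subgroup.mem_set_normalizer_iff.1 hb' z⁻¹).1 (inv_mem hz.1)
      have e2 : ⁅z, b⁆ = z * (b * z⁻¹ * b⁻¹) := by simp only [commutatorElement_def]; group
      rw [e2]; exact mul_mem hz.1 h5
    have h4 := commutator_normalClosure_le (hN := hW'n) h3
    rw [h1] at h4
    exact h4.trans inf_le_left
  -- class at most two
  have hcl2 : ⁅⁅B, B⁆, B⁆ = ⊥ := by
    have h3 : ⁅Iof 𝒜 (S : Subgroup G) ⊓ B, ⁅B, B⁆⁆ ≤ (⊥ : Subgroup G) := by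
      rw [Subgroup.commutator_le]
      intro z hz c hc
      rw [Subgroup.mem_bot, commutatorElement_eq_one_iff_mul_comm]
      exact hDc z hz.1 c (hBBD hc)
    have h4 := commutator_normalClosure_le (hN := (inferInstance : (⊥ : Subgroup G).Normal)) h3
    rw [h1] at h4
    rw [Subgroup.commutator_comm]
    exact le_bot_iff.1 h4
  -- all members contain `B`?
  by_cases hall : ∀ A ∈ 𝒜, B ≤ A
  · have hBD : B ≤ Iof 𝒜 (S : Subgroup G) := fun x hx => mem_Iof.2 (fun A hA _ => hall A hA hx)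
    rw [inf_eq_right.2 hBD]; exact hBn
  push Not at hall
  obtain ⟨A, hA, hBA⟩ := hall
  obtain ⟨A₁, hA₁, -, hBA₁, hBN⟩ := hrep B hBS hcl2 ⟨A, hA, hBBD.trans (hDle A hA), hBA⟩
  have hRS : (S : Subgroup G) ⊓ Lq p B ≤ S := inf_le_left
  have hA₁R : A₁ ≤ (S : Subgroup G) ⊓ Lq p B :=
    le_inf (h𝒜 A₁ hA₁).1 (le_Lq_of_normalizes (hst B hBp) (h𝒜 A₁ hA₁).2 hBN)
  have hDI : Iof 𝒜 (S : Subgroup G) ≤ Iof 𝒜 ((S : Subgroup G) ⊓ Lq p B) := Iof_mono hRS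
  -- `I(R) ∩ B` is normal
  have hB2n : (Iof 𝒜 ((S : Subgroup G) ⊓ Lq p B) ⊓ B).Normal := by
    rw [← Subgroup.normalizer_eq_top_iff, eq_top_iff]
    intro g _
    obtain ⟨a, ha, c, hc, rfl⟩ := Cfsg.Agent.Lib.Helper16.frattini_inf_normal S (Lq p B) g
    obtain ⟨r, hr, c₀, hc₀, rfl⟩ := Lq_decomp S B hc
    have har : a * r ∈ Subgroup.normalizer (((S : Subgroup G) ⊓ Lq p B : Subgroup G) : Set G) :=
      mul_mem ha (Subgroup.le_normalizer hr)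
    have h5 : a * r ∈ Subgroup.normalizer
        ((Iof 𝒜 ((S : Subgroup G) ⊓ Lq p B) ⊓ B : Subgroup G) : Set G) := by
      apply normalizer_inf_le
      refine Subgroup.mem_inf.2 ⟨hinv _ hRS ⟨A₁, hA₁, hA₁R⟩ har, ?_⟩
      rw [Subgroup.normalizer_eq_top_iff.2 hBn]; trivial
    have h6 : c₀ ∈ Subgroup.normalizer
        ((Iof 𝒜 ((S : Subgroup G) ⊓ Lq p B) ⊓ B : Subgroup G) : Set G) := by
      apply Subgroup.centralizer_le_normalizer
      exact Subgroup.centralizer_le (fun x hx => hx.2) hc₀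
    rw [← mul_assoc]; exact mul_mem h5 h6
  have hB2 : Iof 𝒜 ((S : Subgroup G) ⊓ Lq p B) ⊓ B ≠ B := by
    intro h
    apply hBA₁
    exact (inf_eq_right.1 h).trans (Iof_le hA₁ hA₁R)
  have hlt : Nat.card ↥(Iof 𝒜 ((S : Subgroup G) ⊓ Lq p B) ⊓ B) < n := by
    rw [← hcard]; exact card_lt_of_lt (lt_of_le_of_ne inf_le_right hB2)
  have h2 := ih _ hlt _ hB2n (hBp.to_le inf_le_right) rfl
  have e1 : Iof 𝒜 (S : Subgroup G) ⊓ (Iof 𝒜 ((S : Subgroup G) ⊓ Lq p B) ⊓ B) =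
      Iof 𝒜 (S : Subgroup G) ⊓ B :=
    le_antisymm (inf_le_inf_left _ inf_le_right)
      (le_inf inf_le_left (le_inf (inf_le_left.trans hDI) inf_le_right))
  rwa [e1] at h2

/-- The axiomatic ZJ-theorem. -/
theorem normal_of_stable
    (hc : Subgroup.centralizer (Cfsg.pCore p G : Set G) ≤ Cfsg.pCore p G)
    (hst : ∀ (P : Subgroup G) [P.Normal], IsPGroup p P → Cfsg.IsPStableOn p P)
    (S : Sylow p G) (𝒜 : Set (Subgroup G))
    (h𝒜 : ∀ A ∈ 𝒜, A ≤ (S : Subgroup G) ∧ ∀ x ∈ A, ∀ y ∈ A, x * y = y * x) (hne : 𝒜.Nonempty)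
    (hinv : ∀ R : Subgroup G, R ≤ (S : Subgroup G) → (∃ A ∈ 𝒜, A ≤ R) →
      Subgroup.normalizer (R : Set G) ≤ Subgroup.normalizer (Iof 𝒜 R : Set G))
    (hrep : ∀ B : Subgroup G, B ≤ (S : Subgroup G) → ⁅⁅B, B⁆, B⁆ = ⊥ →
      (∃ A ∈ 𝒜, ⁅B, B⁆ ≤ A ∧ ¬ B ≤ A) →
      ∃ A ∈ 𝒜, ⁅B, B⁆ ≤ A ∧ ¬ B ≤ A ∧ B ≤ Subgroup.normalizer (A : Set G)) :
    (Iof 𝒜 (S : Subgroup G)).Normal := by
  have hQn := Cfsg.H5.pCore_normal p G
  have hQp := Cfsg.H5.pCore_isPGroup p G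
  have h1 := inf_normal hst S 𝒜 h𝒜 hne hinv hrep _ (Cfsg.pCore p G) hQn hQp rfl
  suffices hle : Iof 𝒜 (S : Subgroup G) ≤ Cfsg.pCore p G by rwa [inf_eq_left.2 hle] at h1
  haveI := hQn
  obtain ⟨A₀, hA₀⟩ := hne
  have hDS : (S : Subgroup G) ≤ Subgroup.normalizer (Iof 𝒜 (S : Subgroup G) : Set G) :=
    Subgroup.le_normalizer.trans (hinv _ le_rfl ⟨A₀, hA₀, (h𝒜 A₀ hA₀).1⟩)
  have hDle : ∀ A ∈ 𝒜, Iof 𝒜 (S : Subgroup G) ≤ A := fun A hA => Iof_le hA (h𝒜 A hA).1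
  have hDc : ∀ x ∈ Iof 𝒜 (S : Subgroup G), ∀ y ∈ Iof 𝒜 (S : Subgroup G), x * y = y * x :=
    fun x hx y hy => (h𝒜 A₀ hA₀).2 x (hDle A₀ hA₀ hx) y (hDle A₀ hA₀ hy)
  intro z hz
  have hQS : Cfsg.pCore p G ≤ S := hQp.le_sylow_of_normal S
  have hquad : ⁅⁅Cfsg.pCore p G, Subgroup.zpowers z⁆, Subgroup.zpowers z⁆ = ⊥ := by
    have hzp : Subgroup.zpowers z ≤ Iof 𝒜 (S : Subgroup G) := Subgroup.zpowers_le.2 hz
    have h2 : ⁅Cfsg.pCore p G, Subgroup.zpowers z⁆ ≤ Iof 𝒜 (S : Subgroup G) := by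
      rw [Subgroup.commutator_le]
      intro q hq w hw
      have hq' := hDS (hQS hq)
      have h3 : q * w * q⁻¹ ∈ Iof 𝒜 (S : Subgroup G) :=
        (Subgroup.mem_set_normalizer_iff.1 hq' w).1 (hzp hw)
      have e2 : ⁅q, w⁆ = (q * w * q⁻¹) * w⁻¹ := by simp only [commutatorElement_def]
      rw [e2]; exact mul_mem h3 (inv_mem (hzp hw))
    rw [eq_bot_iff]
    refine (Subgroup.commutator_mono h2 hzp).trans ?_
    rw [Subgroup.commutator_le]
    intro x hx y hy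
    rw [Subgroup.mem_bot, commutatorElement_eq_one_iff_mul_comm]
    exact hDc x hx y hy
  have hmem : z ∈ Lq p (Cfsg.pCore p G) := mem_Lq.2 (hst (Cfsg.pCore p G) hQp z hquad)
  have hLp : IsPGroup p (Lq p (Cfsg.pCore p G)) := by
    unfold Lq
    apply IsPGroup.comap_of_ker_isPGroup (Cfsg.H5.pCore_isPGroup p _)
    rw [QuotientGroup.ker_mk']
    exact hQp.to_le hc
  exact Cfsg.H5.le_pCore (Lq_normal p _) hLp hmem

end main

section coatom

universe u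

variable {G : Type u} [Group G] [Finite G] {p : ℕ} [Fact p.Prime]

/-- If a Sylow `p`-subgroup `P` (`p` odd) is a maximal subgroup of `G`, then the
action of `G` on every normal `p`-subgroup is `p`-stable. -/
theorem stable_of_coatom (hp2 : p ≠ 2) (P : Sylow p G) (hcoat : IsCoatom (P : Subgroup G)) :
    ∀ (V : Subgroup G) [V.Normal], IsPGroup p V → Cfsg.IsPStableOn p V := by
  have hp : p.Prime := Fact.out
  obtain ⟨H, hHdef⟩ : ∃ H : Subgroup G, H = Cfsg.pCore p G := ⟨_, rfl⟩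
  have hHn : H.Normal := by rw [hHdef]; exact Cfsg.H5.pCore_normal p G
  have hHp : IsPGroup p H := by rw [hHdef]; exact Cfsg.H5.pCore_isPGroup p G
  haveI := hHn
  have hsurj := QuotientGroup.mk'_surjective H
  have hHP : H ≤ P := hHp.le_sylow_of_normal P
  have hPtop : (P : Subgroup G) ≠ ⊤ := hcoat.1
  have hmaxP : ∀ M : Subgroup G, (P : Subgroup G) < M → M = ⊤ := fun M h => hcoat.2 M h
  have hcoat' : IsCoatom ((P.mapSurjective hsurj : Sylow p (G ⧸ H)) : Subgroup (G ⧸ H)) := by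
    rw [Sylow.coe_mapSurjective]
    have hcm : ((P : Subgroup G).map (QuotientGroup.mk' H)).comap (QuotientGroup.mk' H) = P := by
      rw [Subgroup.comap_map_eq, QuotientGroup.ker_mk', sup_eq_left.2 hHP]
    constructor
    · intro h
      apply hPtop
      rw [← hcm, h, Subgroup.comap_top]
    · intro Mb hMb
      have h1 : (P : Subgroup G) < Mb.comap (QuotientGroup.mk' H) := by
        refine lt_of_le_of_ne ?_ ?_
        · rw [← hcm]; exact Subgroup.comap_mono hMb.le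
        · intro h
          apply hMb.ne
          rw [← Subgroup.map_comap_eq_self_of_surjective hsurj Mb, ← h]
      have h2 := hmaxP _ h1
      rw [← Subgroup.map_comap_eq_self_of_surjective hsurj Mb, h2,
        Subgroup.map_top_of_surjective _ hsurj]
  -- the quotient by `O_p(G)` has no nontrivial normal `p`-subgroup
  have hnoNp : ∀ W : Subgroup (G ⧸ H), W.Normal → IsPGroup p W → W = ⊥ := by
    intro W hWn hWp
    have h1 : (W.comap (QuotientGroup.mk' H)).Normal := hWn.comap _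
    have h2 : IsPGroup p ↥(W.comap (QuotientGroup.mk' H)) := by
      apply IsPGroup.comap_of_ker_isPGroup hWp
      rw [QuotientGroup.ker_mk']
      exact hHp
    have h3 : W.comap (QuotientGroup.mk' H) ≤ H :=
      le_of_le_of_eq (Cfsg.H5.le_pCore h1 h2) hHdef.symm
    rw [← Subgroup.map_comap_eq_self_of_surjective hsurj W, eq_bot_iff]
    rintro _ ⟨x, hx, rfl⟩
    rw [Subgroup.mem_bot, QuotientGroup.mk'_apply, QuotientGroup.eq_one_iff]
    exact h3 hx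
  -- the quotient has a normal `p`-complement
  have hGH : Cfsg.HasNormalPComplement p (G ⧸ H) := by
    have hPbp : IsPGroup p ↥((P.mapSurjective hsurj : Sylow p (G ⧸ H)) : Subgroup (G ⧸ H)) :=
      (P.mapSurjective hsurj).isPGroup'
    have hle : ((P.mapSurjective hsurj : Sylow p (G ⧸ H)) : Subgroup (G ⧸ H)) ≤
        Subgroup.normalizer (Z p ((P.mapSurjective hsurj : Sylow p (G ⧸ H)) : Subgroup (G ⧸ H)) :
          Set (G ⧸ H)) :=
      Subgroup.le_normalizer.trans (normalizer_le_normalizer_Z _)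
    rcases eq_or_lt_of_le hle with heq | hlt
    · apply glauberman_thompson hp2 p (P.mapSurjective hsurj)
      apply npc_congr heq
      exact hasNormalPComplement_of_isPGroup hPbp
    · have htop := hcoat'.2 _ hlt
      have hZn : (Z p ((P.mapSurjective hsurj : Sylow p (G ⧸ H)) : Subgroup (G ⧸ H))).Normal :=
        Subgroup.normalizer_eq_top_iff.1 htop
      have hZp : IsPGroup p ↥(Z p ((P.mapSurjective hsurj : Sylow p (G ⧸ H)) : Subgroup (G ⧸ H))) :=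
        hPbp.to_le Z_le
      have hZbot := hnoNp _ hZn hZp
      have hPbot : ((P.mapSurjective hsurj : Sylow p (G ⧸ H)) : Subgroup (G ⧸ H)) = ⊥ := by
        by_contra hne
        exact Z_ne_bot (dvd_refl p) hPbp hne hZbot
      rw [hasNormalPComplement_iff_exists]
      refine ⟨⊤, inferInstance, ?_, 0, ?_⟩
      · rw [Subgroup.card_top]
        rw [Nat.coprime_comm, Nat.Prime.coprime_iff_not_dvd hp]
        intro hdvd
        exact (P.mapSurjective hsurj).ne_bot_of_dvd_card hdvd hPbot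
      · rw [Subgroup.index_top, pow_zero]
  obtain ⟨Kb, hKbn, hKbcop, k, hKbidx⟩ := hasNormalPComplement_iff_exists.1 hGH
  obtain ⟨K, hKdef⟩ : ∃ K : Subgroup G, K = Kb.comap (QuotientGroup.mk' H) := ⟨_, rfl⟩
  have hKn : K.Normal := by rw [hKdef]; exact hKbn.comap _
  have hKidx : K.index = p ^ k := by
    rw [hKdef, Subgroup.index_comap_of_surjective _ hsurj]; exact hKbidx
  have hKm : ∀ y ∈ K, y ^ Nat.card Kb ∈ H := by
    intro y hy
    rw [hKdef, Subgroup.mem_comap] at hy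
    have h1 : (⟨QuotientGroup.mk' H y, hy⟩ : ↥Kb) ^ Nat.card ↥Kb = 1 := pow_card_eq_one'
    have h2 := congrArg Subtype.val h1
    rw [Subgroup.coe_pow, Subgroup.coe_one, ← map_pow] at h2
    exact (QuotientGroup.eq_one_iff _).1 h2
  have hKbab := commute_of_isCoatom_sylow Kb hKbcop (P.mapSurjective hsurj) hcoat'
  have hKK : ⁅K, K⁆ ≤ H := by
    rw [Subgroup.commutator_le]
    intro x hx y hy
    rw [hKdef, Subgroup.mem_comap] at hx hy
    rw [← QuotientGroup.eq_one_iff, ← QuotientGroup.mk'_apply, map_commutatorElement,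
      commutatorElement_eq_one_iff_mul_comm]
    exact hKbab _ hx _ hy
  have hKP : ∀ g : G, ∃ k ∈ K, ∃ t ∈ (P : Subgroup G), g = k * t := by
    have h1 := sylow_sup_eq_top_of_index_pow K hKidx P
    intro g
    have hg : g ∈ ((K ⊔ (P : Subgroup G) : Subgroup G) : Set G) := by
      rw [sup_comm, h1]; trivial
    rw [Subgroup.normal_mul] at hg
    obtain ⟨k', hk', t, ht, rfl⟩ := hg
    exact ⟨k', hk', t, ht, rfl⟩
  intro V hVn hVp
  have hVH : V ≤ H := by rw [hHdef]; exact Cfsg.H5.le_pCore hVn hVp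
  exact isPStableOn_of_structure hp2 H K hHp hKK (Nat.card Kb) hKbcop hKm P hKP V hVH

/-- The axiomatic ZJ-theorem for a group in which a Sylow `p`-subgroup is maximal. -/
theorem normal_of_coatom (hp2 : p ≠ 2) (P : Sylow p G) (hcoat : IsCoatom (P : Subgroup G))
    (hcent : Subgroup.centralizer (Cfsg.pCore p G : Set G) ≤ Cfsg.pCore p G)
    (𝒜 : Set (Subgroup G))
    (h𝒜 : ∀ A ∈ 𝒜, A ≤ (P : Subgroup G) ∧ ∀ x ∈ A, ∀ y ∈ A, x * y = y * x) (hne : 𝒜.Nonempty)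
    (hinv : ∀ R : Subgroup G, R ≤ (P : Subgroup G) → (∃ A ∈ 𝒜, A ≤ R) →
      Subgroup.normalizer (R : Set G) ≤ Subgroup.normalizer (Iof 𝒜 R : Set G))
    (hrep : ∀ B : Subgroup G, B ≤ (P : Subgroup G) → ⁅⁅B, B⁆, B⁆ = ⊥ →
      (∃ A ∈ 𝒜, ⁅B, B⁆ ≤ A ∧ ¬ B ≤ A) →
      ∃ A ∈ 𝒜, ⁅B, B⁆ ≤ A ∧ ¬ B ≤ A ∧ B ≤ Subgroup.normalizer (A : Set G)) :
    (Iof 𝒜 (P : Subgroup G)).Normal :=
  normal_of_stable hcent (stable_of_coatom hp2 P hcoat) P 𝒜 h𝒜 hne hinv hrep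

end coatom

section embedding

universe u

variable {G : Type u} [Group G] [Finite G] {p : ℕ} [Fact p.Prime] {T : Type*} [Group T]

omit [Finite G] in
theorem Iof_image (θ : T →* G) (hθ : Function.Injective θ) (𝒜 : Set (Subgroup T)) (R' : Subgroup G)
    (hex : ∃ A ∈ 𝒜, A.map θ ≤ R') :
    Iof ((Subgroup.map θ) '' 𝒜) R' = (Iof 𝒜 (R'.comap θ)).map θ := by
  obtain ⟨A₀, hA₀, hA₀R⟩ := hex
  ext y
  constructor
  · intro hy
    have h1 := mem_Iof.1 hy (A₀.map θ) ⟨A₀, hA₀, rfl⟩ hA₀R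
    obtain ⟨x, -, rfl⟩ := h1
    refine ⟨x, mem_Iof.2 (fun A hA hAR => ?_), rfl⟩
    have h2 := mem_Iof.1 hy (A.map θ) ⟨A, hA, rfl⟩ (Subgroup.map_le_iff_le_comap.2 hAR)
    obtain ⟨a, ha, hax⟩ := h2
    rw [← hθ hax]
    exact ha
  · rintro ⟨x, hx, rfl⟩
    apply mem_Iof.2
    rintro A' ⟨A, hA, rfl⟩ hAR
    exact ⟨x, mem_Iof.1 hx A hA (Subgroup.map_le_iff_le_comap.1 hAR), rfl⟩

/-- The axiomatic ZJ-theorem for a group in which a Sylow `p`-subgroup is maximal, with the family given on a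
group `T` embedded onto the Sylow subgroup. -/
theorem normal_of_embedding (hp2 : p ≠ 2) (θ : T →* G) (hθ : Function.Injective θ) (P : Sylow p G)
    (hP : (P : Subgroup G) = θ.range) (hcoat : IsCoatom (P : Subgroup G))
    (hcent : Subgroup.centralizer (Cfsg.pCore p G : Set G) ≤ Cfsg.pCore p G)
    (𝒜 : Set (Subgroup T))
    (h𝒜 : ∀ A ∈ 𝒜, ∀ x ∈ A, ∀ y ∈ A, x * y = y * x) (hne : 𝒜.Nonempty)
    (hinv : ∀ R : Subgroup T, (∃ A ∈ 𝒜, A ≤ R) → ∀ g : G,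
      g ∈ Subgroup.normalizer ((R.map θ : Subgroup G) : Set G) →
      ∀ x ∈ Iof 𝒜 R, ∃ y ∈ Iof 𝒜 R, θ y = g * θ x * g⁻¹)
    (hrep : ∀ B : Subgroup T, ⁅⁅B, B⁆, B⁆ = ⊥ →
      (∃ A ∈ 𝒜, ⁅B, B⁆ ≤ A ∧ ¬ B ≤ A) →
      ∃ A ∈ 𝒜, ⁅B, B⁆ ≤ A ∧ ¬ B ≤ A ∧ B ≤ Subgroup.normalizer (A : Set T)) :
    ((Iof 𝒜 ⊤).map θ).Normal := by
  have hmain := normal_of_coatom hp2 P hcoat hcent ((Subgroup.map θ) '' 𝒜) ?_ ?_ ?_ ?_
  · obtain ⟨A₀, hA₀⟩ := hne
    have h1 := Iof_image θ hθ 𝒜 (P : Subgroup G)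
      ⟨A₀, hA₀, by rw [hP]; exact Subgroup.map_le_range θ A₀⟩
    have h2 : (P : Subgroup G).comap θ = ⊤ := by
      rw [hP, eq_top_iff]
      intro x _
      exact ⟨x, rfl⟩
    rw [h1, h2] at hmain
    exact hmain
  · rintro A' ⟨A, hA, rfl⟩
    refine ⟨by rw [hP]; exact Subgroup.map_le_range θ A, ?_⟩
    rintro _ ⟨x, hx, rfl⟩ _ ⟨y, hy, rfl⟩
    rw [← map_mul, ← map_mul, h𝒜 A hA x hx y hy]
  · obtain ⟨A₀, hA₀⟩ := hne
    exact ⟨A₀.map θ, A₀, hA₀, rfl⟩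
  · rintro R' hR'P ⟨A', ⟨A, hA, rfl⟩, hAR⟩ g hg
    have hR'r : R' ≤ θ.range := hP ▸ hR'P
    have hmc : (R'.comap θ).map θ = R' := Subgroup.map_comap_eq_self hR'r
    rw [Iof_image θ hθ 𝒜 R' ⟨A, hA, hAR⟩]
    apply Cfsg.Agent.Lib.Helper27.mem_normalizer_of_conj_mem
    rintro _ ⟨x, hx, rfl⟩
    obtain ⟨y, hy, hyx⟩ := hinv (R'.comap θ) ⟨A, hA, Subgroup.map_le_iff_le_comap.1 hAR⟩ g
      (by rw [hmc]; exact hg) x hx
    exact ⟨y, hy, hyx⟩
  · rintro B' hB'P hcl ⟨A', ⟨A, hA, rfl⟩, hBA, hnBA⟩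
    have hB'r : B' ≤ θ.range := hP ▸ hB'P
    have hmc : (B'.comap θ).map θ = B' := Subgroup.map_comap_eq_self hB'r
    have hc1 : (⁅B'.comap θ, B'.comap θ⁆).map θ = ⁅B', B'⁆ := by
      rw [Subgroup.map_commutator, hmc]
    have hc2 : (⁅⁅B'.comap θ, B'.comap θ⁆, B'.comap θ⁆).map θ = ⁅⁅B', B'⁆, B'⁆ := by
      rw [Subgroup.map_commutator, hc1, hmc]
    have hcl' : ⁅⁅B'.comap θ, B'.comap θ⁆, B'.comap θ⁆ = ⊥ := by
      rw [← Subgroup.map_eq_bot_iff_of_injective _ hθ, hc2, hcl]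
    have h1 : ⁅B'.comap θ, B'.comap θ⁆ ≤ A := by
      rw [← Subgroup.map_le_map_iff_of_injective hθ, hc1]
      exact hBA
    have h2 : ¬ B'.comap θ ≤ A := by
      intro h
      apply hnBA
      rw [← hmc]
      exact Subgroup.map_mono h
    obtain ⟨A₁, hA₁, h3, h4, h5⟩ := hrep (B'.comap θ) hcl' ⟨A, hA, h1, h2⟩
    refine ⟨A₁.map θ, ⟨A₁, hA₁, rfl⟩, ?_, ?_, ?_⟩
    · rw [← hc1]
      exact Subgroup.map_mono h3
    · intro h
      apply h4
      rw [← hmc] at h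
      exact (Subgroup.map_le_map_iff_of_injective hθ).1 h
    · rw [← hmc]
      exact (Subgroup.map_mono h5).trans (Subgroup.le_normalizer_map θ)

end embedding

end Cfsg.Agent.Lib.Helper27.AxZJ
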