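import Mathlib
import Cfsg.Agent.Lib.Helper27.LGFinal

set_option autoImplicit false

/-! A non-inner saturated fusion system contains a non-inner constrained normalizer system over `S`
(as soon as some local-to-global criterion is available). -/

namespace Cfsg.Agent.Lib.Helper27.LG

open Cfsg Cfsg.FusionSystem Cfsg.Agent.Lib.Helper27 Cfsg.Agent.H26

universe u

variable {𝒩 𝒞 𝒜 : ∀ (Ω : Type u) [Group Ω], Subgroup Ω → Set (Subgroup Ω)} {p : ℕ} [Fact p.Prime]

/-- A bad normal subgroup of `S` of largest order contains its centralizer. -/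
theorem exists_centric_bad (hgood : Good 𝒩 𝒞 𝒜 p) {Ω : Type u} [Group Ω] {S : Subgroup Ω} [Finite S]
    (hS : IsPGroup p S) {F : FusionSystem S} (hF : F.IsSaturated p) (hNI : NonInner p F) :
    ∃ U : Subgroup Ω, U ≤ S ∧ U ≠ ⊥ ∧ normalizerIn S U = S ∧ centralizerIn S U ≤ U ∧ Bad p F U := by
  have hfin : {V : Subgroup Ω | V ≤ S ∧ normalizerIn S V = S ∧ V ≠ ⊥ ∧ Bad p F V}.Finite :=
    (finite_setOf_le S).subset (fun V hV => hV.1)
  have hne : {V : Subgroup Ω | V ≤ S ∧ normalizerIn S V = S ∧ V ≠ ⊥ ∧ Bad p F V}.Nonempty := by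
    obtain ⟨V, hV1, hVS, hVchar, hVb⟩ := (alt hgood hS hF hNI).exists_bad hgood hS (ne_bot_of_nonInner hNI)
    haveI : Finite ↥V := Finite.of_injective (Subgroup.inclusion hVS) (Subgroup.inclusion_injective hVS)
    exact ⟨V, hVS, normalizerIn_eq_of_char hVS hVchar, hV1, hVb⟩
  obtain ⟨U, ⟨hUS, hT, hU1, hUb⟩, hmax⟩ := Set.exists_max_image _
    (fun V : Subgroup Ω => Nat.card V) hfin hne
  refine ⟨U, hUS, hU1, hT, ?_, hUb⟩
  have h5a : ∀ V : Subgroup Ω, V ≤ S → normalizerIn S V = S → V ≠ ⊥ → Bad p F V →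
      Nat.card V ≤ Nat.card U := fun V h1 h2 h3 h4 => hmax V ⟨h1, h2, h3, h4⟩
  have hUfn : F.IsFullyNormalized U := isFullyNormalized_of_normal F hUS hT
  have hTS : normalizerIn S U ≤ S := inf_le_left
  haveI : Finite ↥(normalizerIn S U) :=
    Finite.of_injective (Subgroup.inclusion hTS) (Subgroup.inclusion_injective hTS)
  have hTp : IsPGroup p ↥(normalizerIn S U) :=
    hS.of_injective (Subgroup.inclusion hTS) (Subgroup.inclusion_injective hTS)
  obtain ⟨E, hE⟩ : ∃ E : FusionSystem (normalizerIn S U), F.IsNormalizerSystem U E :=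
    ⟨nsys F U hUS, nsys_spec F U hUS⟩
  have hEsat : E.IsSaturated p := normalizerSystem_saturated hS hF hUfn E hE
  have hEF : ∀ P : Subgroup Ω, E.Hom P ⊆ F.Hom P := normalizerSystem_hom_subset hE
  have hEb : Bad p E U := hUb.to_nsys hUS hE
  have hEn : E.IsNormal U := normalizerSystem_isNormal hUS hE
  by_contra hcen
  have hRS : U ⊔ centralizerIn S U ≤ S := sup_le hUS (centralizerIn_le_S S U)
  have hUR : U < U ⊔ centralizerIn S U := by
    refine lt_of_le_of_ne le_sup_left (fun h => hcen ?_)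
    exact le_sup_right.trans (le_of_eq h.symm)
  have hcardlt : ∀ V : Subgroup Ω, V ≤ S → U < V → Nat.card U < Nat.card V := by
    intro V hVS hUV
    haveI : Finite ↥V := Finite.of_injective (Subgroup.inclusion hVS) (Subgroup.inclusion_injective hVS)
    refine lt_of_le_of_ne (Subgroup.card_le_of_le hUV.le) (fun heq => hUV.ne ?_)
    exact Subgroup.eq_of_le_of_card_ge hUV.le heq.ge
  obtain ⟨P, α, hUP, hPN, hαE, hαU, h1, h2⟩ := hEb
  have hfix : ∀ x : P, (x : Ω) ∈ U → α x = x := by
    intro x hx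
    by_contra hne'
    have hbad := bad_sup_centralizer hS hF hUfn hUP (hEF P hαE) hαU h2 ⟨x, hx, hne'⟩
    have h3 := h5a _ hRS (normalizerIn_sup_centralizerIn hUS hT) (ne_bot_of_gt hUR) hbad
    have h4 := hcardlt _ hRS hUR
    exact absurd h3 (not_le.mpr h4)
  have hUsc : E.StronglyClosed U := normal_stronglyClosed hEn
  haveI : (U.subgroupOf (normalizerIn S U)).Normal :=
    Subgroup.normal_subgroupOf_of_le_normalizer inf_le_right
  obtain ⟨E', hfac⟩ := Cfsg.Agent.S5132.result p hTp E U hUsc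
  have hsm := Cfsg.Agent.S5134.result p hTp E hEsat U hUsc _ E' hfac
  have hE'sat : E'.IsSaturated p := Cfsg.Agent.S5133.result p hTp E hEsat E' _ hsm
  have hNI' : NonInner p E' := nonInner_factor hTp hEsat hUsc hfac hUP hαE hfix h1 h2
  haveI : Finite ↥(⊤ : Subgroup (↥(normalizerIn S U) ⧸ U.subgroupOf (normalizerIn S U))) :=
    inferInstance
  have hp' : IsPGroup p ↥(⊤ : Subgroup (↥(normalizerIn S U) ⧸ U.subgroupOf (normalizerIn S U))) :=
    (hTp.to_quotient _).to_subgroup _
  have hconcl := alt hgood hp' hE'sat hNI'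
  obtain ⟨V', hV'1, hV'le, hV'char, hV'b⟩ :=
    hconcl.exists_bad hgood hp' (ne_bot_of_nonInner hNI')
  have hVb : Bad p F (preimageAlong (QuotientGroup.mk' (U.subgroupOf (normalizerIn S U))) V') :=
    (bad_preimage hTp hEsat hUsc hfac hV'b).of_le hTS hEF
  obtain ⟨hUT, hker, hrange, -⟩ := hfac
  haveI : Finite ↥V' := Finite.of_injective (Subgroup.inclusion hV'le) (Subgroup.inclusion_injective hV'le)
  have hV'n : (⊤ : Subgroup (↥(normalizerIn S U) ⧸ U.subgroupOf (normalizerIn S U))) ≤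
      Subgroup.normalizer (V' : Set (↥(normalizerIn S U) ⧸ U.subgroupOf (normalizerIn S U))) := by
    have h3 := normalizerIn_eq_of_char hV'le hV'char
    intro x hx
    have h4 : x ∈ normalizerIn ⊤ V' := by rw [h3]; exact hx
    exact h4.2
  have hVn := preimage_normalizer hrange hV'n
  have hVT : preimageAlong (QuotientGroup.mk' (U.subgroupOf (normalizerIn S U))) V' ≤
      normalizerIn S U := preimageAlong_le _ _
  have hVS : preimageAlong (QuotientGroup.mk' (U.subgroupOf (normalizerIn S U))) V' ≤ S :=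
    hVT.trans hTS
  have hVn' : normalizerIn S (preimageAlong (QuotientGroup.mk' (U.subgroupOf (normalizerIn S U))) V') = S := by
    apply le_antisymm inf_le_left
    intro x hx
    have hx' : x ∈ normalizerIn S U := by rw [hT]; exact hx
    rw [← hVn] at hx'
    exact ⟨hx, hx'.2⟩
  have hUV := lt_preimage hUT hker hrange hV'le hV'1
  have h3 := h5a _ hVS hVn' (ne_bot_of_gt hUV) hVb
  have h4 := hcardlt _ hVS hUV
  exact absurd h3 (not_le.mpr h4)

/-- A non-inner saturated fusion system contains a non-inner constrained subsystem over `S`. -/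
theorem exists_constrained_subsystem (hgood : Good 𝒩 𝒞 𝒜 p) {Ω : Type u} [Group Ω] {S : Subgroup Ω}
    [Finite S] (hS : IsPGroup p S) {F : FusionSystem S} (hF : F.IsSaturated p) (hNI : NonInner p F) :
    ∃ E : FusionSystem S, E ≤ F ∧ E.IsConstrained p ∧ NonInner p E := by
  obtain ⟨U, hUS, hU1, hT, hcen, hUb⟩ := exists_centric_bad hgood hS hF hNI
  have hUfn : F.IsFullyNormalized U := isFullyNormalized_of_normal F hUS hT
  have hTS : normalizerIn S U ≤ S := inf_le_left
  obtain ⟨E, hE⟩ : ∃ E : FusionSystem (normalizerIn S U), F.IsNormalizerSystem U E :=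
    ⟨nsys F U hUS, nsys_spec F U hUS⟩
  have hEsat : E.IsSaturated p := normalizerSystem_saturated hS hF hUfn E hE
  have hEF : ∀ P : Subgroup Ω, E.Hom P ⊆ F.Hom P := normalizerSystem_hom_subset hE
  have hEb : Bad p E U := hUb.to_nsys hUS hE
  have hEn : E.IsNormal U := normalizerSystem_isNormal hUS hE
  have hUc : E.IsCentric U := by
    refine ⟨le_normalizerIn hUS, fun Q hQ => ?_⟩
    have hQU : Q = U := weaklyClosed_eq_of_isConj (normal_weaklyClosed hEn) hQ
    rw [hQU]
    intro x hx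
    exact hcen ⟨hTS hx.1, hx.2⟩
  have hcons : E.IsConstrained p := ⟨hEsat, U, hEn, hUc⟩
  have hEni : NonInner p E := hEb.nonInner
  -- transport along `N_S(U) = S`
  have key : ∀ (T : Subgroup Ω) (_ : T = S) (E : FusionSystem T), E.IsConstrained p →
      (∀ P : Subgroup Ω, E.Hom P ⊆ F.Hom P) → NonInner p E →
      ∃ E' : FusionSystem S, E' ≤ F ∧ E'.IsConstrained p ∧ NonInner p E' := by
    intro T hTeq E0 h1 h2 h3
    subst hTeq
    exact ⟨E0, h2, h1, h3⟩
  exact key _ hT E hcons hEF hEni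

end Cfsg.Agent.Lib.Helper27.LG
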