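import Mathlib
import Cfsg.Agent.Lib.Helper27.AxZJ
import Cfsg.Agent.Lib.Helper27.LGConstrained
import Cfsg.Agent.Lib.Helper27.ModelMain
import Cfsg.Agent.Lib.Helper27.LG2Model

set_option autoImplicit false

/-! An axiomatic Glauberman–Thompson nilpotency criterion for fusion systems. -/

namespace Cfsg.Agent.Lib.Helper27.AxGT

open Cfsg Cfsg.FusionSystem Cfsg.Agent.Lib.Helper27 Cfsg.Agent.Lib.Helper27.LG
open Cfsg.Agent.Lib.Helper27.AxZJ
open scoped commutatorElement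

section tools

variable {Ω : Type*} [Group Ω] {S : Subgroup Ω} {G : Type*} [Group G]

/-- An element of the group normalizing the image of `R` induces an automorphism of `R` in the system. -/
theorem exists_aut_of_conj [Finite S] {E : FusionSystem S} {ι : S →* G} (hreal : E.IsRealizedBy ι)
    {R : Subgroup Ω} (hRS : R ≤ S) (g : G)
    (hg : ∀ x ∈ R, ∃ y ∈ R, ext1 ι y = g * ext1 ι x * g⁻¹) :
    ∃ α : MulAut R, IsIso E (α : R ≃* R) ∧
      ∀ x : R, ext1 ι ((α x : R) : Ω) = g * ext1 ι x * g⁻¹ := by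
  have hinj := hreal.1
  haveI : Finite ↥R := Finite.of_injective (Subgroup.inclusion hRS) (Subgroup.inclusion_injective hRS)
  have h : ∀ x ∈ R, g * ext1 ι x * g⁻¹ ∈ ι.range := by
    intro x hx
    obtain ⟨y, hy, hyx⟩ := hg x hx
    rw [← hyx]
    exact ext1_mem_range ι (hRS hy)
  have hα₀ := rconj_mem_hom hreal g hRS h
  have hα₀e := ext1_rconj hinj g hRS h
  have hα₀R : ∀ x : ↥R, rconj hinj g hRS h x ∈ R := by
    intro x
    obtain ⟨y, hy, hyx⟩ := hg x x.2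
    have h1 : rconj hinj g hRS h x = y := by
      apply ext1_inj hinj (rconj_mem hinj g hRS h x) (hRS hy)
      rw [hα₀e, hyx]
    rw [h1]
    exact hy
  have hbij : Function.Bijective ((rconj hinj g hRS h).codRestrict _ hα₀R) := by
    have hi : Function.Injective ((rconj hinj g hRS h).codRestrict _ hα₀R) := by
      intro a b hab
      have hab' : rconj hinj g hRS h a = rconj hinj g hRS h b :=
        congrArg (fun w : ↥R => (w : Ω)) hab
      exact E.injective_of_mem hα₀ hab'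
    exact ⟨hi, Finite.injective_iff_surjective.mp hi⟩
  obtain ⟨α, hαdef⟩ : ∃ α : MulAut ↥R,
      α = MulEquiv.ofBijective ((rconj hinj g hRS h).codRestrict _ hα₀R) hbij := ⟨_, rfl⟩
  refine ⟨α, ?_, ?_⟩
  · have h3 : R.subtype.comp (α : _ ≃* _).toMonoidHom = rconj hinj g hRS h := by
      ext x
      rw [hαdef]
      rfl
    unfold IsIso
    rw [h3]
    exact hα₀
  · intro x
    rw [← hα₀e x, hαdef]
    rfl

/-- The family on `↥S` corresponding to a family of subgroups of `S`. -/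
def famS (S : Subgroup Ω) (𝒜 : Set (Subgroup Ω)) : Set (Subgroup ↥S) := {A | A.map S.subtype ∈ 𝒜}

theorem subgroupOf_mem_famS {𝒜 : Set (Subgroup Ω)} {A : Subgroup Ω} (hA : A ∈ 𝒜) (hAS : A ≤ S) :
    A.subgroupOf S ∈ famS S 𝒜 := by
  unfold famS
  rw [Set.mem_ofPred_eq, Subgroup.subgroupOf_map_subtype, inf_eq_left.2 hAS]
  exact hA

theorem mem_Iof_famS_iff {𝒜 : Set (Subgroup Ω)} (h𝒜S : ∀ A ∈ 𝒜, A ≤ S) (R : Subgroup ↥S) (x : ↥S) :
    x ∈ Iof (famS S 𝒜) R ↔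
      (x : Ω) ∈ (⨅ A ∈ {A : Subgroup Ω | A ∈ 𝒜 ∧ A ≤ R.map S.subtype}, A) := by
  rw [mem_Iof]
  simp only [Subgroup.mem_iInf, Set.mem_ofPred_eq]
  constructor
  · rintro h A ⟨hA, hAR⟩
    have h1 := h (A.subgroupOf S) (subgroupOf_mem_famS hA (h𝒜S A hA)) ?_
    · exact Subgroup.mem_subgroupOf.1 h1
    · intro a ha
      obtain ⟨r, hr, hra⟩ := hAR (Subgroup.mem_subgroupOf.1 ha)
      have : r = a := Subtype.ext hra
      rw [← this]
      exact hr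
  · intro h A hA hAR
    have h1 := h (A.map S.subtype) ⟨hA, Subgroup.map_mono hAR⟩
    obtain ⟨a, ha, hax⟩ := h1
    have : a = x := Subtype.ext hax
    rw [← this]
    exact ha

/-- The replacement axiom on `↥S`. -/
theorem hrep_famS {𝒜 : Set (Subgroup Ω)} (h𝒜S : ∀ A ∈ 𝒜, A ≤ S)
    (hrep : ∀ B : Subgroup Ω, B ≤ S → ⁅⁅B, B⁆, B⁆ = ⊥ → (∃ A ∈ 𝒜, ⁅B, B⁆ ≤ A ∧ ¬ B ≤ A) →
      ∃ A ∈ 𝒜, ⁅B, B⁆ ≤ A ∧ ¬ B ≤ A ∧ B ≤ Subgroup.normalizer (A : Set Ω))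
    (B : Subgroup ↥S) (hcl : ⁅⁅B, B⁆, B⁆ = ⊥)
    (hex : ∃ A ∈ famS S 𝒜, ⁅B, B⁆ ≤ A ∧ ¬ B ≤ A) :
    ∃ A ∈ famS S 𝒜, ⁅B, B⁆ ≤ A ∧ ¬ B ≤ A ∧ B ≤ Subgroup.normalizer (A : Set ↥S) := by
  have hθ : Function.Injective S.subtype := S.subtype_injective
  obtain ⟨A, hA, hBA, hnBA⟩ := hex
  have hBS : B.map S.subtype ≤ S := by
    rintro _ ⟨b, -, rfl⟩
    exact b.2
  have hc1 : ⁅B.map S.subtype, B.map S.subtype⁆ = (⁅B, B⁆).map S.subtype := by
    rw [Subgroup.map_commutator]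
  have hc2 : ⁅⁅B.map S.subtype, B.map S.subtype⁆, B.map S.subtype⁆ = ⊥ := by
    rw [hc1, ← Subgroup.map_commutator, hcl, Subgroup.map_bot]
  obtain ⟨A₁, hA₁, h3, h4, h5⟩ := hrep (B.map S.subtype) hBS hc2
    ⟨A.map S.subtype, hA, by rw [hc1]; exact Subgroup.map_mono hBA,
      fun h => hnBA ((Subgroup.map_le_map_iff_of_injective hθ).1 h)⟩
  have hA₁S := h𝒜S A₁ hA₁
  have hmap : (A₁.subgroupOf S).map S.subtype = A₁ := by
    rw [Subgroup.subgroupOf_map_subtype, inf_eq_left.2 hA₁S]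
  refine ⟨A₁.subgroupOf S, subgroupOf_mem_famS hA₁ hA₁S, ?_, ?_, ?_⟩
  · rw [← Subgroup.map_le_map_iff_of_injective hθ, hmap, ← hc1]
    exact h3
  · intro h
    apply h4
    rw [← hmap]
    exact Subgroup.map_mono h
  · intro b hb
    have hb' : (b : Ω) ∈ Subgroup.normalizer (A₁ : Set Ω) := h5 ⟨b, hb, rfl⟩
    rw [Subgroup.mem_normalizer_iff] at hb' ⊢
    intro a
    rw [Subgroup.mem_subgroupOf, Subgroup.mem_subgroupOf]
    exact hb' a

/-- Normal subgroups of a subgroup `H₀` are normalized by the elements of `H₀`. -/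
theorem coe_mem_normalizer_map {H₀ : Subgroup G} (X : Subgroup ↥H₀) (hX : X.Normal) (h : ↥H₀) :
    (h : G) ∈ Subgroup.normalizer ((X.map H₀.subtype : Subgroup G) : Set G) := by
  rw [Subgroup.mem_normalizer_iff]
  intro y
  constructor
  · rintro ⟨x, hx, rfl⟩
    exact ⟨h * x * h⁻¹, hX.conj_mem x hx h, by simp⟩
  · rintro ⟨x, hx, hxy⟩
    refine ⟨h⁻¹ * x * h, ?_, ?_⟩
    · have := hX.conj_mem x hx h⁻¹
      simpa using this
    · have h1 : (x : G) = (h : G) * y * (h : G)⁻¹ := hxy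
      simp only [Subgroup.coe_subtype, Subgroup.coe_mul, Subgroup.coe_inv, h1]
      group

end tools

section main

universe u

variable {Ω : Type u} [Group Ω] {S : Subgroup Ω} [Finite S] {p : ℕ} [Fact p.Prime]

/-- The main step: in a non-inner saturated system (`p` odd), the intersection of a family of abelian subgroups
satisfying the invariance and replacement axioms is bad. -/
theorem bad_of_family (hS : IsPGroup p S) (F : FusionSystem S) (hF : F.IsSaturated p) (hp : p ≠ 2)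
    (𝒜 : Set (Subgroup Ω)) (h𝒜 : ∀ A ∈ 𝒜, A ≤ S ∧ IsMulCommutative ↥A) (hne : 𝒜.Nonempty)
    (hinv : ∀ Q : Subgroup Ω, Q ≤ S → (∃ A ∈ 𝒜, A ≤ Q) → ∀ α ∈ F.autGroup Q, ∀ x : ↥Q,
      (x : Ω) ∈ (⨅ A ∈ {A : Subgroup Ω | A ∈ 𝒜 ∧ A ≤ Q}, A) →
      (((α : MulAut ↥Q) x : ↥Q) : Ω) ∈ (⨅ A ∈ {A : Subgroup Ω | A ∈ 𝒜 ∧ A ≤ Q}, A))
    (hrep : ∀ B : Subgroup Ω, B ≤ S → ⁅⁅B, B⁆, B⁆ = ⊥ → (∃ A ∈ 𝒜, ⁅B, B⁆ ≤ A ∧ ¬ B ≤ A) →
      ∃ A ∈ 𝒜, ⁅B, B⁆ ≤ A ∧ ¬ B ≤ A ∧ B ≤ Subgroup.normalizer (A : Set Ω))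
    (hNI : NonInner p F) : Bad p F (⨅ A ∈ 𝒜, A) := by
  have h𝒜S : ∀ A ∈ 𝒜, A ≤ S := fun A hA => (h𝒜 A hA).1
  obtain ⟨E, hEF, hcons, hEni⟩ := exists_constrained_subsystem (good_ZJ hp) hS hF hNI
  obtain ⟨G, _, ι, hmodel⟩ := Mod.exists_model hS hcons
  haveI := hmodel.1
  have hreal := hmodel.2.1
  have hinj := hreal.1
  obtain ⟨Sy, hSy⟩ := hmodel.2.2.1
  have hcen := hmodel.2.2.2
  -- the image of `S` is a proper subgroup
  have hrne : ι.range ≠ ⊤ := by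
    intro htop
    apply not_npc_of_nonInner hreal hS hEni
    apply Cfsg.Agent.Lib.Helper13.hasNormalPComplement_of_isPGroup
    have h1 : IsPGroup p ↥(⊤ : Subgroup G) := by rw [← htop, ← hSy]; exact Sy.isPGroup'
    exact h1.of_equiv Subgroup.topEquiv
  -- a minimal overgroup
  obtain ⟨H₀, hH₀, hmin⟩ := Set.exists_min_image {M : Subgroup G | ι.range < M}
    (fun M => Nat.card M) (Set.toFinite _) ⟨⊤, lt_top_iff_ne_top.2 hrne⟩
  have hle : ι.range ≤ H₀ := (show ι.range < H₀ from hH₀).le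
  have hmin' : ∀ M : Subgroup G, ι.range < M → M ≤ H₀ → M = H₀ :=
    fun M hM hMH => Subgroup.eq_of_le_of_card_ge hMH (hmin M hM)
  obtain ⟨ι₀, hι₀def⟩ : ∃ ι₀ : S →* ↥H₀, ι₀ = ι.codRestrict H₀ (fun s => hle ⟨s, rfl⟩) := ⟨_, rfl⟩
  have hι₀ : ∀ s : S, ((ι₀ s : ↥H₀) : G) = ι s := fun s => by rw [hι₀def]; rfl
  have hinj₀ : Function.Injective ι₀ := by
    intro a b hab
    apply hinj
    rw [← hι₀ a, ← hι₀ b, hab]
  have hcomp : H₀.subtype.comp ι₀ = ι := MonoidHom.ext (fun s => hι₀ s)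
  have hSyle : (Sy : Subgroup G) ≤ H₀ := by rw [hSy]; exact hle
  obtain ⟨P₀, hP₀def⟩ : ∃ P₀ : Sylow p ↥H₀, P₀ = Sy.subtype hSyle := ⟨_, rfl⟩
  have hmemr : ∀ y : ↥H₀, y ∈ ι₀.range ↔ (y : G) ∈ ι.range := by
    intro y
    constructor
    · rintro ⟨s, rfl⟩
      exact ⟨s, (hι₀ s).symm⟩
    · rintro ⟨s, hs⟩
      exact ⟨s, Subtype.ext ((hι₀ s).trans hs)⟩
  have hP₀ : (P₀ : Subgroup ↥H₀) = ι₀.range := by
    ext y
    rw [hP₀def, Sylow.coe_subtype, Subgroup.mem_subgroupOf, hSy, hmemr]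
  -- the Sylow subgroup is maximal in `H₀`
  have hcoat : IsCoatom (P₀ : Subgroup ↥H₀) := by
    constructor
    · intro htop
      apply (show ι.range < H₀ from hH₀).not_ge
      intro y hy
      have h1 : (⟨y, hy⟩ : ↥H₀) ∈ (P₀ : Subgroup ↥H₀) := by rw [htop]; trivial
      rw [hP₀, hmemr] at h1
      exact h1
    · intro M₀ hM₀
      have h1 : ι.range < M₀.map H₀.subtype := by
        refine lt_of_le_not_ge ?_ ?_
        · rintro _ ⟨s, rfl⟩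
          refine ⟨ι₀ s, hM₀.le ?_, hι₀ s⟩
          rw [hP₀]
          exact ⟨s, rfl⟩
        · intro hcon
          apply hM₀.not_ge
          intro m hm
          rw [hP₀, hmemr]
          exact hcon ⟨m, hm, rfl⟩
      have h2 := hmin' _ h1 (Subgroup.map_subtype_le M₀)
      rw [eq_top_iff]
      intro y _
      have h3 : (y : G) ∈ M₀.map H₀.subtype := by rw [h2]; exact y.2
      obtain ⟨m, hm, hmy⟩ := h3
      have : m = y := Subtype.ext hmy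
      rw [← this]
      exact hm
  -- `H₀` is again of characteristic `p`
  have hQG : pCore p G ≤ ι.range := LG2.model_pCore_le_range hmodel
  have hQ₀ : (pCore p G).subgroupOf H₀ ≤ pCore p ↥H₀ := by
    haveI := Cfsg.H5.pCore_normal p G
    exact Cfsg.H5.le_pCore inferInstance (Cfsg.H5.pCore_isPGroup p G).comap_subtype
  have hcent₀ : Subgroup.centralizer ((pCore p ↥H₀ : Subgroup ↥H₀) : Set ↥H₀) ≤ pCore p ↥H₀ := by
    intro x hx
    have h2 : (x : G) ∈ Subgroup.centralizer ((pCore p G : Subgroup G) : Set G) := by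
      rw [Subgroup.mem_centralizer_iff]
      intro q hq
      have h3 := (Subgroup.mem_centralizer_iff.1 hx) ⟨q, hle (hQG hq)⟩
        (hQ₀ (Subgroup.mem_subgroupOf.2 hq))
      exact congrArg Subtype.val h3
    exact hQ₀ (Subgroup.mem_subgroupOf.2 (hcen h2))
  -- the axiomatic ZJ-theorem in `H₀`
  have hnorm : ((Iof (famS S 𝒜) ⊤).map ι₀).Normal := by
    refine normal_of_embedding hp ι₀ hinj₀ P₀ hP₀ hcoat hcent₀ (famS S 𝒜) ?_ ?_ ?_ ?_
    · intro A hA x hx y hy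
      have hcomm := (h𝒜 _ hA).2
      have h1 := hcomm.is_comm.comm (⟨(x : Ω), ⟨x, hx, rfl⟩⟩ : ↥(A.map S.subtype))
        ⟨(y : Ω), ⟨y, hy, rfl⟩⟩
      have h2 := congrArg Subtype.val h1
      exact Subtype.ext h2
    · obtain ⟨A₀, hA₀⟩ := hne
      exact ⟨A₀.subgroupOf S, subgroupOf_mem_famS hA₀ (h𝒜S A₀ hA₀)⟩
    · rintro R ⟨A, hA, hAR⟩ g hg x hx
      have hRS : R.map S.subtype ≤ S := by
        rintro _ ⟨r, -, rfl⟩
        exact r.2
      have hconj : ∀ x ∈ R.map S.subtype, ∃ y ∈ R.map S.subtype,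
          ext1 ι y = (g : G) * ext1 ι x * (g : G)⁻¹ := by
        rintro _ ⟨r, hr, rfl⟩
        have h1 : g * ι₀ r * g⁻¹ ∈ R.map ι₀ :=
          (Subgroup.mem_normalizer_iff.1 hg _).1 ⟨r, hr, rfl⟩
        obtain ⟨r', hr', hrr⟩ := h1
        refine ⟨(r' : Ω), ⟨r', hr', rfl⟩, ?_⟩
        rw [Subgroup.coe_subtype, ext1_coe, ext1_coe, ← hι₀ r', hrr, ← hι₀ r]
        rfl
      obtain ⟨α, hαiso, hαe⟩ := exists_aut_of_conj hreal hRS (g : G) hconj
      have hαF : α ∈ F.autGroup (R.map S.subtype) :=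
        (mem_autGroup_iff F hRS α).2 (hEF _ hαiso)
      have hxI := (mem_Iof_famS_iff h𝒜S R x).1 hx
      have hxR : (x : Ω) ∈ R.map S.subtype := ⟨x, hAR (Iof_le hA hAR hx), rfl⟩
      have h4 := hinv (R.map S.subtype) hRS ⟨A.map S.subtype, hA, Subgroup.map_mono hAR⟩ α hαF
        ⟨(x : Ω), hxR⟩ hxI
      refine ⟨⟨((α ⟨(x : Ω), hxR⟩ : ↥(R.map S.subtype)) : Ω), hRS (α ⟨(x : Ω), hxR⟩).2⟩,
        (mem_Iof_famS_iff h𝒜S R _).2 h4, ?_⟩
      apply Subtype.ext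
      rw [hι₀]
      have h5 := hαe ⟨(x : Ω), hxR⟩
      rw [ext1_of_mem ι (hRS (α ⟨(x : Ω), hxR⟩).2), ext1_coe] at h5
      rw [h5, ← hι₀ x]
      rfl
    · exact fun B hcl hex => hrep_famS h𝒜S hrep B hcl hex
  -- the intersection of the family
  obtain ⟨A₀, hA₀⟩ := hne
  have hDS : (⨅ A ∈ 𝒜, A) ≤ S := iInf₂_le_of_le A₀ hA₀ (h𝒜S A₀ hA₀)
  have htopmap : (⊤ : Subgroup ↥S).map S.subtype = S := by
    rw [← MonoidHom.range_eq_map, Subgroup.range_subtype]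
  have hDeq : (⨅ A ∈ 𝒜, A).subgroupOf S = Iof (famS S 𝒜) ⊤ := by
    ext x
    rw [Subgroup.mem_subgroupOf, mem_Iof_famS_iff h𝒜S ⊤ x]
    simp only [Subgroup.mem_iInf, Set.mem_ofPred_eq]
    constructor
    · intro h A hA
      exact h A hA.1
    · intro h A hA
      exact h A ⟨hA, by rw [htopmap]; exact h𝒜S A hA⟩
  have hDmap : ((⨅ A ∈ 𝒜, A).subgroupOf S).map ι =
      ((Iof (famS S 𝒜) ⊤).map ι₀).map H₀.subtype := by
    rw [hDeq, Subgroup.map_map, hcomp]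
  haveI : Finite ↥(⨅ A ∈ 𝒜, A) :=
    Finite.of_injective (Subgroup.inclusion hDS) (Subgroup.inclusion_injective hDS)
  have hDn : normalizerIn S (⨅ A ∈ 𝒜, A) = S := by
    apply le_antisymm inf_le_left
    intro s hs
    refine ⟨hs, ?_⟩
    apply mem_normalizer_of_conj_mem
    intro x hx
    have h1 := coe_mem_normalizer_map _ hnorm ⟨ι ⟨s, hs⟩, hle ⟨_, rfl⟩⟩
    rw [← hDmap] at h1
    have h2 : ι ⟨x, hDS hx⟩ ∈ ((⨅ A ∈ 𝒜, A).subgroupOf S).map ι :=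
      ⟨⟨x, hDS hx⟩, Subgroup.mem_subgroupOf.2 hx, rfl⟩
    obtain ⟨d, hd, hdx⟩ := (Subgroup.mem_normalizer_iff.1 h1 _).1 h2
    have h3 : d = ⟨s, hs⟩ * ⟨x, hDS hx⟩ * ⟨s, hs⟩⁻¹ := by
      apply hinj
      rw [hdx, map_mul, map_mul, map_inv]
    have h4 : (d : Ω) = s * x * s⁻¹ := by rw [h3]; rfl
    rw [← h4]
    exact Subgroup.mem_subgroupOf.1 hd
  -- an element of order prime to `p`
  have hnotp : ¬ IsPGroup p ↥H₀ := by
    intro hH
    have h1 := Sy.is_maximal' hH hSyle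
    rw [hSy] at h1
    exact (show ι.range < H₀ from hH₀).ne h1.symm
  obtain ⟨g₀, hg₀⟩ : ∃ g₀ : ↥H₀, ∀ k : ℕ, g₀ ^ p ^ k ≠ 1 := by
    by_contra hcon
    push Not at hcon
    exact hnotp hcon
  obtain ⟨k, n, hn, hkn⟩ := exists_pow_pprime p g₀
  have hord : (orderOf ((g₀ ^ p ^ k : ↥H₀) : G)).Coprime p := by
    rw [Subgroup.orderOf_coe]
    exact Nat.Coprime.coprime_dvd_left (orderOf_dvd_of_pow_eq_one hkn) hn
  have hQ : (pCore p ↥H₀).map H₀.subtype ≤ ι.range := by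
    rintro _ ⟨q, hq, rfl⟩
    have h1 := Cfsg.Agent.Lib.Helper16.pCore_le_sylow P₀ hq
    rw [hP₀, hmemr] at h1
    exact h1
  have hgW : ((g₀ ^ p ^ k : ↥H₀) : G) ∈ Subgroup.normalizer
      ((((⨅ A ∈ 𝒜, A).subgroupOf S).map ι : Subgroup G) : Set G) := by
    rw [hDmap]
    exact coe_mem_normalizer_map _ hnorm _
  have hgQ : ((g₀ ^ p ^ k : ↥H₀) : G) ∈ Subgroup.normalizer
      (((pCore p ↥H₀).map H₀.subtype : Subgroup G) : Set G) :=
    coe_mem_normalizer_map _ (Cfsg.H5.pCore_normal p ↥H₀) _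
  have hgc : ((g₀ ^ p ^ k : ↥H₀) : G) ∉ Subgroup.centralizer
      (((pCore p ↥H₀).map H₀.subtype : Subgroup G) : Set G) := by
    intro hc
    have h1 : g₀ ^ p ^ k ∈ Subgroup.centralizer ((pCore p ↥H₀ : Subgroup ↥H₀) : Set ↥H₀) := by
      rw [Subgroup.mem_centralizer_iff]
      intro q hq
      have h2 := (Subgroup.mem_centralizer_iff.1 hc) (q : G) ⟨q, hq, rfl⟩
      exact Subtype.ext h2
    have h2 := hcent₀ h1
    obtain ⟨j, hj⟩ := (Cfsg.H5.pCore_isPGroup p ↥H₀) ⟨g₀ ^ p ^ k, h2⟩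
    have h3 : (g₀ ^ p ^ k) ^ p ^ j = 1 := by
      have := congrArg Subtype.val hj
      simpa using this
    have h4 : (g₀ ^ p ^ k) ^ n ∈ (⊥ : Subgroup ↥H₀) := by rw [hkn]; exact Subgroup.one_mem _
    have h5 : (g₀ ^ p ^ k) ^ p ^ j ∈ (⊥ : Subgroup ↥H₀) := by rw [h3]; exact Subgroup.one_mem _
    have h6 := pow_mem_of_coprime ⊥ h4 h5 (Nat.Coprime.pow_right j hn)
    exact hg₀ k (Subgroup.mem_bot.1 h6)
  exact (bad_of_conj hreal hDS hDn hQ hgW hgQ hord hgc).of_le le_rfl hEF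

end main

end Cfsg.Agent.Lib.Helper27.AxGT
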