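import Mathlib
import Cfsg.Agent.Lib.Helper10.OmegaCentralize
import Cfsg.Agent.Lib.Helper10.Basic
import Cfsg.Agent.Lib.Helper27.FusionAlperin

set_option autoImplicit false

/-! An Alperin-type lemma: if `B` is maximal among the abelian subgroups of exponent dividing `e`
(`e = p` odd, or `e = p ^ 2`) of a normal subgroup `N` of the `p`-group `T` which are normal in `T`, then every
element `x` of `C_N(B)` with `x ^ e = 1` lies in `B`. -/

namespace Cfsg.Agent.Lib.Helper27.BGH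

open scoped commutatorElement
open Cfsg Cfsg.FusionSystem Cfsg.Agent.Lib.Helper27

variable {Ω : Type*} [Group Ω]

/-- The stabilizer in `T` of the coset `w B`. -/
def St (T B : Subgroup Ω) (hTB : T ≤ Subgroup.normalizer (B : Set Ω)) (w : Ω) : Subgroup Ω where
  carrier := {t | t ∈ T ∧ t * w * t⁻¹ * w⁻¹ ∈ B}
  one_mem' := ⟨T.one_mem, by simp⟩
  mul_mem' := by
    rintro t s ⟨ht, htw⟩ ⟨hs, hsw⟩
    refine ⟨T.mul_mem ht hs, ?_⟩
    have h1 : t * (s * w * s⁻¹ * w⁻¹) * t⁻¹ ∈ B := (Subgroup.mem_normalizer_iff.mp (hTB ht) _).mp hsw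
    have : t * s * w * (t * s)⁻¹ * w⁻¹ = t * (s * w * s⁻¹ * w⁻¹) * t⁻¹ * (t * w * t⁻¹ * w⁻¹) := by group
    rw [this]
    exact B.mul_mem h1 htw
  inv_mem' := by
    rintro t ⟨ht, htw⟩
    refine ⟨T.inv_mem ht, ?_⟩
    have h1 : t⁻¹ * (t * w * t⁻¹ * w⁻¹)⁻¹ * t⁻¹⁻¹ ∈ B :=
      (Subgroup.mem_normalizer_iff.mp (hTB (T.inv_mem ht)) _).mp (B.inv_mem htw)
    have : t⁻¹ * w * t⁻¹⁻¹ * w⁻¹ = t⁻¹ * (t * w * t⁻¹ * w⁻¹)⁻¹ * t⁻¹⁻¹ := by group
    rw [this]
    exact h1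

theorem mem_St {T B : Subgroup Ω} {hTB : T ≤ Subgroup.normalizer (B : Set Ω)} {w t : Ω} :
    t ∈ St T B hTB w ↔ t ∈ T ∧ t * w * t⁻¹ * w⁻¹ ∈ B := Iff.rfl

theorem St_le {T B : Subgroup Ω} (hTB : T ≤ Subgroup.normalizer (B : Set Ω)) (w : Ω) : St T B hTB w ≤ T :=
  fun _ h => h.1

/-- Candidates: elements of `C_N(B)` of order dividing `e` whose `p`-th power lies in `B`. -/
def Cand (p e : ℕ) (N B : Subgroup Ω) (w : Ω) : Prop :=
  w ∈ N ∧ (∀ b ∈ B, b * w = w * b) ∧ w ^ p ∈ B ∧ w ^ e = 1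

theorem Cand.conj {p e : ℕ} {N B : Subgroup Ω} {w g : Ω} (h : Cand p e N B w)
    (hgN : g ∈ Subgroup.normalizer (N : Set Ω)) (hgB : g ∈ Subgroup.normalizer (B : Set Ω)) :
    Cand p e N B (g * w * g⁻¹) := by
  obtain ⟨h1, h2, h3, h4⟩ := h
  refine ⟨(Subgroup.mem_normalizer_iff.mp hgN _).mp h1, fun b hb => ?_, ?_, ?_⟩
  · have hb' : g⁻¹ * b * g ∈ B := (Subgroup.mem_normalizer_iff''.mp hgB _).mp hb
    have h5 := h2 _ hb'
    calc b * (g * w * g⁻¹) = g * ((g⁻¹ * b * g) * w) * g⁻¹ := by group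
      _ = g * (w * (g⁻¹ * b * g)) * g⁻¹ := by rw [h5]
      _ = g * w * g⁻¹ * b := by group
  · rw [conj_pow]
    exact (Subgroup.mem_normalizer_iff.mp hgB _).mp h3
  · rw [conj_pow, h4]
    group

theorem Cand.inv {p e : ℕ} {N B : Subgroup Ω} {w : Ω} (h : Cand p e N B w) : Cand p e N B w⁻¹ := by
  obtain ⟨h1, h2, h3, h4⟩ := h
  refine ⟨N.inv_mem h1, fun b hb => ?_, ?_, ?_⟩
  · have := h2 b hb
    calc b * w⁻¹ = w⁻¹ * (w * b) * w⁻¹ := by group
      _ = w⁻¹ * (b * w) * w⁻¹ := by rw [this]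
      _ = w⁻¹ * b := by group
  · rw [inv_pow]
    exact B.inv_mem h3
  · rw [inv_pow, h4, inv_one]

theorem Cand.mul {p e : ℕ} {N B : Subgroup Ω} {w₁ w₂ : Ω} (h₁ : Cand p e N B w₁) (h₂ : Cand p e N B w₂)
    (hc : ⁅w₂, w₁⁆ ∈ B) (hpe2 : p ∣ e * (e - 1) / 2) : Cand p e N B (w₁ * w₂) := by
  obtain ⟨h11, h12, h13, h14⟩ := h₁
  obtain ⟨h21, h22, h23, h24⟩ := h₂
  have hcx : ⁅w₂, w₁⁆ * w₁ = w₁ * ⁅w₂, w₁⁆ := h12 _ hc
  have hcy : ⁅w₂, w₁⁆ * w₂ = w₂ * ⁅w₂, w₁⁆ := h22 _ hc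
  have hcp : ⁅w₂, w₁⁆ ^ p = 1 := by
    rw [← Cfsg.Agent.Lib.Helper10.commutatorElement_pow_right hcx p, commutatorElement_def]
    have := h22 _ h13
    calc w₂ * w₁ ^ p * w₂⁻¹ * (w₁ ^ p)⁻¹ = (w₂ * w₁ ^ p) * w₂⁻¹ * (w₁ ^ p)⁻¹ := by group
      _ = (w₁ ^ p * w₂) * w₂⁻¹ * (w₁ ^ p)⁻¹ := by rw [this]
      _ = 1 := by group
  refine ⟨N.mul_mem h11 h21, fun b hb => ?_, ?_, ?_⟩
  · calc b * (w₁ * w₂) = (b * w₁) * w₂ := by group
      _ = (w₁ * b) * w₂ := by rw [h12 b hb]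
      _ = w₁ * (b * w₂) := by group
      _ = w₁ * (w₂ * b) := by rw [h22 b hb]
      _ = w₁ * w₂ * b := by group
  · rw [Cfsg.Agent.Lib.Helper10.mul_pow_of_commutator_central hcx hcy p]
    exact B.mul_mem (B.mul_mem h13 h23) (B.pow_mem hc _)
  · rw [Cfsg.Agent.Lib.Helper10.mul_pow_of_commutator_central hcx hcy e, h14, h24, one_mul, one_mul]
    obtain ⟨k, hk⟩ := hpe2
    rw [hk, pow_mul, hcp, one_pow]

/-- The sequence of iterated commutators with `g`. -/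
def useq (g w : Ω) : ℕ → Ω
  | 0 => w
  | (k + 1) => g * useq g w k * g⁻¹ * (useq g w k)⁻¹

theorem useq_mem_lcs {T : Subgroup Ω} {g w : Ω} (hg : g ∈ T) (hw : w ∈ T) :
    ∀ k : ℕ, useq g w k ∈ T.lowerCentralSeries k := by
  intro k
  induction k with
  | zero => exact hw
  | succ k ih =>
    rw [Subgroup.lowerCentralSeries_succ]
    have h1 : ⁅useq g w k, g⁆ ∈ ⁅T.lowerCentralSeries k, T⁆ := Subgroup.commutator_mem_commutator ih hg
    have h2 : useq g w (k + 1) = ⁅useq g w k, g⁆⁻¹ := by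
      show g * useq g w k * g⁻¹ * (useq g w k)⁻¹ = _
      rw [commutatorElement_def]
      group
    rw [h2]
    exact Subgroup.inv_mem _ h1

theorem mem_of_maximal_small {p : ℕ} [Fact p.Prime] {T N B : Subgroup Ω} [Finite T] (hT : IsPGroup p T)
    (hNT : N ≤ T) (hTN : T ≤ Subgroup.normalizer (N : Set Ω)) (hBN : B ≤ N)
    (hTB : T ≤ Subgroup.normalizer (B : Set Ω)) (hBc : ∀ a ∈ B, ∀ b ∈ B, a * b = b * a)
    {e : ℕ} (he : (e = p ∧ p ≠ 2) ∨ e = p ^ 2) (hBe : ∀ b ∈ B, b ^ e = 1)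
    (hmax : ∀ B' : Subgroup Ω, B ≤ B' → B' ≤ N → T ≤ Subgroup.normalizer (B' : Set Ω) →
      (∀ a ∈ B', ∀ b ∈ B', a * b = b * a) → (∀ b ∈ B', b ^ e = 1) → B' = B) :
    ∀ x ∈ N, (∀ b ∈ B, b * x = x * b) → x ^ e = 1 → x ∈ B := by
  have hp : p.Prime := Fact.out
  have hpe : p ∣ e := by
    rcases he with ⟨h, -⟩ | h
    · rw [h]
    · rw [h]; exact dvd_pow_self p (by norm_num)
  have hpe2 : p ∣ e * (e - 1) / 2 := by
    rcases he with ⟨h, h2⟩ | h
    · rw [h]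
      obtain ⟨k, hk⟩ := hp.odd_of_ne_two h2
      have : p * (p - 1) / 2 = p * k := by
        have : p - 1 = 2 * k := by omega
        rw [this, ← mul_assoc, mul_comm p 2, mul_assoc, Nat.mul_div_cancel_left _ (by norm_num : 0 < 2)]
      rw [this]
      exact dvd_mul_right p k
    · rw [h]
      have h2 : 2 ∣ p * (p ^ 2 - 1) := by
        rcases Nat.even_or_odd p with hev | hodd
        · exact Dvd.dvd.mul_right hev.two_dvd _
        · have : Odd (p ^ 2) := hodd.pow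
          obtain ⟨m, hm⟩ := this
          exact Dvd.dvd.mul_left ⟨m, by omega⟩ _
      obtain ⟨m, hm⟩ := h2
      have : p ^ 2 * (p ^ 2 - 1) / 2 = p * m := by
        have : p ^ 2 * (p ^ 2 - 1) = 2 * (p * m) := by
          have h3 : p ^ 2 * (p ^ 2 - 1) = p * (p * (p ^ 2 - 1)) := by rw [pow_two, mul_assoc]
          rw [h3, hm]; ring
        rw [this, Nat.mul_div_cancel_left _ (by norm_num : 0 < 2)]
      rw [this]
      exact dvd_mul_right p m
  intro x hxN hxB hxe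
  by_contra hxnB
  -- a candidate outside `B`
  obtain ⟨y, hy, hynB⟩ : ∃ y, Cand p e N B y ∧ y ∉ B := by
    rcases he with ⟨h, -⟩ | h
    · refine ⟨x, ⟨hxN, hxB, ?_, hxe⟩, hxnB⟩
      rw [← h, hxe]
      exact B.one_mem
    · by_cases hxp : x ^ p ∈ B
      · exact ⟨x, ⟨hxN, hxB, hxp, hxe⟩, hxnB⟩
      · refine ⟨x ^ p, ⟨N.pow_mem hxN p, fun b hb => ?_, ?_, ?_⟩, hxp⟩
        · exact ((show Commute b x from hxB b hb).pow_right p).eq
        · rw [← pow_mul, ← pow_two, ← h, hxe]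
          exact B.one_mem
        · rw [← pow_mul, mul_comm, pow_mul, hxe, one_pow]
  -- climb to a candidate fixed by `T`
  have key : ∀ n : ℕ, ∀ w : Ω, Cand p e N B w → w ∉ B → Nat.card T - Nat.card (St T B hTB w) = n →
      ∃ w', Cand p e N B w' ∧ w' ∉ B ∧ ∀ t ∈ T, t * w' * t⁻¹ * w'⁻¹ ∈ B := by
    intro n
    induction n using Nat.strong_induction_on with
    | _ n IH =>
    intro w hw hwB hn
    by_cases hall : T ≤ St T B hTB w
    · exact ⟨w, hw, hwB, fun t ht => (hall ht).2⟩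
    · have hlt : St T B hTB w < T := lt_of_le_of_ne (St_le hTB w) (fun h => hall h.ge)
      obtain ⟨g, hgN, hgR⟩ := exists_mem_normalizerIn_not_mem hT hlt
      have hgT : g ∈ T := hgN.1
      have hgn : g ∈ Subgroup.normalizer ((St T B hTB w : Subgroup Ω) : Set Ω) := hgN.2
      -- the subgroup `W`
      let W : Subgroup Ω :=
        { carrier := {w' | Cand p e N B w' ∧ w' ∈ St T B hTB w ∧
            ∀ t ∈ St T B hTB w, t * w' * t⁻¹ * w'⁻¹ ∈ B}
          one_mem' := by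
            refine ⟨⟨N.one_mem, fun b _ => by rw [mul_one, one_mul], by rw [one_pow]; exact B.one_mem,
              one_pow _⟩, Subgroup.one_mem _, fun t _ => ?_⟩
            have : t * 1 * t⁻¹ * (1 : Ω)⁻¹ = 1 := by group
            rw [this]
            exact B.one_mem
          mul_mem' := by
            rintro w₁ w₂ ⟨hc1, hs1, hf1⟩ ⟨hc2, hs2, hf2⟩
            have hc : ⁅w₂, w₁⁆ ∈ B := by
              have := hf1 w₂ hs2
              rwa [← commutatorElement_def] at this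
            refine ⟨hc1.mul hc2 hc hpe2, Subgroup.mul_mem _ hs1 hs2, fun t ht => ?_⟩
            have h1 := hf1 t ht
            have h2 := hf2 t ht
            have h3 : w₁ * (t * w₂ * t⁻¹ * w₂⁻¹) * w₁⁻¹ = t * w₂ * t⁻¹ * w₂⁻¹ := by
              have := hc1.2.1 _ h2
              calc w₁ * (t * w₂ * t⁻¹ * w₂⁻¹) * w₁⁻¹ = (t * w₂ * t⁻¹ * w₂⁻¹) * w₁ * w₁⁻¹ := by rw [← this]
                _ = t * w₂ * t⁻¹ * w₂⁻¹ := by group
            have : t * (w₁ * w₂) * t⁻¹ * (w₁ * w₂)⁻¹ =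
                (t * w₁ * t⁻¹ * w₁⁻¹) * (w₁ * (t * w₂ * t⁻¹ * w₂⁻¹) * w₁⁻¹) := by group
            rw [this, h3]
            exact B.mul_mem h1 h2
          inv_mem' := by
            rintro w₁ ⟨hc1, hs1, hf1⟩
            refine ⟨hc1.inv, Subgroup.inv_mem _ hs1, fun t ht => ?_⟩
            have h1 := B.inv_mem (hf1 t ht)
            have h3 : w₁⁻¹ * (t * w₁ * t⁻¹ * w₁⁻¹)⁻¹ * w₁ = (t * w₁ * t⁻¹ * w₁⁻¹)⁻¹ := by
              have := hc1.2.1 _ h1
              calc w₁⁻¹ * (t * w₁ * t⁻¹ * w₁⁻¹)⁻¹ * w₁ = w₁⁻¹ * ((t * w₁ * t⁻¹ * w₁⁻¹)⁻¹ * w₁) := by group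
                _ = w₁⁻¹ * (w₁ * (t * w₁ * t⁻¹ * w₁⁻¹)⁻¹) := by rw [this]
                _ = (t * w₁ * t⁻¹ * w₁⁻¹)⁻¹ := by group
            have : t * w₁⁻¹ * t⁻¹ * w₁⁻¹⁻¹ = w₁⁻¹ * (t * w₁ * t⁻¹ * w₁⁻¹)⁻¹ * w₁ := by group
            rw [this, h3]
            exact h1 }
      have hWmem : ∀ w', w' ∈ W ↔ Cand p e N B w' ∧ w' ∈ St T B hTB w ∧
          ∀ t ∈ St T B hTB w, t * w' * t⁻¹ * w'⁻¹ ∈ B := fun _ => Iff.rfl
      have hwW : w ∈ W := by
        rw [hWmem]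
        refine ⟨hw, ⟨hNT hw.1, ?_⟩, fun t ht => ht.2⟩
        have : w * w * w⁻¹ * w⁻¹ = 1 := by group
        rw [this]
        exact B.one_mem
      have hconjW : ∀ u ∈ W, g * u * g⁻¹ ∈ W := by
        intro u hu
        rw [hWmem] at hu ⊢
        obtain ⟨hc, hs, hf⟩ := hu
        refine ⟨hc.conj (hTN hgT) (hTB hgT), (Subgroup.mem_normalizer_iff.mp hgn _).mp hs, fun t ht => ?_⟩
        have ht' : g⁻¹ * t * g ∈ St T B hTB w := (Subgroup.mem_normalizer_iff''.mp hgn _).mp ht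
        have h1 := hf _ ht'
        have h2 : g * ((g⁻¹ * t * g) * u * (g⁻¹ * t * g)⁻¹ * u⁻¹) * g⁻¹ ∈ B :=
          (Subgroup.mem_normalizer_iff.mp (hTB hgT) _).mp h1
        have : t * (g * u * g⁻¹) * t⁻¹ * (g * u * g⁻¹)⁻¹ =
            g * ((g⁻¹ * t * g) * u * (g⁻¹ * t * g)⁻¹ * u⁻¹) * g⁻¹ := by group
        rw [this]
        exact h2
      have huW : ∀ k : ℕ, useq g w k ∈ W := by
        intro k
        induction k with
        | zero => exact hwW
        | succ k ih =>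
          show g * useq g w k * g⁻¹ * (useq g w k)⁻¹ ∈ W
          exact W.mul_mem (hconjW _ ih) (W.inv_mem ih)
      -- the sequence reaches `B`
      have hex : ∃ k : ℕ, useq g w k ∈ B := by
        haveI : Group.IsNilpotent T := hT.isNilpotent
        obtain ⟨m, hm⟩ := (Subgroup.isNilpotent_iff_lowerCentralSeries (S := T)).mp inferInstance
        refine ⟨m, ?_⟩
        have := useq_mem_lcs hgT (hNT hw.1) m
        rw [hm, Subgroup.mem_bot] at this
        rw [this]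
        exact B.one_mem
      classical
      have hk0 : Nat.find hex ≠ 0 := by
        intro h0
        have := Nat.find_spec hex
        rw [h0] at this
        exact hwB this
      obtain ⟨k, hk⟩ := Nat.exists_eq_succ_of_ne_zero hk0
      have hw'B : useq g w k ∉ B := Nat.find_min hex (by rw [hk]; exact Nat.lt_succ_self k)
      have hgw' : g * useq g w k * g⁻¹ * (useq g w k)⁻¹ ∈ B := by
        have := Nat.find_spec hex
        rw [hk] at this
        exact this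
      have hw'W := (hWmem _).mp (huW k)
      have hle : St T B hTB w ≤ St T B hTB (useq g w k) := fun t ht => ⟨ht.1, hw'W.2.2 t ht⟩
      have hgSt : g ∈ St T B hTB (useq g w k) := ⟨hgT, hgw'⟩
      have hlt' : St T B hTB w < St T B hTB (useq g w k) :=
        lt_of_le_of_ne hle (fun h => hgR (h ▸ hgSt))
      haveI : Finite (St T B hTB (useq g w k)) :=
        Finite.of_injective (Subgroup.inclusion (St_le hTB _)) (Subgroup.inclusion_injective _)
      have hc1 : Nat.card (St T B hTB w) < Nat.card (St T B hTB (useq g w k)) := by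
        refine lt_of_le_of_ne (Subgroup.card_le_of_le hle) (fun heq => hlt'.ne ?_)
        exact Subgroup.eq_of_le_of_card_ge hle heq.ge
      have hc2 : Nat.card (St T B hTB (useq g w k)) ≤ Nat.card T := Subgroup.card_le_of_le (St_le hTB _)
      exact IH (Nat.card T - Nat.card (St T B hTB (useq g w k))) (by omega) _ hw'W.1 hw'B rfl
  obtain ⟨w', hw', hw'B, hfix⟩ := key _ y hy hynB rfl
  -- the bigger subgroup
  have hcomm : ∀ a ∈ B, ∀ b ∈ Subgroup.zpowers w', a * b = b * a := by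
    rintro a ha b ⟨k, rfl⟩
    exact ((show Commute a w' from hw'.2.1 a ha).zpow_right k).eq
  have hmem : ∀ x : Ω, x ∈ B ⊔ Subgroup.zpowers w' ↔ ∃ a ∈ B, ∃ b ∈ Subgroup.zpowers w', x = a * b :=
    fun x => Cfsg.Agent.Lib.Helper10.mem_sup_of_commute B _ hcomm
  have hB2 := hmax (B ⊔ Subgroup.zpowers w') le_sup_left
    (sup_le hBN (Subgroup.zpowers_le.mpr hw'.1)) ?_ ?_ ?_
  · apply hw'B
    rw [← hB2]
    exact (le_sup_right : Subgroup.zpowers w' ≤ B ⊔ Subgroup.zpowers w') (Subgroup.mem_zpowers w')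
  · -- normalized by `T`
    intro t ht
    haveI : Finite ↥(B ⊔ Subgroup.zpowers w') := by
      have hle : B ⊔ Subgroup.zpowers w' ≤ T := sup_le (hBN.trans hNT) (Subgroup.zpowers_le.mpr (hNT hw'.1))
      exact Finite.of_injective (Subgroup.inclusion hle) (Subgroup.inclusion_injective hle)
    apply mem_normalizer_of_conj_mem
    intro z hz
    obtain ⟨a, ha, b, ⟨k, rfl⟩, rfl⟩ := (hmem z).mp hz
    have h1 : t * a * t⁻¹ ∈ B := (Subgroup.mem_normalizer_iff.mp (hTB ht) _).mp ha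
    have h2 : t * w' * t⁻¹ ∈ B ⊔ Subgroup.zpowers w' := by
      have : t * w' * t⁻¹ = (t * w' * t⁻¹ * w'⁻¹) * w' := by group
      rw [this]
      exact Subgroup.mul_mem _ (le_sup_left (a := B) (hfix t ht))
        ((le_sup_right : Subgroup.zpowers w' ≤ B ⊔ Subgroup.zpowers w') (Subgroup.mem_zpowers w'))
    have h3 : t * w' ^ k * t⁻¹ = (t * w' * t⁻¹) ^ k := (conj_zpow).symm
    have : t * (a * w' ^ k) * t⁻¹ = (t * a * t⁻¹) * (t * w' ^ k * t⁻¹) := by group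
    rw [this, h3]
    exact Subgroup.mul_mem _ (le_sup_left (a := B) h1) (Subgroup.zpow_mem _ h2 k)
  · -- commutative
    intro u hu v hv
    obtain ⟨a1, ha1, b1, hb1, rfl⟩ := (hmem u).mp hu
    obtain ⟨a2, ha2, b2, hb2, rfl⟩ := (hmem v).mp hv
    have c1 : a1 * a2 = a2 * a1 := hBc a1 ha1 a2 ha2
    have c2 : b1 * b2 = b2 * b1 := by
      obtain ⟨i, rfl⟩ := hb1
      obtain ⟨j, rfl⟩ := hb2
      exact ((Commute.refl w').zpow_zpow i j).eq
    have c3 := hcomm a2 ha2 b1 hb1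
    have c4 := hcomm a1 ha1 b2 hb2
    calc a1 * b1 * (a2 * b2) = a1 * (b1 * a2) * b2 := by group
      _ = a1 * (a2 * b1) * b2 := by rw [c3]
      _ = (a1 * a2) * (b1 * b2) := by group
      _ = (a2 * a1) * (b2 * b1) := by rw [c1, c2]
      _ = a2 * (a1 * b2) * b1 := by group
      _ = a2 * (b2 * a1) * b1 := by rw [c4]
      _ = a2 * b2 * (a1 * b1) := by group
  · -- exponent
    intro z hz
    obtain ⟨a, ha, b, ⟨k, rfl⟩, rfl⟩ := (hmem z).mp hz
    have hc : Commute a (w' ^ k) := hcomm a ha _ ⟨k, rfl⟩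
    rw [hc.mul_pow, hBe a ha, one_mul, ← zpow_natCast, ← zpow_mul, mul_comm, zpow_mul, zpow_natCast, hw'.2.2.2,
      one_zpow]

end Cfsg.Agent.Lib.Helper27.BGH
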