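import Mathlib
import Cfsg.Agent.Lib.Helper10.OmegaCentralize
import Cfsg.Agent.Lib.Helper20.OmegaTwo
import Cfsg.Agent.Lib.Helper17.Coprime
import Cfsg.Agent.Lib.Helper27.FusionSat

set_option autoImplicit false

/-! A `p'`-automorphism `θ` of a `p`-group `P` with `[P, θ] ≤ N`, centralizing a subgroup `B ≤ N` which contains all
elements of small order of `C_N(B)`, is trivial. -/

namespace Cfsg.Agent.Lib.Helper27.BGH

open scoped commutatorElement
open Cfsg Cfsg.FusionSystem Cfsg.Agent.Lib.Helper27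

/-- Internal form. -/
theorem commute_of_fix_small {X : Type*} [Group X] [Finite X] {p : ℕ} [Fact p.Prime] {a : X}
    (ha : (orderOf a).Coprime p) {Nn Bb : Subgroup X} (hN : IsPGroup p Nn) (hBN : Bb ≤ Nn)
    (haN : a ∈ Subgroup.normalizer (Nn : Set X)) (haB : ∀ b ∈ Bb, a * b = b * a)
    {e : ℕ} (he : (e = p ∧ p ≠ 2) ∨ (e = 4 ∧ p = 2))
    (hΩ : ∀ x ∈ Nn, (∀ b ∈ Bb, b * x = x * b) → x ^ e = 1 → a * x = x * a) :
    ∀ x ∈ Nn, a * x = x * a := by
  obtain ⟨Cc, hCc⟩ : ∃ Cc : Subgroup X, Cc = Nn ⊓ Subgroup.centralizer (Bb : Set X) := ⟨_, rfl⟩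
  have hmemC : ∀ x : X, x ∈ Cc ↔ x ∈ Nn ∧ ∀ b ∈ Bb, b * x = x * b := by
    intro x
    rw [hCc, Subgroup.mem_inf, Subgroup.mem_centralizer_iff]
    rfl
  have hCp : IsPGroup p Cc := by rw [hCc]; exact hN.to_le inf_le_left
  have haC : Subgroup.zpowers a ≤ Subgroup.normalizer (Cc : Set X) := by
    rw [Subgroup.zpowers_le]
    apply mem_normalizer_of_conj_mem
    intro x hx
    rw [hmemC] at hx ⊢
    refine ⟨(Subgroup.mem_normalizer_iff.mp haN _).mp hx.1, fun b hb => ?_⟩
    have h1 := haB b hb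
    have h2 := hx.2 b hb
    have h3 : a⁻¹ * b = b * a⁻¹ := by
      calc a⁻¹ * b = a⁻¹ * (b * a) * a⁻¹ := by group
        _ = a⁻¹ * (a * b) * a⁻¹ := by rw [h1]
        _ = b * a⁻¹ := by group
    calc b * (a * x * a⁻¹) = (b * a) * x * a⁻¹ := by group
      _ = (a * b) * x * a⁻¹ := by rw [h1]
      _ = a * (b * x) * a⁻¹ := by group
      _ = a * (x * b) * a⁻¹ := by rw [h2]
      _ = a * x * (b * a⁻¹) := by group
      _ = a * x * (a⁻¹ * b) := by rw [h3]
      _ = a * x * a⁻¹ * b := by group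
  have hzp : ∀ x : X, a * x = x * a → ∀ a' ∈ Subgroup.zpowers a, a' * x = x * a' := by
    rintro x hx a' ⟨k, rfl⟩
    exact ((show Commute a x from hx).zpow_left k).eq
  have h1 : Subgroup.zpowers a ≤ Subgroup.centralizer (Cc : Set X) := by
    rcases he with ⟨h, h2⟩ | ⟨h, h2⟩
    · apply Cfsg.Agent.Lib.Helper10.le_centralizer_of_centralizes_order_p p h2 (Subgroup.zpowers a) Cc
        (by rw [Nat.card_zpowers]; exact ha) hCp haC
      intro x hx hox
      have hx' := (hmemC x).mp hx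
      apply hzp
      apply hΩ x hx'.1 hx'.2
      rw [h, ← hox, pow_orderOf_eq_one]
    · subst h2
      apply Cfsg.Agent.Lib.Helper20.OmegaTwo.le_centralizer_of_centralizes_pow_four (Subgroup.zpowers a)
        (by rw [Nat.card_zpowers]; exact Nat.coprime_two_right.mp ha) _ Cc rfl hCp haC
      intro x hx hx4
      have hx' := (hmemC x).mp hx
      apply hzp
      apply hΩ x hx'.1 hx'.2
      rw [h, hx4]
  have haCc : ∀ x ∈ Cc, a * x = x * a := by
    intro x hx
    have := Subgroup.mem_centralizer_iff.mp (h1 (Subgroup.mem_zpowers a)) x hx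
    exact this.symm
  exact Cfsg.Agent.Lib.Helper17.thompson_AxB (hN.to_le hBN) ha haB (Nat.card Nn) Nn rfl hN haN
    (hBN.trans Subgroup.le_normalizer) (fun x hx hxb => haCc x ((hmemC x).mpr ⟨hx, hxb⟩))

/-- Automorphism form, inside an ambient group containing `P` and `Aut(P)`. -/
theorem aut_eq_one_of_fix_small_aux {P X : Type*} [Group P] [Group X] [Finite X] (il : P →* X)
    (ir : MulAut P →* X) (hil : Function.Injective il) (hir : Function.Injective ir)
    (hconj' : ∀ (θ : MulAut P) (u : P), ir θ * il u * (ir θ)⁻¹ = il (θ u))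
    {p : ℕ} [Fact p.Prime] (hP : IsPGroup p P)
    (θ : MulAut P) (hθ : (orderOf θ).Coprime p) {N B : Subgroup P} (hBN : B ≤ N)
    (hθN : ∀ x : P, x⁻¹ * θ x ∈ N) (hθB : ∀ b ∈ B, θ b = b)
    {e : ℕ} (he : (e = p ∧ p ≠ 2) ∨ (e = 4 ∧ p = 2))
    (hΩ : ∀ x ∈ N, (∀ b ∈ B, b * x = x * b) → x ^ e = 1 → x ∈ B) : θ = 1 := by
  have hconj : ∀ u : P, ir θ * il u * (ir θ)⁻¹ = il (θ u) := hconj' θ
  have hcomm_iff : ∀ u : P, ir θ * il u = il u * ir θ ↔ θ u = u := by
    intro u
    constructor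
    · intro h
      apply hil
      rw [← hconj u, h]
      group
    · intro h
      have := hconj u
      rw [h] at this
      calc ir θ * il u = (ir θ * il u * (ir θ)⁻¹) * ir θ := by group
        _ = il u * ir θ := by rw [this]
  have ha : (orderOf (ir θ)).Coprime p := by
    rw [orderOf_injective ir hir θ]; exact hθ
  have hθN' : ∀ x ∈ N, θ x ∈ N := by
    intro x hx
    have : θ x = x * (x⁻¹ * θ x) := by group
    rw [this]
    exact N.mul_mem hx (hθN x)
  have hNp : IsPGroup p (N.map il) := (hP.to_subgroup N).map il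
  have haN : ir θ ∈ Subgroup.normalizer ((N.map il : Subgroup X) : Set X) := by
    apply mem_normalizer_of_conj_mem
    rintro _ ⟨n, hn, rfl⟩
    rw [hconj]
    exact ⟨θ n, hθN' n hn, rfl⟩
  have haB : ∀ b ∈ B.map il, ir θ * b = b * ir θ := by
    rintro _ ⟨b, hb, rfl⟩
    exact (hcomm_iff b).mpr (hθB b hb)
  have h1 : ∀ x ∈ N.map il, ir θ * x = x * ir θ := by
    apply commute_of_fix_small ha hNp (Subgroup.map_mono hBN) haN haB he
    rintro _ ⟨n, hn, rfl⟩ hnb hne
    rw [hcomm_iff]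
    apply hθB
    apply hΩ n hn
    · intro b hb
      apply hil
      rw [map_mul, map_mul]
      exact hnb _ ⟨b, hb, rfl⟩
    · apply hil
      rw [map_pow, hne, map_one]
  have hPp : IsPGroup p (il.range) := by
    rw [MonoidHom.range_eq_map]
    exact (hP.to_subgroup ⊤).map il
  have h2 : ∀ x ∈ il.range, ir θ * x = x * ir θ := by
    apply Cfsg.Agent.Lib.Helper17.stability_centralizes hPp ha (P₁ := N.map il)
    · rintro _ ⟨n, -, rfl⟩
      exact ⟨n, rfl⟩
    · rintro _ ⟨u, rfl⟩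
      have h3 : ⁅il u, ir θ⁆ = il (u * θ u⁻¹) := by
        rw [commutatorElement_def, map_mul, ← hconj u⁻¹, map_inv]
        group
      rw [h3]
      refine ⟨u * θ u⁻¹, ?_, rfl⟩
      have := hθN u⁻¹
      rwa [inv_inv] at this
    · exact h1
  ext u
  exact (hcomm_iff u).mp (h2 _ ⟨u, rfl⟩)

/-- Automorphism form. -/
theorem aut_eq_one_of_fix_small {P : Type*} [Group P] [Finite P] {p : ℕ} [Fact p.Prime] (hP : IsPGroup p P)
    (θ : MulAut P) (hθ : (orderOf θ).Coprime p) {N B : Subgroup P} (hBN : B ≤ N)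
    (hθN : ∀ x : P, x⁻¹ * θ x ∈ N) (hθB : ∀ b ∈ B, θ b = b)
    {e : ℕ} (he : (e = p ∧ p ≠ 2) ∨ (e = 4 ∧ p = 2))
    (hΩ : ∀ x ∈ N, (∀ b ∈ B, b * x = x * b) → x ^ e = 1 → x ∈ B) : θ = 1 := by
  haveI : Finite (P ⋊[MonoidHom.id (MulAut P)] MulAut P) :=
    Finite.of_equiv _ (SemidirectProduct.equivProd (φ := MonoidHom.id (MulAut P))).symm
  refine aut_eq_one_of_fix_small_aux (X := P ⋊[MonoidHom.id (MulAut P)] MulAut P)
    SemidirectProduct.inl SemidirectProduct.inr SemidirectProduct.inl_injective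
    SemidirectProduct.inr_injective ?_ hP θ hθ hBN hθN hθB he hΩ
  intro θ' u
  have := SemidirectProduct.inl_aut (φ := MonoidHom.id (MulAut P)) θ' u
  rw [map_inv] at this
  exact this.symm

end Cfsg.Agent.Lib.Helper27.BGH
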