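import Mathlib
import Cfsg.Agent.Lib.Helper27.BGHGroupA
import Cfsg.Agent.Lib.Helper27.BGHGroupB
import Cfsg.Agent.Lib.Helper27.LGBad
import Cfsg.Agent.H26.PPowerNormal

set_option autoImplicit false

/-! Small-exponent abelian subgroups of the hyperfocal subgroup control fusion (Benson–Grodal–Henke):
the local analysis at a fully normalized subgroup `P`. -/

namespace Cfsg.Agent.Lib.Helper27.BGH

open scoped commutatorElement
open Cfsg Cfsg.FusionSystem Cfsg.Agent.Lib.Helper27 Cfsg.Agent.Lib.Helper27.LG Cfsg.Agent.H26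

variable {Ω : Type*} [Group Ω] {S : Subgroup Ω}

/-- The data: `B` is maximal among the abelian subgroups of exponent dividing `e` of `P ∩ hyp(F)` which are normal in
`N_S(P)`. -/
structure Data (p e : ℕ) (F : FusionSystem S) (P B : Subgroup Ω) : Prop where
  hPS : P ≤ S
  hBP : B ≤ P
  hBH : B ≤ F.hyperfocalSubgroup p
  hBc : ∀ a ∈ B, ∀ b ∈ B, a * b = b * a
  hBe : ∀ b ∈ B, b ^ e = 1
  hBn : normalizerIn S P ≤ Subgroup.normalizer (B : Set Ω)
  hmax : ∀ B' : Subgroup Ω, B ≤ B' → B' ≤ P → B' ≤ F.hyperfocalSubgroup p →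
    (∀ a ∈ B', ∀ b ∈ B', a * b = b * a) → (∀ b ∈ B', b ^ e = 1) →
    normalizerIn S P ≤ Subgroup.normalizer (B' : Set Ω) → B' = B

variable [Finite S] {p : ℕ} [Fact p.Prime]

theorem hyperfocal_normalizer (F : FusionSystem S) (p : ℕ) :
    S ≤ Subgroup.normalizer ((F.hyperfocalSubgroup p : Subgroup Ω) : Set Ω) := by
  intro s hs
  rw [Subgroup.mem_normalizer_iff]
  intro y
  constructor
  · intro hy
    exact hyperfocal_conj_mem F p hs hy
  · intro hy
    have := hyperfocal_conj_mem F p (S.inv_mem hs) hy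
    have e1 : s⁻¹ * (s * y * s⁻¹) * s⁻¹⁻¹ = y := by group
    rwa [e1] at this

theorem hyperfocal_stronglyClosed (hS : IsPGroup p S) {F : FusionSystem S} (hF : F.IsSaturated p) :
    F.StronglyClosed (F.hyperfocalSubgroup p) := by
  apply stronglyClosed_of_hyperfocal_le hS hF (Cfsg.Agent.H26.hyperfocal_le F p) _ le_rfl
  constructor
  intro n hn g
  rw [Subgroup.mem_subgroupOf] at hn ⊢
  exact hyperfocal_conj_mem F p g.2 hn

theorem Data.small_mem {e : ℕ} {F : FusionSystem S} {P B : Subgroup Ω} (hS : IsPGroup p S)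
    (he : (e = p ∧ p ≠ 2) ∨ (e = 4 ∧ p = 2)) (D : Data p e F P B) :
    ∀ x ∈ P ⊓ F.hyperfocalSubgroup p, (∀ b ∈ B, b * x = x * b) → x ^ e = 1 → x ∈ B := by
  have hTS : normalizerIn S P ≤ S := inf_le_left
  haveI : Finite ↥(normalizerIn S P) :=
    Finite.of_injective (Subgroup.inclusion hTS) (Subgroup.inclusion_injective hTS)
  have hT : IsPGroup p ↥(normalizerIn S P) :=
    hS.of_injective (Subgroup.inclusion hTS) (Subgroup.inclusion_injective hTS)
  have he' : (e = p ∧ p ≠ 2) ∨ e = p ^ 2 := by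
    rcases he with h | ⟨h, h2⟩
    · exact Or.inl h
    · right; rw [h, h2]; norm_num
  apply mem_of_maximal_small hT (inf_le_left.trans (le_normalizerIn D.hPS)) _ (le_inf D.hBP D.hBH) D.hBn D.hBc he'
    D.hBe
  · intro B' hBB' hB'N hTB' hc hexp
    exact D.hmax B' hBB' (hB'N.trans inf_le_left) (hB'N.trans inf_le_right) hc hexp hTB'
  · intro t ht
    have h1 : t ∈ Subgroup.normalizer (P : Set Ω) := ht.2
    have h2 : t ∈ Subgroup.normalizer ((F.hyperfocalSubgroup p : Subgroup Ω) : Set Ω) :=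
      hyperfocal_normalizer F p ht.1
    rw [Subgroup.mem_normalizer_iff] at h1 h2 ⊢
    intro y
    rw [Subgroup.mem_inf, Subgroup.mem_inf, ← h1 y, ← h2 y]

/-- A `p'`-automorphism in `Aut_F(P)` centralizing `B` is trivial. -/
theorem Data.coprime_fix_eq_one {e : ℕ} {F : FusionSystem S} {P B : Subgroup Ω} (hS : IsPGroup p S)
    (he : (e = p ∧ p ≠ 2) ∨ (e = 4 ∧ p = 2)) (D : Data p e F P B)
    {θ : MulAut P} (hθ : θ ∈ F.autGroup P) (hcop : (orderOf θ).Coprime p)
    (hfix : ∀ b : P, (b : Ω) ∈ B → θ b = b) : θ = 1 := by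
  have hPS := D.hPS
  haveI : Finite P := Finite.of_injective (Subgroup.inclusion hPS) (Subgroup.inclusion_injective hPS)
  have hPp : IsPGroup p P := hS.of_injective (Subgroup.inclusion hPS) (Subgroup.inclusion_injective hPS)
  apply aut_eq_one_of_fix_small hPp θ hcop (N := (P ⊓ F.hyperfocalSubgroup p).subgroupOf P)
    (B := B.subgroupOf P) _ _ _ he
  · intro x hx hxb hxe
    rw [Subgroup.mem_subgroupOf] at hx ⊢
    apply D.small_mem hS he (x : Ω) hx
    · intro b hb
      have := hxb ⟨b, D.hBP hb⟩ (Subgroup.mem_subgroupOf.mpr hb)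
      exact congrArg Subtype.val this
    · have := congrArg Subtype.val hxe
      simpa using this
  · intro x hx
    rw [Subgroup.mem_subgroupOf] at hx ⊢
    exact ⟨D.hBP hx, D.hBH hx⟩
  · intro x
    rw [Subgroup.mem_subgroupOf]
    refine ⟨(x⁻¹ * θ x).2, ?_⟩
    have hres : (⟨θ, hθ⟩ : F.autGroup P) ∈ pResidual p (F.autGroup P) := by
      apply Subgroup.subset_closure
      show Nat.Coprime (orderOf (⟨θ, hθ⟩ : F.autGroup P)) p
      rw [← Subgroup.orderOf_coe]
      exact hcop
    have := mem_hyperfocal F p hPS ⟨θ, hθ⟩ hres x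
    simpa using this
  · intro b hb
    exact hfix b (Subgroup.mem_subgroupOf.mp hb)

/-- An automorphism in `Aut_F(P)` centralizing `B` is induced by an element of `S`. -/
theorem Data.fix_mem_autInducedBy {e : ℕ} {F : FusionSystem S} {P B : Subgroup Ω} (hS : IsPGroup p S)
    (he : (e = p ∧ p ≠ 2) ∨ (e = 4 ∧ p = 2)) (D : Data p e F P B) (hfa : F.IsFullyAutomized p P)
    {θ : MulAut P} (hθ : θ ∈ F.autGroup P) (hfix : ∀ b : P, (b : Ω) ∈ B → θ b = b) :
    θ ∈ autInducedBy S P := by
  classical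
  have hPS := D.hPS
  haveI : Finite P := Finite.of_injective (Subgroup.inclusion hPS) (Subgroup.inclusion_injective hPS)
  obtain ⟨-, R, hR⟩ := hfa
  -- the centralizer of `B` in `Aut_F(P)`
  let C : Subgroup (F.autGroup P) :=
    { carrier := {γ | ∀ b : P, (b : Ω) ∈ B → (γ : MulAut P) b = b}
      one_mem' := fun b _ => rfl
      mul_mem' := by
        intro γ δ hγ hδ b hb
        show (γ : MulAut P) ((δ : MulAut P) b) = b
        rw [hδ b hb, hγ b hb]
      inv_mem' := by
        intro γ hγ b hb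
        show ((γ : MulAut P)⁻¹) b = b
        have := hγ b hb
        rw [MulAut.inv_apply, MulEquiv.symm_apply_eq]
        exact this.symm }
  have hCmem : ∀ γ : F.autGroup P, γ ∈ C ↔ ∀ b : P, (b : Ω) ∈ B → (γ : MulAut P) b = b := fun _ => Iff.rfl
  have hCp : IsPGroup p C := by
    rintro ⟨γ, hγ⟩
    obtain ⟨k, n, hn, hpow⟩ := exists_pow_pprime p γ
    refine ⟨k, ?_⟩
    have hmem : γ ^ p ^ k ∈ C := C.pow_mem hγ _
    have h1 : ((γ ^ p ^ k : F.autGroup P) : MulAut P) = 1 := by
      apply D.coprime_fix_eq_one hS he (γ ^ p ^ k).2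
      · have hdvd : orderOf ((γ ^ p ^ k : F.autGroup P) : MulAut P) ∣ n := by
          apply orderOf_dvd_of_pow_eq_one
          have := congrArg Subtype.val hpow
          simpa using this
        exact Nat.Coprime.coprime_dvd_left hdvd hn
      · exact (hCmem _).mp hmem
    apply Subtype.ext
    apply Subtype.ext
    simpa using h1
  -- `Aut_S(P)` normalizes it
  have hRC : (R : Subgroup (F.autGroup P)) ≤ Subgroup.normalizer ((C : Subgroup (F.autGroup P)) : Set (F.autGroup P)) := by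
    intro γ hγ
    rw [hR, Subgroup.mem_subgroupOf, mem_autInducedBy_iff] at hγ
    obtain ⟨g, hgS, hg⟩ := hγ
    have hgN : g ∈ normalizerIn S P := by
      refine ⟨hgS, ?_⟩
      apply mem_normalizer_of_conj_mem
      intro y hy
      rw [← hg ⟨y, hy⟩]
      exact ((γ : MulAut P) ⟨y, hy⟩).2
    have hgB := D.hBn hgN
    have hγB : ∀ b : P, (b : Ω) ∈ B → ((((γ : MulAut P)⁻¹) b : P) : Ω) ∈ B := by
      intro b hb
      have h1 := hg (((γ : MulAut P)⁻¹) b)
      rw [MulAut.apply_inv_self] at h1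
      have h2 : ((((γ : MulAut P)⁻¹) b : P) : Ω) = g⁻¹ * (b : Ω) * g := by
        rw [h1]; group
      rw [h2]
      exact (Subgroup.mem_normalizer_iff''.mp hgB _).mp hb
    have hγB' : ∀ b : P, (b : Ω) ∈ B → ((((γ : MulAut P)) b : P) : Ω) ∈ B := by
      intro b hb
      rw [hg b]
      exact (Subgroup.mem_normalizer_iff.mp hgB _).mp hb
    rw [Subgroup.mem_normalizer_iff]
    intro δ
    rw [hCmem, hCmem]
    constructor
    · intro hδ b hb
      show (γ : MulAut P) ((δ : MulAut P) (((γ : MulAut P)⁻¹) b)) = b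
      rw [hδ _ (hγB b hb), MulAut.apply_inv_self]
    · intro hδ b hb
      have := hδ _ (hγB' b hb)
      have h3 : (γ : MulAut P) ((δ : MulAut P) (((γ : MulAut P)⁻¹) ((γ : MulAut P) b))) = (γ : MulAut P) b := this
      rw [MulAut.inv_apply_self] at h3
      exact (γ : MulAut P).injective h3
  have hsup : IsPGroup p ((R : Subgroup (F.autGroup P)) ⊔ C : Subgroup (F.autGroup P)) :=
    R.isPGroup'.to_sup_of_normal_right' hCp hRC
  have heq := R.is_maximal' hsup le_sup_left
  have hCR : C ≤ (R : Subgroup (F.autGroup P)) := by rw [← heq]; exact le_sup_right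
  have : (⟨θ, hθ⟩ : F.autGroup P) ∈ (R : Subgroup (F.autGroup P)) := hCR ((hCmem _).mpr hfix)
  rw [hR, Subgroup.mem_subgroupOf] at this
  exact this

end Cfsg.Agent.Lib.Helper27.BGH
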