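import Mathlib
import Cfsg.Agent.Lib.Helper27.BGHFusionA

set_option autoImplicit false

/-! Small-exponent abelian subgroups of the hyperfocal subgroup control fusion (Benson–Grodal–Henke):
the main local step. -/

namespace Cfsg.Agent.Lib.Helper27.BGH

open scoped commutatorElement
open Cfsg Cfsg.FusionSystem Cfsg.Agent.Lib.Helper27 Cfsg.Agent.Lib.Helper27.LG Cfsg.Agent.H26

variable {Ω : Type*} [Group Ω] {S : Subgroup Ω} [Finite S] {p : ℕ} [Fact p.Prime]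

/-- Extension step for an isomorphism onto a receptive subgroup. -/
theorem isIso_of_extender_gt' {F E : FusionSystem S} {Q R : Subgroup Ω} (hrec : F.IsReceptive R)
    (IH : ∀ P' : Subgroup Ω, P' ≤ S → Nat.card R < Nat.card P' → F.Hom P' ⊆ E.Hom P')
    {ε : Q ≃* R} (hε : IsIso F ε)
    (hg : ∃ g ∈ extender S Q (R.subtype.comp ε.toMonoidHom), g ∉ Q) : IsIso E ε := by
  obtain ⟨g, hgN, hgR⟩ := hg
  obtain ⟨ψ, hψ, hψα⟩ := receptive_exists_extension hrec hε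
  have hle : Q ≤ extender S Q (R.subtype.comp ε.toMonoidHom) := le_extender_of_isIso hε
  have hNS : extender S Q (R.subtype.comp ε.toMonoidHom) ≤ S := extender_le_S _
  haveI : Finite ↥(extender S Q (R.subtype.comp ε.toMonoidHom)) :=
    Finite.of_injective (Subgroup.inclusion hNS) (Subgroup.inclusion_injective hNS)
  have hlt : Nat.card R < Nat.card ↥(extender S Q (R.subtype.comp ε.toMonoidHom)) := by
    rw [← Nat.card_congr ε.toEquiv]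
    refine lt_of_le_of_ne (Subgroup.card_le_of_le hle) (fun heq => hgR ?_)
    have := Subgroup.eq_of_le_of_card_ge hle heq.ge
    rw [this]; exact hgN
  have hψE := IH _ hNS hlt hψ
  exact isIso_of_hom_of_eq (hom_restrict E hle hψE) (fun x => (hψα x x.2 _).symm)

/-- The main local step: if `B` is receptive in `E`, then `Aut_F(P) ≤ Aut_E(P)`. -/
theorem core (hS : IsPGroup p S) {E F : FusionSystem S} (hF : F.IsSaturated p)
    (hEF : ∀ P : Subgroup Ω, E.Hom P ⊆ F.Hom P) {e : ℕ} (he : (e = p ∧ p ≠ 2) ∨ (e = 4 ∧ p = 2))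
    (hH : ∀ A B : Subgroup Ω, A ≤ F.hyperfocalSubgroup p → B ≤ F.hyperfocalSubgroup p →
      (∀ a ∈ A, ∀ b ∈ A, a * b = b * a) → (∀ a ∈ A, a ^ e = 1) →
      (∀ a ∈ B, ∀ b ∈ B, a * b = b * a) → (∀ a ∈ B, a ^ e = 1) → F.homSet A B ⊆ E.homSet A B)
    {P B : Subgroup Ω} (hfn : F.IsFullyNormalized P)
    (IH : ∀ P' : Subgroup Ω, P' ≤ S → Nat.card P < Nat.card P' → F.Hom P' ⊆ E.Hom P')
    (D : Data p e F P B) (hBrec : E.IsReceptive B) :
    ∀ α : P ≃* P, IsIso F α → IsIso E α := by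
  intro α hα
  have hPS := D.hPS
  have hBP := D.hBP
  have hBS : B ≤ S := hBP.trans hPS
  haveI : Finite P := Finite.of_injective (Subgroup.inclusion hPS) (Subgroup.inclusion_injective hPS)
  haveI : Finite B := Finite.of_injective (Subgroup.inclusion hBS) (Subgroup.inclusion_injective hBS)
  obtain ⟨hfa, hrec, -⟩ := fa_receptive_of_fullyNormalized hS hF hfn
  have hHsc := hyperfocal_stronglyClosed hS hF
  have hPB : P ≤ Subgroup.normalizer (B : Set Ω) := (le_normalizerIn hPS).trans D.hBn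
  have hEFiso : ∀ {Q R : Subgroup Ω} {ε : Q ≃* R}, IsIso E ε → IsIso F ε := fun h => hEF _ h
  -- the restriction of `α` to `B`
  obtain ⟨ψ, hψdef⟩ : ∃ ψ : B →* Ω, ψ = (P.subtype.comp α.toMonoidHom).comp (Subgroup.inclusion hBP) := ⟨_, rfl⟩
  have hψapp : ∀ b : B, ψ b = ((α ⟨b, hBP b.2⟩ : P) : Ω) := fun b => by rw [hψdef]; rfl
  have hψF : ψ ∈ F.Hom B := by rw [hψdef]; exact hom_restrict F hBP hα
  obtain ⟨B', hB'⟩ : ∃ B' : Subgroup Ω, ψ.range = B' := ⟨_, rfl⟩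
  have hB'mem : ∀ y : Ω, y ∈ B' ↔ ∃ b : B, ((α ⟨b, hBP b.2⟩ : P) : Ω) = y := by
    intro y
    rw [← hB', MonoidHom.mem_range]
    constructor
    · rintro ⟨b, rfl⟩; exact ⟨b, (hψapp b).symm⟩
    · rintro ⟨b, rfl⟩; exact ⟨b, hψapp b⟩
  have hB'P : B' ≤ P := by
    intro y hy
    obtain ⟨b, rfl⟩ := (hB'mem y).mp hy
    exact (α _).2
  have hB'H : B' ≤ F.hyperfocalSubgroup p := by
    intro y hy
    rw [← hB'] at hy
    obtain ⟨b, rfl⟩ := hy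
    exact hHsc.2 B D.hBH ψ hψF b
  obtain ⟨eψ, heψF, heψ⟩ := exists_isIso_of_hom F hψF hB'
  have hB'c : ∀ a ∈ B', ∀ b ∈ B', a * b = b * a := by
    intro a ha b hb
    obtain ⟨a', rfl⟩ : ∃ a' : B, ((eψ a' : B') : Ω) = a := ⟨eψ.symm ⟨a, ha⟩, by simp⟩
    obtain ⟨b', rfl⟩ : ∃ b' : B, ((eψ b' : B') : Ω) = b := ⟨eψ.symm ⟨b, hb⟩, by simp⟩
    have h1 : a' * b' = b' * a' := Subtype.ext (D.hBc a' a'.2 b' b'.2)
    have := congrArg (fun z => ((eψ z : B') : Ω)) h1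
    simpa using this
  have hB'e : ∀ a ∈ B', a ^ e = 1 := by
    intro a ha
    obtain ⟨a', rfl⟩ : ∃ a' : B, ((eψ a' : B') : Ω) = a := ⟨eψ.symm ⟨a, ha⟩, by simp⟩
    have h1 : a' ^ e = 1 := Subtype.ext (by simpa using D.hBe a' a'.2)
    have := congrArg (fun z => ((eψ z : B') : Ω)) h1
    simpa using this
  have hψE : ψ ∈ E.Hom B := by
    have h1 : ψ ∈ F.homSet B B' := ⟨hψF, fun x => by rw [← hB']; exact ⟨x, rfl⟩⟩
    exact (hH B B' D.hBH hB'H D.hBc D.hBe hB'c hB'e h1).1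
  have heψE : IsIso E eψ := isIso_of_hom_of_eq hψE heψ
  have hB'S : B' ≤ S := hB'P.trans hPS
  haveI : Finite B' := Finite.of_injective (Subgroup.inclusion hB'S) (Subgroup.inclusion_injective hB'S)
  -- extend the inverse to `P`
  obtain ⟨ρ₀, hρ₀, hρ₀eq⟩ := receptive_exists_extension hBrec heψE.symm
  have hαb : ∀ b : B, eψ b = ⟨((α ⟨b, hBP b.2⟩ : P) : Ω), (hB'mem _).mpr ⟨b, rfl⟩⟩ := by
    intro b
    apply Subtype.ext
    rw [heψ, hψapp]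
  have hPext : P ≤ extender S B' (B.subtype.comp eψ.symm.toMonoidHom) := by
    intro g hg
    rw [mem_extender_iff]
    have hgB' : g ∈ Subgroup.normalizer (B' : Set Ω) := by
      apply mem_normalizer_of_conj_mem
      intro y hy
      obtain ⟨b, rfl⟩ := (hB'mem y).mp hy
      -- `g = α h`
      obtain ⟨h, hh⟩ : ∃ h : P, α h = ⟨g, hg⟩ := ⟨α.symm ⟨g, hg⟩, by simp⟩
      have hhb : (h : Ω) * (b : Ω) * (h : Ω)⁻¹ ∈ B := (Subgroup.mem_normalizer_iff.mp (hPB h.2) _).mp b.2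
      rw [hB'mem]
      refine ⟨⟨_, hhb⟩, ?_⟩
      have h1 : (⟨(h : Ω) * (b : Ω) * (h : Ω)⁻¹, hBP hhb⟩ : P) = h * ⟨b, hBP b.2⟩ * h⁻¹ := Subtype.ext rfl
      rw [h1, map_mul, map_mul, map_inv, hh]
      rfl
    refine ⟨hPS hg, hgB', ((α.symm ⟨g, hg⟩ : P) : Ω), hPS (α.symm ⟨g, hg⟩).2, fun x hx => ?_⟩
    obtain ⟨b, hb⟩ : ∃ b : B, eψ b = x := ⟨eψ.symm x, by simp⟩
    obtain ⟨h, hh⟩ : ∃ h : P, α h = ⟨g, hg⟩ := ⟨α.symm ⟨g, hg⟩, by simp⟩
    have hh' : α.symm ⟨g, hg⟩ = h := by rw [← hh]; simp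
    have hhb : (h : Ω) * (b : Ω) * (h : Ω)⁻¹ ∈ B := (Subgroup.mem_normalizer_iff.mp (hPB h.2) _).mp b.2
    have h2 : eψ ⟨(h : Ω) * (b : Ω) * (h : Ω)⁻¹, hhb⟩ = ⟨g * (x : Ω) * g⁻¹, hx⟩ := by
      apply Subtype.ext
      rw [hαb]
      show ((α ⟨(h : Ω) * (b : Ω) * (h : Ω)⁻¹, _⟩ : P) : Ω) = g * (x : Ω) * g⁻¹
      have h1 : (⟨(h : Ω) * (b : Ω) * (h : Ω)⁻¹, hBP hhb⟩ : P) = h * ⟨b, hBP b.2⟩ * h⁻¹ := Subtype.ext rfl
      rw [h1, map_mul, map_mul, map_inv, hh, ← hb, hαb]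
      rfl
    rw [← h2, hh', ← hb]
    simp
  obtain ⟨ρ, hρdef⟩ : ∃ ρ : P →* Ω, ρ = ρ₀.comp (Subgroup.inclusion hPext) := ⟨_, rfl⟩
  have hρE : ρ ∈ E.Hom P := by rw [hρdef]; exact hom_restrict E hPext hρ₀
  have hρB' : ∀ (y : Ω) (hy : y ∈ B'), ρ ⟨y, hB'P hy⟩ = ((eψ.symm ⟨y, hy⟩ : B) : Ω) := by
    intro y hy
    rw [hρdef]
    exact hρ₀eq y hy (hPext (hB'P hy))
  obtain ⟨P₂, hP₂⟩ : ∃ P₂ : Subgroup Ω, ρ.range = P₂ := ⟨_, rfl⟩
  obtain ⟨eρ, heρE, heρ⟩ := exists_isIso_of_hom E hρE hP₂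
  -- the composite `θ`
  obtain ⟨θ, hθdef⟩ : ∃ θ : P ≃* P₂, θ = α.trans eρ := ⟨_, rfl⟩
  have hθF : IsIso F θ := by rw [hθdef]; exact hα.trans (hEFiso heρE)
  have hθapp : ∀ x : P, ((θ x : P₂) : Ω) = ρ (α x) := fun x => by rw [hθdef]; exact heρ (α x)
  have hθB : ∀ b : P, (b : Ω) ∈ B → ((θ b : P₂) : Ω) = b := by
    intro b hb
    rw [hθapp]
    have h1 : α b = ⟨((α b : P) : Ω), hB'P ((hB'mem _).mpr ⟨⟨b, hb⟩, rfl⟩)⟩ := rfl
    rw [h1, hρB' _ ((hB'mem _).mpr ⟨⟨b, hb⟩, rfl⟩)]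
    have h2 : (⟨((α b : P) : Ω), (hB'mem _).mpr ⟨⟨b, hb⟩, rfl⟩⟩ : B') = eψ ⟨b, hb⟩ := (hαb ⟨b, hb⟩).symm
    rw [h2]
    simp
  suffices hθE : IsIso E θ by
    have h1 : IsIso E (θ.trans eρ.symm) := hθE.trans heρE.symm
    have h2 : θ.trans eρ.symm = α := by
      rw [hθdef]
      ext x
      simp
    rwa [h2] at h1
  have hP₂S : P₂ ≤ S := hθF.le_right
  haveI : Finite P₂ := Finite.of_injective (Subgroup.inclusion hP₂S) (Subgroup.inclusion_injective hP₂S)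
  have hcard : Nat.card P₂ = Nat.card P := (Nat.card_congr θ.toEquiv).symm
  -- `θ` is the identity modulo `C_S(B)`
  have hmod : ∀ g : P, (g : Ω)⁻¹ * ((θ g : P₂) : Ω) ∈ centralizerIn S B := by
    intro g
    rw [mem_centralizerIn_iff]
    refine ⟨S.mul_mem (S.inv_mem (hPS g.2)) (hP₂S (θ g).2), fun b hb => ?_⟩
    have hgb : (g : Ω) * b * (g : Ω)⁻¹ ∈ B := (Subgroup.mem_normalizer_iff.mp (hPB g.2) _).mp hb
    have h1 := hθB ⟨(g : Ω) * b * (g : Ω)⁻¹, hBP hgb⟩ hgb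
    have h2 : (⟨(g : Ω) * b * (g : Ω)⁻¹, hBP hgb⟩ : P) = g * ⟨b, hBP hb⟩ * g⁻¹ := Subtype.ext rfl
    rw [h2, map_mul, map_mul, map_inv] at h1
    have h3 := hθB ⟨b, hBP hb⟩ hb
    have h4 : ((θ g : P₂) : Ω) * b * ((θ g : P₂) : Ω)⁻¹ = (g : Ω) * b * (g : Ω)⁻¹ := by
      have h1' : ((θ g : P₂) : Ω) * ((θ ⟨b, hBP hb⟩ : P₂) : Ω) * ((θ g : P₂) : Ω)⁻¹ =
          (g : Ω) * b * (g : Ω)⁻¹ := by
        simpa only [Subgroup.coe_mul, Subgroup.coe_inv] using h1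
      rw [h3] at h1'
      exact h1'
    calc b * ((g : Ω)⁻¹ * ((θ g : P₂) : Ω))
        = (g : Ω)⁻¹ * ((g : Ω) * b * (g : Ω)⁻¹) * ((θ g : P₂) : Ω) := by group
      _ = (g : Ω)⁻¹ * (((θ g : P₂) : Ω) * b * ((θ g : P₂) : Ω)⁻¹) * ((θ g : P₂) : Ω) := by rw [h4]
      _ = (g : Ω)⁻¹ * ((θ g : P₂) : Ω) * b := by group
  have hP₂B : P₂ ≤ Subgroup.normalizer (B : Set Ω) := by
    intro x hx
    apply mem_normalizer_of_conj_mem
    intro b hb
    obtain ⟨g, hg⟩ : ∃ g : P, θ g = ⟨x, hx⟩ := ⟨θ.symm ⟨x, hx⟩, by simp⟩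
    have hgb : (g : Ω) * b * (g : Ω)⁻¹ ∈ B := (Subgroup.mem_normalizer_iff.mp (hPB g.2) _).mp hb
    have h1 := hθB ⟨(g : Ω) * b * (g : Ω)⁻¹, hBP hgb⟩ hgb
    have h2 : (⟨(g : Ω) * b * (g : Ω)⁻¹, hBP hgb⟩ : P) = g * ⟨b, hBP hb⟩ * g⁻¹ := Subtype.ext rfl
    rw [h2, map_mul, map_mul, map_inv, hg] at h1
    have h3 := hθB ⟨b, hBP hb⟩ hb
    simp only [Subgroup.coe_mul, Subgroup.coe_inv] at h1
    rw [h3] at h1
    rw [h1]
    exact hgb
  by_cases hC : centralizerIn S B ≤ P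
  · -- Case 1
    have hP₂P : P₂ ≤ P := by
      intro x hx
      obtain ⟨g, hg⟩ : ∃ g : P, θ g = ⟨x, hx⟩ := ⟨θ.symm ⟨x, hx⟩, by simp⟩
      have h1 := hC (hmod g)
      rw [hg] at h1
      have : x = (g : Ω) * ((g : Ω)⁻¹ * x) := by group
      rw [this]
      exact P.mul_mem g.2 h1
    have hP₂eq : P₂ = P := Subgroup.eq_of_le_of_card_ge hP₂P hcard.ge
    subst hP₂eq
    have h1 : (θ : MulAut P₂) ∈ F.autGroup P₂ := (mem_autGroup_iff F hPS _).mpr hθF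
    have h2 := D.fix_mem_autInducedBy hS he hfa h1 (fun b hb => Subtype.ext (hθB b hb))
    exact (mem_autGroup_iff E hPS _).mp (autInducedBy_le_autGroup E hPS h2)
  · -- Case 2
    -- the subgroup `P₂ C_S(B)`
    have hnormC : ∀ x ∈ P₂, ∀ c ∈ centralizerIn S B, x * c * x⁻¹ ∈ centralizerIn S B := by
      intro x hx c hc
      rw [mem_centralizerIn_iff] at hc ⊢
      refine ⟨S.mul_mem (S.mul_mem (hP₂S hx) hc.1) (S.inv_mem (hP₂S hx)), fun b hb => ?_⟩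
      have hb' : x⁻¹ * b * x ∈ B := (Subgroup.mem_normalizer_iff''.mp (hP₂B hx) _).mp hb
      have h1 := hc.2 _ hb'
      calc b * (x * c * x⁻¹) = x * ((x⁻¹ * b * x) * c) * x⁻¹ := by group
        _ = x * (c * (x⁻¹ * b * x)) * x⁻¹ := by rw [h1]
        _ = x * c * x⁻¹ * b := by group
    let Y : Subgroup Ω :=
      { carrier := {u | ∃ x ∈ P₂, x⁻¹ * u ∈ centralizerIn S B}
        one_mem' := ⟨1, P₂.one_mem, by simp⟩
        mul_mem' := by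
          rintro u₁ u₂ ⟨x₁, hx₁, hc₁⟩ ⟨x₂, hx₂, hc₂⟩
          refine ⟨x₁ * x₂, P₂.mul_mem hx₁ hx₂, ?_⟩
          have h1 := hnormC x₂⁻¹ (P₂.inv_mem hx₂) _ hc₁
          have : (x₁ * x₂)⁻¹ * (u₁ * u₂) = (x₂⁻¹ * (x₁⁻¹ * u₁) * x₂⁻¹⁻¹) * (x₂⁻¹ * u₂) := by group
          rw [this]
          exact Subgroup.mul_mem _ h1 hc₂
        inv_mem' := by
          rintro u ⟨x, hx, hc⟩
          refine ⟨x⁻¹, P₂.inv_mem hx, ?_⟩
          have h1 := hnormC x hx _ (Subgroup.inv_mem _ hc)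
          have : x⁻¹⁻¹ * u⁻¹ = x * (x⁻¹ * u)⁻¹ * x⁻¹ := by group
          rw [this]
          exact h1 }
    have hYmem : ∀ u : Ω, u ∈ Y ↔ ∃ x ∈ P₂, x⁻¹ * u ∈ centralizerIn S B := fun _ => Iff.rfl
    have hP₂Y : P₂ ≤ Y := fun x hx => (hYmem x).mpr ⟨x, hx, by simp⟩
    have hCY : centralizerIn S B ≤ Y := fun c hc => (hYmem c).mpr ⟨1, P₂.one_mem, by simpa using hc⟩
    have hPY : P ≤ Y := by
      intro g hg
      rw [hYmem]
      refine ⟨((θ ⟨g, hg⟩ : P₂) : Ω), (θ ⟨g, hg⟩).2, ?_⟩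
      have := Subgroup.inv_mem _ (hmod ⟨g, hg⟩)
      have e1 : ((g : Ω)⁻¹ * ((θ ⟨g, hg⟩ : P₂) : Ω))⁻¹ = ((θ ⟨g, hg⟩ : P₂) : Ω)⁻¹ * g := by group
      rwa [e1] at this
    have hYS : Y ≤ S := by
      rintro u ⟨x, hx, hc⟩
      have : u = x * (x⁻¹ * u) := by group
      rw [this]
      exact S.mul_mem (hP₂S hx) (centralizerIn_le_S S B hc)
    haveI : Finite Y := Finite.of_injective (Subgroup.inclusion hYS) (Subgroup.inclusion_injective hYS)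
    have hYp : IsPGroup p Y := hS.of_injective (Subgroup.inclusion hYS) (Subgroup.inclusion_injective hYS)
    have hlt : P₂ < Y := by
      refine lt_of_le_of_ne hP₂Y (fun heq => hC ?_)
      have h1 : P ≤ P₂ := by rw [heq]; exact hPY
      have h2 : P = P₂ := Subgroup.eq_of_le_of_card_ge h1 hcard.le
      rw [h2, heq]
      exact hCY
    obtain ⟨u, huN, huP₂⟩ := exists_mem_normalizerIn_not_mem hYp hlt
    obtain ⟨x, hx, hc⟩ := (hYmem u).mp huN.1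
    -- `v = x⁻¹ u`
    have hvN : x⁻¹ * u ∈ Subgroup.normalizer (P₂ : Set Ω) :=
      Subgroup.mul_mem _ (Subgroup.inv_mem _ (Subgroup.le_normalizer hx)) huN.2
    have hvP₂ : x⁻¹ * u ∉ P₂ := by
      intro h
      apply huP₂
      have : u = x * (x⁻¹ * u) := by group
      rw [this]
      exact P₂.mul_mem hx h
    have hvS : x⁻¹ * u ∈ S := centralizerIn_le_S S B hc
    have hvB : ∀ b ∈ B, b * (x⁻¹ * u) = (x⁻¹ * u) * b := (mem_centralizerIn_iff.mp hc).2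
    obtain ⟨v, hv⟩ : ∃ v, v = x⁻¹ * u := ⟨_, rfl⟩
    rw [← hv] at hvN hvP₂ hvS hvB
    have hvNS : v ∈ normalizerIn S P₂ := ⟨hvS, hvN⟩
    -- the automorphism `δ`
    have hcvF : IsIso F (conjAutHom S P₂ ⟨v, hvNS⟩ : P₂ ≃* P₂) := by
      apply (mem_autGroup_iff F hP₂S _).mp
      apply autInducedBy_le_autGroup F hP₂S
      rw [← conjAutHom_range]
      exact ⟨_, rfl⟩
    have hδF : IsIso F (θ.trans ((conjAutHom S P₂ ⟨v, hvNS⟩ : P₂ ≃* P₂).trans θ.symm)) :=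
      hθF.trans (hcvF.trans hθF.symm)
    have hδmem : ((θ.trans ((conjAutHom S P₂ ⟨v, hvNS⟩ : P₂ ≃* P₂).trans θ.symm) : P ≃* P) : MulAut P) ∈
        F.autGroup P := (mem_autGroup_iff F hPS _).mpr hδF
    have hδfix : ∀ b : P, (b : Ω) ∈ B →
        ((θ.trans ((conjAutHom S P₂ ⟨v, hvNS⟩ : P₂ ≃* P₂).trans θ.symm) : P ≃* P) : MulAut P) b = b := by
      intro b hb
      show θ.symm ((conjAutHom S P₂ ⟨v, hvNS⟩) (θ b)) = b
      have h1 : (conjAutHom S P₂ ⟨v, hvNS⟩) (θ b) = θ b := by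
        apply Subtype.ext
        rw [conjAutHom_apply, hθB b hb]
        show v * (b : Ω) * v⁻¹ = b
        rw [← hvB b hb]
        group
      rw [h1]
      simp
    have hδind := D.fix_mem_autInducedBy hS he hfa hδmem hδfix
    rw [mem_autInducedBy_iff] at hδind
    obtain ⟨h, hhS, hh⟩ := hδind
    have hsymm : IsIso E θ.symm := by
      apply isIso_of_extender_gt' hrec IH hθF.symm
      refine ⟨v, ?_, hvP₂⟩
      rw [mem_extender_iff]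
      refine ⟨hvS, hvN, h, hhS, fun y hy => ?_⟩
      have h1 := hh (θ.symm y)
      have h2 : ((θ.trans ((conjAutHom S P₂ ⟨v, hvNS⟩ : P₂ ≃* P₂).trans θ.symm) : P ≃* P) : MulAut P) (θ.symm y)
          = θ.symm ((conjAutHom S P₂ ⟨v, hvNS⟩) y) := by
        show θ.symm ((conjAutHom S P₂ ⟨v, hvNS⟩) (θ (θ.symm y))) = _
        rw [MulEquiv.apply_symm_apply]
      rw [h2] at h1
      have h3 : (conjAutHom S P₂ ⟨v, hvNS⟩) y = ⟨v * (y : Ω) * v⁻¹, hy⟩ := Subtype.ext rfl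
      rw [h3] at h1
      exact h1
    have := hsymm.symm
    simpa using this

end Cfsg.Agent.Lib.Helper27.BGH
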