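import Mathlib
import Cfsg.Agent.Lib.Helper27.BGHFusionB

set_option autoImplicit false

/-! Small-exponent abelian subgroups of the hyperfocal subgroup control fusion (Benson–Grodal–Henke):
the choice of a good pair `(P, B)` and the main theorem. -/

namespace Cfsg.Agent.Lib.Helper27.BGH

open scoped commutatorElement
open Cfsg Cfsg.FusionSystem Cfsg.Agent.Lib.Helper27 Cfsg.Agent.Lib.Helper27.LG Cfsg.Agent.H26

variable {Ω : Type*} [Group Ω] {S : Subgroup Ω} [Finite S] {p : ℕ} [Fact p.Prime]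

/-- Transport of a pair `(P', B')` along a map of `E` defined on `N_S(B')` onto a fully `E`-normalized
conjugate `B''` of `B'`. -/
theorem transport (hS : IsPGroup p S) {E F : FusionSystem S} (hE : E.IsSaturated p)
    (hEF : ∀ P : Subgroup Ω, E.Hom P ⊆ F.Hom P) {P' B' B'' : Subgroup Ω}
    (hfn : F.IsFullyNormalized P') (hB'P' : B' ≤ P')
    (hn : normalizerIn S P' ≤ Subgroup.normalizer (B' : Set Ω))
    (hfnB : E.IsFullyNormalized B'') (hconj : E.IsConj B' B'') :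
    ∃ P'' : Subgroup Ω, E.IsConj P' P'' ∧ F.IsFullyNormalized P'' ∧ B'' ≤ P'' ∧
      normalizerIn S P'' ≤ Subgroup.normalizer (B'' : Set Ω) ∧ ∃ χ : B' ≃* B'', IsIso E χ := by
  obtain ⟨φ, hφ, χ, hχ, hφχ⟩ := exists_hom_normalizerIn_of_fullyNormalized hS hE hfnB hconj
  have hP'S := hfn.1
  have hB'S : B' ≤ S := hB'P'.trans hP'S
  have hB''S : B'' ≤ S := hfnB.1
  have hT'N : normalizerIn S P' ≤ normalizerIn S B' := fun t ht => ⟨ht.1, hn ht⟩
  have hP'N : P' ≤ normalizerIn S B' := (le_normalizerIn hP'S).trans hT'N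
  haveI : Finite P' := Finite.of_injective (Subgroup.inclusion hP'S) (Subgroup.inclusion_injective hP'S)
  haveI : Finite B' := Finite.of_injective (Subgroup.inclusion hB'S) (Subgroup.inclusion_injective hB'S)
  haveI : Finite B'' := Finite.of_injective (Subgroup.inclusion hB''S) (Subgroup.inclusion_injective hB''S)
  have hφinj := E.injective_of_mem hφ
  have hφP : φ.comp (Subgroup.inclusion hP'N) ∈ E.Hom P' := hom_restrict E hP'N hφ
  obtain ⟨P'', hP''⟩ : ∃ P'' : Subgroup Ω, (φ.comp (Subgroup.inclusion hP'N)).range = P'' := ⟨_, rfl⟩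
  have hP''mem : ∀ y : Ω, y ∈ P'' ↔ ∃ (x : Ω) (hx : x ∈ P'), φ ⟨x, hP'N hx⟩ = y := by
    intro y
    rw [← hP'', MonoidHom.mem_range]
    constructor
    · rintro ⟨x, rfl⟩; exact ⟨x, x.2, rfl⟩
    · rintro ⟨x, hx, rfl⟩; exact ⟨⟨x, hx⟩, rfl⟩
  have hconjE : E.IsConj P' P'' := ⟨_, hφP, hP''⟩
  have hconjF : F.IsConj P' P'' := ⟨_, hEF _ hφP, hP''⟩
  have hP''S : P'' ≤ S := isConj_le_right E hconjE
  haveI : Finite P'' := Finite.of_injective (Subgroup.inclusion hP''S) (Subgroup.inclusion_injective hP''S)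
  have hB''mem : ∀ y : Ω, y ∈ B'' ↔ ∃ (b : Ω) (hb : b ∈ B'), φ ⟨b, hP'N (hB'P' hb)⟩ = y := by
    intro y
    constructor
    · intro hy
      refine ⟨(χ.symm ⟨y, hy⟩ : B'), (χ.symm ⟨y, hy⟩).2, ?_⟩
      rw [hφχ _ (χ.symm ⟨y, hy⟩).2]
      simp
    · rintro ⟨b, hb, rfl⟩
      rw [hφχ b hb]
      exact (χ _).2
  have hB''P'' : B'' ≤ P'' := by
    intro y hy
    obtain ⟨b, hb, rfl⟩ := (hB''mem y).mp hy
    exact (hP''mem _).mpr ⟨b, hB'P' hb, rfl⟩
  -- the image of `N_S(P')`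
  have hφT : ∀ (t : Ω) (ht : t ∈ normalizerIn S P'), φ ⟨t, hT'N ht⟩ ∈ normalizerIn S P'' := by
    intro t ht
    refine ⟨(E.le_of_mem hφ).2 _, ?_⟩
    apply mem_normalizer_of_conj_mem
    intro y hy
    obtain ⟨x, hx, rfl⟩ := (hP''mem y).mp hy
    have hx' : t * x * t⁻¹ ∈ P' := conj_mem_of_mem_normalizerIn ht hx
    rw [hP''mem]
    refine ⟨t * x * t⁻¹, hx', ?_⟩
    rw [← map_inv, ← map_mul, ← map_mul]
    rfl
  have hTN'' : normalizerIn S P'' ≤ S := inf_le_left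
  haveI : Finite ↥(normalizerIn S P'') :=
    Finite.of_injective (Subgroup.inclusion hTN'') (Subgroup.inclusion_injective hTN'')
  have hTN' : normalizerIn S P' ≤ S := inf_le_left
  haveI : Finite ↥(normalizerIn S P') :=
    Finite.of_injective (Subgroup.inclusion hTN') (Subgroup.inclusion_injective hTN')
  let j : normalizerIn S P' → normalizerIn S P'' := fun t => ⟨φ ⟨t, hT'N t.2⟩, hφT t t.2⟩
  have hjinj : Function.Injective j := by
    intro t t' h
    have h1 : φ ⟨t, hT'N t.2⟩ = φ ⟨t', hT'N t'.2⟩ := congrArg Subtype.val h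
    have h2 := hφinj h1
    have h3 : (t : Ω) = (t' : Ω) := congrArg (fun z : ↥(normalizerIn S B') => (z : Ω)) h2
    exact Subtype.ext h3
  have hcard1 : Nat.card (normalizerIn S P') ≤ Nat.card (normalizerIn S P'') :=
    Nat.card_le_card_of_injective j hjinj
  have hcard2 : Nat.card (normalizerIn S P'') ≤ Nat.card (normalizerIn S P') := hfn.2 P'' hconjF
  have hjsurj : Function.Surjective j :=
    (Function.Injective.bijective_of_nat_card_le hjinj hcard2).2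
  refine ⟨P'', hconjE, ⟨hP''S, fun Q hQ => ?_⟩, hB''P'', ?_, χ, hχ⟩
  · exact (hfn.2 Q (isConj_trans F hconjF hQ)).trans hcard1
  · intro t'' ht''
    obtain ⟨t, ht⟩ := hjsurj ⟨t'', ht''⟩
    have ht' : φ ⟨t, hT'N t.2⟩ = t'' := congrArg Subtype.val ht
    apply mem_normalizer_of_conj_mem
    intro y hy
    obtain ⟨b, hb, rfl⟩ := (hB''mem y).mp hy
    have hb' : (t : Ω) * b * (t : Ω)⁻¹ ∈ B' := (Subgroup.mem_normalizer_iff.mp (hn t.2) _).mp hb
    rw [hB''mem]
    refine ⟨(t : Ω) * b * (t : Ω)⁻¹, hb', ?_⟩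
    rw [← ht', ← map_inv, ← map_mul, ← map_mul]
    rfl

/-- The local step at a fully normalized subgroup. -/
theorem step (hS : IsPGroup p S) {E F : FusionSystem S} (hE : E.IsSaturated p) (hF : F.IsSaturated p)
    (hEF : ∀ P : Subgroup Ω, E.Hom P ⊆ F.Hom P) {e : ℕ} (he : (e = p ∧ p ≠ 2) ∨ (e = 4 ∧ p = 2))
    (hH : ∀ A B : Subgroup Ω, A ≤ F.hyperfocalSubgroup p → B ≤ F.hyperfocalSubgroup p →
      (∀ a ∈ A, ∀ b ∈ A, a * b = b * a) → (∀ a ∈ A, a ^ e = 1) →
      (∀ a ∈ B, ∀ b ∈ B, a * b = b * a) → (∀ a ∈ B, a ^ e = 1) → F.homSet A B ⊆ E.homSet A B)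
    {P : Subgroup Ω} (hfn : F.IsFullyNormalized P)
    (IH : ∀ P' : Subgroup Ω, P' ≤ S → Nat.card P < Nat.card P' → F.Hom P' ⊆ E.Hom P') :
    ∀ α : P ≃* P, IsIso F α → IsIso E α := by
  classical
  have hPS := hfn.1
  have hHsc := hyperfocal_stronglyClosed hS hF
  -- the set of admissible pairs
  let 𝒬 : Set (Subgroup Ω × Subgroup Ω) := {Q | E.IsConj P Q.1 ∧ F.IsFullyNormalized Q.1 ∧ Q.2 ≤ Q.1 ∧
    Q.2 ≤ F.hyperfocalSubgroup p ∧ (∀ a ∈ Q.2, ∀ b ∈ Q.2, a * b = b * a) ∧ (∀ a ∈ Q.2, a ^ e = 1) ∧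
    normalizerIn S Q.1 ≤ Subgroup.normalizer (Q.2 : Set Ω)}
  have h𝒬mem : ∀ Q : Subgroup Ω × Subgroup Ω, Q ∈ 𝒬 ↔ (E.IsConj P Q.1 ∧ F.IsFullyNormalized Q.1 ∧ Q.2 ≤ Q.1 ∧
    Q.2 ≤ F.hyperfocalSubgroup p ∧ (∀ a ∈ Q.2, ∀ b ∈ Q.2, a * b = b * a) ∧ (∀ a ∈ Q.2, a ^ e = 1) ∧
    normalizerIn S Q.1 ≤ Subgroup.normalizer (Q.2 : Set Ω)) := fun _ => Iff.rfl
  have hfinS : {Q : Subgroup Ω | Q ≤ S}.Finite := by
    have hinj : Set.InjOn (fun Q : Subgroup Ω => Q.subgroupOf S) {Q : Subgroup Ω | Q ≤ S} := by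
      intro Q hQ Q' hQ' h
      have := Subgroup.subgroupOf_inj.mp h
      rwa [inf_eq_left.mpr hQ, inf_eq_left.mpr hQ'] at this
    exact Set.Finite.of_finite_image (Set.toFinite _) hinj
  have hfin : 𝒬.Finite := by
    apply (hfinS.prod hfinS).subset
    rintro ⟨Q₁, Q₂⟩ hQ
    rw [h𝒬mem] at hQ
    exact ⟨hQ.2.1.1, hQ.2.2.1.trans hQ.2.1.1⟩
  have hne : 𝒬.Nonempty := by
    refine ⟨(P, ⊥), ?_⟩
    rw [h𝒬mem]
    refine ⟨isConj_refl E hPS, hfn, bot_le, bot_le, ?_, ?_, ?_⟩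
    · intro a ha b hb
      rw [Subgroup.mem_bot] at ha hb
      rw [ha, hb]
    · intro a ha
      rw [Subgroup.mem_bot] at ha
      rw [ha, one_pow]
    · intro t _
      rw [Subgroup.mem_normalizer_iff]
      intro y
      simp only [Subgroup.mem_bot]
      constructor
      · rintro rfl; group
      · intro h
        have : y = t⁻¹ * (t * y * t⁻¹) * t := by group
        rw [this, h]; group
  obtain ⟨⟨P', B'⟩, hQ𝒬, hQmax⟩ := Set.exists_max_image 𝒬
    (fun Q => Nat.card Q.2 * (Nat.card S + 1) + Nat.card (normalizerIn S Q.2)) hfin hne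
  rw [h𝒬mem] at hQ𝒬
  obtain ⟨hPP', hfn', hB'P', hB'H, hB'c, hB'e, hB'n⟩ := hQ𝒬
  have hP'S := hfn'.1
  have hB'S : B' ≤ S := hB'P'.trans hP'S
  haveI : Finite B' := Finite.of_injective (Subgroup.inclusion hB'S) (Subgroup.inclusion_injective hB'S)
  have hNle : ∀ Q : Subgroup Ω, Nat.card (normalizerIn S Q) ≤ Nat.card S :=
    fun Q => Subgroup.card_le_of_le inf_le_left
  -- the data
  have D : Data p e F P' B' := by
    refine ⟨hP'S, hB'P', hB'H, hB'c, hB'e, hB'n, ?_⟩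
    intro B₂ hle hB₂P hB₂H hc hexp hn
    have hB₂S : B₂ ≤ S := hB₂P.trans hP'S
    haveI : Finite B₂ := Finite.of_injective (Subgroup.inclusion hB₂S) (Subgroup.inclusion_injective hB₂S)
    have hmem : ((P', B₂) : Subgroup Ω × Subgroup Ω) ∈ 𝒬 := by
      rw [h𝒬mem]
      exact ⟨hPP', hfn', hB₂P, hB₂H, hc, hexp, hn⟩
    have h1 := hQmax _ hmem
    simp only at h1
    have h2 := hNle B'
    have h3 : Nat.card B₂ ≤ Nat.card B' := by
      by_contra hlt
      push Not at hlt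
      have h4 : (Nat.card B' + 1) * (Nat.card S + 1) ≤ Nat.card B₂ * (Nat.card S + 1) :=
        Nat.mul_le_mul_right _ hlt
      nlinarith
    exact (Subgroup.eq_of_le_of_card_ge hle h3).symm
  -- `B'` is fully normalized in `E`
  have hB'fn : E.IsFullyNormalized B' := by
    obtain ⟨B'', hconj, hfnB⟩ := exists_fullyNormalized_conj E hB'S
    obtain ⟨P'', hP'P'', hfn'', hB''P'', hn'', χ, hχ⟩ := transport hS hE hEF hfn' hB'P' hB'n hfnB hconj
    have hB''S : B'' ≤ S := hfnB.1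
    haveI : Finite B'' := Finite.of_injective (Subgroup.inclusion hB''S) (Subgroup.inclusion_injective hB''S)
    have hmem : ((P'', B'') : Subgroup Ω × Subgroup Ω) ∈ 𝒬 := by
      rw [h𝒬mem]
      refine ⟨isConj_trans E hPP' hP'P'', hfn'', hB''P'', ?_, ?_, ?_, hn''⟩
      · intro y hy
        obtain ⟨b, rfl⟩ : ∃ b : B', ((χ b : B'') : Ω) = y := ⟨χ.symm ⟨y, hy⟩, by simp⟩
        exact hHsc.2 B' hB'H _ (hEF _ hχ) b
      · intro a ha b hb
        obtain ⟨a', rfl⟩ : ∃ a' : B', ((χ a' : B'') : Ω) = a := ⟨χ.symm ⟨a, ha⟩, by simp⟩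
        obtain ⟨b', rfl⟩ : ∃ b' : B', ((χ b' : B'') : Ω) = b := ⟨χ.symm ⟨b, hb⟩, by simp⟩
        have h1 : a' * b' = b' * a' := Subtype.ext (hB'c a' a'.2 b' b'.2)
        have := congrArg (fun z => ((χ z : B'') : Ω)) h1
        simpa using this
      · intro a ha
        obtain ⟨a', rfl⟩ : ∃ a' : B', ((χ a' : B'') : Ω) = a := ⟨χ.symm ⟨a, ha⟩, by simp⟩
        have h1 : a' ^ e = 1 := Subtype.ext (by simpa using hB'e a' a'.2)
        have := congrArg (fun z => ((χ z : B'') : Ω)) h1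
        simpa using this
    have h1 := hQmax _ hmem
    simp only at h1
    have h2 : Nat.card B'' = Nat.card B' := (Nat.card_congr χ.toEquiv).symm
    rw [h2] at h1
    have h3 : Nat.card (normalizerIn S B'') ≤ Nat.card (normalizerIn S B') := by omega
    refine ⟨hB'S, fun Q hQ => ?_⟩
    have hQ' : E.IsConj B'' Q := isConj_trans E (isConj_symm E hconj) hQ
    exact (hfnB.2 Q hQ').trans h3
  obtain ⟨-, hBrec, -⟩ := fa_receptive_of_fullyNormalized hS hE hB'fn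
  obtain ⟨e₀, he₀⟩ := (isConj_iff E).mp hPP'
  have hcard : Nat.card P' = Nat.card P := (Nat.card_congr e₀.toEquiv).symm
  have hcore := core hS hF hEF he hH hfn' (fun Q hQ hlt => IH Q hQ (by rw [← hcard]; exact hlt)) D hBrec
  intro α hα
  have he₀F : IsIso F e₀ := hEF _ he₀
  have h1 : IsIso F (e₀.symm.trans (α.trans e₀)) := he₀F.symm.trans (hα.trans he₀F)
  have h2 := hcore _ h1
  have h3 : IsIso E (e₀.trans ((e₀.symm.trans (α.trans e₀)).trans e₀.symm)) := he₀.trans (h2.trans he₀.symm)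
  have h4 : e₀.trans ((e₀.symm.trans (α.trans e₀)).trans e₀.symm) = α := by
    ext x
    simp
  rwa [h4] at h3

/-- **Benson–Grodal–Henke**: let `E ≤ F` be saturated fusion systems over `S` having the same maps between abelian
subgroups of `hyp(F)` of exponent dividing `e` (`e = p` odd, or `e = 4` and `p = 2`). Then `E = F`. -/
theorem hom_le_of_small (hS : IsPGroup p S) {E F : FusionSystem S} (hE : E.IsSaturated p) (hF : F.IsSaturated p)
    (hEF : ∀ P : Subgroup Ω, E.Hom P ⊆ F.Hom P) {e : ℕ} (he : (e = p ∧ p ≠ 2) ∨ (e = 4 ∧ p = 2))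
    (hH : ∀ A B : Subgroup Ω, A ≤ F.hyperfocalSubgroup p → B ≤ F.hyperfocalSubgroup p →
      (∀ a ∈ A, ∀ b ∈ A, a * b = b * a) → (∀ a ∈ A, a ^ e = 1) →
      (∀ a ∈ B, ∀ b ∈ B, a * b = b * a) → (∀ a ∈ B, a ^ e = 1) → F.homSet A B ⊆ E.homSet A B) :
    ∀ P : Subgroup Ω, F.Hom P ⊆ E.Hom P := by
  apply alperin_strong hS hF E
  · have hfnS : F.IsFullyNormalized S := by
      refine ⟨le_rfl, fun Q _ => ?_⟩
      have h1 : normalizerIn S Q ≤ normalizerIn S S := inf_le_left.trans (le_normalizerIn le_rfl)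
      have h2 : normalizerIn S S ≤ S := inf_le_left
      haveI : Finite ↥(normalizerIn S S) :=
        Finite.of_injective (Subgroup.inclusion h2) (Subgroup.inclusion_injective h2)
      exact Subgroup.card_le_of_le h1
    apply step hS hE hF hEF he hH hfnS
    intro P' hP' hlt
    exact absurd (Subgroup.card_le_of_le hP') (not_le.mpr hlt)
  · intro R _ hfn _ _ IH
    exact step hS hE hF hEF he hH hfn IH

end Cfsg.Agent.Lib.Helper27.BGH
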