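import Cfsg.Agent.Lib.Helper27.TreeConj

/-!
# Slicing kernel computations over a large range of points (S2069, `n = 98280`)

A table lookup in a table of 209 KB leaves about 200 KB in the kernel caches of the current declaration,
so every check over all points is cut into theorems over ranges of points and glued here.
-/

set_option autoImplicit false

namespace Cfsg.Agent.Lib.Helper27.Big

open Cfsg.Agent.Lib.Helper28.BSGS Cfsg.Agent.Lib.Helper22.SuzOut Cfsg.Agent.Lib.Helper27.TreeSift

/-- `f` holds at `lo, lo + 1, …, lo + len - 1` (direct `Nat.rec`, fast in the kernel) -/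
noncomputable def rangeAll (f : ℕ → Bool) (lo len : ℕ) : Bool :=
  Nat.rec (motive := fun _ => Bool) true (fun k ih => f (lo + k) && ih) len

theorem rangeAll_succ (f : ℕ → Bool) (lo len : ℕ) :
    rangeAll f lo (len + 1) = (f (lo + len) && rangeAll f lo len) := rfl

theorem rangeAll_spec {f : ℕ → Bool} {lo len : ℕ} (h : rangeAll f lo len = true) :
    ∀ k, lo ≤ k → k < lo + len → f k = true := by
  induction len with
  | zero => intro k h1 h2; omega
  | succ m ih =>
    rw [rangeAll_succ, Bool.and_eq_true] at h
    intro k h1 h2
    by_cases hk : k = lo + m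
    · rw [hk]; exact h.1
    · exact ih h.2 k h1 (by omega)

/-- gluing: the next range -/
theorem allBelow_extend {f : ℕ → Bool} {lo len : ℕ} (h1 : allBelow f lo = true)
    (h2 : rangeAll f lo len = true) : allBelow f (lo + len) = true := by
  apply allBelow_of
  intro k hk
  by_cases hlo : k < lo
  · exact allBelow_spec h1 k hlo
  · exact rangeAll_spec h2 k (by omega) hk

theorem allBelow_zero (f : ℕ → Bool) : allBelow f 0 = true := rfl

/-- number of points of `lo, …, lo + len - 1` at which `f` holds -/
noncomputable def countRange (f : ℕ → Bool) (lo len : ℕ) : ℕ :=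
  Nat.rec (motive := fun _ => ℕ) 0 (fun k ih => Bool.rec ih (ih + 1) (f (lo + k))) len

theorem countRange_succ (f : ℕ → Bool) (lo len : ℕ) :
    countRange f lo (len + 1) = Bool.rec (countRange f lo len) (countRange f lo len + 1)
      (f (lo + len)) := rfl

theorem filter_range_length (f : ℕ → Bool) (lo len : ℕ) :
    ((List.range (lo + len)).filter f).length =
      ((List.range lo).filter f).length + countRange f lo len := by
  induction len with
  | zero => rfl
  | succ m ih =>
    rw [← Nat.add_assoc, List.range_succ, List.filter_append, List.length_append, ih,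
      countRange_succ]
    cases h : f (lo + m)
    · simp [h]
    · simp [h]; omega

/-- gluing of counts -/
theorem count_extend {f : ℕ → Bool} {lo len c c' : ℕ}
    (h1 : ((List.range lo).filter f).length = c)
    (h2 : Nat.beq (countRange f lo len) c' = true) :
    ((List.range (lo + len)).filter f).length = c + c' := by
  rw [filter_range_length, h1, Nat.eq_of_beq_eq_true h2]

theorem count_zero (f : ℕ → Bool) : ((List.range 0).filter f).length = 0 := rfl

/-- validity of a table pair from a sliced computation -/
noncomputable def pairPt (n w tu tv a : ℕ) : Bool :=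
  Nat.blt (look w tu a) n && Nat.beq (look w tv (look w tu a)) a &&
    Nat.blt (look w tv a) n && Nat.beq (look w tu (look w tv a)) a

theorem pairOK_of_allBelow {n w tu tv : ℕ} (h : allBelow (pairPt n w tu tv) n = true) :
    pairOK n w tu tv = true := by
  unfold pairOK
  rw [List.all_eq_true]
  intro a ha
  have hp := allBelow_spec h a (List.mem_range.mp ha)
  unfold pairPt at hp
  simp only [Bool.and_eq_true] at hp
  obtain ⟨⟨⟨h1, h2⟩, h3⟩, h4⟩ := hp
  simp only [Bool.and_eq_true, decide_eq_true_eq, beq_iff_eq]
  exact ⟨⟨⟨Nat.blt_eq.mp h1, Nat.eq_of_beq_eq_true h2⟩, Nat.blt_eq.mp h3⟩,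
    Nat.eq_of_beq_eq_true h4⟩

end Cfsg.Agent.Lib.Helper27.Big
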