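import Cfsg.Agent.Lib.Helper27.BigChunk

/-!
# Base points `f^[e] b` along one cycle of `g`, elements commuting with `g`; equality on the base (S2069)
-/

set_option autoImplicit false

namespace Cfsg.Agent.Lib.Helper27.Big

open Cfsg.Agent.Lib.Helper28.BSGS Cfsg.Agent.Lib.Helper22.SuzOut Cfsg.Agent.Lib.Helper27.TreeSift
open MulAction

/-- the base points are `f^[e] b` for the exponents `e` of the list -/
def basesE (f : ℕ → ℕ) (b : ℕ) : List TLevel → List ℕ → Bool
  | [], [] => true
  | lv :: ls, e :: es => Nat.beq (f^[e] b) lv.1 && basesE f b ls es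
  | [], _ :: _ => false
  | _ :: _, [] => false

/-- the candidate images `f^[e] y` -/
def imgsE (f : ℕ → ℕ) (es : List ℕ) (y : ℕ) : List ℕ := es.map fun e => f^[e] y

theorem pow_comm_apply {n : ℕ} (g z : Equiv.Perm (Fin n)) (hz : z * g = g * z) (e : ℕ)
    (x : Fin n) : z ((g ^ e) x) = (g ^ e) (z x) := by
  have h : z * g ^ e = g ^ e * z := by
    have : Commute z g := hz
    exact (this.pow_right e)
  have := congrArg (fun σ : Equiv.Perm (Fin n) => σ x) h
  simpa [Equiv.Perm.mul_apply] using this

/-- an element commuting with `g` has the images `f^[e] (z b)` at the base points `f^[e] b` -/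
theorem himg_of_comm (n : ℕ) [NeZero n] (g z : Equiv.Perm (Fin n)) (f : ℕ → ℕ)
    (hg : ∀ a : Fin n, (g a).val = f a.val) (hz : z * g = g * z) (b : ℕ) (hb : b < n) :
    ∀ (levels : List TLevel) (es : List ℕ), basesE f b levels es = true →
      List.Forall₂ (fun (lv : TLevel) (y : ℕ) => (z (pt n lv.1)).val = y) levels
        (imgsE f es (z (pt n b)).val) := by
  intro levels
  induction levels with
  | nil =>
    intro es h
    cases es with
    | nil => exact List.Forall₂.nil
    | cons e es => exact absurd h (by simp [basesE])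
  | cons lv ls ih =>
    intro es h
    cases es with
    | nil => exact absurd h (by simp [basesE])
    | cons e es =>
      have h' : (Nat.beq (f^[e] b) lv.1 && basesE f b ls es) = true := h
      rw [Bool.and_eq_true] at h'
      have he : f^[e] b = lv.1 := Nat.eq_of_beq_eq_true h'.1
      have hv : ((g ^ e) (pt n b)).val = lv.1 := by
        rw [pow_val_iterate n g f hg e (pt n b), pt_val n hb, he]
      have hpt : pt n lv.1 = (g ^ e) (pt n b) := by
        apply Fin.ext
        rw [hv]
        apply pt_val
        rw [← hv]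
        exact ((g ^ e) (pt n b)).isLt
      refine List.Forall₂.cons ?_ (ih es h'.2)
      rw [hpt, pow_comm_apply g z hz e, pow_val_iterate n g f hg e]

/-- two sifting elements that agree on the base points are equal -/
theorem eq_of_base (n w : ℕ) [NeZero n] (gens : List (ℕ × ℕ)) (fuel : ℕ)
    (hg : gensOK n w gens = true) (levels : List TLevel)
    (h : chainOKT n w gens fuel [] levels = true)
    (z z' : Equiv.Perm (Fin n)) (hs : Sifts (semTs n w gens fuel levels) z)
    (hs' : Sifts (semTs n w gens fuel levels) z') (f f' : ℕ → ℕ)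
    (hz : ∀ a : Fin n, (z a).val = f a.val) (hz' : ∀ a : Fin n, (z' a).val = f' a.val)
    (hb : levels.all (fun lv => Nat.beq (f lv.1) (f' lv.1)) = true) : z = z' := by
  have hlt := base_lt_of_chainOKT n w gens fuel levels [] h
  have h1 : List.Forall₂ (fun (lv : TLevel) (y : ℕ) => (z (pt n lv.1)).val = y) levels
      (levels.map fun lv => f lv.1) := by
    rw [List.forall₂_map_right_iff, List.forall₂_same]
    intro lv hlv
    rw [hz, pt_val n (hlt lv hlv)]
  have h2 : List.Forall₂ (fun (lv : TLevel) (y : ℕ) => (z' (pt n lv.1)).val = y) levels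
      (levels.map fun lv => f lv.1) := by
    rw [List.forall₂_map_right_iff, List.forall₂_same]
    intro lv hlv
    rw [hz', pt_val n (hlt lv hlv)]
    exact (Nat.eq_of_beq_eq_true (List.all_eq_true.mp hb lv hlv)).symm
  exact eq_of_imgs n w gens fuel hg levels [] h z z' hs hs' _ h1 h2

/-- an element fixing the base points is trivial -/
theorem eq_one_of_base (n w : ℕ) [NeZero n] (gens : List (ℕ × ℕ)) (fuel : ℕ)
    (hg : gensOK n w gens = true) (levels : List TLevel)
    (h : chainOKT n w gens fuel [] levels = true)
    (z : Equiv.Perm (Fin n)) (hs : Sifts (semTs n w gens fuel levels) z)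
    (hs1 : Sifts (semTs n w gens fuel levels) 1) (f : ℕ → ℕ)
    (hz : ∀ a : Fin n, (z a).val = f a.val)
    (hb : levels.all (fun lv => Nat.beq (f lv.1) lv.1) = true) : z = 1 :=
  eq_of_base n w gens fuel hg levels h z 1 hs hs1 f (fun x => x) hz (fun _ => rfl) hb

end Cfsg.Agent.Lib.Helper27.Big
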