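import Cfsg.Agent.Lib.Helper27.BigLevel

/-!
# Orbit counts from sliced computations (S2069)

The count is wrapped in a definition, so that no `List.range` of a large literal occurs in a statement.
-/

set_option autoImplicit false

namespace Cfsg.Agent.Lib.Helper27.Big

open Cfsg.Agent.Lib.Helper28.BSGS Cfsg.Agent.Lib.Helper22.SuzOut Cfsg.Agent.Lib.Helper27.TreeSift

/-- number of points below `n` at which `f` holds -/
noncomputable def countBelow (f : ℕ → Bool) (n : ℕ) : ℕ := ((List.range n).filter f).length

theorem countBelow_zero (f : ℕ → Bool) : countBelow f 0 = 0 := rfl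

/-- the count on a range is `c` (wrapped, so that the kernel never compares two `Nat.beq` terms by evaluating them) -/
noncomputable def cntOK (f : ℕ → Bool) (lo len c : ℕ) : Bool := Nat.beq (countRange f lo len) c

theorem countBelow_extend {f : ℕ → Bool} {lo len c c' : ℕ} (h1 : countBelow f lo = c)
    (h2 : cntOK f lo len c' = true) : countBelow f (lo + len) = c + c' :=
  count_extend h1 h2

theorem orbT_length_of {n w sv c : ℕ} (h : countBelow (orbPt w sv) n = c) :
    (orbT n w sv).length = c := h

end Cfsg.Agent.Lib.Helper27.Big
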