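import Cfsg.Agent.Lib.Helper27.BigChunk

/-!
# The level conditions of a Schreier-vector chain from sliced computations (S2069)
-/

set_option autoImplicit false

namespace Cfsg.Agent.Lib.Helper27.Big

open Cfsg.Agent.Lib.Helper28.BSGS Cfsg.Agent.Lib.Helper22.SuzOut Cfsg.Agent.Lib.Helper27.TreeSift

/-- the level condition at the point `x` -/
noncomputable def lvlPt (n w : ℕ) (gens : List (ℕ × ℕ)) (fuel : ℕ) (prev : List ℕ) (lv : TLevel)
    (x : ℕ) : Bool :=
  Nat.beq (look w lv.2 x) 0 || walkOK n w gens prev lv.1 lv.2 fuel x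

theorem levelOKT_of {n w : ℕ} {gens : List (ℕ × ℕ)} {fuel : ℕ} {prev : List ℕ} {lv : TLevel}
    (h1 : Nat.blt lv.1 n = true) (h2 : Nat.beq (look w lv.2 lv.1) 1 = true)
    (h3 : allBelow (lvlPt n w gens fuel prev lv) n = true) :
    levelOKT n w gens fuel prev lv = true := by
  unfold levelOKT
  rw [h1, h2, Bool.true_and, Bool.true_and]
  exact h3

theorem chainOKT_nil (n w : ℕ) (gens : List (ℕ × ℕ)) (fuel : ℕ) (prev : List ℕ) :
    chainOKT n w gens fuel prev [] = true := rfl

theorem chainOKT_cons {n w : ℕ} {gens : List (ℕ × ℕ)} {fuel : ℕ} {prev : List ℕ} {lv : TLevel}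
    {rest : List TLevel} (h1 : levelOKT n w gens fuel prev lv = true)
    (h2 : chainOKT n w gens fuel (lv.1 :: prev) rest = true) :
    chainOKT n w gens fuel prev (lv :: rest) = true := by
  show (levelOKT n w gens fuel prev lv && chainOKT n w gens fuel (lv.1 :: prev) rest) = true
  rw [h1, h2]
  rfl

/-- membership in the basic orbit -/
noncomputable def orbPt (w sv x : ℕ) : Bool := !(Nat.beq (look w sv x) 0)

theorem orbT_length {n w sv c : ℕ} (h : ((List.range n).filter (orbPt w sv)).length = c) :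
    (orbT n w sv).length = c := h

theorem sizeT_nil (n w : ℕ) : sizeT n w [] = 1 := rfl

theorem sizeT_cons {n w : ℕ} {lv : TLevel} {rest : List TLevel} {c s : ℕ}
    (h1 : (orbT n w lv.2).length = c) (h2 : sizeT n w rest = s) :
    sizeT n w (lv :: rest) = c * s := by
  show (orbT n w lv.2).length * sizeT n w rest = c * s
  rw [h1, h2]

end Cfsg.Agent.Lib.Helper27.Big
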