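import Cfsg.Agent.Lib.Helper27.BigChunk

/-!
# Path certificates with the forward table only (S2069)

The forward table of `t` is compared with the evaluation of the word at every point, and the second table
is checked to invert the first one; this is half of the lookups of `pathOK`.
-/

set_option autoImplicit false

namespace Cfsg.Agent.Lib.Helper27.Big

open Cfsg.Agent.Lib.Helper28.BSGS Cfsg.Agent.Lib.Helper22.SuzOut Cfsg.Agent.Lib.Helper27.TreeSift

/-- the check at the point `a` -/
noncomputable def fwdOK (w : ℕ) (gens : List (ℕ × ℕ)) (t : ℕ × ℕ) (cs : List ℕ) (a : ℕ) : Bool :=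
  Nat.beq (look w t.1 a) (evalF w gens cs a) && Nat.beq (look w t.2 (look w t.1 a)) a

theorem fwd_sound (n w : ℕ) [NeZero n] (gens : List (ℕ × ℕ)) (hg : gensOK n w gens = true)
    (t : ℕ × ℕ) (cs : List ℕ) (hcs : cs.all (fun c => Nat.blt (c / 2) gens.length) = true)
    (h : allBelow (fwdOK w gens t cs) n = true) :
    pairOK n w t.1 t.2 = true ∧ permOf n w t.1 t.2 = pathPerm n w gens cs ∧
      permOf n w t.1 t.2 ∈ genGroup n w gens := by
  have hcs' : ∀ c ∈ cs, c / 2 < gens.length := by
    intro c hc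
    exact Nat.blt_eq.mp (List.all_eq_true.mp hcs c hc)
  have hpt : ∀ a : Fin n, look w t.1 a.val = (pathPerm n w gens cs a).val ∧
      look w t.2 (look w t.1 a.val) = a.val := by
    intro a
    have h1 := allBelow_spec h a.val a.isLt
    unfold fwdOK at h1
    rw [Bool.and_eq_true] at h1
    rw [(pathPerm_spec n w gens hg cs hcs' a).1]
    exact ⟨Nat.eq_of_beq_eq_true h1.1, Nat.eq_of_beq_eq_true h1.2⟩
  have hpair : pairOK n w t.1 t.2 = true := by
    unfold pairOK
    rw [List.all_eq_true]
    intro a ha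
    have han : a < n := List.mem_range.mp ha
    have h1 := hpt ⟨a, han⟩
    simp only at h1
    -- the preimage of `a`
    have h2 := hpt ((pathPerm n w gens cs)⁻¹ ⟨a, han⟩)
    have e : (pathPerm n w gens cs ((pathPerm n w gens cs)⁻¹ ⟨a, han⟩)) = ⟨a, han⟩ :=
      (pathPerm n w gens cs).apply_symm_apply ⟨a, han⟩
    rw [e] at h2
    simp only at h2
    have h3 : look w t.2 a = ((pathPerm n w gens cs)⁻¹ ⟨a, han⟩).val := by
      have := h2.2
      rw [h2.1] at this
      exact this
    simp only [Bool.and_eq_true, decide_eq_true_eq, beq_iff_eq]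
    refine ⟨⟨⟨?_, h1.2⟩, ?_⟩, ?_⟩
    · rw [h1.1]; exact (pathPerm n w gens cs ⟨a, han⟩).isLt
    · rw [h3]; exact ((pathPerm n w gens cs)⁻¹ ⟨a, han⟩).isLt
    · rw [h3]; exact h2.1
  have heq : permOf n w t.1 t.2 = pathPerm n w gens cs := by
    apply Equiv.ext
    intro a
    apply Fin.ext
    rw [permOf_apply hpair, (hpt a).1]
  refine ⟨hpair, heq, ?_⟩
  rw [heq]
  exact pathPerm_mem n w gens cs hcs'

/-- one more generator given by a path, forward version -/
theorem seq_step_fwd (n w : ℕ) [NeZero n] (known : List (ℕ × ℕ)) (hk : gensOK n w known = true)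
    (t : ℕ × ℕ) (cs : List ℕ) (hcs : cs.all (fun c => Nat.blt (c / 2) known.length) = true)
    (h : allBelow (fwdOK w known t cs) n = true) :
    gensOK n w (known ++ [t]) = true ∧ genGroup n w (known ++ [t]) = genGroup n w known ∧
      permOf n w t.1 t.2 = pathPerm n w known cs := by
  obtain ⟨hp, heq, hm⟩ := fwd_sound n w known hk t cs hcs h
  obtain ⟨h1, h2⟩ := genGroup_snoc n w known t hk hp hm
  exact ⟨h1, h2, heq⟩

end Cfsg.Agent.Lib.Helper27.Big
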