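import Cfsg.Agent.Lib.Helper27.BigConj

/-!
# Words in `a, a⁻¹, d, d⁻¹, z` evaluated on points through value functions (S2069)

Letters: `0 = a`, `1 = a⁻¹`, `2 = d`, `3 = d⁻¹`, everything else `= z`.
-/

set_option autoImplicit false

namespace Cfsg.Agent.Lib.Helper27.Big

open Cfsg.Agent.Lib.Helper28.BSGS Cfsg.Agent.Lib.Helper22.SuzOut Cfsg.Agent.Lib.Helper27.TreeSift

/-- the group element of a letter -/
def letG {G : Type*} [Group G] (a d z : G) : ℕ → G
  | 0 => a
  | 1 => a⁻¹
  | 2 => d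
  | 3 => d⁻¹
  | _ => z

/-- the group element of a word (the head is the leftmost factor) -/
def prodG {G : Type*} [Group G] (a d z : G) (u : List ℕ) : G := (u.map (letG a d z)).prod

theorem prodG_nil {G : Type*} [Group G] (a d z : G) : prodG a d z [] = 1 := rfl

theorem prodG_cons {G : Type*} [Group G] (a d z : G) (c : ℕ) (u : List ℕ) :
    prodG a d z (c :: u) = letG a d z c * prodG a d z u := by
  unfold prodG
  rw [List.map_cons, List.prod_cons]

theorem map_letG {G H : Type*} [Group G] [Group H] (χ : G →* H) (a d z : G) (c : ℕ) :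
    χ (letG a d z c) = letG (χ a) (χ d) (χ z) c := by
  unfold letG
  split <;> simp

theorem map_prodG {G H : Type*} [Group G] [Group H] (χ : G →* H) (a d z : G) (u : List ℕ) :
    χ (prodG a d z u) = prodG (χ a) (χ d) (χ z) u := by
  induction u with
  | nil => rw [prodG_nil, prodG_nil, map_one]
  | cons c u ih => rw [prodG_cons, prodG_cons, map_mul, ih, map_letG]

/-- the value function of a letter -/
def letF (fa fai fd fdi fz : ℕ → ℕ) : ℕ → ℕ → ℕ
  | 0 => fa
  | 1 => fai
  | 2 => fd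
  | 3 => fdi
  | _ => fz

/-- the value function of a word -/
def evalU (fa fai fd fdi fz : ℕ → ℕ) (u : List ℕ) (x : ℕ) : ℕ :=
  u.foldr (fun c acc => letF fa fai fd fdi fz c acc) x

theorem evalU_cons (fa fai fd fdi fz : ℕ → ℕ) (c : ℕ) (u : List ℕ) (x : ℕ) :
    evalU fa fai fd fdi fz (c :: u) x = letF fa fai fd fdi fz c (evalU fa fai fd fdi fz u x) := rfl

theorem prodG_val {n : ℕ} (a d z : Equiv.Perm (Fin n)) (fa fai fd fdi fz : ℕ → ℕ)
    (ha : ∀ x : Fin n, (a x).val = fa x.val) (hai : ∀ x : Fin n, (a⁻¹ x).val = fai x.val)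
    (hd : ∀ x : Fin n, (d x).val = fd x.val) (hdi : ∀ x : Fin n, (d⁻¹ x).val = fdi x.val)
    (hz : ∀ x : Fin n, (z x).val = fz x.val) (u : List ℕ) (x : Fin n) :
    (prodG a d z u x).val = evalU fa fai fd fdi fz u x.val := by
  induction u with
  | nil => rfl
  | cons c u ih =>
    rw [prodG_cons, evalU_cons, Equiv.Perm.mul_apply, ← ih]
    unfold letG letF
    split
    · exact ha _
    · exact hai _
    · exact hd _
    · exact hdi _
    · exact hz _

/-- a power of a word that is trivial fixes every point, on values -/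
theorem prodG_pow_val {n : ℕ} (a d z : Equiv.Perm (Fin n)) (fa fai fd fdi fz : ℕ → ℕ)
    (ha : ∀ x : Fin n, (a x).val = fa x.val) (hai : ∀ x : Fin n, (a⁻¹ x).val = fai x.val)
    (hd : ∀ x : Fin n, (d x).val = fd x.val) (hdi : ∀ x : Fin n, (d⁻¹ x).val = fdi x.val)
    (hz : ∀ x : Fin n, (z x).val = fz x.val) (u : List ℕ) (k : ℕ)
    (h : prodG a d z u ^ k = 1) (x : Fin n) : (evalU fa fai fd fdi fz u)^[k] x.val = x.val := by
  have h1 := pow_val_iterate n (prodG a d z u) (evalU fa fai fd fdi fz u)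
    (prodG_val a d z fa fai fd fdi fz ha hai hd hdi hz u) k x
  rw [h, Equiv.Perm.one_apply] at h1
  exact h1.symm

/-- the relator test: some relator moves the point `b` -/
def relTest (fa fai fd fdi fz : ℕ → ℕ) (b : ℕ) (rels : List (List ℕ × ℕ)) : Bool :=
  rels.any fun r => !(Nat.beq ((evalU fa fai fd fdi fz r.1)^[r.2] b) b)

theorem relTest_false {n : ℕ} (a d z : Equiv.Perm (Fin n)) (fa fai fd fdi fz : ℕ → ℕ)
    (ha : ∀ x : Fin n, (a x).val = fa x.val) (hai : ∀ x : Fin n, (a⁻¹ x).val = fai x.val)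
    (hd : ∀ x : Fin n, (d x).val = fd x.val) (hdi : ∀ x : Fin n, (d⁻¹ x).val = fdi x.val)
    (hz : ∀ x : Fin n, (z x).val = fz x.val) (b : Fin n) (rels : List (List ℕ × ℕ))
    (h : ∀ r ∈ rels, prodG a d z r.1 ^ r.2 = 1) :
    relTest fa fai fd fdi fz b.val rels = false := by
  unfold relTest
  rw [List.any_eq_false]
  intro r hr
  rw [prodG_pow_val a d z fa fai fd fdi fz ha hai hd hdi hz r.1 r.2 (h r hr) b]
  simp

end Cfsg.Agent.Lib.Helper27.Big
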