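import Mathlib
import Cfsg.Prelude.Def_ChevAutomorphisms
import Cfsg.Prelude.Def_KGroupFacts
import Cfsg.Prelude.Def_ChevD4
import Cfsg.Prelude.Def_ChevE6
import Cfsg.Prelude.Def_ChevE7
import Cfsg.Prelude.Def_ChevE8

/-!
# Connectivity of the simply-laced Dynkin diagrams D4, E6, E7, E8 (helper27, for helper8 FO-B)

A function on the nodes that is constant along single bonds is constant.
-/

open Cfsg Cfsg.Lie

namespace Cfsg.Agent.Lib.Helper27.BondsConn

set_option maxRecDepth 1000000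

theorem bD4_01 : chevD4.bonds 0 1 = 1 := by decide
theorem bD4_12 : chevD4.bonds 1 2 = 1 := by decide
theorem bD4_13 : chevD4.bonds 1 3 = 1 := by decide

theorem bE6_02 : chevE6.bonds 0 2 = 1 := by decide
theorem bE6_23 : chevE6.bonds 2 3 = 1 := by decide
theorem bE6_13 : chevE6.bonds 1 3 = 1 := by decide
theorem bE6_34 : chevE6.bonds 3 4 = 1 := by decide
theorem bE6_45 : chevE6.bonds 4 5 = 1 := by decide

theorem bE7_02 : chevE7.bonds 0 2 = 1 := by decide
theorem bE7_23 : chevE7.bonds 2 3 = 1 := by decide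
theorem bE7_13 : chevE7.bonds 1 3 = 1 := by decide
theorem bE7_34 : chevE7.bonds 3 4 = 1 := by decide
theorem bE7_45 : chevE7.bonds 4 5 = 1 := by decide
theorem bE7_56 : chevE7.bonds 5 6 = 1 := by decide

theorem bE8_02 : chevE8.bonds 0 2 = 1 := by decide
theorem bE8_23 : chevE8.bonds 2 3 = 1 := by decide
theorem bE8_13 : chevE8.bonds 1 3 = 1 := by decide
theorem bE8_34 : chevE8.bonds 3 4 = 1 := by decide
theorem bE8_45 : chevE8.bonds 4 5 = 1 := by decide
theorem bE8_56 : chevE8.bonds 5 6 = 1 := by decide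
theorem bE8_67 : chevE8.bonds 6 7 = 1 := by decide

theorem const_D4 {α : Type*} (c : Fin chevD4.rank → α)
    (h : ∀ i j : Fin chevD4.rank, chevD4.bonds i j = 1 → c i = c j) :
    ∀ i j : Fin chevD4.rank, c i = c j := by
  have h01 : c ⟨0, by decide⟩ = c ⟨1, by decide⟩ := h ⟨0, by decide⟩ ⟨1, by decide⟩ bD4_01
  have h12 : c ⟨1, by decide⟩ = c ⟨2, by decide⟩ := h ⟨1, by decide⟩ ⟨2, by decide⟩ bD4_12
  have h13 : c ⟨1, by decide⟩ = c ⟨3, by decide⟩ := h ⟨1, by decide⟩ ⟨3, by decide⟩ bD4_13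
  have key : ∀ i : Fin chevD4.rank, c i = c ⟨1, by decide⟩ := by
    rintro ⟨i, hi⟩
    change i < 4 at hi
    interval_cases i
    · exact h01
    · rfl
    · exact h12.symm
    · exact h13.symm
  intro i j
  rw [key i, key j]

theorem const_E6 {α : Type*} (c : Fin chevE6.rank → α)
    (h : ∀ i j : Fin chevE6.rank, chevE6.bonds i j = 1 → c i = c j) :
    ∀ i j : Fin chevE6.rank, c i = c j := by
  have h02 : c ⟨0, by decide⟩ = c ⟨2, by decide⟩ := h ⟨0, by decide⟩ ⟨2, by decide⟩ bE6_02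
  have h23 : c ⟨2, by decide⟩ = c ⟨3, by decide⟩ := h ⟨2, by decide⟩ ⟨3, by decide⟩ bE6_23
  have h13 : c ⟨1, by decide⟩ = c ⟨3, by decide⟩ := h ⟨1, by decide⟩ ⟨3, by decide⟩ bE6_13
  have h34 : c ⟨3, by decide⟩ = c ⟨4, by decide⟩ := h ⟨3, by decide⟩ ⟨4, by decide⟩ bE6_34
  have h45 : c ⟨4, by decide⟩ = c ⟨5, by decide⟩ := h ⟨4, by decide⟩ ⟨5, by decide⟩ bE6_45
  have key : ∀ i : Fin chevE6.rank, c i = c ⟨3, by decide⟩ := by
    rintro ⟨i, hi⟩
    change i < 6 at hi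
    interval_cases i
    · exact h02.trans h23
    · exact h13
    · exact h23
    · rfl
    · exact h34.symm
    · exact h45.symm.trans h34.symm
  intro i j
  rw [key i, key j]

theorem const_E7 {α : Type*} (c : Fin chevE7.rank → α)
    (h : ∀ i j : Fin chevE7.rank, chevE7.bonds i j = 1 → c i = c j) :
    ∀ i j : Fin chevE7.rank, c i = c j := by
  have h02 : c ⟨0, by decide⟩ = c ⟨2, by decide⟩ := h ⟨0, by decide⟩ ⟨2, by decide⟩ bE7_02
  have h23 : c ⟨2, by decide⟩ = c ⟨3, by decide⟩ := h ⟨2, by decide⟩ ⟨3, by decide⟩ bE7_23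
  have h13 : c ⟨1, by decide⟩ = c ⟨3, by decide⟩ := h ⟨1, by decide⟩ ⟨3, by decide⟩ bE7_13
  have h34 : c ⟨3, by decide⟩ = c ⟨4, by decide⟩ := h ⟨3, by decide⟩ ⟨4, by decide⟩ bE7_34
  have h45 : c ⟨4, by decide⟩ = c ⟨5, by decide⟩ := h ⟨4, by decide⟩ ⟨5, by decide⟩ bE7_45
  have h56 : c ⟨5, by decide⟩ = c ⟨6, by decide⟩ := h ⟨5, by decide⟩ ⟨6, by decide⟩ bE7_56
  have key : ∀ i : Fin chevE7.rank, c i = c ⟨3, by decide⟩ := by
    rintro ⟨i, hi⟩
    change i < 7 at hi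
    interval_cases i
    · exact h02.trans h23
    · exact h13
    · exact h23
    · rfl
    · exact h34.symm
    · exact h45.symm.trans h34.symm
    · exact h56.symm.trans (h45.symm.trans h34.symm)
  intro i j
  rw [key i, key j]

theorem const_E8 {α : Type*} (c : Fin chevE8.rank → α)
    (h : ∀ i j : Fin chevE8.rank, chevE8.bonds i j = 1 → c i = c j) :
    ∀ i j : Fin chevE8.rank, c i = c j := by
  have h02 : c ⟨0, by decide⟩ = c ⟨2, by decide⟩ := h ⟨0, by decide⟩ ⟨2, by decide⟩ bE8_02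
  have h23 : c ⟨2, by decide⟩ = c ⟨3, by decide⟩ := h ⟨2, by decide⟩ ⟨3, by decide⟩ bE8_23
  have h13 : c ⟨1, by decide⟩ = c ⟨3, by decide⟩ := h ⟨1, by decide⟩ ⟨3, by decide⟩ bE8_13
  have h34 : c ⟨3, by decide⟩ = c ⟨4, by decide⟩ := h ⟨3, by decide⟩ ⟨4, by decide⟩ bE8_34
  have h45 : c ⟨4, by decide⟩ = c ⟨5, by decide⟩ := h ⟨4, by decide⟩ ⟨5, by decide⟩ bE8_45
  have h56 : c ⟨5, by decide⟩ = c ⟨6, by decide⟩ := h ⟨5, by decide⟩ ⟨6, by decide⟩ bE8_56
  have h67 : c ⟨6, by decide⟩ = c ⟨7, by decide⟩ := h ⟨6, by decide⟩ ⟨7, by decide⟩ bE8_67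
  have key : ∀ i : Fin chevE8.rank, c i = c ⟨3, by decide⟩ := by
    rintro ⟨i, hi⟩
    change i < 8 at hi
    interval_cases i
    · exact h02.trans h23
    · exact h13
    · exact h23
    · rfl
    · exact h34.symm
    · exact h45.symm.trans h34.symm
    · exact h56.symm.trans (h45.symm.trans h34.symm)
    · exact h67.symm.trans (h56.symm.trans (h45.symm.trans h34.symm))
  intro i j
  rw [key i, key j]

theorem const_of_bonds (D : ChevalleyDatum) (hD : D ∈ [chevD4, chevE6, chevE7, chevE8])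
    {α : Type*} (c : Fin D.rank → α)
    (h : ∀ i j : Fin D.rank, D.bonds i j = 1 → c i = c j) :
    ∀ i j : Fin D.rank, c i = c j := by
  simp only [List.mem_cons, List.not_mem_nil, or_false] at hD
  rcases hD with rfl | rfl | rfl | rfl
  · exact const_D4 c h
  · exact const_E6 c h
  · exact const_E7 c h
  · exact const_E8 c h

end Cfsg.Agent.Lib.Helper27.BondsConn
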