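import Mathlib
import Cfsg.Agent.Lib.Helper27.CBGroup

set_option autoImplicit false

/-! Fixed points of the subgroups `⟨(i, j)⟩` on a characteristic biset. -/

namespace Cfsg.Agent.Lib.Helper27.CB

open Cfsg Cfsg.FusionSystem Cfsg.Agent.Lib.Helper27 Cfsg.Agent.Lib.Helper27.Park Classical

universe u

variable {Ω : Type u} [Group Ω] {S : Subgroup Ω}

/-- Homomorphisms from the automorphism group of the biset to a commutative group are constant on the
classes of the system. -/
theorem stable_of_hom [Finite S] (F : FusionSystem S) {n : Subgroup (S × S) → ℕ}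
    (hn : ∀ D, n D ≠ 0 → D ∈ fam F)
    (hst : ∀ D D', D ∈ fam F → D' ∈ fam F → F.IsConj (pr₁ D) (pr₁ D') → mark n D = mark n D')
    {A : Type*} [CommGroup A] (V : Cent (rS n) →* A) (P : Subgroup Ω) (φ : P →* Ω) (hφ : φ ∈ F.Hom P)
    (u : P) : (V.comp (iotaG n)) ⟨φ u, (F.le_of_mem hφ).2 u⟩ = (V.comp (iotaG n)) ⟨u, hom_le F hφ u.2⟩ := by
  obtain ⟨e, he⟩ := exists_conj F hn hst hφ
  show V (iotaG n _) = V (iotaG n _)
  rw [he u, map_mul, map_mul, map_inv, mul_comm, inv_mul_cancel_left]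

/-- The fixed points of `(a, b)`. -/
theorem fixPts_zpowers (n : Subgroup (S × S) → ℕ) (h : S × S) :
    FixPts (act n) (Subgroup.zpowers h) = {x | act n h x = x} := by
  ext x
  rw [mem_fixPts_iff, Subgroup.zpowers_le, mem_stab]
  rfl

theorem pr₁_zpowers (a b : S) : pr₁ (Subgroup.zpowers ((a, b) : S × S)) = Subgroup.zpowers (a : Ω) := by
  unfold pr₁
  rw [MonoidHom.map_zpowers, MonoidHom.map_zpowers]
  rfl

/-- `⟨(a, b)⟩` is the graph of a map of the system iff some map of the system on `⟨a⟩` sends `a` to `b`. -/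
theorem zpowers_mem_fam_iff (F : FusionSystem S) (a b : S) :
    Subgroup.zpowers ((a, b) : S × S) ∈ fam F ↔
      ∃ θ ∈ F.Hom (Subgroup.zpowers (a : Ω)), θ ⟨a, Subgroup.mem_zpowers _⟩ = (b : Ω) := by
  constructor
  · rintro ⟨Q, θ, hθ, hg⟩
    obtain ⟨hq, h1⟩ := (hg a b).mp (Subgroup.mem_zpowers _)
    have hle : Subgroup.zpowers (a : Ω) ≤ Q := by
      rw [Subgroup.zpowers_le]
      exact hq
    exact ⟨_, hom_restrict F hle hθ, h1⟩
  · rintro ⟨θ, hθ, h1⟩
    refine ⟨_, θ, hθ, fun s t => ?_⟩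
    rw [Subgroup.mem_zpowers_iff]
    constructor
    · rintro ⟨k, hk⟩
      have h2 : a ^ k = s := congrArg Prod.fst hk
      have h3 : b ^ k = t := congrArg Prod.snd hk
      have hsk : (s : Ω) = (a : Ω) ^ k := by rw [← Subgroup.coe_zpow, h2]
      have htk : (t : Ω) = (b : Ω) ^ k := by rw [← Subgroup.coe_zpow, h3]
      have hq : (s : Ω) ∈ Subgroup.zpowers (a : Ω) := ⟨k, hsk.symm⟩
      refine ⟨hq, ?_⟩
      have h4 : (⟨(s : Ω), hq⟩ : Subgroup.zpowers (a : Ω)) = ⟨a, Subgroup.mem_zpowers _⟩ ^ k := by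
        apply Subtype.ext
        exact hsk
      rw [h4, map_zpow, h1, htk]
    · rintro ⟨hq, h2⟩
      obtain ⟨k, hk⟩ := hq
      refine ⟨k, ?_⟩
      have hk' : (a : Ω) ^ k = (s : Ω) := hk
      have h4 : (⟨(s : Ω), ⟨k, hk⟩⟩ : Subgroup.zpowers (a : Ω)) = ⟨a, Subgroup.mem_zpowers _⟩ ^ k := by
        apply Subtype.ext
        exact hk'.symm
      rw [h4, map_zpow, h1] at h2
      apply Prod.ext
      · apply Subtype.ext
        show ((a ^ k : S) : Ω) = s
        rw [Subgroup.coe_zpow, hk']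
      · apply Subtype.ext
        show ((b ^ k : S) : Ω) = t
        rw [Subgroup.coe_zpow, h2]

variable [Finite S]

omit [Finite S] in
/-- The number of fixed points of `(i, j)` does not depend on `j` in the class of `i`. -/
theorem mark_zpowers_eq (F : FusionSystem S) {n : Subgroup (S × S) → ℕ}
    (hst : ∀ D D', D ∈ fam F → D' ∈ fam F → F.IsConj (pr₁ D) (pr₁ D') → mark n D = mark n D')
    (i j j' : S) (hj : Subgroup.zpowers ((i, j) : S × S) ∈ fam F)
    (hj' : Subgroup.zpowers ((i, j') : S × S) ∈ fam F) :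
    mark n (Subgroup.zpowers ((i, j) : S × S)) = mark n (Subgroup.zpowers ((i, j') : S × S)) := by
  apply hst _ _ hj hj'
  rw [pr₁_zpowers, pr₁_zpowers]
  apply isConj_refl
  rw [Subgroup.zpowers_le]
  exact i.2

theorem mark_zpowers_eq_zero (F : FusionSystem S) {n : Subgroup (S × S) → ℕ}
    (hn : ∀ D, n D ≠ 0 → D ∈ fam F) (i j : S) (hj : Subgroup.zpowers ((i, j) : S × S) ∉ fam F) :
    mark n (Subgroup.zpowers ((i, j) : S × S)) = 0 :=
  mark_eq_zero n (fam F) (fun _ hD _ hL => fam_sub F hD hL) (fun _ hD g => fam_conj F hD g) hn hj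

/-- Counting the points `x` with `i x = x j` for some `j` in a given set. -/
theorem ncard_fixed_union (F : FusionSystem S) {n : Subgroup (S × S) → ℕ}
    (hn : ∀ D, n D ≠ 0 → D ∈ fam F)
    (hst : ∀ D D', D ∈ fam F → D' ∈ fam F → F.IsConj (pr₁ D) (pr₁ D') → mark n D = mark n D')
    (i : S) (U : Set S) :
    ({x : PX n | ∃ j ∈ U, act n (i, j) x = x} : Set (PX n)).ncard =
      ({j : S | j ∈ U ∧ Subgroup.zpowers ((i, j) : S × S) ∈ fam F} : Set S).ncard *
        mark n (Subgroup.zpowers ((i, i) : S × S)) := by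
  haveI : Fintype (PX n) := Fintype.ofFinite _
  haveI : Fintype S := Fintype.ofFinite _
  have huniq : ∀ (x : PX n) (j j' : S), act n (i, j) x = x → act n (i, j') x = x → j = j' := by
    intro x j j' h1 h2
    have h3 : act n ((1 : S), j⁻¹ * j') x = x := by
      have e : (((1 : S), j⁻¹ * j') : S × S) = (i, j)⁻¹ * (i, j') := by
        ext <;> simp
      rw [e, map_mul, Equiv.Perm.mul_apply, h2, map_inv, Equiv.Perm.inv_eq_iff_eq, h1]
    have h4 := rS_free F hn (j⁻¹ * j') x h3
    exact inv_mul_eq_one.mp h4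
  have hfam : ∀ (x : PX n) (j : S), act n (i, j) x = x → Subgroup.zpowers ((i, j) : S × S) ∈ fam F := by
    intro x j h1
    obtain ⟨D, hD, hstab⟩ := exists_stab F hn x
    apply fam_sub F hD
    rw [Subgroup.zpowers_le]
    exact (hstab _).mp h1
  obtain ⟨f, hf⟩ : ∃ f : PX n → S, ∀ x, (∃ j, act n (i, j) x = x) → act n (i, f x) x = x :=
    ⟨fun x => if h : ∃ j, act n (i, j) x = x then h.choose else 1, fun x h => by
      simp only [dif_pos h]
      exact h.choose_spec⟩
  rw [Set.ncard_eq_toFinset_card _ (Set.toFinite _), Set.ncard_eq_toFinset_card _ (Set.toFinite _)]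
  rw [Finset.card_eq_sum_card_fiberwise (f := f)
    (t := (Set.toFinite {j : S | j ∈ U ∧ Subgroup.zpowers ((i, j) : S × S) ∈ fam F}).toFinset)]
  · rw [Finset.sum_const_nat (m := mark n (Subgroup.zpowers ((i, i) : S × S)))]
    intro j hj
    rw [Set.Finite.mem_toFinset] at hj
    obtain ⟨hjU, hjf⟩ := hj
    have hii : Subgroup.zpowers ((i, i) : S × S) ∈ fam F := by
      rw [zpowers_mem_fam_iff]
      have hle : Subgroup.zpowers (i : Ω) ≤ S := by
        rw [Subgroup.zpowers_le]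
        exact i.2
      exact ⟨_, hom_subtype F hle, rfl⟩
    rw [← mark_zpowers_eq F hst i j i hjf hii]
    unfold mark
    rw [fixPts_zpowers, Set.ncard_eq_toFinset_card _ (Set.toFinite _)]
    apply congrArg Finset.card
    ext x
    rw [Finset.mem_filter, Set.Finite.mem_toFinset, Set.Finite.mem_toFinset]
    constructor
    · rintro ⟨⟨j', -, h1⟩, h2⟩
      have h3 := hf x ⟨j', h1⟩
      rw [h2] at h3
      exact h3
    · intro h1
      have h1' : act n (i, j) x = x := h1
      refine ⟨⟨j, hjU, h1'⟩, ?_⟩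
      exact huniq x _ _ (hf x ⟨j, h1'⟩) h1'
  · intro x hx
    rw [Finset.mem_coe, Set.Finite.mem_toFinset] at hx ⊢
    obtain ⟨j, hjU, h1⟩ := hx
    have h2 := hf x ⟨j, h1⟩
    have h3 := huniq x _ _ h2 h1
    rw [h3]
    exact ⟨hjU, hfam x j h1⟩

end Cfsg.Agent.Lib.Helper27.CB
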