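import Mathlib
import Cfsg.Agent.Lib.Helper27.CBInvol
import Cfsg.Agent.Lib.Helper27.CBFocal

set_option autoImplicit false

/-! Preparations for the Thompson transfer lemma for saturated fusion systems: elements of order two. -/

namespace Cfsg.Agent.Lib.Helper27.CB

open Cfsg Cfsg.FusionSystem Cfsg.Agent.Lib.Helper27 Cfsg.Agent.Lib.Helper27.Park Classical

universe u

variable {Ω : Type u} [Group Ω] {S : Subgroup Ω}

theorem mem_zpowers_of_orderOf_two {G : Type*} [Group G] {j x : G} (hj : orderOf j = 2)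
    (hx : x ∈ Subgroup.zpowers j) : x = 1 ∨ x = j := by
  obtain ⟨k, hk⟩ := Subgroup.mem_zpowers_iff.mp hx
  rw [← hk, ← zpow_mod_orderOf, hj]
  rcases Int.emod_two_eq_zero_or_one k with h | h
  · left
    rw [show k % ((2 : ℕ) : ℤ) = 0 from h, zpow_zero]
  · right
    rw [show k % ((2 : ℕ) : ℤ) = 1 from h, zpow_one]

/-- For `j` of order two, `N_S(⟨j⟩)` is the centralizer of `j` in `S`. -/
theorem mem_normalizerIn_zpowers_iff {j : Ω} (hj : orderOf j = 2) {s : Ω} :
    s ∈ normalizerIn S (Subgroup.zpowers j) ↔ s ∈ S ∧ s * j * s⁻¹ = j := by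
  rw [mem_normalizerIn_iff]
  constructor
  · rintro ⟨hs, hn⟩
    refine ⟨hs, ?_⟩
    have h1 : s * j * s⁻¹ ∈ Subgroup.zpowers j :=
      (Subgroup.mem_normalizer_iff.mp hn j).mp (Subgroup.mem_zpowers j)
    rcases mem_zpowers_of_orderOf_two hj h1 with h2 | h2
    · exfalso
      have h3 : j = 1 := by
        have : j = s⁻¹ * (s * j * s⁻¹) * s := by group
        rw [this, h2]
        group
      rw [h3, orderOf_one] at hj
      omega
    · exact h2
  · rintro ⟨hs, hc⟩
    refine ⟨hs, ?_⟩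
    haveI : Finite (Subgroup.zpowers j) :=
      Nat.finite_of_card_ne_zero (by rw [Nat.card_zpowers, hj]; norm_num)
    apply mem_normalizer_of_conj_mem
    intro y hy
    rcases mem_zpowers_of_orderOf_two hj hy with h2 | h2
    · rw [h2]
      simp
    · rw [h2, hc]
      exact Subgroup.mem_zpowers j

/-- Elements in the class of an element of order two have order two. -/
theorem orderOf_of_hom {F : FusionSystem S} {a : Ω} {θ : Subgroup.zpowers a →* Ω}
    (hθ : θ ∈ F.Hom (Subgroup.zpowers a)) : orderOf (θ ⟨a, Subgroup.mem_zpowers a⟩) = orderOf a := by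
  rw [orderOf_injective θ (F.injective_of_mem hθ)]
  exact Subgroup.orderOf_mk a _

/-- The image of `⟨a⟩` under a homomorphism. -/
theorem range_zpowers_hom {a : Ω} (θ : Subgroup.zpowers a →* Ω) :
    θ.range = Subgroup.zpowers (θ ⟨a, Subgroup.mem_zpowers a⟩) := by
  ext y
  constructor
  · rintro ⟨⟨x, hx⟩, rfl⟩
    obtain ⟨k, hk⟩ := Subgroup.mem_zpowers_iff.mp hx
    rw [Subgroup.mem_zpowers_iff]
    refine ⟨k, ?_⟩
    rw [← map_zpow]
    congr 1
    exact Subtype.ext hk
  · intro hy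
    obtain ⟨k, hk⟩ := Subgroup.mem_zpowers_iff.mp hy
    refine ⟨⟨a, Subgroup.mem_zpowers a⟩ ^ k, ?_⟩
    rw [map_zpow, hk]

end Cfsg.Agent.Lib.Helper27.CB
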