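import Mathlib
import Cfsg.Agent.Lib.Helper27.CBThompsonA

set_option autoImplicit false

/-! Preparations for the Thompson transfer lemma for saturated fusion systems: the class of an
involution. -/

namespace Cfsg.Agent.Lib.Helper27.CB

open Cfsg Cfsg.FusionSystem Cfsg.Agent.Lib.Helper27 Cfsg.Agent.Lib.Helper27.Park Classical

universe u

variable {Ω : Type u} [Group Ω] {S : Subgroup Ω}

/-- The elements `j` of `S` such that `i ↦ j` is a map of the system. -/
def Jset (F : FusionSystem S) (i : S) : Set S := {j | Subgroup.zpowers ((i, j) : S × S) ∈ fam F}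

/-- The order of `N_S(⟨j⟩)`. -/
noncomputable def Nj (j : S) : ℕ := Nat.card (normalizerIn S (Subgroup.zpowers (j : Ω)))

theorem self_mem_Jset (F : FusionSystem S) (i : S) : i ∈ Jset F i := by
  unfold Jset
  rw [Set.mem_ofPred_eq, zpowers_mem_fam_iff]
  have hle : Subgroup.zpowers (i : Ω) ≤ S := by
    rw [Subgroup.zpowers_le]
    exact i.2
  exact ⟨_, hom_subtype F hle, rfl⟩

theorem orderOf_of_mem_Jset {F : FusionSystem S} {i j : S} (hj : j ∈ Jset F i) :
    orderOf (j : Ω) = orderOf (i : Ω) := by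
  obtain ⟨θ, hθ, h1⟩ := (zpowers_mem_fam_iff F i j).mp hj
  rw [← h1]
  exact orderOf_of_hom hθ

/-- Images of members of the class under maps of the system are in the class. -/
theorem mem_Jset_of_hom {F : FusionSystem S} {i j : S} (hj : j ∈ Jset F i)
    {φ : Subgroup.zpowers (j : Ω) →* Ω} (hφ : φ ∈ F.Hom (Subgroup.zpowers (j : Ω))) :
    (⟨φ ⟨j, Subgroup.mem_zpowers _⟩, (F.le_of_mem hφ).2 _⟩ : S) ∈ Jset F i := by
  obtain ⟨θ, hθ, h1⟩ := (zpowers_mem_fam_iff F i j).mp hj
  unfold Jset
  rw [Set.mem_ofPred_eq, zpowers_mem_fam_iff]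
  have hr : ∀ x : Subgroup.zpowers (i : Ω), θ x ∈ Subgroup.zpowers (j : Ω) := by
    intro x
    have : θ x ∈ θ.range := ⟨x, rfl⟩
    rwa [range_zpowers_hom, h1] at this
  refine ⟨_, hom_comp F hθ hφ hr, ?_⟩
  show φ ⟨θ ⟨i, _⟩, _⟩ = φ ⟨j, _⟩
  congr 1
  exact Subtype.ext h1

theorem conj_mem_Jset {F : FusionSystem S} {i j : S} (hj : j ∈ Jset F i) (s : S) :
    s * j * s⁻¹ ∈ Jset F i := by
  have hle : Subgroup.zpowers (j : Ω) ≤ S := by
    rw [Subgroup.zpowers_le]
    exact j.2
  have := mem_Jset_of_hom hj (F.conj_mem hle s.2)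
  convert this using 1
  apply Subtype.ext
  rfl

theorem isFullyNormalized_of_max {F : FusionSystem S} {i j : S} (hj : j ∈ Jset F i)
    (hmax : ∀ j' ∈ Jset F i, Nj j' ≤ Nj j) : F.IsFullyNormalized (Subgroup.zpowers (j : Ω)) := by
  have hle : Subgroup.zpowers (j : Ω) ≤ S := by
    rw [Subgroup.zpowers_le]
    exact j.2
  refine ⟨hle, fun Q' hQ' => ?_⟩
  obtain ⟨φ, hφ, rfl⟩ := hQ'
  have h := hmax _ (mem_Jset_of_hom hj hφ)
  unfold Nj at h
  have e := range_zpowers_hom φ
  rw [e]
  exact h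

variable [Finite S]

omit [Finite S] in
theorem Nj_dvd_card (j : S) : Nj j ∣ Nat.card S :=
  Subgroup.card_dvd_of_le (normalizerIn_le_S S _)

/-- `|N_S(⟨j⟩)|` divides the number of fixed points of `(i, j)`. -/
theorem Nj_dvd_mark (F : FusionSystem S) {n : Subgroup (S × S) → ℕ} (hn : ∀ D, n D ≠ 0 → D ∈ fam F)
    (i j : S) (hj2 : orderOf (j : Ω) = 2) : Nj j ∣ mark n (Subgroup.zpowers ((i, j) : S × S)) := by
  have hcard : Nat.card ((normalizerIn S (Subgroup.zpowers (j : Ω))).subgroupOf S) = Nj j :=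
    Nat.card_congr (Subgroup.subgroupOfEquivOfLe (normalizerIn_le_S S _)).toEquiv
  rw [← hcard]
  unfold mark
  rw [fixPts_zpowers]
  apply card_dvd_ncard_of_invariant
    ((rS n).comp ((normalizerIn S (Subgroup.zpowers (j : Ω))).subgroupOf S).subtype)
  · intro c x h
    have := rS_free F hn _ x h
    exact Subtype.ext this
  · intro c x hx
    have hc : ((c : S) : Ω) * j * ((c : S) : Ω)⁻¹ = j :=
      ((mem_normalizerIn_zpowers_iff hj2).mp c.2).2
    have hc' : (c : S) * j = j * (c : S) := by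
      apply Subtype.ext
      show ((c : S) : Ω) * j = j * ((c : S) : Ω)
      calc ((c : S) : Ω) * j = (((c : S) : Ω) * j * ((c : S) : Ω)⁻¹) * ((c : S) : Ω) := by group
        _ = j * ((c : S) : Ω) := by rw [hc]
    show act n (i, j) (act n ((1 : S), (c : S)) x) = act n ((1 : S), (c : S)) x
    have hx' : act n (i, j) x = x := hx
    rw [← Equiv.Perm.mul_apply, ← map_mul]
    have e : ((i, j) : S × S) * ((1 : S), (c : S)) = ((1 : S), (c : S)) * (i, j) := by
      ext
      · simp
      · show ((j * (c : S) : S) : Ω) = (((c : S) * j : S) : Ω)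
        rw [hc']
    rw [e, map_mul, Equiv.Perm.mul_apply, hx']

/-- Divisibility of the cardinality of a conjugation-invariant subset of `S`. -/
theorem dvd_ncard_of_conj_invariant (U : Set S) (hU : ∀ s j : S, j ∈ U → s * j * s⁻¹ ∈ U) (m : ℕ)
    (hm : ∀ j ∈ U, ∀ c : ℕ, c * Nat.card {s : S // s * j * s⁻¹ = j} = Nat.card S → m ∣ c) :
    m ∣ U.ncard := by
  let κ : S →* Equiv.Perm U :=
    { toFun := fun s =>
        { toFun := fun j => ⟨s * j * s⁻¹, hU s j j.2⟩
          invFun := fun j => ⟨s⁻¹ * j * s⁻¹⁻¹, hU s⁻¹ j j.2⟩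
          left_inv := fun j => Subtype.ext (by simp [mul_assoc])
          right_inv := fun j => Subtype.ext (by simp [mul_assoc]) }
      map_one' := by
        ext j
        simp
      map_mul' := by
        intro s t
        ext j
        simp [mul_assoc] }
  letI : MulAction S U := MulAction.compHom U κ
  have h1 : Nat.card U = U.ncard := rfl
  rw [← h1]
  apply dvd_card_of_dvd_index (H := S)
  intro j
  apply hm j j.2
  rw [← Subgroup.index_mul_card (MulAction.stabilizer S j)]
  congr 1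
  apply Nat.card_congr
  refine
    { toFun := fun s => ⟨s, ?_⟩
      invFun := fun s => ⟨s, ?_⟩
      left_inv := fun s => rfl
      right_inv := fun s => rfl }
  · show κ s j = j
    exact Subtype.ext s.2
  · have h2 : κ s j = j := s.2
    exact congrArg Subtype.val h2

end Cfsg.Agent.Lib.Helper27.CB
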