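import Mathlib
import Cfsg.Agent.Lib.Helper27.CBThompsonB

set_option autoImplicit false

/-! The Thompson transfer lemma for saturated fusion systems. -/

namespace Cfsg.Agent.Lib.Helper27.CB

open Cfsg Cfsg.FusionSystem Cfsg.Agent.Lib.Helper27 Cfsg.Agent.Lib.Helper27.Park Classical

universe u

variable {Ω : Type u} [Group Ω] {S : Subgroup Ω} [Finite S]

omit [Finite S] in
theorem card_centralizer_subtype {j : S} (hj2 : orderOf (j : Ω) = 2) :
    Nat.card {s : S // s * j * s⁻¹ = j} = Nj j := by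
  unfold Nj
  apply Nat.card_congr
  refine
    { toFun := fun s => ⟨((s : S) : Ω), (mem_normalizerIn_zpowers_iff hj2).mpr
        ⟨(s : S).2, congrArg Subtype.val s.2⟩⟩
      invFun := fun t => ⟨⟨(t : Ω), ((mem_normalizerIn_zpowers_iff hj2).mp t.2).1⟩,
        Subtype.ext ((mem_normalizerIn_zpowers_iff hj2).mp t.2).2⟩
      left_inv := fun s => rfl
      right_inv := fun t => rfl }

/-- The divisibility at the heart of the Thompson transfer lemma. -/
theorem thompson_dvd (hS : IsPGroup 2 S) {F : FusionSystem S} {n : Subgroup (S × S) → ℕ}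
    (hn : ∀ D, n D ≠ 0 → D ∈ fam F)
    (hst : ∀ D D', D ∈ fam F → D' ∈ fam F → F.IsConj (pr₁ D) (pr₁ D') → mark n D = mark n D')
    (T' : Subgroup S) [T'.Normal] (is : S) (his2 : orderOf (is : Ω) = 2)
    (h : ∀ j : S, j ∈ Jset F is → F.IsFullyNormalized (Subgroup.zpowers (j : Ω)) → j ∉ T') :
    2 * Nat.card S ∣ ({j : S | j ∈ (T' : Set S) ∧ Subgroup.zpowers ((is, j) : S × S) ∈ fam F} :
      Set S).ncard * mark n (Subgroup.zpowers ((is, is) : S × S)) := by
  obtain ⟨a, ha⟩ := IsPGroup.iff_card.mp hS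
  obtain ⟨jst, hjst, hmax⟩ := Set.exists_max_image (Jset F is) Nj (Set.toFinite _)
    ⟨is, self_mem_Jset F is⟩
  have hord : ∀ j ∈ Jset F is, orderOf (j : Ω) = 2 := fun j hj => by
    rw [orderOf_of_mem_Jset hj, his2]
  have hpow : ∀ j : S, ∃ e, Nj j = 2 ^ e := by
    intro j
    have h1 := Nj_dvd_card j
    rw [ha] at h1
    obtain ⟨e, -, he⟩ := (Nat.dvd_prime_pow Nat.prime_two).mp h1
    exact ⟨e, he⟩
  have hm₀ : Nj jst ∣ mark n (Subgroup.zpowers ((is, is) : S × S)) := by
    rw [mark_zpowers_eq F hst is is jst (self_mem_Jset F is) hjst]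
    exact Nj_dvd_mark F hn is jst (hord jst hjst)
  have hlt : ∀ j : S, j ∈ (T' : Set S) → j ∈ Jset F is → 2 * Nj j ∣ Nj jst := by
    intro j hjT hjJ
    have h1 : Nj j < Nj jst := by
      by_contra hcon
      push Not at hcon
      have hfn := isFullyNormalized_of_max hjJ (fun j' hj' => (hmax j' hj').trans hcon)
      exact h j hjJ hfn hjT
    obtain ⟨e, he⟩ := hpow j
    obtain ⟨c, hc⟩ := hpow jst
    rw [he, hc] at h1 ⊢
    have h2 : e < c := (Nat.pow_lt_pow_iff_right (by norm_num)).mp h1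
    rw [← pow_succ']
    exact pow_dvd_pow 2 h2
  have hcS : Nj jst ∣ 2 * Nat.card S := (Nj_dvd_card jst).mul_left 2
  have hm : ∀ j ∈ ({j : S | j ∈ (T' : Set S) ∧ Subgroup.zpowers ((is, j) : S × S) ∈ fam F} : Set S),
      ∀ c : ℕ, c * Nat.card {s : S // s * j * s⁻¹ = j} = Nat.card S →
      2 * Nat.card S / Nj jst ∣ c := by
    rintro j ⟨hjT, hjJ⟩ c hc
    rw [card_centralizer_subtype (hord j hjJ)] at hc
    obtain ⟨q, hq⟩ := hlt j hjT hjJ
    refine ⟨q, ?_⟩
    have h3 : 2 * Nat.card S / Nj jst * Nj jst = 2 * Nat.card S := Nat.div_mul_cancel hcS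
    have hpos : 0 < 2 * Nj j := by
      obtain ⟨e, he⟩ := hpow j
      rw [he]
      positivity
    apply Nat.eq_of_mul_eq_mul_right hpos
    calc c * (2 * Nj j) = 2 * (c * Nj j) := by ring
      _ = 2 * Nat.card S := by rw [hc]
      _ = 2 * Nat.card S / Nj jst * Nj jst := h3.symm
      _ = 2 * Nat.card S / Nj jst * (2 * Nj j * q) := by rw [hq]
      _ = 2 * Nat.card S / Nj jst * q * (2 * Nj j) := by ring
  have h4 := dvd_ncard_of_conj_invariant
    ({j : S | j ∈ (T' : Set S) ∧ Subgroup.zpowers ((is, j) : S × S) ∈ fam F} : Set S)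
    (by
      rintro s j ⟨hjT, hjJ⟩
      exact ⟨‹T'.Normal›.conj_mem j hjT s, conj_mem_Jset hjJ s⟩)
    (2 * Nat.card S / Nj jst) hm
  have h5 := Nat.mul_dvd_mul h4 hm₀
  rwa [Nat.div_mul_cancel hcS] at h5

/-- The Thompson transfer lemma, for an element of `S`. -/
theorem thompson_aux (hS : IsPGroup 2 S) {F : FusionSystem S} (hF : F.IsSaturated 2)
    (T' : Subgroup S) (hT' : T'.index = 2) (is : S) (his2 : orderOf (is : Ω) = 2)
    (h : ∀ j : S, j ∈ Jset F is → F.IsFullyNormalized (Subgroup.zpowers (j : Ω)) → j ∉ T') :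
    (is : Ω) ∉ F.focalSubgroup := by
  intro hfoc
  obtain ⟨n, hn, hst, k, hk, hpk⟩ := exists_charBiset hS hF
  haveI : T'.Normal := Subgroup.normal_of_index_eq_two hT'
  have hcardS : Nat.card S = 2 * Nat.card T' := by
    rw [← hT']
    exact (Subgroup.index_mul_card T').symm
  have hfreeT : ∀ (b : T') (x : PX n), ((rS n).comp T'.subtype) b x = x → b = 1 :=
    fun b x hb => Subtype.ext (rS_free F hn _ x hb)
  have hle : Cent (rS n) ≤ Cent ((rS n).comp T'.subtype) := by
    intro g hg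
    rw [mem_Cent_iff] at hg ⊢
    intro b x
    exact hg _ x
  letI : Fintype (Orb ((rS n).comp T'.subtype)) := Fintype.ofFinite _
  obtain ⟨V, hV⟩ : ∃ V : Cent (rS n) →* ℤˣ, ∀ g, V g =
      Equiv.Perm.sign (quotPerm ((rS n).comp T'.subtype) (Subgroup.inclusion hle g)) :=
    ⟨Equiv.Perm.sign.comp ((quotPerm _).comp (Subgroup.inclusion hle)), fun g => rfl⟩
  obtain ⟨_, h1⟩ := focal_le_ker (V.comp (iotaG n)) (stable_of_hom F hn hst V) hfoc
  have h1' : V (iotaG n is) = 1 := h1
  rw [hV] at h1'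
  have hisis : is * is = 1 := by
    apply Subtype.ext
    show (is : Ω) * (is : Ω) = 1
    rw [← pow_two, ← his2, pow_orderOf_eq_one]
  have hσσ : quotPerm ((rS n).comp T'.subtype) (Subgroup.inclusion hle (iotaG n is)) *
      quotPerm ((rS n).comp T'.subtype) (Subgroup.inclusion hle (iotaG n is)) = 1 := by
    rw [← map_mul, ← map_mul, ← map_mul, hisis, map_one, map_one, map_one]
  rw [sign_of_involution _ hσσ] at h1'
  -- cardinalities
  have hY : Fintype.card (Orb ((rS n).comp T'.subtype)) = 2 * k := by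
    have e1 := card_eq_card_orb_mul ((rS n).comp T'.subtype) hfreeT
    rw [hk, hcardS, Nat.card_eq_fintype_card (α := Orb ((rS n).comp T'.subtype))] at e1
    have hpos : 0 < Nat.card T' := Nat.card_pos
    apply Nat.eq_of_mul_eq_mul_right hpos
    rw [← e1]
    ring
  have hpre : (orbMk ((rS n).comp T'.subtype) ⁻¹' (Function.fixedPoints
      (quotPerm ((rS n).comp T'.subtype) (Subgroup.inclusion hle (iotaG n is))))) =
      {x : PX n | ∃ j ∈ (T' : Set S), act n (is, j) x = x} := by
    ext x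
    simp only [Set.mem_preimage, Function.mem_fixedPoints, Function.IsFixedPt, Set.mem_ofPred_eq]
    rw [quotPerm_mk, orbMk_eq_iff]
    have e2 : ∀ b : T', ((rS n).comp T'.subtype) b
        (((Subgroup.inclusion hle (iotaG n is) : Cent ((rS n).comp T'.subtype)) :
          Equiv.Perm (PX n)) x) = act n (is, (b : S)) x := by
      intro b
      show act n ((1 : S), (b : S)) (act n (is, (1 : S)) x) = _
      rw [← Equiv.Perm.mul_apply, ← map_mul]
      congr 2
      ext <;> simp
    constructor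
    · rintro ⟨b, hb⟩
      rw [e2] at hb
      exact ⟨b, b.2, hb⟩
    · rintro ⟨j, hj, hx⟩
      refine ⟨⟨j, hj⟩, ?_⟩
      rw [e2]
      exact hx
  have hcount := ncard_preimage_orbMk ((rS n).comp T'.subtype) hfreeT (Function.fixedPoints
      (quotPerm ((rS n).comp T'.subtype) (Subgroup.inclusion hle (iotaG n is))))
  rw [hpre, ncard_fixed_union F hn hst is (T' : Set S)] at hcount
  have hdvd := thompson_dvd hS hn hst T' is his2 h
  rw [hcount, hcardS] at hdvd
  have hfix : (Function.fixedPoints (quotPerm ((rS n).comp T'.subtype)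
      (Subgroup.inclusion hle (iotaG n is))) : Set _).ncard =
      Fintype.card (Function.fixedPoints (quotPerm ((rS n).comp T'.subtype)
      (Subgroup.inclusion hle (iotaG n is)))) := by
    rw [← Nat.card_eq_fintype_card]
    rfl
  rw [hfix] at hdvd
  have h4 : 4 ∣ Fintype.card (Function.fixedPoints (quotPerm ((rS n).comp T'.subtype)
      (Subgroup.inclusion hle (iotaG n is)))) := by
    have hpos : 0 < Nat.card T' := Nat.card_pos
    have e3 : 2 * (2 * Nat.card T') = 4 * Nat.card T' := by ring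
    rw [e3] at hdvd
    exact Nat.dvd_of_mul_dvd_mul_right hpos hdvd
  have hle2 : Fintype.card (Function.fixedPoints (quotPerm ((rS n).comp T'.subtype)
      (Subgroup.inclusion hle (iotaG n is)))) ≤ 2 * k := by
    rw [← hY]
    exact Fintype.card_subtype_le _
  rw [hY] at h1'
  obtain ⟨f', hf'⟩ := h4
  rw [hf'] at h1' hle2
  have hodd : Odd ((2 * k - 4 * f') / 2) := by
    have hk2 : k % 2 = 1 := by
      rcases Nat.mod_two_eq_zero_or_one k with h0 | h0
      · exact absurd (Nat.dvd_of_mod_eq_zero h0) hpk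
      · exact h0
    rw [Nat.odd_iff]
    omega
  rw [hodd.neg_one_pow] at h1'
  exact absurd h1' (by decide)

/-- **Thompson transfer lemma** for saturated fusion systems. -/
theorem thompson_transfer (hS : IsPGroup 2 S) {F : FusionSystem S} (hF : F.IsSaturated 2)
    (T : Subgroup Ω) (hT : T.relIndex S = 2) (i : Ω) (hi : i ∈ S) (hi2 : orderOf i = 2)
    (h : ∀ j : Ω, F.IsConjElt i j → F.IsFullyNormalized (Subgroup.zpowers j) → j ∉ T) :
    i ∉ F.focalSubgroup := by
  have := thompson_aux hS hF (T.subgroupOf S) hT ⟨i, hi⟩ hi2 (by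
    intro j hj hfn hjT
    have hjT' : (j : Ω) ∈ T := Subgroup.mem_subgroupOf.mp hjT
    refine h (j : Ω) ?_ hfn hjT'
    obtain ⟨θ, hθ, h1⟩ := (zpowers_mem_fam_iff F ⟨i, hi⟩ j).mp hj
    exact ⟨θ, hθ, h1⟩)
  exact this

omit [Finite S] in
/-- The hyperfocal subgroup lies in the focal subgroup. -/
theorem hyperfocal_le_focal (F : FusionSystem S) (p : ℕ) : F.hyperfocalSubgroup p ≤ F.focalSubgroup := by
  unfold hyperfocalSubgroup focalSubgroup
  rw [Subgroup.closure_le]
  rintro y ⟨P, α, x, hP, -, rfl⟩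
  apply Subgroup.subset_closure
  have hα : IsIso F ((α : MulAut P) : P ≃* P) := (mem_autGroup_iff F hP _).mp α.2
  exact ⟨P, _, x, hα, rfl⟩

end Cfsg.Agent.Lib.Helper27.CB
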