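import Mathlib
import Cfsg.Agent.Lib.Helper17.Coprime
import Cfsg.Agent.Lib.Helper27.FusionSat
import Cfsg.Agent.Lib.Helper20.PLen
import Cfsg.Agent.S0635
import Cfsg.Agent.H5.PSolvable2
import Cfsg.Agent.H5.PSolvable3
import Cfsg.Agent.Lib.Helper25.PSolv
import Cfsg.Agent.Lib.Helper17.PResidual

set_option autoImplicit false

/-! Group-theoretic preliminaries for the terminating residual series theorem: Thompson's `A × B` lemma in
automorphism form, extensions of `p`-solvable groups, the subgroup `O^{p'}(G)`. -/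

namespace Cfsg.Agent.Lib.Helper27.TS

open Cfsg Cfsg.Agent.Lib.Helper20.PLen

/-- **Thompson's `A × B` lemma, automorphism form**: a `p'`-automorphism `β` of a finite group `R`
mapping the `p`-subgroup `P` into itself and fixing `Q ≤ P` elementwise, where `C_P(Q) ≤ Q`, fixes `P`
elementwise. -/
theorem aut_fixes_of_AxB {R : Type*} [Group R] [Finite R] {p : ℕ} [Fact p.Prime] (β : MulAut R)
    (hβ : (orderOf β).Coprime p) {P Q : Subgroup R} (hP : IsPGroup p P) (hQP : Q ≤ P)
    (hβP : ∀ x ∈ P, β x ∈ P) (hβQ : ∀ x ∈ Q, β x = x)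
    (hC : ∀ x ∈ P, (∀ q ∈ Q, q * x = x * q) → x ∈ Q) : ∀ x ∈ P, β x = x := by
  let φ : MulAut R →* MulAut R := MonoidHom.id _
  let H := R ⋊[φ] MulAut R
  haveI : Finite H := Finite.of_equiv _ (SemidirectProduct.equivProd (φ := φ)).symm
  have hinl : Function.Injective (SemidirectProduct.inl : R →* H) := SemidirectProduct.inl_injective
  have hinr : Function.Injective (SemidirectProduct.inr : MulAut R →* H) := SemidirectProduct.inr_injective
  have hconj : ∀ (g : MulAut R) (n : R), (SemidirectProduct.inr g : H) * SemidirectProduct.inl n =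
      SemidirectProduct.inl (g n) * SemidirectProduct.inr g := by
    intro g n
    have h := SemidirectProduct.inl_aut (φ := φ) g n
    have h2 : (SemidirectProduct.inl (g n) : H) = SemidirectProduct.inr g * SemidirectProduct.inl n *
        SemidirectProduct.inr g⁻¹ := h
    rw [h2, map_inv]; group
  set a : H := SemidirectProduct.inr β with ha
  set B : Subgroup H := Q.map SemidirectProduct.inl with hB
  set P' : Subgroup H := P.map SemidirectProduct.inl with hP'
  have hBp : IsPGroup p B := (hP.to_le hQP).map _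
  have hP'p : IsPGroup p P' := hP.map _
  have hao : (orderOf a).Coprime p := by
    rw [ha, orderOf_injective _ hinr]; exact hβ
  have hab : ∀ b ∈ B, a * b = b * a := by
    rintro _ ⟨q, hq, rfl⟩
    rw [ha, hconj, hβQ q hq]
  have haP : a ∈ Subgroup.normalizer (P' : Set H) := by
    apply Cfsg.Agent.Lib.Helper27.mem_normalizer_of_conj_mem
    rintro _ ⟨x, hx, rfl⟩
    refine ⟨β x, hβP x hx, ?_⟩
    rw [ha, hconj]; group
  have hBP : B ≤ Subgroup.normalizer (P' : Set H) := by
    have : B ≤ P' := Subgroup.map_mono hQP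
    exact this.trans Subgroup.le_normalizer
  have hCC : ∀ x ∈ P', (∀ b ∈ B, b * x = x * b) → a * x = x * a := by
    rintro _ ⟨y, hy, rfl⟩ hb
    have hyQ : y ∈ Q := by
      apply hC y hy
      intro q hq
      have := hb _ ⟨q, hq, rfl⟩
      rw [← map_mul, ← map_mul] at this
      exact hinl this
    rw [ha, hconj, hβQ y hyQ]
  have key := Cfsg.Agent.Lib.Helper17.thompson_AxB hBp hao hab (Nat.card P') P' rfl hP'p haP hBP hCC
  intro x hx
  have h1 := key _ ⟨x, hx, rfl⟩
  rw [ha, hconj] at h1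
  have h2 : (SemidirectProduct.inl (β x) : H) = SemidirectProduct.inl x := mul_right_cancel h1
  exact hinl h2

section PSolv

variable {G : Type*} [Group G] [Finite G] {p : ℕ} [Fact p.Prime]

/-- finite `p`-length gives `p`-solvability -/
theorem isPSolvable_of_pLengthLE {k : ℕ} (h : PLengthLE p k G) : IsPSolvable p G := by
  rw [pLengthLE_iff] at h
  refine ⟨2 * k + 1, fun i => U p G i, U_zero p, ?_, ?_, fun i => inferInstance, fun i => ?_⟩
  · show U p G ((Fin.last (2 * k + 1) : Fin (2 * k + 1 + 1)) : ℕ) = ⊤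
    rw [Fin.val_last]; exact h
  · intro i j hij
    exact U_mono p hij
  · show (∃ m : ℕ, (U p G (i.castSucc : Fin (2 * k + 1 + 1))).relIndex (U p G (i.succ : Fin (2 * k + 1 + 1))) = p ^ m) ∨
      ((U p G (i.castSucc : Fin (2 * k + 1 + 1))).relIndex (U p G (i.succ : Fin (2 * k + 1 + 1)))).Coprime p
    rw [Fin.val_succ, Fin.val_castSucc]
    by_cases hi : Even (i : ℕ)
    · exact Or.inr (relIndex_U_even _ hi)
    · exact Or.inl (relIndex_U_odd _ hi)

theorem exists_pLengthLE (h : IsPSolvable p G) : ∃ k : ℕ, PLengthLE p k G := by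
  obtain ⟨S⟩ : Nonempty (Sylow p G) := inferInstance
  exact ⟨_, Cfsg.Agent.S0635.result h S⟩

/-- extensions of `p`-solvable groups are `p`-solvable -/
theorem isPSolvable_of_normal (N : Subgroup G) [N.Normal] (hN : IsPSolvable p ↥N)
    (hQ : IsPSolvable p (G ⧸ N)) : IsPSolvable p G := by
  obtain ⟨a, ha⟩ := exists_pLengthLE hN
  obtain ⟨b, hb⟩ := exists_pLengthLE hQ
  exact isPSolvable_of_pLengthLE (pLengthLE_of_extension N ha hb)

theorem isPSolvable_of_isPGroup (h : IsPGroup p G) : IsPSolvable p G := by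
  obtain ⟨m, hm⟩ := IsPGroup.iff_card.mp h
  refine Cfsg.H5.isPSolvable_of_normal_coprime (⊥ : Subgroup G) ?_ ⟨m, ?_⟩
  · rw [Subgroup.card_bot]; exact Nat.coprime_one_left p
  · rw [Subgroup.index_bot]; exact hm

theorem isPSolvable_of_coprime (h : (Nat.card G).Coprime p) : IsPSolvable p G := by
  refine Cfsg.H5.isPSolvable_of_normal_coprime (⊤ : Subgroup G) ?_ ⟨0, ?_⟩
  · rw [Subgroup.card_top]; exact h
  · rw [Subgroup.index_top, pow_zero]

theorem isPSolvable_of_normal_index_pow (N : Subgroup G) [N.Normal] (hN : IsPSolvable p ↥N)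
    (hidx : ∃ m : ℕ, N.index = p ^ m) : IsPSolvable p G := by
  apply isPSolvable_of_normal N hN
  apply isPSolvable_of_isPGroup
  obtain ⟨m, hm⟩ := hidx
  apply IsPGroup.of_card (n := m)
  rw [← Subgroup.index_eq_card, hm]

theorem isPSolvable_of_normal_index_coprime (N : Subgroup G) [N.Normal] (hN : IsPSolvable p ↥N)
    (hidx : N.index.Coprime p) : IsPSolvable p G := by
  apply isPSolvable_of_normal N hN
  apply isPSolvable_of_coprime
  rw [← Subgroup.index_eq_card]; exact hidx

/-- a nontrivial `p`-solvable group has a proper normal subgroup of index a power of `p` or prime to `p` -/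
theorem exists_proper_normal (h : IsPSolvable p G) [Nontrivial G] :
    ∃ N : Subgroup G, N.Normal ∧ N ≠ ⊤ ∧ ((∃ m : ℕ, N.index = p ^ m) ∨ N.index.Coprime p) := by
  obtain ⟨n, H, h0, hlast, hmono, hnorm, hfac⟩ := h
  -- the least index with `H i = ⊤`
  classical
  have hex : ∃ i : Fin (n + 1), H i = ⊤ := ⟨Fin.last n, hlast⟩
  obtain ⟨i, hi, hmin⟩ : ∃ i : Fin (n + 1), H i = ⊤ ∧ ∀ j : Fin (n + 1), H j = ⊤ → i ≤ j := by
    have := Finset.exists_min_image (Finset.univ.filter (fun i : Fin (n + 1) => H i = ⊤))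
      (fun i => (i : ℕ)) (by obtain ⟨i, hi⟩ := hex; exact ⟨i, by simp [hi]⟩)
    obtain ⟨i, hi, hmin⟩ := this
    refine ⟨i, (Finset.mem_filter.mp hi).2, fun j hj => ?_⟩
    exact Fin.le_def.mpr (hmin j (by simp [hj]))
  have hi0 : i ≠ 0 := by
    intro hi0
    rw [hi0, h0] at hi
    exact bot_ne_top hi
  obtain ⟨j, rfl⟩ := Fin.exists_succ_eq.mpr hi0
  refine ⟨H j.castSucc, hnorm _, ?_, ?_⟩
  · intro htop
    have := hmin _ htop
    rw [Fin.le_def, Fin.val_succ, Fin.val_castSucc] at this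
    omega
  · have := hfac j
    rw [hi, Subgroup.relIndex_top_right] at this
    exact this

end PSolv

section Opp

variable {G : Type*} [Group G] {p : ℕ}

/-- `O^{p'}(G)`: the subgroup generated by the elements of `p`-power order. -/
def oppG (p : ℕ) (G : Type*) [Group G] : Subgroup G :=
  Subgroup.closure {g : G | ∃ k : ℕ, orderOf g = p ^ k}

theorem mem_oppG_of_orderOf {g : G} {k : ℕ} (h : orderOf g = p ^ k) : g ∈ oppG p G :=
  Subgroup.subset_closure ⟨k, h⟩

instance oppG_normal : (oppG p G).Normal := by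
  unfold oppG
  constructor
  intro n hn g
  induction hn using Subgroup.closure_induction with
  | mem y hy =>
    apply Subgroup.subset_closure
    obtain ⟨k, hk⟩ := hy
    refine ⟨k, ?_⟩
    have : orderOf (g * y * g⁻¹) = orderOf y := (MulAut.conj g).orderOf_eq y
    rw [this]; exact hk
  | one => simp
  | mul a b _ _ iha ihb =>
    have : g * (a * b) * g⁻¹ = (g * a * g⁻¹) * (g * b * g⁻¹) := by group
    rw [this]; exact Subgroup.mul_mem _ iha ihb
  | inv a _ iha =>
    have : g * a⁻¹ * g⁻¹ = (g * a * g⁻¹)⁻¹ := by group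
    rw [this]; exact Subgroup.inv_mem _ iha

theorem mem_oppG_of_pow [hp : Fact p.Prime] {g : G} {k : ℕ} (h : g ^ p ^ k = 1) : g ∈ oppG p G := by
  obtain ⟨j, -, hj⟩ := (Nat.dvd_prime_pow hp.out).mp (orderOf_dvd_of_pow_eq_one h)
  exact mem_oppG_of_orderOf hj

theorem le_oppG_of_isPGroup [Fact p.Prime] {P : Subgroup G} (hP : IsPGroup p P) : P ≤ oppG p G := by
  intro x hx
  obtain ⟨k, hk⟩ := hP ⟨x, hx⟩
  have hk' : x ^ p ^ k = 1 := by
    have := congrArg Subtype.val hk
    simpa using this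
  exact mem_oppG_of_pow hk'

theorem oppG_index_coprime [Finite G] [hp : Fact p.Prime] : (oppG p G).index.Coprime p := by
  obtain ⟨S⟩ : Nonempty (Sylow p G) := inferInstance
  have h1 : (oppG p G).index ∣ (S : Subgroup G).index :=
    Subgroup.index_dvd_of_le (le_oppG_of_isPGroup S.isPGroup')
  rw [Nat.coprime_comm, Nat.Prime.coprime_iff_not_dvd hp.out]
  exact fun h => S.not_dvd_index (h.trans h1)

theorem oppG_le_of_index_coprime [Finite G] [hp : Fact p.Prime] {N : Subgroup G} [N.Normal]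
    (h : N.index.Coprime p) : oppG p G ≤ N := by
  unfold oppG
  rw [Subgroup.closure_le]
  rintro g ⟨k, hk⟩
  rw [SetLike.mem_coe, ← QuotientGroup.eq_one_iff]
  have h1 : orderOf (QuotientGroup.mk g : G ⧸ N) ∣ p ^ k := by
    rw [← hk]; exact orderOf_map_dvd (QuotientGroup.mk' N) g
  have h2 : orderOf (QuotientGroup.mk g : G ⧸ N) ∣ N.index := by
    rw [Subgroup.index_eq_card]; exact orderOf_dvd_natCard _
  have h3 : orderOf (QuotientGroup.mk g : G ⧸ N) ∣ 1 := by
    have hc : (N.index).Coprime (p ^ k) := Nat.Coprime.pow_right k h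
    exact hc ▸ Nat.dvd_gcd h2 h1
  exact orderOf_eq_one_iff.mp (Nat.dvd_one.mp h3)

theorem pResidual_le_of_index_pow [Finite G] [Fact p.Prime] {N : Subgroup G} [N.Normal]
    (h : ∃ m : ℕ, N.index = p ^ m) : pResidual p G ≤ N := by
  apply Cfsg.Agent.Lib.Helper17.pResidual_le_of_quotient_isPGroup
  obtain ⟨m, hm⟩ := h
  apply IsPGroup.of_card (n := m)
  rw [← Subgroup.index_eq_card, hm]

/-- `O^{p'}` of `O^{p'}(G)` is everything. -/
theorem oppG_oppG [Fact p.Prime] : oppG p ↥(oppG p G) = ⊤ := by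
  rw [eq_top_iff]
  rintro ⟨x, hx⟩ -
  refine Subgroup.closure_induction
    (p := fun y hy => (⟨y, hy⟩ : ↥(oppG p G)) ∈ oppG p ↥(oppG p G)) ?_ ?_ ?_ ?_ hx
  · rintro y ⟨k, hk⟩
    apply mem_oppG_of_orderOf (k := k)
    rw [← hk]
    exact Subgroup.orderOf_mk y _
  · exact Subgroup.one_mem _
  · intro a b ha hb iha ihb
    exact Subgroup.mul_mem _ iha ihb
  · intro a ha iha
    exact Subgroup.inv_mem _ iha

/-- In a `p`-solvable group with a nontrivial Sylow `p`-subgroup, `O^p(O^{p'}(G))` does not contain a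
Sylow `p`-subgroup. -/
theorem sylow_not_le_residual [Finite G] [hp : Fact p.Prime] (hsol : IsPSolvable p G) (S : Sylow p G)
    (hS : (S : Subgroup G) ≠ ⊥) :
    ¬ (S : Subgroup G) ≤ (pResidual p ↥(oppG p G)).map (oppG p G).subtype := by
  intro hle
  set K1 := oppG p G with hK1
  set K := (pResidual p ↥K1).map K1.subtype with hK
  -- `K` is normal in `G`
  have hKn : K.Normal := by
    constructor
    rintro _ ⟨y, hy, rfl⟩ g
    have hg : g * (y : G) * g⁻¹ ∈ K1 := (oppG_normal (p := p) (G := G)).conj_mem _ y.2 g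
    refine ⟨⟨g * (y : G) * g⁻¹, hg⟩, ?_, rfl⟩
    unfold pResidual at hy ⊢
    induction hy using Subgroup.closure_induction with
    | mem z hz =>
      apply Subgroup.subset_closure
      show Nat.Coprime (orderOf (⟨g * (z : G) * g⁻¹, _⟩ : ↥K1)) p
      have h1 : orderOf (⟨g * (z : G) * g⁻¹, (oppG_normal (p := p) (G := G)).conj_mem _ z.2 g⟩ : ↥K1) =
          orderOf (g * (z : G) * g⁻¹) := Subgroup.orderOf_mk _ _
      have h2 : orderOf (g * (z : G) * g⁻¹) = orderOf (z : G) := (MulAut.conj g).orderOf_eq _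
      rw [h1, h2, Subgroup.orderOf_coe]
      exact hz
    | one =>
      have : (⟨g * ((1 : ↥K1) : G) * g⁻¹, (oppG_normal (p := p) (G := G)).conj_mem _ (1 : ↥K1).2 g⟩ : ↥K1) = 1 := by
        apply Subtype.ext; simp
      rw [this]; exact Subgroup.one_mem _
    | mul a b _ _ iha ihb =>
      have : (⟨g * ((a * b : ↥K1) : G) * g⁻¹, (oppG_normal (p := p) (G := G)).conj_mem _ (a * b).2 g⟩ : ↥K1) =
          ⟨g * (a : G) * g⁻¹, (oppG_normal (p := p) (G := G)).conj_mem _ a.2 g⟩ *
          ⟨g * (b : G) * g⁻¹, (oppG_normal (p := p) (G := G)).conj_mem _ b.2 g⟩ := by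
        apply Subtype.ext
        show g * ((a : G) * (b : G)) * g⁻¹ = (g * (a : G) * g⁻¹) * (g * (b : G) * g⁻¹)
        group
      rw [this]; exact Subgroup.mul_mem _ (iha _) (ihb _)
    | inv a _ iha =>
      have : (⟨g * ((a⁻¹ : ↥K1) : G) * g⁻¹, (oppG_normal (p := p) (G := G)).conj_mem _ (a⁻¹).2 g⟩ : ↥K1) =
          (⟨g * (a : G) * g⁻¹, (oppG_normal (p := p) (G := G)).conj_mem _ a.2 g⟩)⁻¹ := by
        apply Subtype.ext
        show g * ((a : G))⁻¹ * g⁻¹ = (g * (a : G) * g⁻¹)⁻¹
        group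
      rw [this]; exact Subgroup.inv_mem _ (iha _)
  -- all `p`-elements lie in `K`
  have hidx : K.index.Coprime p := by
    rw [Nat.coprime_comm, Nat.Prime.coprime_iff_not_dvd hp.out]
    exact fun h => S.not_dvd_index (h.trans (Subgroup.index_dvd_of_le hle))
  have hK1K : K1 ≤ K := oppG_le_of_index_coprime hidx
  have hres : pResidual p ↥K1 = ⊤ := by
    rw [eq_top_iff]
    rintro x -
    obtain ⟨y, hy, hyx⟩ := hK1K x.2
    have : y = x := Subtype.ext hyx
    rw [← this]; exact hy
  -- `K1` is nontrivial and `p`-solvable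
  have hK1sol : IsPSolvable p ↥K1 := Cfsg.H5.isPSolvable_subgroup hsol K1
  haveI : Nontrivial ↥K1 := by
    obtain ⟨x, hx, hx1⟩ := (Subgroup.ne_bot_iff_exists_ne_one (H := (S : Subgroup G))).mp hS |>.elim
      (fun x h => (⟨(x : G), x.2, fun h1 => h (Subtype.ext h1)⟩ : ∃ y : G, y ∈ (S : Subgroup G) ∧ y ≠ 1))
    have hxK1 : x ∈ K1 := le_oppG_of_isPGroup S.isPGroup' hx
    exact ⟨⟨⟨x, hxK1⟩, 1, fun h => hx1 (congrArg Subtype.val h)⟩⟩
  obtain ⟨N, hNn, hNtop, hN⟩ := exists_proper_normal hK1sol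
  haveI := hNn
  apply hNtop
  rw [eq_top_iff]
  rcases hN with hN | hN
  · rw [← hres]; exact pResidual_le_of_index_pow hN
  · rw [← oppG_oppG (p := p) (G := G)]; exact oppG_le_of_index_coprime hN

end Opp

end Cfsg.Agent.Lib.Helper27.TS
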