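import Mathlib
import Cfsg.Agent.Lib.Helper27.FusionLift
import Cfsg.Agent.Lib.Helper27.FusionNormalCrit
import Cfsg.Agent.Lib.Helper27.FusionAlperin
import Cfsg.Agent.Lib.Helper27.FusionNormal
import Cfsg.Agent.H26.DirectFactor

set_option autoImplicit false

/-! Weakly normal subsystems: congruences modulo a strongly closed subgroup `T`, the subgroups `R C_S(T)`
for `R ≤ T`, shadows in `Aut_F(T C_S(T))` of maps defined on `R C_S(T)`. -/

namespace Cfsg.Agent.Lib.Helper27.WN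

open Cfsg Cfsg.FusionSystem Cfsg.Agent.Lib.Helper27

variable {Ω : Type*} [Group Ω] {S T : Subgroup Ω}

/-! ### Congruence modulo `T` -/

/-- `x ≡ y` modulo `T` (left cosets). -/
def ModT (T : Subgroup Ω) (x y : Ω) : Prop := x⁻¹ * y ∈ T

theorem ModT.refl (T : Subgroup Ω) (x : Ω) : ModT T x x := by
  unfold ModT
  rw [inv_mul_cancel]
  exact T.one_mem

theorem ModT.symm {x y : Ω} (h : ModT T x y) : ModT T y x := by
  unfold ModT at *
  have : y⁻¹ * x = (x⁻¹ * y)⁻¹ := by group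
  rw [this]
  exact T.inv_mem h

theorem ModT.trans {x y z : Ω} (h : ModT T x y) (h' : ModT T y z) : ModT T x z := by
  unfold ModT at *
  have : x⁻¹ * z = (x⁻¹ * y) * (y⁻¹ * z) := by group
  rw [this]
  exact T.mul_mem h h'

theorem ModT.of_eq {x y : Ω} (h : x = y) : ModT T x y := h ▸ ModT.refl T x

theorem ModT.mul_right_mem (x : Ω) {t : Ω} (ht : t ∈ T) : ModT T x (x * t) := by
  unfold ModT
  rw [inv_mul_cancel_left]
  exact ht

/-- multiplication of congruences, when the second left factor normalizes `T` -/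
theorem ModT.mul {x y x' y' : Ω} (h : ModT T x y) (h' : ModT T x' y')
    (hn : ∀ t ∈ T, x'⁻¹ * t * x' ∈ T) : ModT T (x * x') (y * y') := by
  unfold ModT at *
  have : (x * x')⁻¹ * (y * y') = (x'⁻¹ * (x⁻¹ * y) * x') * (x'⁻¹ * y') := by group
  rw [this]
  exact T.mul_mem (hn _ h) h'

theorem ModT.mul_left_mem {x t : Ω} (ht : t ∈ T) (hn : ∀ t ∈ T, x⁻¹ * t * x ∈ T) :
    ModT T x (t * x) := by
  unfold ModT
  have : x⁻¹ * (t * x) = x⁻¹ * t * x := by group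
  rw [this]
  exact hn t ht

theorem ModT.map {P : Subgroup Ω} (ψ : P →* Ω) (hψ : ∀ x : P, (x : Ω) ∈ T → ψ x ∈ T) {x y : P}
    (h : ModT T (x : Ω) (y : Ω)) : ModT T (ψ x) (ψ y) := by
  unfold ModT at *
  have : (ψ x)⁻¹ * ψ y = ψ (x⁻¹ * y) := by rw [map_mul, map_inv]
  rw [this]
  exact hψ _ h

theorem ModT.mem_iff {x : Ω} : ModT T 1 x ↔ x ∈ T := by
  unfold ModT
  rw [inv_one, one_mul]

/-! ### The normality of `T` and of `C_S(T)` in `S` -/

theorem conj_inv_mem_of_normalizer (hTn : S ≤ Subgroup.normalizer (T : Set Ω)) {s : Ω} (hs : s ∈ S)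
    {t : Ω} (ht : t ∈ T) : s⁻¹ * t * s ∈ T := by
  have h := (Subgroup.mem_normalizer_iff.mp (hTn (S.inv_mem hs)) t).mp ht
  rwa [inv_inv] at h

theorem conj_mem_of_normalizer (hTn : S ≤ Subgroup.normalizer (T : Set Ω)) {s : Ω} (hs : s ∈ S)
    {t : Ω} (ht : t ∈ T) : s * t * s⁻¹ ∈ T :=
  (Subgroup.mem_normalizer_iff.mp (hTn hs) t).mp ht

/-- `C_S(T)` is normalized by `S` when `T` is. -/
theorem conj_mem_centralizerIn (hTn : S ≤ Subgroup.normalizer (T : Set Ω)) {s : Ω} (hs : s ∈ S)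
    {c : Ω} (hc : c ∈ centralizerIn S T) : s * c * s⁻¹ ∈ centralizerIn S T := by
  rw [mem_centralizerIn_iff] at hc ⊢
  refine ⟨S.mul_mem (S.mul_mem hs hc.1) (S.inv_mem hs), fun t ht => ?_⟩
  have h1 := hc.2 (s⁻¹ * t * s) (conj_inv_mem_of_normalizer hTn hs ht)
  calc t * (s * c * s⁻¹) = s * ((s⁻¹ * t * s) * c) * s⁻¹ := by group
    _ = s * (c * (s⁻¹ * t * s)) * s⁻¹ := by rw [h1]
    _ = s * c * s⁻¹ * t := by group

/-! ### The subgroups `R C_S(T)` -/

theorem commute_of_le {R : Subgroup Ω} (hRT : R ≤ T) :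
    ∀ a ∈ R, ∀ b ∈ centralizerIn S T, a * b = b * a := by
  intro a ha b hb
  exact (mem_centralizerIn_iff.mp hb).2 a (hRT ha)

/-- elements of `R C_S(T)` are products -/
theorem exists_mul_of_mem {R : Subgroup Ω} (hRT : R ≤ T) {g : Ω} (hg : g ∈ R ⊔ centralizerIn S T) :
    ∃ a ∈ R, ∃ b ∈ centralizerIn S T, g = a * b :=
  Cfsg.Agent.H26.exists_mul_of_mem_sup_commute (commute_of_le hRT) hg

theorem exists_decomp {R : Subgroup Ω} (hRT : R ≤ T) (y : ↥(R ⊔ centralizerIn S T)) :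
    ∃ (x : R) (c : centralizerIn S T),
      y = Subgroup.inclusion le_sup_left x * Subgroup.inclusion le_sup_right c := by
  obtain ⟨a, ha, b, hb, h⟩ := exists_mul_of_mem hRT y.2
  exact ⟨⟨a, ha⟩, ⟨b, hb⟩, Subtype.ext h⟩

theorem sup_le_S {R : Subgroup Ω} (hRS : R ≤ S) : R ⊔ centralizerIn S T ≤ S :=
  sup_le hRS (centralizerIn_le_S S T)

/-- `R C_S(T) ∩ T = R` when `Z(T) ≤ R`. -/
theorem mem_of_mem_sup_of_mem {R : Subgroup Ω} (hRT : R ≤ T)
    (hZ : centralizerIn T T ≤ R) {g : Ω} (hg : g ∈ R ⊔ centralizerIn S T) (hgT : g ∈ T) : g ∈ R := by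
  obtain ⟨a, ha, b, hb, rfl⟩ := exists_mul_of_mem hRT hg
  have hbT : b ∈ T := by
    have : b = a⁻¹ * (a * b) := by group
    rw [this]
    exact T.mul_mem (T.inv_mem (hRT ha)) hgT
  have hbZ : b ∈ centralizerIn T T := mem_centralizerIn_iff.mpr ⟨hbT, (mem_centralizerIn_iff.mp hb).2⟩
  exact R.mul_mem ha (hZ hbZ)

theorem centralizerIn_self_le {R : Subgroup Ω} (hRT : R ≤ T) (hcen : centralizerIn T R ≤ R) :
    centralizerIn T T ≤ R := by
  intro z hz
  apply hcen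
  rw [mem_centralizerIn_iff] at hz ⊢
  exact ⟨hz.1, fun x hx => hz.2 x (hRT hx)⟩

/-! ### Maps of a finite subgroup into itself -/

theorem exists_aut_of_hom_self (F : FusionSystem S) {Y : Subgroup Ω} [Finite Y] {ψ : Y →* Ω}
    (hψ : ψ ∈ F.Hom Y) (h : ∀ y : Y, ψ y ∈ Y) :
    ∃ a : Y ≃* Y, IsIso F a ∧ ∀ y : Y, ((a y : Y) : Ω) = ψ y := by
  obtain ⟨a, ha, h1⟩ := exists_aut_restrict F (le_refl Y) hψ (fun x _ => h x)
  exact ⟨a, ha, fun y => h1 y⟩

/-- two maps of the system with the same source and the same image differ by an automorphism of the source -/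
theorem exists_aut_of_range_eq (F : FusionSystem S) {Y : Subgroup Ω} {φ₁ φ₂ : Y →* Ω}
    (h₁ : φ₁ ∈ F.Hom Y) (h₂ : φ₂ ∈ F.Hom Y) (hr : φ₁.range = φ₂.range) :
    ∃ γ : Y ≃* Y, IsIso F γ ∧ ∀ y : Y, φ₁ (γ y) = φ₂ y := by
  obtain ⟨e₁, he₁, h1⟩ := exists_isIso_of_hom F h₁ rfl
  obtain ⟨e₂, he₂, h2⟩ := exists_isIso_of_hom F h₂ hr.symm
  refine ⟨e₂.trans e₁.symm, he₂.trans he₁.symm, fun y => ?_⟩
  rw [← h1, ← h2]
  simp

end Cfsg.Agent.Lib.Helper27.WN
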