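import Mathlib
import Cfsg.Agent.Lib.Helper27.WNA

set_option autoImplicit false

/-! Automorphisms of `T C_S(T)`, shadows, extensions of automorphisms of `T`. -/

namespace Cfsg.Agent.Lib.Helper27.WN

open Cfsg Cfsg.FusionSystem Cfsg.Agent.Lib.Helper27

variable {Ω : Type*} [Group Ω] {S T : Subgroup Ω}

theorem sup_le_sup_C {R : Subgroup Ω} (hRT : R ≤ T) :
    R ⊔ centralizerIn S T ≤ T ⊔ centralizerIn S T := sup_le_sup_right hRT _

section

variable [Finite S] {p : ℕ} [Fact p.Prime] {F : FusionSystem S}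

omit [Fact p.Prime] in
theorem finite_of_le {Y : Subgroup Ω} (hY : Y ≤ S) : Finite Y :=
  Finite.of_injective (Subgroup.inclusion hY) (Subgroup.inclusion_injective hY)

/-- a map of the system maps elements of `T` to `T` -/
theorem hom_mem_T (hT : F.StronglyClosed T) {Y : Subgroup Ω} {ψ : Y →* Ω} (hψ : ψ ∈ F.Hom Y) (y : Y)
    (hy : (y : Ω) ∈ T) : ψ y ∈ T := stronglyClosed_hom_mem hT hψ hy

/-- a map of the system defined on a subgroup containing `T` maps `C_S(T)` into `C_S(T)` -/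
theorem hom_mem_C (hT : F.StronglyClosed T) {Y : Subgroup Ω} (hTY : T ≤ Y) {ψ : Y →* Ω}
    (hψ : ψ ∈ F.Hom Y) (c : Y) (hc : (c : Ω) ∈ centralizerIn S T) : ψ c ∈ centralizerIn S T := by
  rw [mem_centralizerIn_iff]
  refine ⟨(F.le_of_mem hψ).2 c, fun t ht => ?_⟩
  have hmap := stronglyClosed_map_eq' hT hTY hψ
  have ht' : t ∈ (T.subgroupOf Y).map ψ := by rw [hmap]; exact ht
  obtain ⟨t', ht'T, rfl⟩ := ht'
  rw [← map_mul, ← map_mul]
  congr 1
  apply Subtype.ext
  exact (mem_centralizerIn_iff.mp hc).2 _ (Subgroup.mem_subgroupOf.mp ht'T)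

/-- automorphisms of `T C_S(T)` preserve `C_S(T)` -/
theorem aut_mem_C (hT : F.StronglyClosed T)
    {a : ↥(T ⊔ centralizerIn S T) ≃* ↥(T ⊔ centralizerIn S T)} (ha : IsIso F a)
    (c : ↥(T ⊔ centralizerIn S T)) (hc : (c : Ω) ∈ centralizerIn S T) :
    ((a c : ↥(T ⊔ centralizerIn S T)) : Ω) ∈ centralizerIn S T :=
  hom_mem_C hT le_sup_left ha c hc

/-- automorphisms of `T C_S(T)` preserve `T` -/
theorem aut_mem_T (hT : F.StronglyClosed T)
    {a : ↥(T ⊔ centralizerIn S T) ≃* ↥(T ⊔ centralizerIn S T)} (ha : IsIso F a)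
    (x : ↥(T ⊔ centralizerIn S T)) (hx : (x : Ω) ∈ T) :
    ((a x : ↥(T ⊔ centralizerIn S T)) : Ω) ∈ T :=
  stronglyClosed_aut_mem hT ha hx

/-- **Shadows**: a map of the system defined on `R C_S(T)`, `R ≤ T`, agrees modulo `T` with an
automorphism of `T C_S(T)` in the system. -/
theorem exists_shadow (hS : IsPGroup p S) (hF : F.IsSaturated p) (hT : F.StronglyClosed T)
    {R : Subgroup Ω} (hRT : R ≤ T) {ψ : ↥(R ⊔ centralizerIn S T) →* Ω}
    (hψ : ψ ∈ F.Hom (R ⊔ centralizerIn S T)) :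
    ∃ a : ↥(T ⊔ centralizerIn S T) ≃* ↥(T ⊔ centralizerIn S T), IsIso F a ∧
      ∀ y : ↥(R ⊔ centralizerIn S T),
        ModT T (ψ y) ((a (Subgroup.inclusion (sup_le_sup_C hRT) y) : ↥(T ⊔ centralizerIn S T)) : Ω) := by
  obtain ⟨Ψ, hΨ, h⟩ := exists_lift hS hF hT hψ
  have hle : T ⊔ centralizerIn S T ≤ (R ⊔ centralizerIn S T) ⊔ T :=
    sup_le le_sup_right (le_sup_right.trans le_sup_left)
  have hΨ' := hom_restrict F hle hΨ
  have hTCS : T ⊔ centralizerIn S T ≤ S := sup_le_S hT.1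
  haveI : Finite ↥(T ⊔ centralizerIn S T) := finite_of_le hTCS
  have hval : ∀ z : ↥(T ⊔ centralizerIn S T), (Ψ.comp (Subgroup.inclusion hle)) z ∈
      T ⊔ centralizerIn S T := by
    apply map_sup_mem
    · intro x
      exact (le_sup_left : T ≤ T ⊔ centralizerIn S T) (hom_mem_T hT hΨ' _ x.2)
    · intro c
      exact (le_sup_right : centralizerIn S T ≤ T ⊔ centralizerIn S T)
        (hom_mem_C hT le_sup_left hΨ' _ c.2)
  obtain ⟨a, ha, h1⟩ := exists_aut_of_hom_self F hΨ' hval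
  refine ⟨a, ha, fun y => ?_⟩
  rw [h1]
  exact h y

/-- every automorphism of `T` in the system extends to an automorphism of `T C_S(T)` -/
theorem exists_aut_ext (hS : IsPGroup p S) (hF : F.IsSaturated p) (hT : F.StronglyClosed T)
    {α : T ≃* T} (hα : IsIso F α) :
    ∃ a : ↥(T ⊔ centralizerIn S T) ≃* ↥(T ⊔ centralizerIn S T), IsIso F a ∧
      ∀ x : T, ((a (Subgroup.inclusion le_sup_left x) : ↥(T ⊔ centralizerIn S T)) : Ω) = ((α x : T) : Ω) := by
  have hTS := hT.1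
  have hwc := weaklyClosed_of_stronglyClosed hT
  have hr := weaklyClosed_isReceptive hF hwc
  obtain ⟨ψ, hψ, hψα⟩ := receptive_exists_extension hr hα
  have hD : T ⊔ centralizerIn S T ≤ extender S T (T.subtype.comp (α : T ≃* T).toMonoidHom) :=
    sup_le (le_extender_of_isIso hα) (centralizerIn_le_extender _)
  have hDS : T ⊔ centralizerIn S T ≤ S := sup_le_S hTS
  haveI : Finite ↥(T ⊔ centralizerIn S T) := finite_of_le hDS
  have hψD := hom_restrict F hD hψ
  have hψT : ∀ x : T, (ψ.comp (Subgroup.inclusion hD)) (Subgroup.inclusion le_sup_left x) =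
      ((α x : T) : Ω) := fun x => hψα x x.2 _
  have hval : ∀ z : ↥(T ⊔ centralizerIn S T), (ψ.comp (Subgroup.inclusion hD)) z ∈
      T ⊔ centralizerIn S T := by
    apply map_sup_mem
    · intro x
      rw [hψT]
      exact (le_sup_left : T ≤ T ⊔ centralizerIn S T) (α x).2
    · intro c
      exact (le_sup_right : centralizerIn S T ≤ T ⊔ centralizerIn S T)
        (hom_mem_C hT le_sup_left hψD _ c.2)
  obtain ⟨a, ha, h1⟩ := exists_aut_of_hom_self F hψD hval
  exact ⟨a, ha, fun x => by rw [h1, hψT]⟩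

end

end Cfsg.Agent.Lib.Helper27.WN
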