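import Mathlib
import Cfsg.Agent.Lib.Helper27.WNB

set_option autoImplicit false

/-! Good maps: maps on `R ≤ T` with an extension to `R C_S(T)` in `F` acting trivially on `C_S(T)`
modulo `T`. -/

namespace Cfsg.Agent.Lib.Helper27.WN

open Cfsg Cfsg.FusionSystem Cfsg.Agent.Lib.Helper27

variable {Ω : Type*} [Group Ω] {S T : Subgroup Ω}

/-- `ψ`, a map on `R C_S(T)`, acts trivially on `C_S(T)` modulo `T`. -/
def TrivC (S T : Subgroup Ω) {R : Subgroup Ω} (ψ : ↥(R ⊔ centralizerIn S T) →* Ω) : Prop :=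
  ∀ c : centralizerIn S T, ModT T (c : Ω) (ψ (Subgroup.inclusion le_sup_right c))

/-- `φ`, a map on `R`, has an extension to `R C_S(T)` in `F` acting trivially on `C_S(T)` modulo `T`. -/
def Good (F : FusionSystem S) (T : Subgroup Ω) {R : Subgroup Ω} (φ : R →* Ω) : Prop :=
  ∃ ψ ∈ F.Hom (R ⊔ centralizerIn S T),
    (∀ x : R, ψ (Subgroup.inclusion le_sup_left x) = φ x) ∧ TrivC S T ψ

section

variable [Finite S] {p : ℕ} [Fact p.Prime] {F : FusionSystem S}

omit [Fact p.Prime] in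
/-- a map trivial on `C_S(T)` modulo `T` is trivial modulo `T` on all of `R C_S(T)` -/
theorem TrivC.modT (hT : F.StronglyClosed T) {R : Subgroup Ω} (hRT : R ≤ T)
    {ψ : ↥(R ⊔ centralizerIn S T) →* Ω} (hψ : ψ ∈ F.Hom (R ⊔ centralizerIn S T)) (h : TrivC S T ψ)
    (y : ↥(R ⊔ centralizerIn S T)) : ModT T (y : Ω) (ψ y) := by
  obtain ⟨x, c, rfl⟩ := exists_decomp hRT y
  rw [map_mul]
  have hx : ModT T ((Subgroup.inclusion (le_sup_left : R ≤ R ⊔ centralizerIn S T) x :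
      ↥(R ⊔ centralizerIn S T)) : Ω) (ψ (Subgroup.inclusion le_sup_left x)) := by
    unfold ModT
    exact T.mul_mem (T.inv_mem (hRT x.2)) (hom_mem_T hT hψ _ (hRT x.2))
  have hTn := le_normalizer_of_stronglyClosed hT
  exact ModT.mul hx (h c) (fun t ht => conj_inv_mem_of_normalizer hTn (centralizerIn_le_S S T c.2) ht)

/-- the image of `R C_S(T)` under a map of the system lies in `R' C_S(T)`, if `R'` contains the image of `R`
and its centralizer in `T` -/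
theorem map_mem_sup (hS : IsPGroup p S) (hF : F.IsSaturated p) (hT : F.StronglyClosed T)
    {R : Subgroup Ω} (hRT : R ≤ T) {ψ : ↥(R ⊔ centralizerIn S T) →* Ω}
    (hψ : ψ ∈ F.Hom (R ⊔ centralizerIn S T)) (R' : Subgroup Ω)
    (hR' : ∀ x : R, ψ (Subgroup.inclusion le_sup_left x) ∈ R')
    (hc' : ∀ t ∈ T, (∀ x : R, t * ψ (Subgroup.inclusion le_sup_left x) =
      ψ (Subgroup.inclusion le_sup_left x) * t) → t ∈ R')
    (y : ↥(R ⊔ centralizerIn S T)) : ψ y ∈ R' ⊔ centralizerIn S T := by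
  obtain ⟨a, ha, hsh⟩ := exists_shadow hS hF hT hRT hψ
  apply map_sup_mem ψ (P' := R' ⊔ centralizerIn S T)
  · intro x
    exact (le_sup_left : R' ≤ R' ⊔ centralizerIn S T) (hR' x)
  · intro c
    have h1 := hsh (Subgroup.inclusion le_sup_right c)
    set c' : ↥(T ⊔ centralizerIn S T) := Subgroup.inclusion (sup_le_sup_C hRT)
      (Subgroup.inclusion (le_sup_right : centralizerIn S T ≤ R ⊔ centralizerIn S T) c) with hc'def
    have hac : ((a c' : ↥(T ⊔ centralizerIn S T)) : Ω) ∈ centralizerIn S T := aut_mem_C hT ha c' c.2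
    -- `t = (a c')⁻¹ ψ(c)`
    have ht : ((a c' : ↥(T ⊔ centralizerIn S T)) : Ω)⁻¹ *
        ψ (Subgroup.inclusion le_sup_right c) ∈ T := h1.symm
    have hcomm : ∀ x : R, (((a c' : ↥(T ⊔ centralizerIn S T)) : Ω)⁻¹ *
        ψ (Subgroup.inclusion le_sup_right c)) * ψ (Subgroup.inclusion le_sup_left x) =
        ψ (Subgroup.inclusion le_sup_left x) * (((a c' : ↥(T ⊔ centralizerIn S T)) : Ω)⁻¹ *
        ψ (Subgroup.inclusion le_sup_right c)) := by
      intro x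
      have e1 : ψ (Subgroup.inclusion le_sup_right c) * ψ (Subgroup.inclusion le_sup_left x) =
          ψ (Subgroup.inclusion le_sup_left x) * ψ (Subgroup.inclusion le_sup_right c) := by
        rw [← map_mul, ← map_mul]
        congr 1
        apply Subtype.ext
        exact ((mem_centralizerIn_iff.mp c.2).2 _ (hRT x.2)).symm
      have hxT : ψ (Subgroup.inclusion le_sup_left x) ∈ T := hom_mem_T hT hψ _ (hRT x.2)
      have e2 := (mem_centralizerIn_iff.mp hac).2 _ hxT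
      -- e2 : ψ x * a c' = a c' * ψ x
      have e3 : ((a c' : ↥(T ⊔ centralizerIn S T)) : Ω)⁻¹ * ψ (Subgroup.inclusion le_sup_left x) =
          ψ (Subgroup.inclusion le_sup_left x) * ((a c' : ↥(T ⊔ centralizerIn S T)) : Ω)⁻¹ := by
        rw [eq_mul_inv_iff_mul_eq, mul_assoc, e2, inv_mul_cancel_left]
      rw [mul_assoc, e1, ← mul_assoc, e3, mul_assoc]
    have htR' := hc' _ ht hcomm
    have : ψ (Subgroup.inclusion le_sup_right c) = ((a c' : ↥(T ⊔ centralizerIn S T)) : Ω) *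
        (((a c' : ↥(T ⊔ centralizerIn S T)) : Ω)⁻¹ * ψ (Subgroup.inclusion le_sup_right c)) := by
      rw [mul_inv_cancel_left]
    rw [this]
    exact Subgroup.mul_mem _ (Subgroup.mem_sup_right hac) (Subgroup.mem_sup_left htR')

/-- the image of `R C_S(T)` is `R' C_S(T)` when `R'` is the image of `R` and contains its centralizer in `T` -/
theorem range_eq_sup (hS : IsPGroup p S) (hF : F.IsSaturated p) (hT : F.StronglyClosed T)
    {R : Subgroup Ω} (hRT : R ≤ T) {ψ : ↥(R ⊔ centralizerIn S T) →* Ω}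
    (hψ : ψ ∈ F.Hom (R ⊔ centralizerIn S T)) (R' : Subgroup Ω)
    (hR' : ∀ x : R, ψ (Subgroup.inclusion le_sup_left x) ∈ R')
    (hR'' : ∀ z ∈ R', ∃ x : R, ψ (Subgroup.inclusion le_sup_left x) = z)
    (hc' : ∀ t ∈ T, (∀ x : R, t * ψ (Subgroup.inclusion le_sup_left x) =
      ψ (Subgroup.inclusion le_sup_left x) * t) → t ∈ R') :
    ψ.range = R' ⊔ centralizerIn S T := by
  apply le_antisymm
  · rintro _ ⟨y, rfl⟩
    exact map_mem_sup hS hF hT hRT hψ R' hR' hc' y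
  · apply sup_le
    · intro z hz
      obtain ⟨x, rfl⟩ := hR'' z hz
      exact ⟨_, rfl⟩
    · intro c hc
      obtain ⟨a, ha, hsh⟩ := exists_shadow hS hF hT hRT hψ
      -- `c₀ = a⁻¹ c`
      set c' : ↥(T ⊔ centralizerIn S T) := ⟨c, Subgroup.mem_sup_right hc⟩ with hc'def
      have hc₀ : ((a.symm c' : ↥(T ⊔ centralizerIn S T)) : Ω) ∈ centralizerIn S T :=
        aut_mem_C hT ha.symm c' hc
      set c₀ : ↥(R ⊔ centralizerIn S T) := Subgroup.inclusion le_sup_right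
        (⟨_, hc₀⟩ : centralizerIn S T) with hc₀def
      have h1 := hsh c₀
      have h2 : Subgroup.inclusion (sup_le_sup_C hRT) c₀ = a.symm c' := Subtype.ext rfl
      rw [h2, MulEquiv.apply_symm_apply] at h1
      -- h1 : ModT T (ψ c₀) c
      have ht : (ψ c₀)⁻¹ * c ∈ T := h1
      have hcomm : ∀ x : R, ((ψ c₀)⁻¹ * c) * ψ (Subgroup.inclusion le_sup_left x) =
          ψ (Subgroup.inclusion le_sup_left x) * ((ψ c₀)⁻¹ * c) := by
        intro x
        have e1 : ψ c₀ * ψ (Subgroup.inclusion le_sup_left x) =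
            ψ (Subgroup.inclusion le_sup_left x) * ψ c₀ := by
          rw [← map_mul, ← map_mul]
          congr 1
          apply Subtype.ext
          exact ((mem_centralizerIn_iff.mp hc₀).2 _ (hRT x.2)).symm
        have hxT : ψ (Subgroup.inclusion le_sup_left x) ∈ T := hom_mem_T hT hψ _ (hRT x.2)
        have e2 := (mem_centralizerIn_iff.mp hc).2 _ hxT
        have e3 : (ψ c₀)⁻¹ * ψ (Subgroup.inclusion le_sup_left x) =
            ψ (Subgroup.inclusion le_sup_left x) * (ψ c₀)⁻¹ := by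
          rw [eq_mul_inv_iff_mul_eq, mul_assoc, ← e1, inv_mul_cancel_left]
        rw [mul_assoc, ← e2, ← mul_assoc, e3, mul_assoc]
      obtain ⟨x, hx⟩ := hR'' _ (hc' _ ht hcomm)
      refine ⟨c₀ * Subgroup.inclusion le_sup_left x, ?_⟩
      rw [map_mul, hx, mul_inv_cancel_left]

/-! ### Closure properties of good maps -/

omit [Finite S] in
/-- conjugation by an element of `T` is good -/
theorem good_conj (hTS : T ≤ S) {R : Subgroup Ω} (hRT : R ≤ T) {g : Ω} (hg : g ∈ T) :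
    Good F T (conjHom R g) := by
  refine ⟨conjHom _ g, F.conj_mem (sup_le_S (hRT.trans hTS)) (hTS hg), fun x => rfl, fun c => ?_⟩
  unfold ModT
  show (c : Ω)⁻¹ * (g * (c : Ω) * g⁻¹) ∈ T
  have h1 := (mem_centralizerIn_iff.mp c.2).2 g hg
  have : (c : Ω)⁻¹ * (g * (c : Ω) * g⁻¹) = 1 := by
    rw [h1]; group
  rw [this]
  exact T.one_mem

omit [Finite S] in
/-- restrictions of good maps are good -/
theorem good_restrict {R₀ R : Subgroup Ω} (h : R₀ ≤ R) {φ : R →* Ω} (hφ : Good F T φ) :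
    Good F T (φ.comp (Subgroup.inclusion h)) := by
  obtain ⟨ψ, hψ, h1, h2⟩ := hφ
  have hle : R₀ ⊔ centralizerIn S T ≤ R ⊔ centralizerIn S T := sup_le_sup_right h _
  refine ⟨ψ.comp (Subgroup.inclusion hle), hom_restrict F hle hψ, fun x => ?_, fun c => ?_⟩
  · exact h1 (Subgroup.inclusion h x)
  · exact h2 c

/-- composites of good maps are good -/
theorem good_comp (hS : IsPGroup p S) (hF : F.IsSaturated p) (hT : F.StronglyClosed T)
    {R R₁ : Subgroup Ω} (hRT : R ≤ T) (hR₁T : R₁ ≤ T) {φ : R →* Ω} {φ₁ : R₁ →* Ω} (hφ : Good F T φ)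
    (hφ₁ : Good F T φ₁) (h : ∀ x : R, φ x ∈ R₁)
    (hcen : ∀ t ∈ T, (∀ x : R, t * φ x = φ x * t) → t ∈ R₁) :
    Good F T (φ₁.comp (φ.codRestrict R₁ h)) := by
  obtain ⟨ψ, hψ, h1, h2⟩ := hφ
  obtain ⟨ψ₁, hψ₁, h3, h4⟩ := hφ₁
  have hval : ∀ y : ↥(R ⊔ centralizerIn S T), ψ y ∈ R₁ ⊔ centralizerIn S T := by
    apply map_mem_sup hS hF hT hRT hψ R₁
    · intro x; rw [h1]; exact h x
    · intro t ht hc
      exact hcen t ht (fun x => by rw [← h1]; exact hc x)
  refine ⟨ψ₁.comp (ψ.codRestrict _ hval), F.comp_mem hψ hψ₁ hval, fun x => ?_, fun c => ?_⟩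
  · show ψ₁ ⟨ψ (Subgroup.inclusion le_sup_left x), _⟩ = φ₁ ⟨φ x, h x⟩
    have : (⟨ψ (Subgroup.inclusion le_sup_left x), hval _⟩ : ↥(R₁ ⊔ centralizerIn S T)) =
        Subgroup.inclusion le_sup_left (⟨φ x, h x⟩ : R₁) := Subtype.ext (h1 x)
    rw [this, h3]
  · show ModT T (c : Ω) (ψ₁ ⟨ψ (Subgroup.inclusion le_sup_right c), _⟩)
    have e1 := h2 c
    have e2 := TrivC.modT hT hR₁T hψ₁ h4 ⟨ψ (Subgroup.inclusion le_sup_right c), hval _⟩
    exact e1.trans e2

/-- inverses of good maps are good -/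
theorem good_inv (hS : IsPGroup p S) (hF : F.IsSaturated p) (hT : F.StronglyClosed T)
    {R : Subgroup Ω} (hRT : R ≤ T) {φ : R →* Ω} (hφ : Good F T φ)
    (hcen : ∀ t ∈ T, (∀ x : R, t * φ x = φ x * t) → t ∈ φ.range)
    {θ : φ.range →* Ω} (hθ : ∀ x : R, θ ⟨φ x, MonoidHom.mem_range.mpr ⟨x, rfl⟩⟩ = (x : Ω)) :
    Good F T θ := by
  obtain ⟨ψ, hψ, h1, h2⟩ := hφ
  have hr : ψ.range = φ.range ⊔ centralizerIn S T := by
    apply range_eq_sup hS hF hT hRT hψ φ.range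
    · intro x; rw [h1]; exact ⟨x, rfl⟩
    · rintro _ ⟨x, rfl⟩
      exact ⟨x, h1 x⟩
    · intro t ht hc
      exact hcen t ht (fun x => by rw [← h1]; exact hc x)
  obtain ⟨ψ', hψ', hinv⟩ := F.inv_mem hψ
  obtain ⟨ψ'', hψ''def⟩ : ∃ ψ'' : ↥(φ.range ⊔ centralizerIn S T) →* Ω,
      ∀ (z : Ω) (hz : z ∈ φ.range ⊔ centralizerIn S T) (hz' : z ∈ ψ.range), ψ'' ⟨z, hz⟩ = ψ' ⟨z, hz'⟩ := by
    refine ⟨ψ'.comp (Subgroup.inclusion hr.ge), fun z hz hz' => rfl⟩
  have hψ'' : ψ'' ∈ F.Hom (φ.range ⊔ centralizerIn S T) :=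
    (hom_cast F hr (fun z hz hz' => (hψ''def z hz' hz).symm)).mp hψ'
  have hRr : φ.range ≤ T := by
    rintro _ ⟨x, rfl⟩
    rw [← h1]
    exact hom_mem_T hT hψ _ (hRT x.2)
  refine ⟨ψ'', hψ'', ?_, fun c => ?_⟩
  · rintro ⟨_, x, rfl⟩
    have hmem : φ x ∈ ψ.range := ⟨Subgroup.inclusion le_sup_left x, h1 x⟩
    have h5 : (Subgroup.inclusion (le_sup_left : φ.range ≤ φ.range ⊔ centralizerIn S T)
        ⟨φ x, MonoidHom.mem_range.mpr ⟨x, rfl⟩⟩) = ⟨φ x, Subgroup.mem_sup_left ⟨x, rfl⟩⟩ := rfl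
    rw [hθ x, h5, hψ''def _ _ hmem]
    have : (⟨φ x, hmem⟩ : ψ.range) = ⟨ψ (Subgroup.inclusion le_sup_left x), ⟨_, rfl⟩⟩ :=
      Subtype.ext (h1 x).symm
    rw [this, hinv]
    rfl
  · -- `c = ψ(y)` for some `y`, and `y ≡ ψ y = c`
    have hcr : (c : Ω) ∈ ψ.range := by rw [hr]; exact Subgroup.mem_sup_right c.2
    obtain ⟨y, hy⟩ := hcr
    have e1 := TrivC.modT hT hRT hψ h2 y
    have e2 : ψ'' (Subgroup.inclusion le_sup_right c) = (y : Ω) := by
      have hmem : (c : Ω) ∈ ψ.range := ⟨y, hy⟩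
      have := hψ''def (c : Ω) (Subgroup.mem_sup_right c.2) hmem
      have h5 : (Subgroup.inclusion (le_sup_right : centralizerIn S T ≤ φ.range ⊔ centralizerIn S T) c) =
          ⟨(c : Ω), Subgroup.mem_sup_right c.2⟩ := rfl
      rw [h5, this]
      have h6 : (⟨(c : Ω), hmem⟩ : ψ.range) = ⟨ψ y, ⟨y, rfl⟩⟩ := Subtype.ext hy.symm
      rw [h6, hinv]
    rw [e2]
    rw [hy] at e1
    exact e1.symm

end

end Cfsg.Agent.Lib.Helper27.WN
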