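import Mathlib
import Cfsg.Agent.Lib.Helper27.WNC
import Cfsg.Agent.Lib.Helper27.TSA
import Cfsg.Agent.Lib.Helper27.FusionInduced
import Cfsg.Agent.Lib.Helper1.Cores
import Cfsg.Agent.H26.PPowerNormal

set_option autoImplicit false

/-! Subgroups `R ≤ T` all of whose conjugates contain their centralizer in `T`; extending `p'`-automorphisms
of `R C_S(T)` trivial on `R` to `N_T(R) C_S(T)`. -/

namespace Cfsg.Agent.Lib.Helper27.WN

open Cfsg Cfsg.FusionSystem Cfsg.Agent.Lib.Helper27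

variable {Ω : Type*} [Group Ω] {S T : Subgroup Ω}

/-- `R ≤ T` and every conjugate of `R` in the system contains its centralizer in `T`. -/
def TCentric (F : FusionSystem S) (T R : Subgroup Ω) : Prop :=
  R ≤ T ∧ ∀ R' : Subgroup Ω, F.IsConj R R' → centralizerIn T R' ≤ R'

section

variable [Finite S] {p : ℕ} [Fact p.Prime] {F : FusionSystem S}

omit [Finite S] [Fact p.Prime] in
theorem TCentric.cen (hT : F.StronglyClosed T) {R : Subgroup Ω} (h : TCentric F T R) :
    centralizerIn T R ≤ R := h.2 R (isConj_refl F (h.1.trans hT.1))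

omit [Finite S] [Fact p.Prime] in
theorem TCentric.conj (hT : F.StronglyClosed T) {R R' : Subgroup Ω} (h : TCentric F T R)
    (hc : F.IsConj R R') : TCentric F T R' := by
  refine ⟨?_, fun R'' h' => h.2 R'' (isConj_trans F hc h')⟩
  obtain ⟨φ, hφ, rfl⟩ := hc
  rintro _ ⟨x, rfl⟩
  exact hT.2 R h.1 φ hφ x

omit [Finite S] [Fact p.Prime] in
theorem TCentric.of_le {R N : Subgroup Ω} (h : TCentric F T R)
    (hRN : R ≤ N) (hNT : N ≤ T) : TCentric F T N := by
  refine ⟨hNT, fun N' hN' => ?_⟩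
  obtain ⟨φ, hφ, rfl⟩ := hN'
  have hφR := hom_restrict F hRN hφ
  have h1 := h.2 _ ⟨_, hφR, rfl⟩
  intro x hx
  have hx' : x ∈ centralizerIn T (φ.comp (Subgroup.inclusion hRN)).range := by
    rw [mem_centralizerIn_iff] at hx ⊢
    refine ⟨hx.1, ?_⟩
    rintro _ ⟨y, rfl⟩
    exact hx.2 _ ⟨_, rfl⟩
  obtain ⟨y, hy⟩ := h1 hx'
  exact ⟨_, hy⟩

omit [Finite S] [Fact p.Prime] in
/-- conjugation by an element of `T` is trivial modulo `T` -/
theorem modT_conj (hTn : S ≤ Subgroup.normalizer (T : Set Ω)) {n y : Ω} (hn : n ∈ T) (hy : y ∈ S) :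
    ModT T y (n * y * n⁻¹) := by
  unfold ModT
  have : y⁻¹ * (n * y * n⁻¹) = (y⁻¹ * n * y) * n⁻¹ := by group
  rw [this]
  exact T.mul_mem (conj_inv_mem_of_normalizer hTn hy hn) (T.inv_mem hn)

omit [Fact p.Prime] in
/-- a map of the system fixing `R` elementwise maps `N_T(R)` into `N_T(R)` -/
theorem hom_mem_normalizerIn (hT : F.StronglyClosed T) {R Z : Subgroup Ω} [Finite R] (hRZ : R ≤ Z)
    {ψ : Z →* Ω} (hψ : ψ ∈ F.Hom Z) (hfix : ∀ x : Z, (x : Ω) ∈ R → ψ x = x) (z : Z)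
    (hz : (z : Ω) ∈ normalizerIn T R) : ψ z ∈ normalizerIn T R := by
  refine ⟨hom_mem_T hT hψ z hz.1, ?_⟩
  apply mem_normalizer_of_conj_mem
  intro r hr
  have h1 : (z : Ω) * r * (z : Ω)⁻¹ ∈ R := conj_mem_of_mem_normalizerIn hz hr
  have h2 := hfix (z * ⟨r, hRZ hr⟩ * z⁻¹) h1
  rw [map_mul, map_mul, map_inv, hfix ⟨r, hRZ hr⟩ hr] at h2
  rw [h2]
  exact h1

/-- `n ∈ N_T(R)` normalizes `R C_S(T)` -/
theorem normalizerIn_le_normalizerIn_sup (hT : F.StronglyClosed T) {R : Subgroup Ω} (hRT : R ≤ T) :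
    normalizerIn T R ≤ normalizerIn S (R ⊔ centralizerIn S T) := by
  intro n hn
  have hTn := le_normalizer_of_stronglyClosed hT
  have hnS : n ∈ S := hT.1 hn.1
  refine ⟨hnS, ?_⟩
  haveI : Finite ↥(R ⊔ centralizerIn S T) := finite_of_le (sup_le_S (hRT.trans hT.1))
  apply mem_normalizer_of_conj_mem
  intro y hy
  obtain ⟨a, ha, b, hb, rfl⟩ := exists_mul_of_mem hRT hy
  have : n * (a * b) * n⁻¹ = (n * a * n⁻¹) * (n * b * n⁻¹) := by group
  rw [this]
  exact Subgroup.mul_mem _ (Subgroup.mem_sup_left (conj_mem_of_mem_normalizerIn hn ha))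
    (Subgroup.mem_sup_right (conj_mem_centralizerIn hTn hnS hb))

/-- the chain `1 ≤ T ≤ Ω` -/
def bchain (T : Subgroup Ω) : ℕ → Subgroup Ω := fun j => match j with
  | 0 => ⊥
  | 1 => T
  | _ => ⊤

omit [Fact p.Prime] in
theorem bchain_inv (hT : F.StronglyClosed T) {Y : Subgroup Ω} (hYS : Y ≤ S) :
    ∀ j, ∀ α : F.autGroup Y, ∀ x : Y, (x : Ω) ∈ bchain T j → ((((α : MulAut Y) x : Y)) : Ω) ∈ bchain T j := by
  intro j α x hx
  match j with
  | 0 =>
    change (x : Ω) ∈ (⊥ : Subgroup Ω) at hx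
    change _ ∈ (⊥ : Subgroup Ω)
    rw [Subgroup.mem_bot] at hx ⊢
    have : x = 1 := Subtype.ext hx
    rw [this, map_one]
    rfl
  | 1 =>
    change (x : Ω) ∈ T at hx
    change _ ∈ T
    exact stronglyClosed_aut_mem hT ((mem_autGroup_iff F hYS _).mp α.2) hx
  | (k + 2) =>
    change _ ∈ (⊤ : Subgroup Ω)
    exact Subgroup.mem_top _

/-- for `γ ∈ Aut_F(R C_S(T))` trivial on `R` and `n ∈ N_T(R)`, the conjugate `γ c_n γ⁻¹` is induced by `S`
when `R C_S(T)` is fully automized -/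
theorem conj_mem_autInducedBy (hS : IsPGroup p S) (hT : F.StronglyClosed T)
    {R : Subgroup Ω} (hRT : R ≤ T) (hcen : centralizerIn T R ≤ R)
    (hfa : F.IsFullyAutomized p (R ⊔ centralizerIn S T))
    {γ : MulAut ↥(R ⊔ centralizerIn S T)} (hγ : γ ∈ F.autGroup (R ⊔ centralizerIn S T))
    (hγR : ∀ y : ↥(R ⊔ centralizerIn S T), (y : Ω) ∈ R → γ y = y)
    {n : Ω} (hn : n ∈ normalizerIn T R) :
    γ * conjAutHom S (R ⊔ centralizerIn S T) ⟨n, normalizerIn_le_normalizerIn_sup hT hRT hn⟩ * γ⁻¹ ∈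
      autInducedBy S (R ⊔ centralizerIn S T) := by
  have hYS : R ⊔ centralizerIn S T ≤ S := sup_le_S (hRT.trans hT.1)
  have hTn := le_normalizer_of_stronglyClosed hT
  obtain ⟨-, R₀, hR₀⟩ := hfa
  set cn := conjAutHom S (R ⊔ centralizerIn S T) ⟨n, normalizerIn_le_normalizerIn_sup hT hRT hn⟩ with hcn
  have hcnS : cn ∈ autInducedBy S (R ⊔ centralizerIn S T) := by
    rw [← conjAutHom_range]; exact ⟨_, rfl⟩
  have hcnA : cn ∈ F.autGroup (R ⊔ centralizerIn S T) := autInducedBy_le_autGroup F hYS hcnS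
  have hcn_apply : ∀ y : ↥(R ⊔ centralizerIn S T), ((cn y : ↥(R ⊔ centralizerIn S T)) : Ω) =
      n * y * n⁻¹ := fun y => rfl
  have hcninv_apply : ∀ y : ↥(R ⊔ centralizerIn S T), ((cn⁻¹ y : ↥(R ⊔ centralizerIn S T)) : Ω) =
      n⁻¹ * y * n := by
    intro y
    have h1 := hcn_apply (cn⁻¹ y)
    rw [MulAut.apply_inv_self] at h1
    rw [h1]
    group
  have hγinvR : ∀ y : ↥(R ⊔ centralizerIn S T), (y : Ω) ∈ R → γ⁻¹ y = y := by
    intro y hy
    have h1 := hγR y hy
    conv_lhs => rw [← h1]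
    rw [MulAut.inv_apply_self]
  have hγT : ∀ y : ↥(R ⊔ centralizerIn S T), (y : Ω) ∈ T → ((γ y : ↥(R ⊔ centralizerIn S T)) : Ω) ∈ T :=
    fun y hy => stronglyClosed_aut_mem hT ((mem_autGroup_iff F hYS _).mp hγ) hy
  set δ : F.autGroup (R ⊔ centralizerIn S T) := ⟨γ, hγ⟩ * ⟨cn, hcnA⟩ * ⟨γ, hγ⟩⁻¹ * ⟨cn, hcnA⟩⁻¹ with hδ
  have hδapp : ∀ x : ↥(R ⊔ centralizerIn S T), (δ : MulAut ↥(R ⊔ centralizerIn S T)) x =
      γ (cn (γ⁻¹ (cn⁻¹ x))) := fun x => rfl
  have hδmem : δ ∈ chainStabilizer F (R ⊔ centralizerIn S T) (bchain T) 2 (bchain_inv hT hYS) := by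
    intro j hj x hx
    have hj' : j = 0 ∨ j = 1 := by omega
    rcases hj' with rfl | rfl
    · change (x : Ω) ∈ T at hx
      change _ ∈ (⊥ : Subgroup Ω)
      rw [Subgroup.mem_bot]
      have hxR : (x : Ω) ∈ R := mem_of_mem_sup_of_mem hRT (centralizerIn_self_le hRT hcen) x.2 hx
      have hu : ((cn⁻¹ x : ↥(R ⊔ centralizerIn S T)) : Ω) ∈ R := by
        rw [hcninv_apply]
        have := conj_mem_of_mem_normalizerIn ((normalizerIn T R).inv_mem hn) hxR
        rwa [inv_inv] at this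
      have h1 : (δ : MulAut ↥(R ⊔ centralizerIn S T)) x = x := by
        rw [hδapp, hγinvR _ hu, MulAut.apply_inv_self, hγR x hxR]
      rw [h1, inv_mul_cancel]
      rfl
    · change _ ∈ T
      -- modulo `T`
      have e1 : ModT T ((cn⁻¹ x : ↥(R ⊔ centralizerIn S T)) : Ω) (x : Ω) := by
        have := modT_conj hTn hn.1 (hYS (cn⁻¹ x).2)
        rw [← hcn_apply, MulAut.apply_inv_self] at this
        exact this
      have e2 : ModT T ((γ⁻¹ (cn⁻¹ x) : ↥(R ⊔ centralizerIn S T)) : Ω)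
          ((cn (γ⁻¹ (cn⁻¹ x)) : ↥(R ⊔ centralizerIn S T)) : Ω) := by
        rw [hcn_apply]
        exact modT_conj hTn hn.1 (hYS (γ⁻¹ (cn⁻¹ x)).2)
      have e3 := ModT.map ((Subgroup.subtype _).comp (γ : ↥(R ⊔ centralizerIn S T) ≃* _).toMonoidHom)
        (fun y hy => hγT y hy) e2
      have e4 : ((γ (γ⁻¹ (cn⁻¹ x)) : ↥(R ⊔ centralizerIn S T)) : Ω) =
          ((cn⁻¹ x : ↥(R ⊔ centralizerIn S T)) : Ω) := by rw [MulAut.apply_inv_self]
      have e5 : ModT T ((cn⁻¹ x : ↥(R ⊔ centralizerIn S T)) : Ω)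
          (((δ : MulAut ↥(R ⊔ centralizerIn S T)) x : ↥(R ⊔ centralizerIn S T)) : Ω) := by
        rw [hδapp, ← e4]
        exact e3
      have e6 := e1.symm.trans e5
      exact e6
  have hX := Cfsg.Agent.Lib.Helper1.le_pCore (chainStabilizer_normal F _ (bchain T) 2 (bchain_inv hT hYS))
    (chainStabilizer_isPGroup hS F hYS (bchain T) 2 (bchain_inv hT hYS) rfl (fun _ _ => Subgroup.mem_top _))
  have h1 : δ ∈ (R₀ : Subgroup (F.autGroup (R ⊔ centralizerIn S T))) :=
    Cfsg.Agent.Lib.Helper1.pCore_le_sylow R₀ (hX hδmem)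
  rw [hR₀] at h1
  have h2 : (δ : MulAut ↥(R ⊔ centralizerIn S T)) ∈ autInducedBy S (R ⊔ centralizerIn S T) := h1
  have h3 : γ * cn * γ⁻¹ = (δ : MulAut ↥(R ⊔ centralizerIn S T)) * cn := by
    rw [hδ]
    simp only [Subgroup.coe_mul, Subgroup.coe_inv]
    group
  rw [h3]
  exact Subgroup.mul_mem _ h2 hcnS

/-- **Stepping up**: a `p'`-automorphism of `R C_S(T)` in the system, trivial on `R`, with `R C_S(T)` fully
normalized, extends to a `p'`-automorphism of `N_T(R) C_S(T)` in the system trivial on `N_T(R)`. -/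
theorem step_up (hS : IsPGroup p S) (hF : F.IsSaturated p) (hT : F.StronglyClosed T)
    {R : Subgroup Ω} (hRT : R ≤ T) (hcen : centralizerIn T R ≤ R)
    (hfn : F.IsFullyNormalized (R ⊔ centralizerIn S T))
    {γ : MulAut ↥(R ⊔ centralizerIn S T)} (hγ : γ ∈ F.autGroup (R ⊔ centralizerIn S T))
    (hcop : (orderOf γ).Coprime p)
    (hγR : ∀ y : ↥(R ⊔ centralizerIn S T), (y : Ω) ∈ R → γ y = y) :
    ∃ a : MulAut ↥(normalizerIn T R ⊔ centralizerIn S T),
      a ∈ F.autGroup (normalizerIn T R ⊔ centralizerIn S T) ∧ (orderOf a).Coprime p ∧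
      (∀ y : ↥(normalizerIn T R ⊔ centralizerIn S T), (y : Ω) ∈ normalizerIn T R → a y = y) ∧
      ∀ c : centralizerIn S T,
        ((a (Subgroup.inclusion le_sup_right c) : ↥(normalizerIn T R ⊔ centralizerIn S T)) : Ω) =
          ((γ (Subgroup.inclusion le_sup_right c) : ↥(R ⊔ centralizerIn S T)) : Ω) := by
  have hTS := hT.1
  have hYS : R ⊔ centralizerIn S T ≤ S := sup_le_S (hRT.trans hTS)
  have hNT : normalizerIn T R ≤ T := normalizerIn_le_S T R
  have hRN : R ≤ normalizerIn T R := le_normalizerIn hRT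
  have hNS : normalizerIn T R ⊔ centralizerIn S T ≤ S := sup_le_S (hNT.trans hTS)
  haveI : Finite ↥(R ⊔ centralizerIn S T) := finite_of_le hYS
  haveI : Finite ↥(normalizerIn T R ⊔ centralizerIn S T) := finite_of_le hNS
  haveI : Finite R := finite_of_le (hRT.trans hTS)
  obtain ⟨hfa, hrec, -⟩ := fa_receptive_of_fullyNormalized hS hF hfn
  have hγiso : IsIso F (γ : ↥(R ⊔ centralizerIn S T) ≃* ↥(R ⊔ centralizerIn S T)) :=
    (mem_autGroup_iff F hYS γ).mp hγ
  -- `N_T(R) C_S(T)` lies in the extender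
  have hYN : R ⊔ centralizerIn S T ≤ normalizerIn T R ⊔ centralizerIn S T := sup_le_sup_right hRN _
  have hext : normalizerIn T R ⊔ centralizerIn S T ≤
      extender S (R ⊔ centralizerIn S T)
        ((R ⊔ centralizerIn S T).subtype.comp (γ : ↥(R ⊔ centralizerIn S T) ≃* _).toMonoidHom) := by
    apply sup_le
    · intro n hn
      have h1 := conj_mem_autInducedBy hS hT hRT hcen hfa hγ hγR hn
      rw [mem_autInducedBy_iff] at h1
      obtain ⟨h, hhS, hh⟩ := h1
      have hnN := normalizerIn_le_normalizerIn_sup hT hRT hn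
      rw [mem_extender_iff]
      refine ⟨hnN.1, hnN.2, h, hhS, fun x hx => ?_⟩
      have h2 := hh (γ x)
      simp only [MulAut.mul_apply, MulAut.inv_apply_self] at h2
      have h3 : conjAutHom S (R ⊔ centralizerIn S T) ⟨n, hnN⟩ x = ⟨n * x * n⁻¹, hx⟩ := Subtype.ext rfl
      rw [h3] at h2
      exact h2
    · exact (le_sup_right : centralizerIn S T ≤ R ⊔ centralizerIn S T).trans (le_extender_of_isIso hγiso)
  obtain ⟨ψ, hψ, hψγ⟩ := receptive_exists_extension hrec hγiso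
  have hψN := hom_restrict F hext hψ
  set ψ' := ψ.comp (Subgroup.inclusion hext) with hψ'
  have hψ'Y : ∀ y : ↥(R ⊔ centralizerIn S T), ψ' (Subgroup.inclusion hYN y) =
      ((γ y : ↥(R ⊔ centralizerIn S T)) : Ω) := fun y => hψγ y y.2 _
  have hψ'fix : ∀ z : ↥(normalizerIn T R ⊔ centralizerIn S T), (z : Ω) ∈ R → ψ' z = z := by
    intro z hz
    have h1 := hψ'Y ⟨z, Subgroup.mem_sup_left hz⟩
    have h2 : Subgroup.inclusion hYN ⟨(z : Ω), Subgroup.mem_sup_left hz⟩ = z := Subtype.ext rfl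
    rw [h2] at h1
    rw [h1, hγR _ hz]
  have hval : ∀ z : ↥(normalizerIn T R ⊔ centralizerIn S T), ψ' z ∈
      normalizerIn T R ⊔ centralizerIn S T := by
    apply map_sup_mem
    · intro x
      exact Subgroup.mem_sup_left
        (hom_mem_normalizerIn hT (hRN.trans le_sup_left) hψN hψ'fix _ x.2)
    · intro c
      have h1 := hψ'Y (Subgroup.inclusion le_sup_right c)
      have h2 : Subgroup.inclusion hYN (Subgroup.inclusion le_sup_right c) =
          Subgroup.inclusion (le_sup_right : centralizerIn S T ≤ normalizerIn T R ⊔ centralizerIn S T) c :=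
        Subtype.ext rfl
      rw [h2] at h1
      rw [h1]
      exact hYN (γ _).2
  obtain ⟨a₀, ha₀, ha₀ψ⟩ := exists_aut_of_hom_self F hψN hval
  have ha₀A : (a₀ : MulAut ↥(normalizerIn T R ⊔ centralizerIn S T)) ∈
      F.autGroup (normalizerIn T R ⊔ centralizerIn S T) := (mem_autGroup_iff F hNS a₀).mpr ha₀
  obtain ⟨k, hk1, hk2⟩ := exists_pow_coprime p
    (a₀ : MulAut ↥(normalizerIn T R ⊔ centralizerIn S T)) γ hcop
  have ha₀Y : ∀ y : ↥(R ⊔ centralizerIn S T),
      (((a₀ : MulAut ↥(normalizerIn T R ⊔ centralizerIn S T)) (Subgroup.inclusion hYN y) :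
        ↥(normalizerIn T R ⊔ centralizerIn S T)) : Ω) = ((γ y : ↥(R ⊔ centralizerIn S T)) : Ω) := by
    intro y
    rw [← hψ'Y]
    exact ha₀ψ _
  have hakY : ∀ y : ↥(R ⊔ centralizerIn S T),
      ((((a₀ : MulAut ↥(normalizerIn T R ⊔ centralizerIn S T)) ^ k) (Subgroup.inclusion hYN y) :
        ↥(normalizerIn T R ⊔ centralizerIn S T)) : Ω) = ((γ y : ↥(R ⊔ centralizerIn S T)) : Ω) := by
    intro y
    rw [Cfsg.Agent.H26.pow_restrict hYN ha₀Y, hk1]
  have hakA : (a₀ : MulAut ↥(normalizerIn T R ⊔ centralizerIn S T)) ^ k ∈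
      F.autGroup (normalizerIn T R ⊔ centralizerIn S T) := Subgroup.pow_mem _ ha₀A k
  have hakiso := (mem_autGroup_iff F hNS _).mp hakA
  have hakfix : ∀ z : ↥(normalizerIn T R ⊔ centralizerIn S T), (z : Ω) ∈ R →
      ((a₀ : MulAut ↥(normalizerIn T R ⊔ centralizerIn S T)) ^ k) z = z := by
    intro z hz
    apply Subtype.ext
    have h1 := hakY ⟨z, Subgroup.mem_sup_left hz⟩
    have h2 : Subgroup.inclusion hYN ⟨(z : Ω), Subgroup.mem_sup_left hz⟩ = z := Subtype.ext rfl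
    rw [h2] at h1
    rw [h1, hγR _ hz]
  refine ⟨(a₀ : MulAut ↥(normalizerIn T R ⊔ centralizerIn S T)) ^ k, hakA, hk2, ?_, fun c => ?_⟩
  · -- Thompson's `A × B` lemma
    have hpN : IsPGroup p ↥((normalizerIn T R).subgroupOf (normalizerIn T R ⊔ centralizerIn S T)) := by
      have h1 : IsPGroup p ↥(normalizerIn T R ⊔ centralizerIn S T) :=
        hS.of_injective (Subgroup.inclusion hNS) (Subgroup.inclusion_injective hNS)
      exact h1.to_subgroup _
    have hfixN := Cfsg.Agent.Lib.Helper27.TS.aut_fixes_of_AxB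
      ((a₀ : MulAut ↥(normalizerIn T R ⊔ centralizerIn S T)) ^ k) hk2
      (P := (normalizerIn T R).subgroupOf (normalizerIn T R ⊔ centralizerIn S T))
      (Q := R.subgroupOf (normalizerIn T R ⊔ centralizerIn S T)) hpN
      (fun z hz => Subgroup.mem_subgroupOf.mpr (hRN (Subgroup.mem_subgroupOf.mp hz)))
      (fun z hz => by
        rw [Subgroup.mem_subgroupOf] at hz ⊢
        have h1 := hom_mem_normalizerIn hT (hRN.trans le_sup_left) hakiso
          (fun x hx => by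
            have := hakfix x hx
            show (((((a₀ : MulAut ↥(normalizerIn T R ⊔ centralizerIn S T)) ^ k) x :
              ↥(normalizerIn T R ⊔ centralizerIn S T))) : Ω) = x
            rw [this]) z hz
        exact h1)
      (fun z hz => hakfix z (Subgroup.mem_subgroupOf.mp hz))
      (fun z hz hcomm => by
        rw [Subgroup.mem_subgroupOf] at hz ⊢
        apply hcen
        rw [mem_centralizerIn_iff]
        refine ⟨hz.1, fun r hr => ?_⟩
        have := hcomm ⟨r, Subgroup.mem_sup_left (hRN hr)⟩ (Subgroup.mem_subgroupOf.mpr hr)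
        exact congrArg Subtype.val this)
    intro y hy
    exact hfixN y (Subgroup.mem_subgroupOf.mpr hy)
  · have h1 := hakY (Subgroup.inclusion le_sup_right c)
    have h2 : Subgroup.inclusion hYN (Subgroup.inclusion le_sup_right c) =
        Subgroup.inclusion (le_sup_right : centralizerIn S T ≤ normalizerIn T R ⊔ centralizerIn S T) c :=
      Subtype.ext rfl
    rw [h2] at h1
    exact h1

end

end Cfsg.Agent.Lib.Helper27.WN
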