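import Mathlib
import Cfsg.Agent.Lib.Helper27.WND

set_option autoImplicit false

/-! `p'`-automorphisms of `R C_S(T)` trivial on `R` are shadowed by automorphisms of `T C_S(T)` trivial on `T`. -/

namespace Cfsg.Agent.Lib.Helper27.WN

open Cfsg Cfsg.FusionSystem Cfsg.Agent.Lib.Helper27

variable {Ω : Type*} [Group Ω] {S T : Subgroup Ω}

section

variable [Finite S] {p : ℕ} [Fact p.Prime] {F : FusionSystem S}

theorem claimZ_aux (hS : IsPGroup p S) (hF : F.IsSaturated p) (hT : F.StronglyClosed T) :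
    ∀ n : ℕ, ∀ R : Subgroup Ω, TCentric F T R → Nat.card T - Nat.card R = n →
    ∀ γ : MulAut ↥(R ⊔ centralizerIn S T), γ ∈ F.autGroup (R ⊔ centralizerIn S T) →
    (orderOf γ).Coprime p → (∀ y : ↥(R ⊔ centralizerIn S T), (y : Ω) ∈ R → γ y = y) →
    ∃ Ψ : MulAut ↥(T ⊔ centralizerIn S T), Ψ ∈ F.autGroup (T ⊔ centralizerIn S T) ∧
      (∀ y : ↥(T ⊔ centralizerIn S T), (y : Ω) ∈ T → Ψ y = y) ∧
      ∀ c : centralizerIn S T,
        ModT T ((γ (Subgroup.inclusion le_sup_right c) : ↥(R ⊔ centralizerIn S T)) : Ω)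
          ((Ψ (Subgroup.inclusion le_sup_right c) : ↥(T ⊔ centralizerIn S T)) : Ω) := by
  intro n
  induction n using Nat.strong_induction_on with
  | _ n ih =>
  intro R hR hn γ hγ hcop hγR
  have hTS := hT.1
  haveI : Finite T := finite_of_le hTS
  have hpT : IsPGroup p T := hS.of_injective (Subgroup.inclusion hTS) (Subgroup.inclusion_injective hTS)
  by_cases hRT' : R = T
  · subst hRT'
    exact ⟨γ, hγ, hγR, fun c => ModT.refl _ _⟩
  have hRT := hR.1
  have hRS : R ≤ S := hRT.trans hTS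
  have hYS : R ⊔ centralizerIn S T ≤ S := sup_le_S hRS
  have hDS : T ⊔ centralizerIn S T ≤ S := sup_le_S hTS
  obtain ⟨Y₀, ⟨ψ, hψ, hrange⟩, hfn⟩ := exists_fullyNormalized_conj F hYS
  have hφ : ψ.comp (Subgroup.inclusion (le_sup_left : R ≤ R ⊔ centralizerIn S T)) ∈ F.Hom R :=
    hom_restrict F le_sup_left hψ
  obtain ⟨R₀, hR₀def⟩ : ∃ R₀ : Subgroup Ω,
      R₀ = (ψ.comp (Subgroup.inclusion (le_sup_left : R ≤ R ⊔ centralizerIn S T))).range := ⟨_, rfl⟩
  have hR₀ : TCentric F T R₀ := hR.conj hT ⟨_, hφ, hR₀def.symm⟩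
  have hR₀mem : ∀ x : R, ψ (Subgroup.inclusion le_sup_left x) ∈ R₀ := by
    intro x; rw [hR₀def]; exact ⟨x, rfl⟩
  have hR₀surj : ∀ z ∈ R₀, ∃ x : R, ψ (Subgroup.inclusion le_sup_left x) = z := by
    intro z hz; rw [hR₀def] at hz; obtain ⟨x, hx⟩ := hz; exact ⟨x, hx⟩
  have hr : ψ.range = R₀ ⊔ centralizerIn S T := by
    apply range_eq_sup hS hF hT hRT hψ R₀ hR₀mem hR₀surj
    intro t ht hc
    apply hR₀.cen hT
    rw [mem_centralizerIn_iff]
    refine ⟨ht, fun z hz => ?_⟩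
    obtain ⟨x, rfl⟩ := hR₀surj z hz
    exact (hc x).symm
  rw [hr] at hrange
  subst hrange
  obtain ⟨e, he, heψ⟩ := exists_isIso_of_hom F hψ hr
  have hR₀T := hR₀.1
  have hR₀S : R₀ ≤ S := hR₀T.trans hTS
  have hY₀S : R₀ ⊔ centralizerIn S T ≤ S := sup_le_S hR₀S
  -- the transported automorphism
  have hγ'A : MulAut.congr e γ ∈ F.autGroup (R₀ ⊔ centralizerIn S T) := by
    rw [mem_autGroup_iff F hY₀S]
    exact (isIso_congr he γ).mpr ((mem_autGroup_iff F hYS γ).mp hγ)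
  have hγ'app : ∀ y : ↥(R ⊔ centralizerIn S T), MulAut.congr e γ (e y) = e (γ y) := by
    intro y
    simp [MulAut.congr]
  have hγ'cop : (orderOf (MulAut.congr e γ)).Coprime p := by
    rw [MulEquiv.orderOf_eq]; exact hcop
  have hγ'R : ∀ y : ↥(R₀ ⊔ centralizerIn S T), (y : Ω) ∈ R₀ → MulAut.congr e γ y = y := by
    intro y hy
    obtain ⟨x, hx⟩ := hR₀surj _ hy
    have h1 : y = e (Subgroup.inclusion le_sup_left x) := by
      apply Subtype.ext
      rw [heψ, hx]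
    rw [h1, hγ'app, hγR _ x.2]
  -- `R₀ < T`
  have hcardR : Nat.card R₀ = Nat.card R := by
    rw [hR₀def]
    exact (Nat.card_congr (MonoidHom.ofInjective (F.injective_of_mem hφ)).toEquiv).symm
  have hlt₀ : R₀ < T := by
    refine lt_of_le_of_ne hR₀T (fun h => ?_)
    apply hRT'
    apply Subgroup.eq_of_le_of_card_ge hRT
    rw [← hcardR, h]
  obtain ⟨g, hgN, hgR₀⟩ := exists_mem_normalizerIn_not_mem hpT hlt₀
  obtain ⟨a, haA, hacop, haN, haC⟩ := step_up hS hF hT hR₀T (hR₀.cen hT) hfn hγ'A hγ'cop hγ'R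
  have hNT : normalizerIn T R₀ ≤ T := normalizerIn_le_S T R₀
  have hR₀N : R₀ ≤ normalizerIn T R₀ := le_normalizerIn hR₀T
  have hN : TCentric F T (normalizerIn T R₀) := hR₀.of_le hR₀N hNT
  haveI : Finite ↥(normalizerIn T R₀) := finite_of_le (hNT.trans hTS)
  have hcardN : Nat.card R₀ < Nat.card (normalizerIn T R₀) := by
    by_contra hle
    push Not at hle
    have := Subgroup.eq_of_le_of_card_ge hR₀N hle
    rw [this] at hgR₀
    exact hgR₀ hgN
  have hcardNT : Nat.card (normalizerIn T R₀) ≤ Nat.card T := Subgroup.card_le_of_le hNT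
  have hcardRT : Nat.card R ≤ Nat.card T := Subgroup.card_le_of_le hRT
  obtain ⟨Ψ', hΨ'A, hΨ'T, hΨ'C⟩ := ih (Nat.card T - Nat.card (normalizerIn T R₀)) (by omega)
    (normalizerIn T R₀) hN rfl a haA hacop haN
  obtain ⟨ash, hash, hsh⟩ := exists_shadow hS hF hT hRT hψ
  have hashA : (ash : MulAut ↥(T ⊔ centralizerIn S T)) ∈ F.autGroup (T ⊔ centralizerIn S T) :=
    (mem_autGroup_iff F hDS _).mpr hash
  refine ⟨(ash : MulAut ↥(T ⊔ centralizerIn S T))⁻¹ * Ψ' * (ash : MulAut ↥(T ⊔ centralizerIn S T)),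
    Subgroup.mul_mem _ (Subgroup.mul_mem _ (Subgroup.inv_mem _ hashA) hΨ'A) hashA, ?_, ?_⟩
  · intro y hy
    simp only [MulAut.mul_apply]
    have h1 : (((ash : MulAut ↥(T ⊔ centralizerIn S T)) y : ↥(T ⊔ centralizerIn S T)) : Ω) ∈ T :=
      aut_mem_T hT hash y hy
    rw [hΨ'T _ h1, MulAut.inv_apply_self]
  · intro c
    simp only [MulAut.mul_apply]
    set c₀ : ↥(T ⊔ centralizerIn S T) := Subgroup.inclusion le_sup_right c with hc₀
    have hc₁ : (((ash : MulAut ↥(T ⊔ centralizerIn S T)) c₀ : ↥(T ⊔ centralizerIn S T)) : Ω) ∈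
        centralizerIn S T := aut_mem_C hT hash c₀ c.2
    obtain ⟨c₁, hc₁def⟩ : ∃ c₁ : centralizerIn S T, (c₁ : Ω) =
        (((ash : MulAut ↥(T ⊔ centralizerIn S T)) c₀ : ↥(T ⊔ centralizerIn S T)) : Ω) := ⟨⟨_, hc₁⟩, rfl⟩
    have hc₁eq : (ash : MulAut ↥(T ⊔ centralizerIn S T)) c₀ = Subgroup.inclusion le_sup_right c₁ :=
      Subtype.ext hc₁def.symm
    -- `Ψ'(c₁) ≡ a(c₁) = γ'(c₁)`
    have e1 := hΨ'C c₁
    rw [haC c₁] at e1
    -- `ψ(c) ≡ c₁`
    have e2 := hsh (Subgroup.inclusion le_sup_right c)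
    have e2' : ModT T ((e (Subgroup.inclusion le_sup_right c) : ↥(R₀ ⊔ centralizerIn S T)) : Ω)
        ((Subgroup.inclusion (le_sup_right : centralizerIn S T ≤ R₀ ⊔ centralizerIn S T) c₁ :
          ↥(R₀ ⊔ centralizerIn S T)) : Ω) := by
      rw [heψ]
      have : ((Subgroup.inclusion (le_sup_right : centralizerIn S T ≤ R₀ ⊔ centralizerIn S T) c₁ :
          ↥(R₀ ⊔ centralizerIn S T)) : Ω) = (c₁ : Ω) := rfl
      rw [this, hc₁def]
      exact e2
    -- apply `γ'`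
    have hγ'T : ∀ y : ↥(R₀ ⊔ centralizerIn S T), (y : Ω) ∈ T →
        ((MulAut.congr e γ y : ↥(R₀ ⊔ centralizerIn S T)) : Ω) ∈ T :=
      fun y hy => stronglyClosed_aut_mem hT ((mem_autGroup_iff F hY₀S _).mp hγ'A) hy
    have e3 := ModT.map ((Subgroup.subtype _).comp
      (MulAut.congr e γ : ↥(R₀ ⊔ centralizerIn S T) ≃* _).toMonoidHom) (fun y hy => hγ'T y hy) e2'
    have e3' : ModT T ((e (γ (Subgroup.inclusion le_sup_right c)) : ↥(R₀ ⊔ centralizerIn S T)) : Ω)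
        ((MulAut.congr e γ (Subgroup.inclusion le_sup_right c₁) : ↥(R₀ ⊔ centralizerIn S T)) : Ω) := by
      rw [← hγ'app]
      exact e3
    -- `ψ(γ c) ≡ ash(γ c)`
    have e4 := hsh (γ (Subgroup.inclusion le_sup_right c))
    rw [← heψ] at e4
    -- combine
    have e5 := (e4.symm.trans e3').trans e1
    -- apply `ash⁻¹`
    have hashinvT : ∀ y : ↥(T ⊔ centralizerIn S T), (y : Ω) ∈ T →
        (((ash : MulAut ↥(T ⊔ centralizerIn S T))⁻¹ y : ↥(T ⊔ centralizerIn S T)) : Ω) ∈ T :=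
      fun y hy => aut_mem_T hT hash.symm y hy
    have e6 := ModT.map ((Subgroup.subtype _).comp
      ((ash : MulAut ↥(T ⊔ centralizerIn S T))⁻¹ : ↥(T ⊔ centralizerIn S T) ≃* _).toMonoidHom)
      (fun y hy => hashinvT y hy) e5
    have e7 : ((ash : MulAut ↥(T ⊔ centralizerIn S T))⁻¹
        ((ash : MulAut ↥(T ⊔ centralizerIn S T)) (Subgroup.inclusion (sup_le_sup_C hRT)
          (γ (Subgroup.inclusion le_sup_right c))))) = Subgroup.inclusion (sup_le_sup_C hRT)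
          (γ (Subgroup.inclusion le_sup_right c)) := MulAut.inv_apply_self _ _ _
    rw [hc₁eq]
    have e8 : ModT T ((Subgroup.inclusion (sup_le_sup_C hRT)
          (γ (Subgroup.inclusion le_sup_right c)) : ↥(T ⊔ centralizerIn S T)) : Ω)
        (((ash : MulAut ↥(T ⊔ centralizerIn S T))⁻¹ (Ψ' (Subgroup.inclusion le_sup_right c₁)) :
          ↥(T ⊔ centralizerIn S T)) : Ω) := by
      rw [← e7]
      exact e6
    exact e8

/-- **Claim Z**: a `p'`-automorphism of `R C_S(T)` in the system, trivial on `R`, agrees on `C_S(T)`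
modulo `T` with an automorphism of `T C_S(T)` in the system which is trivial on `T`. -/
theorem claimZ (hS : IsPGroup p S) (hF : F.IsSaturated p) (hT : F.StronglyClosed T)
    {R : Subgroup Ω} (hR : TCentric F T R)
    {γ : MulAut ↥(R ⊔ centralizerIn S T)} (hγ : γ ∈ F.autGroup (R ⊔ centralizerIn S T))
    (hcop : (orderOf γ).Coprime p) (hγR : ∀ y : ↥(R ⊔ centralizerIn S T), (y : Ω) ∈ R → γ y = y) :
    ∃ Ψ : MulAut ↥(T ⊔ centralizerIn S T), Ψ ∈ F.autGroup (T ⊔ centralizerIn S T) ∧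
      (∀ y : ↥(T ⊔ centralizerIn S T), (y : Ω) ∈ T → Ψ y = y) ∧
      ∀ c : centralizerIn S T,
        ModT T ((γ (Subgroup.inclusion le_sup_right c) : ↥(R ⊔ centralizerIn S T)) : Ω)
          ((Ψ (Subgroup.inclusion le_sup_right c) : ↥(T ⊔ centralizerIn S T)) : Ω) :=
  claimZ_aux hS hF hT _ R hR rfl γ hγ hcop hγR

end

end Cfsg.Agent.Lib.Helper27.WN
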