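import Mathlib
import Cfsg.Agent.Lib.Helper27.WNE
import Cfsg.Agent.Lib.Helper27.FusionCentric
import Cfsg.Agent.H26.LeastNormal

set_option autoImplicit false

/-! Good automorphisms: `p`-power order automorphisms in a weakly normal subsystem are good. -/

namespace Cfsg.Agent.Lib.Helper27.WN

open Cfsg Cfsg.FusionSystem Cfsg.Agent.Lib.Helper27 Cfsg.Agent.H26

variable {Ω : Type*} [Group Ω] {S T : Subgroup Ω}

section

variable [Finite S] {p : ℕ} [Fact p.Prime] {F : FusionSystem S}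

/-- an isomorphism of the system onto a receptive subgroup of `T` extends to `R C_S(T)` -/
theorem exists_iso_ext (hS : IsPGroup p S) (hF : F.IsSaturated p) (hT : F.StronglyClosed T)
    {R R₀ : Subgroup Ω} (hR : TCentric F T R) {e : R ≃* R₀} (he : IsIso F e) (hrec : F.IsReceptive R₀) :
    ∃ ê : ↥(R ⊔ centralizerIn S T) ≃* ↥(R₀ ⊔ centralizerIn S T), IsIso F ê ∧
      ∀ x : R, ((ê (Subgroup.inclusion le_sup_left x) : ↥(R₀ ⊔ centralizerIn S T)) : Ω) =
        ((e x : R₀) : Ω) := by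
  obtain ⟨ψ, hψ, hψe⟩ := receptive_exists_extension hrec he
  have hRT := hR.1
  have hle : R ⊔ centralizerIn S T ≤ extender S R (R₀.subtype.comp e.toMonoidHom) := by
    apply sup_le (le_extender_of_isIso he)
    refine le_trans ?_ (centralizerIn_le_extender _)
    intro c hc
    rw [mem_centralizerIn_iff] at hc ⊢
    exact ⟨hc.1, fun x hx => hc.2 x (hRT hx)⟩
  have hψ' := hom_restrict F hle hψ
  have hψ'R : ∀ x : R, (ψ.comp (Subgroup.inclusion hle)) (Subgroup.inclusion le_sup_left x) =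
      ((e x : R₀) : Ω) := fun x => hψe x x.2 _
  have hR₀ : TCentric F T R₀ := hR.conj hT ((isConj_iff F).mpr ⟨e, he⟩)
  have hr : (ψ.comp (Subgroup.inclusion hle)).range = R₀ ⊔ centralizerIn S T := by
    apply range_eq_sup hS hF hT hRT hψ' R₀
    · intro x; rw [hψ'R]; exact (e x).2
    · intro z hz
      refine ⟨e.symm ⟨z, hz⟩, ?_⟩
      rw [hψ'R, MulEquiv.apply_symm_apply]
    · intro t ht hc
      apply hR₀.cen hT
      rw [mem_centralizerIn_iff]
      refine ⟨ht, fun z hz => ?_⟩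
      have := hc (e.symm ⟨z, hz⟩)
      rw [hψ'R, MulEquiv.apply_symm_apply] at this
      exact this.symm
  obtain ⟨ê, hê, h1⟩ := exists_isIso_of_hom F hψ' hr
  exact ⟨ê, hê, fun x => by rw [h1, hψ'R]⟩

omit [Fact p.Prime] in
/-- transporting an automorphism of `R₀ C_S(T)` trivial on `C_S(T)` modulo `T` -/
theorem good_of_transport (hT : F.StronglyClosed T) {R R₀ : Subgroup Ω} (hR₀T : R₀ ≤ T)
    {ê : ↥(R ⊔ centralizerIn S T) ≃* ↥(R₀ ⊔ centralizerIn S T)} (hê : IsIso F ê)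
    {ĝ : ↥(R₀ ⊔ centralizerIn S T) ≃* ↥(R₀ ⊔ centralizerIn S T)} (hĝ : IsIso F ĝ)
    (hĝC : ∀ c : centralizerIn S T, ModT T (c : Ω)
      ((ĝ (Subgroup.inclusion le_sup_right c) : ↥(R₀ ⊔ centralizerIn S T)) : Ω))
    {φ : R →* Ω} (hφ : ∀ x : R, φ x =
      ((ê.symm (ĝ (ê (Subgroup.inclusion le_sup_left x))) : ↥(R ⊔ centralizerIn S T)) : Ω)) :
    Good F T φ := by
  refine ⟨(Subgroup.subtype _).comp (ê.trans (ĝ.trans ê.symm)).toMonoidHom,
    hê.trans (hĝ.trans hê.symm), fun x => (hφ x).symm, fun c => ?_⟩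
  show ModT T (c : Ω) ((ê.symm (ĝ (ê (Subgroup.inclusion le_sup_right c))) :
    ↥(R ⊔ centralizerIn S T)) : Ω)
  have h1 : TrivC S T ((Subgroup.subtype _).comp (ĝ : ↥(R₀ ⊔ centralizerIn S T) ≃* _).toMonoidHom) := hĝC
  have h2 := TrivC.modT hT hR₀T hĝ h1 (ê (Subgroup.inclusion le_sup_right c))
  have h3 := ModT.map ((Subgroup.subtype _).comp (ê.symm : ↥(R₀ ⊔ centralizerIn S T) ≃* _).toMonoidHom)
    (fun y hy => hom_mem_T hT hê.symm y hy) h2
  have h4 : ((ê.symm (ê (Subgroup.inclusion le_sup_right c)) : ↥(R ⊔ centralizerIn S T)) : Ω) =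
      (c : Ω) := by rw [MulEquiv.symm_apply_apply]; rfl
  rw [← h4]
  exact h3

/-- a subgroup of `T` fully normalized in `F` is fully normalized in every subsystem over `T` -/
theorem fullyNormalized_sub (hS : IsPGroup p S) (hF : F.IsSaturated p) (hT : F.StronglyClosed T)
    {E : FusionSystem T} (hEF : E.IsSubsystemOf F) {P : Subgroup Ω} (hPT : P ≤ T)
    (hfn : F.IsFullyNormalized P) : E.IsFullyNormalized P := by
  refine ⟨hPT, fun Q hQ => ?_⟩
  obtain ⟨φ₀, hφ₀, hr₀⟩ := hQ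
  have hPQ : F.IsConj P Q := ⟨φ₀, hEF P hφ₀, hr₀⟩
  have hQT : Q ≤ T := by
    rw [← hr₀]
    rintro _ ⟨x, rfl⟩
    exact (E.le_of_mem hφ₀).2 x
  have hQS : Q ≤ S := hQT.trans hT.1
  obtain ⟨φ, hφ, χ, hχ, hφχ⟩ := exists_hom_normalizerIn_of_fullyNormalized hS hF hfn (isConj_symm F hPQ)
  haveI : Finite P := finite_of_le hfn.1
  haveI : Finite ↥(normalizerIn T P) := finite_of_le ((normalizerIn_le_S T P).trans hT.1)
  have hle : normalizerIn T Q ≤ normalizerIn S Q := fun y hy => ⟨hT.1 hy.1, hy.2⟩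
  have hmem : ∀ y : normalizerIn T Q, φ (Subgroup.inclusion hle y) ∈ normalizerIn T P := by
    intro y
    have h1 := hom_normalizerIn_mem_normalizerIn hQS hφ (χ := χ) (fun x => hφχ x x.2 _)
      (Subgroup.inclusion hle y)
    exact ⟨hom_mem_T hT hφ _ y.2.1, h1.2⟩
  apply Nat.card_le_card_of_injective (fun y : normalizerIn T Q =>
    (⟨φ (Subgroup.inclusion hle y), hmem y⟩ : normalizerIn T P))
  intro y y' h
  have h1 : φ (Subgroup.inclusion hle y) = φ (Subgroup.inclusion hle y') := congrArg Subtype.val h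
  have h2 := F.injective_of_mem hφ h1
  exact Subtype.ext (congrArg (fun z : normalizerIn S Q => (z : Ω)) h2)

/-- **`p`-power order automorphisms are good**: for `E` weakly normal in `F` over `T` and `P ≤ T` all of whose
`F`-conjugates contain their centralizer in `T`, the elements of `p`-power order of `Aut_E(P)` are good. -/
theorem good_of_pPower (hS : IsPGroup p S) (hF : F.IsSaturated p) {E : FusionSystem T}
    (hE : E.IsWeaklyNormalIn F p) {P : Subgroup Ω} (hP : TCentric F T P)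
    {γ : MulAut P} (hγ : γ ∈ E.autGroup P) {k : ℕ} (hk : orderOf γ = p ^ k) :
    Good F T (P.subtype.comp (γ : P ≃* P).toMonoidHom) := by
  obtain ⟨hEsat, -, hEF, hTsc, hInvE, hFratE⟩ := hE
  have hTS : T ≤ S := hTsc.1
  haveI : Finite T := finite_of_le hTS
  have hT : IsPGroup p T := hS.of_injective (Subgroup.inclusion hTS) (Subgroup.inclusion_injective hTS)
  have hSI : StrongInv E F := strongInv_of_invariant hInvE hFratE
  have hTn := le_normalizer_of_stronglyClosed hTsc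
  have hPT := hP.1
  have hPS : P ≤ S := hPT.trans hTS
  obtain ⟨P₀, hPP₀, hfn⟩ := exists_fullyNormalized_conj F hPS
  obtain ⟨e₀, he₀⟩ := (isConj_iff F).mp hPP₀
  have hP₀ : TCentric F T P₀ := hP.conj hTsc hPP₀
  have hP₀T := hP₀.1
  haveI : Finite P₀ := finite_of_le (hP₀T.trans hTS)
  haveI : Finite (MulAut P₀) := inferInstance
  have hfnE : E.IsFullyNormalized P₀ := fullyNormalized_sub hS hF hTsc hEF hP₀T hfn
  obtain ⟨⟨-, Rs, hRs⟩, -, -⟩ := fa_receptive_of_fullyNormalized hT hEsat hfnE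
  obtain ⟨-, hrec, -⟩ := fa_receptive_of_fullyNormalized hS hF hfn
  have hγ₀ : MulAut.congr e₀ γ ∈ E.autGroup P₀ := (StrongInv.congr_mem hSI hPT e₀ he₀ hγ).2
  have hXp : IsPGroup p (Subgroup.zpowers (⟨_, hγ₀⟩ : E.autGroup P₀)) := by
    apply IsPGroup.of_card (n := k)
    rw [Nat.card_zpowers, Subgroup.orderOf_mk, MulEquiv.orderOf_eq]
    exact hk
  obtain ⟨b, -, hb⟩ := exists_conj_mem_sylow_of_le_normal ⊤ Rs _ le_top hXp
  have h1 := hb _ (Subgroup.mem_zpowers _)
  rw [hRs, Subgroup.mem_subgroupOf] at h1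
  have h1' : (b : MulAut P₀) * MulAut.congr e₀ γ * (b : MulAut P₀)⁻¹ ∈ autInducedBy T P₀ := h1
  rw [mem_autInducedBy_iff] at h1'
  obtain ⟨t, htT, ht⟩ := h1'
  have htN : t ∈ normalizerIn T P₀ := by
    refine ⟨htT, mem_normalizer_of_conj_mem (fun y hy => ?_)⟩
    rw [← ht ⟨y, hy⟩]
    exact Subtype.property _
  have hbF : (b : MulAut P₀) ∈ F.autGroup P₀ := autGroup_le_autGroup_of_subsystem hEF hP₀T hTS b.2
  have hbiso := (mem_autGroup_iff F (hP₀T.trans hTS) _).mp hbF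
  have he : IsIso F (e₀.trans (b : MulAut P₀)) := he₀.trans hbiso
  obtain ⟨ê, hê, hêe⟩ := exists_iso_ext hS hF hTsc hP he hrec
  have hY₀S : P₀ ⊔ centralizerIn S T ≤ S := sup_le_S (hP₀T.trans hTS)
  have htNN := normalizerIn_le_normalizerIn_sup hTsc hP₀T htN
  have hĝS : conjAutHom S (P₀ ⊔ centralizerIn S T) ⟨t, htNN⟩ ∈ autInducedBy S (P₀ ⊔ centralizerIn S T) := by
    rw [← conjAutHom_range]; exact ⟨_, rfl⟩
  have hĝiso := (mem_autGroup_iff F hY₀S _).mp (autInducedBy_le_autGroup F hY₀S hĝS)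
  refine good_of_transport hTsc hP₀T hê hĝiso (fun c => ?_) (fun x => ?_)
  · show ModT T (c : Ω) (t * (c : Ω) * t⁻¹)
    exact modT_conj hTn htT (centralizerIn_le_S S T c.2)
  · have h2 : ê (Subgroup.inclusion le_sup_left (γ x)) =
        conjAutHom S (P₀ ⊔ centralizerIn S T) ⟨t, htNN⟩ (ê (Subgroup.inclusion le_sup_left x)) := by
      apply Subtype.ext
      rw [hêe]
      show _ = t * ((ê (Subgroup.inclusion le_sup_left x) : ↥(P₀ ⊔ centralizerIn S T)) : Ω) * t⁻¹
      rw [hêe]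
      have h3 := ht ((e₀.trans (b : MulAut P₀)) x)
      rw [← h3]
      show (((b : MulAut P₀) (e₀ (γ x)) : P₀) : Ω) = _
      simp [MulAut.congr]
    show ((γ x : P) : Ω) = _
    rw [← h2, MulEquiv.symm_apply_apply]
    rfl

end

end Cfsg.Agent.Lib.Helper27.WN
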