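import Mathlib
import Cfsg.Agent.Lib.Helper27.WNF

set_option autoImplicit false

/-! The system of good maps; the maps of `O^{p'}_*(E)` between centric subgroups are good. -/

namespace Cfsg.Agent.Lib.Helper27.WN

open Cfsg Cfsg.FusionSystem Cfsg.Agent.Lib.Helper27 Cfsg.Agent.H26

variable {Ω : Type*} [Group Ω] {S T : Subgroup Ω}

/-- centric subgroups of an `F`-Frattini subsystem over `T`: all their `F`-conjugates contain their centralizer
in `T` -/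
theorem tcentric_of_isCentric {E : FusionSystem T} {F : FusionSystem S}
    (hfr : ∀ (U : Subgroup Ω), U ≤ T → ∀ (φ : U →* Ω), φ ∈ F.Hom U → FratAt E F U φ)
    {P : Subgroup Ω} (hP : E.IsCentric P) : TCentric F T P := by
  obtain ⟨hPT, hc⟩ := hP
  refine ⟨hPT, ?_⟩
  rintro Q ⟨φ, hφ, rfl⟩ g hg
  obtain ⟨α, -, φ₀, hφ₀, e⟩ := hfr P hPT φ hφ
  have hφ₀T : ∀ x : P, φ₀ x ∈ T := (E.le_of_mem hφ₀).2
  have e' : ∀ x : P, φ x = ((α ⟨φ₀ x, hφ₀T x⟩ : T) : Ω) := fun x => e x (hφ₀T x)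
  rw [mem_centralizerIn_iff] at hg
  obtain ⟨hgT, hgc⟩ := hg
  have hg₀ : ((α⁻¹ ⟨g, hgT⟩ : T) : Ω) ∈ centralizerIn T φ₀.range := by
    rw [mem_centralizerIn_iff]
    refine ⟨(α⁻¹ ⟨g, hgT⟩ : T).2, ?_⟩
    rintro _ ⟨x, rfl⟩
    have h1 := hgc (φ x) ⟨x, rfl⟩
    have h2 : α (⟨φ₀ x, hφ₀T x⟩ * α⁻¹ ⟨g, hgT⟩) = α (α⁻¹ ⟨g, hgT⟩ * ⟨φ₀ x, hφ₀T x⟩) := by
      apply Subtype.ext
      rw [map_mul, map_mul, MulAut.apply_inv_self]
      show ((α ⟨φ₀ x, hφ₀T x⟩ : T) : Ω) * g = g * ((α ⟨φ₀ x, hφ₀T x⟩ : T) : Ω)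
      rw [← e']
      exact h1
    exact congrArg (fun z : T => (z : Ω)) (α.injective h2)
  obtain ⟨x₀, hx₀⟩ := hc φ₀.range ⟨φ₀, hφ₀, rfl⟩ hg₀
  refine ⟨x₀, ?_⟩
  rw [e']
  have : (⟨φ₀ x₀, hφ₀T x₀⟩ : T) = α⁻¹ ⟨g, hgT⟩ := Subtype.ext hx₀
  rw [this, MulAut.apply_inv_self]

/-- conversely -/
theorem isCentric_of_tcentric {E : FusionSystem T} {F : FusionSystem S} (hEF : E.IsSubsystemOf F)
    {P : Subgroup Ω} (hP : TCentric F T P) : E.IsCentric P :=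
  ⟨hP.1, fun Q ⟨φ, hφ, hr⟩ => hP.2 Q ⟨φ, hEF P hφ, hr⟩⟩

section

variable [Finite S] {p : ℕ} [Fact p.Prime] {F : FusionSystem S}

/-- the system over `T` of the maps of `E` which are good when their source is centric in `E` -/
def goodSys (hS : IsPGroup p S) (hF : F.IsSaturated p) (E : FusionSystem T) (hT : F.StronglyClosed T) :
    FusionSystem T where
  Hom P := {φ | φ ∈ E.Hom P ∧ (E.IsCentric P → Good F T φ)}
  le_of_mem h := E.le_of_mem h.1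
  injective_of_mem h := E.injective_of_mem h.1
  conj_mem := fun hP hg => ⟨E.conj_mem hP hg, fun _ => good_conj hT.1 hP hg⟩
  comp_mem := by
    intro P Q φ ψ hφ hψ h
    refine ⟨E.comp_mem hφ.1 hψ.1 h, fun hPc => ?_⟩
    have hPT := hPc.1
    have hQT : Q ≤ T := (E.le_of_mem hψ.1).1
    have hrT : φ.range ≤ T := by
      rintro _ ⟨x, rfl⟩
      exact (E.le_of_mem hφ.1).2 x
    have hrQ : φ.range ≤ Q := by
      rintro _ ⟨x, rfl⟩
      exact h x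
    have hrc : E.IsCentric φ.range := isCentric_of_isConj hPc ⟨φ, hφ.1, rfl⟩
    have hQc : E.IsCentric Q := isCentric_of_le hrc hrQ hQT
    refine good_comp hS hF hT hPT hQT (hφ.2 hPc) (hψ.2 hQc) h (fun t ht hc => ?_)
    apply hrQ
    apply hrc.2 φ.range (isConj_refl E hrT)
    rw [mem_centralizerIn_iff]
    refine ⟨ht, ?_⟩
    rintro _ ⟨x, rfl⟩
    exact (hc x).symm
  inv_mem := by
    intro P φ hφ
    obtain ⟨θ, hθ, hθinv⟩ := E.inv_mem hφ.1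
    refine ⟨θ, ⟨hθ, fun hrc => ?_⟩, hθinv⟩
    have hrT : φ.range ≤ T := hrc.1
    have hPc : E.IsCentric P := isCentric_of_isConj hrc (isConj_symm E ⟨φ, hφ.1, rfl⟩)
    refine good_inv hS hF hT hPc.1 (hφ.2 hPc) (fun t ht hc => ?_) hθinv
    apply hrc.2 φ.range (isConj_refl E hrT)
    rw [mem_centralizerIn_iff]
    refine ⟨ht, ?_⟩
    rintro _ ⟨x, rfl⟩
    exact (hc x).symm

/-- the maps of `O^{p'}_*(E)` with centric source are good -/
theorem good_of_oppSys (hS : IsPGroup p S) (hF : F.IsSaturated p) {E : FusionSystem T}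
    (hE : E.IsWeaklyNormalIn F p) {P : Subgroup Ω} (hPc : E.IsCentric P) {φ : P →* Ω}
    (hφ : φ ∈ (oppSys E p).Hom P) : Good F T φ := by
  have hTsc := hE.2.2.2.1
  have hFrat := hE.2.2.2.2.2
  have h1 : (oppSys E p).Hom P ⊆ (goodSys hS hF E hTsc).Hom P := by
    apply oppSys_le_of E p
    intro Q hQT
    rw [Subgroup.map_le_iff_le_comap, Subgroup.closure_le]
    rintro γ ⟨k, hk⟩
    show (γ : MulAut Q) ∈ (goodSys hS hF E hTsc).autGroup Q
    rw [mem_autGroup_iff _ hQT]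
    exact ⟨(mem_autGroup_iff E hQT _).mp γ.2, fun hQc =>
      good_of_pPower hS hF hE (tcentric_of_isCentric hFrat hQc) γ.2
        (by rw [Subgroup.orderOf_coe]; exact hk)⟩
  exact (h1 hφ).2 hPc

end

end Cfsg.Agent.Lib.Helper27.WN
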