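import Mathlib
import Cfsg.Agent.Lib.Helper27.WNG

set_option autoImplicit false

/-! The automorphisms of `T` in `Aut⁰_E(T)` satisfy the extension condition. -/

namespace Cfsg.Agent.Lib.Helper27.WN

open Cfsg Cfsg.FusionSystem Cfsg.Agent.Lib.Helper27 Cfsg.Agent.H26

variable {Ω : Type*} [Group Ω] {S T : Subgroup Ω}

/-- the extension condition, stated modulo `T` -/
theorem mem_extAut_of_modT {F : FusionSystem S} (hTS : T ≤ S) {α : MulAut T}
    {β : MulAut ↥(T ⊔ centralizerIn S T)} (hβ : β ∈ F.autGroup (T ⊔ centralizerIn S T))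
    (h1 : ∀ x : T, ((β (Subgroup.inclusion le_sup_left x) : ↥(T ⊔ centralizerIn S T)) : Ω) = ((α x : T) : Ω))
    (h2 : ∀ c : centralizerIn S T, ModT T (c : Ω)
      ((β (Subgroup.inclusion le_sup_right c) : ↥(T ⊔ centralizerIn S T)) : Ω)) :
    α ∈ extAut F T hTS := by
  refine ⟨β, hβ, h1, fun c hc => ?_⟩
  have h3 := ext_maps_centralizer hTS h1 c hc
  have h4 := h2 ⟨c, hc⟩
  have h5 : Subgroup.inclusion (le_sup_right : centralizerIn S T ≤ T ⊔ centralizerIn S T) ⟨(c : Ω), hc⟩ = c :=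
    Subtype.ext rfl
  rw [h5] at h4
  exact Subgroup.mem_inf.mpr ⟨h4, Subgroup.mul_mem _ (Subgroup.inv_mem _ hc.2) h3.2⟩

theorem exists_of_mem_extAut {F : FusionSystem S} (hTS : T ≤ S) {α : MulAut T}
    (hα : α ∈ extAut F T hTS) :
    ∃ β : MulAut ↥(T ⊔ centralizerIn S T), β ∈ F.autGroup (T ⊔ centralizerIn S T) ∧
      (∀ x : T, ((β (Subgroup.inclusion le_sup_left x) : ↥(T ⊔ centralizerIn S T)) : Ω) = ((α x : T) : Ω)) ∧
      ∀ c : centralizerIn S T, ModT T (c : Ω)
        ((β (Subgroup.inclusion le_sup_right c) : ↥(T ⊔ centralizerIn S T)) : Ω) := by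
  obtain ⟨β, hβ, h1, h2⟩ := hα
  exact ⟨β, hβ, h1, fun c => (Subgroup.mem_inf.mp (h2 (Subgroup.inclusion le_sup_right c) c.2)).1⟩

section

variable [Finite S] {p : ℕ} [Fact p.Prime] {F : FusionSystem S}

/-- the automorphisms with the extension condition are normalized by `Aut_F(T)` -/
theorem extAut_conj_mem (hS : IsPGroup p S) (hF : F.IsSaturated p) (hT : F.StronglyClosed T)
    {a β : MulAut T} (ha : a ∈ F.autGroup T) (hβ : β ∈ extAut F T hT.1) :
    a * β * a⁻¹ ∈ extAut F T hT.1 := by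
  have hTS := hT.1
  have hDS : T ⊔ centralizerIn S T ≤ S := sup_le_S hTS
  obtain ⟨β', hβ', h1, h2⟩ := exists_of_mem_extAut hTS hβ
  obtain ⟨a', ha', ha'a⟩ := exists_aut_ext hS hF hT ((mem_autGroup_iff F hTS a).mp ha)
  have ha'A : (a' : MulAut ↥(T ⊔ centralizerIn S T)) ∈ F.autGroup (T ⊔ centralizerIn S T) :=
    (mem_autGroup_iff F hDS _).mpr ha'
  have ha'incl : ∀ x : T, (a' : MulAut ↥(T ⊔ centralizerIn S T)) (Subgroup.inclusion le_sup_left x) =
      Subgroup.inclusion le_sup_left (a x) := fun x => Subtype.ext (ha'a x)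
  have ha'inv : ∀ x : T, (a' : MulAut ↥(T ⊔ centralizerIn S T))⁻¹ (Subgroup.inclusion le_sup_left x) =
      Subgroup.inclusion le_sup_left (a⁻¹ x) := by
    intro x
    have := ha'incl (a⁻¹ x)
    rw [MulAut.apply_inv_self] at this
    rw [← this, MulAut.inv_apply_self]
  have hβ'incl : ∀ x : T, β' (Subgroup.inclusion le_sup_left x) =
      Subgroup.inclusion le_sup_left (β x) := fun x => Subtype.ext (h1 x)
  refine mem_extAut_of_modT hTS (β := (a' : MulAut ↥(T ⊔ centralizerIn S T)) * β' *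
    (a' : MulAut ↥(T ⊔ centralizerIn S T))⁻¹)
    (Subgroup.mul_mem _ (Subgroup.mul_mem _ ha'A hβ') (Subgroup.inv_mem _ ha'A)) (fun x => ?_) (fun c => ?_)
  · simp only [MulAut.mul_apply]
    rw [ha'inv, hβ'incl, ha'incl]
    rfl
  · simp only [MulAut.mul_apply]
    have hc' : ((((a' : MulAut ↥(T ⊔ centralizerIn S T))⁻¹ (Subgroup.inclusion le_sup_right c) :
        ↥(T ⊔ centralizerIn S T))) : Ω) ∈ centralizerIn S T := aut_mem_C hT ha'.symm _ c.2
    obtain ⟨c', hc'def⟩ : ∃ c' : centralizerIn S T, Subgroup.inclusion le_sup_right c' =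
        (a' : MulAut ↥(T ⊔ centralizerIn S T))⁻¹ (Subgroup.inclusion le_sup_right c) :=
      ⟨⟨_, hc'⟩, Subtype.ext rfl⟩
    rw [← hc'def]
    have e1 : ModT T ((Subgroup.inclusion (le_sup_right : centralizerIn S T ≤ T ⊔ centralizerIn S T) c' :
        ↥(T ⊔ centralizerIn S T)) : Ω) ((β' (Subgroup.inclusion le_sup_right c') :
        ↥(T ⊔ centralizerIn S T)) : Ω) := h2 c'
    have e2 := ModT.map ((Subgroup.subtype _).comp
      ((a' : MulAut ↥(T ⊔ centralizerIn S T)) : ↥(T ⊔ centralizerIn S T) ≃* _).toMonoidHom)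
      (fun y hy => aut_mem_T hT ha' y hy) e1
    have e3 : ((a' : MulAut ↥(T ⊔ centralizerIn S T)) (Subgroup.inclusion le_sup_right c') :
        ↥(T ⊔ centralizerIn S T)) = Subgroup.inclusion le_sup_right c := by
      rw [hc'def, MulAut.apply_inv_self]
    have e4 : ModT T (((a' : MulAut ↥(T ⊔ centralizerIn S T)) (Subgroup.inclusion le_sup_right c') :
        ↥(T ⊔ centralizerIn S T)) : Ω) ((a' (β' (Subgroup.inclusion le_sup_right c')) :
        ↥(T ⊔ centralizerIn S T)) : Ω) := e2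
    rw [e3] at e4
    exact e4

/-- inner automorphisms of `T` satisfy the extension condition -/
theorem autInducedBy_le_extAut (hT : F.StronglyClosed T) : autInducedBy T T ≤ extAut F T hT.1 := by
  intro α hα
  rw [mem_autInducedBy_iff] at hα
  obtain ⟨g, hg, hα⟩ := hα
  have hTS := hT.1
  have hDS : T ⊔ centralizerIn S T ≤ S := sup_le_S hTS
  have hgN : g ∈ normalizerIn S (T ⊔ centralizerIn S T) :=
    le_normalizerIn hDS (Subgroup.mem_sup_left hg)
  have hcS : conjAutHom S (T ⊔ centralizerIn S T) ⟨g, hgN⟩ ∈ autInducedBy S (T ⊔ centralizerIn S T) := by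
    rw [← conjAutHom_range]; exact ⟨_, rfl⟩
  refine mem_extAut_of_modT hTS (autInducedBy_le_autGroup F hDS hcS) (fun x => ?_) (fun c => ?_)
  · rw [hα]; rfl
  · exact modT_conj (le_normalizer_of_stronglyClosed hT) hg (centralizerIn_le_S S T c.2)

end

end Cfsg.Agent.Lib.Helper27.WN
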