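import Mathlib
import Cfsg.Agent.Lib.Helper27.WNH

set_option autoImplicit false

/-! Automorphisms of `T` with a good restriction to a centric subgroup: a `p`-power of them satisfies the
extension condition. -/

namespace Cfsg.Agent.Lib.Helper27.WN

open Cfsg Cfsg.FusionSystem Cfsg.Agent.Lib.Helper27 Cfsg.Agent.H26

variable {Ω : Type*} [Group Ω] {S T : Subgroup Ω}

theorem pow_apply_of_fixed {G : Type*} [Group G] (γ : MulAut G) {x : G} (h : γ x = x) (j : ℕ) :
    (γ ^ j) x = x := by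
  induction j with
  | zero => rfl
  | succ j ih => rw [pow_succ, MulAut.mul_apply, h, ih]

section

variable [Finite S] {p : ℕ} [Fact p.Prime] {F : FusionSystem S}

theorem exists_pow_mem_extAut (hS : IsPGroup p S) (hF : F.IsSaturated p) (hT : F.StronglyClosed T)
    {α : MulAut T} (hα : α ∈ F.autGroup T) {P : Subgroup Ω} (hP : TCentric F T P)
    (hgood : Good F T (resAut α hP.1)) : ∃ k : ℕ, α ^ (p ^ k) ∈ extAut F T hT.1 := by
  have hTS := hT.1
  have hPT := hP.1
  have hDS : T ⊔ centralizerIn S T ≤ S := sup_le_S hTS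
  have hYS : P ⊔ centralizerIn S T ≤ S := sup_le_S (hPT.trans hTS)
  haveI : Finite ↥(P ⊔ centralizerIn S T) := finite_of_le hYS
  haveI : Finite (MulAut ↥(P ⊔ centralizerIn S T)) := inferInstance
  obtain ⟨φ', hφ', hφ'P, hφ'C⟩ := hgood
  obtain ⟨α', hα', hα'α⟩ := exists_aut_ext hS hF hT ((mem_autGroup_iff F hTS α).mp hα)
  have hα'A : (α' : MulAut ↥(T ⊔ centralizerIn S T)) ∈ F.autGroup (T ⊔ centralizerIn S T) :=
    (mem_autGroup_iff F hDS _).mpr hα'
  have hρ := hom_restrict F (sup_le_sup_C hPT) hα'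
  set ρ : ↥(P ⊔ centralizerIn S T) →* Ω := ((T ⊔ centralizerIn S T).subtype.comp
    (α' : ↥(T ⊔ centralizerIn S T) ≃* ↥(T ⊔ centralizerIn S T)).toMonoidHom).comp
    (Subgroup.inclusion (sup_le_sup_C hPT)) with hρdef
  have hρapp : ∀ y : ↥(P ⊔ centralizerIn S T), ρ y =
      ((α' (Subgroup.inclusion (sup_le_sup_C hPT) y) : ↥(T ⊔ centralizerIn S T)) : Ω) := fun y => rfl
  have hρP : ∀ x : P, ρ (Subgroup.inclusion le_sup_left x) = φ' (Subgroup.inclusion le_sup_left x) := by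
    intro x
    rw [hφ'P, hρapp]
    have : Subgroup.inclusion (sup_le_sup_C hPT) (Subgroup.inclusion le_sup_left x) =
        Subgroup.inclusion (le_sup_left : T ≤ T ⊔ centralizerIn S T) ⟨x, hPT x.2⟩ := Subtype.ext rfl
    rw [this, hα'α]
    rfl
  obtain ⟨P', hP'def⟩ : ∃ P' : Subgroup Ω,
      P' = (φ'.comp (Subgroup.inclusion (le_sup_left : P ≤ P ⊔ centralizerIn S T))).range := ⟨_, rfl⟩
  have hP' : TCentric F T P' := hP.conj hT ⟨_, hom_restrict F le_sup_left hφ', hP'def.symm⟩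
  have hP'mem : ∀ x : P, φ' (Subgroup.inclusion le_sup_left x) ∈ P' := by
    intro x; rw [hP'def]; exact ⟨x, rfl⟩
  have hP'surj : ∀ z ∈ P', ∃ x : P, φ' (Subgroup.inclusion le_sup_left x) = z := by
    intro z hz; rw [hP'def] at hz; obtain ⟨x, hx⟩ := hz; exact ⟨x, hx⟩
  have hP'cen : ∀ t ∈ T, (∀ x : P, t * φ' (Subgroup.inclusion le_sup_left x) =
      φ' (Subgroup.inclusion le_sup_left x) * t) → t ∈ P' := by
    intro t ht hc
    apply hP'.cen hT
    rw [mem_centralizerIn_iff]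
    refine ⟨ht, fun z hz => ?_⟩
    obtain ⟨x, rfl⟩ := hP'surj z hz
    exact (hc x).symm
  have hr1 : φ'.range = P' ⊔ centralizerIn S T :=
    range_eq_sup hS hF hT hPT hφ' P' hP'mem hP'surj hP'cen
  have hr2 : ρ.range = P' ⊔ centralizerIn S T := by
    apply range_eq_sup hS hF hT hPT hρ P'
    · intro x; rw [hρP]; exact hP'mem x
    · intro z hz
      obtain ⟨x, hx⟩ := hP'surj z hz
      exact ⟨x, by rw [hρP, hx]⟩
    · intro t ht hc
      exact hP'cen t ht (fun x => by rw [← hρP]; exact hc x)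
  obtain ⟨γ, hγ, hγeq⟩ := exists_aut_of_range_eq F hφ' hρ (hr1.trans hr2.symm)
  have hγA : (γ : MulAut ↥(P ⊔ centralizerIn S T)) ∈ F.autGroup (P ⊔ centralizerIn S T) :=
    (mem_autGroup_iff F hYS _).mpr hγ
  have hγP : ∀ y : ↥(P ⊔ centralizerIn S T), (y : Ω) ∈ P →
      (γ : MulAut ↥(P ⊔ centralizerIn S T)) y = y := by
    intro y hy
    apply F.injective_of_mem hφ'
    have h1 : y = Subgroup.inclusion le_sup_left (⟨y, hy⟩ : P) := Subtype.ext rfl
    show φ' (γ y) = φ' y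
    rw [hγeq]
    rw [h1, hρP]
  have hmod : ∀ y : ↥(P ⊔ centralizerIn S T), ModT T ((γ y : ↥(P ⊔ centralizerIn S T)) : Ω) (ρ y) := by
    intro y
    rw [← hγeq]
    exact TrivC.modT hT hPT hφ' hφ'C (γ y)
  -- powers
  have hpow : ∀ (j : ℕ) (y : ↥(P ⊔ centralizerIn S T)),
      ModT T ((((γ : MulAut ↥(P ⊔ centralizerIn S T)) ^ j) y : ↥(P ⊔ centralizerIn S T)) : Ω)
        ((((α' : MulAut ↥(T ⊔ centralizerIn S T)) ^ j) (Subgroup.inclusion (sup_le_sup_C hPT) y) :
          ↥(T ⊔ centralizerIn S T)) : Ω) := by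
    intro j
    induction j with
    | zero => intro y; exact ModT.refl _ _
    | succ j ih =>
      intro y
      rw [pow_succ', pow_succ', MulAut.mul_apply, MulAut.mul_apply]
      have e1 := hmod (((γ : MulAut ↥(P ⊔ centralizerIn S T)) ^ j) y)
      rw [hρapp] at e1
      have ih' : ModT T ((Subgroup.inclusion (sup_le_sup_C hPT)
          (((γ : MulAut ↥(P ⊔ centralizerIn S T)) ^ j) y) : ↥(T ⊔ centralizerIn S T)) : Ω)
        ((((α' : MulAut ↥(T ⊔ centralizerIn S T)) ^ j) (Subgroup.inclusion (sup_le_sup_C hPT) y) :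
          ↥(T ⊔ centralizerIn S T)) : Ω) := ih y
      have e2 := ModT.map ((Subgroup.subtype _).comp
        ((α' : MulAut ↥(T ⊔ centralizerIn S T)) : ↥(T ⊔ centralizerIn S T) ≃* _).toMonoidHom)
        (fun y hy => aut_mem_T hT hα' y hy) ih'
      exact e1.trans e2
  -- the `p'`-part
  have hn0 : orderOf (γ : MulAut ↥(P ⊔ centralizerIn S T)) ≠ 0 := (orderOf_pos _).ne'
  obtain ⟨k, m, hm, hn⟩ := Nat.exists_eq_pow_mul_and_not_dvd hn0 p (Fact.out : p.Prime).ne_one
  have hcop : (orderOf ((γ : MulAut ↥(P ⊔ centralizerIn S T)) ^ (p ^ k))).Coprime p := by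
    have h1 : ((γ : MulAut ↥(P ⊔ centralizerIn S T)) ^ (p ^ k)) ^ m = 1 := by
      rw [← pow_mul, ← hn, pow_orderOf_eq_one]
    exact Nat.Coprime.coprime_dvd_left (orderOf_dvd_of_pow_eq_one h1)
      ((Nat.Prime.coprime_iff_not_dvd Fact.out).mpr hm).symm
  obtain ⟨Ψ, hΨA, hΨT, hΨC⟩ := claimZ hS hF hT hP (Subgroup.pow_mem _ hγA (p ^ k)) hcop
    (fun y hy => pow_apply_of_fixed _ (hγP y hy) _)
  have hΨiso := (mem_autGroup_iff F hDS _).mp hΨA
  have hΨinvT : ∀ y : ↥(T ⊔ centralizerIn S T), (y : Ω) ∈ T → Ψ⁻¹ y = y := by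
    intro y hy
    have h1 := hΨT y hy
    conv_lhs => rw [← h1]
    rw [MulAut.inv_apply_self]
  refine ⟨k, mem_extAut_of_modT hTS (β := Ψ⁻¹ * (α' : MulAut ↥(T ⊔ centralizerIn S T)) ^ (p ^ k))
    (Subgroup.mul_mem _ (Subgroup.inv_mem _ hΨA) (Subgroup.pow_mem _ hα'A _)) (fun x => ?_) (fun c => ?_)⟩
  · rw [MulAut.mul_apply]
    have h1 := pow_restrict (α := α) (Ψ := (α' : MulAut ↥(T ⊔ centralizerIn S T))) le_sup_left hα'α (p ^ k) x
    have h2 : (((α' : MulAut ↥(T ⊔ centralizerIn S T)) ^ (p ^ k)) (Subgroup.inclusion le_sup_left x) :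
        ↥(T ⊔ centralizerIn S T)) = Subgroup.inclusion le_sup_left ((α ^ (p ^ k)) x) := Subtype.ext h1
    rw [h2, hΨinvT _ ((α ^ (p ^ k)) x).2]
    rfl
  · rw [MulAut.mul_apply]
    have e1 := hΨC c
    have e2 := hpow (p ^ k) (Subgroup.inclusion le_sup_right c)
    have e3 := e1.symm.trans e2
    have e4 := ModT.map ((Subgroup.subtype _).comp
      ((Ψ⁻¹ : MulAut ↥(T ⊔ centralizerIn S T)) : ↥(T ⊔ centralizerIn S T) ≃* _).toMonoidHom)
      (fun y hy => aut_mem_T hT hΨiso.symm y hy) e3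
    have e5 : ((Ψ⁻¹ (Ψ (Subgroup.inclusion le_sup_right c)) : ↥(T ⊔ centralizerIn S T)) : Ω) = (c : Ω) := by
      rw [MulAut.inv_apply_self]; rfl
    rw [← e5]
    exact e4

/-- an element of `Aut_E(T)` a `p`-power of which satisfies the extension condition satisfies it -/
theorem mem_extAut_of_pow_mem (hS : IsPGroup p S) (hF : F.IsSaturated p) {E : FusionSystem T}
    (hE : E.IsWeaklyNormalIn F p) {α : MulAut T} (hα : α ∈ E.autGroup T) {k : ℕ}
    (hk : α ^ (p ^ k) ∈ extAut F T hE.2.2.2.1.1) : α ∈ extAut F T hE.2.2.2.1.1 := by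
  have hEsat := hE.1
  have hEF := hE.2.2.1
  have hTsc := hE.2.2.2.1
  have hTS : T ≤ S := hTsc.1
  haveI : Finite T := finite_of_le hTS
  have hT : IsPGroup p T := hS.of_injective (Subgroup.inclusion hTS) (Subgroup.inclusion_injective hTS)
  haveI : Finite (MulAut T) := inferInstance
  obtain ⟨⟨-, Rs, hRs⟩, -, -⟩ := fa_receptive_of_fullyNormalized hT hEsat (isFullyNormalized_self E)
  haveI hKn : ((extAut F T hTS).subgroupOf (E.autGroup T)).Normal := by
    refine ⟨fun n hn g => ?_⟩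
    rw [Subgroup.mem_subgroupOf] at hn ⊢
    have hgF : (g : MulAut T) ∈ F.autGroup T := autGroup_le_autGroup_of_subsystem hEF le_rfl hTS g.2
    exact extAut_conj_mem hS hF hTsc hgF hn
  have hle : (Rs : Subgroup (E.autGroup T)) ≤ (extAut F T hTS).subgroupOf (E.autGroup T) := by
    rw [hRs]
    intro x hx
    rw [Subgroup.mem_subgroupOf] at hx ⊢
    exact autInducedBy_le_extAut hTsc hx
  have hdvd := Subgroup.index_dvd_of_le hle
  have hnd : ¬ p ∣ ((extAut F T hTS).subgroupOf (E.autGroup T)).index :=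
    fun h => Rs.not_dvd_index (h.trans hdvd)
  have hcop : Nat.Coprime (p ^ k) ((extAut F T hTS).subgroupOf (E.autGroup T)).index :=
    Nat.Coprime.pow_left k ((Nat.Prime.coprime_iff_not_dvd Fact.out).mpr hnd)
  have h1 : (⟨α, hα⟩ : E.autGroup T) ^ (p ^ k) ∈ (extAut F T hTS).subgroupOf (E.autGroup T) := by
    rw [Subgroup.mem_subgroupOf]
    exact hk
  have h2 := Subgroup.pow_index_mem ((extAut F T hTS).subgroupOf (E.autGroup T)) (⟨α, hα⟩ : E.autGroup T)
  have h3 := mem_of_pow_mem_of_coprime _ hcop h1 h2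
  exact Subgroup.mem_subgroupOf.mp h3

/-- **`Aut⁰_E(T)` satisfies the extension condition** -/
theorem autZero_le_extAut (hS : IsPGroup p S) (hF : F.IsSaturated p) {E : FusionSystem T}
    (hE : E.IsWeaklyNormalIn F p) : autZero E p ≤ extAut F T hE.2.2.2.1.1 := by
  have hEF := hE.2.2.1
  have hTsc := hE.2.2.2.1
  have hFrat := hE.2.2.2.2.2
  have hTS : T ≤ S := hTsc.1
  unfold autZero
  rw [Subgroup.closure_le]
  rintro α ⟨hα, P, hP, hres⟩
  have hPt : TCentric F T P := tcentric_of_isCentric hFrat hP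
  have hgood : Good F T (resAut α hPt.1) := good_of_oppSys hS hF hE hP hres
  have hαF : α ∈ F.autGroup T := autGroup_le_autGroup_of_subsystem hEF le_rfl hTS hα
  obtain ⟨k, hk⟩ := exists_pow_mem_extAut hS hF hTsc hαF hPt hgood
  exact mem_extAut_of_pow_mem hS hF hE hα hk

end

end Cfsg.Agent.Lib.Helper27.WN
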