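import Cfsg.Agent.Lib.Helper27.ChiI

set_option autoImplicit false

namespace Cfsg.Agent.Lib.Helper27.Chi

open Cfsg Cfsg.FusionSystem Cfsg.Agent.Lib.Helper27 Cfsg.Agent.H26 Cfsg.Agent.Lib.Helper16

variable {Ω : Type*} [Group Ω] {S T : Subgroup Ω}

/-- The extension condition of normality for subsystems over `S` itself. -/
theorem ext_cond_top [Finite S] {F : FusionSystem S} {α : MulAut S} (hα : α ∈ F.autGroup S) :
    ∃ β ∈ F.autGroup (S ⊔ centralizerIn S S),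
      (∀ x : S, ((β (Subgroup.inclusion le_sup_left x) : ↥(S ⊔ centralizerIn S S)) : Ω) = ((α x : S) : Ω)) ∧
      ∀ c : ↥(S ⊔ centralizerIn S S), (c : Ω) ∈ centralizerIn S S →
        (c : Ω)⁻¹ * ((β c : ↥(S ⊔ centralizerIn S S)) : Ω) ∈ S ⊓ Subgroup.centralizer (S : Set Ω) := by
  have hUS : S ⊔ centralizerIn S S ≤ S := sup_le le_rfl (centralizerIn_le_S S S)
  have hSU : S ≤ S ⊔ centralizerIn S S := le_sup_left
  haveI : Finite ↥(S ⊔ centralizerIn S S) :=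
    Finite.of_injective (Subgroup.inclusion hUS) (Subgroup.inclusion_injective hUS)
  have hαhom := (mem_autGroup_iff F le_rfl α).mp hα
  have hψ : (S.subtype.comp (α : S ≃* S).toMonoidHom).comp (Subgroup.inclusion hUS) ∈
      F.Hom (S ⊔ centralizerIn S S) := hom_restrict F hUS hαhom
  have hr : ((S.subtype.comp (α : S ≃* S).toMonoidHom).comp (Subgroup.inclusion hUS)).range =
      S ⊔ centralizerIn S S := by
    have hle : ((S.subtype.comp (α : S ≃* S).toMonoidHom).comp (Subgroup.inclusion hUS)).range ≤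
        S ⊔ centralizerIn S S := by
      rintro _ ⟨x, rfl⟩
      exact hSU (α _).2
    apply Subgroup.eq_of_le_of_card_ge hle
    rw [Nat.card_congr (MonoidHom.ofInjective (F.injective_of_mem hψ)).toEquiv]
  obtain ⟨e, he, hee⟩ := exists_isIso_of_hom F hψ hr
  refine ⟨e, (mem_autGroup_iff F hUS e).mpr he, fun x => ?_, fun c hc => ?_⟩
  · rw [hee]
    rfl
  · rw [hee]
    show (c : Ω)⁻¹ * ((α ⟨c, hUS c.2⟩ : S) : Ω) ∈ _
    rw [mem_centralizerIn_iff] at hc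
    have h1 : ((α ⟨c, hUS c.2⟩ : S) : Ω) ∈ Subgroup.centralizer (S : Set Ω) := by
      rw [Subgroup.mem_centralizer_iff]
      intro s hs
      have h2 : (⟨s, hs⟩ : S) = α (α⁻¹ ⟨s, hs⟩) := by rw [MulAut.apply_inv_self]
      have h3 : (⟨s, hs⟩ : S) * α ⟨c, hUS c.2⟩ = α ⟨c, hUS c.2⟩ * ⟨s, hs⟩ := by
        rw [h2, ← map_mul, ← map_mul]
        congr 1
        apply Subtype.ext
        exact hc.2 _ (α⁻¹ ⟨s, hs⟩).2
      exact congrArg (fun z : S => (z : Ω)) h3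
    have h4 : (c : Ω) ∈ Subgroup.centralizer (S : Set Ω) := by
      rw [Subgroup.mem_centralizer_iff]
      intro s hs
      exact hc.2 s hs
    exact ⟨S.mul_mem (S.inv_mem hc.1) (α _).2,
      Subgroup.mul_mem _ (Subgroup.inv_mem _ h4) h1⟩

namespace Data

variable {p : ℕ} {F : FusionSystem S} {E : FusionSystem T} {Δ : Type*} [Group Δ] (d : Data p F E Δ)

include d

variable [Finite S] [Fact p.Prime] [Finite Δ]

/-- Maps of `E` between `E`-centric subgroups lie in the subsystem. -/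
theorem E_centric_le_F0 {R : Subgroup Ω} (hR : E.IsCentric R) : E.Hom R ⊆ d.F0.Hom R := by
  intro ψ hψ
  have hRT : R ≤ T := hR.1
  have hRfam : R ∈ fam S E := by
    refine ⟨hRT.trans d.hTS, ?_⟩
    have : R ⊓ T = R := inf_eq_left.mpr hRT
    rw [this]
    exact hR
  exact d.pull_le_F0 hRfam ⟨d.hEF R hψ, d.E_le_KE _ (hom_restrict E inf_le_left hψ)⟩

/-- `E` is a subsystem. -/
theorem E_le_F0 : E.IsSubsystemOf d.F0 := by
  haveI : Finite T := Finite.of_injective (Subgroup.inclusion d.hTS) (Subgroup.inclusion_injective d.hTS)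
  have h := alperin d.hTp d.hEsat (fullOn d.F0 T d.hTS) ?_ ?_
  · intro P φ hφ
    exact (h P hφ).1
  · intro α hα
    exact ⟨d.E_centric_le_F0 d.centric_T hα, le_rfl, fun x => (α x).2⟩
  · intro R hR _ hc _ α hα
    exact ⟨d.E_centric_le_F0 hc hα, hc.1, fun x => hc.1 (α x).2⟩

/-- An automorphism of `T` in `F` lying in `K · E` lies in the kernel. -/
theorem mem_K_of_KE_top {a : MulAut T} (h : T.subtype.comp (a : T ≃* T).toMonoidHom ∈ d.KE.Hom T) :
    a ∈ d.K := by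
  obtain ⟨κ, hκ, φ₀, hφ₀, hκφ⟩ := h
  have hφ₀T : ∀ x : T, φ₀ x ∈ T := (E.le_of_mem hφ₀).2
  have h1 : κ⁻¹ * a ∈ E.autGroup T := by
    rw [mem_autGroup_iff E le_rfl]
    unfold IsIso
    convert hφ₀ using 1
    ext t
    show (((κ⁻¹ * a) t : T) : Ω) = φ₀ t
    have h2 : a t = κ ⟨φ₀ t, hφ₀T t⟩ := Subtype.ext (hκφ t (hφ₀T t))
    rw [MulAut.mul_apply, h2, MulAut.inv_apply_self]
  have : a = κ * (κ⁻¹ * a) := by group
  rw [this]
  exact Subgroup.mul_mem _ hκ (d.autE_le_K h1)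

/-- The automorphisms of `S` in the subsystem. -/
theorem mem_autGroup_F0_iff (α : MulAut S) :
    α ∈ d.F0.autGroup S ↔ α ∈ F.autGroup S ∧ ∃ β : ↥(F.autGroup T), d.χ β = 1 ∧
      ∀ t : ↥T, (((β : MulAut ↥T) t : ↥T) : Ω) = ((α ⟨(t : Ω), d.hTS t.2⟩ : ↥S) : Ω) := by
  constructor
  · intro hα
    have h1 := d.F0_le_pull S ((mem_autGroup_iff d.F0 le_rfl α).mp hα)
    obtain ⟨hαF, hαK⟩ := h1
    have hαA : α ∈ F.autGroup S := (mem_autGroup_iff F le_rfl α).mpr hαF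
    refine ⟨hαA, ?_⟩
    obtain ⟨a, ha, haα⟩ := exists_resAutT d.hT hαA
    have hahom := (mem_autGroup_iff F d.hTS a).mp ha
    have haK : a ∈ d.K := by
      apply d.mem_K_of_KE_top
      apply d.KE_of_restrict (inf_le_right : S ⊓ T ≤ T) le_rfl d.top_mem_fam.2 hahom
      convert hαK using 1
      ext x
      exact haα ⟨x, x.2.2⟩
    obtain ⟨ha', h1⟩ := mem_kerAut_iff.mp haK
    exact ⟨⟨a, ha'⟩, h1, haα⟩
  · rintro ⟨hα, β, hβ, hβα⟩
    rw [mem_autGroup_iff d.F0 le_rfl]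
    refine d.pull_le_F0 d.top_mem_fam ⟨(mem_autGroup_iff F le_rfl α).mp hα, ?_⟩
    refine ⟨β, mem_kerAut_iff.mpr ⟨β.2, hβ⟩, (S ⊓ T).subtype, hom_subtype E inf_le_right, fun x hx => ?_⟩
    exact (hβα ⟨x, hx⟩).symm

/-- The subsystem is proper. -/
theorem F0_ne [Nontrivial Δ] (hχ : Function.Surjective d.χ) : ¬ ∀ P : Subgroup Ω, d.F0.Hom P = F.Hom P := by
  intro hall
  obtain ⟨δ, hδ⟩ := exists_ne (1 : Δ)
  obtain ⟨γ, hγ⟩ := hχ δ
  obtain ⟨α, hα, a, ha, haα, haK⟩ := d.exists_aut_top γ γ.2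
  have hα0 : α ∈ d.F0.autGroup S := by
    rw [mem_autGroup_iff d.F0 le_rfl]
    unfold IsIso
    rw [hall S]
    exact (mem_autGroup_iff F le_rfl α).mp hα
  obtain ⟨-, β, hβ, hβα⟩ := (d.mem_autGroup_F0_iff α).mp hα0
  have hβa : β = ⟨a, ha⟩ := by
    apply Subtype.ext
    ext t
    rw [hβα, haα]
  obtain ⟨h1, h2⟩ := mem_kerAut_iff.mp haK
  have h3 : (⟨a⁻¹ * (γ : MulAut T), h1⟩ : F.autGroup T) = (⟨a, ha⟩ : F.autGroup T)⁻¹ * γ := rfl
  rw [h3, map_mul, map_inv, ← hβa, hβ, inv_one, one_mul, hγ] at h2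
  exact hδ h2

/-- The subsystem is normal. -/
theorem F0_normal : d.F0.IsNormalIn F p := by
  refine ⟨⟨d.F0_saturated, d.hF, d.F0_le_F, stronglyClosed_self F, d.F0_invCond,
    fun P _ φ hφ => d.frat_all P φ hφ⟩, fun α hα => ?_⟩
  exact ext_cond_top (autGroup_le_of_subsystem d.F0_le_F S hα)

end Data

end Cfsg.Agent.Lib.Helper27.Chi
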