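import Cfsg.Agent.Lib.Helper27.ChiG

set_option autoImplicit false

namespace Cfsg.Agent.Lib.Helper27.Chi

open Cfsg Cfsg.FusionSystem Cfsg.Agent.Lib.Helper27 Cfsg.Agent.H26 Cfsg.Agent.Lib.Helper16

variable {Ω : Type*} [Group Ω] {S T : Subgroup Ω}

section PIndex

variable [Finite S] {p : ℕ} [Fact p.Prime] {F E : FusionSystem S}

/-- Automorphisms of `p`-power order of any subgroup of `S` lie in `E`. -/
theorem pPower_aut_mem_of_frat (hS : IsPGroup p S) (hF : F.IsSaturated p)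
    (hfr : ∀ (U : Subgroup Ω) (φ : U →* Ω), φ ∈ F.Hom U → FratAt E F U φ)
    {P : Subgroup Ω} (hPS : P ≤ S) (γ : F.autGroup P) {k : ℕ} (hk : orderOf γ = p ^ k) :
    (γ : MulAut P) ∈ E.autGroup P := by
  haveI : Finite P := Finite.of_injective (Subgroup.inclusion hPS) (Subgroup.inclusion_injective hPS)
  obtain ⟨P', hPP', hfn⟩ := exists_fullyNormalized_conj F hPS
  obtain ⟨e₀, he₀⟩ := (isConj_iff F).mp hPP'
  have hP'S : P' ≤ S := hfn.1
  haveI : Finite P' := Finite.of_injective (Subgroup.inclusion hP'S) (Subgroup.inclusion_injective hP'S)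
  haveI : Finite (MulAut P') := inferInstance
  obtain ⟨⟨-, R, hR⟩, -, -⟩ := fa_receptive_of_fullyNormalized hS hF hfn
  have hγ'F : MulAut.congr e₀ (γ : MulAut P) ∈ F.autGroup P' := by
    rw [← autGroup_map_congr he₀]
    exact ⟨γ, γ.2, rfl⟩
  have hXp : IsPGroup p (Subgroup.zpowers (⟨_, hγ'F⟩ : F.autGroup P')) := by
    apply IsPGroup.of_card (n := k)
    rw [Nat.card_zpowers, Subgroup.orderOf_mk]
    have : MulAut.congr e₀ (γ : MulAut P) = (MulAut.congr e₀).toMonoidHom (γ : MulAut P) := rfl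
    rw [this, orderOf_injective (MulAut.congr e₀).toMonoidHom (MulAut.congr e₀).injective,
      Subgroup.orderOf_coe]
    exact hk
  obtain ⟨b, -, hb⟩ := exists_conj_mem_sylow_of_le_normal ⊤ R _ le_top hXp
  have h1 := hb _ (Subgroup.mem_zpowers _)
  rw [hR, Subgroup.mem_subgroupOf, mem_autInducedBy_iff] at h1
  obtain ⟨s, hs, hsconj⟩ := h1
  have hbiso : IsIso F ((b : MulAut P') : P' ≃* P') := (mem_autGroup_iff F hP'S _).mp b.2
  have heiso : IsIso F (e₀.trans ((b : MulAut P') : P' ≃* P')) := he₀.trans hbiso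
  obtain ⟨α, hα, φ₀, hφ₀, hfr⟩ := hfr P _ heiso
  have hφ₀S : ∀ x : P, φ₀ x ∈ S := (E.le_of_mem hφ₀).2
  have hfr' : ∀ x : P, (((b : MulAut P') (e₀ x) : P') : Ω) = ((α ⟨φ₀ x, hφ₀S x⟩ : S) : Ω) :=
    fun x => hfr x (hφ₀S x)
  have hkey : ∀ x : P, (((b : MulAut P') (e₀ ((γ : MulAut P) x)) : P') : Ω) =
      s * (((b : MulAut P') (e₀ x) : P') : Ω) * s⁻¹ := by
    intro x
    rw [← hsconj]
    simp only [Subgroup.coe_mul, Subgroup.coe_inv, MulAut.mul_apply, MulAut.inv_apply_self,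
      MulAut.congr_apply, MulEquiv.trans_apply, MulEquiv.symm_apply_apply]
  have hconj : ∀ x : P, φ₀ ((γ : MulAut P) x) = ((α⁻¹ ⟨s, hs⟩ : S) : Ω) * φ₀ x * ((α⁻¹ ⟨s, hs⟩ : S) : Ω)⁻¹ := by
    intro x
    have h2 : α ⟨φ₀ ((γ : MulAut P) x), hφ₀S _⟩ =
        α (α⁻¹ ⟨s, hs⟩ * ⟨φ₀ x, hφ₀S x⟩ * (α⁻¹ ⟨s, hs⟩)⁻¹) := by
      apply Subtype.ext
      rw [← hfr', hkey, hfr', map_mul, map_mul, map_inv, MulAut.apply_inv_self]
      rfl
    have h3 := α.injective h2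
    exact congrArg (fun z : S => (z : Ω)) h3
  obtain ⟨ψ₀, hψ₀, hinv⟩ := E.inv_mem hφ₀
  have hrS : φ₀.range ≤ S := by
    rintro _ ⟨x, rfl⟩
    exact hφ₀S x
  have hc := E.conj_mem hrS (α⁻¹ ⟨s, hs⟩ : S).2
  have hm1 : ∀ x : P, φ₀ x ∈ φ₀.range := fun x => ⟨x, rfl⟩
  have hcomp1 := E.comp_mem hφ₀ hc hm1
  have hm2 : ∀ x : P, ((conjHom φ₀.range ((α⁻¹ ⟨s, hs⟩ : S) : Ω)).comp (φ₀.codRestrict _ hm1)) x ∈
      φ₀.range := by
    intro x
    have : ((conjHom φ₀.range ((α⁻¹ ⟨s, hs⟩ : S) : Ω)).comp (φ₀.codRestrict _ hm1)) x =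
        φ₀ ((γ : MulAut P) x) := (hconj x).symm
    rw [this]
    exact ⟨_, rfl⟩
  have hcomp2 := E.comp_mem hcomp1 hψ₀ hm2
  rw [mem_autGroup_iff E hPS]
  have heq : P.subtype.comp ((γ : MulAut P) : P ≃* P).toMonoidHom =
      ψ₀.comp (((conjHom φ₀.range ((α⁻¹ ⟨s, hs⟩ : S) : Ω)).comp
        (φ₀.codRestrict _ hm1)).codRestrict _ hm2) := by
    ext x
    show (((γ : MulAut P) x : P) : Ω) = ψ₀ ⟨_, hm2 x⟩
    have : (⟨_, hm2 x⟩ : φ₀.range) = ⟨φ₀ ((γ : MulAut P) x), ⟨_, rfl⟩⟩ := Subtype.ext (hconj x).symm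
    rw [this, hinv]
  unfold IsIso
  rw [heq]
  exact hcomp2

/-- A subsystem with the Frattini property has index prime to `p`. -/
theorem hasPrimeToPIndexIn_of_frat (hS : IsPGroup p S) (hF : F.IsSaturated p) (hEF : E.IsSubsystemOf F)
    (hfr : ∀ (U : Subgroup Ω) (φ : U →* Ω), φ ∈ F.Hom U → FratAt E F U φ) : E.HasPrimeToPIndexIn F p := by
  refine ⟨hEF, fun P hPS => ?_⟩
  rw [Subgroup.map_le_iff_le_comap, Subgroup.closure_le]
  rintro γ ⟨k, hk⟩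
  exact pPower_aut_mem_of_frat hS hF hfr hPS γ hk

end PIndex

end Cfsg.Agent.Lib.Helper27.Chi
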