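import Mathlib

set_option autoImplicit false

/-! Group-theoretic preliminaries for the existence of subsystems of `p`-power index:
products of invariant functions over a set with an action of a `p`-group, and a vanishing criterion
for the transfer on the centralizer of a `p`-subgroup. -/

namespace Cfsg.Agent.Lib.Helper27.PPow

open MulAction

variable {p : ℕ} [Fact p.Prime]

/-- An invariant set without fixed points under the action of a `p`-group has cardinality divisible
by `p`. -/
theorem dvd_card_of_no_fixed {P Y : Type*} [Group P] [MulAction P Y] [Finite Y] (hP : IsPGroup p P)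
    (s : Set Y) (hs : ∀ (x : P) (y : Y), y ∈ s → x • y ∈ s) (hnf : ∀ y ∈ s, ∃ x : P, x • y ≠ y) :
    p ∣ Nat.card s := by
  let M : SubMulAction P Y := ⟨s, fun x y hy => hs x y hy⟩
  have h1 := hP.card_modEq_card_fixedPoints M
  have h2 : IsEmpty (fixedPoints P M) := by
    constructor
    rintro ⟨⟨y, hy⟩, hfix⟩
    obtain ⟨x, hx⟩ := hnf y hy
    apply hx
    have := hfix x
    exact congrArg Subtype.val this
  have h3 : Nat.card (fixedPoints P M) = 0 := Nat.card_of_isEmpty
  rw [h3] at h1
  exact (Nat.modEq_zero_iff_dvd).mp h1

/-- The product of an invariant function with values in a commutative group of exponent `p`, over a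
finite set with an action of a `p`-group, is the product over the fixed points. -/
theorem prod_eq_prod_fixed {P Y A : Type*} [Group P] [MulAction P Y] [Fintype Y] [CommGroup A]
    (hP : IsPGroup p P) (hA : ∀ a : A, a ^ p = 1) (c : Y → A) (hc : ∀ (x : P) (y : Y), c (x • y) = c y)
    (hfix : ∀ y : Y, (∀ x : P, x • y = y) → c y = 1) : ∏ y, c y = 1 := by
  classical
  rw [Finset.prod_comp (fun a : A => a) c]
  apply Finset.prod_eq_one
  intro a _
  by_cases ha : a = 1
  · rw [ha, one_pow]
  have hdvd : p ∣ (Finset.univ.filter (fun y => c y = a)).card := by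
    have h1 := dvd_card_of_no_fixed (p := p) (P := P) (Y := Y) hP {y | c y = a}
      (fun x y hy => by
        show c (x • y) = a
        rw [hc]; exact hy)
      (fun y hy => by
        by_contra hcon
        push Not at hcon
        exact ha (hy ▸ hfix y hcon))
    have h2 : Nat.card {y | c y = a} = (Finset.univ.filter (fun y => c y = a)).card := by
      rw [Nat.card_eq_fintype_card, Fintype.card_subtype]
      rfl
    rwa [h2] at h1
  obtain ⟨k, hk⟩ := hdvd
  rw [hk, pow_mul, hA, one_pow]

variable {G : Type*} [Group G] {H : Subgroup G} [H.FiniteIndex] {A : Type*} [CommGroup A]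

/-- The minimal period of a coset under a group element is constant along orbits of commuting elements. -/
theorem minimalPeriod_smul_of_commute (f b : G) (hbf : b * f = f * b) (y : G ⧸ H) :
    Function.minimalPeriod (f • ·) (b • y) = Function.minimalPeriod (f • ·) y := by
  have hpow : ∀ n : ℕ, f ^ n • (b • y) = b • (f ^ n • y) := by
    intro n
    rw [← mul_smul, ← mul_smul]
    congr 1
    induction n with
    | zero => simp
    | succ n ih => rw [pow_succ, mul_assoc, ← hbf, ← mul_assoc, ih, mul_assoc, ← pow_succ]
  apply Nat.dvd_antisymm
  · rw [← MulAction.pow_smul_eq_iff_minimalPeriod_dvd, hpow]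
    congr 1
    exact MulAction.pow_smul_eq_iff_minimalPeriod_dvd.mpr dvd_rfl
  · rw [← MulAction.pow_smul_eq_iff_minimalPeriod_dvd]
    have h2 : f ^ Function.minimalPeriod (f • ·) (b • y) • (b • y) = b • y :=
      MulAction.pow_smul_eq_iff_minimalPeriod_dvd.mpr dvd_rfl
    rw [hpow] at h2
    exact smul_left_cancel b h2

end Cfsg.Agent.Lib.Helper27.PPow
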