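import Mathlib
import Cfsg.Agent.Lib.Helper27.PPowA

set_option autoImplicit false

/-! A vanishing criterion for the transfer on the centralizer of a `p`-subgroup. -/

namespace Cfsg.Agent.Lib.Helper27.PPow

open MulAction

variable {p : ℕ} [Fact p.Prime]
variable {G : Type*} [Group G] {H : Subgroup G} [H.FiniteIndex] {A : Type*} [CommGroup A]

theorem commute_of_mem_zpowers {f b z : G} (hbf : b * f = f * b) (hz : z ∈ Subgroup.zpowers f) :
    b * z = z * b := by
  obtain ⟨k, rfl⟩ := Subgroup.mem_zpowers_iff.mp hz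
  have hc : Commute b f := hbf
  exact (hc.zpow_right k)

/-- The orbit relation of `f` on cosets is preserved by elements commuting with `f`. -/
theorem orbitRel_smul_of_commute (f b : G) (hbf : b * f = f * b) {y y' : G ⧸ H}
    (h : (orbitRel (Subgroup.zpowers f) (G ⧸ H)) y y') :
    (orbitRel (Subgroup.zpowers f) (G ⧸ H)) (b • y) (b • y') := by
  rw [orbitRel_apply, mem_orbit_iff] at h ⊢
  obtain ⟨z, hz⟩ := h
  refine ⟨z, ?_⟩
  have hz' : (z : G) • y' = y := hz
  show (z : G) • (b • y') = b • y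
  rw [← hz', ← mul_smul, ← mul_smul, commute_of_mem_zpowers hbf z.2]

/-- The minimal period is constant along the orbits of `f`. -/
theorem minimalPeriod_eq_of_orbitRel (f : G) {y y' : G ⧸ H}
    (h : (orbitRel (Subgroup.zpowers f) (G ⧸ H)) y y') :
    Function.minimalPeriod (f • ·) y = Function.minimalPeriod (f • ·) y' := by
  rw [orbitRel_apply, mem_orbit_iff] at h
  obtain ⟨z, hz⟩ := h
  have hz' : (z : G) • y' = y := hz
  rw [← hz']
  exact minimalPeriod_smul_of_commute f (z : G) (commute_of_mem_zpowers rfl z.2).symm y'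

/-- Independence of the representative in the formula for the transfer. -/
theorem phi_conj_eq (ϕ : H →* A) (f : G) {g g' : G}
    (h : (orbitRel (Subgroup.zpowers f) (G ⧸ H)) (g' : G ⧸ H) (g : G ⧸ H)) (m m' : ℕ) (hmm : m' = m)
    (hm : g⁻¹ * f ^ m * g ∈ H) (hm' : g'⁻¹ * f ^ m' * g' ∈ H) :
    ϕ ⟨_, hm'⟩ = ϕ ⟨_, hm⟩ := by
  subst hmm
  rw [orbitRel_apply, mem_orbit_iff] at h
  obtain ⟨z, hz⟩ := h
  have hz' : (((z : G) * g : G) : G ⧸ H) = (g' : G ⧸ H) := hz
  have h0 : ((z : G) * g)⁻¹ * g' ∈ H := QuotientGroup.eq.mp hz'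
  have hcz : (z : G) * f ^ m' = f ^ m' * (z : G) := by
    have h1 : f ^ m' * (z : G) = (z : G) * f ^ m' :=
      commute_of_mem_zpowers (f := f) (b := f ^ m') (by rw [← pow_succ, ← pow_succ']) z.2
    exact h1.symm
  have heq : (⟨g'⁻¹ * f ^ m' * g', hm'⟩ : H) =
      (⟨((z : G) * g)⁻¹ * g', h0⟩ : H)⁻¹ * ⟨g⁻¹ * f ^ m' * g, hm⟩ * ⟨((z : G) * g)⁻¹ * g', h0⟩ := by
    apply Subtype.ext
    show g'⁻¹ * f ^ m' * g' =
      (((z : G) * g)⁻¹ * g')⁻¹ * (g⁻¹ * f ^ m' * g) * (((z : G) * g)⁻¹ * g')
    have h3 : (z : G) * f ^ m' * (z : G)⁻¹ = f ^ m' := by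
      rw [hcz, mul_assoc, mul_inv_cancel, mul_one]
    have h4 : (((z : G) * g)⁻¹ * g')⁻¹ * (g⁻¹ * f ^ m' * g) * (((z : G) * g)⁻¹ * g') =
        g'⁻¹ * ((z : G) * f ^ m' * (z : G)⁻¹) * g' := by group
    rw [h4, h3]
  rw [heq, map_mul, map_mul, map_inv, mul_comm, mul_inv_cancel_left]

/-- A vanishing criterion for the transfer: if `f` commutes with the `p`-subgroup `B` and the target has
exponent `p`, then the transfer of `f` is trivial provided the contributions of the `B`-stable orbits of
`f` on the cosets are trivial. -/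
theorem transfer_eq_one_of_commute (ϕ : H →* A) (hA : ∀ a : A, a ^ p = 1)
    (B : Subgroup G) (hB : IsPGroup p B) (f : G) (hcomm : ∀ b ∈ B, b * f = f * b)
    (hkey : ∀ (y : G ⧸ H) (g : G), (g : G ⧸ H) = y →
      (∀ b ∈ B, (orbitRel (Subgroup.zpowers f) (G ⧸ H)) (b • y) y) →
      ∀ hm : g⁻¹ * f ^ Function.minimalPeriod (f • ·) y * g ∈ H, ϕ ⟨_, hm⟩ = 1) :
    MonoidHom.transfer ϕ f = 1 := by
  classical
  haveI : Fintype (Quotient (orbitRel (Subgroup.zpowers f) (G ⧸ H))) := Fintype.ofFinite _
  rw [MonoidHom.transfer_eq_prod_quotient_orbitRel_zpowers_quot]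
  letI act : MulAction B (Quotient (orbitRel (Subgroup.zpowers f) (G ⧸ H))) :=
    { smul := fun b q => Quotient.map' (fun y => (b : G) • y)
        (fun y y' h => orbitRel_smul_of_commute f (b : G) (hcomm b b.2) h) q
      one_smul := by
        intro q
        induction q using Quotient.inductionOn' with
        | h y =>
          show Quotient.mk'' (((1 : B) : G) • y) = Quotient.mk'' y
          rw [Subgroup.coe_one, one_smul]
      mul_smul := by
        intro b b' q
        induction q using Quotient.inductionOn' with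
        | h y =>
          show Quotient.mk'' (((b * b' : B) : G) • y) = Quotient.mk'' ((b : G) • ((b' : G) • y))
          rw [Subgroup.coe_mul, mul_smul] }
  have hsmul : ∀ (b : B) (y : G ⧸ H),
      b • (Quotient.mk'' y : Quotient (orbitRel (Subgroup.zpowers f) (G ⧸ H))) =
        Quotient.mk'' ((b : G) • y) := fun _ _ => rfl
  apply prod_eq_prod_fixed (P := B) hB hA
  · intro b q
    have hq : (Quotient.mk'' q.out : Quotient (orbitRel (Subgroup.zpowers f) (G ⧸ H))) = q :=
      Quotient.out_eq' q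
    have hbq : (Quotient.mk'' (b • q).out : Quotient (orbitRel (Subgroup.zpowers f) (G ⧸ H))) =
        Quotient.mk'' ((b : G) • q.out) := by
      rw [Quotient.out_eq', ← hsmul, hq]
    have hrel : (orbitRel (Subgroup.zpowers f) (G ⧸ H)) (b • q).out ((b : G) • q.out) :=
      Quotient.exact' hbq
    have hmp : Function.minimalPeriod (f • ·) (b • q).out = Function.minimalPeriod (f • ·) q.out := by
      rw [minimalPeriod_eq_of_orbitRel f hrel]
      exact minimalPeriod_smul_of_commute f (b : G) (hcomm b b.2) q.out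
    have hrel' : (orbitRel (Subgroup.zpowers f) (G ⧸ H)) (((b • q).out.out : G) : G ⧸ H)
        ((((b : G) * q.out.out : G)) : G ⧸ H) := by
      have h1 : (((b • q).out.out : G) : G ⧸ H) = (b • q).out := QuotientGroup.out_eq' _
      have h2 : ((((b : G) * q.out.out : G)) : G ⧸ H) = (b : G) • q.out := by
        conv_rhs => rw [← QuotientGroup.out_eq' q.out]
        rfl
      rw [h1, h2]
      exact hrel
    have hcb : (b : G) * f ^ Function.minimalPeriod (f • ·) q.out =
        f ^ Function.minimalPeriod (f • ·) q.out * (b : G) := by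
      have hc : Commute (b : G) f := hcomm b b.2
      exact hc.pow_right _
    have hm2 : ((b : G) * q.out.out)⁻¹ * f ^ Function.minimalPeriod (f • ·) q.out *
        ((b : G) * q.out.out) ∈ H := by
      have h3 : ((b : G) * q.out.out)⁻¹ * f ^ Function.minimalPeriod (f • ·) q.out *
          ((b : G) * q.out.out) = q.out.out⁻¹ * f ^ Function.minimalPeriod (f • ·) q.out * q.out.out := by
        rw [mul_inv_rev, mul_assoc, mul_assoc, ← mul_assoc (f ^ _), ← hcb]
        group
      rw [h3]
      exact QuotientGroup.out_conj_pow_minimalPeriod_mem H f q.out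
    rw [phi_conj_eq ϕ f hrel' _ _ hmp hm2]
    congr 1
    apply Subtype.ext
    show ((b : G) * q.out.out)⁻¹ * f ^ Function.minimalPeriod (f • ·) q.out * ((b : G) * q.out.out) =
      q.out.out⁻¹ * f ^ Function.minimalPeriod (f • ·) q.out * q.out.out
    rw [mul_inv_rev, mul_assoc, mul_assoc, ← mul_assoc (f ^ _), ← hcb]
    group
  · intro q hq
    apply hkey q.out q.out.out (QuotientGroup.out_eq' _)
    intro b hb
    have h1 := hq ⟨b, hb⟩
    have hq' : (Quotient.mk'' q.out : Quotient (orbitRel (Subgroup.zpowers f) (G ⧸ H))) = q :=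
      Quotient.out_eq' q
    rw [← hq', hsmul] at h1
    exact Quotient.exact' h1

end Cfsg.Agent.Lib.Helper27.PPow
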