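import Mathlib
import Cfsg.Agent.Lib.Helper27.PPowB
import Cfsg.Agent.Lib.Helper27.CBTransfer

set_option autoImplicit false

/-! A finite group realizing a saturated fusion system (the automorphism group of a characteristic
biset as a right `S`-set), with a transfer homomorphism that is trivial on the centralizers of suitable
subgroups. -/

namespace Cfsg.Agent.Lib.Helper27.PPow

open Cfsg Cfsg.FusionSystem Cfsg.Agent.Lib.Helper27 Cfsg.Agent.Lib.Helper27.Park
  Cfsg.Agent.Lib.Helper27.CB Classical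

universe u

variable {Ω : Type u} [Group Ω] {S : Subgroup Ω}

/-- The action of the automorphism group of the biset (as a right `S`-set) on the set of right orbits. -/
noncomputable instance orbMulAction (n : Subgroup (S × S) → ℕ) :
    MulAction (Cent (rS n)) (Orb (rS n)) := MulAction.compHom _ (quotPerm (rS n))

theorem orb_smul_def (n : Subgroup (S × S) → ℕ) (g : Cent (rS n)) (y : Orb (rS n)) :
    g • y = quotPerm (rS n) g y := rfl

theorem zpow_eq_one_of_coprime {A : Type*} [Group A] {p : ℕ} [hp : Fact p.Prime] (a : A) (hA : a ^ p = 1)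
    (w : ℤ) (hw : ¬ (p : ℤ) ∣ w) (haw : a ^ w = 1) : a = 1 := by
  have hprime : Prime (p : ℤ) := Nat.prime_iff_prime_int.mp hp.out
  have hcop : IsCoprime (p : ℤ) w := (Prime.coprime_iff_not_dvd hprime).mpr hw
  obtain ⟨x, y, hxy⟩ := hcop
  have h1 : a ^ (x * (p : ℤ) + y * w) = 1 := by
    rw [zpow_add, mul_comm x, mul_comm y, zpow_mul, zpow_mul, zpow_natCast, hA, haw, one_zpow, one_zpow,
      one_mul]
  rwa [hxy, zpow_one] at h1

variable [Finite S] {p : ℕ} [Fact p.Prime]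

/-- A finite group realizing a saturated fusion system, with a transfer. -/
theorem exists_realizer (hS : IsPGroup p S) {F : FusionSystem S} (hF : F.IsSaturated p)
    {A : Type*} [CommGroup A] (lam : S →* A) (hA : ∀ a : A, a ^ p = 1)
    (hstab : ∀ (Q : Subgroup Ω) (θ : Q →* Ω) (hθ : θ ∈ F.Hom Q) (a : Q),
      lam ⟨θ a, (F.le_of_mem hθ).2 a⟩ = lam ⟨a, hom_le F hθ a.2⟩) :
    ∃ (𝒢 : Type u) (_ : Group 𝒢) (_ : Finite 𝒢) (ι : S →* 𝒢) (V : 𝒢 →* A) (d : ℕ), ¬ p ∣ d ∧
      (∀ s : S, V (ι s) = lam s ^ d) ∧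
      (∀ (P : Subgroup Ω) (φ : P →* Ω) (hφ : φ ∈ F.Hom P), ∃ e : 𝒢, ∀ u : P,
        ι ⟨φ u, (F.le_of_mem hφ).2 u⟩ = e * ι ⟨u, hom_le F hφ u.2⟩ * e⁻¹) ∧
      (∀ (P : Subgroup Ω) (hPS : P ≤ S), (∀ x : P, lam ⟨x, hPS x.2⟩ = 1) →
        (∀ (ρ : P →* Ω), ρ ∈ F.Hom P → ∀ c : S, (∀ x : P, (c : Ω) * ρ x = ρ x * c) → lam c = 1) →
        ∀ f : 𝒢, (∀ u : P, f * ι ⟨u, hPS u.2⟩ = ι ⟨u, hPS u.2⟩ * f) → V f = 1) := by
  obtain ⟨n, hn, hst, k, hk, hpk⟩ := exists_charBiset hS hF
  have hfree : ∀ (b : S) (x : PX n), rS n b x = x → b = 1 := fun b x h => rS_free F hn b x h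
  have hcardOrb : Nat.card (Orb (rS n)) = k := by
    have h1 := card_eq_card_orb_mul (rS n) hfree
    rw [hk] at h1
    exact (Nat.eq_of_mul_eq_mul_right Nat.card_pos h1).symm
  obtain ⟨y₁, hy₁⟩ : ∃ y₁ : Orb (rS n), ¬ p ∣ (MulAction.stabilizer (Cent (rS n)) y₁).index := by
    by_contra hcon
    push Not at hcon
    have := dvd_card_of_dvd_index (H := Cent (rS n)) (α := Orb (rS n)) p hcon
    rw [hcardOrb] at this
    exact hpk this
  obtain ⟨x₁, rfl⟩ := orbMk_surjective (rS n) y₁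
  have hex : ∀ g : MulAction.stabilizer (Cent (rS n)) (orbMk (rS n) x₁),
      ∃ b : S, rS n b x₁ = ((g : Cent (rS n)) : Equiv.Perm (PX n)) x₁ := by
    intro g
    have h1 : (g : Cent (rS n)) • orbMk (rS n) x₁ = orbMk (rS n) x₁ := g.2
    rw [orb_smul_def, quotPerm_mk] at h1
    exact (orbMk_eq_iff (rS n)).mp h1.symm
  have huniq : ∀ b b' : S, rS n b x₁ = rS n b' x₁ → b = b' := by
    intro b b' h
    have h2 : rS n (b'⁻¹ * b) x₁ = x₁ := by
      rw [map_mul, Equiv.Perm.mul_apply, map_inv, Equiv.Perm.inv_eq_iff_eq]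
      exact h
    exact (inv_mul_eq_one.mp (hfree _ _ h2)).symm
  obtain ⟨bf, hbf⟩ : ∃ bf : MulAction.stabilizer (Cent (rS n)) (orbMk (rS n) x₁) → S,
      ∀ g, rS n (bf g) x₁ = ((g : Cent (rS n)) : Equiv.Perm (PX n)) x₁ :=
    ⟨fun g => Classical.choose (hex g), fun g => Classical.choose_spec (hex g)⟩
  have hbf_mul : ∀ g g', bf (g * g') = bf g' * bf g := by
    intro g g'
    apply huniq
    rw [hbf, map_mul, Equiv.Perm.mul_apply, hbf]
    show (((g : Cent (rS n)) : Equiv.Perm (PX n)) * ((g' : Cent (rS n)) : Equiv.Perm (PX n))) x₁ = _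
    rw [Equiv.Perm.mul_apply, ← hbf g', Cent_comm]
  obtain ⟨π, hπ⟩ : ∃ π : MulAction.stabilizer (Cent (rS n)) (orbMk (rS n) x₁) →* S,
      ∀ g, π g = (bf g)⁻¹ :=
    ⟨MonoidHom.mk' (fun g => (bf g)⁻¹) (by
      intro g g'
      show (bf (g * g'))⁻¹ = (bf g)⁻¹ * (bf g')⁻¹
      rw [hbf_mul, mul_inv_rev]), fun g => rfl⟩
  -- fixed points: if `g₀⁻¹ ι(a) g₀` stabilizes the base orbit, then `(a, π(..))` fixes `g₀ x₁`
  have hfixpt : ∀ (g₀ : Cent (rS n)) (a : S)
      (hmem : g₀⁻¹ * iotaG n a * g₀ ∈ MulAction.stabilizer (Cent (rS n)) (orbMk (rS n) x₁)),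
      act n (a, π ⟨_, hmem⟩) ((g₀ : Equiv.Perm (PX n)) x₁) = (g₀ : Equiv.Perm (PX n)) x₁ := by
    intro g₀ a hmem
    have h1 := hbf ⟨_, hmem⟩
    have e1 : g₀ * (g₀⁻¹ * iotaG n a * g₀) = iotaG n a * g₀ := by group
    have e2 := congrArg (fun c : Cent (rS n) => (c : Equiv.Perm (PX n)) x₁) e1
    have e3 : (g₀ : Equiv.Perm (PX n)) (((g₀⁻¹ * iotaG n a * g₀ : Cent (rS n)) :
        Equiv.Perm (PX n)) x₁) = act n (a, (1 : S)) ((g₀ : Equiv.Perm (PX n)) x₁) := e2
    have h2 : act n ((1 : S), bf ⟨_, hmem⟩) ((g₀ : Equiv.Perm (PX n)) x₁) =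
        act n (a, (1 : S)) ((g₀ : Equiv.Perm (PX n)) x₁) := by
      rw [← rS_apply, ← Cent_comm, h1]
      exact e3
    have e4 : ((a, (bf ⟨_, hmem⟩)⁻¹) : S × S) = ((1 : S), bf ⟨_, hmem⟩)⁻¹ * (a, (1 : S)) := by
      ext <;> simp
    rw [hπ, e4, map_mul, Equiv.Perm.mul_apply, ← h2, map_inv]
    exact Equiv.symm_apply_apply _ _
  -- the value of `lam ∘ π` on conjugates of elements of `S`
  have hval : ∀ (g₀ : Cent (rS n)) (a : S) (c : Cent (rS n)) (hc : c = iotaG n a)
      (hmem : g₀⁻¹ * c * g₀ ∈ MulAction.stabilizer (Cent (rS n)) (orbMk (rS n) x₁)),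
      lam (π ⟨_, hmem⟩) = lam a := by
    intro g₀ a c hc hmem
    subst hc
    obtain ⟨Q, θ, hθ, hq, h4⟩ := exists_hom_of_fixed F hn (hfixpt g₀ a hmem)
    have h5 := hstab Q θ hθ ⟨a, hq⟩
    have h6 : (⟨θ ⟨a, hq⟩, (F.le_of_mem hθ).2 ⟨a, hq⟩⟩ : S) = π ⟨_, hmem⟩ := Subtype.ext h4
    rw [h6] at h5
    rw [h5]
  refine ⟨Cent (rS n), inferInstance, inferInstance, iotaG n, MonoidHom.transfer (lam.comp π),
    (MulAction.stabilizer (Cent (rS n)) (orbMk (rS n) x₁)).index, hy₁, ?_, ?_, ?_⟩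
  · intro z
    haveI : Fintype (Quotient (MulAction.orbitRel (Subgroup.zpowers (iotaG n z))
      (Cent (rS n) ⧸ MulAction.stabilizer (Cent (rS n)) (orbMk (rS n) x₁)))) := Fintype.ofFinite _
    rw [MonoidHom.transfer_eq_prod_quotient_orbitRel_zpowers_quot,
      Subgroup.index_eq_sum_minimalPeriod _ (iotaG n z), ← Finset.prod_pow_eq_pow_sum]
    apply Finset.prod_congr rfl
    intro q _
    show lam (π ⟨_, _⟩) = lam z ^ _
    rw [hval _ (z ^ _) _ (map_pow (iotaG n) z _).symm, map_pow]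
  · intro P φ hφ
    exact exists_conj F hn hst hφ
  · intro P hPS hP1 hcent f hf
    haveI : Finite ↥P := Finite.of_injective (Subgroup.inclusion hPS) (Subgroup.inclusion_injective hPS)
    have hPp : IsPGroup p P := hS.to_le hPS
    have hB : IsPGroup p ((P.subgroupOf S).map (iotaG n)) :=
      (hS.to_subgroup (P.subgroupOf S)).map (iotaG n)
    apply transfer_eq_one_of_commute (lam.comp π) hA ((P.subgroupOf S).map (iotaG n)) hB f
    · rintro b ⟨x, hx, rfl⟩
      exact (hf ⟨x, Subgroup.mem_subgroupOf.mp hx⟩).symm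
    · intro y g hgy hstable hm
      subst hgy
      -- stabilizer of the coset of `g`
      have hstabKg : ∀ a : Cent (rS n),
          a • ((g : Cent (rS n)) : Cent (rS n) ⧸ MulAction.stabilizer (Cent (rS n)) (orbMk (rS n) x₁)) =
            (g : Cent (rS n) ⧸ MulAction.stabilizer (Cent (rS n)) (orbMk (rS n) x₁)) ↔
          g⁻¹ * a * g ∈ MulAction.stabilizer (Cent (rS n)) (orbMk (rS n) x₁) := by
        intro a
        rw [MulAction.Quotient.smul_mk, QuotientGroup.eq, smul_eq_mul]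
        have e : (a * g)⁻¹ * g = (g⁻¹ * a * g)⁻¹ := by group
        rw [e, Subgroup.inv_mem_iff]
      -- the graph of the stabilizer of the point `g x₁`
      obtain ⟨D, ⟨Q₂, θ₂, hθ₂, hg₂⟩, hD⟩ := exists_stab F hn ((g : Equiv.Perm (PX n)) x₁)
      have hgraph : ∀ (a : S)
          (hmem : g⁻¹ * iotaG n a * g ∈ MulAction.stabilizer (Cent (rS n)) (orbMk (rS n) x₁)),
          ∃ hq : (a : Ω) ∈ Q₂, θ₂ ⟨a, hq⟩ = ((π ⟨_, hmem⟩ : S) : Ω) := by
        intro a hmem
        exact (hg₂ a _).mp ((hD _).mp (hfixpt g a hmem))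
      have hfcomm : ∀ (x : P) (j : ℕ), f ^ j * iotaG n ⟨x, hPS x.2⟩ = iotaG n ⟨x, hPS x.2⟩ * f ^ j := by
        intro x j
        have hc : Commute f (iotaG n ⟨x, hPS x.2⟩) := hf x
        exact hc.pow_left j
      by_cases hall : ∀ x : P,
          g⁻¹ * iotaG n ⟨x, hPS x.2⟩ * g ∈ MulAction.stabilizer (Cent (rS n)) (orbMk (rS n) x₁)
      · -- all of `P` fixes the coset
        have hPQ₂ : P ≤ Q₂ := fun x hx => (hgraph ⟨x, hPS hx⟩ (hall ⟨x, hx⟩)).1
        have hρ : θ₂.comp (Subgroup.inclusion hPQ₂) ∈ F.Hom P := hom_restrict F hPQ₂ hθ₂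
        show lam (π ⟨_, hm⟩) = 1
        apply hcent _ hρ
        intro x
        obtain ⟨hq, hx2⟩ := hgraph ⟨x, hPS x.2⟩ (hall x)
        have hρx : (θ₂.comp (Subgroup.inclusion hPQ₂)) x = ((π ⟨_, hall x⟩ : S) : Ω) := hx2
        rw [hρx]
        have hcomm2 : (⟨_, hm⟩ : MulAction.stabilizer (Cent (rS n)) (orbMk (rS n) x₁)) * ⟨_, hall x⟩ =
            ⟨_, hall x⟩ * ⟨_, hm⟩ := by
          apply Subtype.ext
          show g⁻¹ * f ^ _ * g * (g⁻¹ * iotaG n ⟨x, hPS x.2⟩ * g) =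
            g⁻¹ * iotaG n ⟨x, hPS x.2⟩ * g * (g⁻¹ * f ^ _ * g)
          have e1 : ∀ a b : Cent (rS n), g⁻¹ * a * g * (g⁻¹ * b * g) = g⁻¹ * (a * b) * g := by
            intro a b; group
          rw [e1, e1, hfcomm]
        have h3 := congrArg π hcomm2
        rw [map_mul, map_mul] at h3
        have h4 := congrArg (fun s : S => (s : Ω)) h3
        exact h4
      · -- some element of `P` moves the coset
        push Not at hall
        obtain ⟨x, hx⟩ := hall
        have hιP : ∀ x : P, iotaG n ⟨x, hPS x.2⟩ = (iotaG n).comp (Subgroup.inclusion hPS) x := fun _ => rfl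
        have hR1 : g⁻¹ * (iotaG n).comp (Subgroup.inclusion hPS) (1 : P) * g ∈
            MulAction.stabilizer (Cent (rS n)) (orbMk (rS n) x₁) := by
          rw [map_one, mul_one, inv_mul_cancel]
          exact Subgroup.one_mem _
        have hex2 : ∃ k : ℕ, g⁻¹ * (iotaG n).comp (Subgroup.inclusion hPS) (x ^ p ^ k) * g ∈
            MulAction.stabilizer (Cent (rS n)) (orbMk (rS n) x₁) := by
          obtain ⟨N, hN⟩ := (IsPGroup.iff_orderOf.mp hPp) x
          refine ⟨N, ?_⟩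
          have h1 : x ^ p ^ N = 1 := by rw [← hN]; exact pow_orderOf_eq_one x
          rw [h1]
          exact hR1
        have hk := Nat.find_spec hex2
        have hk0 : Nat.find hex2 ≠ 0 := by
          intro h0
          rw [h0, pow_zero, pow_one] at hk
          exact hx hk
        obtain ⟨k', hk'⟩ := Nat.exists_eq_succ_of_ne_zero hk0
        have hmin : ¬ (g⁻¹ * (iotaG n).comp (Subgroup.inclusion hPS) (x ^ p ^ k') * g ∈
            MulAction.stabilizer (Cent (rS n)) (orbMk (rS n) x₁)) :=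
          Nat.find_min hex2 (by omega)
        have hx₀p : (x ^ p ^ k') ^ p = x ^ p ^ Nat.find hex2 := by
          rw [← pow_mul, ← pow_succ, hk']
        have hI : g⁻¹ * (iotaG n).comp (Subgroup.inclusion hPS) ((x ^ p ^ k') ^ p) * g ∈
            MulAction.stabilizer (Cent (rS n)) (orbMk (rS n) x₁) := by
          rw [hx₀p]; exact hk
        have hbmem : (iotaG n).comp (Subgroup.inclusion hPS) (x ^ p ^ k') ∈
            (P.subgroupOf S).map (iotaG n) :=
          ⟨⟨(x ^ p ^ k' : P), hPS (x ^ p ^ k').2⟩, Subgroup.mem_subgroupOf.mpr (x ^ p ^ k').2, rfl⟩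
        have hrel := hstable _ hbmem
        rw [MulAction.orbitRel_apply, MulAction.mem_orbit_iff] at hrel
        obtain ⟨z, hz⟩ := hrel
        obtain ⟨i, hi⟩ := Subgroup.mem_zpowers_iff.mp z.2
        have hz' : f ^ i • ((g : Cent (rS n)) :
            Cent (rS n) ⧸ MulAction.stabilizer (Cent (rS n)) (orbMk (rS n) x₁)) =
            (iotaG n).comp (Subgroup.inclusion hPS) (x ^ p ^ k') • (g : Cent (rS n) ⧸ _) := by
          rw [hi]; exact hz
        have hndvd : ¬ ((Function.minimalPeriod (f • ·) ((g : Cent (rS n)) :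
            Cent (rS n) ⧸ MulAction.stabilizer (Cent (rS n)) (orbMk (rS n) x₁)) : ℤ) ∣ i) := by
          intro hdvd
          have h1 := MulAction.zpow_smul_eq_iff_minimalPeriod_dvd.mpr hdvd
          rw [hz'] at h1
          exact hmin ((hstabKg _).mp h1)
        have hu : ((f ^ i)⁻¹ * (iotaG n).comp (Subgroup.inclusion hPS) (x ^ p ^ k')) •
            ((g : Cent (rS n)) : Cent (rS n) ⧸ MulAction.stabilizer (Cent (rS n)) (orbMk (rS n) x₁)) =
            (g : Cent (rS n) ⧸ _) := by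
          rw [mul_smul, ← hz', ← mul_smul, inv_mul_cancel, one_smul]
        have hu' := (hstabKg _).mp hu
        have hcomm3 : Commute (f ^ i)⁻¹ ((iotaG n).comp (Subgroup.inclusion hPS) (x ^ p ^ k')) := by
          have hc : Commute f ((iotaG n).comp (Subgroup.inclusion hPS) (x ^ p ^ k')) := hf (x ^ p ^ k')
          exact (hc.zpow_left i).inv_left
        have hpow : ((f ^ i)⁻¹ * (iotaG n).comp (Subgroup.inclusion hPS) (x ^ p ^ k')) ^ p =
            (f ^ (i * (p : ℤ)))⁻¹ * (iotaG n).comp (Subgroup.inclusion hPS) ((x ^ p ^ k') ^ p) := by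
          rw [hcomm3.mul_pow, inv_pow, ← zpow_natCast (f ^ i) p, ← zpow_mul, ← map_pow]
        have hfix : (f ^ (i * (p : ℤ)))⁻¹ •
            ((g : Cent (rS n)) : Cent (rS n) ⧸ MulAction.stabilizer (Cent (rS n)) (orbMk (rS n) x₁)) =
            (g : Cent (rS n) ⧸ _) := by
          have e1 : (f ^ (i * (p : ℤ)))⁻¹ =
              ((f ^ i)⁻¹ * (iotaG n).comp (Subgroup.inclusion hPS) (x ^ p ^ k')) ^ p *
                ((iotaG n).comp (Subgroup.inclusion hPS) ((x ^ p ^ k') ^ p))⁻¹ := by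
            rw [hpow, mul_assoc, mul_inv_cancel, mul_one]
          have h1 : ((f ^ i)⁻¹ * (iotaG n).comp (Subgroup.inclusion hPS) (x ^ p ^ k')) ∈
              MulAction.stabilizer (Cent (rS n)) ((g : Cent (rS n)) :
                Cent (rS n) ⧸ MulAction.stabilizer (Cent (rS n)) (orbMk (rS n) x₁)) := hu
          have h2 : (iotaG n).comp (Subgroup.inclusion hPS) ((x ^ p ^ k') ^ p) ∈
              MulAction.stabilizer (Cent (rS n)) ((g : Cent (rS n)) :
                Cent (rS n) ⧸ MulAction.stabilizer (Cent (rS n)) (orbMk (rS n) x₁)) :=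
            (hstabKg _).mpr hI
          rw [e1]
          exact Subgroup.mul_mem _ (Subgroup.pow_mem _ h1 p) (Subgroup.inv_mem _ h2)
        have hdvd2 : (Function.minimalPeriod (f • ·) ((g : Cent (rS n)) :
            Cent (rS n) ⧸ MulAction.stabilizer (Cent (rS n)) (orbMk (rS n) x₁)) : ℤ) ∣ i * (p : ℤ) := by
          have h1 : f ^ (-(i * (p : ℤ))) • ((g : Cent (rS n)) :
              Cent (rS n) ⧸ MulAction.stabilizer (Cent (rS n)) (orbMk (rS n) x₁)) = (g : Cent (rS n) ⧸ _) := by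
            rw [zpow_neg]; exact hfix
          exact (dvd_neg).mp (MulAction.zpow_smul_eq_iff_minimalPeriod_dvd.mp h1)
        obtain ⟨w, hw⟩ := hdvd2
        have hp0 : (p : ℤ) ≠ 0 := by
          have := (Fact.out : p.Prime).pos
          omega
        have hpw : ¬ (p : ℤ) ∣ w := by
          rintro ⟨w', rfl⟩
          apply hndvd
          refine ⟨w', ?_⟩
          apply mul_right_cancel₀ hp0
          rw [hw]; ring
        -- the relation in the stabilizer
        have hκ : ∀ a : Cent (rS n), (MulAut.conj g⁻¹).toMonoidHom a = g⁻¹ * a * g := by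
          intro a
          show (MulAut.conj g⁻¹) a = _
          rw [MulAut.conj_apply, inv_inv]
        have hrelUFI : (⟨_, hu'⟩ : MulAction.stabilizer (Cent (rS n)) (orbMk (rS n) x₁)) ^ p =
            (⟨_, hm⟩ : MulAction.stabilizer (Cent (rS n)) (orbMk (rS n) x₁)) ^ (-w) * ⟨_, hI⟩ := by
          apply Subtype.ext
          rw [Subgroup.coe_pow, Subgroup.coe_mul, Subgroup.coe_zpow]
          show (g⁻¹ * ((f ^ i)⁻¹ * (iotaG n).comp (Subgroup.inclusion hPS) (x ^ p ^ k')) * g) ^ p =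
            (g⁻¹ * f ^ _ * g) ^ (-w) * (g⁻¹ * (iotaG n).comp (Subgroup.inclusion hPS) ((x ^ p ^ k') ^ p) * g)
          rw [← hκ, ← hκ, ← hκ, ← map_pow, ← map_zpow, ← map_mul, hpow]
          congr 2
          rw [zpow_neg, ← zpow_natCast f, ← zpow_mul, ← hw]
        have h1 : (lam.comp π) (⟨_, hu'⟩ : MulAction.stabilizer (Cent (rS n)) (orbMk (rS n) x₁)) ^ p = 1 :=
          hA _
        have h2 := congrArg (lam.comp π) hrelUFI
        rw [map_pow, h1, map_mul, map_zpow] at h2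
        have h3 : (lam.comp π) (⟨_, hI⟩ : MulAction.stabilizer (Cent (rS n)) (orbMk (rS n) x₁)) = 1 := by
          show lam (π ⟨_, hI⟩) = 1
          exact (hval g ⟨(((x ^ p ^ k') ^ p : P) : Ω), hPS ((x ^ p ^ k') ^ p).2⟩ _ rfl hI).trans (hP1 _)
        rw [h3, mul_one, zpow_neg] at h2
        have h4 : (lam.comp π) (⟨_, hm⟩ : MulAction.stabilizer (Cent (rS n)) (orbMk (rS n) x₁)) ^ w = 1 :=
          inv_eq_one.mp h2.symm
        exact zpow_eq_one_of_coprime _ (hA _) w hpw h4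

end Cfsg.Agent.Lib.Helper27.PPow
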