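import Mathlib
import Cfsg.Agent.Lib.Helper27.FusionSat

set_option autoImplicit false

/-! Maps of a fusion system implemented by conjugation in an auxiliary group, and the subsystem of the
maps implemented by the kernel of a homomorphism to a commutative group. -/

namespace Cfsg.Agent.Lib.Helper27.PPow

open Cfsg Cfsg.FusionSystem Cfsg.Agent.Lib.Helper27

variable {Ω : Type*} [Group Ω] {S : Subgroup Ω} {𝒢 : Type*} [Group 𝒢]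

/-- The element `e` of the auxiliary group implements the map `φ`: conjugation by `e` induces `φ` through
`ι`. -/
def Impl (ι : S →* 𝒢) {P : Subgroup Ω} (φ : P →* Ω) (e : 𝒢) : Prop :=
  ∀ (u : P) (hu : (u : Ω) ∈ S) (hφu : φ u ∈ S), ι ⟨φ u, hφu⟩ = e * ι ⟨u, hu⟩ * e⁻¹

theorem impl_conj (ι : S →* 𝒢) {P : Subgroup Ω} {g : Ω} (hg : g ∈ S) :
    Impl ι (conjHom P g) (ι ⟨g, hg⟩) := by
  intro u hu hφu
  have h1 : (⟨conjHom P g u, hφu⟩ : S) = ⟨g, hg⟩ * ⟨u, hu⟩ * ⟨g, hg⟩⁻¹ := Subtype.ext rfl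
  rw [h1, map_mul, map_mul, map_inv]

theorem impl_comp (ι : S →* 𝒢) {P Q : Subgroup Ω} {φ : P →* Ω} {ψ : Q →* Ω} {e e' : 𝒢}
    (hφS : ∀ x, φ x ∈ S) (hφ : Impl ι φ e) (hψ : Impl ι ψ e') (h : ∀ x, φ x ∈ Q) :
    Impl ι (ψ.comp (φ.codRestrict Q h)) (e' * e) := by
  intro u hu hu'
  have h1 := hφ u hu (hφS u)
  have h2 := hψ ⟨φ u, h u⟩ (hφS u) hu'
  show ι ⟨ψ ⟨φ u, h u⟩, hu'⟩ = _
  rw [h2, h1]
  group

theorem impl_restrict (ι : S →* 𝒢) {P W : Subgroup Ω} (hWP : W ≤ P) {φ : P →* Ω} {e : 𝒢}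
    (h : Impl ι φ e) : Impl ι (φ.comp (Subgroup.inclusion hWP)) e :=
  fun u hu hφu => h (Subgroup.inclusion hWP u) hu hφu

theorem impl_inv (ι : S →* 𝒢) {P : Subgroup Ω} {φ : P →* Ω} {e : 𝒢} (hPS : P ≤ S)
    (h : Impl ι φ e) {ψ : φ.range →* Ω} (hψ : ∀ x : P, ψ ⟨φ x, ⟨x, rfl⟩⟩ = x) : Impl ι ψ e⁻¹ := by
  rintro ⟨_, x, rfl⟩ hy hψy
  have h1 := h x (hPS x.2) hy
  have h2 : (⟨ψ ⟨φ x, ⟨x, rfl⟩⟩, hψy⟩ : S) = ⟨x, hPS x.2⟩ := Subtype.ext (hψ x)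
  rw [h2, h1]
  group

theorem impl_pow (ι : S →* 𝒢) {P : Subgroup Ω} (hPS : P ≤ S) {α : MulAut P} {e : 𝒢}
    (h : Impl ι (P.subtype.comp (α : P ≃* P).toMonoidHom) e) (j : ℕ) :
    Impl ι (P.subtype.comp ((α ^ j : MulAut P) : P ≃* P).toMonoidHom) (e ^ j) := by
  induction j with
  | zero =>
    intro u hu hφu
    have h0 : e ^ 0 * ι ⟨u, hu⟩ * (e ^ 0)⁻¹ = ι ⟨u, hu⟩ := by
      rw [pow_zero, one_mul, inv_one, mul_one]
    rw [h0]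
    rfl
  | succ j ih =>
    intro u hu hφu
    have h1 := h u hu (hPS (α u).2)
    have h2 := ih (α u) (hPS (α u).2) hφu
    have h3 : (P.subtype.comp ((α ^ (j + 1) : MulAut P) : P ≃* P).toMonoidHom) u =
        (P.subtype.comp ((α ^ j : MulAut P) : P ≃* P).toMonoidHom) (α u) := by
      show (((α ^ (j + 1) : MulAut P) u : P) : Ω) = (((α ^ j : MulAut P) (α u) : P) : Ω)
      rw [pow_succ, MulAut.mul_apply]
    have h4 : (⟨(P.subtype.comp ((α ^ (j + 1) : MulAut P) : P ≃* P).toMonoidHom) u, hφu⟩ : S) =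
        ⟨(P.subtype.comp ((α ^ j : MulAut P) : P ≃* P).toMonoidHom) (α u), h3 ▸ hφu⟩ := Subtype.ext h3
    rw [h4, h2]
    have h5 : ι ⟨((α u : P) : Ω), hPS (α u).2⟩ = e * ι ⟨u, hu⟩ * e⁻¹ := h1
    rw [h5, pow_succ]
    group

/-- The subsystem over `T` of the maps implemented by elements of the kernel of `V`. -/
def implSys (F : FusionSystem S) {T : Subgroup Ω} (hT : F.StronglyClosed T) (ι : S →* 𝒢)
    {A : Type*} [CommGroup A] (V : 𝒢 →* A) (hV : ∀ t : S, (t : Ω) ∈ T → V (ι t) = 1) : FusionSystem T where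
  Hom P := {φ | φ ∈ F.Hom P ∧ P ≤ T ∧ ∃ e : 𝒢, V e = 1 ∧ Impl ι φ e}
  le_of_mem := by
    rintro P φ ⟨hφ, hPT, -⟩
    exact ⟨hPT, fun x => hT.2 P hPT φ hφ x⟩
  injective_of_mem := fun h => F.injective_of_mem h.1
  conj_mem := by
    intro P g hPT hg
    exact ⟨F.conj_mem (hPT.trans hT.1) (hT.1 hg), hPT, ι ⟨g, hT.1 hg⟩, hV _ hg, impl_conj ι (hT.1 hg)⟩
  comp_mem := by
    rintro P Q φ ψ ⟨hφ, hPT, e, he, hie⟩ ⟨hψ, hQT, e', he', hie'⟩ h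
    exact ⟨F.comp_mem hφ hψ h, hPT, e' * e, by rw [map_mul, he, he', one_mul],
      impl_comp ι (F.le_of_mem hφ).2 hie hie' h⟩
  inv_mem := by
    rintro P φ ⟨hφ, hPT, e, he, hie⟩
    obtain ⟨ψ, hψ, hψe⟩ := F.inv_mem hφ
    refine ⟨ψ, ⟨hψ, ?_, e⁻¹, by rw [map_inv, he, inv_one], impl_inv ι (hPT.trans hT.1) hie hψe⟩, hψe⟩
    rintro _ ⟨x, rfl⟩
    exact hT.2 P hPT φ hφ x

theorem mem_implSys {F : FusionSystem S} {T : Subgroup Ω} {hT : F.StronglyClosed T} {ι : S →* 𝒢}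
    {A : Type*} [CommGroup A] {V : 𝒢 →* A} {hV : ∀ t : S, (t : Ω) ∈ T → V (ι t) = 1}
    {P : Subgroup Ω} {φ : P →* Ω} :
    φ ∈ (implSys F hT ι V hV).Hom P ↔ φ ∈ F.Hom P ∧ P ≤ T ∧ ∃ e : 𝒢, V e = 1 ∧ Impl ι φ e := Iff.rfl

theorem implSys_subsystem {F : FusionSystem S} {T : Subgroup Ω} {hT : F.StronglyClosed T} {ι : S →* 𝒢}
    {A : Type*} [CommGroup A] {V : 𝒢 →* A} {hV : ∀ t : S, (t : Ω) ∈ T → V (ι t) = 1} :
    (implSys F hT ι V hV).IsSubsystemOf F := fun _ _ h => h.1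

end Cfsg.Agent.Lib.Helper27.PPow
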