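import Mathlib
import Cfsg.Agent.Lib.Helper27.PPowD

set_option autoImplicit false

/-! The data of a realizing group with a transfer, and the basic properties of the associated subsystem. -/

namespace Cfsg.Agent.Lib.Helper27.PPow

open Cfsg Cfsg.FusionSystem Cfsg.Agent.Lib.Helper27

variable {Ω : Type*} [Group Ω] {S : Subgroup Ω} {𝒢 : Type*} [Group 𝒢] {A : Type*} [CommGroup A]

/-- A group realizing the fusion system `F`, with a homomorphism `V` to a commutative group of exponent `p`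
whose kernel meets `S` in `T` and contains the centralizers of the subgroups of `T` all of whose conjugates
have their centralizer in `T`. -/
structure RData (F : FusionSystem S) (T : Subgroup Ω) (p : ℕ) (𝒢 : Type*) [Group 𝒢] (A : Type*)
    [CommGroup A] where
  ι : S →* 𝒢
  V : 𝒢 →* A
  hT : F.StronglyClosed T
  hA : ∀ a : A, a ^ p = 1
  hV : ∀ t : S, V (ι t) = 1 ↔ (t : Ω) ∈ T
  hcover : ∀ e : 𝒢, ∃ s : S, V (ι s) = V e
  hreal : ∀ (P : Subgroup Ω) (φ : P →* Ω), φ ∈ F.Hom P → ∃ e : 𝒢, Impl ι φ e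
  hcent : ∀ (P : Subgroup Ω), P ≤ T → (∀ ρ ∈ F.Hom P, centralizerIn S ρ.range ≤ T) →
    ∀ f : 𝒢, (∀ (u : P) (hu : (u : Ω) ∈ S), f * ι ⟨u, hu⟩ = ι ⟨u, hu⟩ * f) → V f = 1
  hgen : ∀ z ∈ S, z ∉ T → ∀ s ∈ S, ∃ (i : ℕ) (t : Ω), t ∈ T ∧ s = t * z ^ i

variable {F : FusionSystem S} {T : Subgroup Ω} {p : ℕ}

/-- The subsystem attached to the data. -/
def RData.sys (D : RData F T p 𝒢 A) : FusionSystem T :=
  implSys F D.hT D.ι D.V (fun t ht => (D.hV t).mpr ht)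

theorem RData.mem_sys (D : RData F T p 𝒢 A) {P : Subgroup Ω} {φ : P →* Ω} :
    φ ∈ D.sys.Hom P ↔ φ ∈ F.Hom P ∧ P ≤ T ∧ ∃ e : 𝒢, D.V e = 1 ∧ Impl D.ι φ e := Iff.rfl

theorem RData.sys_le (D : RData F T p 𝒢 A) : D.sys.IsSubsystemOf F := fun _ _ h => h.1

/-- Frattini: every map of `F` from a subgroup of `T` is a map of the subsystem followed by a conjugation
by an element of `S`. -/
theorem RData.frattini (D : RData F T p 𝒢 A) {P : Subgroup Ω} (hPT : P ≤ T) {φ : P →* Ω}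
    (hφ : φ ∈ F.Hom P) :
    ∃ s : S, ∃ ψ ∈ D.sys.Hom P, ∀ u : P, φ u = (s : Ω) * ψ u * (s : Ω)⁻¹ := by
  obtain ⟨e, he⟩ := D.hreal P φ hφ
  obtain ⟨s, hs⟩ := D.hcover e
  have hTS : T ≤ S := D.hT.1
  have hφT : ∀ x : P, φ x ∈ T := fun x => D.hT.2 P hPT φ hφ x
  have hcj : conjHom T ((s : Ω)⁻¹) ∈ F.Hom T := F.conj_mem hTS (S.inv_mem s.2)
  refine ⟨s, (conjHom T ((s : Ω)⁻¹)).comp (φ.codRestrict T hφT), ⟨F.comp_mem hφ hcj hφT, hPT,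
    D.ι ⟨(s : Ω)⁻¹, S.inv_mem s.2⟩ * e, ?_, impl_comp D.ι (F.le_of_mem hφ).2 he
      (impl_conj D.ι (S.inv_mem s.2)) hφT⟩, ?_⟩
  · have h1 : (⟨(s : Ω)⁻¹, S.inv_mem s.2⟩ : S) = s⁻¹ := Subtype.ext rfl
    rw [map_mul, h1, map_inv, map_inv, hs, inv_mul_cancel]
  · intro u
    show φ u = (s : Ω) * ((s : Ω)⁻¹ * φ u * ((s : Ω)⁻¹)⁻¹) * (s : Ω)⁻¹
    group

/-- If some element of `S` outside `T` centralizes `Q ≤ T`, then every map of `F` with source `Q` is a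
map of the subsystem. -/
theorem RData.mem_of_centralizer [Fact p.Prime] (D : RData F T p 𝒢 A) {Q : Subgroup Ω} (hQT : Q ≤ T)
    {z : Ω} (hz : z ∈ centralizerIn S Q) (hzT : z ∉ T) {φ : Q →* Ω} (hφ : φ ∈ F.Hom Q) :
    φ ∈ D.sys.Hom Q := by
  have hp : p.Prime := Fact.out
  obtain ⟨e, he⟩ := D.hreal Q φ hφ
  obtain ⟨s, hs⟩ := D.hcover e
  have hzS : z ∈ S := hz.1
  obtain ⟨i, t, ht, hst⟩ := D.hgen z hzS hzT s s.2
  have hTS : T ≤ S := D.hT.1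
  have hs' : s = ⟨t, hTS ht⟩ * (⟨z, hzS⟩ : S) ^ i := Subtype.ext hst
  have hVs : D.V (D.ι s) = D.V (D.ι ⟨z, hzS⟩) ^ i := by
    rw [hs', map_mul, map_mul, map_pow, map_pow, (D.hV ⟨t, hTS ht⟩).mpr ht, one_mul]
  refine ⟨hφ, hQT, e * D.ι ⟨z, hzS⟩ ^ ((p - 1) * i), ?_, ?_⟩
  · rw [map_mul, ← hs, hVs, map_pow, ← pow_add]
    have h1 : i + (p - 1) * i = p * i := by
      have := hp.pos
      calc i + (p - 1) * i = ((p - 1) + 1) * i := by ring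
        _ = p * i := by rw [Nat.sub_add_cancel this]
    rw [h1, pow_mul, D.hA, one_pow]
  · intro u hu hφu
    have hcomm : D.ι ⟨z, hzS⟩ * D.ι ⟨u, hu⟩ = D.ι ⟨u, hu⟩ * D.ι ⟨z, hzS⟩ := by
      rw [← map_mul, ← map_mul]
      congr 1
      apply Subtype.ext
      show z * (u : Ω) = (u : Ω) * z
      have := (Subgroup.mem_centralizer_iff.mp hz.2) (u : Ω) u.2
      exact this.symm
    have hc : Commute (D.ι ⟨z, hzS⟩ ^ ((p - 1) * i)) (D.ι ⟨u, hu⟩) := (Commute.pow_left hcomm _)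
    rw [he u hu hφu]
    have h5 : D.ι ⟨z, hzS⟩ ^ ((p - 1) * i) * D.ι ⟨u, hu⟩ * (D.ι ⟨z, hzS⟩ ^ ((p - 1) * i))⁻¹ =
        D.ι ⟨u, hu⟩ := by rw [hc.eq, mul_inv_cancel_right]
    calc e * D.ι ⟨u, hu⟩ * e⁻¹
        = e * (D.ι ⟨z, hzS⟩ ^ ((p - 1) * i) * D.ι ⟨u, hu⟩ * (D.ι ⟨z, hzS⟩ ^ ((p - 1) * i))⁻¹) * e⁻¹ := by
          rw [h5]
      _ = e * D.ι ⟨z, hzS⟩ ^ ((p - 1) * i) * D.ι ⟨u, hu⟩ * (e * D.ι ⟨z, hzS⟩ ^ ((p - 1) * i))⁻¹ := by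
          group

/-- The key property: an element of `S` whose conjugation relates two maps of the subsystem defined on a
subgroup all of whose conjugates have their centralizers in `T` lies in `T`. -/
theorem RData.mem_of_conj (D : RData F T p 𝒢 A) {P : Subgroup Ω} (hPT : P ≤ T)
    (hC : ∀ ρ ∈ F.Hom P, centralizerIn S ρ.range ≤ T) {e₁ e₂ : 𝒢} (h₁ : D.V e₁ = 1) (h₂ : D.V e₂ = 1)
    (s : S) (h : ∀ (u : P) (hu : (u : Ω) ∈ S),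
      e₂ * D.ι ⟨u, hu⟩ * e₂⁻¹ = D.ι s * (e₁ * D.ι ⟨u, hu⟩ * e₁⁻¹) * (D.ι s)⁻¹) : (s : Ω) ∈ T := by
  have h3 : D.V (e₂⁻¹ * D.ι s * e₁) = 1 := by
    apply D.hcent P hPT hC
    intro u hu
    have h4 := h u hu
    calc e₂⁻¹ * D.ι s * e₁ * D.ι ⟨u, hu⟩
        = e₂⁻¹ * (D.ι s * (e₁ * D.ι ⟨u, hu⟩ * e₁⁻¹) * (D.ι s)⁻¹) * D.ι s * e₁ := by group
      _ = e₂⁻¹ * (e₂ * D.ι ⟨u, hu⟩ * e₂⁻¹) * D.ι s * e₁ := by rw [h4]
      _ = D.ι ⟨u, hu⟩ * (e₂⁻¹ * D.ι s * e₁) := by group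
  rw [map_mul, map_mul, map_inv, h₁, h₂, inv_one, one_mul, mul_one] at h3
  exact (D.hV s).mp h3

end Cfsg.Agent.Lib.Helper27.PPow
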