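import Mathlib
import Cfsg.Agent.Lib.Helper27.PPowE
import Cfsg.Agent.Lib.Helper16.SylowInf
import Cfsg.Agent.H26.FusionFactor

set_option autoImplicit false

/-! Auxiliary lemmas for the saturation of the subsystem attached to realizing data. -/

namespace Cfsg.Agent.Lib.Helper27.PPow

open Cfsg Cfsg.FusionSystem Cfsg.Agent.Lib.Helper27

/-- A Sylow subgroup of a group meets a normal subgroup in a Sylow subgroup, in the form used for the
automizers. -/
theorem exists_sylow_of_normal {M : Type*} [Group M] [Finite M] {p : ℕ} [Fact p.Prime]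
    {G N X Y : Subgroup M} (hNG : N ≤ G) (hnorm : ∀ g ∈ G, ∀ n ∈ N, g * n * g⁻¹ ∈ N)
    (R : Sylow p G) (hR : (R : Subgroup G) = X.subgroupOf G) (hYp : IsPGroup p Y)
    (hYN : Y ≤ N) (hYX : Y ≤ X) (hinf : N ⊓ X ≤ Y) :
    ∃ R' : Sylow p N, (R' : Subgroup N) = Y.subgroupOf N := by
  haveI : (N.subgroupOf G).Normal := by
    constructor
    intro n hn g
    rw [Subgroup.mem_subgroupOf] at hn ⊢
    exact hnorm g g.2 n hn
  have h1 := Cfsg.Agent.Lib.Helper16.relIndex_dvd_index_of_normal_right' (R : Subgroup G) (N.subgroupOf G)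
  rw [hR, Subgroup.relIndex_subgroupOf hNG] at h1
  have h2 : X.relIndex N = Y.relIndex N := by
    have h3 : X ⊓ N = Y := by
      apply le_antisymm
      · rw [inf_comm]; exact hinf
      · exact le_inf hYX hYN
    rw [← Subgroup.inf_relIndex_right X N, h3]
  have hnd : ¬ p ∣ (Y.subgroupOf N).index := by
    intro hd
    apply R.not_dvd_index
    rw [hR]
    have h4 : (Y.subgroupOf N).index = Y.relIndex N := rfl
    rw [h4, ← h2] at hd
    exact dvd_trans hd h1
  exact ⟨(hYp.comap_subtype).toSylow hnd, rfl⟩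

variable {Ω : Type*} [Group Ω] {S : Subgroup Ω}

/-- Conjugation by an element of `S` does not change the order of the normalizer in `S`. -/
theorem card_normalizerIn_conj_le [Finite S] {P : Subgroup Ω} {φ ψ : P →* Ω} (hψS : ∀ u, ψ u ∈ S)
    (s : S) (h : ∀ u : P, φ u = (s : Ω) * ψ u * (s : Ω)⁻¹) :
    Nat.card (normalizerIn S φ.range) ≤ Nat.card (normalizerIn S ψ.range) := by
  have hψr : ψ.range ≤ S := by
    rintro _ ⟨u, rfl⟩
    exact hψS u
  haveI : Finite ψ.range := Finite.of_injective (Subgroup.inclusion hψr) (Subgroup.inclusion_injective hψr)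
  haveI : Finite (normalizerIn S ψ.range) :=
    Finite.of_injective (Subgroup.inclusion (normalizerIn_le_S S ψ.range)) (Subgroup.inclusion_injective _)
  have hmem : ∀ g : normalizerIn S φ.range, (s : Ω)⁻¹ * (g : Ω) * (s : Ω) ∈ normalizerIn S ψ.range := by
    intro g
    refine ⟨S.mul_mem (S.mul_mem (S.inv_mem s.2) g.2.1) s.2, mem_normalizer_of_conj_mem ?_⟩
    rintro _ ⟨u, rfl⟩
    have h1 : (g : Ω) * φ u * (g : Ω)⁻¹ ∈ φ.range := conj_mem_of_mem_normalizerIn g.2 ⟨u, rfl⟩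
    obtain ⟨u', hu'⟩ := h1
    refine ⟨u', ?_⟩
    have h2 := h u
    have h3 := h u'
    rw [hu', h2] at h3
    calc ψ u' = (s : Ω)⁻¹ * ((s : Ω) * ψ u' * (s : Ω)⁻¹) * (s : Ω) := by group
      _ = (s : Ω)⁻¹ * ((g : Ω) * ((s : Ω) * ψ u * (s : Ω)⁻¹) * (g : Ω)⁻¹) * (s : Ω) := by rw [h3]
      _ = (s : Ω)⁻¹ * (g : Ω) * (s : Ω) * ψ u * ((s : Ω)⁻¹ * (g : Ω) * (s : Ω))⁻¹ := by group
  apply Nat.card_le_card_of_injective (fun g => (⟨_, hmem g⟩ : normalizerIn S ψ.range))
  intro g g' hgg'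
  have h1 : (s : Ω)⁻¹ * (g : Ω) * (s : Ω) = (s : Ω)⁻¹ * (g' : Ω) * (s : Ω) :=
    congrArg (fun z : normalizerIn S ψ.range => (z : Ω)) hgg'
  apply Subtype.ext
  exact mul_left_cancel (mul_right_cancel h1)

/-- A conjugate under `S` of a fully normalized subgroup is fully normalized. -/
theorem isFullyNormalized_of_conj [Finite S] {F : FusionSystem S} {P : Subgroup Ω} {φ ψ : P →* Ω}
    (hφ : φ ∈ F.Hom P) (hψ : ψ ∈ F.Hom P) (s : S) (h : ∀ u : P, φ u = (s : Ω) * ψ u * (s : Ω)⁻¹)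
    (hfn : F.IsFullyNormalized φ.range) : F.IsFullyNormalized ψ.range := by
  refine ⟨hom_range_le F hψ, fun Q'' hQ'' => ?_⟩
  have h1 : F.IsConj φ.range Q'' :=
    isConj_trans F (isConj_trans F (isConj_symm F ⟨φ, hφ, rfl⟩) ⟨ψ, hψ, rfl⟩) hQ''
  exact (hfn.2 Q'' h1).trans (card_normalizerIn_conj_le (F.le_of_mem hψ).2 s h)

/-- If the centralizer of a receptive subgroup lies in the strongly closed subgroup `T`, so do the
centralizers of its conjugates. -/
theorem centralizerIn_le_of_conj {F : FusionSystem S} {T Q Q' : Subgroup Ω} (hT : F.StronglyClosed T)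
    (hrec : F.IsReceptive Q) (hC : centralizerIn S Q ≤ T) (hQQ' : F.IsConj Q Q') :
    centralizerIn S Q' ≤ T := by
  obtain ⟨e, he⟩ := (isConj_iff F).mp (isConj_symm F hQQ')
  obtain ⟨ψ, hψ, hψc⟩ := exists_hom_centralizerIn_of_receptive hrec he
  intro c hc
  exact Cfsg.Agent.H26.Fus.mem_of_map_mem_stronglyClosed F hT hψ ⟨c, hc⟩ (hC (hψc ⟨c, hc⟩))

end Cfsg.Agent.Lib.Helper27.PPow
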