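import Mathlib
import Cfsg.Agent.Lib.Helper27.PPowF
import Cfsg.Agent.H26.PPowerIndex

set_option autoImplicit false

/-! Saturation of the subsystem attached to realizing data. -/

namespace Cfsg.Agent.Lib.Helper27.PPow

open Cfsg Cfsg.FusionSystem Cfsg.Agent.Lib.Helper27

variable {Ω : Type*} [Group Ω] {S : Subgroup Ω} {𝒢 : Type*} [Group 𝒢] {A : Type*} [CommGroup A]

theorem extender_mono' {T S' R : Subgroup Ω} (hTS : T ≤ S') (φ : R →* Ω) :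
    extender T R φ ≤ extender S' R φ := by
  unfold extender
  apply Subgroup.closure_mono
  rintro g ⟨hgT, hgN, h, hh, hx⟩
  exact ⟨hTS hgT, hgN, h, hTS hh, hx⟩

theorem sylow_transport {M : Type*} [Group M] {p : ℕ} {G G' X X' : Subgroup M} (hG : G' = G) (hX : X' = X)
    (h : ∃ R : Sylow p G, (R : Subgroup G) = X.subgroupOf G) :
    ∃ R : Sylow p G', (R : Subgroup G') = X'.subgroupOf G' := by
  subst hG hX
  exact h

variable {F : FusionSystem S} {T : Subgroup Ω} {p : ℕ}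

/-- Every map of `F` from a subgroup of `T` becomes a map of the subsystem after a conjugation by a power of
a fixed element of `S` outside `T`. -/
theorem RData.adjust [Fact p.Prime] (D : RData F T p 𝒢 A) {W : Subgroup Ω} (hWT : W ≤ T) {z : Ω}
    (hzS : z ∈ S) (hzT : z ∉ T) {χ : W →* Ω} (hχ : χ ∈ F.Hom W) :
    ∃ j : ℕ, ∃ ψ ∈ D.sys.Hom W, ∀ u : W, ψ u = z ^ j * χ u * (z ^ j)⁻¹ := by
  have hp : p.Prime := Fact.out
  obtain ⟨e, he⟩ := D.hreal W χ hχ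
  obtain ⟨s, hs⟩ := D.hcover e
  obtain ⟨i, t, ht, hst⟩ := D.hgen z hzS hzT s s.2
  have hTS : T ≤ S := D.hT.1
  have hs' : s = ⟨t, hTS ht⟩ * (⟨z, hzS⟩ : S) ^ i := Subtype.ext hst
  have hVs : D.V (D.ι s) = D.V (D.ι ⟨z, hzS⟩) ^ i := by
    rw [hs', map_mul, map_mul, map_pow, map_pow, (D.hV ⟨t, hTS ht⟩).mpr ht, one_mul]
  have hχT : ∀ x : W, χ x ∈ T := fun x => D.hT.2 W hWT χ hχ x
  have hzj : z ^ ((p - 1) * i) ∈ S := S.pow_mem hzS _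
  have hcj : conjHom T (z ^ ((p - 1) * i)) ∈ F.Hom T := F.conj_mem hTS hzj
  refine ⟨(p - 1) * i, (conjHom T (z ^ ((p - 1) * i))).comp (χ.codRestrict T hχT),
    ⟨F.comp_mem hχ hcj hχT, hWT, D.ι ⟨z ^ ((p - 1) * i), hzj⟩ * e, ?_,
      impl_comp D.ι (F.le_of_mem hχ).2 he (impl_conj D.ι hzj) hχT⟩, fun u => rfl⟩
  have h0 : (⟨z ^ ((p - 1) * i), hzj⟩ : S) = (⟨z, hzS⟩ : S) ^ ((p - 1) * i) := Subtype.ext rfl
  rw [map_mul, ← hs, hVs, h0, map_pow, map_pow, ← pow_add]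
  have h1 : (p - 1) * i + i = p * i := by
    have := hp.pos
    calc (p - 1) * i + i = ((p - 1) + 1) * i := by ring
      _ = p * i := by rw [Nat.sub_add_cancel this]
  rw [h1, pow_mul, D.hA, one_pow]

theorem RData.autGroup_eq_of_centralizer [Fact p.Prime] (D : RData F T p 𝒢 A) {Q : Subgroup Ω}
    (hQT : Q ≤ T) {z : Ω} (hz : z ∈ centralizerIn S Q) (hzT : z ∉ T) :
    D.sys.autGroup Q = F.autGroup Q := by
  apply le_antisymm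
  · exact Cfsg.Agent.H26.autGroup_le_of_subsystem D.sys_le hQT D.hT.1
  · intro α hα
    rw [mem_autGroup_iff F (hQT.trans D.hT.1)] at hα
    rw [mem_autGroup_iff D.sys hQT]
    exact D.mem_of_centralizer hQT hz hzT hα

theorem autInducedBy_mono' {K K' P : Subgroup Ω} (h : K ≤ K') : autInducedBy K P ≤ autInducedBy K' P := by
  unfold autInducedBy
  apply Subgroup.closure_mono
  rintro α ⟨g, hg, hα⟩
  exact ⟨g, h hg, hα⟩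

theorem RData.autInducedBy_eq_of_centralizer (D : RData F T p 𝒢 A) {Q : Subgroup Ω}
    {z : Ω} (hz : z ∈ centralizerIn S Q) (hzT : z ∉ T) :
    autInducedBy T Q = autInducedBy S Q := by
  apply le_antisymm
  · exact autInducedBy_mono' D.hT.1
  · intro α hα
    rw [mem_autInducedBy_iff] at hα ⊢
    obtain ⟨g, hg, h⟩ := hα
    obtain ⟨i, t, ht, hgt⟩ := D.hgen z hz.1 hzT g hg
    refine ⟨t, ht, fun x => ?_⟩
    rw [h x, hgt]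
    have hc : Commute z (x : Ω) := ((Subgroup.mem_centralizer_iff.mp hz.2) (x : Ω) x.2).symm
    have hc' : Commute (z ^ i) (x : Ω) := hc.pow_left i
    calc t * z ^ i * (x : Ω) * (t * z ^ i)⁻¹ = t * (z ^ i * (x : Ω)) * (z ^ i)⁻¹ * t⁻¹ := by group
      _ = t * ((x : Ω) * z ^ i) * (z ^ i)⁻¹ * t⁻¹ := by rw [hc'.eq]
      _ = t * (x : Ω) * t⁻¹ := by group

theorem RData.fa_caseA [Fact p.Prime] (D : RData F T p 𝒢 A) {Q : Subgroup Ω}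
    (hQT : Q ≤ T) {z : Ω} (hz : z ∈ centralizerIn S Q) (hzT : z ∉ T) (hfa : F.IsFullyAutomized p Q) :
    D.sys.IsFullyAutomized p Q :=
  ⟨hQT, sylow_transport (D.autGroup_eq_of_centralizer hQT hz hzT) (D.autInducedBy_eq_of_centralizer hz hzT)
    hfa.2⟩

theorem RData.receptive_caseA [Fact p.Prime] (D : RData F T p 𝒢 A) {Q : Subgroup Ω}
    (hQT : Q ≤ T) {z : Ω} (hz : z ∈ centralizerIn S Q) (hzT : z ∉ T) (hrec : F.IsReceptive Q) :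
    D.sys.IsReceptive Q := by
  refine ⟨hQT, ?_⟩
  intro R φ₁ hφ₁ hφ₁r
  have hφ₁F := D.sys_le R hφ₁
  have hRT : R ≤ T := (D.sys.le_of_mem hφ₁).1
  obtain ⟨ψ, hψ, hψe⟩ := hrec.2 R φ₁ hφ₁F hφ₁r
  have hNN : extender T R φ₁ ≤ extender S R φ₁ := extender_mono' D.hT.1 φ₁
  have hNT : extender T R φ₁ ≤ T := extender_le_S φ₁
  have hψN := hom_restrict F hNN hψ
  obtain ⟨j, ψ', hψ', hψ'e⟩ := D.adjust hNT hz.1 hzT hψN
  refine ⟨ψ', hψ', ?_⟩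
  intro x hxR hxN
  rw [hψ'e]
  show z ^ j * ψ ⟨x, hNN hxN⟩ * (z ^ j)⁻¹ = φ₁ ⟨x, hxR⟩
  rw [hψe x hxR (hNN hxN)]
  have hmem : φ₁ ⟨x, hxR⟩ ∈ Q := by
    rw [← hφ₁r]
    exact ⟨_, rfl⟩
  have hc : Commute z (φ₁ ⟨x, hxR⟩) := ((Subgroup.mem_centralizer_iff.mp hz.2) _ hmem).symm
  have hc' : Commute (z ^ j) (φ₁ ⟨x, hxR⟩) := hc.pow_left j
  rw [hc'.eq, mul_inv_cancel_right]

/-- The automizer of the subsystem is normalized by the automizer of `F`. -/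
theorem RData.conj_mem_autGroup (D : RData F T p 𝒢 A) {Q : Subgroup Ω} (hQT : Q ≤ T) {g n : MulAut Q}
    (hg : g ∈ F.autGroup Q) (hn : n ∈ D.sys.autGroup Q) : g * n * g⁻¹ ∈ D.sys.autGroup Q := by
  have hQS : Q ≤ S := hQT.trans D.hT.1
  have hnF : n ∈ F.autGroup Q := Cfsg.Agent.H26.autGroup_le_of_subsystem D.sys_le hQT D.hT.1 hn
  have hgnF : g * n * g⁻¹ ∈ F.autGroup Q :=
    (F.autGroup Q).mul_mem ((F.autGroup Q).mul_mem hg hnF) ((F.autGroup Q).inv_mem hg)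
  rw [mem_autGroup_iff F hQS] at hg
  rw [mem_autGroup_iff D.sys hQT] at hn ⊢
  obtain ⟨-, -, e, hVe, he⟩ := hn
  obtain ⟨f, hf⟩ := D.hreal Q _ hg
  refine ⟨(mem_autGroup_iff F hQS _).mp hgnF, hQT, f * e * f⁻¹, ?_, ?_⟩
  · rw [map_mul, map_mul, map_inv, hVe, mul_one, mul_inv_cancel]
  · intro u hu hφu
    have h1 : D.ι ⟨((g (g⁻¹ u) : Q) : Ω), hQS (g (g⁻¹ u)).2⟩ =
        f * D.ι ⟨((g⁻¹ u : Q) : Ω), hQS (g⁻¹ u).2⟩ * f⁻¹ := hf (g⁻¹ u) _ _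
    have h2 : D.ι ⟨((n (g⁻¹ u) : Q) : Ω), hQS (n (g⁻¹ u)).2⟩ =
        e * D.ι ⟨((g⁻¹ u : Q) : Ω), hQS (g⁻¹ u).2⟩ * e⁻¹ := he (g⁻¹ u) _ _
    have h3 : D.ι ⟨((g (n (g⁻¹ u)) : Q) : Ω), hQS (g (n (g⁻¹ u))).2⟩ =
        f * D.ι ⟨((n (g⁻¹ u) : Q) : Ω), hQS (n (g⁻¹ u)).2⟩ * f⁻¹ := hf (n (g⁻¹ u)) _ _
    have h4 : (⟨((g (g⁻¹ u) : Q) : Ω), hQS (g (g⁻¹ u)).2⟩ : S) = ⟨u, hu⟩ :=
      Subtype.ext (congrArg (fun y : Q => (y : Ω)) (MulAut.apply_inv_self Q g u))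
    rw [h4] at h1
    show D.ι ⟨((g (n (g⁻¹ u)) : Q) : Ω), _⟩ = _
    rw [h3, h2]
    have h5 : D.ι ⟨((g⁻¹ u : Q) : Ω), hQS (g⁻¹ u).2⟩ = f⁻¹ * D.ι ⟨u, hu⟩ * f := by
      rw [h1]; group
    rw [h5]
    group

theorem RData.inf_autInducedBy_le (D : RData F T p 𝒢 A) {Q : Subgroup Ω} (hQT : Q ≤ T)
    (hC : ∀ ρ ∈ F.Hom Q, centralizerIn S ρ.range ≤ T) :
    D.sys.autGroup Q ⊓ autInducedBy S Q ≤ autInducedBy T Q := by
  have hQS : Q ≤ S := hQT.trans D.hT.1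
  intro α hα
  obtain ⟨hαE, hαS⟩ := Subgroup.mem_inf.mp hα
  rw [mem_autGroup_iff D.sys hQT] at hαE
  rw [mem_autInducedBy_iff] at hαS
  rw [mem_autInducedBy_iff]
  obtain ⟨s, hs, hsα⟩ := hαS
  obtain ⟨-, -, e, hVe, he⟩ := hαE
  refine ⟨s, ?_, hsα⟩
  refine D.mem_of_conj hQT hC (e₁ := 1) (e₂ := e) (map_one _) hVe ⟨s, hs⟩ ?_
  intro u hu
  have h1 : D.ι ⟨((α u : Q) : Ω), hQS (α u).2⟩ = e * D.ι ⟨u, hu⟩ * e⁻¹ := he u hu _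
  rw [← h1]
  have h2 : (⟨((α u : Q) : Ω), hQS (α u).2⟩ : S) = ⟨s, hs⟩ * ⟨u, hu⟩ * ⟨s, hs⟩⁻¹ := Subtype.ext (hsα u)
  rw [h2, map_mul, map_mul, map_inv, one_mul, inv_one, mul_one]

theorem RData.fa_caseB [Finite S] [Fact p.Prime] (hS : IsPGroup p S) (D : RData F T p 𝒢 A)
    {Q : Subgroup Ω} (hQT : Q ≤ T) (hC : ∀ ρ ∈ F.Hom Q, centralizerIn S ρ.range ≤ T)
    (hfa : F.IsFullyAutomized p Q) : D.sys.IsFullyAutomized p Q := by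
  obtain ⟨hQS, R, hR⟩ := hfa
  haveI : Finite Q := Finite.of_injective (Subgroup.inclusion hQS) (Subgroup.inclusion_injective hQS)
  haveI : Finite (MulAut Q) := inferInstance
  exact ⟨hQT, exists_sylow_of_normal (Cfsg.Agent.H26.autGroup_le_of_subsystem D.sys_le hQT D.hT.1)
    (fun g hg n hn => D.conj_mem_autGroup hQT hg hn) R hR
    (isPGroup_autInducedBy (hS.to_le D.hT.1) Q) (autInducedBy_le_autGroup D.sys hQT)
    (autInducedBy_mono' D.hT.1) (D.inf_autInducedBy_le hQT hC)⟩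

theorem RData.receptive_caseB (D : RData F T p 𝒢 A) {Q : Subgroup Ω} (hQT : Q ≤ T)
    (hC : ∀ Q', F.IsConj Q Q' → centralizerIn S Q' ≤ T) (hrec : F.IsReceptive Q) :
    D.sys.IsReceptive Q := by
  have hTS : T ≤ S := D.hT.1
  refine ⟨hQT, ?_⟩
  intro R φ₁ hφ₁ hφ₁r
  have hφ₁F := D.sys_le R hφ₁
  have hRT : R ≤ T := (D.sys.le_of_mem hφ₁).1
  obtain ⟨ψ, hψ, hψe⟩ := hrec.2 R φ₁ hφ₁F hφ₁r
  have hNN : extender T R φ₁ ≤ extender S R φ₁ := extender_mono' D.hT.1 φ₁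
  have hNT : extender T R φ₁ ≤ T := extender_le_S φ₁
  have hψN := hom_restrict F hNN hψ
  obtain ⟨s, ψ', hψ', hψ's⟩ := D.frattini hNT hψN
  have hRN : R ≤ extender T R φ₁ := le_extender hRT φ₁ (D.sys.le_of_mem hφ₁).2
  have hsT : (s : Ω) ∈ T := by
    have hψ'' := hψ'
    have hφ₁' := hφ₁
    obtain ⟨-, -, e₁, hV₁, he₁⟩ := hψ''
    obtain ⟨-, -, e₂, hV₂, he₂⟩ := hφ₁'
    have hCR : ∀ ρ ∈ F.Hom R, centralizerIn S ρ.range ≤ T := by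
      intro ρ hρ
      apply hC
      exact isConj_trans F (isConj_symm F ⟨φ₁, hφ₁F, hφ₁r⟩) ⟨ρ, hρ, rfl⟩
    apply D.mem_of_conj hRT hCR hV₁ hV₂ s
    intro u hu
    have hφ₁S : φ₁ u ∈ S := (F.le_of_mem hφ₁F).2 u
    have hψ'S : ψ' ⟨u, hRN u.2⟩ ∈ S := hTS ((D.sys.le_of_mem hψ').2 _)
    have h1 : D.ι ⟨φ₁ u, hφ₁S⟩ = e₂ * D.ι ⟨u, hu⟩ * e₂⁻¹ := he₂ u hu _
    have h2 : D.ι ⟨ψ' ⟨u, hRN u.2⟩, hψ'S⟩ = e₁ * D.ι ⟨u, hu⟩ * e₁⁻¹ := he₁ ⟨u, hRN u.2⟩ hu _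
    rw [← h1, ← h2]
    have h3 : φ₁ u = (s : Ω) * ψ' ⟨u, hRN u.2⟩ * (s : Ω)⁻¹ := by
      rw [← hψ's ⟨u, hRN u.2⟩]
      exact (hψe u u.2 (hNN (hRN u.2))).symm
    have h4 : (⟨φ₁ u, hφ₁S⟩ : S) = s * ⟨ψ' ⟨u, hRN u.2⟩, hψ'S⟩ * s⁻¹ := Subtype.ext h3
    rw [h4, map_mul, map_mul, map_inv]
  have hψ'T : ∀ x, ψ' x ∈ T := (D.sys.le_of_mem hψ').2
  refine ⟨(conjHom T s).comp (ψ'.codRestrict T hψ'T),
    D.sys.comp_mem hψ' (D.sys.conj_mem le_rfl hsT) hψ'T, ?_⟩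
  intro x hxR hxN
  show (s : Ω) * ψ' ⟨x, hxN⟩ * (s : Ω)⁻¹ = φ₁ ⟨x, hxR⟩
  rw [← hψ's ⟨x, hxN⟩]
  exact hψe x hxR (hNN hxN)

/-- The subsystem attached to realizing data for a saturated system is saturated. -/
theorem RData.sys_saturated [Finite S] [Fact p.Prime] (hS : IsPGroup p S) (hF : F.IsSaturated p)
    (D : RData F T p 𝒢 A) : D.sys.IsSaturated p := by
  intro P hPT
  have hTS := D.hT.1
  obtain ⟨P₀, ⟨φ, hφ, hφr⟩, hfn⟩ := exists_fullyNormalized_conj F (hPT.trans hTS)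
  obtain ⟨s, ψ, hψ, hψs⟩ := D.frattini hPT hφ
  have hψF := D.sys_le P hψ
  have hfn' : F.IsFullyNormalized ψ.range := isFullyNormalized_of_conj hφ hψF s hψs (hφr ▸ hfn)
  obtain ⟨hfa, hrec, -⟩ := fa_receptive_of_fullyNormalized hS hF hfn'
  have hQT : ψ.range ≤ T := by
    rintro _ ⟨u, rfl⟩
    exact (D.sys.le_of_mem hψ).2 u
  refine ⟨ψ.range, ⟨ψ, hψ, rfl⟩, ?_⟩
  by_cases hc : centralizerIn S ψ.range ≤ T
  · have hC := fun Q' h => centralizerIn_le_of_conj (Q' := Q') D.hT hrec hc h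
    exact ⟨D.fa_caseB hS hQT (fun ρ hρ => hC _ ⟨ρ, hρ, rfl⟩) hfa, D.receptive_caseB hQT hC hrec⟩
  · obtain ⟨z, hz, hzT⟩ := SetLike.not_le_iff_exists.mp hc
    exact ⟨D.fa_caseA hQT hz hzT hfa, D.receptive_caseA hQT hz hzT hrec⟩

end Cfsg.Agent.Lib.Helper27.PPow
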