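import Mathlib
import Cfsg.Agent.Lib.Helper27.PPowG

set_option autoImplicit false

/-! The subsystem attached to realizing data has `p`-power index. -/

namespace Cfsg.Agent.Lib.Helper27.PPow

open Cfsg Cfsg.FusionSystem Cfsg.Agent.Lib.Helper27

variable {Ω : Type*} [Group Ω] {S : Subgroup Ω} {𝒢 : Type*} [Group 𝒢] {A : Type*} [CommGroup A]
variable {F : FusionSystem S} {T : Subgroup Ω} {p : ℕ}

/-- Automorphisms of order prime to `p` belong to the subsystem. -/
theorem RData.coprime_mem_autGroup [Fact p.Prime] (D : RData F T p 𝒢 A) {P : Subgroup Ω} (hPT : P ≤ T)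
    {γ : MulAut P} (hγ : γ ∈ F.autGroup P) (hcop : Nat.Coprime (orderOf γ) p) :
    γ ∈ D.sys.autGroup P := by
  have hp : p.Prime := Fact.out
  have hPS : P ≤ S := hPT.trans D.hT.1
  by_cases h1 : orderOf γ = 1
  · rw [orderOf_eq_one_iff] at h1
    rw [h1]
    exact (D.sys.autGroup P).one_mem
  have h0 : orderOf γ ≠ 0 := by
    intro h0
    rw [h0, Nat.coprime_zero_left] at hcop
    exact hp.one_lt.ne' hcop
  have hlt : 1 < orderOf γ := by omega
  obtain ⟨k, -, hk⟩ := Nat.exists_mul_mod_eq_one_of_coprime hcop.symm hlt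
  have hpow : γ ^ (p * k) = γ := by
    rw [← pow_mod_orderOf, hk, pow_one]
  have hγF := (mem_autGroup_iff F hPS γ).mp hγ
  obtain ⟨e, he⟩ := D.hreal P _ hγF
  have h2 := impl_pow D.ι hPS he (p * k)
  rw [hpow] at h2
  rw [mem_autGroup_iff D.sys hPT]
  refine ⟨hγF, hPT, e ^ (p * k), ?_, h2⟩
  rw [map_pow, pow_mul, D.hA, one_pow]

theorem RData.sys_hasPPowerIndexIn [Fact p.Prime] (D : RData F T p 𝒢 A)
    (hhyp : F.hyperfocalSubgroup p ≤ T) : D.sys.HasPPowerIndexIn F p := by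
  refine ⟨D.sys_le, hhyp, fun P hPT => ?_⟩
  rw [Subgroup.map_le_iff_le_comap]
  unfold pResidual
  rw [Subgroup.closure_le]
  intro γ hγ
  rw [Set.mem_ofPred_eq] at hγ
  show ((γ : MulAut P)) ∈ D.sys.autGroup P
  apply D.coprime_mem_autGroup hPT γ.2
  rw [Subgroup.orderOf_coe]
  exact hγ

end Cfsg.Agent.Lib.Helper27.PPow
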