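import Mathlib
import Cfsg.Agent.Lib.Helper27.PPowC
import Cfsg.Agent.Lib.Helper27.PPowH
import Cfsg.Agent.Lib.Helper27.AbelianIndexP
import Cfsg.Agent.S5092

set_option autoImplicit false

/-! Existence of the saturated subsystem of `p`-power index over a subgroup of index `p` containing the
hyperfocal subgroup. -/

namespace Cfsg.Agent.Lib.Helper27.PPow

open Cfsg Cfsg.FusionSystem Cfsg.Agent.Lib.Helper27
open scoped commutatorElement

universe u

variable {Ω : Type u} [Group Ω] {S : Subgroup Ω} [Finite S] {p : ℕ} [Fact p.Prime]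

theorem exists_of_hom (hS : IsPGroup p S) {F : FusionSystem S} (hF : F.IsSaturated p)
    {T : Subgroup Ω} (hTS : T ≤ S) (hT : F.hyperfocalSubgroup p ≤ T)
    {A : Type*} [CommGroup A] (hcard : Nat.card A = p) (lam : S →* A) (hsurj : Function.Surjective lam)
    (hker : ∀ s : S, lam s = 1 ↔ (s : Ω) ∈ T) :
    ∃ E : FusionSystem T, E.IsSaturated p ∧ E.HasPPowerIndexIn F p ∧ F.StronglyClosed T := by
  have hp : p.Prime := Fact.out
  have hA : ∀ a : A, a ^ p = 1 := fun a => by rw [← hcard]; exact pow_card_eq_one'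
  haveI : Finite A := Nat.finite_of_card_ne_zero (by rw [hcard]; exact hp.ne_zero)
  have hcomm : ⁅(S : Subgroup Ω), (S : Subgroup Ω)⁆ ≤ T := by
    rw [Subgroup.commutator_le]
    intro g₁ hg₁ g₂ hg₂
    have hmem : ⁅g₁, g₂⁆ ∈ S := by
      rw [commutatorElement_def]
      exact S.mul_mem (S.mul_mem (S.mul_mem hg₁ hg₂) (S.inv_mem hg₁)) (S.inv_mem hg₂)
    have h1 : (⟨⁅g₁, g₂⁆, hmem⟩ : S) = ⁅(⟨g₁, hg₁⟩ : S), ⟨g₂, hg₂⟩⁆ := Subtype.ext rfl
    rw [← hker ⟨⁅g₁, g₂⁆, hmem⟩, h1, map_commutatorElement, commutatorElement_eq_one_iff_commute]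
    exact Commute.all _ _
  have hfoc : F.focalSubgroup ≤ T := by
    rw [Cfsg.Agent.S5092.result p hS F hF]
    exact sup_le hT hcomm
  have hstab : ∀ (Q : Subgroup Ω) (θ : Q →* Ω) (hθ : θ ∈ F.Hom Q) (a : Q),
      lam ⟨θ a, (F.le_of_mem hθ).2 a⟩ = lam ⟨a, hom_le F hθ a.2⟩ := by
    intro Q θ hθ a
    have h1 : (a : Ω)⁻¹ * θ a ∈ T := hfoc (Subgroup.subset_closure ⟨Q, θ, a, hθ, rfl⟩)
    have h2 : (⟨θ a, (F.le_of_mem hθ).2 a⟩ : S) = ⟨a, hom_le F hθ a.2⟩ * ⟨(a : Ω)⁻¹ * θ a, hTS h1⟩ :=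
      Subtype.ext (by show θ a = (a : Ω) * ((a : Ω)⁻¹ * θ a); group)
    rw [h2, map_mul, (hker ⟨(a : Ω)⁻¹ * θ a, hTS h1⟩).mpr h1, mul_one]
  obtain ⟨𝒢, _, _, ι, V, d, hd, hVι, hreal, hcent⟩ := exists_realizer hS hF lam hA hstab
  have hTsc : F.StronglyClosed T := by
    refine ⟨hTS, fun R hRT φ hφ x => ?_⟩
    have h1 := hstab R φ hφ x
    rw [(hker ⟨x, hom_le F hφ x.2⟩).mpr (hRT x.2)] at h1
    exact (hker _).mp h1
  have hcop : Nat.Coprime d p := ((Nat.Prime.coprime_iff_not_dvd hp).mpr hd).symm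
  let D : RData F T p 𝒢 A :=
  { ι := ι
    V := V
    hT := hTsc
    hA := hA
    hV := by
      intro t
      rw [hVι]
      constructor
      · intro h
        rw [← hker]
        apply zpow_eq_one_of_coprime (lam t) (hA _) (d : ℤ)
        · rw [Int.natCast_dvd_natCast]; exact hd
        · rw [zpow_natCast]; exact h
      · intro h
        rw [(hker t).mpr h, one_pow]
    hcover := by
      intro e
      obtain ⟨s', hs'⟩ := hsurj (V e)
      obtain ⟨d', -, hd'⟩ := Nat.exists_mul_mod_eq_one_of_coprime hcop hp.one_lt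
      refine ⟨s' ^ d', ?_⟩
      rw [hVι, map_pow, hs', ← pow_mul, mul_comm, pow_eq_pow_mod _ (hA (V e)), hd', pow_one]
    hreal := by
      intro P φ hφ
      obtain ⟨e, he⟩ := hreal P φ hφ
      exact ⟨e, fun u hu hφu => he u⟩
    hcent := by
      intro P hPT hC f hf
      apply hcent P (hPT.trans hTS) (fun x => (hker _).mpr (hPT x.2)) ?_ f (fun u => hf u _)
      intro ρ hρ c hc
      apply (hker c).mpr
      apply hC ρ hρ
      refine ⟨c.2, ?_⟩
      show (c : Ω) ∈ Subgroup.centralizer (ρ.range : Set Ω)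
      rw [Subgroup.mem_centralizer_iff]
      rintro _ ⟨x, rfl⟩
      exact (hc x).symm
    hgen := by
      intro z hzS hzT s hs
      have hz1 : lam ⟨z, hzS⟩ ≠ 1 := fun h => hzT ((hker _).mp h)
      have htop := zpowers_eq_top_of_prime_card hcard hz1
      have hmem : lam ⟨s, hs⟩ ∈ Subgroup.zpowers (lam ⟨z, hzS⟩) := by rw [htop]; trivial
      rw [← mem_powers_iff_mem_zpowers, Submonoid.mem_powers_iff] at hmem
      obtain ⟨i, hi⟩ := hmem
      have hzi : z ^ i ∈ S := S.pow_mem hzS i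
      have hmemS : s * (z ^ i)⁻¹ ∈ S := S.mul_mem hs (S.inv_mem hzi)
      refine ⟨i, s * (z ^ i)⁻¹, ?_, by group⟩
      rw [← hker ⟨s * (z ^ i)⁻¹, hmemS⟩]
      have h1 : (⟨s * (z ^ i)⁻¹, hmemS⟩ : S) = ⟨s, hs⟩ * (⟨z, hzS⟩ ^ i)⁻¹ := Subtype.ext rfl
      rw [h1, map_mul, map_inv, map_pow, hi, mul_inv_cancel] }
  exact ⟨D.sys, D.sys_saturated hS hF, D.sys_hasPPowerIndexIn hT, hTsc⟩

theorem exists_of_index_prime (hS : IsPGroup p S) {F : FusionSystem S} (hF : F.IsSaturated p)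
    {T : Subgroup Ω} (hTS : T ≤ S) (hT : F.hyperfocalSubgroup p ≤ T)
    (hidx : (T.subgroupOf S).index = p) :
    ∃ E : FusionSystem T, E.IsSaturated p ∧ E.HasPPowerIndexIn F p ∧ F.StronglyClosed T := by
  haveI hN : (T.subgroupOf S).Normal := normal_of_index_prime_of_isPGroup hS hidx
  have hcard : Nat.card (S ⧸ T.subgroupOf S) = p := by
    rw [← Subgroup.index_eq_card]; exact hidx
  haveI : IsCyclic (S ⧸ T.subgroupOf S) := isCyclic_of_prime_card hcard
  letI : CommGroup (S ⧸ T.subgroupOf S) := IsCyclic.commGroup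
  exact exists_of_hom hS hF hTS hT hcard (QuotientGroup.mk' (T.subgroupOf S))
    (QuotientGroup.mk'_surjective _)
    (fun s => by rw [QuotientGroup.mk'_apply, QuotientGroup.eq_one_iff, Subgroup.mem_subgroupOf])

end Cfsg.Agent.Lib.Helper27.PPow
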