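import Mathlib
import Cfsg.Agent.Lib.Helper27.PPowI
import Cfsg.Agent.Lib.Helper27.FusionPPower

set_option autoImplicit false

/-! Existence of the saturated subsystem of `p`-power index over any subgroup containing the hyperfocal
subgroup. -/

namespace Cfsg.Agent.Lib.Helper27.PPow

open Cfsg Cfsg.FusionSystem Cfsg.Agent.Lib.Helper27

/-- In a finite `p`-group every proper subgroup lies in a subgroup of index `p`. -/
theorem exists_index_prime_ge {G : Type*} [Group G] [Finite G] {p : ℕ} [Fact p.Prime] (hG : IsPGroup p G)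
    {H : Subgroup G} (hH : H ≠ ⊤) : ∃ K : Subgroup G, H ≤ K ∧ K.index = p := by
  have hp : p.Prime := Fact.out
  obtain ⟨N, hN⟩ := IsPGroup.iff_card.mp hG
  obtain ⟨a, ha⟩ := IsPGroup.iff_card.mp (hG.to_subgroup H)
  have hlt : a < N := by
    have h1 : Nat.card H ≤ Nat.card G := Subgroup.card_le_card_group H
    have h2 : Nat.card H ≠ Nat.card G := fun h => hH ((Subgroup.card_eq_iff_eq_top H).mp h)
    have h3 : p ^ a < p ^ N := by rw [← ha, ← hN]; omega
    exact (Nat.pow_lt_pow_iff_right hp.one_lt).mp h3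
  have hdvd : p ^ (N - 1) ∣ Nat.card G := by
    rw [hN]; exact pow_dvd_pow p (Nat.sub_le N 1)
  obtain ⟨K, hK, hHK⟩ := Sylow.exists_subgroup_card_pow_prime_le p hdvd H ha (by omega)
  refine ⟨K, hHK, ?_⟩
  have h1 := K.card_mul_index
  rw [hK, hN] at h1
  have h2 : p ^ N = p ^ (N - 1) * p := by
    rw [← pow_succ]
    congr 1
    omega
  rw [h2] at h1
  exact Nat.eq_of_mul_eq_mul_left (pow_pos hp.pos _) h1

universe u

variable {Ω : Type u} [Group Ω] {p : ℕ} [Fact p.Prime]

theorem exists_pPowerIndex_aux : ∀ (n : ℕ) (S : Subgroup Ω) [Finite S], Nat.card S = n → IsPGroup p S →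
    ∀ (F : FusionSystem S), F.IsSaturated p → ∀ T : Subgroup Ω, T ≤ S → F.hyperfocalSubgroup p ≤ T →
    ∃ E : FusionSystem T, E.IsSaturated p ∧ E.HasPPowerIndexIn F p := by
  intro n
  induction n using Nat.strong_induction_on with
  | _ n IH =>
    intro S _ hn hS F hF T hTS hT
    have hp : p.Prime := Fact.out
    by_cases hST : S ≤ T
    · have hTeq : T = S := le_antisymm hTS hST
      subst hTeq
      exact ⟨F, hF, fun P => subset_rfl, hT, fun P _ => Subgroup.map_subtype_le _⟩
    · have hne : T.subgroupOf S ≠ ⊤ := by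
        intro h
        apply hST
        rwa [Subgroup.subgroupOf_eq_top] at h
      obtain ⟨K, hHK, hKidx⟩ := exists_index_prime_ge hS hne
      have hT₁S : K.map S.subtype ≤ S := Subgroup.map_subtype_le K
      have hTT₁ : T ≤ K.map S.subtype := by
        intro t ht
        exact ⟨⟨t, hTS ht⟩, hHK (Subgroup.mem_subgroupOf.mpr ht), rfl⟩
      have hK : (K.map S.subtype).subgroupOf S = K :=
        Subgroup.comap_map_eq_self_of_injective (Subgroup.subtype_injective S) K
      have hidx : ((K.map S.subtype).subgroupOf S).index = p := by rw [hK]; exact hKidx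
      obtain ⟨E₁, hE₁sat, hE₁idx, hT₁sc⟩ := exists_of_index_prime hS hF hT₁S (hT.trans hTT₁) hidx
      haveI : Finite (K.map S.subtype) :=
        Finite.of_injective (Subgroup.inclusion hT₁S) (Subgroup.inclusion_injective hT₁S)
      have hcard : Nat.card (K.map S.subtype) < n := by
        rw [Subgroup.card_map_of_injective (Subgroup.subtype_injective S)]
        have h1 := K.card_mul_index
        rw [hKidx, hn] at h1
        have h2 : 0 < Nat.card K := Nat.card_pos
        have h3 := hp.two_le
        nlinarith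
      have hhyp : E₁.hyperfocalSubgroup p = F.hyperfocalSubgroup p :=
        hyperfocal_eq_of_pPowerIndex hS F E₁ hE₁idx hT₁sc
      obtain ⟨E, hEsat, hEidx⟩ := IH (Nat.card (K.map S.subtype)) hcard (K.map S.subtype) rfl
        (hS.to_le hT₁S) E₁ hE₁sat T hTT₁ (hhyp ▸ hT)
      exact ⟨E, hEsat, hasPPowerIndexIn_trans hS F E₁ hE₁idx hT₁sc E hEidx⟩

/-- Existence of a saturated subsystem of `p`-power index over any subgroup containing the hyperfocal
subgroup. -/
theorem exists_pPowerIndex {S : Subgroup Ω} [Finite S] (hS : IsPGroup p S) {F : FusionSystem S}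
    (hF : F.IsSaturated p) {T : Subgroup Ω} (hTS : T ≤ S) (hT : F.hyperfocalSubgroup p ≤ T) :
    ∃ E : FusionSystem T, E.IsSaturated p ∧ E.HasPPowerIndexIn F p :=
  exists_pPowerIndex_aux (Nat.card S) S rfl hS F hF T hTS hT

end Cfsg.Agent.Lib.Helper27.PPow
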