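import Mathlib
import Cfsg.Agent.Lib.Helper27.PPowJ
import Cfsg.Agent.Lib.Helper27.ChiH
import Cfsg.Agent.H26.PrimeIndex
import Cfsg.Agent.H26.PPowerNormal
import Cfsg.Agent.H26.Hyperfocal

set_option autoImplicit false

/-! Subsystems of index prime to `p` and their subsystems of `p`-power index: the saturated subsystem of
`p`-power index of a subsystem `F'` of index prime to `p` in `F`, over a subgroup `T` containing the
hyperfocal subgroup of `F`, has index prime to `p` in the corresponding subsystem of `F`. -/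

namespace Cfsg.Agent.Lib.Helper27.RL

open Cfsg Cfsg.FusionSystem Cfsg.Agent.Lib.Helper27 Cfsg.Agent.H26 Cfsg.Agent.Lib.Helper27.PPow

universe u

variable {Ω : Type u} [Group Ω] {S : Subgroup Ω}

/-- An element of `p`-power order of `Aut_F(P)` lies in a subsystem of index prime to `p`. -/
theorem pElt_mem_of_primeIdx {p : ℕ} {F F' : FusionSystem S} (h : F'.HasPrimeToPIndexIn F p)
    {P : Subgroup Ω} (hPS : P ≤ S) {γ : MulAut P} (hγ : γ ∈ F.autGroup P) {k : ℕ}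
    (hk : orderOf γ = p ^ k) : γ ∈ F'.autGroup P := by
  apply h.2 P hPS
  refine ⟨⟨γ, hγ⟩, Subgroup.subset_closure ⟨k, ?_⟩, rfl⟩
  rw [← hk]
  exact Subgroup.orderOf_mk γ hγ

/-- A criterion for index prime to `p`. -/
theorem primeIdx_of_pElt {p : ℕ} {F F' : FusionSystem S} (hsub : F'.IsSubsystemOf F)
    (h : ∀ P : Subgroup Ω, P ≤ S → ∀ γ : MulAut P, γ ∈ F.autGroup P → ∀ k : ℕ, orderOf γ = p ^ k →
      γ ∈ F'.autGroup P) : F'.HasPrimeToPIndexIn F p := by
  refine ⟨hsub, fun P hPS => ?_⟩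
  rw [Subgroup.map_le_iff_le_comap, Subgroup.closure_le]
  rintro γ ⟨k, hk⟩
  apply h P hPS γ γ.2 k
  rw [← hk]
  exact (Subgroup.orderOf_coe γ)

theorem primeIdx_trans {p : ℕ} {F F' F'' : FusionSystem S} (h1 : F''.HasPrimeToPIndexIn F' p)
    (h2 : F'.HasPrimeToPIndexIn F p) : F''.HasPrimeToPIndexIn F p := by
  refine primeIdx_of_pElt (fun P φ hφ => h2.1 P (h1.1 P hφ)) (fun P hPS γ hγ k hk => ?_)
  exact pElt_mem_of_primeIdx h1 hPS (pElt_mem_of_primeIdx h2 hPS hγ hk) hk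

theorem primeIdx_of_le {p : ℕ} {F F' G : FusionSystem S} (hGF' : G.IsSubsystemOf F')
    (hF'F : F'.IsSubsystemOf F) (h : G.HasPrimeToPIndexIn F p) : G.HasPrimeToPIndexIn F' p := by
  refine primeIdx_of_pElt hGF' (fun P hPS γ hγ k hk => ?_)
  exact pElt_mem_of_primeIdx h hPS (autGroup_le_of_subsystem hF'F P hγ) hk

theorem primeIdx_refl {p : ℕ} (F : FusionSystem S) : F.HasPrimeToPIndexIn F p :=
  ⟨fun _ _ h => h, fun _ _ => Subgroup.map_subtype_le _⟩


section Pair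

open scoped commutatorElement

variable [Finite S] {p : ℕ} [Fact p.Prime]

/-- Over a subgroup `T` of index `p` containing the hyperfocal subgroup of `F`: the saturated subsystems of
`p`-power index of `F` and of a saturated subsystem `F'` with the Frattini property, the second being the
intersection of `F'` with the first. -/
theorem exists_pair_of_hom (hS : IsPGroup p S) {F : FusionSystem S} (hF : F.IsSaturated p)
    {F' : FusionSystem S} (hF' : F'.IsSaturated p) (hF'F : F'.IsSubsystemOf F)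
    (hfr : ∀ (U : Subgroup Ω) (φ : U →* Ω), φ ∈ F.Hom U → FratAt F' F U φ)
    {T : Subgroup Ω} (hTS : T ≤ S) (hT : F.hyperfocalSubgroup p ≤ T)
    (hT' : F'.hyperfocalSubgroup p ≤ T)
    {A : Type*} [CommGroup A] (hcard : Nat.card A = p) (lam : S →* A) (hsurj : Function.Surjective lam)
    (hker : ∀ s : S, lam s = 1 ↔ (s : Ω) ∈ T) :
    ∃ (D E₁ : FusionSystem T), D.IsSaturated p ∧ D.HasPPowerIndexIn F p ∧ F.StronglyClosed T ∧
      E₁.IsSaturated p ∧ E₁.HasPPowerIndexIn F' p ∧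
      ∀ (P : Subgroup Ω) (φ : P →* Ω), φ ∈ E₁.Hom P ↔ φ ∈ F'.Hom P ∧ φ ∈ D.Hom P := by
  have hp : p.Prime := Fact.out
  have hA : ∀ a : A, a ^ p = 1 := fun a => by rw [← hcard]; exact pow_card_eq_one'
  haveI : Finite A := Nat.finite_of_card_ne_zero (by rw [hcard]; exact hp.ne_zero)
  have hcomm : ⁅(S : Subgroup Ω), (S : Subgroup Ω)⁆ ≤ T := by
    rw [Subgroup.commutator_le]
    intro g₁ hg₁ g₂ hg₂
    have hmem : ⁅g₁, g₂⁆ ∈ S := by
      rw [commutatorElement_def]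
      exact S.mul_mem (S.mul_mem (S.mul_mem hg₁ hg₂) (S.inv_mem hg₁)) (S.inv_mem hg₂)
    have h1 : (⟨⁅g₁, g₂⁆, hmem⟩ : S) = ⁅(⟨g₁, hg₁⟩ : S), ⟨g₂, hg₂⟩⁆ := Subtype.ext rfl
    rw [← hker ⟨⁅g₁, g₂⁆, hmem⟩, h1, map_commutatorElement, commutatorElement_eq_one_iff_commute]
    exact Commute.all _ _
  have hfoc : F.focalSubgroup ≤ T := by
    rw [Cfsg.Agent.S5092.result p hS F hF]
    exact sup_le hT hcomm
  have hstab : ∀ (Q : Subgroup Ω) (θ : Q →* Ω) (hθ : θ ∈ F.Hom Q) (a : Q),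
      lam ⟨θ a, (F.le_of_mem hθ).2 a⟩ = lam ⟨a, hom_le F hθ a.2⟩ := by
    intro Q θ hθ a
    have h1 : (a : Ω)⁻¹ * θ a ∈ T := hfoc (Subgroup.subset_closure ⟨Q, θ, a, hθ, rfl⟩)
    have h2 : (⟨θ a, (F.le_of_mem hθ).2 a⟩ : S) = ⟨a, hom_le F hθ a.2⟩ * ⟨(a : Ω)⁻¹ * θ a, hTS h1⟩ :=
      Subtype.ext (by show θ a = (a : Ω) * ((a : Ω)⁻¹ * θ a); group)
    rw [h2, map_mul, (hker ⟨(a : Ω)⁻¹ * θ a, hTS h1⟩).mpr h1, mul_one]
  obtain ⟨𝒢, _, _, ι, V, d, hd, hVι, hreal, hcent⟩ := exists_realizer hS hF lam hA hstab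
  have hTsc : F.StronglyClosed T := by
    refine ⟨hTS, fun R hRT φ hφ x => ?_⟩
    have h1 := hstab R φ hφ x
    rw [(hker ⟨x, hom_le F hφ x.2⟩).mpr (hRT x.2)] at h1
    exact (hker _).mp h1
  have hcop : Nat.Coprime d p := ((Nat.Prime.coprime_iff_not_dvd hp).mpr hd).symm
  let D : RData F T p 𝒢 A :=
  { ι := ι
    V := V
    hT := hTsc
    hA := hA
    hV := by
      intro t
      rw [hVι]
      constructor
      · intro h
        rw [← hker]
        apply zpow_eq_one_of_coprime (lam t) (hA _) (d : ℤ)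
        · rw [Int.natCast_dvd_natCast]; exact hd
        · rw [zpow_natCast]; exact h
      · intro h
        rw [(hker t).mpr h, one_pow]
    hcover := by
      intro e
      obtain ⟨s', hs'⟩ := hsurj (V e)
      obtain ⟨d', -, hd'⟩ := Nat.exists_mul_mod_eq_one_of_coprime hcop hp.one_lt
      refine ⟨s' ^ d', ?_⟩
      rw [hVι, map_pow, hs', ← pow_mul, mul_comm, pow_eq_pow_mod _ (hA (V e)), hd', pow_one]
    hreal := by
      intro P φ hφ
      obtain ⟨e, he⟩ := hreal P φ hφ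
      exact ⟨e, fun u hu hφu => he u⟩
    hcent := by
      intro P hPT hC f hf
      apply hcent P (hPT.trans hTS) (fun x => (hker _).mpr (hPT x.2)) ?_ f (fun u => hf u _)
      intro ρ hρ c hc
      apply (hker c).mpr
      apply hC ρ hρ
      refine ⟨c.2, ?_⟩
      show (c : Ω) ∈ Subgroup.centralizer (ρ.range : Set Ω)
      rw [Subgroup.mem_centralizer_iff]
      rintro _ ⟨x, rfl⟩
      exact (hc x).symm
    hgen := by
      intro z hzS hzT s hs
      have hz1 : lam ⟨z, hzS⟩ ≠ 1 := fun h => hzT ((hker _).mp h)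
      have htop := zpowers_eq_top_of_prime_card hcard hz1
      have hmem : lam ⟨s, hs⟩ ∈ Subgroup.zpowers (lam ⟨z, hzS⟩) := by rw [htop]; trivial
      rw [← mem_powers_iff_mem_zpowers, Submonoid.mem_powers_iff] at hmem
      obtain ⟨i, hi⟩ := hmem
      have hzi : z ^ i ∈ S := S.pow_mem hzS i
      have hmemS : s * (z ^ i)⁻¹ ∈ S := S.mul_mem hs (S.inv_mem hzi)
      refine ⟨i, s * (z ^ i)⁻¹, ?_, by group⟩
      rw [← hker ⟨s * (z ^ i)⁻¹, hmemS⟩]
      have h1 : (⟨s * (z ^ i)⁻¹, hmemS⟩ : S) = ⟨s, hs⟩ * (⟨z, hzS⟩ ^ i)⁻¹ := Subtype.ext rfl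
      rw [h1, map_mul, map_inv, map_pow, hi, mul_inv_cancel] }
  have hTsc' : F'.StronglyClosed T := ⟨hTS, fun R hRT φ hφ x => hTsc.2 R hRT φ (hF'F R hφ) x⟩
  let D' : RData F' T p 𝒢 A :=
  { ι := ι
    V := V
    hT := hTsc'
    hA := hA
    hV := D.hV
    hcover := D.hcover
    hreal := fun P φ hφ => D.hreal P φ (hF'F P hφ)
    hcent := by
      intro P hPT hC f hf
      apply D.hcent P hPT ?_ f hf
      intro ρ hρ c hc
      obtain ⟨α, hα, ρ₀, hρ₀, e⟩ := hfr P ρ hρ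
      have hρ₀S : ∀ x : P, ρ₀ x ∈ S := (F'.le_of_mem hρ₀).2
      have e' : ∀ x : P, ρ x = ((α ⟨ρ₀ x, hρ₀S x⟩ : S) : Ω) := fun x => e x (hρ₀S x)
      rw [mem_centralizerIn_iff] at hc
      obtain ⟨hcS, hcc⟩ := hc
      have hαiso : IsIso F (α : S ≃* S) := (mem_autGroup_iff F le_rfl α).mp hα
      have hαinv : IsIso F ((α⁻¹ : MulAut S) : S ≃* S) :=
        (mem_autGroup_iff F le_rfl α⁻¹).mp (Subgroup.inv_mem _ hα)
      have hc₀ : ((α⁻¹ ⟨c, hcS⟩ : S) : Ω) ∈ centralizerIn S ρ₀.range := by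
        rw [mem_centralizerIn_iff]
        refine ⟨(α⁻¹ ⟨c, hcS⟩ : S).2, ?_⟩
        rintro _ ⟨x, rfl⟩
        have h1 := hcc (ρ x) ⟨x, rfl⟩
        have h2 : α (⟨ρ₀ x, hρ₀S x⟩ * α⁻¹ ⟨c, hcS⟩) = α (α⁻¹ ⟨c, hcS⟩ * ⟨ρ₀ x, hρ₀S x⟩) := by
          apply Subtype.ext
          rw [map_mul, map_mul, MulAut.apply_inv_self]
          show ((α ⟨ρ₀ x, hρ₀S x⟩ : S) : Ω) * c = c * ((α ⟨ρ₀ x, hρ₀S x⟩ : S) : Ω)
          rw [← e']
          exact h1
        exact congrArg (fun z : S => (z : Ω)) (α.injective h2)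
      have h3 : ((α⁻¹ ⟨c, hcS⟩ : S) : Ω) ∈ T := hC ρ₀ hρ₀ hc₀
      have h4 := stronglyClosed_aut_mem hTsc hαiso (x := α⁻¹ ⟨c, hcS⟩) h3
      rw [MulAut.apply_inv_self] at h4
      exact h4
    hgen := D.hgen }
  refine ⟨D.sys, D'.sys, D.sys_saturated hS hF, D.sys_hasPPowerIndexIn hT, hTsc,
    D'.sys_saturated hS hF', D'.sys_hasPPowerIndexIn hT', fun P φ => ?_⟩
  rw [RData.mem_sys, RData.mem_sys]
  constructor
  · rintro ⟨h1, h2, h3⟩
    exact ⟨h1, hF'F P h1, h2, h3⟩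
  · rintro ⟨h1, -, h2, h3⟩
    exact ⟨h1, h2, h3⟩

end Pair


section Star

variable {p : ℕ} [Fact p.Prime]

omit [Fact p.Prime] in
theorem hyp_mono {U : Subgroup Ω} {F : FusionSystem S} {H : FusionSystem U} (hHF : H.IsSubsystemOf F)
    (hUS : U ≤ S) : H.hyperfocalSubgroup p ≤ F.hyperfocalSubgroup p := by
  unfold hyperfocalSubgroup
  rw [Subgroup.closure_le]
  rintro y ⟨P, α, x, hP, hα, rfl⟩
  have h1 : (α : MulAut P) ∈ (pResidual p (H.autGroup P)).map (H.autGroup P).subtype := ⟨α, hα, rfl⟩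
  obtain ⟨β, hβ, hβα⟩ := pResidual_map_le_of_subsystem hHF p P h1
  apply Subgroup.subset_closure
  refine ⟨P, β, x, hP.trans hUS, hβ, ?_⟩
  have : (β : MulAut P) = (α : MulAut P) := hβα
  rw [this]

theorem hyp_stronglyClosed [Finite S] (hS : IsPGroup p S) {F : FusionSystem S} (hF : F.IsSaturated p) :
    F.StronglyClosed (F.hyperfocalSubgroup p) := by
  apply stronglyClosed_of_hyperfocal_le hS hF (Cfsg.Agent.H26.hyperfocal_le F p) _ le_rfl
  constructor
  intro n hn g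
  rw [Subgroup.mem_subgroupOf] at hn ⊢
  exact hyperfocal_conj_mem F p g.2 hn

/-- The Frattini property of a subsystem of index prime to `p`. -/
theorem frat_of_primeIdx [Finite S] (hS : IsPGroup p S) {F F' : FusionSystem S} (hF : F.IsSaturated p)
    (h : F'.HasPrimeToPIndexIn F p) (U : Subgroup Ω) (φ : U →* Ω) (hφ : φ ∈ F.Hom U) :
    FratAt F' F U φ :=
  frat_primeIndex hS hF h.1 (fun P hP => h.2 P hP.1) U φ hφ

theorem exists_pair_of_index_prime [Finite S] (hS : IsPGroup p S) {F : FusionSystem S}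
    (hF : F.IsSaturated p) {F' : FusionSystem S} (hF' : F'.IsSaturated p)
    (hidx' : F'.HasPrimeToPIndexIn F p)
    {T : Subgroup Ω} (hTS : T ≤ S) (hT : F.hyperfocalSubgroup p ≤ T)
    (hidx : (T.subgroupOf S).index = p) :
    ∃ (D E₁ : FusionSystem T), D.IsSaturated p ∧ D.HasPPowerIndexIn F p ∧ F.StronglyClosed T ∧
      E₁.IsSaturated p ∧ E₁.HasPPowerIndexIn F' p ∧
      ∀ (P : Subgroup Ω) (φ : P →* Ω), φ ∈ E₁.Hom P ↔ φ ∈ F'.Hom P ∧ φ ∈ D.Hom P := by
  haveI hN : (T.subgroupOf S).Normal := normal_of_index_prime_of_isPGroup hS hidx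
  have hcard : Nat.card (S ⧸ T.subgroupOf S) = p := by
    rw [← Subgroup.index_eq_card]; exact hidx
  haveI : IsCyclic (S ⧸ T.subgroupOf S) := isCyclic_of_prime_card hcard
  letI : CommGroup (S ⧸ T.subgroupOf S) := IsCyclic.commGroup
  exact exists_pair_of_hom hS hF hF' hidx'.1 (frat_of_primeIdx hS hF hidx') hTS hT
    ((hyp_mono hidx'.1 le_rfl).trans hT) hcard (QuotientGroup.mk' (T.subgroupOf S))
    (QuotientGroup.mk'_surjective _)
    (fun s => by rw [QuotientGroup.mk'_apply, QuotientGroup.eq_one_iff, Subgroup.mem_subgroupOf])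

/-- The subsystems of `p`-power index over `T ≥ hyp(F)` of `F` and of a subsystem `F'` of index prime to `p`:
the second has index prime to `p` in the first. -/
theorem star_aux : ∀ (n : ℕ) (S : Subgroup Ω) [Finite S], Nat.card S = n → IsPGroup p S →
    ∀ (F F' : FusionSystem S), F.IsSaturated p → F'.IsSaturated p → F'.HasPrimeToPIndexIn F p →
    ∀ T : Subgroup Ω, T ≤ S → F.hyperfocalSubgroup p ≤ T →
    ∃ D E₁ : FusionSystem T, D.IsSaturated p ∧ D.HasPPowerIndexIn F p ∧ E₁.IsSaturated p ∧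
      E₁.HasPPowerIndexIn F' p ∧ E₁.HasPrimeToPIndexIn D p := by
  intro n
  induction n using Nat.strong_induction_on with
  | _ n IH =>
    intro S _ hn hS F F' hF hF' hidx' T hTS hT
    have hp : p.Prime := Fact.out
    by_cases hST : S ≤ T
    · have hTeq : T = S := le_antisymm hTS hST
      subst hTeq
      exact ⟨F, F', hF, ⟨fun P => subset_rfl, hT, fun P _ => Subgroup.map_subtype_le _⟩, hF',
        ⟨fun P => subset_rfl, (hyp_mono hidx'.1 le_rfl).trans hT, fun P _ => Subgroup.map_subtype_le _⟩,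
        hidx'⟩
    · have hne : T.subgroupOf S ≠ ⊤ := by
        intro h
        apply hST
        rwa [Subgroup.subgroupOf_eq_top] at h
      obtain ⟨K, hHK, hKidx⟩ := exists_index_prime_ge hS hne
      have hT₁S : K.map S.subtype ≤ S := Subgroup.map_subtype_le K
      have hTT₁ : T ≤ K.map S.subtype := by
        intro t ht
        exact ⟨⟨t, hTS ht⟩, hHK (Subgroup.mem_subgroupOf.mpr ht), rfl⟩
      have hK : (K.map S.subtype).subgroupOf S = K :=
        Subgroup.comap_map_eq_self_of_injective (Subgroup.subtype_injective S) K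
      have hidx : ((K.map S.subtype).subgroupOf S).index = p := by rw [hK]; exact hKidx
      obtain ⟨D₁, E₁₁, hD₁sat, hD₁idx, hT₁sc, hE₁₁sat, hE₁₁idx, hE₁₁⟩ :=
        exists_pair_of_index_prime hS hF hF' hidx' hT₁S (hT.trans hTT₁) hidx
      haveI : Finite (K.map S.subtype) :=
        Finite.of_injective (Subgroup.inclusion hT₁S) (Subgroup.inclusion_injective hT₁S)
      have hcard : Nat.card (K.map S.subtype) < n := by
        rw [Subgroup.card_map_of_injective (Subgroup.subtype_injective S)]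
        have h1 := K.card_mul_index
        rw [hKidx, hn] at h1
        have h2 : 0 < Nat.card K := Nat.card_pos
        have h3 := hp.two_le
        nlinarith
      have hhyp : D₁.hyperfocalSubgroup p = F.hyperfocalSubgroup p :=
        hyperfocal_eq_of_pPowerIndex hS F D₁ hD₁idx hT₁sc
      have hT₁sc' : F'.StronglyClosed (K.map S.subtype) :=
        ⟨hT₁S, fun R hRT φ hφ x => hT₁sc.2 R hRT φ (hidx'.1 R hφ) x⟩
      have hE₁₁D₁ : E₁₁.HasPrimeToPIndexIn D₁ p := by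
        refine primeIdx_of_pElt (fun P φ hφ => ((hE₁₁ P φ).mp hφ).2) (fun P hPT γ hγ k hk => ?_)
        have hγF : γ ∈ F.autGroup P := autGroup_le_of_subsystem hD₁idx.1 P hγ
        have hγF' : γ ∈ F'.autGroup P := pElt_mem_of_primeIdx hidx' (hPT.trans hT₁S) hγF hk
        rw [mem_autGroup_iff E₁₁ hPT]
        exact (hE₁₁ P _).mpr ⟨(mem_autGroup_iff F' (hPT.trans hT₁S) γ).mp hγF',
          (mem_autGroup_iff D₁ hPT γ).mp hγ⟩
      obtain ⟨D, E₁, hDsat, hDidx, hE₁sat, hE₁idx, hE₁D⟩ := IH (Nat.card (K.map S.subtype)) hcard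
        (K.map S.subtype) rfl (hS.to_le hT₁S) D₁ E₁₁ hD₁sat hE₁₁sat hE₁₁D₁ T hTT₁ (hhyp ▸ hT)
      exact ⟨D, E₁, hDsat, hasPPowerIndexIn_trans hS F D₁ hD₁idx hT₁sc D hDidx, hE₁sat,
        hasPPowerIndexIn_trans hS F' E₁₁ hE₁₁idx hT₁sc' E₁ hE₁idx, hE₁D⟩

theorem star {S : Subgroup Ω} [Finite S] (hS : IsPGroup p S) {F F' : FusionSystem S}
    (hF : F.IsSaturated p) (hF' : F'.IsSaturated p) (hidx' : F'.HasPrimeToPIndexIn F p)
    {T : Subgroup Ω} (hTS : T ≤ S) (hT : F.hyperfocalSubgroup p ≤ T) :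
    ∃ D E₁ : FusionSystem T, D.IsSaturated p ∧ D.HasPPowerIndexIn F p ∧ E₁.IsSaturated p ∧
      E₁.HasPPowerIndexIn F' p ∧ E₁.HasPrimeToPIndexIn D p :=
  star_aux (Nat.card S) S rfl hS F F' hF hF' hidx' T hTS hT

end Star

end Cfsg.Agent.Lib.Helper27.RL
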