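import Mathlib
import Cfsg.Agent.H26.PPrime4
import Cfsg.Agent.H26.PrimeIndex
import Cfsg.Agent.Lib.Helper27.FusionCentric
import Cfsg.Agent.Lib.Helper27.RLA
import Cfsg.Agent.Lib.Helper27.ChiJ

set_option autoImplicit false

/-! The `p'`-residual subsystem is invariant under `Aut_F(S)`, hence normal. -/

namespace Cfsg.Agent.Lib.Helper27.TS

open Cfsg Cfsg.FusionSystem Cfsg.Agent.Lib.Helper27 Cfsg.Agent.H26

variable {Ω : Type*} [Group Ω] {S : Subgroup Ω}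

theorem mem_autImage' {α : MulAut S} {P : Subgroup Ω} {z : Ω} :
    z ∈ (P.subgroupOf S).map (S.subtype.comp α.toMonoidHom) ↔
      ∃ x : S, (x : Ω) ∈ P ∧ z = ((α x : S) : Ω) := by
  constructor
  · rintro ⟨w, hw, rfl⟩
    exact ⟨w, Subgroup.mem_subgroupOf.mp hw, rfl⟩
  · rintro ⟨x, hx, rfl⟩
    exact ⟨x, Subgroup.mem_subgroupOf.mpr hx, rfl⟩

/-- `Aut⁰_F(S)` is normalized by `Aut_F(S)`. -/
theorem autZero_conj_mem (F : FusionSystem S) (p : ℕ) {α a : MulAut S} (hα : α ∈ F.autGroup S)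
    (ha : a ∈ autZero F p) : α * a * α⁻¹ ∈ autZero F p := by
  unfold autZero at ha
  induction ha using Subgroup.closure_induction with
  | mem a ha =>
    obtain ⟨haF, P, hP, hres⟩ := ha
    have hPS : P ≤ S := hP.1
    set P' : Subgroup Ω := (P.subgroupOf S).map (S.subtype.comp α.toMonoidHom) with hP'def
    have hP'iff : ∀ z : Ω, z ∈ P' ↔ ∃ x : S, (x : Ω) ∈ P ∧ z = ((α x : S) : Ω) := fun z => mem_autImage'
    obtain ⟨e, he⟩ := exists_resIso α hPS hP'iff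
    have heiso : IsIso F e := isIso_resIso le_rfl hα hPS e he
    have hP'c : F.IsCentric P' := isCentric_of_isConj hP ((isConj_iff F).mpr ⟨e, heiso⟩)
    have hmem : α * a * α⁻¹ ∈ F.autGroup S :=
      Subgroup.mul_mem _ (Subgroup.mul_mem _ hα haF) (Subgroup.inv_mem _ hα)
    refine mem_autZero_of_restrict hmem hP'c ?_
    refine (oppSys_inv F p P hres).2 α hα P' _ ⟨hP'iff, fun x hx hαx hφ => ?_⟩
    show (((α * a * α⁻¹) ⟨((α x : S) : Ω), _⟩ : S) : Ω) = ((α ⟨((a ⟨x, _⟩ : S) : Ω), _⟩ : S) : Ω)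
    have h1 : (⟨((α x : S) : Ω), hP'c.1 hαx⟩ : S) = α x := Subtype.ext rfl
    rw [h1, MulAut.mul_apply, MulAut.mul_apply, MulAut.inv_apply_self]
  | one =>
    rw [mul_one, mul_inv_cancel]; exact Subgroup.one_mem _
  | mul a b _ _ iha ihb =>
    have : α * (a * b) * α⁻¹ = (α * a * α⁻¹) * (α * b * α⁻¹) := by group
    rw [this]; exact Subgroup.mul_mem _ iha ihb
  | inv a _ iha =>
    have : α * a⁻¹ * α⁻¹ = (α * a * α⁻¹)⁻¹ := by group
    rw [this]; exact Subgroup.inv_mem _ iha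

/-- Transports of maps of the product system along `Aut_F(S)` are in the product system. -/
theorem oppProd_transp_mem {F : FusionSystem S} {p : ℕ} {α : MulAut S} (hα : α ∈ F.autGroup S)
    {P P' : Subgroup Ω} {φ : P →* Ω} {χ : P' →* Ω} (hφ : φ ∈ (oppProd F p).Hom P)
    (hχ : Transp α φ χ) : χ ∈ (oppProd F p).Hom P' := by
  obtain ⟨a, ha, φ₀, hφ₀, h⟩ := hφ
  have hPS : P ≤ S := ((oppSys F p).le_of_mem hφ₀).1
  have hφ₀S : ∀ x : P, φ₀ x ∈ S := ((oppSys F p).le_of_mem hφ₀).2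
  have hφS : ∀ x : P, φ x ∈ S := fun x => by rw [h x (hφ₀S x)]; exact (a _).2
  obtain ⟨e, he⟩ := exists_resIso α hPS hχ.1
  let χ₀ : P' →* Ω := (S.subtype.comp α.toMonoidHom).comp
    ((φ₀.codRestrict S hφ₀S).comp e.symm.toMonoidHom)
  have hesymm : ∀ (x : S) (hx : (x : Ω) ∈ P) (hαx : ((α x : S) : Ω) ∈ P'),
      e.symm ⟨α x, hαx⟩ = ⟨x, hx⟩ := by
    intro x hx hαx
    rw [MulEquiv.symm_apply_eq]
    apply Subtype.ext
    rw [he]
  have hT₀ : Transp α φ₀ χ₀ := by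
    refine ⟨hχ.1, fun x hx hαx hφ => ?_⟩
    show ((α ⟨φ₀ (e.symm ⟨α x, hαx⟩), _⟩ : S) : Ω) = _
    congr 2
    apply Subtype.ext
    show φ₀ (e.symm ⟨α x, hαx⟩) = φ₀ ⟨x, hx⟩
    rw [hesymm x hx hαx]
  have hχ₀ : χ₀ ∈ (oppSys F p).Hom P' := (oppSys_inv F p P hφ₀).2 α hα P' χ₀ hT₀
  refine ⟨α * a * α⁻¹, autZero_conj_mem F p hα ha, χ₀, hχ₀, fun y hy => ?_⟩
  obtain ⟨x, hx, hyx⟩ := (hχ.1 y).mp y.2
  have hy' : y = ⟨α x, hχ.mem x hx⟩ := Subtype.ext hyx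
  subst hy'
  rw [hχ.2 x hx _ (hφS _)]
  have h1 : (⟨χ₀ ⟨α x, hχ.mem x hx⟩, hy⟩ : S) = α ⟨φ₀ ⟨x, hx⟩, hφ₀S _⟩ :=
    Subtype.ext (hT₀.2 x hx _ (hφ₀S _))
  rw [h1, MulAut.mul_apply, MulAut.mul_apply, MulAut.inv_apply_self]
  congr 2
  apply Subtype.ext
  exact h ⟨x, hx⟩ (hφ₀S _)

/-- The `p'`-residual candidate is invariant under `Aut_F(S)`. -/
theorem oppRes_inv (F : FusionSystem S) (p : ℕ) (P : Subgroup Ω) :
    (oppRes F p).Hom P ⊆ (invCore (oppRes F p) (F.autGroup S)).Hom P := by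
  apply genSystem_le_of
  rintro Q φ ⟨hQc, hφ⟩
  refine ⟨oppProd_le_oppRes F p hQc hφ, fun α hα P' χ hχ => ?_⟩
  obtain ⟨e, he⟩ := exists_resIso α hQc.1 hχ.1
  have heiso : IsIso F e := isIso_resIso le_rfl hα hQc.1 e he
  have hP'c : F.IsCentric P' := isCentric_of_isConj hQc ((isConj_iff F).mpr ⟨e, heiso⟩)
  exact oppProd_le_oppRes F p hP'c (oppProd_transp_mem hα hφ hχ)

theorem oppRes_invCond (F : FusionSystem S) (p : ℕ) : InvCond (oppRes F p) F := by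
  intro P hPS φ hφ α hα
  have hφS : ∀ x : P, φ x ∈ S := ((oppRes F p).le_of_mem hφ).2
  obtain ⟨χ', hχ'⟩ := exists_transp α hPS φ hφS
  exact ⟨χ', (oppRes_inv F p P hφ).2 α hα _ _ hχ', fun x hφx hαx => hχ'.2 ⟨x, hPS x.2⟩ x.2 hαx hφx⟩

variable [Finite S] {p : ℕ} [Fact p.Prime]

/-- A `p'`-residual subsystem has the same maps as the canonical one. -/
theorem ppResidual_hom_eq (hS : IsPGroup p S) {F E : FusionSystem S} (hF : F.IsSaturated p)
    (hE : F.IsPPrimeResidual p E) (P : Subgroup Ω) : E.Hom P = (oppRes F p).Hom P := by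
  apply Set.Subset.antisymm
  · exact hE.2.2 _ (oppRes_saturated hS hF) (oppRes_hasPrimeToPIndexIn hS hF) P
  · exact oppRes_le_of hS hF hE.1 hE.2.1 P

/-- **The `p'`-residual subsystem is normal.** -/
theorem ppResidual_isNormalIn (hS : IsPGroup p S) {F E : FusionSystem S} (hF : F.IsSaturated p)
    (hE : F.IsPPrimeResidual p E) : E.IsNormalIn F p := by
  have heq := ppResidual_hom_eq hS hF hE
  refine ⟨⟨hE.1, hF, hE.2.1.1, ⟨le_rfl, fun R hR φ hφ x => (F.le_of_mem hφ).2 x⟩, ?_, ?_⟩, ?_⟩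
  · intro P hPS φ hφ α hα
    rw [heq] at hφ
    obtain ⟨χ, hχ, h⟩ := oppRes_invCond F p P hPS φ hφ α hα
    exact ⟨χ, by rw [heq]; exact hχ, h⟩
  · intro P hPS φ hφ
    exact Cfsg.Agent.Lib.Helper27.RL.frat_of_primeIdx hS hF hE.2.1 P φ hφ
  · intro α hα
    exact Cfsg.Agent.Lib.Helper27.Chi.ext_cond_top (autGroup_le_of_subsystem hE.2.1.1 S hα)

end Cfsg.Agent.Lib.Helper27.TS
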