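import Mathlib
import Cfsg.Agent.Lib.Helper27.WNG
import Cfsg.Agent.Lib.Helper27.TSC

set_option autoImplicit false

/-! The `p'`-residual subsystem of a weakly normal subsystem `E` of `F` over `T` is invariant under `Aut_F(T)`. -/

namespace Cfsg.Agent.Lib.Helper27.WN

open Cfsg Cfsg.FusionSystem Cfsg.Agent.Lib.Helper27 Cfsg.Agent.H26 Cfsg.Agent.Lib.Helper27.TS

variable {Ω : Type*} [Group Ω] {S T : Subgroup Ω} {E : FusionSystem T} {F : FusionSystem S}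

/-- Conjugation by an isomorphism of `F` carries `O^{p'}(Aut_E(U))` to `O^{p'}(Aut_E(U'))`. -/
theorem congr_mem_opp (hSI : StrongInv E F) {p : ℕ} {U U' : Subgroup Ω} (hUT : U ≤ T) {e : U ≃* U'}
    (he : IsIso F e) {γ : MulAut U} (hγ : γ ∈ Opp E p U) : MulAut.congr e γ ∈ Opp E p U' := by
  have hmem : ∀ β : E.autGroup U, ((MulAut.congr e).toMonoidHom.comp (E.autGroup U).subtype) β ∈
      E.autGroup U' := fun β => (StrongInv.congr_mem hSI hUT e he β.2).2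
  have hinj : Function.Injective (((MulAut.congr e).toMonoidHom.comp
      (E.autGroup U).subtype).codRestrict (E.autGroup U') hmem) := by
    intro a b hab
    have h1 : MulAut.congr e (a : MulAut U) = MulAut.congr e (b : MulAut U) := congrArg Subtype.val hab
    exact Subtype.ext ((MulAut.congr e).injective h1)
  obtain ⟨γ₀, hγ₀, rfl⟩ := hγ
  refine ⟨((MulAut.congr e).toMonoidHom.comp (E.autGroup U).subtype).codRestrict (E.autGroup U') hmem γ₀,
    ?_, rfl⟩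
  have hle : (Subgroup.closure {β : E.autGroup U | ∃ k : ℕ, orderOf β = p ^ k}).map
      (((MulAut.congr e).toMonoidHom.comp (E.autGroup U).subtype).codRestrict (E.autGroup U') hmem) ≤
      Subgroup.closure {β : E.autGroup U' | ∃ k : ℕ, orderOf β = p ^ k} := by
    rw [MonoidHom.map_closure]
    apply Subgroup.closure_mono
    rintro _ ⟨β, ⟨k, hk⟩, rfl⟩
    exact ⟨k, by rw [orderOf_injective _ hinj]; exact hk⟩
  exact hle ⟨γ₀, hγ₀, rfl⟩

theorem resIso_le {α : MulAut T} {U U' : Subgroup Ω} (hUT : U ≤ T) (e : U ≃* U')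
    (he : ∀ x : U, ((e x : U') : Ω) = ((α ⟨x, hUT x.2⟩ : T) : Ω)) : U' ≤ T := by
  intro z hz
  have h1 : z = ((α ⟨(e.symm ⟨z, hz⟩ : U), hUT (e.symm ⟨z, hz⟩).2⟩ : T) : Ω) := by
    rw [← he, MulEquiv.apply_symm_apply]
  rw [h1]
  exact Subtype.property _

/-- `O^{p'}_*(E)` is invariant under `Aut_F(T)`. -/
theorem oppSys_inv' (hSI : StrongInv E F) (hTS : T ≤ S) (p : ℕ) (P : Subgroup Ω) :
    (oppSys E p).Hom P ⊆ (invCore (oppSys E p) (F.autGroup T)).Hom P := by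
  apply genSystem_le_of
  rintro Q _ ⟨hQT, γ, hγ, rfl⟩
  have h1 : γ ∈ (invCore (oppSys E p) (F.autGroup T)).autGroup Q := by
    refine aut_mem_invCore hQT (opp_le_oppSys_autGroup E p hQT hγ) (fun α hα U' e he => ?_)
    have hiso : IsIso F e := isIso_resIso hTS hα hQT e he
    exact opp_le_oppSys_autGroup E p (resIso_le hQT e he) (congr_mem_opp hSI hQT hiso hγ)
  exact (mem_autGroup_iff _ hQT γ).mp h1

section

variable {p : ℕ}

/-- `Aut⁰_E(T)` is normalized by `Aut_F(T)`. -/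
theorem autZero_conj_mem' (hE : E.IsInvariantIn F) {α a : MulAut T}
    (hα : α ∈ F.autGroup T) (ha : a ∈ autZero E p) : α * a * α⁻¹ ∈ autZero E p := by
  obtain ⟨hEF, hTsc, hInvE, hFratE⟩ := hE
  have hTS := hTsc.1
  have hSI : StrongInv E F := strongInv_of_invariant hInvE hFratE
  unfold autZero at ha
  induction ha using Subgroup.closure_induction with
  | mem a ha =>
    obtain ⟨haE, P, hP, hres⟩ := ha
    have hPT : P ≤ T := hP.1
    set P' : Subgroup Ω := (P.subgroupOf T).map (T.subtype.comp α.toMonoidHom) with hP'def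
    have hP'iff : ∀ z : Ω, z ∈ P' ↔ ∃ x : T, (x : Ω) ∈ P ∧ z = ((α x : T) : Ω) := fun z => mem_autImage'
    obtain ⟨e, he⟩ := exists_resIso α hPT hP'iff
    have heiso : IsIso F e := isIso_resIso hTS hα hPT e he
    have hP'c : E.IsCentric P' := isCentric_of_tcentric hEF
      ((tcentric_of_isCentric hFratE hP).conj hTsc ((isConj_iff F).mpr ⟨e, heiso⟩))
    have hmem : α * a * α⁻¹ ∈ E.autGroup T := StrongInv.conj_mem hSI hTS le_rfl hα haE
    refine mem_autZero_of_restrict hmem hP'c ?_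
    refine (oppSys_inv' hSI hTS p P hres).2 α hα P' _ ⟨hP'iff, fun x hx hαx hφ => ?_⟩
    show (((α * a * α⁻¹) ⟨((α x : T) : Ω), _⟩ : T) : Ω) = ((α ⟨((a ⟨x, _⟩ : T) : Ω), _⟩ : T) : Ω)
    have h1 : (⟨((α x : T) : Ω), hP'c.1 hαx⟩ : T) = α x := Subtype.ext rfl
    rw [h1, MulAut.mul_apply, MulAut.mul_apply, MulAut.inv_apply_self]
  | one =>
    rw [mul_one, mul_inv_cancel]; exact Subgroup.one_mem _
  | mul a b _ _ iha ihb =>
    have : α * (a * b) * α⁻¹ = (α * a * α⁻¹) * (α * b * α⁻¹) := by group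
    rw [this]; exact Subgroup.mul_mem _ iha ihb
  | inv a _ iha =>
    have : α * a⁻¹ * α⁻¹ = (α * a * α⁻¹)⁻¹ := by group
    rw [this]; exact Subgroup.inv_mem _ iha

/-- Transports of maps of the product system along `Aut_F(T)` are in the product system. -/
theorem oppProd_transp_mem' (hE : E.IsInvariantIn F) {α : MulAut T} (hα : α ∈ F.autGroup T)
    {P P' : Subgroup Ω} {φ : P →* Ω} {χ : P' →* Ω} (hφ : φ ∈ (oppProd E p).Hom P)
    (hχ : Transp α φ χ) : χ ∈ (oppProd E p).Hom P' := by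
  have hSI : StrongInv E F := strongInv_of_invariant hE.2.2.1 hE.2.2.2
  have hTS := hE.2.1.1
  obtain ⟨a, ha, φ₀, hφ₀, h⟩ := hφ
  have hPT : P ≤ T := ((oppSys E p).le_of_mem hφ₀).1
  have hφ₀T : ∀ x : P, φ₀ x ∈ T := ((oppSys E p).le_of_mem hφ₀).2
  have hφT : ∀ x : P, φ x ∈ T := fun x => by rw [h x (hφ₀T x)]; exact (a _).2
  obtain ⟨e, he⟩ := exists_resIso α hPT hχ.1
  let χ₀ : P' →* Ω := (T.subtype.comp α.toMonoidHom).comp
    ((φ₀.codRestrict T hφ₀T).comp e.symm.toMonoidHom)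
  have hesymm : ∀ (x : T) (hx : (x : Ω) ∈ P) (hαx : ((α x : T) : Ω) ∈ P'),
      e.symm ⟨α x, hαx⟩ = ⟨x, hx⟩ := by
    intro x hx hαx
    rw [MulEquiv.symm_apply_eq]
    apply Subtype.ext
    rw [he]
  have hT₀ : Transp α φ₀ χ₀ := by
    refine ⟨hχ.1, fun x hx hαx hφ => ?_⟩
    show ((α ⟨φ₀ (e.symm ⟨α x, hαx⟩), _⟩ : T) : Ω) = _
    congr 2
    apply Subtype.ext
    show φ₀ (e.symm ⟨α x, hαx⟩) = φ₀ ⟨x, hx⟩
    rw [hesymm x hx hαx]
  have hχ₀ : χ₀ ∈ (oppSys E p).Hom P' := (oppSys_inv' hSI hTS p P hφ₀).2 α hα P' χ₀ hT₀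
  refine ⟨α * a * α⁻¹, autZero_conj_mem' hE hα ha, χ₀, hχ₀, fun y hy => ?_⟩
  obtain ⟨x, hx, hyx⟩ := (hχ.1 y).mp y.2
  have hy' : y = ⟨α x, hχ.mem x hx⟩ := Subtype.ext hyx
  subst hy'
  rw [hχ.2 x hx _ (hφT _)]
  have h1 : (⟨χ₀ ⟨α x, hχ.mem x hx⟩, hy⟩ : T) = α ⟨φ₀ ⟨x, hx⟩, hφ₀T _⟩ :=
    Subtype.ext (hT₀.2 x hx _ (hφ₀T _))
  rw [h1, MulAut.mul_apply, MulAut.mul_apply, MulAut.inv_apply_self]
  congr 2
  apply Subtype.ext
  exact h ⟨x, hx⟩ (hφ₀T _)

/-- The `p'`-residual candidate of `E` is invariant under `Aut_F(T)`. -/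
theorem oppRes_inv' (hE : E.IsInvariantIn F) (P : Subgroup Ω) :
    (oppRes E p).Hom P ⊆ (invCore (oppRes E p) (F.autGroup T)).Hom P := by
  apply genSystem_le_of
  rintro Q φ ⟨hQc, hφ⟩
  refine ⟨oppProd_le_oppRes E p hQc hφ, fun α hα P' χ hχ => ?_⟩
  obtain ⟨e, he⟩ := exists_resIso α hQc.1 hχ.1
  have heiso : IsIso F e := isIso_resIso hE.2.1.1 hα hQc.1 e he
  have hP'c : E.IsCentric P' := isCentric_of_tcentric hE.1
    ((tcentric_of_isCentric hE.2.2.2 hQc).conj hE.2.1 ((isConj_iff F).mpr ⟨e, heiso⟩))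
  exact oppProd_le_oppRes E p hP'c (oppProd_transp_mem' hE hα hφ hχ)

theorem oppRes_invCond' (hE : E.IsInvariantIn F) : InvCond (oppRes E p) F := by
  intro P hPT φ hφ α hα
  have hφT : ∀ x : P, φ x ∈ T := ((oppRes E p).le_of_mem hφ).2
  obtain ⟨χ', hχ'⟩ := exists_transp α hPT φ hφT
  exact ⟨χ', (oppRes_inv' hE P hφ).2 α hα _ _ hχ', fun x hφx hαx => hχ'.2 ⟨x, hPT x.2⟩ x.2 hαx hφx⟩

end

end Cfsg.Agent.Lib.Helper27.WN
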