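import Mathlib
import Cfsg.Agent.Lib.Helper27.WNI
import Cfsg.Agent.Lib.Helper27.WNJ

set_option autoImplicit false

/-! **The `p'`-residual subsystem of a weakly normal subsystem is normal.** -/

namespace Cfsg.Agent.Lib.Helper27.WN

open Cfsg Cfsg.FusionSystem Cfsg.Agent.Lib.Helper27 Cfsg.Agent.H26 Cfsg.Agent.Lib.Helper27.TS

variable {Ω : Type*} [Group Ω] {S T : Subgroup Ω}

theorem isCentric_self [Finite T] (E : FusionSystem T) : E.IsCentric T := by
  refine ⟨le_rfl, fun Q hQ => ?_⟩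
  obtain ⟨e, he⟩ := (isConj_iff E).mp hQ
  have hQT : Q = T := Subgroup.eq_of_le_of_card_ge he.le_right (Nat.card_congr e.toEquiv).le
  rw [hQT]
  exact inf_le_left

section

variable [Finite S] {p : ℕ} [Fact p.Prime] {F : FusionSystem S}

/-- the automorphisms of `T` in the `p'`-residual candidate lie in `Aut⁰_E(T)` -/
theorem oppRes_autGroup_le_autZero [Finite T] (E : FusionSystem T) :
    (oppRes E p).autGroup T ≤ autZero E p := by
  intro α hα
  have h1 := (mem_autGroup_iff (oppRes E p) le_rfl α).mp hα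
  obtain ⟨a, ha, φ₀, hφ₀, h⟩ := oppRes_le_oppProd E p T h1
  have hφ₀T : ∀ x : T, φ₀ x ∈ T := ((oppSys E p).le_of_mem hφ₀).2
  have haE : a ∈ E.autGroup T := autZero_le E p ha
  have hαE : α ∈ E.autGroup T := by
    rw [mem_autGroup_iff E le_rfl]
    exact oppRes_subsystem E p T h1
  have h2 : ∀ x : T, (((a⁻¹ * α) x : T) : Ω) = φ₀ x := by
    intro x
    have h3 := h x (hφ₀T x)
    have h4 : α x = a ⟨φ₀ x, hφ₀T x⟩ := Subtype.ext h3
    rw [MulAut.mul_apply, h4, MulAut.inv_apply_self]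
  have h5 : a⁻¹ * α ∈ autZero E p := by
    refine mem_autZero_of_restrict (Subgroup.mul_mem _ (Subgroup.inv_mem _ haE) hαE) (isCentric_self E) ?_
    have : (T.subtype.comp ((a⁻¹ * α : MulAut T) : T ≃* T).toMonoidHom).comp
        (Subgroup.inclusion (isCentric_self E).1) = φ₀ := by
      ext x
      exact h2 x
    rw [this]
    exact hφ₀
  have h6 : α = a * (a⁻¹ * α) := by group
  rw [h6]
  exact Subgroup.mul_mem _ ha h5

/-- **The `p'`-residual subsystem of a weakly normal subsystem of `F` is normal in `F`.** -/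
theorem ppResidual_normal_of_weaklyNormal (hS : IsPGroup p S) (hF : F.IsSaturated p)
    {E : FusionSystem T} (hE : E.IsWeaklyNormalIn F p) {D : FusionSystem T}
    (hD : E.IsPPrimeResidual p D) : D.IsNormalIn F p := by
  have hEsat := hE.1
  have hEF := hE.2.2.1
  have hTsc := hE.2.2.2.1
  have hFratE := hE.2.2.2.2.2
  have hTS : T ≤ S := hTsc.1
  haveI : Finite T := finite_of_le hTS
  have hT : IsPGroup p T := hS.of_injective (Subgroup.inclusion hTS) (Subgroup.inclusion_injective hTS)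
  have heq := ppResidual_hom_eq hT hEsat hD
  have hDE : D.IsSubsystemOf E := hD.2.1.1
  have hDF : D.IsSubsystemOf F := fun P φ h => hEF P (hDE P h)
  have hDnE : D.IsNormalIn E p := ppResidual_isNormalIn hT hEsat hD
  refine ⟨⟨hD.1, hF, hDF, hTsc, ?_, ?_⟩, ?_⟩
  · intro P hPT φ hφ α hα
    rw [heq] at hφ
    obtain ⟨χ, hχ, h⟩ := oppRes_invCond' (p := p) hE.2.2 P hPT φ hφ α hα
    exact ⟨χ, by rw [heq]; exact hχ, h⟩
  · intro P hPT φ hφ
    obtain ⟨α₁, hα₁, φ₁, hφ₁, h1⟩ := hFratE P hPT φ hφ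
    obtain ⟨α₂, hα₂, φ₀, hφ₀, h2⟩ := hDnE.1.2.2.2.2.2 P hPT φ₁ hφ₁
    have hα₂F : α₂ ∈ F.autGroup T := autGroup_le_autGroup_of_subsystem hEF le_rfl hTS hα₂
    refine ⟨α₁ * α₂, Subgroup.mul_mem _ hα₁ hα₂F, φ₀, hφ₀, fun x hx => ?_⟩
    have hφ₁T : φ₁ x ∈ T := (E.le_of_mem hφ₁).2 x
    rw [h1 x hφ₁T, MulAut.mul_apply]
    congr 2
    apply Subtype.ext
    exact h2 x hx
  · intro α hα
    have h1 : α ∈ (oppRes E p).autGroup T := by
      rw [mem_autGroup_iff _ le_rfl]
      rw [mem_autGroup_iff _ le_rfl] at hα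
      unfold IsIso at hα ⊢
      rw [← heq]
      exact hα
    have h2 := autZero_le_extAut hS hF hE (oppRes_autGroup_le_autZero E h1)
    exact h2

end

end Cfsg.Agent.Lib.Helper27.WN
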