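import Mathlib
import Cfsg.Agent.Lib.Helper27.WNK

set_option autoImplicit false

/-! The centralizer of a normal subsystem: elementary lemmas (coprime fixed points, maps on joins with
cyclic groups, the Sylow twist lemma). -/

namespace Cfsg.Agent.Lib.Helper27.CE

open Cfsg Cfsg.FusionSystem Cfsg.Agent.Lib.Helper27 Cfsg.Agent.Lib.Helper27.WN Cfsg.Agent.H26

/-- an automorphism of order prime to `p` sending `x` to `x η`, with `η` a fixed `p`-element: `η = 1` -/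
theorem eq_one_of_map_eq_mul {G : Type*} [Group G] {p : ℕ} (a : MulAut G) (ha : (orderOf a).Coprime p)
    {x η : G} (h1 : a x = x * η) (h2 : a η = η) {k : ℕ} (hη : η ^ p ^ k = 1) : η = 1 := by
  have hpow : ∀ i : ℕ, (a ^ i) x = x * η ^ i := by
    intro i
    induction i with
    | zero => simp
    | succ i ih =>
      rw [pow_succ', MulAut.mul_apply, ih, map_mul, map_pow, h1, h2, pow_succ', mul_assoc]
  have h3 := hpow (orderOf a)
  rw [pow_orderOf_eq_one, MulAut.one_apply] at h3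
  have h4 : η ^ orderOf a = 1 := by
    have : x * 1 = x * η ^ orderOf a := by rw [mul_one]; exact h3
    exact (mul_left_cancel this).symm
  have h5 : orderOf η ∣ orderOf a := orderOf_dvd_of_pow_eq_one h4
  have h6 : orderOf η ∣ p ^ k := orderOf_dvd_of_pow_eq_one hη
  have h7 : (orderOf η).Coprime (p ^ k) := Nat.Coprime.coprime_dvd_left h5 (ha.pow_right k)
  have h8 : orderOf η = 1 := Nat.Coprime.eq_one_of_dvd h7 h6
  exact orderOf_eq_one_iff.mp h8

variable {Ω : Type*} [Group Ω] {S T : Subgroup Ω}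

/-- two homomorphisms on a join agreeing on both factors are equal -/
theorem hom_eq_of_eqOn_sup {P Q : Subgroup Ω} {M : Type*} [Monoid M] (f g : ↥(P ⊔ Q) →* M)
    (hP : ∀ x : P, f (Subgroup.inclusion le_sup_left x) = g (Subgroup.inclusion le_sup_left x))
    (hQ : ∀ x : Q, f (Subgroup.inclusion le_sup_right x) = g (Subgroup.inclusion le_sup_right x))
    (z : ↥(P ⊔ Q)) : f z = g z := by
  have key : P ⊔ Q ≤ (f.eqLocus g).map (Subgroup.subtype _) := by
    rw [sup_le_iff]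
    constructor
    · intro x hx
      exact ⟨Subgroup.inclusion le_sup_left ⟨x, hx⟩, hP ⟨x, hx⟩, rfl⟩
    · intro x hx
      exact ⟨Subgroup.inclusion le_sup_right ⟨x, hx⟩, hQ ⟨x, hx⟩, rfl⟩
  obtain ⟨w, hw, hwz⟩ := key z.2
  have : w = z := Subtype.ext hwz
  rw [← this]
  exact hw

/-- two homomorphisms on `P ⟨y⟩` agreeing on `P` and at `y` are equal -/
theorem hom_eq_of_eqOn_sup_zpowers {P : Subgroup Ω} {y : Ω} {M : Type*} [Group M]
    (f g : ↥(P ⊔ Subgroup.zpowers y) →* M)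
    (hP : ∀ x : P, f (Subgroup.inclusion le_sup_left x) = g (Subgroup.inclusion le_sup_left x))
    (hy : f ⟨y, Subgroup.mem_sup_right (Subgroup.mem_zpowers y)⟩ =
      g ⟨y, Subgroup.mem_sup_right (Subgroup.mem_zpowers y)⟩)
    (z : ↥(P ⊔ Subgroup.zpowers y)) : f z = g z := by
  apply hom_eq_of_eqOn_sup f g hP
  rintro ⟨x, hx⟩
  obtain ⟨n, rfl⟩ := Subgroup.mem_zpowers_iff.mp hx
  have : (Subgroup.inclusion (le_sup_right : Subgroup.zpowers y ≤ P ⊔ Subgroup.zpowers y)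
      ⟨y ^ n, hx⟩) = (⟨y, Subgroup.mem_sup_right (Subgroup.mem_zpowers y)⟩ :
        ↥(P ⊔ Subgroup.zpowers y)) ^ n := Subtype.ext (by simp)
  rw [this, map_zpow, map_zpow, hy]

/-- values of a homomorphism on `P ⟨y⟩` -/
theorem map_sup_zpowers_mem {P P' : Subgroup Ω} {y : Ω} (ψ : ↥(P ⊔ Subgroup.zpowers y) →* Ω)
    (hP : ∀ x : P, ψ (Subgroup.inclusion le_sup_left x) ∈ P')
    (hy : ψ ⟨y, Subgroup.mem_sup_right (Subgroup.mem_zpowers y)⟩ ∈ P')
    (z : ↥(P ⊔ Subgroup.zpowers y)) : ψ z ∈ P' := by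
  apply map_sup_mem ψ hP
  rintro ⟨x, hx⟩
  obtain ⟨n, rfl⟩ := Subgroup.mem_zpowers_iff.mp hx
  have : (Subgroup.inclusion (le_sup_right : Subgroup.zpowers y ≤ P ⊔ Subgroup.zpowers y)
      ⟨y ^ n, hx⟩) = (⟨y, Subgroup.mem_sup_right (Subgroup.mem_zpowers y)⟩ :
        ↥(P ⊔ Subgroup.zpowers y)) ^ n := Subtype.ext (by simp)
  rw [this, map_zpow]
  exact P'.zpow_mem hy n

section

variable [Finite S] {p : ℕ} [Fact p.Prime] {F : FusionSystem S}

/-- **Sylow twist lemma**, on `U ⟨y⟩`: a map of the system on `U ⟨y⟩` which is the identity on `U` and sends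
`y ∈ C_S(U)` to `y η`, `η ∈ U`: a conjugate of `η` under an isomorphism of the system from `U` onto a fully
normalized subgroup `U₁` is a commutator of two elements of `C_S(U₁)`. -/
theorem exists_comm_of_twist_aux (hS : IsPGroup p S) (hF : F.IsSaturated p) {U : Subgroup Ω}
    {y : Ω} (hyU : ∀ x ∈ U, x * y = y * x) {η : Ω} (hη : η ∈ U)
    {φ : ↥(U ⊔ Subgroup.zpowers y) →* Ω} (hφ : φ ∈ F.Hom (U ⊔ Subgroup.zpowers y))
    (hφU : ∀ x : U, φ (Subgroup.inclusion le_sup_left x) = x)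
    (hφy : φ ⟨y, Subgroup.mem_sup_right (Subgroup.mem_zpowers y)⟩ = y * η) :
    ∃ (U₁ : Subgroup Ω) (ε : U ≃* U₁), F.IsFullyNormalized U₁ ∧ IsIso F ε ∧
      ∃ d₁ ∈ centralizerIn S U₁, ∃ d₂ ∈ centralizerIn S U₁,
        ((ε ⟨η, hη⟩ : U₁) : Ω) = d₁ * d₂ * d₁⁻¹ * d₂⁻¹ := by
  have hW₀S : U ⊔ Subgroup.zpowers y ≤ S := hom_le F hφ
  have hUS : U ≤ S := le_sup_left.trans hW₀S
  have hyW₀ : y ∈ U ⊔ Subgroup.zpowers y := Subgroup.mem_sup_right (Subgroup.mem_zpowers y)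
  have hyS : y ∈ S := hW₀S hyW₀
  haveI : Finite ↥(U ⊔ Subgroup.zpowers y) := finite_of_le hW₀S
  have hval : ∀ w : ↥(U ⊔ Subgroup.zpowers y), φ w ∈ U ⊔ Subgroup.zpowers y := by
    apply map_sup_zpowers_mem
    · intro x
      rw [hφU]; exact Subgroup.mem_sup_left x.2
    · rw [hφy]; exact Subgroup.mul_mem _ hyW₀ (Subgroup.mem_sup_left hη)
  obtain ⟨κ, hκ, hκφ⟩ := exists_aut_of_hom_self F hφ hval
  -- the powers of `κ`
  have hκU : ∀ x : U, κ (Subgroup.inclusion le_sup_left x) = Subgroup.inclusion le_sup_left x := by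
    intro x
    apply Subtype.ext
    rw [hκφ, hφU]; rfl
  have hκy : κ ⟨y, hyW₀⟩ = ⟨y, hyW₀⟩ * Subgroup.inclusion le_sup_left ⟨η, hη⟩ := by
    apply Subtype.ext
    rw [hκφ, hφy]; rfl
  have hpowU : ∀ (i : ℕ) (x : U), ((κ : MulAut ↥(U ⊔ Subgroup.zpowers y)) ^ i)
      (Subgroup.inclusion le_sup_left x) = Subgroup.inclusion le_sup_left x := by
    intro i x
    induction i with
    | zero => simp
    | succ i ih => rw [pow_succ', MulAut.mul_apply, ih]; exact hκU x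
  have hpowy : ∀ i : ℕ, ((κ : MulAut ↥(U ⊔ Subgroup.zpowers y)) ^ i) ⟨y, hyW₀⟩ =
      ⟨y, hyW₀⟩ * (Subgroup.inclusion le_sup_left ⟨η, hη⟩) ^ i := by
    intro i
    induction i with
    | zero => simp
    | succ i ih =>
      rw [pow_succ', MulAut.mul_apply, ih, map_mul, map_pow]
      have h1 : κ ⟨y, hyW₀⟩ = ⟨y, hyW₀⟩ * Subgroup.inclusion le_sup_left ⟨η, hη⟩ := hκy
      have h2 : κ (Subgroup.inclusion le_sup_left ⟨η, hη⟩) = Subgroup.inclusion le_sup_left ⟨η, hη⟩ :=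
        hκU _
      rw [h1, h2, pow_succ', mul_assoc]
  obtain ⟨k, hk⟩ := (hS.to_le hUS) ⟨η, hη⟩
  have hκpow : (κ : MulAut ↥(U ⊔ Subgroup.zpowers y)) ^ p ^ k = 1 := by
    apply MulEquiv.ext
    intro z
    have := hom_eq_of_eqOn_sup_zpowers
      (((κ : MulAut ↥(U ⊔ Subgroup.zpowers y)) ^ p ^ k : MulAut ↥(U ⊔ Subgroup.zpowers y)) :
        ↥(U ⊔ Subgroup.zpowers y) ≃* ↥(U ⊔ Subgroup.zpowers y)).toMonoidHom (MonoidHom.id _)
      (fun x => hpowU _ x) (by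
        show ((κ : MulAut ↥(U ⊔ Subgroup.zpowers y)) ^ p ^ k) ⟨y, hyW₀⟩ = ⟨y, hyW₀⟩
        rw [hpowy, ← map_pow, hk, map_one, mul_one]) z
    exact this
  -- a fully normalized conjugate of `U ⟨y⟩`
  obtain ⟨W', hWW', hfn⟩ := exists_fullyNormalized_conj F hW₀S
  obtain ⟨ω, hω⟩ := (isConj_iff F).mp hWW'
  have hW'S : W' ≤ S := hfn.1
  haveI : Finite W' := finite_of_le hW'S
  obtain ⟨hfa, -, -⟩ := fa_receptive_of_fullyNormalized hS hF hfn
  have hκ'mem : MulAut.congr ω κ ∈ F.autGroup W' := by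
    rw [mem_autGroup_iff F hW'S]
    exact hω.symm.trans (hκ.trans hω)
  have hκ'pow : (MulAut.congr ω κ) ^ p ^ k = 1 := by
    rw [← map_pow, hκpow, map_one]
  have hB : IsPGroup p (Subgroup.zpowers (MulAut.congr ω κ)) := by
    obtain ⟨j, -, hj⟩ := (Nat.dvd_prime_pow (Fact.out : p.Prime)).mp (orderOf_dvd_of_pow_eq_one hκ'pow)
    apply IsPGroup.of_card (n := j)
    rw [Nat.card_zpowers]; exact hj
  have hBA : Subgroup.zpowers (MulAut.congr ω κ) ≤ F.autGroup W' := by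
    rw [Subgroup.zpowers_le]; exact hκ'mem
  obtain ⟨a, ha⟩ := exists_conj_mem_autInducedBy hfa hB hBA
  obtain ⟨s, hsS, hs⟩ := (mem_autInducedBy_iff _).mp (ha _ (Subgroup.mem_zpowers _))
  have haiso := (mem_autGroup_iff F hW'S _).mp a.2
  have hω' : IsIso F (ω.trans (a : MulAut W')) := hω.trans haiso
  have hkey : ∀ w : ↥(U ⊔ Subgroup.zpowers y), (((a : MulAut W') (ω (κ w)) : W') : Ω) =
      s * (((a : MulAut W') (ω w) : W') : Ω) * s⁻¹ := by
    intro w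
    rw [← hs]
    simp [MulAut.congr]
  -- the image of `U`
  have hψU := hom_restrict F (le_sup_left : U ≤ U ⊔ Subgroup.zpowers y) hω'
  obtain ⟨ε₀, hε₀, hε₀ω⟩ := exists_isIso_of_hom F hψU rfl
  have hε₀' : ∀ x : U, ((ε₀ x : _) : Ω) = (((a : MulAut W') (ω (Subgroup.inclusion le_sup_left x)) : W') : Ω) :=
    fun x => hε₀ω x
  have hU'S := hε₀.le_right
  -- `s` and the image of `y` centralize the image of `U`
  have hsC : s ∈ centralizerIn S ((W'.subtype.comp (ω.trans (a : MulAut W')).toMonoidHom).comp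
      (Subgroup.inclusion (le_sup_left : U ≤ U ⊔ Subgroup.zpowers y))).range := by
    rw [mem_centralizerIn_iff]
    refine ⟨hsS, ?_⟩
    rintro _ ⟨x, rfl⟩
    have h1 := hkey (Subgroup.inclusion le_sup_left x)
    rw [hκU] at h1
    show (((a : MulAut W') (ω (Subgroup.inclusion le_sup_left x)) : W') : Ω) * s = _
    calc (((a : MulAut W') (ω (Subgroup.inclusion le_sup_left x)) : W') : Ω) * s
        = (s * (((a : MulAut W') (ω (Subgroup.inclusion le_sup_left x)) : W') : Ω) * s⁻¹) * s := by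
          rw [← h1]
      _ = s * (((a : MulAut W') (ω (Subgroup.inclusion le_sup_left x)) : W') : Ω) := by group
  have hy'C : (((a : MulAut W') (ω ⟨y, hyW₀⟩) : W') : Ω) ∈
      centralizerIn S ((W'.subtype.comp (ω.trans (a : MulAut W')).toMonoidHom).comp
      (Subgroup.inclusion (le_sup_left : U ≤ U ⊔ Subgroup.zpowers y))).range := by
    rw [mem_centralizerIn_iff]
    refine ⟨hW'S (Subtype.property _), ?_⟩
    rintro _ ⟨x, rfl⟩
    show (((a : MulAut W') (ω (Subgroup.inclusion le_sup_left x)) : W') : Ω) *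
      (((a : MulAut W') (ω ⟨y, hyW₀⟩) : W') : Ω) = (((a : MulAut W') (ω ⟨y, hyW₀⟩) : W') : Ω) *
      (((a : MulAut W') (ω (Subgroup.inclusion le_sup_left x)) : W') : Ω)
    rw [← Subgroup.coe_mul, ← Subgroup.coe_mul, ← map_mul, ← map_mul, ← map_mul, ← map_mul]
    congr 3
    exact Subtype.ext (hyU x x.2)
  have hηeq : ((ε₀ ⟨η, hη⟩ : _) : Ω) = (((a : MulAut W') (ω ⟨y, hyW₀⟩) : W') : Ω)⁻¹ * s *
      (((a : MulAut W') (ω ⟨y, hyW₀⟩) : W') : Ω) * s⁻¹ := by
    rw [hε₀']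
    have h1 := hkey ⟨y, hyW₀⟩
    rw [hκy, map_mul, map_mul, Subgroup.coe_mul] at h1
    rw [mul_assoc, mul_assoc, ← mul_assoc s, ← h1]
    group
  -- a fully normalized conjugate of the image of `U`
  obtain ⟨U₁, hUU₁, hfn₁⟩ := exists_fullyNormalized_conj F hU'S
  obtain ⟨θ, hθ, χ, hχ, hθχ⟩ := exists_hom_normalizerIn_of_fullyNormalized hS hF hfn₁ hUU₁
  have hθχ' : ∀ x : ↥((W'.subtype.comp (ω.trans (a : MulAut W')).toMonoidHom).comp
      (Subgroup.inclusion (le_sup_left : U ≤ U ⊔ Subgroup.zpowers y))).range,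
      θ ⟨x, le_normalizerIn hU'S x.2⟩ = χ x := fun x => hθχ x x.2 _
  have hCN := centralizerIn_le_normalizerIn S ((W'.subtype.comp (ω.trans (a : MulAut W')).toMonoidHom).comp
      (Subgroup.inclusion (le_sup_left : U ≤ U ⊔ Subgroup.zpowers y))).range
  have hd₂ := (hom_normalizerIn_mem_centralizerIn hU'S hθ hθχ' ⟨s, hCN hsC⟩).mpr hsC
  have hd₁ := (hom_normalizerIn_mem_centralizerIn hU'S hθ hθχ' ⟨_, hCN hy'C⟩).mpr hy'C
  refine ⟨U₁, ε₀.trans χ, hfn₁, hε₀.trans hχ, (θ ⟨_, hCN hy'C⟩)⁻¹, Subgroup.inv_mem _ hd₁,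
    θ ⟨s, hCN hsC⟩, hd₂, ?_⟩
  show ((χ (ε₀ ⟨η, hη⟩) : U₁) : Ω) = _
  rw [← hθχ' (ε₀ ⟨η, hη⟩), inv_inv, ← map_inv, ← map_mul, ← map_mul, ← map_inv, ← map_mul]
  congr 1
  apply Subtype.ext
  exact hηeq

end

end Cfsg.Agent.Lib.Helper27.CE
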