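import Mathlib
import Cfsg.Agent.Lib.Helper27.CEA

set_option autoImplicit false

/-! The centralizer of a normal subsystem: the twist lemma. -/

namespace Cfsg.Agent.Lib.Helper27.CE

open Cfsg Cfsg.FusionSystem Cfsg.Agent.Lib.Helper27 Cfsg.Agent.Lib.Helper27.WN Cfsg.Agent.H26

/-- commutators are unchanged when the entries are multiplied by suitably commuting elements -/
theorem comm_mul_eq {G : Type*} [Group G] {d₁ d₂ u₁ u₂ : G} (h12 : u₁ * d₂ = d₂ * u₁)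
    (h21 : u₂ * d₁ = d₁ * u₂) (huu : u₁ * u₂ = u₂ * u₁) :
    (d₁ * u₁) * (d₂ * u₂) * (d₁ * u₁)⁻¹ * (d₂ * u₂)⁻¹ = d₁ * d₂ * d₁⁻¹ * d₂⁻¹ := by
  have hAB : (d₁ * u₁) * (d₂ * u₂) = d₁ * d₂ * (u₁ * u₂) := by
    calc (d₁ * u₁) * (d₂ * u₂) = d₁ * (u₁ * d₂) * u₂ := by group
      _ = d₁ * (d₂ * u₁) * u₂ := by rw [h12]
      _ = d₁ * d₂ * (u₁ * u₂) := by group
  have hBA : (d₂ * u₂) * (d₁ * u₁) = d₂ * d₁ * (u₁ * u₂) := by
    calc (d₂ * u₂) * (d₁ * u₁) = d₂ * (u₂ * d₁) * u₁ := by group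
      _ = d₂ * (d₁ * u₂) * u₁ := by rw [h21]
      _ = d₂ * d₁ * (u₂ * u₁) := by group
      _ = d₂ * d₁ * (u₁ * u₂) := by rw [huu]
  calc (d₁ * u₁) * (d₂ * u₂) * (d₁ * u₁)⁻¹ * (d₂ * u₂)⁻¹
      = ((d₁ * u₁) * (d₂ * u₂)) * ((d₂ * u₂) * (d₁ * u₁))⁻¹ := by group
    _ = d₁ * d₂ * (u₁ * u₂) * (d₂ * d₁ * (u₁ * u₂))⁻¹ := by rw [hAB, hBA]
    _ = d₁ * d₂ * d₁⁻¹ * d₂⁻¹ := by group

variable {Ω : Type*} [Group Ω] {S T : Subgroup Ω}

/-- `z` is a commutator of two elements of `C_S(U)` -/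
def IsCC (S U : Subgroup Ω) (z : Ω) : Prop :=
  ∃ d₁ ∈ centralizerIn S U, ∃ d₂ ∈ centralizerIn S U, z = d₁ * d₂ * d₁⁻¹ * d₂⁻¹

section

variable [Finite S] {p : ℕ} [Fact p.Prime] {F : FusionSystem S}

omit [Fact p.Prime] in
/-- conjugation by an element of `N_T(U)` fixes the commutators of `C_S(U)`, when `C_T(U) ≤ U` -/
theorem conj_isCC (hT : F.StronglyClosed T) {U : Subgroup Ω} (hcen : centralizerIn T U ≤ U)
    {t : Ω} (htT : t ∈ T) (htN : ∀ x ∈ U, t⁻¹ * x * t ∈ U) {z : Ω} (hz : IsCC S U z) :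
    t * z * t⁻¹ = z := by
  obtain ⟨d₁, hd₁, d₂, hd₂, rfl⟩ := hz
  have hTn := le_normalizer_of_stronglyClosed hT
  have key : ∀ d ∈ centralizerIn S U, d⁻¹ * (t * d * t⁻¹) ∈ centralizerIn T U := by
    intro d hd
    rw [mem_centralizerIn_iff] at hd ⊢
    obtain ⟨hdS, hdc⟩ := hd
    refine ⟨?_, fun x hx => ?_⟩
    · have h1 : d⁻¹ * t * d ∈ T := conj_inv_mem_of_normalizer hTn hdS htT
      have : d⁻¹ * (t * d * t⁻¹) = (d⁻¹ * t * d) * t⁻¹ := by group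
      rw [this]
      exact T.mul_mem h1 (T.inv_mem htT)
    · have h1 := hdc x hx
      have h2 := hdc (t⁻¹ * x * t) (htN x hx)
      calc x * (d⁻¹ * (t * d * t⁻¹)) = d⁻¹ * (d * x) * d⁻¹ * (t * d * t⁻¹) := by group
        _ = d⁻¹ * (x * d) * d⁻¹ * (t * d * t⁻¹) := by rw [h1]
        _ = d⁻¹ * t * ((t⁻¹ * x * t) * d) * t⁻¹ := by group
        _ = d⁻¹ * t * (d * (t⁻¹ * x * t)) * t⁻¹ := by rw [h2]
        _ = d⁻¹ * (t * d * t⁻¹) * x := by group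
  have hu₁ := key d₁ hd₁
  have hu₂ := key d₂ hd₂
  have hu₁U := hcen hu₁
  have hu₂U := hcen hu₂
  have e₁ : t * d₁ * t⁻¹ = d₁ * (d₁⁻¹ * (t * d₁ * t⁻¹)) := by group
  have e₂ : t * d₂ * t⁻¹ = d₂ * (d₂⁻¹ * (t * d₂ * t⁻¹)) := by group
  calc t * (d₁ * d₂ * d₁⁻¹ * d₂⁻¹) * t⁻¹
      = (t * d₁ * t⁻¹) * (t * d₂ * t⁻¹) * (t * d₁ * t⁻¹)⁻¹ * (t * d₂ * t⁻¹)⁻¹ := by group
    _ = (d₁ * (d₁⁻¹ * (t * d₁ * t⁻¹))) * (d₂ * (d₂⁻¹ * (t * d₂ * t⁻¹))) *
        (d₁ * (d₁⁻¹ * (t * d₁ * t⁻¹)))⁻¹ * (d₂ * (d₂⁻¹ * (t * d₂ * t⁻¹)))⁻¹ := by rw [← e₁, ← e₂]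
    _ = d₁ * d₂ * d₁⁻¹ * d₂⁻¹ := by
      apply comm_mul_eq
      · exact (mem_centralizerIn_iff.mp hd₂).2 _ hu₁U
      · exact (mem_centralizerIn_iff.mp hd₁).2 _ hu₂U
      · exact ((mem_centralizerIn_iff.mp hu₂).2 _ hu₁U)

/-- automorphisms in the system of a receptive subgroup permute the commutators of its centralizer -/
theorem aut_isCC {U : Subgroup Ω} (hrec : F.IsReceptive U) {β : U ≃* U} (hβ : IsIso F β)
    {z : U} (hz : IsCC S U (z : Ω)) : IsCC S U ((β z : U) : Ω) := by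
  obtain ⟨d₁, hd₁, d₂, hd₂, hzd⟩ := hz
  obtain ⟨ψ, hψ, hψβ⟩ := receptive_exists_extension hrec hβ
  have hUN := le_extender_of_isIso hβ
  have hCN : centralizerIn S U ≤ extender S U (U.subtype.comp β.toMonoidHom) := centralizerIn_le_extender _
  have hmem : ∀ d (hd : d ∈ centralizerIn S U), ψ ⟨d, hCN hd⟩ ∈ centralizerIn S U := by
    intro d hd
    rw [mem_centralizerIn_iff]
    refine ⟨(F.le_of_mem hψ).2 _, fun y hy => ?_⟩
    obtain ⟨x, rfl⟩ : ∃ x : U, ((β x : U) : Ω) = y := ⟨β.symm ⟨y, hy⟩, by simp⟩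
    rw [← hψβ x x.2 (hUN x.2), ← map_mul, ← map_mul]
    congr 1
    exact Subtype.ext ((mem_centralizerIn_iff.mp hd).2 x x.2)
  refine ⟨_, hmem d₁ hd₁, _, hmem d₂ hd₂, ?_⟩
  rw [← hψβ z z.2 (hUN z.2), ← map_mul, ← map_inv, ← map_mul, ← map_inv, ← map_mul]
  congr 1
  exact Subtype.ext hzd

/-- **Fixed commutators (small case)**: for `E` weakly normal in `F` over `T` and `U ≤ T` fully normalized in
`F` all of whose conjugates contain their centralizer in `T`, the group `O^{p'}(Aut_E(U))` fixes the commutators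
of `C_S(U)` lying in `U`. -/
theorem opp_fixes_isCC (hS : IsPGroup p S) (hF : F.IsSaturated p) {E : FusionSystem T}
    (hE : E.IsWeaklyNormalIn F p) {U : Subgroup Ω} (hU : TCentric F T U) (hfn : F.IsFullyNormalized U)
    {γ : MulAut U} (hγ : γ ∈ Opp E p U) {z : U} (hz : IsCC S U (z : Ω)) : γ z = z := by
  obtain ⟨hEsat, -, hEF, hTsc, hInvE, hFratE⟩ := hE
  have hTS : T ≤ S := hTsc.1
  haveI : Finite T := finite_of_le hTS
  have hT : IsPGroup p T := hS.of_injective (Subgroup.inclusion hTS) (Subgroup.inclusion_injective hTS)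
  have hUT := hU.1
  have hUS : U ≤ S := hUT.trans hTS
  haveI : Finite U := finite_of_le hUS
  haveI : Finite (MulAut U) := inferInstance
  have hfnE : E.IsFullyNormalized U := fullyNormalized_sub hS hF hTsc hEF hUT hfn
  obtain ⟨⟨-, Rs, hRs⟩, -, -⟩ := fa_receptive_of_fullyNormalized hT hEsat hfnE
  obtain ⟨-, hrec, -⟩ := fa_receptive_of_fullyNormalized hS hF hfn
  -- the subgroup of automorphisms fixing the commutators
  let Fix : Subgroup (MulAut U) :=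
    { carrier := {γ | ∀ z : U, IsCC S U (z : Ω) → γ z = z}
      one_mem' := fun z _ => rfl
      mul_mem' := fun {a b} ha hb z hz => by
        rw [MulAut.mul_apply, hb z hz, ha z hz]
      inv_mem' := fun {a} ha z hz => by
        have := ha z hz
        rw [MulAut.inv_apply, MulEquiv.symm_apply_eq]
        exact this.symm }
  have hle : Opp E p U ≤ Fix := by
    rw [Subgroup.map_le_iff_le_comap, Subgroup.closure_le]
    rintro γ ⟨k, hk⟩
    show (γ : MulAut U) ∈ Fix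
    intro z hz
    have hXp : IsPGroup p (Subgroup.zpowers γ) := by
      apply IsPGroup.of_card (n := k)
      rw [Nat.card_zpowers]
      exact hk
    obtain ⟨b, -, hb⟩ := exists_conj_mem_sylow_of_le_normal ⊤ Rs _ le_top hXp
    have h1 := hb _ (Subgroup.mem_zpowers _)
    rw [hRs, Subgroup.mem_subgroupOf] at h1
    have h1' : (b : MulAut U) * (γ : MulAut U) * (b : MulAut U)⁻¹ ∈ autInducedBy T U := h1
    rw [mem_autInducedBy_iff] at h1'
    obtain ⟨t, htT, ht⟩ := h1'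
    have hbF : (b : MulAut U) ∈ F.autGroup U := autGroup_le_autGroup_of_subsystem hEF hUT hTS b.2
    have hbiso := (mem_autGroup_iff F hUS _).mp hbF
    have hbz := aut_isCC hrec hbiso hz
    -- `t` normalizes `U`
    have htN : ∀ x ∈ U, t⁻¹ * x * t ∈ U := by
      intro x hx
      obtain ⟨w, hw⟩ : ∃ w : U, w = ((b : MulAut U) * (γ : MulAut U) * (b : MulAut U)⁻¹)⁻¹ ⟨x, hx⟩ :=
        ⟨_, rfl⟩
      have h2 := ht w
      rw [hw, MulAut.apply_inv_self, ← hw] at h2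
      have h2' : x = t * (w : Ω) * t⁻¹ := h2
      have h3 : t⁻¹ * x * t = (w : Ω) := by
        rw [h2']; group
      rw [h3]
      exact w.2
    have h4 := conj_isCC hTsc (hU.cen hTsc) htT htN hbz
    have h5 := ht ((b : MulAut U) z)
    rw [h4] at h5
    have h6 : ((b : MulAut U) * (γ : MulAut U) * (b : MulAut U)⁻¹) ((b : MulAut U) z) = (b : MulAut U) z :=
      Subtype.ext h5
    rw [MulAut.mul_apply, MulAut.mul_apply, MulAut.inv_apply_self] at h6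
    exact (b : MulAut U).injective h6
  exact hle hγ z hz

omit [Finite S] [Fact p.Prime] in
/-- **Fixed commutators (top case)**: for `E` normal in `F` over `T`, the group `Aut_E(T)` fixes the
commutators of `C_S(T)` lying in `T`. -/
theorem autE_fixes_isCC {E : FusionSystem T} (hE : E.IsNormalIn F p) {γ : MulAut T} (hγ : γ ∈ E.autGroup T)
    {z : T} (hz : IsCC S T (z : Ω)) : γ z = z := by
  obtain ⟨β, -, hβT, hβC⟩ := hE.2 γ hγ
  obtain ⟨d₁, hd₁, d₂, hd₂, hzd⟩ := hz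
  have hmem : ∀ d (hd : d ∈ centralizerIn S T),
      ((β ⟨d, Subgroup.mem_sup_right hd⟩ : ↥(T ⊔ centralizerIn S T)) : Ω) =
        d * (d⁻¹ * ((β ⟨d, Subgroup.mem_sup_right hd⟩ : ↥(T ⊔ centralizerIn S T)) : Ω)) := by
    intro d hd; group
  have hu₁ := hβC ⟨d₁, Subgroup.mem_sup_right hd₁⟩ hd₁
  have hu₂ := hβC ⟨d₂, Subgroup.mem_sup_right hd₂⟩ hd₂
  apply Subtype.ext
  rw [← hβT z]
  have hzeq : (Subgroup.inclusion (le_sup_left : T ≤ T ⊔ centralizerIn S T) z) =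
      ⟨d₁, Subgroup.mem_sup_right hd₁⟩ * ⟨d₂, Subgroup.mem_sup_right hd₂⟩ *
        ⟨d₁, Subgroup.mem_sup_right hd₁⟩⁻¹ * ⟨d₂, Subgroup.mem_sup_right hd₂⟩⁻¹ := Subtype.ext hzd
  rw [hzeq, map_mul, map_mul, map_mul, map_inv, map_inv]
  simp only [Subgroup.coe_mul, Subgroup.coe_inv]
  rw [hmem d₁ hd₁, hmem d₂ hd₂, hzd]
  apply comm_mul_eq
  · exact (mem_centralizerIn_iff.mp hd₂).2 _ hu₁.1
  · exact (mem_centralizerIn_iff.mp hd₁).2 _ hu₂.1
  · exact (Subgroup.mem_centralizer_iff.mp hu₂.2 _ hu₁.1)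

/-- **Twist lemma**: let `E` be normal in `F` over `T`, `U ≤ T` with all conjugates containing their centralizer
in `T`, and `α ∈ O^{p'}(Aut_E(U))`, or `α ∈ Aut_E(T)` if `U = T`. If a map of `F` is the identity on `U` and
sends `y ∈ C_S(U)` to `y η` with `η ∈ U`, then `α` fixes `η`. -/
theorem twist_fixed (hS : IsPGroup p S) (hF : F.IsSaturated p) {E : FusionSystem T}
    (hE : E.IsNormalIn F p) {U : Subgroup Ω} (hU : TCentric F T U) {α : MulAut U} (hα : α ∈ E.autGroup U)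
    (hα' : α ∈ Opp E p U ∨ U = T) {W : Subgroup Ω} (hUW : U ≤ W) {y : Ω} (hyW : y ∈ W)
    (hyU : ∀ x ∈ U, x * y = y * x) {η : Ω} (hη : η ∈ U) {φ : W →* Ω} (hφ : φ ∈ F.Hom W)
    (hφU : ∀ x : U, φ (Subgroup.inclusion hUW x) = x) (hφy : φ ⟨y, hyW⟩ = y * η) :
    α ⟨η, hη⟩ = ⟨η, hη⟩ := by
  have hTsc : F.StronglyClosed T := hE.1.2.2.2.1
  have hSI : StrongInv E F := strongInv_of_invariant hE.1.2.2.2.2.1 hE.1.2.2.2.2.2
  have hle : U ⊔ Subgroup.zpowers y ≤ W := sup_le hUW (by rw [Subgroup.zpowers_le]; exact hyW)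
  obtain ⟨U₁, ε, hfn₁, hε, d₁, hd₁, d₂, hd₂, hεη⟩ :=
    exists_comm_of_twist_aux hS hF hyU hη (hom_restrict F hle hφ) (fun x => hφU x) hφy
  have hcc : IsCC S U₁ ((ε ⟨η, hη⟩ : U₁) : Ω) := ⟨d₁, hd₁, d₂, hd₂, hεη⟩
  have hU₁ : TCentric F T U₁ := hU.conj hTsc ((isConj_iff F).mpr ⟨ε, hε⟩)
  have key : (MulAut.congr ε α) (ε ⟨η, hη⟩) = ε ⟨η, hη⟩ := by
    rcases hα' with hopp | hUT
    · exact opp_fixes_isCC hS hF hE.1 hU₁ hfn₁ (congr_mem_opp hSI hU.1 hε hopp) hcc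
    · subst hUT
      have hwc := weaklyClosed_of_stronglyClosed hTsc
      have hU₁T : U₁ = U := weaklyClosed_eq_of_isConj hwc ((isConj_iff F).mpr ⟨ε, hε⟩)
      subst hU₁T
      exact autE_fixes_isCC hE (StrongInv.congr_mem hSI le_rfl ε hε hα).2 hcc
  have h1 : (MulAut.congr ε α) (ε ⟨η, hη⟩) = ε (α ⟨η, hη⟩) := by
    simp [MulAut.congr]
  rw [h1] at key
  exact ε.injective key

end

end Cfsg.Agent.Lib.Helper27.CE
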