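import Mathlib
import Cfsg.Agent.Lib.Helper27.CEB

set_option autoImplicit false

/-! The centralizer of a normal subsystem: admissible pairs, the subgroup `C_S(E)`, the focal subgroup of
`C_F(T)`. -/

namespace Cfsg.Agent.Lib.Helper27.CE

open Cfsg Cfsg.FusionSystem Cfsg.Agent.Lib.Helper27 Cfsg.Agent.Lib.Helper27.WN Cfsg.Agent.H26

variable {Ω : Type*} [Group Ω] {S T : Subgroup Ω}

section

variable [Finite S] {p : ℕ} [Fact p.Prime] {F : FusionSystem S}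

/-- **Twist lemma**, for two maps agreeing on `U`. -/
theorem twist_fixed₂ (hS : IsPGroup p S) (hF : F.IsSaturated p) {E : FusionSystem T}
    (hE : E.IsNormalIn F p) {U : Subgroup Ω} (hU : TCentric F T U) {α : MulAut U} (hα : α ∈ E.autGroup U)
    (hα' : α ∈ Opp E p U ∨ U = T) {W : Subgroup Ω} (hUW : U ≤ W) {y : Ω} (hyW : y ∈ W)
    {η : Ω} (hη : η ∈ U) {ψ₁ ψ₂ : W →* Ω} (h₁ : ψ₁ ∈ F.Hom W) (h₂ : ψ₂ ∈ F.Hom W) (β : MulAut U)
    (hU₁ : ∀ x : U, ψ₁ (Subgroup.inclusion hUW x) = ((β x : U) : Ω))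
    (hU₂ : ∀ x : U, ψ₂ (Subgroup.inclusion hUW x) = ((β x : U) : Ω))
    (hyC : ∀ x ∈ U, x * ψ₂ ⟨y, hyW⟩ = ψ₂ ⟨y, hyW⟩ * x) (hy : ψ₁ ⟨y, hyW⟩ = ψ₂ ⟨y, hyW⟩ * η) :
    α ⟨η, hη⟩ = ⟨η, hη⟩ := by
  obtain ⟨ψ', hψ', hinv⟩ := F.inv_mem h₂
  have h : ∀ z : ψ₂.range, ψ' z ∈ W := by
    rintro ⟨_, w, rfl⟩
    rw [hinv]; exact w.2
  have hκ := F.comp_mem hψ' h₁ h
  have hUr : U ≤ ψ₂.range := by
    intro x hx
    refine ⟨Subgroup.inclusion hUW (β⁻¹ ⟨x, hx⟩), ?_⟩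
    rw [hU₂, MulAut.apply_inv_self]
  have hyr : ψ₂ ⟨y, hyW⟩ ∈ ψ₂.range := ⟨_, rfl⟩
  refine twist_fixed hS hF hE hU hα hα' hUr hyr hyC hη hκ (fun x => ?_) ?_
  · show ψ₁ ⟨ψ' (Subgroup.inclusion hUr x), _⟩ = x
    have h1 : (Subgroup.inclusion hUr x) =
        ⟨ψ₂ (Subgroup.inclusion hUW (β⁻¹ x)), ⟨_, rfl⟩⟩ := by
      apply Subtype.ext
      show (x : Ω) = ψ₂ (Subgroup.inclusion hUW (β⁻¹ x))
      rw [hU₂, MulAut.apply_inv_self]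
    have h2 : (⟨ψ' (Subgroup.inclusion hUr x), h _⟩ : W) = Subgroup.inclusion hUW (β⁻¹ x) := by
      apply Subtype.ext
      show ψ' (Subgroup.inclusion hUr x) = _
      rw [h1, hinv]
    rw [h2, hU₁, MulAut.apply_inv_self]
  · show ψ₁ ⟨ψ' ⟨ψ₂ ⟨y, hyW⟩, hyr⟩, _⟩ = _
    have h2 : (⟨ψ' ⟨ψ₂ ⟨y, hyW⟩, hyr⟩, h _⟩ : W) = ⟨y, hyW⟩ := by
      apply Subtype.ext
      show ψ' ⟨ψ₂ ⟨y, hyW⟩, hyr⟩ = _
      rw [hinv]
    rw [h2, hy]

end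

/-- admissible pairs: `U ≤ T` with all conjugates containing their centralizer in `T`, and an automorphism `a`
in `F` of `U C_S(T)` of order prime to `p`, trivial on `C_S(T)` modulo `T`, restricting on `U` to an element of
`O^{p'}(Aut_E(U))` (of `Aut_E(T)` when `U = T`). -/
def Adm (p : ℕ) (F : FusionSystem S) (E : FusionSystem T) (U : Subgroup Ω)
    (a : MulAut ↥(U ⊔ centralizerIn S T)) : Prop :=
  TCentric F T U ∧ a ∈ F.autGroup (U ⊔ centralizerIn S T) ∧ (orderOf a).Coprime p ∧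
  (∀ c : centralizerIn S T, ModT T (c : Ω)
    ((a (Subgroup.inclusion le_sup_right c) : ↥(U ⊔ centralizerIn S T)) : Ω)) ∧
  ∃ α : MulAut U, (∀ x : U, ((a (Subgroup.inclusion le_sup_left x) : ↥(U ⊔ centralizerIn S T)) : Ω) =
      ((α x : U) : Ω)) ∧ α ∈ E.autGroup U ∧ (α ∈ Opp E p U ∨ U = T)

/-- `C_S(E)`: the elements of `C_S(T)` fixed by all admissible automorphisms. -/
def cse (p : ℕ) (F : FusionSystem S) (E : FusionSystem T) : Subgroup Ω where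
  carrier := {c | ∃ hc : c ∈ centralizerIn S T, ∀ (U : Subgroup Ω) (a : MulAut ↥(U ⊔ centralizerIn S T)),
    Adm p F E U a → a ⟨c, Subgroup.mem_sup_right hc⟩ = ⟨c, Subgroup.mem_sup_right hc⟩}
  one_mem' := ⟨Subgroup.one_mem _, fun U a _ => map_one a⟩
  mul_mem' := by
    rintro x y ⟨hx, hx'⟩ ⟨hy, hy'⟩
    refine ⟨Subgroup.mul_mem _ hx hy, fun U a ha => ?_⟩
    have : (⟨x * y, Subgroup.mem_sup_right (Subgroup.mul_mem _ hx hy)⟩ : ↥(U ⊔ centralizerIn S T)) =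
        ⟨x, Subgroup.mem_sup_right hx⟩ * ⟨y, Subgroup.mem_sup_right hy⟩ := rfl
    rw [this, map_mul, hx' U a ha, hy' U a ha]
  inv_mem' := by
    rintro x ⟨hx, hx'⟩
    refine ⟨Subgroup.inv_mem _ hx, fun U a ha => ?_⟩
    have : (⟨x⁻¹, Subgroup.mem_sup_right (Subgroup.inv_mem _ hx)⟩ : ↥(U ⊔ centralizerIn S T)) =
        (⟨x, Subgroup.mem_sup_right hx⟩)⁻¹ := rfl
    rw [this, map_inv, hx' U a ha]

theorem cse_le (p : ℕ) (F : FusionSystem S) (E : FusionSystem T) : cse p F E ≤ centralizerIn S T :=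
  fun _ hc => hc.1

theorem mem_cse_iff {p : ℕ} {F : FusionSystem S} {E : FusionSystem T} {c : Ω} :
    c ∈ cse p F E ↔ ∃ hc : c ∈ centralizerIn S T, ∀ (U : Subgroup Ω)
      (a : MulAut ↥(U ⊔ centralizerIn S T)), Adm p F E U a →
        a ⟨c, Subgroup.mem_sup_right hc⟩ = ⟨c, Subgroup.mem_sup_right hc⟩ := Iff.rfl

section

variable [Finite S] {p : ℕ} [Fact p.Prime] {F : FusionSystem S} {E : FusionSystem T}

omit [Fact p.Prime] in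
/-- for an admissible pair `(U, a)` and `c ∈ C_S(T)`: `c⁻¹ a(c)` lies in `U` and centralizes `U` -/
theorem Adm.delta_mem (hT : F.StronglyClosed T) {U : Subgroup Ω} {a : MulAut ↥(U ⊔ centralizerIn S T)}
    (h : Adm p F E U a) {c : Ω} (hc : c ∈ centralizerIn S T) :
    c⁻¹ * ((a ⟨c, Subgroup.mem_sup_right hc⟩ : ↥(U ⊔ centralizerIn S T)) : Ω) ∈ U ∧
    ∀ x ∈ U, x * (c⁻¹ * ((a ⟨c, Subgroup.mem_sup_right hc⟩ : ↥(U ⊔ centralizerIn S T)) : Ω)) =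
      (c⁻¹ * ((a ⟨c, Subgroup.mem_sup_right hc⟩ : ↥(U ⊔ centralizerIn S T)) : Ω)) * x := by
  obtain ⟨hU, -, -, hmod, α, hα, -, -⟩ := h
  have hUT := hU.1
  have h1 : c⁻¹ * ((a ⟨c, Subgroup.mem_sup_right hc⟩ : ↥(U ⊔ centralizerIn S T)) : Ω) ∈ T := hmod ⟨c, hc⟩
  have h2 : c⁻¹ * ((a ⟨c, Subgroup.mem_sup_right hc⟩ : ↥(U ⊔ centralizerIn S T)) : Ω) ∈
      U ⊔ centralizerIn S T :=
    Subgroup.mul_mem _ (Subgroup.inv_mem _ (Subgroup.mem_sup_right hc)) (Subtype.property _)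
  have hcomm : ∀ x ∈ U, x * (c⁻¹ * ((a ⟨c, Subgroup.mem_sup_right hc⟩ : ↥(U ⊔ centralizerIn S T)) : Ω)) =
      (c⁻¹ * ((a ⟨c, Subgroup.mem_sup_right hc⟩ : ↥(U ⊔ centralizerIn S T)) : Ω)) * x := by
    intro x hx
    have hcx : ∀ x' ∈ U, x' * c = c * x' := fun x' hx' => (mem_centralizerIn_iff.mp hc).2 x' (hUT hx')
    have hcx' : x * c⁻¹ = c⁻¹ * x := by
      have := hcx x hx
      calc x * c⁻¹ = c⁻¹ * (c * x) * c⁻¹ := by group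
        _ = c⁻¹ * (x * c) * c⁻¹ := by rw [this]
        _ = c⁻¹ * x := by group
    -- `a c` commutes with `x = a (α⁻¹ x)`
    have h3 : x * ((a ⟨c, Subgroup.mem_sup_right hc⟩ : ↥(U ⊔ centralizerIn S T)) : Ω) =
        ((a ⟨c, Subgroup.mem_sup_right hc⟩ : ↥(U ⊔ centralizerIn S T)) : Ω) * x := by
      have h4 : x = ((a (Subgroup.inclusion le_sup_left (α⁻¹ ⟨x, hx⟩)) : ↥(U ⊔ centralizerIn S T)) : Ω) := by
        rw [hα, MulAut.apply_inv_self]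
      rw [h4, ← Subgroup.coe_mul, ← Subgroup.coe_mul, ← map_mul, ← map_mul]
      congr 2
      apply Subtype.ext
      exact hcx _ (α⁻¹ ⟨x, hx⟩).2
    calc x * (c⁻¹ * ((a ⟨c, Subgroup.mem_sup_right hc⟩ : ↥(U ⊔ centralizerIn S T)) : Ω))
        = (x * c⁻¹) * ((a ⟨c, Subgroup.mem_sup_right hc⟩ : ↥(U ⊔ centralizerIn S T)) : Ω) := by group
      _ = c⁻¹ * (x * ((a ⟨c, Subgroup.mem_sup_right hc⟩ : ↥(U ⊔ centralizerIn S T)) : Ω)) := by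
        rw [hcx']; group
      _ = (c⁻¹ * ((a ⟨c, Subgroup.mem_sup_right hc⟩ : ↥(U ⊔ centralizerIn S T)) : Ω)) * x := by
        rw [h3]; group
  refine ⟨?_, hcomm⟩
  exact mem_of_mem_sup_of_mem hUT (centralizerIn_self_le hUT (hU.cen hT)) h2 h1

end

end Cfsg.Agent.Lib.Helper27.CE
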