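import Mathlib
import Cfsg.Agent.Lib.Helper27.CEC

set_option autoImplicit false

/-! The centralizer of a normal subsystem: the focal subgroup of `C_F(T)` lies in `C_S(E)`; subgroups
centralizing `E` lie in `C_S(E)`. -/

namespace Cfsg.Agent.Lib.Helper27.CE

open Cfsg Cfsg.FusionSystem Cfsg.Agent.Lib.Helper27 Cfsg.Agent.Lib.Helper27.WN Cfsg.Agent.H26

variable {Ω : Type*} [Group Ω] {S T : Subgroup Ω}

section

variable [Finite S] {p : ℕ} [Fact p.Prime] {F : FusionSystem S} {E : FusionSystem T}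

/-- the general fixed point argument: if an admissible `a` sends `x` to `x η`, where `η ∈ U` is fixed by the
restriction of `a` to `U`, then `a` fixes `x` -/
theorem Adm.fixed_of_twist (hS : IsPGroup p S) {U : Subgroup Ω} {a : MulAut ↥(U ⊔ centralizerIn S T)}
    (hcop : (orderOf a).Coprime p) (hVS : U ⊔ centralizerIn S T ≤ S)
    {x η : ↥(U ⊔ centralizerIn S T)} (h1 : a x = x * η) (h2 : a η = η) : a x = x := by
  obtain ⟨k, hk⟩ := (hS.to_le hVS) η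
  have := eq_one_of_map_eq_mul a hcop h1 h2 hk
  rw [h1, this, mul_one]

/-- **The focal subgroup of `C_F(T)` lies in `C_S(E)`**, elementwise: for a map `Φ` of `F` which is the identity
on `T` and `c ∈ C_S(T)` in its source, `c⁻¹ Φ(c) ∈ C_S(E)`. -/
theorem inv_mul_mem_cse (hS : IsPGroup p S) (hF : F.IsSaturated p) (hE : E.IsNormalIn F p)
    {W : Subgroup Ω} (hTW : T ≤ W) {c : Ω} (hcW : c ∈ W) (hc : c ∈ centralizerIn S T)
    {Φ : W →* Ω} (hΦ : Φ ∈ F.Hom W) (hΦT : ∀ t : T, Φ (Subgroup.inclusion hTW t) = t) :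
    c⁻¹ * Φ ⟨c, hcW⟩ ∈ cse p F E := by
  have hTsc : F.StronglyClosed T := hE.1.2.2.2.1
  have hTS : T ≤ S := hTsc.1
  have hc' : Φ ⟨c, hcW⟩ ∈ centralizerIn S T := hom_mem_C hTsc hTW hΦ ⟨c, hcW⟩ hc
  obtain ⟨c', hc'def⟩ : ∃ c', c' = Φ ⟨c, hcW⟩ := ⟨_, rfl⟩
  rw [← hc'def] at hc' ⊢
  refine ⟨Subgroup.mul_mem _ (Subgroup.inv_mem _ hc) hc', fun U a hA => ?_⟩
  have hA' := hA
  obtain ⟨hU, haF, hcop, hmod, α, hαa, hαE, hα'⟩ := hA
  have hUT := hU.1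
  have hVS : U ⊔ centralizerIn S T ≤ S := sup_le_S (hUT.trans hTS)
  have haiso := (mem_autGroup_iff F hVS a).mp haF
  obtain ⟨hδU, hδc⟩ := hA'.delta_mem hTsc hc
  obtain ⟨hδ'U, hδ'c⟩ := hA'.delta_mem hTsc hc'
  obtain ⟨δ, hδ⟩ : ∃ δ, δ = c⁻¹ * ((a ⟨c, Subgroup.mem_sup_right hc⟩ : ↥(U ⊔ centralizerIn S T)) : Ω) :=
    ⟨_, rfl⟩
  obtain ⟨δ', hδ'⟩ : ∃ δ', δ' = c'⁻¹ * ((a ⟨c', Subgroup.mem_sup_right hc'⟩ : ↥(U ⊔ centralizerIn S T)) : Ω) :=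
    ⟨_, rfl⟩
  rw [← hδ] at hδU hδc
  rw [← hδ'] at hδ'U hδ'c
  have hac : ((a ⟨c, Subgroup.mem_sup_right hc⟩ : ↥(U ⊔ centralizerIn S T)) : Ω) = c * δ := by
    rw [hδ]; group
  have hac' : ((a ⟨c', Subgroup.mem_sup_right hc'⟩ : ↥(U ⊔ centralizerIn S T)) : Ω) = c' * δ' := by
    rw [hδ']; group
  have hUW : U ≤ W := hUT.trans hTW
  have hWcV : U ⊔ Subgroup.zpowers c ≤ U ⊔ centralizerIn S T :=
    sup_le_sup_left (by rw [Subgroup.zpowers_le]; exact hc) _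
  have hWcW : U ⊔ Subgroup.zpowers c ≤ W := sup_le hUW (by rw [Subgroup.zpowers_le]; exact hcW)
  -- `ψ₂ = Φ ∘ a`
  have ha_res := hom_restrict F hWcV haiso
  have h : ∀ w : ↥(U ⊔ Subgroup.zpowers c),
      (((U ⊔ centralizerIn S T).subtype.comp (a : _ ≃* _).toMonoidHom).comp
        (Subgroup.inclusion hWcV)) w ∈ W := by
    apply map_sup_zpowers_mem
    · intro x
      show ((a (Subgroup.inclusion le_sup_left x) : ↥(U ⊔ centralizerIn S T)) : Ω) ∈ W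
      rw [hαa]; exact hUW (α x).2
    · show ((a ⟨c, Subgroup.mem_sup_right hc⟩ : ↥(U ⊔ centralizerIn S T)) : Ω) ∈ W
      rw [hac]; exact W.mul_mem hcW (hUW hδU)
  have hψ₂ := F.comp_mem ha_res hΦ h
  -- `ψ₁ = a ∘ Φ`
  have hΦ_res := hom_restrict F hWcW hΦ
  have h' : ∀ w : ↥(U ⊔ Subgroup.zpowers c), (Φ.comp (Subgroup.inclusion hWcW)) w ∈
      U ⊔ centralizerIn S T := by
    apply map_sup_zpowers_mem
    · intro x
      show Φ (Subgroup.inclusion hTW ⟨x, hUT x.2⟩) ∈ _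
      rw [hΦT]; exact Subgroup.mem_sup_left x.2
    · show Φ ⟨c, hcW⟩ ∈ _
      rw [← hc'def]; exact Subgroup.mem_sup_right hc'
  have hψ₁ := F.comp_mem hΦ_res haiso h'
  have hη : δ⁻¹ * δ' ∈ U := U.mul_mem (U.inv_mem hδU) hδ'U
  have hΦδ : Φ ⟨δ, hUW hδU⟩ = δ := hΦT ⟨δ, hUT hδU⟩
  have hψ₂c : Φ ⟨((a ⟨c, Subgroup.mem_sup_right hc⟩ : ↥(U ⊔ centralizerIn S T)) : Ω),
      h ⟨c, Subgroup.mem_sup_right (Subgroup.mem_zpowers c)⟩⟩ = c' * δ := by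
    have : (⟨((a ⟨c, Subgroup.mem_sup_right hc⟩ : ↥(U ⊔ centralizerIn S T)) : Ω),
        h ⟨c, Subgroup.mem_sup_right (Subgroup.mem_zpowers c)⟩⟩ : W) = ⟨c, hcW⟩ * ⟨δ, hUW hδU⟩ :=
      Subtype.ext hac
    rw [this, map_mul, hΦδ, ← hc'def]
  have hfix : α ⟨δ⁻¹ * δ', hη⟩ = ⟨δ⁻¹ * δ', hη⟩ := by
    refine twist_fixed₂ hS hF hE hU hαE hα' (le_sup_left : U ≤ U ⊔ Subgroup.zpowers c)
      (Subgroup.mem_sup_right (Subgroup.mem_zpowers c)) hη hψ₁ hψ₂ α (fun x => ?_) (fun x => ?_)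
      (fun x hx => ?_) ?_
    · show ((a ⟨Φ (Subgroup.inclusion hTW ⟨x, hUT x.2⟩), _⟩ : ↥(U ⊔ centralizerIn S T)) : Ω) = _
      have : (⟨Φ (Subgroup.inclusion hTW ⟨x, hUT x.2⟩), h' (Subgroup.inclusion le_sup_left x)⟩ :
          ↥(U ⊔ centralizerIn S T)) = Subgroup.inclusion le_sup_left x :=
        Subtype.ext (hΦT ⟨x, hUT x.2⟩)
      rw [this, hαa]
    · show Φ ⟨((a (Subgroup.inclusion le_sup_left x) : ↥(U ⊔ centralizerIn S T)) : Ω), _⟩ = _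
      have : (⟨((a (Subgroup.inclusion le_sup_left x) : ↥(U ⊔ centralizerIn S T)) : Ω),
          h (Subgroup.inclusion le_sup_left x)⟩ : W) = Subgroup.inclusion hTW ⟨α x, hUT (α x).2⟩ :=
        Subtype.ext (hαa x)
      rw [this, hΦT]
    · show x * Φ ⟨((a ⟨c, Subgroup.mem_sup_right hc⟩ : ↥(U ⊔ centralizerIn S T)) : Ω), _⟩ =
        Φ ⟨((a ⟨c, Subgroup.mem_sup_right hc⟩ : ↥(U ⊔ centralizerIn S T)) : Ω), _⟩ * x
      rw [hψ₂c]
      have e1 := (mem_centralizerIn_iff.mp hc').2 x (hUT hx)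
      have e2 := hδc x hx
      calc x * (c' * δ) = (x * c') * δ := by group
        _ = c' * (x * δ) := by rw [e1]; group
        _ = c' * δ * x := by rw [e2]; group
    · show ((a ⟨Φ ⟨c, hcW⟩, _⟩ : ↥(U ⊔ centralizerIn S T)) : Ω) =
        Φ ⟨((a ⟨c, Subgroup.mem_sup_right hc⟩ : ↥(U ⊔ centralizerIn S T)) : Ω), _⟩ * (δ⁻¹ * δ')
      rw [hψ₂c]
      have : (⟨Φ ⟨c, hcW⟩, h' ⟨c, Subgroup.mem_sup_right (Subgroup.mem_zpowers c)⟩⟩ :
          ↥(U ⊔ centralizerIn S T)) = ⟨c', Subgroup.mem_sup_right hc'⟩ := Subtype.ext hc'def.symm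
      rw [this, hac']
      group
  -- the fixed point argument
  have hx : a ⟨c⁻¹ * c', Subgroup.mem_sup_right (Subgroup.mul_mem _ (Subgroup.inv_mem _ hc) hc')⟩ =
      ⟨c⁻¹ * c', Subgroup.mem_sup_right (Subgroup.mul_mem _ (Subgroup.inv_mem _ hc) hc')⟩ *
        Subgroup.inclusion le_sup_left ⟨δ⁻¹ * δ', hη⟩ := by
    have e0 : (⟨c⁻¹ * c', Subgroup.mem_sup_right (Subgroup.mul_mem _ (Subgroup.inv_mem _ hc) hc')⟩ :
        ↥(U ⊔ centralizerIn S T)) = (⟨c, Subgroup.mem_sup_right hc⟩)⁻¹ * ⟨c', Subgroup.mem_sup_right hc'⟩ :=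
      rfl
    apply Subtype.ext
    rw [e0, map_mul, map_inv]
    show (((a ⟨c, Subgroup.mem_sup_right hc⟩ : ↥(U ⊔ centralizerIn S T)) : Ω))⁻¹ *
      ((a ⟨c', Subgroup.mem_sup_right hc'⟩ : ↥(U ⊔ centralizerIn S T)) : Ω) = c⁻¹ * c' * (δ⁻¹ * δ')
    rw [hac, hac']
    have e1 := (mem_centralizerIn_iff.mp hc).2 δ (hUT hδU)
    have e2 := (mem_centralizerIn_iff.mp hc').2 δ (hUT hδU)
    have e3 : δ⁻¹ * c⁻¹ = c⁻¹ * δ⁻¹ := by
      calc δ⁻¹ * c⁻¹ = (c * δ)⁻¹ := by group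
        _ = (δ * c)⁻¹ := by rw [e1]
        _ = c⁻¹ * δ⁻¹ := by group
    have e4 : δ⁻¹ * c' = c' * δ⁻¹ := by
      calc δ⁻¹ * c' = δ⁻¹ * (c' * δ) * δ⁻¹ := by group
        _ = δ⁻¹ * (δ * c') * δ⁻¹ := by rw [e2]
        _ = c' * δ⁻¹ := by group
    calc (c * δ)⁻¹ * (c' * δ') = (δ⁻¹ * c⁻¹) * c' * δ' := by group
      _ = c⁻¹ * (δ⁻¹ * c') * δ' := by rw [e3]; group
      _ = c⁻¹ * c' * (δ⁻¹ * δ') := by rw [e4]; group
  have hη' : a (Subgroup.inclusion le_sup_left ⟨δ⁻¹ * δ', hη⟩) =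
      Subgroup.inclusion le_sup_left ⟨δ⁻¹ * δ', hη⟩ := by
    apply Subtype.ext
    rw [hαa, hfix]; rfl
  exact Adm.fixed_of_twist hS hcop hVS hx hη'

/-- **subgroups of `C_S(T)` centralizing `E` lie in `C_S(E)`** -/
theorem le_cse (hS : IsPGroup p S) (hF : F.IsSaturated p) (hE : E.IsNormalIn F p)
    {Y : Subgroup Ω} (hY : Y ≤ centralizerIn S T)
    (hEY : ∀ P : Subgroup Ω, E.Hom P ⊆ F.centralizerHom Y P) : Y ≤ cse p F E := by
  have hTsc : F.StronglyClosed T := hE.1.2.2.2.1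
  have hTS : T ≤ S := hTsc.1
  intro y hyY
  have hy := hY hyY
  refine ⟨hy, fun U a hA => ?_⟩
  have hA' := hA
  obtain ⟨hU, haF, hcop, hmod, α, hαa, hαE, hα'⟩ := hA
  have hUT := hU.1
  have hVS : U ⊔ centralizerIn S T ≤ S := sup_le_S (hUT.trans hTS)
  have haiso := (mem_autGroup_iff F hVS a).mp haF
  obtain ⟨hδU, hδc⟩ := hA'.delta_mem hTsc hy
  obtain ⟨δ, hδ⟩ : ∃ δ, δ = y⁻¹ * ((a ⟨y, Subgroup.mem_sup_right hy⟩ : ↥(U ⊔ centralizerIn S T)) : Ω) :=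
    ⟨_, rfl⟩
  rw [← hδ] at hδU hδc
  have hay : ((a ⟨y, Subgroup.mem_sup_right hy⟩ : ↥(U ⊔ centralizerIn S T)) : Ω) = y * δ := by
    rw [hδ]; group
  -- the extension of `α` trivial on `Y`
  obtain ⟨-, -, -, ψ, hψ, hψU, hψY⟩ := hEY U ((mem_autGroup_iff E hUT α).mp hαE)
  have hWV : U ⊔ Subgroup.zpowers y ≤ U ⊔ centralizerIn S T :=
    sup_le_sup_left (by rw [Subgroup.zpowers_le]; exact hy) _
  have hWY : U ⊔ Subgroup.zpowers y ≤ U ⊔ Y :=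
    sup_le_sup_left (by rw [Subgroup.zpowers_le]; exact hyY) _
  have hψ₁ := hom_restrict F hWV haiso
  have hψ₂ := hom_restrict F hWY hψ
  have hfix : α ⟨δ, hδU⟩ = ⟨δ, hδU⟩ := by
    refine twist_fixed₂ hS hF hE hU hαE hα' (le_sup_left : U ≤ U ⊔ Subgroup.zpowers y)
      (Subgroup.mem_sup_right (Subgroup.mem_zpowers y)) hδU hψ₁ hψ₂ α (fun x => ?_) (fun x => ?_)
      (fun x hx => ?_) ?_
    · exact hαa x
    · exact hψU x
    · show x * ψ (Subgroup.inclusion le_sup_right ⟨y, hyY⟩) = ψ (Subgroup.inclusion le_sup_right ⟨y, hyY⟩) * x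
      rw [hψY]
      exact (mem_centralizerIn_iff.mp hy).2 x (hUT hx)
    · show ((a ⟨y, Subgroup.mem_sup_right hy⟩ : ↥(U ⊔ centralizerIn S T)) : Ω) =
        ψ (Subgroup.inclusion le_sup_right ⟨y, hyY⟩) * δ
      rw [hψY, hay]
  have hx : a ⟨y, Subgroup.mem_sup_right hy⟩ = ⟨y, Subgroup.mem_sup_right hy⟩ *
      Subgroup.inclusion le_sup_left ⟨δ, hδU⟩ := Subtype.ext hay
  have hη' : a (Subgroup.inclusion le_sup_left ⟨δ, hδU⟩) = Subgroup.inclusion le_sup_left ⟨δ, hδU⟩ := by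
    apply Subtype.ext
    rw [hαa, hfix]; rfl
  exact Adm.fixed_of_twist hS hcop hVS hx hη'

end

end Cfsg.Agent.Lib.Helper27.CE
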