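import Mathlib
import Cfsg.Agent.Lib.Helper27.FusionLift
import Cfsg.Agent.Lib.Helper27.FusionInduced
import Cfsg.Agent.Lib.Helper27.FusionNormalCrit
import Cfsg.Agent.Lib.Helper27.FusionAlperin

set_option autoImplicit false

/-! The subgroup of `S` of the elements inducing on a strongly closed subgroup `T` an automorphism in a
given group `K` of automorphisms of `T`. -/

namespace Cfsg.Agent.Lib.Helper27.Env

open Cfsg Cfsg.FusionSystem Cfsg.Agent.Lib.Helper27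

variable {Ω : Type*} [Group Ω] {S T : Subgroup Ω}

/-- `a` is the automorphism of `T` induced by conjugation by `s`. -/
def IsConjBy (a : MulAut T) (s : Ω) : Prop := ∀ t : T, ((a t : T) : Ω) = s * t * s⁻¹

theorem IsConjBy.one : IsConjBy (1 : MulAut T) (1 : Ω) := fun t => by
  rw [MulAut.one_apply]; group

theorem IsConjBy.mul {a b : MulAut T} {s r : Ω} (ha : IsConjBy a s) (hb : IsConjBy b r) :
    IsConjBy (a * b) (s * r) := fun t => by
  rw [MulAut.mul_apply, ha, hb]; group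

theorem IsConjBy.inv {a : MulAut T} {s : Ω} (ha : IsConjBy a s) : IsConjBy a⁻¹ s⁻¹ := fun t => by
  have h := ha (a⁻¹ t)
  rw [MulAut.apply_inv_self] at h
  rw [h]; group

theorem IsConjBy.unique {a b : MulAut T} {s : Ω} (ha : IsConjBy a s) (hb : IsConjBy b s) : a = b := by
  ext t
  rw [ha, hb]

theorem IsConjBy.pow {a : MulAut T} {s : Ω} (ha : IsConjBy a s) (n : ℕ) : IsConjBy (a ^ n) (s ^ n) := by
  induction n with
  | zero => rw [pow_zero, pow_zero]; exact IsConjBy.one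
  | succ n ih => rw [pow_succ, pow_succ]; exact ih.mul ha

theorem isConjBy_conj (t : T) : IsConjBy (MulAut.conj t) (t : Ω) := fun x => by
  rw [MulAut.conj_apply]; rfl

theorem isConjBy_of_mem_centralizer {c : Ω} (hc : c ∈ Subgroup.centralizer (T : Set Ω)) :
    IsConjBy (1 : MulAut T) c := fun t => by
  rw [MulAut.one_apply]
  have := Subgroup.mem_centralizer_iff.mp hc t t.2
  rw [← this]; group

/-- Elements normalizing `T` induce automorphisms of `T`. -/
theorem exists_isConjBy {s : Ω} (hs : ∀ x, x ∈ T ↔ s * x * s⁻¹ ∈ T) : ∃ a : MulAut T, IsConjBy a s := by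
  have hsN : s ∈ Subgroup.normalizer (T : Set Ω) := Subgroup.mem_normalizer_iff.mpr hs
  exact ⟨Subgroup.normalizerMonoidHom T ⟨s, hsN⟩, fun t => rfl⟩

/-- The subgroup of `S` of the elements inducing on `T` an automorphism in `K`. -/
def SK (S : Subgroup Ω) (K : Subgroup (MulAut T)) : Subgroup Ω where
  carrier := {s | s ∈ S ∧ ∃ a ∈ K, IsConjBy a s}
  one_mem' := ⟨S.one_mem, 1, K.one_mem, IsConjBy.one⟩
  mul_mem' := by
    rintro s r ⟨hs, a, ha, h⟩ ⟨hr, b, hb, h'⟩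
    exact ⟨S.mul_mem hs hr, a * b, K.mul_mem ha hb, h.mul h'⟩
  inv_mem' := by
    rintro s ⟨hs, a, ha, h⟩
    exact ⟨S.inv_mem hs, a⁻¹, K.inv_mem ha, h.inv⟩

theorem mem_SK {K : Subgroup (MulAut T)} {s : Ω} : s ∈ SK S K ↔ s ∈ S ∧ ∃ a ∈ K, IsConjBy a s := Iff.rfl

theorem SK_le (K : Subgroup (MulAut T)) : SK S K ≤ S := fun _ h => h.1

theorem SK_mono {K K' : Subgroup (MulAut T)} (h : K ≤ K') : SK S K ≤ SK S K' :=
  fun _ ⟨hs, a, ha, hc⟩ => ⟨hs, a, h ha, hc⟩

theorem mem_SK_iff {K : Subgroup (MulAut T)} {s : Ω} {a : MulAut T} (hc : IsConjBy a s) (hs : s ∈ S) :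
    s ∈ SK S K ↔ a ∈ K := by
  constructor
  · rintro ⟨-, b, hb, hbc⟩
    rw [hc.unique hbc]; exact hb
  · intro ha
    exact ⟨hs, a, ha, hc⟩

theorem T_le_SK (hTS : T ≤ S) {K : Subgroup (MulAut T)} (hInn : ∀ t : T, MulAut.conj t ∈ K) :
    T ≤ SK S K := fun t ht => ⟨hTS ht, MulAut.conj ⟨t, ht⟩, hInn _, isConjBy_conj ⟨t, ht⟩⟩

theorem centralizerIn_le_SK (K : Subgroup (MulAut T)) : centralizerIn S T ≤ SK S K :=
  fun _ hc => ⟨hc.1, 1, K.one_mem, isConjBy_of_mem_centralizer hc.2⟩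

theorem centralizerIn_SK (K : Subgroup (MulAut T)) : centralizerIn (SK S K) T = centralizerIn S T := by
  apply le_antisymm
  · intro c hc
    exact ⟨(SK_le K) hc.1, hc.2⟩
  · intro c hc
    exact ⟨centralizerIn_le_SK K hc, hc.2⟩

/-! ### Restriction of maps to `T` and conjugation -/

variable [Finite S] {F : FusionSystem S}

/-- The automorphism of the strongly closed subgroup `T` induced by a map of `F` whose source contains `T`. -/
theorem exists_resAut_hom (hT : F.StronglyClosed T) {Q : Subgroup Ω} (hTQ : T ≤ Q) {ψ : Q →* Ω}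
    (hψ : ψ ∈ F.Hom Q) :
    ∃ b ∈ F.autGroup T, ∀ t : T, ((b t : T) : Ω) = ψ ⟨t, hTQ t.2⟩ := by
  haveI : Finite T := Finite.of_injective (Subgroup.inclusion hT.1) (Subgroup.inclusion_injective hT.1)
  have hres : ψ.comp (Subgroup.inclusion hTQ) ∈ F.Hom T := hom_restrict F hTQ hψ
  have hval : ∀ t : T, (ψ.comp (Subgroup.inclusion hTQ)) t ∈ T := fun t => hT.2 T le_rfl _ hres t
  have hinj : Function.Injective ((ψ.comp (Subgroup.inclusion hTQ)).codRestrict T hval) := by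
    intro x y h
    exact F.injective_of_mem hres (congrArg Subtype.val h)
  obtain ⟨b, hb⟩ : ∃ b : MulAut T, ∀ t, ((b t : T) : Ω) = (ψ.comp (Subgroup.inclusion hTQ)) t :=
    ⟨MulEquiv.ofBijective _ ⟨hinj, Finite.injective_iff_surjective.mp hinj⟩, fun t => rfl⟩
  exact ⟨b, (mem_autGroup_iff F hT.1 b).mpr (isIso_of_hom_of_eq hres hb), hb⟩

omit [Finite S] in
/-- Conjugation transported along a map: if `a` is induced by `x` and `b` is the restriction of `ψ` to `T`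
then `b a b⁻¹` is induced by `ψ x`. -/
theorem isConjBy_map {Q : Subgroup Ω} (hTQ : T ≤ Q) (ψ : Q →* Ω) {b : MulAut T}
    (hb : ∀ t : T, ((b t : T) : Ω) = ψ ⟨t, hTQ t.2⟩) {a : MulAut T} (x : Q) (ha : IsConjBy a (x : Ω)) :
    IsConjBy (b * a * b⁻¹) (ψ x) := by
  intro t
  rw [MulAut.mul_apply, MulAut.mul_apply, hb]
  have h1 : (⟨((a (b⁻¹ t) : T) : Ω), hTQ (a (b⁻¹ t)).2⟩ : Q) =
      x * ⟨((b⁻¹ t : T) : Ω), hTQ (b⁻¹ t).2⟩ * x⁻¹ := by
    apply Subtype.ext
    rw [ha]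
    rfl
  rw [h1, map_mul, map_mul, map_inv, ← hb, MulAut.apply_inv_self]

/-- The subgroup `SK S K` is strongly closed in `F`, for `K` containing the inner automorphisms and normalized
by `Aut_F(T)`. -/
theorem SK_stronglyClosed {p : ℕ} [Fact p.Prime] (hS : IsPGroup p S) (hF : F.IsSaturated p)
    (hT : F.StronglyClosed T) {K : Subgroup (MulAut T)} (hInn : ∀ t : T, MulAut.conj t ∈ K)
    (hnorm : ∀ b ∈ F.autGroup T, ∀ k ∈ K, b * k * b⁻¹ ∈ K) : F.StronglyClosed (SK S K) := by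
  refine ⟨SK_le K, fun R hR φ hφ x => ?_⟩
  obtain ⟨ψ, hψ, hψφ⟩ := exists_lift hS hF hT hφ
  obtain ⟨b, hbF, hb⟩ := exists_resAut_hom hT (le_sup_right : T ≤ R ⊔ T) hψ
  obtain ⟨-, a, haK, ha⟩ := hR x.2
  have h1 : IsConjBy (b * a * b⁻¹) (ψ (Subgroup.inclusion le_sup_left x)) :=
    isConjBy_map le_sup_right ψ hb (Subgroup.inclusion le_sup_left x) ha
  have ht₀ := hψφ x
  have h2 : IsConjBy (MulAut.conj (⟨_, ht₀⟩ : T)) ((φ x)⁻¹ * ψ (Subgroup.inclusion le_sup_left x)) :=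
    isConjBy_conj ⟨_, ht₀⟩
  have h3 := h1.mul h2.inv
  have h4 : ψ (Subgroup.inclusion le_sup_left x) * ((φ x)⁻¹ * ψ (Subgroup.inclusion le_sup_left x))⁻¹ =
      φ x := by group
  rw [h4] at h3
  exact ⟨(F.le_of_mem hφ).2 x, _, K.mul_mem (hnorm b hbF a haK) (K.inv_mem (hInn _)), h3⟩

end Cfsg.Agent.Lib.Helper27.Env
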