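import Mathlib
import Cfsg.Agent.Lib.Helper27.EnvA
import Cfsg.Agent.Lib.Helper27.FusionSat
import Cfsg.Agent.H26.PPowerNormal

set_option autoImplicit false

/-! The hyperfocal subgroup lies in `SK S K` when `K` contains the `p'`-elements of `Aut_F(T)`. -/

namespace Cfsg.Agent.Lib.Helper27.Env

open Cfsg Cfsg.FusionSystem Cfsg.Agent.Lib.Helper27 Cfsg.Agent.H26

variable {Ω : Type*} [Group Ω] {S T : Subgroup Ω} [Finite S] {F : FusionSystem S}

omit [Finite S] in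
/-- The automorphism of `T` induced by an element of `S` lies in `Aut_F(T)`. -/
theorem isConjBy_mem_autGroup (hTS : T ≤ S) {a : MulAut T} {s : Ω} (hs : s ∈ S) (ha : IsConjBy a s) :
    a ∈ F.autGroup T := by
  apply autInducedBy_le_autGroup F hTS
  rw [mem_autInducedBy_iff]
  exact ⟨s, hs, ha⟩

/-- Every element of `S` induces an automorphism of the strongly closed subgroup `T`. -/
theorem exists_isConjBy_of_mem (hT : F.StronglyClosed T) {s : Ω} (hs : s ∈ S) :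
    ∃ a : MulAut T, IsConjBy a s := by
  have hsN : s ∈ Subgroup.normalizer (T : Set Ω) := le_normalizer_of_stronglyClosed hT hs
  exact ⟨Subgroup.normalizerMonoidHom T ⟨s, hsN⟩, fun t => rfl⟩

variable {p : ℕ} [Fact p.Prime]

/-- The order of the restriction to `T` of an automorphism divides its order. -/
theorem orderOf_res_dvd {D : Subgroup Ω} (hTD : T ≤ D) {u : MulAut D} {b : MulAut T}
    (hb : ∀ t : T, ((b t : T) : Ω) = ((u (Subgroup.inclusion hTD t) : D) : Ω)) :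
    orderOf b ∣ orderOf u := by
  apply orderOf_dvd_of_pow_eq_one
  ext t
  have h := pow_restrict hTD (fun x => (hb x).symm) (orderOf u) t
  rw [← h, pow_orderOf_eq_one]
  rfl

theorem hyperfocal_le_SK (hS : IsPGroup p S) (hF : F.IsSaturated p) (hT : F.StronglyClosed T)
    {K : Subgroup (MulAut T)} (hInn : ∀ t : T, MulAut.conj t ∈ K)
    (hnorm : ∀ b ∈ F.autGroup T, ∀ k ∈ K, b * k * b⁻¹ ∈ K)
    (hcop : ∀ b ∈ F.autGroup T, (orderOf b).Coprime p → b ∈ K) :
    F.hyperfocalSubgroup p ≤ SK S K := by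
  unfold hyperfocalSubgroup
  rw [Subgroup.closure_le]
  rintro y ⟨P, α, x, hPS, hα, rfl⟩
  refine commutator_mem_of_pResidual (F.autGroup P) p (SK S K) (fun α hαcop x => ?_) α hα x
  have hαiso : IsIso F ((α : MulAut P) : P ≃* P) := (mem_autGroup_iff F hPS α).mp α.2
  have hαcop' : (orderOf (α : MulAut P)).Coprime p := by
    rw [Subgroup.orderOf_coe]; exact hαcop
  obtain ⟨u, hu, hucop, hux⟩ := exists_lift_coprime hS hF hT hαiso hαcop'
  obtain ⟨b, hbF, hb⟩ := exists_resAut_hom hT (le_sup_right : T ≤ P ⊔ T) hu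
  have hbcop : (orderOf b).Coprime p :=
    Nat.Coprime.coprime_dvd_left (orderOf_res_dvd (u := (u : MulAut ↥(P ⊔ T))) le_sup_right hb) hucop
  have hbK : b ∈ K := hcop b hbF hbcop
  have hxS : (x : Ω) ∈ S := hPS x.2
  obtain ⟨a, ha⟩ := exists_isConjBy_of_mem hT hxS
  have haF : a ∈ F.autGroup T := isConjBy_mem_autGroup hT.1 hxS ha
  have h1 : IsConjBy (b * a * b⁻¹) (((P ⊔ T).subtype.comp (u : ↥(P ⊔ T) ≃* ↥(P ⊔ T)).toMonoidHom)
      (Subgroup.inclusion le_sup_left x)) :=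
    isConjBy_map le_sup_right _ hb (Subgroup.inclusion le_sup_left x) ha
  have ht₀ := hux x
  have h2 := isConjBy_conj (⟨_, ht₀⟩ : T)
  have h3 := (ha.inv.mul h1).mul h2.inv
  have h4 : (x : Ω)⁻¹ * (((P ⊔ T).subtype.comp (u : ↥(P ⊔ T) ≃* ↥(P ⊔ T)).toMonoidHom)
      (Subgroup.inclusion le_sup_left x)) *
      ((((α : MulAut P) x : P) : Ω)⁻¹ * ((u (Subgroup.inclusion le_sup_left x) : ↥(P ⊔ T)) : Ω))⁻¹ =
      (x : Ω)⁻¹ * (((α : MulAut P) x : P) : Ω) := by
    show (x : Ω)⁻¹ * ((u (Subgroup.inclusion le_sup_left x) : ↥(P ⊔ T)) : Ω) * _ = _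
    group
  rw [h4] at h3
  refine ⟨S.mul_mem (S.inv_mem hxS) (hPS ((α : MulAut P) x).2), _, ?_, h3⟩
  refine K.mul_mem ?_ (K.inv_mem (hInn _))
  have h5 : a⁻¹ * (b * a * b⁻¹) = (a⁻¹ * b * a⁻¹⁻¹) * b⁻¹ := by group
  rw [h5]
  exact K.mul_mem (hnorm a⁻¹ (Subgroup.inv_mem _ haF) b hbK) (K.inv_mem hbK)

end Cfsg.Agent.Lib.Helper27.Env
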