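import Mathlib
import Cfsg.Agent.Lib.Helper27.EnvB
import Cfsg.Agent.Lib.Helper27.FusionPPower
import Cfsg.Agent.H26.Invariant
import Cfsg.Agent.H26.PrimeIndex

set_option autoImplicit false

/-! Invariance of subsystems: restriction to intermediate systems, a transitivity criterion, and the
invariance of subsystems of `p`-power index of an invariant subsystem. -/

namespace Cfsg.Agent.Lib.Helper27.Env

open Cfsg Cfsg.FusionSystem Cfsg.Agent.Lib.Helper27 Cfsg.Agent.H26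

variable {Ω : Type*} [Group Ω] {S T : Subgroup Ω}

theorem strongInv_of_le {E : FusionSystem T} {F : FusionSystem S} {U : Subgroup Ω} {G : FusionSystem U}
    (hGF : G.IsSubsystemOf F) (hSI : StrongInv E F) : StrongInv E G :=
  fun P Q hPQ hQT φ hφ hφQ ψ hψ => hSI P Q hPQ hQT φ hφ hφQ ψ (hGF Q hψ)

theorem stronglyClosed_of_le {F : FusionSystem S} {U : Subgroup Ω} {G : FusionSystem U}
    (hGF : G.IsSubsystemOf F) {R : Subgroup Ω} (hR : F.StronglyClosed R) (hRU : R ≤ U) :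
    G.StronglyClosed R :=
  ⟨hRU, fun Q hQR φ hφ x => hR.2 Q hQR φ (hGF Q hφ) x⟩

section Fin

variable [Finite S] {p : ℕ} [Fact p.Prime]

/-- A subsystem invariant in `F` is invariant in every saturated intermediate system. -/
theorem isInvariantIn_of_le (hS : IsPGroup p S) {E : FusionSystem T} {F : FusionSystem S}
    (hF : F.IsSaturated p) {U : Subgroup Ω} {G : FusionSystem U} (hG : G.IsSaturated p)
    (hGF : G.IsSubsystemOf F) (hEG : E.IsSubsystemOf G) (hinv : E.IsInvariantIn F) :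
    E.IsInvariantIn G := by
  have hUS : U ≤ S := le_of_subsystem hGF
  haveI : Finite U := Finite.of_injective (Subgroup.inclusion hUS) (Subgroup.inclusion_injective hUS)
  have hT : F.StronglyClosed T := hinv.2.1
  have hTG : G.StronglyClosed T := stronglyClosed_of_le hGF hT (le_of_subsystem hEG)
  have hSI : StrongInv E F := (isInvariantIn_iff_strongInv hS hF hinv.1 hT).mp hinv
  exact (isInvariantIn_iff_strongInv (hS.to_le hUS) hG hEG hTG).mpr (strongInv_of_le hGF hSI)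

omit [Fact p.Prime] in
/-- Transitivity of invariance, given the invariance condition and strong closure in the big system. -/
theorem isInvariantIn_trans {F : FusionSystem S} {U' U'' : Subgroup Ω} {G' : FusionSystem U'}
    {G'' : FusionSystem U''} (hG'F : G'.IsInvariantIn F) (hG''G' : G''.IsInvariantIn G')
    (hU'' : F.StronglyClosed U'') (hInv : InvCond G'' F) : G''.IsInvariantIn F := by
  have hU''U' : U'' ≤ U' := le_of_subsystem hG''G'.1
  have hU'S : U' ≤ S := le_of_subsystem hG'F.1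
  refine ⟨fun P φ hφ => hG'F.1 P (hG''G'.1 P hφ), hU'', hInv, fun P hPU'' φ hφ => ?_⟩
  obtain ⟨β, hβ, φ₀, hφ₀, h1⟩ := hG'F.2.2.2 P (hPU''.trans hU''U') φ hφ
  obtain ⟨α, hα, ψ, hψ, h2⟩ := hG''G'.2.2.2 P hPU'' φ₀ hφ₀
  have hβhom := (mem_autGroup_iff F hU'S β).mp hβ
  obtain ⟨b, hbF, hb⟩ := exists_resAut_hom hU'' hU''U' hβhom
  have hαF : α ∈ F.autGroup U'' :=
    Cfsg.Agent.H26.autGroup_le_of_subsystem hG'F.1 hU''U' hU'S hα
  refine ⟨b * α, Subgroup.mul_mem _ hbF hαF, ψ, hψ, fun x hx => ?_⟩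
  have hφ₀U' : φ₀ x ∈ U' := (G'.le_of_mem hφ₀).2 x
  rw [h1 x hφ₀U', MulAut.mul_apply, hb]
  show ((β ⟨φ₀ x, hφ₀U'⟩ : U') : Ω) = ((β ⟨((α ⟨ψ x, hx⟩ : U'') : Ω), _⟩ : U') : Ω)
  congr 2
  apply Subtype.ext
  exact h2 x hx

end Fin

/-- Strong invariance: conjugating an automorphism of `G'` by the restriction of an automorphism in `F` of an
overgroup gives an automorphism of `G'`. -/
theorem congr_mem_autGroup_of_strongInv {F : FusionSystem S} {U' : Subgroup Ω} {G' : FusionSystem U'}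
    (hSI : StrongInv G' F) {Q : Subgroup Ω} (hQU' : Q ≤ U') (hQS : Q ≤ S) {α : MulAut Q}
    (hα : α ∈ F.autGroup Q) {P U₁ : Subgroup Ω} (hPQ : P ≤ Q) (e : P ≃* U₁)
    (he : ∀ x : P, ((e x : U₁) : Ω) = ((α ⟨x, hPQ x.2⟩ : Q) : Ω)) {γ : MulAut P}
    (hγ : γ ∈ G'.autGroup P) : MulAut.congr e γ ∈ G'.autGroup U₁ := by
  have hPU' : P ≤ U' := hPQ.trans hQU'
  have hγiso := (mem_autGroup_iff G' hPU' γ).mp hγ
  have hαiso := (mem_autGroup_iff F hQS α).mp hα
  obtain ⟨χ, hχ, h⟩ := hSI P Q hPQ hQU' _ hγiso (fun x => hPQ (γ x).2) _ hαiso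
  have hU₁U' : U₁ ≤ U' := by
    intro z hz
    obtain ⟨x, hx⟩ := e.surjective ⟨z, hz⟩
    have h1 := he x
    rw [hx] at h1
    have h2 : z = ((α ⟨x, hPQ x.2⟩ : Q) : Ω) := h1
    rw [h2]
    exact hQU' (α _).2
  rw [mem_autGroup_iff G' hU₁U']
  have heq : (P.subgroupOf Q).map (Q.subtype.comp (α : Q ≃* Q).toMonoidHom) = U₁ := by
    ext z
    constructor
    · rintro ⟨w, hw, rfl⟩
      have h1 := he ⟨w, Subgroup.mem_subgroupOf.mp hw⟩
      show ((α w : Q) : Ω) ∈ U₁
      have h2 : (⟨(w : Ω), hPQ (Subgroup.mem_subgroupOf.mp hw)⟩ : Q) = w := Subtype.ext rfl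
      rw [h2] at h1
      rw [← h1]
      exact (e _).2
    · intro hz
      obtain ⟨x, hx⟩ := e.surjective ⟨z, hz⟩
      refine ⟨⟨x, hPQ x.2⟩, Subgroup.mem_subgroupOf.mpr x.2, ?_⟩
      have h1 := he x
      rw [hx] at h1
      exact h1.symm
  refine (hom_cast G' heq ?_).mp hχ
  intro z hz hz'
  obtain ⟨x, hx⟩ := e.surjective ⟨z, hz'⟩
  have hzx : z = ((α ⟨x, hPQ x.2⟩ : Q) : Ω) := by
    have h1 := he x
    rw [hx] at h1
    exact h1
  subst hzx
  have h1 := h x hz
  have h2 : (⟨((α ⟨x, hPQ x.2⟩ : Q) : Ω), hz⟩ :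
      ↥((P.subgroupOf Q).map (Q.subtype.comp (α : Q ≃* Q).toMonoidHom))) =
      ⟨(Q.subtype.comp (α : Q ≃* Q).toMonoidHom) (Subgroup.inclusion hPQ x), hz⟩ := rfl
  rw [h2, h1]
  show ((α ⟨((γ x : P) : Ω), _⟩ : Q) : Ω) = ((e (γ (e.symm ⟨_, hz'⟩)) : U₁) : Ω)
  rw [← hx, MulEquiv.symm_apply_apply, he]

/-- A group isomorphism between automorphism groups carries `O^p` into `O^p`. -/
theorem congr_mem_pResidual_of_map {p : ℕ} {U' : Subgroup Ω} {G' : FusionSystem U'} {P U₁ : Subgroup Ω}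
    {e : P ≃* U₁} (hmap : ∀ γ ∈ G'.autGroup P, MulAut.congr e γ ∈ G'.autGroup U₁) {γ : MulAut P}
    (hγ : γ ∈ (pResidual p (G'.autGroup P)).map (G'.autGroup P).subtype) :
    MulAut.congr e γ ∈ (pResidual p (G'.autGroup U₁)).map (G'.autGroup U₁).subtype := by
  have hmem : ∀ β : G'.autGroup P, ((MulAut.congr e).toMonoidHom.comp (G'.autGroup P).subtype) β ∈
      G'.autGroup U₁ := fun β => hmap β β.2
  obtain ⟨γ₀, hγ₀, rfl⟩ := hγ
  exact ⟨((MulAut.congr e).toMonoidHom.comp (G'.autGroup P).subtype).codRestrict (G'.autGroup U₁) hmem γ₀,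
    map_pResidual_le p _ hγ₀, rfl⟩

/-- A saturated subsystem of `p`-power index of a system `G'` invariant in `F`, over a subgroup strongly closed
in `F`, satisfies the invariance condition in `F`. -/
theorem invCond_of_pPowerIndex_of_invariant [Finite S] {p : ℕ} [Fact p.Prime] (hS : IsPGroup p S)
    {F : FusionSystem S} (hF : F.IsSaturated p) {U' U : Subgroup Ω} {G' : FusionSystem U'}
    (hG'F : G'.IsInvariantIn F) {G : FusionSystem U} (hGsat : G.IsSaturated p)
    (hGidx : G.HasPPowerIndexIn G' p) (hUsc : F.StronglyClosed U) : InvCond G F := by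
  have hU'S : U' ≤ S := le_of_subsystem hG'F.1
  have hUU' : U ≤ U' := le_of_subsystem hGidx.1
  have hUS : U ≤ S := hUsc.1
  haveI : Finite U' := Finite.of_injective (Subgroup.inclusion hU'S) (Subgroup.inclusion_injective hU'S)
  have hSI : StrongInv G' F := (isInvariantIn_iff_strongInv hS hF hG'F.1 hG'F.2.1).mp hG'F
  have hle : G.IsSubsystemOf (invCore G (F.autGroup U)) := by
    refine le_of_saturated_of_pResidual_le (hS.to_le hU'S) G' G hGsat hGidx.1 le_rfl
      (invCore G (F.autGroup U)) (fun P hPU => ?_)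
    intro γ hγ
    refine aut_mem_invCore hPU (hGidx.2.2 P hPU hγ) (fun α hα U₁ e he => ?_)
    have hU₁U : U₁ ≤ U := by
      intro z hz
      have h1 := he (e.symm ⟨z, hz⟩)
      rw [MulEquiv.apply_symm_apply] at h1
      have h2 : z = ((α ⟨(e.symm ⟨z, hz⟩ : P), hPU (e.symm ⟨z, hz⟩).2⟩ : U) : Ω) := h1
      rw [h2]
      exact (α _).2
    apply hGidx.2.2 U₁ hU₁U
    exact congr_mem_pResidual_of_map
      (fun γ' hγ' => congr_mem_autGroup_of_strongInv hSI hUU' hUS hα hPU e he hγ') hγ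
  intro P hPU φ hφ α hα
  obtain ⟨χ, hχ, h⟩ := invCore_invCond G F P hPU φ (hle P hφ) α hα
  exact ⟨χ, invCore_hom_subset G _ _ hχ, h⟩

end Cfsg.Agent.Lib.Helper27.Env
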