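import Mathlib
import Cfsg.Agent.Lib.Helper27.EnvC
import Cfsg.Agent.Lib.Helper27.FusionNormal
import Cfsg.Agent.Lib.Helper17.PResidual
import Cfsg.Agent.H26.Hyperfocal

set_option autoImplicit false

/-! The step of `p`-power index: the automizer of `T` and the extension condition. -/

namespace Cfsg.Agent.Lib.Helper27.Env

open Cfsg Cfsg.FusionSystem Cfsg.Agent.Lib.Helper27 Cfsg.Agent.H26 Cfsg.Agent.Lib.Helper17

variable {Ω : Type*} [Group Ω] {T : Subgroup Ω}

/-- The automorphisms of `T C` moving each element of `C` by an element of `Z(T)`. -/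
def cenMonoid (T C : Subgroup Ω) (hZ : T ⊓ Subgroup.centralizer (T : Set Ω) ≤ C) :
    Submonoid (MulAut ↥(T ⊔ C)) where
  carrier := {γ | ∀ c : ↥(T ⊔ C), (c : Ω) ∈ C →
    (c : Ω)⁻¹ * ((γ c : ↥(T ⊔ C)) : Ω) ∈ T ⊓ Subgroup.centralizer (T : Set Ω)}
  one_mem' := fun c _ => by
    show (c : Ω)⁻¹ * (c : Ω) ∈ _
    rw [inv_mul_cancel]
    exact Subgroup.one_mem _
  mul_mem' := by
    intro γ₁ γ₂ h1 h2 c hc
    have hz₂ := h2 c hc
    have hz₂D : (c : Ω)⁻¹ * ((γ₂ c : ↥(T ⊔ C)) : Ω) ∈ T ⊔ C := (le_sup_right : C ≤ T ⊔ C) (hZ hz₂)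
    obtain ⟨z, hz⟩ : ∃ z : ↥(T ⊔ C), (z : Ω) = (c : Ω)⁻¹ * ((γ₂ c : ↥(T ⊔ C)) : Ω) := ⟨⟨_, hz₂D⟩, rfl⟩
    have hsplit : γ₂ c = c * z := by
      apply Subtype.ext
      rw [Subgroup.coe_mul, hz]
      group
    have hz₁ := h1 c hc
    have hzZ : (z : Ω) ∈ T ⊓ Subgroup.centralizer (T : Set Ω) := by rw [hz]; exact hz₂
    have hz₃ := h1 z (hZ hzZ)
    have hval : (c : Ω)⁻¹ * (((γ₁ * γ₂) c : ↥(T ⊔ C)) : Ω) =
        ((c : Ω)⁻¹ * ((γ₁ c : ↥(T ⊔ C)) : Ω)) * ((z : Ω) * ((z : Ω)⁻¹ * ((γ₁ z : ↥(T ⊔ C)) : Ω))) := by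
      rw [MulAut.mul_apply, hsplit, map_mul, Subgroup.coe_mul]
      group
    rw [hval]
    exact Subgroup.mul_mem _ hz₁ (Subgroup.mul_mem _ hzZ hz₃)

variable {p : ℕ} [Fact p.Prime]

/-- A `p'`-element of `Aut_E(T)` satisfying the extension condition in `G'` satisfies it in a saturated
subsystem of `p`-power index of `G'`. -/
theorem ext_coprime {U' U : Subgroup Ω} [Finite U'] {G' : FusionSystem U'} {G : FusionSystem U}
    (hTU : T ≤ U) (hUU' : U ≤ U') (hGidx : G.HasPPowerIndexIn G' p)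
    (hC : centralizerIn U T = centralizerIn U' T) {α : MulAut T} (hcop : (orderOf α).Coprime p)
    (hext : ∃ β ∈ G'.autGroup (T ⊔ centralizerIn U' T),
      (∀ x : T, ((β (Subgroup.inclusion le_sup_left x) : ↥(T ⊔ centralizerIn U' T)) : Ω) = ((α x : T) : Ω)) ∧
      ∀ c : ↥(T ⊔ centralizerIn U' T), (c : Ω) ∈ centralizerIn U' T →
        (c : Ω)⁻¹ * ((β c : ↥(T ⊔ centralizerIn U' T)) : Ω) ∈ T ⊓ Subgroup.centralizer (T : Set Ω)) :
    ∃ β ∈ G.autGroup (T ⊔ centralizerIn U T),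
      (∀ x : T, ((β (Subgroup.inclusion le_sup_left x) : ↥(T ⊔ centralizerIn U T)) : Ω) = ((α x : T) : Ω)) ∧
      ∀ c : ↥(T ⊔ centralizerIn U T), (c : Ω) ∈ centralizerIn U T →
        (c : Ω)⁻¹ * ((β c : ↥(T ⊔ centralizerIn U T)) : Ω) ∈ T ⊓ Subgroup.centralizer (T : Set Ω) := by
  have hCU : centralizerIn U T ≤ U := centralizerIn_le_S U T
  revert hC hCU
  generalize centralizerIn U T = C
  intro hC hCU
  subst hC
  obtain ⟨β', hβ', hβ'T, hβ'C⟩ := hext
  have hTU' : T ≤ U' := hTU.trans hUU'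
  have hZ : T ⊓ Subgroup.centralizer (T : Set Ω) ≤ centralizerIn U' T :=
    fun z hz => ⟨hTU' hz.1, hz.2⟩
  have hDU : T ⊔ centralizerIn U' T ≤ U := sup_le hTU hCU
  have hDU' : T ⊔ centralizerIn U' T ≤ U' := hDU.trans hUU'
  haveI : Finite ↥(T ⊔ centralizerIn U' T) :=
    Finite.of_injective (Subgroup.inclusion hDU') (Subgroup.inclusion_injective hDU')
  haveI : Finite (MulAut ↥(T ⊔ centralizerIn U' T)) := inferInstance
  have hβ'M : β' ∈ cenMonoid T (centralizerIn U' T) hZ := hβ'C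
  obtain ⟨k, hk1, hk2⟩ := exists_pow_coprime p
    (⟨β', hβ'⟩ : G'.autGroup (T ⊔ centralizerIn U' T)) α hcop
  have hβG : β' ^ k ∈ G.autGroup (T ⊔ centralizerIn U' T) := by
    apply hGidx.2.2 _ hDU
    exact ⟨⟨β', hβ'⟩ ^ k, mem_pResidual_of_coprime hk2, rfl⟩
  refine ⟨β' ^ k, hβG, fun x => ?_, ?_⟩
  · rw [pow_restrict le_sup_left hβ'T, hk1]
  · exact Submonoid.pow_mem _ hβ'M k

/-- The extension condition for `E` in a saturated subsystem `G` of `p`-power index of `G'` containing `E`. -/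
theorem extCond_of_pPowerIndex {U' U : Subgroup Ω} [Finite U'] {G' : FusionSystem U'}
    {G : FusionSystem U} {E : FusionSystem T} (hEsat : E.IsSaturated p)
    (hTU : T ≤ U) (hUU' : U ≤ U') (hGidx : G.HasPPowerIndexIn G' p)
    (hC : centralizerIn U T = centralizerIn U' T)
    (hext : ∀ α ∈ E.autGroup T, ∃ β ∈ G'.autGroup (T ⊔ centralizerIn U' T),
      (∀ x : T, ((β (Subgroup.inclusion le_sup_left x) : ↥(T ⊔ centralizerIn U' T)) : Ω) = ((α x : T) : Ω)) ∧
      ∀ c : ↥(T ⊔ centralizerIn U' T), (c : Ω) ∈ centralizerIn U' T →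
        (c : Ω)⁻¹ * ((β c : ↥(T ⊔ centralizerIn U' T)) : Ω) ∈ T ⊓ Subgroup.centralizer (T : Set Ω)) :
    ∀ α ∈ E.autGroup T, ∃ β ∈ G.autGroup (T ⊔ centralizerIn U T),
      (∀ x : T, ((β (Subgroup.inclusion le_sup_left x) : ↥(T ⊔ centralizerIn U T)) : Ω) = ((α x : T) : Ω)) ∧
      ∀ c : ↥(T ⊔ centralizerIn U T), (c : Ω) ∈ centralizerIn U T →
        (c : Ω)⁻¹ * ((β c : ↥(T ⊔ centralizerIn U T)) : Ω) ∈ T ⊓ Subgroup.centralizer (T : Set Ω) := by
  have hUfin : Finite U := Finite.of_injective (Subgroup.inclusion hUU') (Subgroup.inclusion_injective hUU')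
  haveI : Finite T := Finite.of_injective (Subgroup.inclusion hTU) (Subgroup.inclusion_injective hTU)
  have hDU : T ⊔ centralizerIn U T ≤ U := sup_le hTU (centralizerIn_le_S U T)
  have hwcE : E.WeaklyClosed T := by
    refine ⟨le_rfl, fun φ hφ => ?_⟩
    have hle : φ.range ≤ T := by
      rintro _ ⟨x, rfl⟩
      exact (E.le_of_mem hφ).2 x
    apply Subgroup.eq_of_le_of_card_ge hle
    rw [Nat.card_congr (MonoidHom.ofInjective (E.injective_of_mem hφ)).toEquiv]
  have hfaE := weaklyClosed_isFullyAutomized hEsat hwcE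
  have hle := autGroup_le_of_fullyAutomized hfaE (extAut G T hTU) ?_ ?_
  · intro α hα
    exact hle hα
  · unfold autInducedBy
    rw [Subgroup.closure_le]
    rintro α ⟨g, hg, hα⟩
    have hgND : g ∈ normalizerIn U (T ⊔ centralizerIn U T) :=
      le_normalizerIn hDU ((le_sup_left : T ≤ T ⊔ centralizerIn U T) hg)
    have hβF : conjAutHom U (T ⊔ centralizerIn U T) ⟨g, hgND⟩ ∈ G.autGroup (T ⊔ centralizerIn U T) := by
      apply autInducedBy_le_autGroup G hDU
      rw [← conjAutHom_range]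
      exact ⟨_, rfl⟩
    refine ⟨_, hβF, fun x => ?_, fun c hc => ?_⟩
    · rw [conjAutHom_apply, hα x]
      rfl
    · rw [conjAutHom_apply]
      have h1 := (mem_centralizerIn_iff.mp hc).2 g hg
      have h2 : (c : Ω)⁻¹ * (g * (c : Ω) * g⁻¹) = 1 := by
        rw [h1]
        group
      rw [h2]
      exact Subgroup.one_mem _
  · intro ν hν
    have h1 : (pResidual p (E.autGroup T)).map (E.autGroup T).subtype ≤ extAut G T hTU := by
      rw [map_subtype_pResidual, Subgroup.closure_le]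
      rintro α ⟨hαE, hcop⟩
      exact ext_coprime hTU hUU' hGidx hC hcop (hext α hαE)
    exact h1 ⟨ν, hν, rfl⟩

/-- The automizer of `T` in the subsystem of `p`-power index over `SK U' K`. -/
theorem autGroup_eq_of_pPowerIndex {U' U : Subgroup Ω} [Finite U']
    {G' : FusionSystem U'} (hG' : G'.IsSaturated p) {G : FusionSystem U} (hG : G.IsSaturated p)
    (hGidx : G.HasPPowerIndexIn G' p) (hT : G'.StronglyClosed T) (hTU : T ≤ U)
    {K : Subgroup (MulAut T)} (hKK' : K ≤ G'.autGroup T)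
    (hU : ∀ s, s ∈ U ↔ s ∈ U' ∧ ∃ a ∈ K, IsConjBy a s)
    (hcop : ∀ k ∈ G'.autGroup T, (orderOf k).Coprime p → k ∈ K) : G.autGroup T = K := by
  have hUU' : U ≤ U' := fun s hs => ((hU s).mp hs).1
  haveI : Finite U := Finite.of_injective (Subgroup.inclusion hUU') (Subgroup.inclusion_injective hUU')
  have hTG : G.StronglyClosed T := stronglyClosed_of_le hGidx.1 hT hTU
  have hfa : G.IsFullyAutomized p T := weaklyClosed_isFullyAutomized hG (weaklyClosed_of_stronglyClosed hTG)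
  have hfa' : G'.IsFullyAutomized p T :=
    weaklyClosed_isFullyAutomized hG' (weaklyClosed_of_stronglyClosed hT)
  have hres : (pResidual p (G'.autGroup T)).map (G'.autGroup T).subtype ≤ K := by
    rw [map_subtype_pResidual, Subgroup.closure_le]
    rintro α ⟨hα, hαcop⟩
    exact hcop α hα hαcop
  apply le_antisymm
  · apply autGroup_le_of_fullyAutomized hfa K
    · unfold autInducedBy
      rw [Subgroup.closure_le]
      rintro α ⟨g, hg, hα⟩
      obtain ⟨-, a, haK, ha⟩ := (hU g).mp hg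
      have : α = a := IsConjBy.unique hα ha
      rw [SetLike.mem_coe, this]
      exact haK
    · intro α hα
      apply hres
      exact pResidual_map_le_of_subsystem hGidx.1 p T ⟨α, hα, rfl⟩
  · intro k hk
    have hkG' : k ∈ G'.autGroup T := hKK' hk
    obtain ⟨-, R, hR⟩ := hfa'
    haveI : Finite T := Finite.of_injective (Subgroup.inclusion hT.1) (Subgroup.inclusion_injective hT.1)
    haveI : Finite (MulAut T) := inferInstance
    have hsup := sylow_sup_pResidual (p := p) R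
    have hmem : (⟨k, hkG'⟩ : G'.autGroup T) ∈ (R : Subgroup (G'.autGroup T)) ⊔ pResidual p (G'.autGroup T) := by
      rw [hsup]; trivial
    rw [Subgroup.mem_sup_of_normal_right] at hmem
    obtain ⟨r, hr, o, ho, hro⟩ := hmem
    have hoK : (o : MulAut T) ∈ K := hres ⟨o, ho, rfl⟩
    have hoG : (o : MulAut T) ∈ G.autGroup T := hGidx.2.2 T hTU ⟨o, ho, rfl⟩
    have hk_eq : k = (r : MulAut T) * (o : MulAut T) := by
      have := congrArg (fun z : G'.autGroup T => (z : MulAut T)) hro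
      exact this.symm
    have hrK : (r : MulAut T) ∈ K := by
      have : (r : MulAut T) = k * (o : MulAut T)⁻¹ := by rw [hk_eq]; group
      rw [this]
      exact K.mul_mem hk (K.inv_mem hoK)
    rw [hR, Subgroup.mem_subgroupOf, mem_autInducedBy_iff] at hr
    obtain ⟨g, hg, hgr⟩ := hr
    have hgU : g ∈ U := (hU g).mpr ⟨hg, r, hrK, hgr⟩
    have hrG : (r : MulAut T) ∈ G.autGroup T := by
      apply autInducedBy_le_autGroup G hTU
      rw [mem_autInducedBy_iff]
      exact ⟨g, hgU, hgr⟩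
    rw [hk_eq]
    exact Subgroup.mul_mem _ hrG hoG

end Cfsg.Agent.Lib.Helper27.Env
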