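import Mathlib
import Cfsg.Agent.Lib.Helper27.EnvC
import Cfsg.Agent.Lib.Helper27.ChiJ

set_option autoImplicit false

/-! The step of index prime to `p`: the subsystem `F0` of the character data is invariant under a larger
system, `E` is normal in it, and its automizer of `T` is the kernel. -/

namespace Cfsg.Agent.Lib.Helper27.Env

open Cfsg Cfsg.FusionSystem Cfsg.Agent.Lib.Helper27 Cfsg.Agent.H26 Cfsg.Agent.Lib.Helper27.Chi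

variable {Ω : Type*} [Group Ω] {S T : Subgroup Ω}

/-- `E`-centric subgroups are carried to `E`-centric subgroups by the maps of `F`, when `E` has the Frattini
property in `F`. -/
theorem centric_map_of_frat {F : FusionSystem S} {E : FusionSystem T} (hEF : E.IsSubsystemOf F)
    (hT : F.StronglyClosed T)
    (hfr : ∀ (U : Subgroup Ω), U ≤ T → ∀ (φ : U →* Ω), φ ∈ F.Hom U → FratAt E F U φ)
    {Q : Subgroup Ω} (hQ : E.IsCentric Q) {φ : Q →* Ω} (hφ : φ ∈ F.Hom Q) : E.IsCentric φ.range := by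
  have hQT : Q ≤ T := hQ.1
  have h1 : (fullOn F T hT.1).IsCentric Q :=
    isCentric_of_frat_of_subsystem (fullOn_subsystem F T hT.1) hfr hQ
  have h2 : (fullOn F T hT.1).IsCentric φ.range :=
    isCentric_of_isConj h1 ⟨φ, ⟨hφ, hQT, fun x => hT.2 Q hQT φ hφ x⟩, rfl⟩
  have hle : E ≤ fullOn F T hT.1 := fun P ψ hψ => ⟨hEF P hψ, (E.le_of_mem hψ).1, (E.le_of_mem hψ).2⟩
  exact isCentric_of_le_system hle h2

section DataExt

variable {p : ℕ} {F : FusionSystem S} {E : FusionSystem T} {Δ : Type*} [Group Δ] (d : Data p F E Δ)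

include d

/-- `K · E` is invariant under an automorphism of `T` normalizing `K` and `E`. -/
theorem transp_mem_KE' {a : MulAut T}
    (hEa : ∀ {P P' : Subgroup Ω} {φ : P →* Ω} {χ : P' →* Ω}, φ ∈ E.Hom P → Transp a φ χ → χ ∈ E.Hom P')
    (hKa : ∀ κ ∈ d.K, a * κ * a⁻¹ ∈ d.K) {P P' : Subgroup Ω} {φ : P →* Ω}
    (hφ : φ ∈ d.KE.Hom P) {χ' : P' →* Ω} (h : Transp a φ χ') : χ' ∈ d.KE.Hom P' := by
  obtain ⟨κ, hκ, φ₀, hφ₀, hκφ⟩ := hφ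
  have hPT : P ≤ T := (E.le_of_mem hφ₀).1
  have hφ₀T : ∀ x : P, φ₀ x ∈ T := (E.le_of_mem hφ₀).2
  obtain ⟨χ₀, hχ₀⟩ := exists_transp a hPT φ₀ hφ₀T
  have hχ₀E := hEa hφ₀ hχ₀
  have hχ₀T : ∀ y, χ₀ y ∈ T := (E.le_of_mem hχ₀E).2
  have hκ' : a * κ * a⁻¹ ∈ d.K := hKa κ hκ
  have hρ : (T.subtype.comp (a * κ * a⁻¹ : MulAut T).toMonoidHom).comp (χ₀.codRestrict T hχ₀T) ∈
      d.KE.Hom ((P.subgroupOf T).map (T.subtype.comp a.toMonoidHom)) :=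
    ⟨a * κ * a⁻¹, hκ', χ₀, hχ₀E, fun y hy => rfl⟩
  have heq : (P.subgroupOf T).map (T.subtype.comp a.toMonoidHom) = P' := by
    ext z
    rw [hχ₀.1, h.1]
  refine (hom_cast d.KE heq ?_).mp hρ
  intro z hz hz'
  obtain ⟨x, hx, rfl⟩ := (h.1 z).mp hz'
  have hφT : φ ⟨x, hx⟩ ∈ T := by
    rw [hκφ ⟨x, hx⟩ (hφ₀T _)]
    exact (κ _).2
  rw [h.2 x hx hz' hφT]
  show (((a * κ * a⁻¹) ⟨χ₀ ⟨a x, hz⟩, _⟩ : T) : Ω) = _
  have h1 : (⟨χ₀ ⟨a x, hz⟩, hχ₀T _⟩ : T) = a ⟨φ₀ ⟨x, hx⟩, hφ₀T _⟩ :=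
    Subtype.ext (hχ₀.2 x hx hz (hφ₀T _))
  rw [h1, MulAut.mul_apply, MulAut.mul_apply, MulAut.inv_apply_self]
  congr 2
  apply Subtype.ext
  exact (hκφ ⟨x, hx⟩ (hφ₀T _)).symm

variable [Finite S] [Fact p.Prime] [Finite Δ]

/-- The pullback system is invariant under an automorphism of `S` normalizing `F`, whose restriction to `T`
normalizes `K` and `E`. -/
theorem transp_mem_pull' {α : MulAut S} {a : MulAut T}
    (haα : ∀ t : T, ((a t : T) : Ω) = ((α ⟨t, d.hTS t.2⟩ : S) : Ω))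
    (hFα : ∀ {Q P' : Subgroup Ω} {φ : Q →* Ω} {χ : P' →* Ω}, φ ∈ F.Hom Q → Transp α φ χ → χ ∈ F.Hom P')
    (hEa : ∀ {P P' : Subgroup Ω} {φ : P →* Ω} {χ : P' →* Ω}, φ ∈ E.Hom P → Transp a φ χ → χ ∈ E.Hom P')
    (hKa : ∀ κ ∈ d.K, a * κ * a⁻¹ ∈ d.K)
    {Q P' : Subgroup Ω} {φ : Q →* Ω}
    (hφ : φ ∈ d.pull.Hom Q) {χ' : P' →* Ω} (h : Transp α φ χ') : χ' ∈ d.pull.Hom P' := by
  obtain ⟨hφF, hφK⟩ := hφ
  have hQS : Q ≤ S := (F.le_of_mem hφF).1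
  have hφS : ∀ x : Q, φ x ∈ S := (F.le_of_mem hφF).2
  have hχ'F : χ' ∈ F.Hom P' := hFα hφF h
  refine ⟨hχ'F, ?_⟩
  refine transp_mem_KE' d hEa hKa hφK (χ' := resT T χ') ⟨fun z => ?_, fun x hx hax hφx => ?_⟩
  · constructor
    · rintro ⟨hzP', hzT⟩
      obtain ⟨x₀, hx₀, hzx₀⟩ := (h.1 z).mp hzP'
      have h1 : ((a (a⁻¹ ⟨z, hzT⟩) : T) : Ω) = z := by rw [MulAut.apply_inv_self]
      have h2 : α ⟨((a⁻¹ ⟨z, hzT⟩ : T) : Ω), d.hTS (a⁻¹ ⟨z, hzT⟩).2⟩ = α x₀ := by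
        apply Subtype.ext
        rw [← haα, h1, hzx₀]
      have h3 := α.injective h2
      refine ⟨a⁻¹ ⟨z, hzT⟩, ⟨?_, (a⁻¹ ⟨z, hzT⟩).2⟩, h1.symm⟩
      have : ((a⁻¹ ⟨z, hzT⟩ : T) : Ω) = (x₀ : Ω) := congrArg (fun s : S => (s : Ω)) h3
      rw [this]
      exact hx₀
    · rintro ⟨x, hx, rfl⟩
      refine ⟨?_, (a x).2⟩
      rw [haα]
      exact h.mem ⟨x, d.hTS x.2⟩ hx.1
  · have h1 := h.2 ⟨x, d.hTS x.2⟩ hx.1 (by rw [← haα]; exact hax.1) (hφS _)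
    rw [resT_apply]
    have h2 : (⟨((a x : T) : Ω), hax.1⟩ : P') = ⟨((α ⟨x, d.hTS x.2⟩ : S) : Ω), by rw [← haα]; exact hax.1⟩ :=
      Subtype.ext (haα x)
    rw [h2, h1, haα]
    rfl

/-- The subsystem `F0` is invariant under a group of automorphisms of `S` normalizing the data. -/
theorem F0_inv' (B : Subgroup (MulAut S))
    (hB : ∀ α ∈ B, ∃ a : MulAut T, (∀ t : T, ((a t : T) : Ω) = ((α ⟨t, d.hTS t.2⟩ : S) : Ω)) ∧
      (∀ {P P' : Subgroup Ω} {φ : P →* Ω} {χ : P' →* Ω}, φ ∈ E.Hom P → Transp a φ χ → χ ∈ E.Hom P') ∧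
      ∀ κ ∈ d.K, a * κ * a⁻¹ ∈ d.K)
    (hFB : ∀ α ∈ B, ∀ {Q P' : Subgroup Ω} {φ : Q →* Ω} {χ : P' →* Ω}, φ ∈ F.Hom Q → Transp α φ χ →
      χ ∈ F.Hom P')
    (hfam : ∀ α ∈ B, ∀ (Q : Subgroup Ω) (hQ : Q ∈ fam S E) (P' : Subgroup Ω) (e : Q ≃* P'),
      (∀ x : Q, ((e x : P') : Ω) = ((α ⟨x, hQ.1 x.2⟩ : S) : Ω)) → P' ∈ fam S E)
    (P : Subgroup Ω) : d.F0.Hom P ⊆ (invCore d.F0 B).Hom P := by
  apply genSystem_le_of
  rintro Q φ ⟨hQ, hφ⟩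
  refine ⟨d.pull_le_F0 hQ hφ, fun α hα P' χ' hχ' => ?_⟩
  obtain ⟨e, he⟩ := exists_resIso α hQ.1 hχ'.1
  have hP' : P' ∈ fam S E := hfam α hα Q hQ P' e he
  obtain ⟨a, haα, hEa, hKa⟩ := hB α hα
  exact d.pull_le_F0 hP' (transp_mem_pull' d haα (hFB α hα) hEa hKa hφ hχ')

/-- The automizer of `T` in `F0` is the kernel of the character. -/
theorem autGroup_F0_T : d.F0.autGroup T = d.K := by
  have hTS := d.hTS
  have hTfam : T ∈ fam S E := by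
    refine ⟨hTS, ?_⟩
    rw [inf_idem]
    exact d.centric_T
  apply le_antisymm
  · intro a ha
    have h1 := d.F0_le_pull T ((mem_autGroup_iff d.F0 hTS a).mp ha)
    apply d.mem_K_of_KE_top
    refine (hom_cast d.KE (inf_idem T) ?_).mp h1.2
    intro z hz hz'
    rfl
  · intro a ha
    rw [mem_autGroup_iff d.F0 hTS]
    refine d.pull_le_F0 hTfam ⟨(mem_autGroup_iff F hTS a).mp (d.K_le ha), ?_⟩
    exact ⟨a, ha, (T ⊓ T).subtype, hom_subtype E inf_le_right, fun x hx => rfl⟩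

/-- `E` is normal in `F0`. -/
theorem E_normal_F0 : E.IsNormalIn d.F0 p := by
  refine ⟨⟨d.hEsat, d.F0_saturated,
    isInvariantIn_of_le d.hS d.hF d.F0_saturated d.F0_le_F d.E_le_F0 d.hE.1.2.2⟩, fun α hα => ?_⟩
  obtain ⟨β, hβ, hβT, hβC⟩ := d.hE.2 α hα
  have hDS : T ⊔ centralizerIn S T ≤ S := sup_le d.hTS (centralizerIn_le_S S T)
  have hαE := (mem_autGroup_iff E le_rfl α).mp hα
  have hDfam : T ⊔ centralizerIn S T ∈ fam S E := by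
    refine ⟨hDS, ?_⟩
    rw [inf_eq_right.mpr (le_sup_left : T ≤ T ⊔ centralizerIn S T)]
    exact d.centric_T
  refine ⟨β, ?_, hβT, hβC⟩
  rw [mem_autGroup_iff d.F0 hDS]
  refine d.pull_le_F0 hDfam ⟨(mem_autGroup_iff F hDS β).mp hβ, ?_⟩
  refine ⟨1, Subgroup.one_mem _, _, hom_restrict E (inf_le_right : (T ⊔ centralizerIn S T) ⊓ T ≤ T) hαE,
    fun x hx => ?_⟩
  rw [resT_apply]
  exact hβT ⟨x, x.2.2⟩

end DataExt

end Cfsg.Agent.Lib.Helper27.Env
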