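import Mathlib
import Cfsg.Agent.Lib.Helper27.RLA
import Cfsg.Agent.S5203
import Cfsg.Agent.H26.PPrime4

set_option autoImplicit false

/-! Residual limits: existence, and invariance under passing to a saturated subsystem of index prime to
`p` or of `p`-power index. -/

namespace Cfsg.Agent.Lib.Helper27.RL

open Cfsg Cfsg.FusionSystem Cfsg.Agent.Lib.Helper27 Cfsg.Agent.H26 Cfsg.Agent.Lib.Helper27.PPow
  Cfsg.Agent.S5203

universe u

variable {Ω : Type u} [Group Ω]

/-- Every residual limit of `X` has the same maps as every residual limit of `Y`. -/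
def RLEq (p : ℕ) {U V : Subgroup Ω} (X : FusionSystem U) (Y : FusionSystem V) : Prop :=
  ∀ (W : Subgroup Ω) (L : FusionSystem W), L.IsResidualLimitOf X p →
    ∀ (W' : Subgroup Ω) (L' : FusionSystem W'), L'.IsResidualLimitOf Y p → HomEq L L'

theorem RLEq.symm {p : ℕ} {U V : Subgroup Ω} {X : FusionSystem U} {Y : FusionSystem V}
    (h : RLEq p X Y) : RLEq p Y X := by
  intro _ L hL _ L' hL'
  exact (h _ L' hL' _ L hL).symm

theorem RLEq.trans {p : ℕ} {U V W : Subgroup Ω} {X : FusionSystem U} {Y : FusionSystem V}
    {Z : FusionSystem W} (h1 : RLEq p X Y)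
    (hex : ∃ (W' : Subgroup Ω) (L : FusionSystem W'), L.IsResidualLimitOf Y p) (h2 : RLEq p Y Z) :
    RLEq p X Z := by
  obtain ⟨W', M, hM⟩ := hex
  intro _ L hL _ L' hL'
  exact (h1 _ L hL _ M hM).trans (h2 _ M hM _ L' hL')

variable {p : ℕ} [Fact p.Prime]

theorem rlEq_of_homEq {U V : Subgroup Ω} [Finite U] (hU : IsPGroup p U) {X : FusionSystem U}
    {Y : FusionSystem V} (h : HomEq X Y) : RLEq p X Y := by
  intro _ L hL _ L' hL'
  exact limit_unique hL Fact.out inferInstance hU h hL'

theorem rlEq_step {S : Subgroup Ω} [Finite S] (hS : IsPGroup p S) (F : FusionSystem S)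
    (D D' : FusionSystem (F.hyperfocalSubgroup p)) (hD : F.IsPResidual p D)
    (hD' : D.IsPPrimeResidual p D') : RLEq p F D' := by
  intro _ L hL _ L' hL'
  have h1 : L'.IsResidualLimitOf F p := .step F p D D' hD hD' hL'
  exact limit_unique hL Fact.out inferInstance hS (HomEq.refl F) h1

/-- A saturated system contained in a subsystem of index prime to `p` with the same automorphisms of
`S` is contained in it. -/
theorem le_of_autGroup_le {S : Subgroup Ω} [Finite S] (hS : IsPGroup p S) {F F' : FusionSystem S}
    (hF : F.IsSaturated p) (h : F'.HasPrimeToPIndexIn F p) (haut : F.autGroup S ≤ F'.autGroup S) :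
    F.IsSubsystemOf F' := by
  intro P φ hφ
  obtain ⟨α, hα, φ₀, hφ₀, e⟩ := frat_of_primeIdx hS hF h P φ hφ
  have hαD := (mem_autGroup_iff F' le_rfl α).mp (haut hα)
  have hval : ∀ x : P, φ₀ x ∈ S := (F'.le_of_mem hφ₀).2
  have := F'.comp_mem hφ₀ hαD hval
  have heq : φ = (S.subtype.comp (α : S ≃* S).toMonoidHom).comp (φ₀.codRestrict S hval) := by
    ext x
    exact e x (hval x)
  rw [heq]
  exact this

theorem exists_limit_aux : ∀ (n m : ℕ) (S : Subgroup Ω) [Finite S], Nat.card S = n → IsPGroup p S →
    ∀ F : FusionSystem S, Nat.card (F.autGroup S) = m → F.IsSaturated p →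
    ∃ (W : Subgroup Ω) (L : FusionSystem W), L.IsResidualLimitOf F p := by
  intro n
  induction n using Nat.strong_induction_on with
  | _ n IHn =>
    intro m
    induction m using Nat.strong_induction_on with
    | _ m IHm =>
      intro S _ hn hS F hm hF
      have hle := hyperfocal_le F p
      haveI := finite_of_le hle
      obtain ⟨D, hDsat, hDidx⟩ := exists_pPowerIndex hS hF hle le_rfl
      obtain ⟨D', hD'⟩ := exists_pPrimeResidual (hS.to_le hle) hDsat
      by_cases hlt : F.hyperfocalSubgroup p = S
      · by_cases hst : F.IsPPrimeResidual p F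
        · exact ⟨S, F, .stable F p hlt hst⟩
        · have hDF : HomEq D F :=
            homEq_of_pPowerIndex hS F D F hlt hDsat hDidx hF (hasPPowerIndexIn_self F p)
          obtain ⟨G, hG⟩ := exists_pPrimeResidual hS hF
          have hD'G : HomEq D' G := homEq_pPrimeResidual hDF hD' hG
          have hGF : G.autGroup S ≤ F.autGroup S := autGroup_le_of_subsystem hG.2.1.1 S
          have hcard : Nat.card (G.autGroup S) < m := by
            by_contra hcon
            push Not at hcon
            rw [← hm] at hcon
            have heq : G.autGroup S = F.autGroup S :=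
              Subgroup.eq_of_le_of_card_ge hGF hcon
            have hFG : F.IsSubsystemOf G := le_of_autGroup_le hS hF hG.2.1 heq.ge
            have hEq : G = F := fusionSystem_ext
              (fun P => Set.Subset.antisymm (hG.2.1.1 P) (hFG P))
            apply hst
            rw [hEq] at hG
            exact hG
          have hcard' : Nat.card (D'.autGroup (F.hyperfocalSubgroup p)) < m :=
            hD'G.symm.transport (motive := fun U X => Nat.card (X.autGroup U) < m) hcard
          have hn' : Nat.card (F.hyperfocalSubgroup p) = n := by rw [hlt]; exact hn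
          obtain ⟨W, L, hL⟩ := IHm _ hcard' (F.hyperfocalSubgroup p) hn' (hS.to_le hle) D' rfl hD'.1
          exact ⟨W, L, .step F p D D' ⟨hDsat, hDidx⟩ hD' hL⟩
      · have hcard : Nat.card (F.hyperfocalSubgroup p) < n := by
          rw [← hn]
          by_contra hcon
          push Not at hcon
          exact hlt (Subgroup.eq_of_le_of_card_ge hle hcon)
        obtain ⟨W, L, hL⟩ := IHn _ hcard _ (F.hyperfocalSubgroup p) rfl (hS.to_le hle) D' rfl hD'.1
        exact ⟨W, L, .step F p D D' ⟨hDsat, hDidx⟩ hD' hL⟩

/-- Existence of residual limits. -/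
theorem exists_limit {S : Subgroup Ω} [Finite S] (hS : IsPGroup p S) {F : FusionSystem S}
    (hF : F.IsSaturated p) : ∃ (W : Subgroup Ω) (L : FusionSystem W), L.IsResidualLimitOf F p :=
  exists_limit_aux _ _ S rfl hS F rfl hF

end Cfsg.Agent.Lib.Helper27.RL
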