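import Mathlib
import Cfsg.Agent.Lib.Helper27.RLB

set_option autoImplicit false

/-! Residual limits are unchanged on passing to a saturated subsystem of `p`-power index over a strongly
closed subgroup, or to a saturated subsystem of index prime to `p`. -/

namespace Cfsg.Agent.Lib.Helper27.RL

open Cfsg Cfsg.FusionSystem Cfsg.Agent.Lib.Helper27 Cfsg.Agent.H26 Cfsg.Agent.Lib.Helper27.PPow
  Cfsg.Agent.S5203

universe u

variable {Ω : Type u} [Group Ω] {p : ℕ} [Fact p.Prime]

/-- Passing to a saturated subsystem of `p`-power index over a strongly closed subgroup does not change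
the residual limits. -/
theorem rlEq_of_pPowerIndex {S : Subgroup Ω} [Finite S] (hS : IsPGroup p S) (F : FusionSystem S)
    {T : Subgroup Ω} (E : FusionSystem T) (hT : F.StronglyClosed T) (hF : F.IsSaturated p)
    (hEsat : E.IsSaturated p) (hidx : E.HasPPowerIndexIn F p) : RLEq p F E := by
  intro U Finf hFinf V Einf hEinf
  have hTS : T ≤ S := hT.1
  have hfinT : Finite T := finite_of_le hTS
  have hTp : IsPGroup p T := hS.to_le hTS
  have hhyp : E.hyperfocalSubgroup p = F.hyperfocalSubgroup p :=
    hyperfocal_eq_of_pPowerIndex hS F E hidx hT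
  have hle := hyperfocal_le F p
  cases hFinf with
  | stable _ _ hs1 hs2 =>
    have hTeq : T = S := le_antisymm hTS (by rw [← hs1]; exact hidx.2.1)
    have hEF : HomEq E F := homEq_of_pPowerIndex hS F E F hTeq hEsat hidx hF (hasPPowerIndexIn_self F p)
    have hstab := hEF.symm.transport
      (motive := fun U X => X.hyperfocalSubgroup p = U ∧ X.IsPPrimeResidual p X) ⟨hs1, hs2⟩
    have := stable_limit hEinf Fact.out hfinT hTp hstab.1 hstab.2
    exact (this.trans hEF).symm
  | step _ _ D D' hD hD' hlim =>
    cases hEinf with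
    | stable _ _ hs1 hs2 =>
      have hU : F.hyperfocalSubgroup p = T := by rw [← hhyp]; exact hs1
      have hDE : HomEq D E := homEq_of_pPowerIndex hS F D E hU hD.1 hD.2 hEsat hidx
      have hD'E : HomEq D' E := homEq_pPrimeResidual hDE hD' hs2
      have hstab := hD'E.symm.transport
        (motive := fun U X => X.hyperfocalSubgroup p = U ∧ X.IsPPrimeResidual p X) ⟨hs1, hs2⟩
      have := stable_limit hlim Fact.out (finite_of_le hle) (hS.to_le hle) hstab.1 hstab.2
      exact this.trans hD'E
    | step _ _ DE DE' hDE hDE' hlimE =>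
      have hDEF : DE.HasPPowerIndexIn F p := hasPPowerIndexIn_trans hS F E hidx hT DE hDE.2
      have h1 : HomEq D DE := homEq_of_pPowerIndex hS F D DE hhyp.symm hD.1 hD.2 hDE.1 hDEF
      have h2 : HomEq D' DE' := homEq_pPrimeResidual h1 hD' hDE'
      exact limit_unique hlim Fact.out (finite_of_le hle) (hS.to_le hle) h2 hlimE

/-- If `hyp(F) = S`, the residual limits of `F` are those of `O^{p'}(F)`. -/
theorem rlEq_pPrimeResidual_of_full {S : Subgroup Ω} [Finite S] (hS : IsPGroup p S) {F G : FusionSystem S}
    (hF : F.IsSaturated p) (hfull : F.hyperfocalSubgroup p = S) (hG : F.IsPPrimeResidual p G) :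
    RLEq p F G := by
  have hle := hyperfocal_le F p
  obtain ⟨D, hDsat, hDidx⟩ := exists_pPowerIndex hS hF hle le_rfl
  haveI := finite_of_le hle
  have hTp := hS.to_le hle
  obtain ⟨D', hD'⟩ := exists_pPrimeResidual hTp hDsat
  have hDF : HomEq D F := homEq_of_pPowerIndex hS F D F hfull hDsat hDidx hF (hasPPowerIndexIn_self F p)
  have hD'G : HomEq D' G := homEq_pPrimeResidual hDF hD' hG
  exact (rlEq_step hS F D D' ⟨hDsat, hDidx⟩ hD').trans (exists_limit hTp hD'.1) (rlEq_of_homEq hTp hD'G)

theorem conf_aux : ∀ (n : ℕ) (S : Subgroup Ω) [Finite S], Nat.card S = n → IsPGroup p S →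
    ∀ (F F' : FusionSystem S), F.IsSaturated p → F'.IsSaturated p → F'.HasPrimeToPIndexIn F p →
    RLEq p F' F := by
  intro n
  induction n using Nat.strong_induction_on with
  | _ n IH =>
    intro S _ hn hS
    have hA : ∀ (F F' : FusionSystem S), F.IsSaturated p → F'.IsSaturated p →
        F'.HasPrimeToPIndexIn F p → F.hyperfocalSubgroup p ≠ S → RLEq p F' F := by
      intro F F' hF hF' hidx' hne
      have hle := hyperfocal_le F p
      haveI := finite_of_le hle
      have hTp := hS.to_le hle
      have hcard : Nat.card (F.hyperfocalSubgroup p) < n := by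
        rw [← hn]
        by_contra hcon
        push Not at hcon
        exact hne (Subgroup.eq_of_le_of_card_ge hle hcon)
      obtain ⟨D, E₁, hDsat, hDidx, hE₁sat, hE₁idx, hE₁D⟩ := star hS hF hF' hidx' hle le_rfl
      obtain ⟨D', hD'⟩ := exists_pPrimeResidual hTp hDsat
      have h1 : RLEq p F D' := rlEq_step hS F D D' ⟨hDsat, hDidx⟩ hD'
      have h2 : RLEq p D' D := IH _ hcard _ rfl hTp D D' hDsat hD'.1 hD'.2.1
      have h3 : RLEq p E₁ D := IH _ hcard _ rfl hTp D E₁ hDsat hE₁sat hE₁D
      have hTsc : F.StronglyClosed (F.hyperfocalSubgroup p) := hyp_stronglyClosed hS hF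
      have hTsc' : F'.StronglyClosed (F.hyperfocalSubgroup p) :=
        ⟨hle, fun R hRT φ hφ x => hTsc.2 R hRT φ (hidx'.1 R hφ) x⟩
      have h4 : RLEq p F' E₁ := rlEq_of_pPowerIndex hS F' E₁ hTsc' hF' hE₁sat hE₁idx
      exact (h4.trans (exists_limit hTp hE₁sat) h3).trans (exists_limit hTp hDsat)
        (h2.symm.trans (exists_limit hTp hD'.1) h1.symm)
    intro F F' hF hF' hidx'
    by_cases hne : F.hyperfocalSubgroup p = S
    · obtain ⟨G, hG⟩ := exists_pPrimeResidual hS hF
      have h1 : RLEq p F G := rlEq_pPrimeResidual_of_full hS hF hne hG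
      have hGF' : G.IsSubsystemOf F' := hG.2.2 F' hF' hidx'
      have hGidx : G.HasPrimeToPIndexIn F' p := primeIdx_of_le hGF' hidx'.1 hG.2.1
      by_cases hne' : F'.hyperfocalSubgroup p = S
      · obtain ⟨G', hG'⟩ := exists_pPrimeResidual hS hF'
        have h1' : RLEq p F' G' := rlEq_pPrimeResidual_of_full hS hF' hne' hG'
        have hGG' : HomEq G' G := by
          intro P
          exact Set.Subset.antisymm (hG'.2.2 G hG.1 hGidx P)
            (hG.2.2 G' hG'.1 (primeIdx_trans hG'.2.1 hidx') P)
        exact (h1'.trans (exists_limit hS hG'.1) (rlEq_of_homEq hS hGG')).trans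
          (exists_limit hS hG.1) h1.symm
      · have h2 : RLEq p G F' := hA F' G hF' hG.1 hGidx hne'
        exact h2.symm.trans (exists_limit hS hG.1) h1.symm
    · exact hA F F' hF hF' hidx' hne

/-- Passing to a saturated subsystem of index prime to `p` does not change the residual limits. -/
theorem rlEq_of_primeIdx {S : Subgroup Ω} [Finite S] (hS : IsPGroup p S) {F F' : FusionSystem S}
    (hF : F.IsSaturated p) (hF' : F'.IsSaturated p) (hidx' : F'.HasPrimeToPIndexIn F p) :
    RLEq p F' F :=
  conf_aux _ S rfl hS F F' hF hF' hidx'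

omit [Fact p.Prime] in
/-- A residual limit of a system is a subsystem of it. -/
theorem limit_le {V U : Subgroup Ω} {L : FusionSystem V} {X : FusionSystem U}
    (h : L.IsResidualLimitOf X p) : L.IsSubsystemOf X := by
  induction h with
  | stable F p _ _ => exact fun _ _ h => h
  | step F p D D' hD hD' _ ih =>
    exact fun P φ hφ => hD.2.1 P (hD'.2.1.1 P (ih P hφ))

end Cfsg.Agent.Lib.Helper27.RL
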