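import Mathlib
import Cfsg.Agent.Lib.Helper27.EnvE
import Cfsg.Agent.Lib.Helper27.EnvD
import Cfsg.Agent.Lib.Helper27.RLC

set_option autoImplicit false

/-! The invariants carried along the chain, the base of the chain and the step of index prime to `p`. -/

namespace Cfsg.Agent.Lib.Helper27.Env

open Cfsg Cfsg.FusionSystem Cfsg.Agent.Lib.Helper27 Cfsg.Agent.H26 Cfsg.Agent.Lib.Helper27.Chi
  Cfsg.Agent.Lib.Helper27.RL

universe u

variable {Ω : Type u} [Group Ω] {S T : Subgroup Ω}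

/-- An element of `K'` of order prime to the index of the normal subgroup `K` lies in `K`. -/
theorem mem_of_coprime_relIndex {G : Type*} [Group G] {K K' : Subgroup G}
    (hn : ∀ b ∈ K', ∀ k ∈ K, b * k * b⁻¹ ∈ K) {x : G} (hx : x ∈ K')
    (hcop : (orderOf x).Coprime (K.relIndex K')) : x ∈ K := by
  haveI : (K.subgroupOf K').Normal := by
    constructor
    intro n hn' g
    rw [Subgroup.mem_subgroupOf] at hn' ⊢
    exact hn g g.2 n hn'
  have h1 : (QuotientGroup.mk' (K.subgroupOf K') ⟨x, hx⟩) ^ orderOf x = 1 := by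
    rw [← map_pow]
    have : (⟨x, hx⟩ : K') ^ orderOf x = 1 := by
      apply Subtype.ext
      rw [Subgroup.coe_pow]
      exact pow_orderOf_eq_one x
    rw [this, map_one]
  have h2 : (QuotientGroup.mk' (K.subgroupOf K') ⟨x, hx⟩) ^ (K.relIndex K') = 1 := by
    have : K.relIndex K' = Nat.card (↥K' ⧸ K.subgroupOf K') := Subgroup.index_eq_card _
    rw [this]
    exact pow_card_eq_one'
  have h3 : orderOf (QuotientGroup.mk' (K.subgroupOf K') ⟨x, hx⟩) ∣ 1 := by
    rw [← Nat.Coprime.gcd_eq_one hcop]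
    exact Nat.dvd_gcd (orderOf_dvd_of_pow_eq_one h1) (orderOf_dvd_of_pow_eq_one h2)
  have h4 : QuotientGroup.mk' (K.subgroupOf K') ⟨x, hx⟩ = 1 := by
    rw [← orderOf_eq_one_iff]
    exact Nat.dvd_one.mp h3
  rw [QuotientGroup.mk'_apply, QuotientGroup.eq_one_iff, Subgroup.mem_subgroupOf] at h4
  exact h4

/-- Every fusion system satisfies the invariance condition with respect to itself. -/
theorem invCond_refl (F : FusionSystem S) : InvCond F F := by
  intro P hPS φ hφ α hα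
  have ha : IsIso F (α : S ≃* S) := (mem_autGroup_iff F le_rfl α).mp hα
  have hres : (S.subtype.comp (α : S ≃* S).toMonoidHom).comp (Subgroup.inclusion hPS) ∈ F.Hom P :=
    hom_restrict F hPS ha
  have hr : ((S.subtype.comp (α : S ≃* S).toMonoidHom).comp (Subgroup.inclusion hPS)).range =
      (P.subgroupOf S).map (S.subtype.comp α.toMonoidHom) := by
    ext z
    rw [mem_autImage hPS]
    constructor
    · rintro ⟨x, rfl⟩; exact ⟨x, rfl⟩
    · rintro ⟨x, rfl⟩; exact ⟨x, rfl⟩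
  obtain ⟨e, he, hev⟩ := exists_isIso_of_hom F hres hr
  have hφS : ∀ x : P, φ x ∈ S := (F.le_of_mem hφ).2
  have h1 : φ.comp e.symm.toMonoidHom ∈ F.Hom _ := he.symm.comp_hom hφ
  have h2 := F.comp_mem h1 ha (fun y => hφS (e.symm y))
  refine ⟨_, h2, fun x hφx hαx => ?_⟩
  have e1 : (⟨((α ⟨x, hPS x.2⟩ : S) : Ω), hαx⟩ : ↥((P.subgroupOf S).map (S.subtype.comp α.toMonoidHom))) =
      e x := Subtype.ext (hev x).symm
  rw [e1]
  show ((α ⟨φ (e.symm (e x)), _⟩ : S) : Ω) = _
  congr 2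
  apply Subtype.ext
  show φ (e.symm (e x)) = φ x
  rw [MulEquiv.symm_apply_apply]

theorem isInvariantIn_refl (F : FusionSystem S) : F.IsInvariantIn F :=
  ⟨fun _ _ h => h, stronglyClosed_self F, invCond_refl F,
    fun _ _ φ hφ => ⟨1, Subgroup.one_mem _, φ, hφ, fun _ _ => rfl⟩⟩

/-- The subsystem `F0` of the character data for a system invariant in a larger system `Fbig`, in which `E` is
invariant too and whose automorphisms of `T` normalize the kernel, satisfies the invariance condition in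
`Fbig`. -/
theorem F0_invCond_big {Sbig : Subgroup Ω} [Finite Sbig] {Fbig : FusionSystem Sbig} {p : ℕ} [Fact p.Prime]
    [Finite S] {F : FusionSystem S} {E : FusionSystem T} {Δ : Type*} [Group Δ] [Finite Δ]
    (d : Data p F E Δ) (hFinv : F.IsInvariantIn Fbig) (hEinv : E.IsInvariantIn Fbig)
    (hKnorm : ∀ b ∈ Fbig.autGroup T, ∀ κ ∈ d.K, b * κ * b⁻¹ ∈ d.K) : InvCond d.F0 Fbig := by
  have hSbig : S ≤ Sbig := le_of_subsystem hFinv.1
  have hTbig : Fbig.StronglyClosed T := hEinv.2.1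
  have hInvE : InvCond E Fbig := hEinv.2.2.1
  have hInvF : InvCond F Fbig := hFinv.2.2.1
  have key := F0_inv' d (Fbig.autGroup S) ?_ ?_ ?_
  · intro P hPS φ hφ α hα
    have hφS : ∀ x : P, φ x ∈ S := (d.F0.le_of_mem hφ).2
    obtain ⟨χ', hχ'⟩ := exists_transp α hPS φ hφS
    exact ⟨χ', (key P hφ).2 α hα _ _ hχ', fun x hφx hαx => hχ'.2 ⟨x, hPS x.2⟩ x.2 hαx hφx⟩
  · intro α hα
    have hαhom := (mem_autGroup_iff Fbig hSbig α).mp hα
    obtain ⟨b, hbF, hb⟩ := exists_resAut_hom hTbig d.hTS hαhom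
    exact ⟨b, hb, fun hφ h => InvCond.transp_mem hInvE hφ hbF h, hKnorm b hbF⟩
  · intro α hα Q P' φ χ hφ h
    exact InvCond.transp_mem hInvF hφ hα h
  · intro α hα Q hQ P' e he
    have hαhom := (mem_autGroup_iff Fbig hSbig α).mp hα
    have hαinv : IsIso Fbig ((α⁻¹ : MulAut S) : S ≃* S) :=
      (mem_autGroup_iff Fbig hSbig α⁻¹).mp (Subgroup.inv_mem _ hα)
    have hP'S : P' ≤ S := by
      intro z hz
      obtain ⟨x, hx⟩ := e.surjective ⟨z, hz⟩
      have h1 := he x
      rw [hx] at h1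
      have h2 : z = ((α ⟨x, hQ.1 x.2⟩ : S) : Ω) := h1
      rw [h2]
      exact (α _).2
    refine ⟨hP'S, ?_⟩
    have hle : Q ⊓ T ≤ S := inf_le_left.trans hQ.1
    have hψ : (S.subtype.comp (α : S ≃* S).toMonoidHom).comp (Subgroup.inclusion hle) ∈
        Fbig.Hom (Q ⊓ T) := hom_restrict Fbig hle hαhom
    have hc := centric_map_of_frat hEinv.1 hTbig hEinv.2.2.2 hQ.2 hψ
    have hr : ((S.subtype.comp (α : S ≃* S).toMonoidHom).comp (Subgroup.inclusion hle)).range =
        P' ⊓ T := by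
      ext z
      constructor
      · rintro ⟨x, rfl⟩
        refine ⟨?_, ?_⟩
        · have h1 := he ⟨x, x.2.1⟩
          show ((α ⟨(x : Ω), _⟩ : S) : Ω) ∈ P'
          rw [← h1]
          exact (e _).2
        · exact stronglyClosed_hom_mem hTbig hψ x.2.2
      · rintro ⟨hzP', hzT⟩
        obtain ⟨x, hx⟩ := e.surjective ⟨z, hzP'⟩
        have h1 := he x
        rw [hx] at h1
        have h2 : z = ((α ⟨x, hQ.1 x.2⟩ : S) : Ω) := h1
        have h3 : (⟨(x : Ω), hQ.1 x.2⟩ : S) = α⁻¹ ⟨z, hP'S hzP'⟩ := by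
          have h5 : α ⟨(x : Ω), hQ.1 x.2⟩ = ⟨z, hP'S hzP'⟩ := Subtype.ext h2.symm
          rw [← h5, MulAut.inv_apply_self]
        have h4 : (((α⁻¹ : MulAut S) ⟨z, hP'S hzP'⟩ : S) : Ω) ∈ T :=
          stronglyClosed_aut_mem hTbig hαinv (x := ⟨z, hP'S hzP'⟩) hzT
        rw [← h3] at h4
        exact ⟨⟨x, ⟨x.2, h4⟩⟩, h2.symm⟩
    rw [hr] at hc
    exact hc

end Cfsg.Agent.Lib.Helper27.Env
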