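import Mathlib
import Cfsg.Agent.Lib.Helper27.EnvF
import Cfsg.Agent.S5199

set_option autoImplicit false

/-! The chain of subsystems: invariants, base, and the two kinds of steps. -/

namespace Cfsg.Agent.Lib.Helper27.Env

open Cfsg Cfsg.FusionSystem Cfsg.Agent.Lib.Helper27 Cfsg.Agent.H26 Cfsg.Agent.Lib.Helper27.Chi
  Cfsg.Agent.Lib.Helper27.RL

universe u

variable {Ω : Type u} [Group Ω] {S T : Subgroup Ω}

/-- The invariants of a member `G` (over `U`) of the chain, attached to the group `K` of automorphisms of `T`. -/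
structure Good (p : ℕ) (F : FusionSystem S) (E : FusionSystem T) (K : Subgroup (MulAut T))
    {U : Subgroup Ω} (G : FusionSystem U) : Prop where
  base : U = SK S K
  sc : F.StronglyClosed U
  sat : G.IsSaturated p
  sub : G.IsSubsystemOf F
  nE : E.IsNormalIn G p
  aut : G.autGroup T = K
  inv : G.IsInvariantIn F
  lim : RLEq p G F

theorem inn_mem_autGroup (E : FusionSystem T) (t : T) : MulAut.conj t ∈ E.autGroup T := by
  apply autInducedBy_le_autGroup E le_rfl
  rw [mem_autInducedBy_iff]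
  exact ⟨t, t.2, fun x => by rw [MulAut.conj_apply]; rfl⟩

variable [Finite S] {p : ℕ} [Fact p.Prime]

theorem good_base (hS : IsPGroup p S) {F : FusionSystem S} (hF : F.IsSaturated p) {E : FusionSystem T}
    (hE : E.IsNormalIn F p) : Good p F E (F.autGroup T) F := by
  have hT : F.StronglyClosed T := hE.1.2.2.2.1
  refine ⟨?_, stronglyClosed_self F, hF, fun _ _ h => h, hE, rfl, isInvariantIn_refl F,
    rlEq_of_homEq hS (HomEq.refl F)⟩
  apply le_antisymm
  · intro s hs
    obtain ⟨a, ha⟩ := exists_isConjBy_of_mem hT hs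
    exact ⟨hs, a, isConjBy_mem_autGroup hT.1 hs ha, ha⟩
  · exact SK_le _

/-- The step of index prime to `p`. -/
theorem primeStep (hS : IsPGroup p S) {F : FusionSystem S} (hF : F.IsSaturated p) {E : FusionSystem T}
    (hE : E.IsNormalIn F p) {K K' : Subgroup (MulAut T)} (hKK' : K ≤ K') (hA₀K : E.autGroup T ≤ K)
    (hnorm : ∀ b ∈ F.autGroup T, ∀ k ∈ K, b * k * b⁻¹ ∈ K) (hidx : (K.relIndex K').Coprime p)
    {U : Subgroup Ω} {G' : FusionSystem U} (h : Good p F E K' G') :
    ∃ G : FusionSystem U, Good p F E K G := by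
  have hT : F.StronglyClosed T := hE.1.2.2.2.1
  have hUS : U ≤ S := h.sc.1
  haveI : Finite U := Finite.of_injective (Subgroup.inclusion hUS) (Subgroup.inclusion_injective hUS)
  have hUp : IsPGroup p U := hS.to_le hUS
  have hTU : T ≤ U := le_of_subsystem h.nE.1.2.2.1
  haveI : Finite T := Finite.of_injective (Subgroup.inclusion hTU) (Subgroup.inclusion_injective hTU)
  haveI : Finite (MulAut T) := inferInstance
  have hAle : G'.autGroup T ≤ F.autGroup T := Cfsg.Agent.H26.autGroup_le_of_subsystem h.sub hTU hUS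
  haveI hN : (K.subgroupOf (G'.autGroup T)).Normal := by
    constructor
    intro n hn g
    rw [Subgroup.mem_subgroupOf] at hn ⊢
    exact hnorm g (hAle g.2) n hn
  let d : Data p G' E (↥(G'.autGroup T) ⧸ K.subgroupOf (G'.autGroup T)) :=
    { hS := hUp
      hF := h.sat
      hE := h.nE
      χ := QuotientGroup.mk' _
      hΔ := by
        rw [← Subgroup.index_eq_card]
        show (K.relIndex (G'.autGroup T)).Coprime p
        rw [h.aut]
        exact hidx
      hker := by
        rw [QuotientGroup.ker_mk']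
        intro a ha
        rw [Subgroup.mem_subgroupOf] at ha ⊢
        exact hA₀K ha }
  have hdK : d.K = K := by
    show (QuotientGroup.mk' (K.subgroupOf (G'.autGroup T))).ker.map (G'.autGroup T).subtype = K
    rw [QuotientGroup.ker_mk', Subgroup.subgroupOf_map_subtype, inf_eq_left, h.aut]
    exact hKK'
  have hbase : SK S K' = SK S K := by
    apply le_antisymm _ (SK_mono hKK')
    rintro s ⟨hs, a, haK', ha⟩
    refine ⟨hs, a, ?_, ha⟩
    obtain ⟨k, hk⟩ := hS ⟨s, hs⟩
    have hsk : s ^ (p ^ k) = 1 := by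
      have := congrArg (fun z : S => (z : Ω)) hk
      simpa using this
    have h1 := ha.pow (p ^ k)
    rw [hsk] at h1
    have h2 : a ^ (p ^ k) = 1 := h1.unique IsConjBy.one
    have h3 : orderOf a ∣ p ^ k := orderOf_dvd_of_pow_eq_one h2
    apply mem_of_coprime_relIndex (K := K) (K' := K') _ haK'
    · exact Nat.Coprime.coprime_dvd_left h3 (Nat.Coprime.pow_left k hidx.symm)
    · intro b hb κ hκ
      rw [← h.aut] at hb
      exact hnorm b (hAle hb) κ hκ
  refine ⟨d.F0, ?_⟩
  exact
    { base := h.base.trans hbase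
      sc := h.sc
      sat := d.F0_saturated
      sub := fun P φ hφ => h.sub P (d.F0_le_F P hφ)
      nE := E_normal_F0 d
      aut := (autGroup_F0_T d).trans hdK
      inv := isInvariantIn_trans h.inv d.F0_normal.1.2.2 h.sc
        (F0_invCond_big d h.inv hE.1.2.2 (by rw [hdK]; exact hnorm))
      lim := (rlEq_of_primeIdx hUp h.sat d.F0_saturated d.F0_hasPrimeToPIndexIn).trans
        (exists_limit hUp h.sat) h.lim }

/-- The step of `p`-power index. -/
theorem powStep (hS : IsPGroup p S) {F : FusionSystem S} (hF : F.IsSaturated p) {E : FusionSystem T}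
    (hE : E.IsNormalIn F p) {K K' : Subgroup (MulAut T)} (hKK' : K ≤ K') (hA₀K : E.autGroup T ≤ K)
    (hnorm : ∀ b ∈ F.autGroup T, ∀ k ∈ K, b * k * b⁻¹ ∈ K) (hidx : ∃ m : ℕ, K.relIndex K' = p ^ m)
    {U' : Subgroup Ω} {G' : FusionSystem U'} (h : Good p F E K' G') :
    ∃ (U : Subgroup Ω) (G : FusionSystem U), Good p F E K G := by
  have hT : F.StronglyClosed T := hE.1.2.2.2.1
  have hTS : T ≤ S := hT.1
  have hU'S : U' ≤ S := h.sc.1
  haveI : Finite U' := Finite.of_injective (Subgroup.inclusion hU'S) (Subgroup.inclusion_injective hU'S)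
  have hU'p : IsPGroup p U' := hS.to_le hU'S
  have hInn : ∀ t : T, MulAut.conj t ∈ K := fun t => hA₀K (inn_mem_autGroup E t)
  have hTU' : T ≤ U' := le_of_subsystem h.nE.1.2.2.1
  have hTG' : G'.StronglyClosed T := stronglyClosed_of_le h.sub hT hTU'
  have hAle : G'.autGroup T ≤ F.autGroup T := Cfsg.Agent.H26.autGroup_le_of_subsystem h.sub hTU' hU'S
  have hcop : ∀ k ∈ G'.autGroup T, (orderOf k).Coprime p → k ∈ K := by
    intro k hk hc
    obtain ⟨m, hm⟩ := hidx
    rw [h.aut] at hk
    apply mem_of_coprime_relIndex (K := K) (K' := K') _ hk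
    · rw [hm]
      exact Nat.Coprime.pow_right m hc
    · intro b hb κ hκ
      rw [← h.aut] at hb
      exact hnorm b (hAle hb) κ hκ
  have hhyp : G'.hyperfocalSubgroup p ≤ SK U' K :=
    hyperfocal_le_SK hU'p h.sat hTG' hInn (fun b hb => hnorm b (hAle hb)) hcop
  have hUU' : SK S K ≤ U' := by
    rw [h.base]
    exact SK_mono hKK'
  have hSKeq : SK U' K = SK S K := by
    apply le_antisymm
    · rintro s ⟨hs, a, ha, hc⟩
      exact ⟨hU'S hs, a, ha, hc⟩
    · rintro s ⟨hs, a, ha, hc⟩
      exact ⟨hUU' ⟨hs, a, ha, hc⟩, a, ha, hc⟩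
  rw [hSKeq] at hhyp
  obtain ⟨G, hGsat, hGidx⟩ := PPow.exists_pPowerIndex hU'p h.sat hUU' hhyp
  refine ⟨SK S K, G, ?_⟩
  have hUsc : F.StronglyClosed (SK S K) := SK_stronglyClosed hS hF hT hInn hnorm
  have hUscG' : G'.StronglyClosed (SK S K) := stronglyClosed_of_le h.sub hUsc hUU'
  have hUn : ((SK S K).subgroupOf U').Normal := by
    constructor
    intro n hn g
    rw [Subgroup.mem_subgroupOf] at hn ⊢
    exact stronglyClosed_conj_mem hUscG' g.2 hn
  have hGn : G.IsNormalIn G' p := isNormalIn_of_pPowerIndex hU'p h.sat hUU' hUn hhyp G hGsat hGidx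
  have hTU : T ≤ SK S K := T_le_SK hTS hInn
  have hEG : E.IsSubsystemOf G :=
    Cfsg.Agent.S5199.result p hU'p G' h.sat E h.nE G hGn (sup_le hTU hhyp) hGidx
  have hC : centralizerIn (SK S K) T = centralizerIn U' T := by
    rw [centralizerIn_SK, h.base, centralizerIn_SK]
  have hU : ∀ s, s ∈ SK S K ↔ s ∈ U' ∧ ∃ a ∈ K, IsConjBy a s := by
    intro s
    constructor
    · intro hs
      exact ⟨hUU' hs, hs.2⟩
    · rintro ⟨hs, hc⟩
      exact ⟨hU'S hs, hc⟩
  exact
    { base := rfl
      sc := hUsc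
      sat := hGsat
      sub := fun P φ hφ => h.sub P (hGidx.1 P hφ)
      nE := ⟨⟨hE.1.1, hGsat, isInvariantIn_of_le hU'p h.sat hGsat hGidx.1 hEG h.nE.1.2.2⟩,
        extCond_of_pPowerIndex hE.1.1 hTU hUU' hGidx hC h.nE.2⟩
      aut := autGroup_eq_of_pPowerIndex h.sat hGsat hGidx hTG' hTU (by rw [h.aut]; exact hKK') hU hcop
      inv := isInvariantIn_trans h.inv hGn.1.2.2 hUsc
        (invCond_of_pPowerIndex_of_invariant hS hF h.inv hGsat hGidx hUsc)
      lim := (rlEq_of_pPowerIndex hU'p G' G hUscG' h.sat hGsat hGidx).symm.trans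
        (exists_limit hU'p h.sat) h.lim }

end Cfsg.Agent.Lib.Helper27.Env
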