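import Mathlib
import Cfsg.Agent.Lib.Helper27.EnvG

set_option autoImplicit false

/-! The chain down to `Aut_E(T)` and the resulting envelope over `T C_S(T)`. -/

namespace Cfsg.Agent.Lib.Helper27.Env

open Cfsg Cfsg.FusionSystem Cfsg.Agent.Lib.Helper27 Cfsg.Agent.H26 Cfsg.Agent.Lib.Helper27.Chi
  Cfsg.Agent.Lib.Helper27.RL

universe u

variable {Ω : Type u} [Group Ω] {S T : Subgroup Ω}

/-- The extension condition of normality for subsystems over a subgroup containing its centralizer. -/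
theorem ext_cond_self_centralizing [Finite S] {F : FusionSystem S} {R : Subgroup Ω} (hRS : R ≤ S)
    (hC : centralizerIn S R ≤ R) {α : MulAut R} (hα : α ∈ F.autGroup R) :
    ∃ β ∈ F.autGroup (R ⊔ centralizerIn S R),
      (∀ x : R, ((β (Subgroup.inclusion le_sup_left x) : ↥(R ⊔ centralizerIn S R)) : Ω) = ((α x : R) : Ω)) ∧
      ∀ c : ↥(R ⊔ centralizerIn S R), (c : Ω) ∈ centralizerIn S R →
        (c : Ω)⁻¹ * ((β c : ↥(R ⊔ centralizerIn S R)) : Ω) ∈ R ⊓ Subgroup.centralizer (R : Set Ω) := by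
  have hUR : R ⊔ centralizerIn S R ≤ R := sup_le le_rfl hC
  have hUS : R ⊔ centralizerIn S R ≤ S := hUR.trans hRS
  have hRU : R ≤ R ⊔ centralizerIn S R := le_sup_left
  haveI : Finite ↥(R ⊔ centralizerIn S R) :=
    Finite.of_injective (Subgroup.inclusion hUS) (Subgroup.inclusion_injective hUS)
  have hαhom := (mem_autGroup_iff F hRS α).mp hα
  have hψ : (R.subtype.comp (α : R ≃* R).toMonoidHom).comp (Subgroup.inclusion hUR) ∈
      F.Hom (R ⊔ centralizerIn S R) := hom_restrict F hUR hαhom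
  have hr : ((R.subtype.comp (α : R ≃* R).toMonoidHom).comp (Subgroup.inclusion hUR)).range =
      R ⊔ centralizerIn S R := by
    have hle : ((R.subtype.comp (α : R ≃* R).toMonoidHom).comp (Subgroup.inclusion hUR)).range ≤
        R ⊔ centralizerIn S R := by
      rintro _ ⟨x, rfl⟩
      exact hRU (α _).2
    apply Subgroup.eq_of_le_of_card_ge hle
    rw [Nat.card_congr (MonoidHom.ofInjective (F.injective_of_mem hψ)).toEquiv]
  obtain ⟨e, he, hee⟩ := exists_isIso_of_hom F hψ hr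
  refine ⟨e, (mem_autGroup_iff F hUS e).mpr he, fun x => ?_, fun c hc => ?_⟩
  · rw [hee]
    rfl
  · rw [hee]
    show (c : Ω)⁻¹ * ((α ⟨c, hUR c.2⟩ : R) : Ω) ∈ _
    rw [mem_centralizerIn_iff] at hc
    have h1 : ((α ⟨c, hUR c.2⟩ : R) : Ω) ∈ Subgroup.centralizer (R : Set Ω) := by
      rw [Subgroup.mem_centralizer_iff]
      intro s hs
      have h2 : (⟨s, hs⟩ : R) = α (α⁻¹ ⟨s, hs⟩) := by rw [MulAut.apply_inv_self]
      have h3 : (⟨s, hs⟩ : R) * α ⟨c, hUR c.2⟩ = α ⟨c, hUR c.2⟩ * ⟨s, hs⟩ := by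
        rw [h2, ← map_mul, ← map_mul]
        congr 1
        apply Subtype.ext
        exact hc.2 _ (α⁻¹ ⟨s, hs⟩).2
      exact congrArg (fun z : R => (z : Ω)) h3
    have h4 : (c : Ω) ∈ Subgroup.centralizer (R : Set Ω) := by
      rw [Subgroup.mem_centralizer_iff]
      intro s hs
      exact hc.2 s hs
    exact ⟨R.mul_mem (R.inv_mem (hUR c.2)) (α _).2,
      Subgroup.mul_mem _ (Subgroup.inv_mem _ h4) h1⟩

variable [Finite S] {p : ℕ} [Fact p.Prime]

/-- The chain: from `Aut_F(T)` down to `Aut_E(T)` along a `p`-solvable series. -/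
theorem exists_good (hS : IsPGroup p S) {F : FusionSystem S} (hF : F.IsSaturated p) {E : FusionSystem T}
    (hE : E.IsNormalIn F p) [hn : ((E.autGroup T).subgroupOf (F.autGroup T)).Normal]
    (hsolv : IsPSolvable p (↥(F.autGroup T) ⧸ (E.autGroup T).subgroupOf (F.autGroup T))) :
    ∃ (U : Subgroup Ω) (G : FusionSystem U), Good p F E (E.autGroup T) G := by
  obtain ⟨n, H, h0, hlast, hmono, hnormal, hstep⟩ := hsolv
  have hT : F.StronglyClosed T := hE.1.2.2.2.1
  have hA₀A : E.autGroup T ≤ F.autGroup T :=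
    Cfsg.Agent.H26.autGroup_le_of_subsystem hE.1.2.2.1 le_rfl hT.1
  set N := (E.autGroup T).subgroupOf (F.autGroup T) with hN
  let Kf : Fin (n + 1) → Subgroup (MulAut T) :=
    fun i => ((H i).comap (QuotientGroup.mk' N)).map (F.autGroup T).subtype
  have hKf_last : Kf (Fin.last n) = F.autGroup T := by
    show ((H (Fin.last n)).comap (QuotientGroup.mk' N)).map (F.autGroup T).subtype = _
    rw [hlast, Subgroup.comap_top, ← MonoidHom.range_eq_map, Subgroup.range_subtype]
  have hKf_zero : Kf 0 = E.autGroup T := by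
    show ((H 0).comap (QuotientGroup.mk' N)).map (F.autGroup T).subtype = _
    rw [h0, MonoidHom.comap_bot, QuotientGroup.ker_mk', hN, Subgroup.subgroupOf_map_subtype,
      inf_eq_left]
    exact hA₀A
  have hKf_mono : ∀ i j : Fin (n + 1), i ≤ j → Kf i ≤ Kf j := fun i j hij =>
    Subgroup.map_mono (Subgroup.comap_mono (hmono hij))
  have hKf_A₀ : ∀ i, E.autGroup T ≤ Kf i := fun i => by
    rw [← hKf_zero]
    exact hKf_mono 0 i (Fin.zero_le i)
  have hKf_norm : ∀ i, ∀ b ∈ F.autGroup T, ∀ k ∈ Kf i, b * k * b⁻¹ ∈ Kf i := by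
    rintro i b hb _ ⟨k₀, hk₀, rfl⟩
    refine ⟨⟨b, hb⟩ * k₀ * ⟨b, hb⟩⁻¹, ?_, rfl⟩
    rw [SetLike.mem_coe, Subgroup.mem_comap] at hk₀ ⊢
    rw [map_mul, map_mul, map_inv]
    exact (hnormal i).conj_mem _ hk₀ _
  have hKf_idx : ∀ i : Fin n, (Kf i.castSucc).relIndex (Kf i.succ) =
      (H i.castSucc).relIndex (H i.succ) := by
    intro i
    show (((H i.castSucc).comap (QuotientGroup.mk' N)).map (F.autGroup T).subtype).relIndex
      (((H i.succ).comap (QuotientGroup.mk' N)).map (F.autGroup T).subtype) = _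
    rw [Subgroup.relIndex_map_map_of_injective _ _ (Subgroup.subtype_injective _),
      Subgroup.relIndex_comap,
      Subgroup.map_comap_eq_self_of_surjective (QuotientGroup.mk'_surjective N)]
  have key : ∀ i : Fin (n + 1), ∃ (U : Subgroup Ω) (G : FusionSystem U), Good p F E (Kf i) G := by
    intro i
    induction i using Fin.reverseInduction with
    | last =>
      rw [hKf_last]
      exact ⟨S, F, good_base hS hF hE⟩
    | cast i ih =>
      obtain ⟨U', G', hG'⟩ := ih
      have hle : Kf i.castSucc ≤ Kf i.succ := hKf_mono _ _ Fin.castSucc_lt_succ.le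
      rcases hstep i with ⟨m, hm⟩ | hcop
      · exact powStep hS hF hE hle (hKf_A₀ _) (hKf_norm _) ⟨m, by rw [hKf_idx, hm]⟩ hG'
      · obtain ⟨G, hG⟩ := primeStep hS hF hE hle (hKf_A₀ _) (hKf_norm _)
          (by rw [hKf_idx]; exact hcop) hG'
        exact ⟨U', G, hG⟩
  have := key 0
  rw [hKf_zero] at this
  exact this

end Cfsg.Agent.Lib.Helper27.Env
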