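import Mathlib
import Cfsg.Agent.Lib.Helper27.EnvH

set_option autoImplicit false

/-! The normal envelope of a normal subsystem with `p`-solvable automizer quotient. -/

namespace Cfsg.Agent.Lib.Helper27.Env

open Cfsg Cfsg.FusionSystem Cfsg.Agent.Lib.Helper27 Cfsg.Agent.H26 Cfsg.Agent.Lib.Helper27.Chi
  Cfsg.Agent.Lib.Helper27.RL

universe u

variable {Ω : Type u} [Group Ω] {S T : Subgroup Ω} [Finite S] {p : ℕ} [Fact p.Prime]

omit [Fact p.Prime] in
/-- The elements of `S` inducing on `T` an automorphism in `Aut_E(T)` are those of `T C_S(T)`. -/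
theorem SK_autE_eq (hS : IsPGroup p S) {F : FusionSystem S} {E : FusionSystem T}
    (hE : E.IsNormalIn F p) : SK S (E.autGroup T) = T ⊔ centralizerIn S T := by
  have hT : F.StronglyClosed T := hE.1.2.2.2.1
  have hTS : T ≤ S := hT.1
  haveI : Finite T := Finite.of_injective (Subgroup.inclusion hTS) (Subgroup.inclusion_injective hTS)
  have hEsat : E.IsSaturated p := hE.1.1
  apply le_antisymm
  · rintro s ⟨hs, a, haE, ha⟩
    have hwcE : E.WeaklyClosed T := by
      refine ⟨le_rfl, fun φ hφ => ?_⟩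
      have hle : φ.range ≤ T := by
        rintro _ ⟨x, rfl⟩
        exact (E.le_of_mem hφ).2 x
      apply Subgroup.eq_of_le_of_card_ge hle
      rw [Nat.card_congr (MonoidHom.ofInjective (E.injective_of_mem hφ)).toEquiv]
    obtain ⟨-, R, hR⟩ := weaklyClosed_isFullyAutomized hEsat hwcE
    have hQp : IsPGroup p ((autInducedBy S T).subgroupOf (E.autGroup T)) :=
      (isPGroup_autInducedBy hS T).comap_of_injective (E.autGroup T).subtype
        (Subgroup.subtype_injective _)
    have hRQ : (R : Subgroup (E.autGroup T)) ≤ (autInducedBy S T).subgroupOf (E.autGroup T) := by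
      rw [hR]
      intro x hx
      rw [Subgroup.mem_subgroupOf] at hx ⊢
      exact PPow.autInducedBy_mono' hTS hx
    have hQR := R.is_maximal' hQp hRQ
    have haQ : (⟨a, haE⟩ : E.autGroup T) ∈ (autInducedBy S T).subgroupOf (E.autGroup T) := by
      rw [Subgroup.mem_subgroupOf, mem_autInducedBy_iff]
      exact ⟨s, hs, ha⟩
    rw [hQR] at haQ
    have haQ' : (⟨a, haE⟩ : E.autGroup T) ∈ (autInducedBy T T).subgroupOf (E.autGroup T) := by
      rw [← hR]; exact haQ
    rw [Subgroup.mem_subgroupOf, mem_autInducedBy_iff] at haQ'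
    obtain ⟨t, ht, hta⟩ := haQ'
    have hta' : IsConjBy a t := hta
    have h1 : IsConjBy (a⁻¹ * a) (t⁻¹ * s) := hta'.inv.mul ha
    rw [inv_mul_cancel] at h1
    have hc : t⁻¹ * s ∈ centralizerIn S T := by
      rw [mem_centralizerIn_iff]
      refine ⟨S.mul_mem (S.inv_mem (hTS ht)) hs, fun x hx => ?_⟩
      have h2 := h1 ⟨x, hx⟩
      rw [MulAut.one_apply] at h2
      have h3 : x = t⁻¹ * s * x * (t⁻¹ * s)⁻¹ := h2
      calc x * (t⁻¹ * s) = (t⁻¹ * s * x * (t⁻¹ * s)⁻¹) * (t⁻¹ * s) := by rw [← h3]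
        _ = t⁻¹ * s * x := by group
    have h4 : s = t * (t⁻¹ * s) := by group
    rw [h4]
    exact Subgroup.mul_mem _ (Subgroup.mem_sup_left ht) (Subgroup.mem_sup_right hc)
  · exact sup_le (T_le_SK hTS (inn_mem_autGroup E)) (centralizerIn_le_SK _)

/-- The normal envelope. -/
theorem envelope (hS : IsPGroup p S) (F : FusionSystem S) (hF : F.IsSaturated p) (E : FusionSystem T)
    (hE : E.IsNormalIn F p) [hn : ((E.autGroup T).subgroupOf (F.autGroup T)).Normal]
    (hsolv : IsPSolvable p (↥(F.autGroup T) ⧸ (E.autGroup T).subgroupOf (F.autGroup T))) :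
    ∃ F₀ : FusionSystem (T ⊔ centralizerIn S T), F₀.IsNormalIn F p ∧ E.IsSubsystemOf F₀ ∧
      F₀.autGroup T = E.autGroup T ∧
      ∀ {U : Subgroup Ω} (Finf : FusionSystem U), Finf.IsResidualLimitOf F p → Finf.IsSubsystemOf F₀ ∧
        ∀ {V : Subgroup Ω} (L : FusionSystem V), L.IsResidualLimitOf F₀ p →
          ∀ P : Subgroup Ω, L.Hom P = Finf.Hom P := by
  obtain ⟨U, G, hG⟩ := exists_good hS hF hE hsolv
  have hU : U = T ⊔ centralizerIn S T := hG.base.trans (SK_autE_eq hS hE)
  subst hU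
  have hT : F.StronglyClosed T := hE.1.2.2.2.1
  have hDS : T ⊔ centralizerIn S T ≤ S := hG.sc.1
  haveI : Finite ↥(T ⊔ centralizerIn S T) :=
    Finite.of_injective (Subgroup.inclusion hDS) (Subgroup.inclusion_injective hDS)
  have hDp : IsPGroup p ↥(T ⊔ centralizerIn S T) := hS.to_le hDS
  have hC : centralizerIn S (T ⊔ centralizerIn S T) ≤ T ⊔ centralizerIn S T := by
    intro c hc
    apply (le_sup_right : centralizerIn S T ≤ T ⊔ centralizerIn S T)
    rw [mem_centralizerIn_iff] at hc ⊢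
    exact ⟨hc.1, fun x hx => hc.2 x ((le_sup_left : T ≤ T ⊔ centralizerIn S T) hx)⟩
  refine ⟨G, ⟨⟨hG.sat, hF, hG.inv⟩, fun α hα => ?_⟩, hG.nE.1.2.2.1, hG.aut, ?_⟩
  · have hαF : α ∈ F.autGroup (T ⊔ centralizerIn S T) :=
      Cfsg.Agent.H26.autGroup_le_of_subsystem hG.sub le_rfl hDS hα
    exact ext_cond_self_centralizing hDS hC hαF
  · intro U' Finf hFinf
    refine ⟨?_, ?_⟩
    · obtain ⟨W, L, hL⟩ := exists_limit hDp hG.sat
      have hEq : HomEq L Finf := hG.lim W L hL U' Finf hFinf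
      intro P φ hφ
      have hEqP : L.Hom P = Finf.Hom P := hEq P
      rw [← hEqP] at hφ
      exact limit_le hL P hφ
    · intro V L hL P
      exact hG.lim V L hL U' Finf hFinf P

end Cfsg.Agent.Lib.Helper27.Env
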