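import Mathlib
import Cfsg.Agent.Lib.Helper27.CEF
import Cfsg.Agent.Lib.Helper27.EnvI

set_option autoImplicit false

/-! The centralizer of a normal subsystem: when `C_S(E) ≤ T`, a saturated subsystem over `T C_S(T)` inducing on
`T` only automorphisms of `E` has its focal subgroup in `T`; consequences for residual limits. -/

namespace Cfsg.Agent.Lib.Helper27.CE

open Cfsg Cfsg.FusionSystem Cfsg.Agent.Lib.Helper27 Cfsg.Agent.Lib.Helper27.WN Cfsg.Agent.H26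

variable {Ω : Type*} [Group Ω] {S T : Subgroup Ω}

section

variable [Finite S] {p : ℕ} [Fact p.Prime] {F : FusionSystem S} {E : FusionSystem T}

/-- maps of `F` defined on a subgroup `W` with `T ≤ W ≤ T C_S(T)` inducing on `T` an automorphism of `E` are
trivial modulo `T`, when `C_S(E) ≤ T` -/
theorem inv_mul_mem_of_cse_le (hS : IsPGroup p S) (hF : F.IsSaturated p) (hE : E.IsNormalIn F p)
    (hcse : cse p F E ≤ T) {W : Subgroup Ω} (hTW : T ≤ W) (hWD : W ≤ T ⊔ centralizerIn S T)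
    {Ψ : W →* Ω} (hΨ : Ψ ∈ F.Hom W) {α : MulAut T} (hα : α ∈ E.autGroup T)
    (hΨT : ∀ t : T, Ψ (Subgroup.inclusion hTW t) = ((α t : T) : Ω)) (w : W) :
    (w : Ω)⁻¹ * Ψ w ∈ T := by
  have hTsc : F.StronglyClosed T := hE.1.2.2.2.1
  have hTS : T ≤ S := hTsc.1
  have hTn := le_normalizer_of_stronglyClosed hTsc
  have hDS : T ⊔ centralizerIn S T ≤ S := sup_le_S hTS
  obtain ⟨β, hβF, hβT, hβC⟩ := hE.2 α hα
  have hβiso := (mem_autGroup_iff F hDS β).mp hβF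
  have hβinv : IsIso F ((β⁻¹ : MulAut ↥(T ⊔ centralizerIn S T)) : ↥(T ⊔ centralizerIn S T) ≃* _) :=
    (mem_autGroup_iff F hDS _).mp (Subgroup.inv_mem _ hβF)
  have hval : ∀ w : W, Ψ w ∈ T ⊔ centralizerIn S T := by
    intro w
    obtain ⟨t, ht, c, hc, hw⟩ := exists_mul_of_mem (le_refl T) (hWD w.2)
    have hcW : c ∈ W := by
      have : c = t⁻¹ * w := by rw [hw]; group
      rw [this]; exact W.mul_mem (W.inv_mem (hTW ht)) w.2
    have : w = Subgroup.inclusion hTW ⟨t, ht⟩ * ⟨c, hcW⟩ := Subtype.ext hw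
    rw [this, map_mul, hΨT]
    exact Subgroup.mul_mem _ (Subgroup.mem_sup_left (α _).2)
      (Subgroup.mem_sup_right (hom_mem_C hTsc hTW hΨ ⟨c, hcW⟩ hc))
  have hΦ := F.comp_mem hΨ hβinv hval
  -- `Φ = β⁻¹ ∘ Ψ` is trivial on `T`
  have hΦT : ∀ t : T, ((T ⊔ centralizerIn S T).subtype.comp
      ((β⁻¹ : MulAut ↥(T ⊔ centralizerIn S T)) : ↥(T ⊔ centralizerIn S T) ≃* _).toMonoidHom).comp
        (Ψ.codRestrict _ hval) (Subgroup.inclusion hTW t) = t := by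
    intro t
    show ((β⁻¹ ⟨Ψ (Subgroup.inclusion hTW t), _⟩ : ↥(T ⊔ centralizerIn S T)) : Ω) = t
    have : (⟨Ψ (Subgroup.inclusion hTW t), hval _⟩ : ↥(T ⊔ centralizerIn S T)) =
        β (Subgroup.inclusion le_sup_left t) := by
      apply Subtype.ext
      rw [hβT]; exact hΨT t
    rw [this, MulAut.inv_apply_self]; rfl
  -- elements of `C_S(T)`
  have key : ∀ (c : Ω) (hcW : c ∈ W), c ∈ centralizerIn S T → c⁻¹ * Ψ ⟨c, hcW⟩ ∈ T := by
    intro c hcW hc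
    have h1 := hcse (inv_mul_mem_cse (E := E) hS hF hE hTW hcW hc hΦ hΦT)
    have h1' : c⁻¹ * ((β⁻¹ ⟨Ψ ⟨c, hcW⟩, hval _⟩ : ↥(T ⊔ centralizerIn S T)) : Ω) ∈ T := h1
    -- apply `β`
    obtain ⟨τ, hτ⟩ : ∃ τ : T, (τ : Ω) = c⁻¹ * ((β⁻¹ ⟨Ψ ⟨c, hcW⟩, hval _⟩ : ↥(T ⊔ centralizerIn S T)) : Ω) :=
      ⟨⟨_, h1'⟩, rfl⟩
    have h2 : (β⁻¹ ⟨Ψ ⟨c, hcW⟩, hval _⟩ : ↥(T ⊔ centralizerIn S T)) =
        ⟨c, Subgroup.mem_sup_right hc⟩ * Subgroup.inclusion le_sup_left τ := by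
      apply Subtype.ext
      show _ = c * (τ : Ω)
      rw [hτ]; group
    have h3 : (⟨Ψ ⟨c, hcW⟩, hval _⟩ : ↥(T ⊔ centralizerIn S T)) =
        β (⟨c, Subgroup.mem_sup_right hc⟩ * Subgroup.inclusion le_sup_left τ) := by
      rw [← h2, MulAut.apply_inv_self]
    have h4 : Ψ ⟨c, hcW⟩ = ((β ⟨c, Subgroup.mem_sup_right hc⟩ : ↥(T ⊔ centralizerIn S T)) : Ω) *
        ((α τ : T) : Ω) := by
      have := congrArg Subtype.val h3
      rw [map_mul] at this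
      rw [← hβT τ]
      exact this
    rw [h4]
    have h5 := (hβC ⟨c, Subgroup.mem_sup_right hc⟩ hc).1
    have : c⁻¹ * (((β ⟨c, Subgroup.mem_sup_right hc⟩ : ↥(T ⊔ centralizerIn S T)) : Ω) * ((α τ : T) : Ω)) =
        (c⁻¹ * ((β ⟨c, Subgroup.mem_sup_right hc⟩ : ↥(T ⊔ centralizerIn S T)) : Ω)) * ((α τ : T) : Ω) := by
      group
    rw [this]
    exact T.mul_mem h5 (α τ).2
  -- general elements
  obtain ⟨t, ht, c, hc, hw⟩ := exists_mul_of_mem (le_refl T) (hWD w.2)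
  have hcW : c ∈ W := by
    have : c = t⁻¹ * w := by rw [hw]; group
    rw [this]; exact W.mul_mem (W.inv_mem (hTW ht)) w.2
  have hweq : w = Subgroup.inclusion hTW ⟨t, ht⟩ * ⟨c, hcW⟩ := Subtype.ext hw
  rw [hweq, map_mul, hΨT]
  show (t * c)⁻¹ * (((α ⟨t, ht⟩ : T) : Ω) * Ψ ⟨c, hcW⟩) ∈ T
  have hcS : c ∈ S := centralizerIn_le_S S T hc
  have h6 : c⁻¹ * (t⁻¹ * ((α ⟨t, ht⟩ : T) : Ω)) * c ∈ T :=
    conj_inv_mem_of_normalizer hTn hcS (T.mul_mem (T.inv_mem ht) (α _).2)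
  have : (t * c)⁻¹ * (((α ⟨t, ht⟩ : T) : Ω) * Ψ ⟨c, hcW⟩) =
      (c⁻¹ * (t⁻¹ * ((α ⟨t, ht⟩ : T) : Ω)) * c) * (c⁻¹ * Ψ ⟨c, hcW⟩) := by group
  rw [this]
  exact T.mul_mem h6 (key c hcW hc)

/-- when `C_S(E) ≤ T`: the maps of a saturated subsystem `G` of `F` over `T C_S(T)` in which `T` is strongly
closed and which induces on `T` only automorphisms of `E` are trivial modulo `T` -/
theorem focal_le_of_cse_le (hS : IsPGroup p S) (hF : F.IsSaturated p) (hE : E.IsNormalIn F p)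
    (hcse : cse p F E ≤ T) {G : FusionSystem (T ⊔ centralizerIn S T)} (hGsat : G.IsSaturated p)
    (hGF : G.IsSubsystemOf F) (hTG : G.StronglyClosed T) (haut : G.autGroup T ≤ E.autGroup T)
    {P : Subgroup Ω} {ψ : P →* Ω} (hψ : ψ ∈ G.Hom P) (x : P) : (x : Ω)⁻¹ * ψ x ∈ T := by
  have hTsc : F.StronglyClosed T := hE.1.2.2.2.1
  have hTS : T ≤ S := hTsc.1
  have hDS : T ⊔ centralizerIn S T ≤ S := sup_le_S hTS
  haveI : Finite ↥(T ⊔ centralizerIn S T) := finite_of_le hDS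
  haveI : Finite T := finite_of_le hTS
  have hDp : IsPGroup p ↥(T ⊔ centralizerIn S T) := hS.to_le hDS
  obtain ⟨Ψ, hΨ, hlift⟩ := exists_lift hDp hGsat hTG hψ
  have hWD : P ⊔ T ≤ T ⊔ centralizerIn S T := (G.le_of_mem hΨ).1
  obtain ⟨α, hα, hαΨ⟩ := exists_aut_restrict G (le_sup_right : T ≤ P ⊔ T) hΨ
    (fun y hy => stronglyClosed_hom_mem hTG hΨ hy)
  have hαE : α ∈ E.autGroup T := haut ((mem_autGroup_iff G hTG.1 α).mpr hα)
  have h1 := inv_mul_mem_of_cse_le hS hF hE hcse (le_sup_right : T ≤ P ⊔ T) hWD (hGF _ hΨ) hαE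
    (fun t => (hαΨ t).symm) (Subgroup.inclusion le_sup_left x)
  have h2 := hlift x
  have : (x : Ω)⁻¹ * ψ x = ((x : Ω)⁻¹ * Ψ (Subgroup.inclusion le_sup_left x)) *
      ((ψ x)⁻¹ * Ψ (Subgroup.inclusion le_sup_left x))⁻¹ := by group
  rw [this]
  exact T.mul_mem h1 (T.inv_mem h2)

end

end Cfsg.Agent.Lib.Helper27.CE
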