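import Mathlib
import Cfsg.Agent.Lib.Helper27.CEF

set_option autoImplicit false

/-! The centralizer of a normal subsystem: `C_S(E)` is invariant under `Aut_F(T C_S(T))`; maps of `F` defined on
subgroups containing `T` preserve `C_S(E)`. -/

namespace Cfsg.Agent.Lib.Helper27.CE

open Cfsg Cfsg.FusionSystem Cfsg.Agent.Lib.Helper27 Cfsg.Agent.Lib.Helper27.WN Cfsg.Agent.H26

variable {Ω : Type*} [Group Ω] {S T : Subgroup Ω}

section

variable [Finite S] {p : ℕ} [Fact p.Prime] {F : FusionSystem S} {E : FusionSystem T}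

/-- transport of admissible pairs along automorphisms of `T C_S(T)` -/
theorem Adm.map (hS : IsPGroup p S) (hF : F.IsSaturated p) (hE : E.IsNormalIn F p)
    {b : ↥(T ⊔ centralizerIn S T) ≃* ↥(T ⊔ centralizerIn S T)} (hb : IsIso F b)
    {U : Subgroup Ω} {a : MulAut ↥(U ⊔ centralizerIn S T)} (hA : Adm p F E U a) :
    ∃ (U' : Subgroup Ω) (a' : MulAut ↥(U' ⊔ centralizerIn S T)), Adm p F E U' a' ∧
      ∀ (c : Ω) (hc : c ∈ centralizerIn S T) (hc' : ((b ⟨c, Subgroup.mem_sup_right hc⟩ :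
        ↥(T ⊔ centralizerIn S T)) : Ω) ∈ centralizerIn S T),
        (a ⟨c, Subgroup.mem_sup_right hc⟩ = ⟨c, Subgroup.mem_sup_right hc⟩ ↔
        a' ⟨((b ⟨c, Subgroup.mem_sup_right hc⟩ : ↥(T ⊔ centralizerIn S T)) : Ω), Subgroup.mem_sup_right hc'⟩ =
          ⟨((b ⟨c, Subgroup.mem_sup_right hc⟩ : ↥(T ⊔ centralizerIn S T)) : Ω), Subgroup.mem_sup_right hc'⟩) := by
  have hTsc : F.StronglyClosed T := hE.1.2.2.2.1
  have hTS : T ≤ S := hTsc.1
  have hSI : StrongInv E F := strongInv_of_invariant hE.1.2.2.2.2.1 hE.1.2.2.2.2.2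
  obtain ⟨hU, haF, hcop, hmod, α, hαa, hαE, hα'⟩ := hA
  have hUT := hU.1
  have hVS : U ⊔ centralizerIn S T ≤ S := sup_le_S (hUT.trans hTS)
  haveI : Finite ↥(U ⊔ centralizerIn S T) := finite_of_le hVS
  have haiso := (mem_autGroup_iff F hVS a).mp haF
  have hVD : U ⊔ centralizerIn S T ≤ T ⊔ centralizerIn S T := sup_le_sup_C hUT
  -- the restriction of `b` to `U C_S(T)` and to `U`
  have hbV := hom_restrict F hVD hb
  have hbU := hom_restrict F (le_sup_left : U ≤ U ⊔ centralizerIn S T) hbV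
  obtain ⟨ε, hε, hεb⟩ := exists_isIso_of_hom F hbU rfl
  have hεb' : ∀ x : U, ((ε x : _) : Ω) =
      ((b ⟨x, hVD (Subgroup.mem_sup_left x.2)⟩ : ↥(T ⊔ centralizerIn S T)) : Ω) := fun x => hεb x
  have hU' : TCentric F T _ := hU.conj hTsc ((isConj_iff F).mpr ⟨ε, hε⟩)
  have hr : (((T ⊔ centralizerIn S T).subtype.comp b.toMonoidHom).comp (Subgroup.inclusion hVD)).range =
      ((((T ⊔ centralizerIn S T).subtype.comp b.toMonoidHom).comp (Subgroup.inclusion hVD)).comp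
        (Subgroup.inclusion (le_sup_left : U ≤ U ⊔ centralizerIn S T))).range ⊔ centralizerIn S T := by
    apply range_eq_sup hS hF hTsc hUT hbV
    · intro x; exact ⟨x, rfl⟩
    · rintro _ ⟨x, rfl⟩; exact ⟨x, rfl⟩
    · intro t ht hc
      apply hU'.cen hTsc
      rw [mem_centralizerIn_iff]
      refine ⟨ht, ?_⟩
      rintro _ ⟨x, rfl⟩
      exact (hc x).symm
  obtain ⟨ê, hê, hêb⟩ := exists_isIso_of_hom F hbV hr
  have hêb' : ∀ w : ↥(U ⊔ centralizerIn S T), ((ê w : _) : Ω) =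
      ((b ⟨w, hVD w.2⟩ : ↥(T ⊔ centralizerIn S T)) : Ω) := fun w => hêb w
  have hêε : ∀ x : U, ê (Subgroup.inclusion le_sup_left x) = Subgroup.inclusion le_sup_left (ε x) := by
    intro x
    apply Subtype.ext
    rw [hêb']
    exact (hεb' x).symm
  have hU'T := hU'.1
  refine ⟨_, MulAut.congr ê a, ⟨hU', ?_, ?_, ?_, MulAut.congr ε α, ?_, ?_, ?_⟩, ?_⟩
  · rw [mem_autGroup_iff F (sup_le_S (hU'T.trans hTS))]
    exact hê.symm.trans (haiso.trans hê)
  · rw [MulEquiv.orderOf_eq]; exact hcop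
  · intro c'
    show ModT T (c' : Ω) ((ê (a (ê.symm (Subgroup.inclusion le_sup_right c'))) : _) : Ω)
    have h1 : TrivC S T ((Subgroup.subtype _).comp (a : ↥(U ⊔ centralizerIn S T) ≃* _).toMonoidHom) := hmod
    have h2 := TrivC.modT hTsc hUT haiso h1 (ê.symm (Subgroup.inclusion le_sup_right c'))
    have h3 := ModT.map ((Subgroup.subtype _).comp (ê : ↥(U ⊔ centralizerIn S T) ≃* _).toMonoidHom)
      (fun y hy => hom_mem_T hTsc hê y hy) h2
    have h4 : ((ê (ê.symm (Subgroup.inclusion le_sup_right c')) : _) : Ω) = (c' : Ω) := by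
      rw [MulEquiv.apply_symm_apply]; rfl
    rw [← h4]
    exact h3
  · intro x'
    show ((ê (a (ê.symm (Subgroup.inclusion le_sup_left x'))) : _) : Ω) = ((ε (α (ε.symm x')) : _) : Ω)
    have h1 : ê.symm (Subgroup.inclusion le_sup_left x') = Subgroup.inclusion le_sup_left (ε.symm x') := by
      rw [MulEquiv.symm_apply_eq, hêε, MulEquiv.apply_symm_apply]
    have h2 : a (Subgroup.inclusion le_sup_left (ε.symm x')) =
        Subgroup.inclusion le_sup_left (α (ε.symm x')) := Subtype.ext (hαa _)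
    rw [h1, h2, hêε]; rfl
  · exact (StrongInv.congr_mem hSI hUT ε hε hαE).2
  · rcases hα' with hopp | hUeq
    · exact Or.inl (congr_mem_opp hSI hUT hε hopp)
    · right
      subst hUeq
      exact weaklyClosed_eq_of_isConj (weaklyClosed_of_stronglyClosed hTsc) ((isConj_iff F).mpr ⟨ε, hε⟩)
  · intro c hc hc'
    have h1 : ê.symm ⟨((b ⟨c, Subgroup.mem_sup_right hc⟩ : ↥(T ⊔ centralizerIn S T)) : Ω),
        Subgroup.mem_sup_right hc'⟩ = ⟨c, Subgroup.mem_sup_right hc⟩ := by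
      rw [MulEquiv.symm_apply_eq]
      apply Subtype.ext
      rw [hêb']
    constructor
    · intro hfix
      show ê (a (ê.symm _)) = _
      rw [h1, hfix, ← h1, MulEquiv.apply_symm_apply]
    · intro hfix
      have h2 : ê (a (ê.symm ⟨((b ⟨c, Subgroup.mem_sup_right hc⟩ : ↥(T ⊔ centralizerIn S T)) : Ω),
        Subgroup.mem_sup_right hc'⟩)) = ⟨((b ⟨c, Subgroup.mem_sup_right hc⟩ :
          ↥(T ⊔ centralizerIn S T)) : Ω), Subgroup.mem_sup_right hc'⟩ := hfix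
      rw [h1] at h2
      have h3 := congrArg ê.symm h2
      rw [MulEquiv.symm_apply_apply, h1] at h3
      exact h3

/-- **`C_S(E)` is invariant under the automorphisms of `T C_S(T)` in `F`** -/
theorem cse_aut_mem (hS : IsPGroup p S) (hF : F.IsSaturated p) (hE : E.IsNormalIn F p)
    {b : ↥(T ⊔ centralizerIn S T) ≃* ↥(T ⊔ centralizerIn S T)} (hb : IsIso F b)
    {c : Ω} (hc : c ∈ cse p F E) :
    ((b ⟨c, Subgroup.mem_sup_right (cse_le p F E hc)⟩ : ↥(T ⊔ centralizerIn S T)) : Ω) ∈ cse p F E := by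
  have hTsc : F.StronglyClosed T := hE.1.2.2.2.1
  obtain ⟨hcC, hfix⟩ := hc
  have hbc : ((b ⟨c, Subgroup.mem_sup_right hcC⟩ : ↥(T ⊔ centralizerIn S T)) : Ω) ∈ centralizerIn S T :=
    aut_mem_C hTsc hb _ hcC
  refine ⟨hbc, fun U' a' hA' => ?_⟩
  -- transport `(U', a')` along `b⁻¹`
  obtain ⟨U, a, hA, htr⟩ := hA'.map hS hF hE hb.symm
  have hbsymm : b.symm ⟨((b ⟨c, Subgroup.mem_sup_right hcC⟩ : ↥(T ⊔ centralizerIn S T)) : Ω),
      Subgroup.mem_sup_right hbc⟩ = ⟨c, Subgroup.mem_sup_right hcC⟩ := by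
    rw [MulEquiv.symm_apply_eq]
  have hmem : ((b.symm ⟨((b ⟨c, Subgroup.mem_sup_right hcC⟩ : ↥(T ⊔ centralizerIn S T)) : Ω),
      Subgroup.mem_sup_right hbc⟩ : ↥(T ⊔ centralizerIn S T)) : Ω) ∈ centralizerIn S T := by
    rw [hbsymm]; exact hcC
  refine (htr _ hbc hmem).mpr ?_
  have h1 := hfix U a hA
  have h2 : (⟨((b.symm ⟨((b ⟨c, Subgroup.mem_sup_right hcC⟩ : ↥(T ⊔ centralizerIn S T)) : Ω),
      Subgroup.mem_sup_right hbc⟩ : ↥(T ⊔ centralizerIn S T)) : Ω), Subgroup.mem_sup_right hmem⟩ :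
      ↥(U ⊔ centralizerIn S T)) = ⟨c, Subgroup.mem_sup_right hcC⟩ := by
    apply Subtype.ext
    show ((b.symm _ : ↥(T ⊔ centralizerIn S T)) : Ω) = c
    rw [hbsymm]
  rw [h2]
  exact h1

/-- **maps of `F` defined on subgroups containing `T` preserve `C_S(E)`** -/
theorem cse_map_of_le (hS : IsPGroup p S) (hF : F.IsSaturated p) (hE : E.IsNormalIn F p)
    {W : Subgroup Ω} (hTW : T ≤ W) {c : Ω} (hcW : c ∈ W) (hc : c ∈ cse p F E)
    {ψ : W →* Ω} (hψ : ψ ∈ F.Hom W) : ψ ⟨c, hcW⟩ ∈ cse p F E := by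
  have hTsc : F.StronglyClosed T := hE.1.2.2.2.1
  have hTS : T ≤ S := hTsc.1
  haveI : Finite T := finite_of_le hTS
  have hcC := cse_le p F E hc
  obtain ⟨a₀, ha₀, ha₀ψ⟩ := exists_aut_restrict F hTW hψ (fun y hy => stronglyClosed_hom_mem hTsc hψ hy)
  obtain ⟨ā, hā, hāa⟩ := exists_aut_ext hS hF hTsc ha₀
  have hW₀W : T ⊔ Subgroup.zpowers c ≤ W := sup_le hTW (by rw [Subgroup.zpowers_le]; exact hcW)
  have hψ₀ := hom_restrict F hW₀W hψ
  have hψc : ψ ⟨c, hcW⟩ ∈ centralizerIn S T := hom_mem_C hTsc hTW hψ ⟨c, hcW⟩ hcC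
  have hval : ∀ w : ↥(T ⊔ Subgroup.zpowers c), (ψ.comp (Subgroup.inclusion hW₀W)) w ∈
      T ⊔ centralizerIn S T := by
    apply map_sup_zpowers_mem
    · intro x
      show ψ ⟨x, hTW x.2⟩ ∈ _
      rw [← ha₀ψ]; exact Subgroup.mem_sup_left (a₀ x).2
    · exact Subgroup.mem_sup_right hψc
  have hΦ := F.comp_mem hψ₀ hā.symm hval
  have hΦT : ∀ t : T, ((T ⊔ centralizerIn S T).subtype.comp (ā.symm : _ ≃* _).toMonoidHom).comp
      ((ψ.comp (Subgroup.inclusion hW₀W)).codRestrict _ hval) (Subgroup.inclusion le_sup_left t) = t := by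
    intro t
    show ((ā.symm ⟨ψ ⟨t, hTW t.2⟩, _⟩ : ↥(T ⊔ centralizerIn S T)) : Ω) = t
    have : (⟨ψ ⟨t, hTW t.2⟩, hval (Subgroup.inclusion le_sup_left t)⟩ : ↥(T ⊔ centralizerIn S T)) =
        ā (Subgroup.inclusion le_sup_left t) := by
      apply Subtype.ext
      rw [hāa, ha₀ψ]
    rw [this, MulEquiv.symm_apply_apply]; rfl
  have hcW₀ : c ∈ T ⊔ Subgroup.zpowers c := Subgroup.mem_sup_right (Subgroup.mem_zpowers c)
  have h1 := inv_mul_mem_cse (E := E) hS hF hE (le_sup_left : T ≤ T ⊔ Subgroup.zpowers c) hcW₀ hcC hΦ hΦT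
  have h2 : ((ā.symm ⟨ψ ⟨c, hcW⟩, Subgroup.mem_sup_right hψc⟩ : ↥(T ⊔ centralizerIn S T)) : Ω) ∈
      cse p F E := by
    have h3 := Subgroup.mul_mem _ hc h1
    rw [mul_inv_cancel_left] at h3
    exact h3
  have h4 := cse_aut_mem hS hF hE hā h2
  have h5 : (⟨((ā.symm ⟨ψ ⟨c, hcW⟩, Subgroup.mem_sup_right hψc⟩ : ↥(T ⊔ centralizerIn S T)) : Ω),
      Subgroup.mem_sup_right (cse_le p F E h2)⟩ : ↥(T ⊔ centralizerIn S T)) =
      ā.symm ⟨ψ ⟨c, hcW⟩, Subgroup.mem_sup_right hψc⟩ := Subtype.ext rfl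
  rw [h5, MulEquiv.apply_symm_apply] at h4
  exact h4

end

end Cfsg.Agent.Lib.Helper27.CE
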