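import Mathlib
import Cfsg.Agent.Lib.Helper27.CEH

set_option autoImplicit false

/-! The centralizer of a normal subsystem: auxiliary lemmas for strong closure (subgroups `P ⟨c⟩`, automorphisms
trivial on `Y ∩ T` and modulo `T`). -/

namespace Cfsg.Agent.Lib.Helper27.CE

open Cfsg Cfsg.FusionSystem Cfsg.Agent.Lib.Helper27 Cfsg.Agent.Lib.Helper27.WN Cfsg.Agent.H26

variable {Ω : Type*} [Group Ω] {S T : Subgroup Ω}

/-- a subgroup of `Y ≤ P ⟨c⟩` containing `P` and `c` is everything -/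
theorem mem_of_le_sup_zpowers {Y P : Subgroup Ω} {c : Ω} (hY : Y ≤ P ⊔ Subgroup.zpowers c) (hPY : P ≤ Y)
    (hcY : c ∈ Y) (K : Subgroup Y) (hP : ∀ x (hx : x ∈ P), (⟨x, hPY hx⟩ : Y) ∈ K)
    (hc : (⟨c, hcY⟩ : Y) ∈ K) (y : Y) : y ∈ K := by
  have key : P ⊔ Subgroup.zpowers c ≤ K.map Y.subtype := by
    apply sup_le
    · intro x hx
      exact ⟨⟨x, hPY hx⟩, hP x hx, rfl⟩
    · rw [Subgroup.zpowers_le]
      exact ⟨⟨c, hcY⟩, hc, rfl⟩
  obtain ⟨k, hk, hky⟩ := key (hY y.2)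
  have : k = y := Subtype.ext hky
  rw [← this]
  exact hk

theorem card_lt_of_mem_not_mem {A B : Subgroup Ω} [Finite B] (h : A ≤ B) {t : Ω} (ht : t ∈ B) (hnt : t ∉ A) :
    Nat.card A < Nat.card B := by
  refine lt_of_le_of_ne (Subgroup.card_le_of_le h) (fun heq => hnt ?_)
  have := Subgroup.eq_of_le_of_card_ge h heq.ge
  rw [this]; exact ht

/-- an element normalizing `P` and centralizing `c` normalizes every `Y` with `P ⟨c⟩ ≤ Y ≤ P ⟨c⟩` -/
theorem conj_mem_of_le_sup_zpowers {Y P : Subgroup Ω} {c : Ω} (hY : Y ≤ P ⊔ Subgroup.zpowers c)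
    (hPY : P ≤ Y) (hcY : c ∈ Y) {t : Ω} (htP : ∀ x ∈ P, t * x * t⁻¹ ∈ P) (htc : t * c * t⁻¹ = c)
    {y : Ω} (hy : y ∈ Y) : t * y * t⁻¹ ∈ Y := by
  have := mem_of_le_sup_zpowers hY hPY hcY ((Y.comap (MulAut.conj t).toMonoidHom).subgroupOf Y)
    (fun x hx => by
      rw [Subgroup.mem_subgroupOf, Subgroup.mem_comap]
      exact hPY (htP x hx))
    (by
      rw [Subgroup.mem_subgroupOf, Subgroup.mem_comap]
      show t * c * t⁻¹ ∈ Y
      rw [htc]; exact hcY) ⟨y, hy⟩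
  rw [Subgroup.mem_subgroupOf, Subgroup.mem_comap] at this
  exact this

section

variable [Finite S] {p : ℕ} [Fact p.Prime] {F : FusionSystem S}

/-- **automorphisms trivial on `Y ∩ T` and modulo `T`** of a fully automized subgroup `Y` are induced by
elements of `S` -/
theorem mem_autInducedBy_of_stabilizes (hS : IsPGroup p S) (hT : F.StronglyClosed T) {Y : Subgroup Ω}
    (hfa : F.IsFullyAutomized p Y) {κ : MulAut Y} (hκ : κ ∈ F.autGroup Y)
    (h1 : ∀ y : Y, (y : Ω) ∈ T → κ y = y) (h2 : ∀ y : Y, (y : Ω)⁻¹ * ((κ y : Y) : Ω) ∈ T) :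
    κ ∈ autInducedBy S Y := by
  have hYS : Y ≤ S := hfa.1
  haveI : Finite Y := finite_of_le hYS
  let K₀ : Subgroup (MulAut Y) :=
    { carrier := {κ | κ ∈ F.autGroup Y ∧ (∀ y : Y, (y : Ω) ∈ T → κ y = y) ∧
        ∀ y : Y, (y : Ω)⁻¹ * ((κ y : Y) : Ω) ∈ T}
      one_mem' := ⟨Subgroup.one_mem _, fun y _ => rfl, fun y => by
        simp only [MulAut.one_apply, inv_mul_cancel]; exact T.one_mem⟩
      mul_mem' := by
        rintro a b ⟨ha, ha1, ha2⟩ ⟨hb, hb1, hb2⟩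
        refine ⟨Subgroup.mul_mem _ ha hb, fun y hy => ?_, fun y => ?_⟩
        · rw [MulAut.mul_apply, hb1 y hy, ha1 y hy]
        · rw [MulAut.mul_apply]
          have : (y : Ω)⁻¹ * ((a (b y) : Y) : Ω) = ((y : Ω)⁻¹ * ((b y : Y) : Ω)) *
              (((b y : Y) : Ω)⁻¹ * ((a (b y) : Y) : Ω)) := by group
          rw [this]
          exact T.mul_mem (hb2 y) (ha2 (b y))
      inv_mem' := by
        rintro a ⟨ha, ha1, ha2⟩
        refine ⟨Subgroup.inv_mem _ ha, fun y hy => ?_, fun y => ?_⟩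
        · rw [MulAut.inv_apply, MulEquiv.symm_apply_eq]
          exact (ha1 y hy).symm
        · have := ha2 (a⁻¹ y)
          rw [MulAut.apply_inv_self] at this
          have h3 : (y : Ω)⁻¹ * ((a⁻¹ y : Y) : Ω) = (((a⁻¹ y : Y) : Ω)⁻¹ * (y : Ω))⁻¹ := by group
          rw [h3]
          exact T.inv_mem this }
  have hK₀mem : ∀ κ : MulAut Y, κ ∈ K₀ ↔ κ ∈ F.autGroup Y ∧ (∀ y : Y, (y : Ω) ∈ T → κ y = y) ∧
      ∀ y : Y, (y : Ω)⁻¹ * ((κ y : Y) : Ω) ∈ T := fun _ => Iff.rfl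
  obtain ⟨j, hj⟩ := IsPGroup.iff_card.mp (hS.to_le hYS)
  have hB : IsPGroup p K₀ := by
    rintro ⟨g, hg⟩
    refine ⟨j, ?_⟩
    apply Subtype.ext
    show g ^ p ^ j = 1
    obtain ⟨-, hg1, hg2⟩ := (hK₀mem g).mp hg
    apply MulEquiv.ext
    intro y
    have hu : g (y⁻¹ * g y) = y⁻¹ * g y := hg1 _ (hg2 y)
    have hpow : ∀ i : ℕ, (g ^ i) y = y * (y⁻¹ * g y) ^ i := by
      intro i
      induction i with
      | zero => simp
      | succ i ih =>
        rw [pow_succ', MulAut.mul_apply, ih, map_mul, map_pow, hu, pow_succ', ← mul_assoc,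
          mul_inv_cancel_left]
    rw [hpow, ← hj, pow_card_eq_one', mul_one]
    rfl
  have hBA : K₀ ≤ F.autGroup Y := fun g hg => ((hK₀mem g).mp hg).1
  obtain ⟨a, ha⟩ := exists_conj_mem_autInducedBy hfa hB hBA
  have haiso := (mem_autGroup_iff F hYS _).mp a.2
  -- `a⁻¹ κ a ∈ K₀`
  have hmem : (a : MulAut Y)⁻¹ * κ * (a : MulAut Y) ∈ K₀ := by
    rw [hK₀mem]
    refine ⟨Subgroup.mul_mem _ (Subgroup.mul_mem _ (Subgroup.inv_mem _ a.2) hκ) a.2, fun y hy => ?_,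
      fun y => ?_⟩
    · rw [MulAut.mul_apply, MulAut.mul_apply, h1 _ (stronglyClosed_aut_mem hT haiso hy),
        MulAut.inv_apply_self]
    · rw [MulAut.mul_apply, MulAut.mul_apply]
      have h3 := h2 ((a : MulAut Y) y)
      have h4 : κ ((a : MulAut Y) y) = (a : MulAut Y) y * (((a : MulAut Y) y)⁻¹ * κ ((a : MulAut Y) y)) := by
        group
      rw [h4, map_mul, MulAut.inv_apply_self]
      have haiso' : IsIso F (((a : MulAut Y)⁻¹ : MulAut Y) : Y ≃* Y) :=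
        (mem_autGroup_iff F hYS _).mp (Subgroup.inv_mem _ a.2)
      have h5 := stronglyClosed_aut_mem hT haiso' (x := ((a : MulAut Y) y)⁻¹ * κ ((a : MulAut Y) y)) h3
      show (y : Ω)⁻¹ * ((y : Ω) * _) ∈ T
      rw [inv_mul_cancel_left]
      exact h5
  have := ha _ hmem
  have heq : (a : MulAut Y) * ((a : MulAut Y)⁻¹ * κ * (a : MulAut Y)) * (a : MulAut Y)⁻¹ = κ := by group
  rw [heq] at this
  exact this

end

end Cfsg.Agent.Lib.Helper27.CE
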