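import Mathlib
import Cfsg.Agent.Lib.Helper27.CEJ

set_option autoImplicit false

/-! The centralizer of a normal subsystem: `C_S(E)` is strongly closed in `F`. -/

namespace Cfsg.Agent.Lib.Helper27.CE

open Cfsg Cfsg.FusionSystem Cfsg.Agent.Lib.Helper27 Cfsg.Agent.Lib.Helper27.WN Cfsg.Agent.H26

variable {Ω : Type*} [Group Ω] {S T : Subgroup Ω}

section

variable [Finite S] {p : ℕ} [Fact p.Prime] {F : FusionSystem S} {E : FusionSystem T}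

omit [Fact p.Prime] in
/-- a map of the system does not decrease the order of the intersection with `T` -/
theorem card_inf_le_of_hom (hT : F.StronglyClosed T) {A B : Subgroup Ω} {f : A →* Ω} (hf : f ∈ F.Hom A)
    (hB : f.range ≤ B) : Nat.card ↥(A ⊓ T) ≤ Nat.card ↥(B ⊓ T) := by
  haveI : Finite ↥(B ⊓ T) := finite_of_le (inf_le_right.trans hT.1)
  apply Nat.card_le_card_of_injective (fun x : ↥(A ⊓ T) =>
    (⟨f ⟨x, x.2.1⟩, Subgroup.mem_inf.mpr ⟨hB ⟨_, rfl⟩, hom_mem_T hT hf ⟨x, x.2.1⟩ x.2.2⟩⟩ : ↥(B ⊓ T)))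
  intro x y h
  have h1 : f ⟨x, x.2.1⟩ = f ⟨y, y.2.1⟩ := congrArg Subtype.val h
  have h2 := F.injective_of_mem hf h1
  exact Subtype.ext (congrArg (fun z : A => (z : Ω)) h2)

/-- maps onto fully normalized subgroups -/
theorem map_fn_mem_cse (hS : IsPGroup p S) (hF : F.IsSaturated p) (hE : E.IsNormalIn F p)
    {Y P : Subgroup Ω} (hPY : P ≤ Y) (hPT : P ≤ T) (hPmax : ∀ y ∈ Y, y ∈ T → y ∈ P) (hPlt : P < T)
    {c : Ω} (hcY : c ∈ Y) (hc : c ∈ cse p F E) (hY : Y ≤ P ⊔ Subgroup.zpowers c)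
    {ψ : Y →* Ω} (hψ : ψ ∈ F.Hom Y) (hfn : F.IsFullyNormalized ψ.range)
    (IH : ∀ (Y₂ : Subgroup Ω) (c : Ω) (hc : c ∈ Y₂), c ∈ cse p F E →
      Nat.card P < Nat.card ↥(Y₂ ⊓ T) → ∀ ψ ∈ F.Hom Y₂, ψ ⟨c, hc⟩ ∈ cse p F E) :
    ψ ⟨c, hcY⟩ ∈ cse p F E := by
  have hTsc : F.StronglyClosed T := hE.1.2.2.2.1
  have hTS : T ≤ S := hTsc.1
  haveI : Finite T := finite_of_le hTS
  have hYS : Y ≤ S := hom_le F hψ
  haveI : Finite Y := finite_of_le hYS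
  have hconj : F.IsConj Y ψ.range := ⟨ψ, hψ, rfl⟩
  haveI : Finite P := finite_of_le (hPT.trans hTS)
  haveI : Finite ↥(ψ.range ⊓ T) := finite_of_le (inf_le_right.trans hTS)
  haveI : Finite ↥(Y ⊓ T) := finite_of_le (inf_le_right.trans hTS)
  obtain ⟨φ, hφ, χ, hχ, hφχ⟩ := exists_hom_normalizerIn_of_fullyNormalized hS hF hfn hconj
  -- `T ≰ Y`
  have hTY : ¬ T ≤ Y := fun h => hPlt.not_ge (fun x hx => hPmax x (h hx) hx)
  obtain ⟨t, htT, htN, htY⟩ := exists_mem_normalizerIn_inf_not_mem hS hTsc hYS hTY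
  haveI : Finite ↥(normalizerIn S Y ⊓ T) := finite_of_le (inf_le_right.trans hTS)
  have hlt : Nat.card P < Nat.card ↥(normalizerIn S Y ⊓ T) :=
    card_lt_of_mem_not_mem (le_inf (hPY.trans (le_normalizerIn hYS)) hPT) (Subgroup.mem_inf.mpr ⟨htN, htT⟩)
      (fun h => htY (hPY h))
  have h1 := IH _ c (le_normalizerIn hYS hcY) hc hlt φ hφ
  rw [hφχ c hcY] at h1
  -- the automorphism `β = ψ ∘ χ⁻¹` of the image
  obtain ⟨eψ, heψ, heψv⟩ := exists_isIso_of_hom F hψ rfl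
  have hβ : IsIso F (χ.symm.trans eψ) := hχ.symm.trans heψ
  -- the intersection of the image with `T`
  obtain ⟨ψ', hψ', hinv⟩ := F.inv_mem hψ
  have hψ'r : ψ'.range ≤ Y := by
    rintro _ ⟨⟨_, y, rfl⟩, rfl⟩
    rw [hinv]; exact y.2
  have hcard1 : Nat.card ↥(ψ.range ⊓ T) ≤ Nat.card P :=
    (card_inf_le_of_hom hTsc hψ' hψ'r).trans
      (Subgroup.card_le_of_le (fun y hy => hPmax y hy.1 hy.2))
  have hcard2 : Nat.card P ≤ Nat.card ↥(ψ.range ⊓ T) :=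
    (Subgroup.card_le_of_le (le_inf hPY hPT)).trans (card_inf_le_of_hom hTsc hψ le_rfl)
  have hP'lt : ψ.range ⊓ T < T := by
    refine lt_of_le_of_ne inf_le_right (fun h => ?_)
    have h2 : Nat.card T ≤ Nat.card P := by
      calc Nat.card T = Nat.card ↥(ψ.range ⊓ T) := by rw [h]
        _ ≤ Nat.card P := hcard1
    have h3 : Nat.card P < Nat.card T := by
      obtain ⟨x, hxT, hxP⟩ := SetLike.exists_of_lt hPlt
      exact card_lt_of_mem_not_mem hPT hxT hxP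
    omega
  have hY'le : ψ.range ≤ (ψ.range ⊓ T) ⊔ Subgroup.zpowers ((χ ⟨c, hcY⟩ : ψ.range) : Ω) := by
    intro y' hy'
    have := mem_of_le_sup_zpowers hY hPY hcY
      (((ψ.range ⊓ T) ⊔ Subgroup.zpowers ((χ ⟨c, hcY⟩ : ψ.range) : Ω)).comap
        (ψ.range.subtype.comp χ.toMonoidHom))
      (fun x hx => by
        rw [Subgroup.mem_comap]
        refine Subgroup.mem_sup_left (Subgroup.mem_inf.mpr ⟨(χ _).2, ?_⟩)
        exact hom_mem_T hTsc hχ ⟨x, hPY hx⟩ (hPT hx))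
      (by
        rw [Subgroup.mem_comap]
        exact Subgroup.mem_sup_right (Subgroup.mem_zpowers _)) (χ.symm ⟨y', hy'⟩)
    rw [Subgroup.mem_comap] at this
    have h2 : (ψ.range.subtype.comp χ.toMonoidHom) (χ.symm ⟨y', hy'⟩) = y' := by
      show ((χ (χ.symm ⟨y', hy'⟩) : ψ.range) : Ω) = y'
      rw [MulEquiv.apply_symm_apply]
    rw [h2] at this
    exact this
  have h3 := aut_fn_mem_cse hS hF hE hfn (inf_le_left : ψ.range ⊓ T ≤ ψ.range) inf_le_right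
    (fun y hy hyT => Subgroup.mem_inf.mpr ⟨hy, hyT⟩) hP'lt (χ ⟨c, hcY⟩).2 h1 hY'le hβ
    (fun Y₂ c₂ hc₂ hc₂' hlt₂ ψ₂ hψ₂ => IH Y₂ c₂ hc₂ hc₂' (lt_of_le_of_lt hcard2 hlt₂) ψ₂ hψ₂)
  have h4 : ((χ.symm.trans eψ) ⟨((χ ⟨c, hcY⟩ : ψ.range) : Ω), (χ ⟨c, hcY⟩).2⟩ : ψ.range) =
      eψ ⟨c, hcY⟩ := by
    show eψ (χ.symm _) = _
    have : (⟨((χ ⟨c, hcY⟩ : ψ.range) : Ω), (χ ⟨c, hcY⟩).2⟩ : ψ.range) = χ ⟨c, hcY⟩ := Subtype.ext rfl
    rw [this, MulEquiv.symm_apply_apply]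
  rw [h4, heψv] at h3
  exact h3

/-- **every map of `F` maps elements of `C_S(E)` into `C_S(E)`** -/
theorem hom_mem_cse (hS : IsPGroup p S) (hF : F.IsSaturated p) (hE : E.IsNormalIn F p) :
    ∀ (n : ℕ) (Y : Subgroup Ω) (c : Ω) (hcY : c ∈ Y), c ∈ cse p F E →
      Nat.card T - Nat.card ↥(Y ⊓ T) = n → ∀ ψ ∈ F.Hom Y, ψ ⟨c, hcY⟩ ∈ cse p F E := by
  have hTsc : F.StronglyClosed T := hE.1.2.2.2.1
  have hTS : T ≤ S := hTsc.1
  haveI : Finite T := finite_of_le hTS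
  intro n
  induction n using Nat.strong_induction_on with
  | _ n IH =>
  intro Y c hcY hc hn ψ hψ
  have IH' : ∀ (Y₂ : Subgroup Ω) (c₂ : Ω) (hc₂ : c₂ ∈ Y₂), c₂ ∈ cse p F E →
      Nat.card ↥(Y ⊓ T) < Nat.card ↥(Y₂ ⊓ T) → ∀ ψ₂ ∈ F.Hom Y₂, ψ₂ ⟨c₂, hc₂⟩ ∈ cse p F E := by
    intro Y₂ c₂ hc₂ hc₂' hlt ψ₂ hψ₂
    have hle : Nat.card ↥(Y₂ ⊓ T) ≤ Nat.card T := Subgroup.card_le_of_le inf_le_right
    exact IH (Nat.card T - Nat.card ↥(Y₂ ⊓ T)) (by omega) Y₂ c₂ hc₂ hc₂' rfl ψ₂ hψ₂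
  by_cases hTY : T ≤ Y
  · exact cse_map_of_le hS hF hE hTY hcY hc hψ
  · have hYS : Y ≤ S := hom_le F hψ
    have hPlt : Y ⊓ T < T := lt_of_le_of_ne inf_le_right (fun h => hTY (h ▸ inf_le_left))
    have hY₀Y : (Y ⊓ T) ⊔ Subgroup.zpowers c ≤ Y :=
      sup_le inf_le_left (by rw [Subgroup.zpowers_le]; exact hcY)
    have hψ₀ := hom_restrict F hY₀Y hψ
    have hcY₀ : c ∈ (Y ⊓ T) ⊔ Subgroup.zpowers c := Subgroup.mem_sup_right (Subgroup.mem_zpowers c)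
    have hPmax₀ : ∀ y ∈ (Y ⊓ T) ⊔ Subgroup.zpowers c, y ∈ T → y ∈ Y ⊓ T :=
      fun y hy hyT => Subgroup.mem_inf.mpr ⟨hY₀Y hy, hyT⟩
    haveI : Finite ↥(Y ⊓ T) := finite_of_le (inf_le_right.trans hTS)
    haveI : Finite ↥(((Y ⊓ T) ⊔ Subgroup.zpowers c) ⊓ T) := finite_of_le (inf_le_right.trans hTS)
    haveI : Finite ↥((ψ.comp (Subgroup.inclusion hY₀Y)).range ⊓ T) := finite_of_le (inf_le_right.trans hTS)
    -- a fully normalized conjugate of the image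
    have hY'S : (ψ.comp (Subgroup.inclusion hY₀Y)).range ≤ S := hom_range_le F hψ₀
    obtain ⟨Y'', hY'Y'', hfn⟩ := exists_fullyNormalized_conj F hY'S
    obtain ⟨φ', hφ', χ', hχ', hφ'χ'⟩ := exists_hom_normalizerIn_of_fullyNormalized hS hF hfn hY'Y''
    obtain ⟨eψ₀, heψ₀, heψ₀v⟩ := exists_isIso_of_hom F hψ₀ rfl
    have hiso : IsIso F (eψ₀.trans χ') := heψ₀.trans hχ'
    have hr : (Y''.subtype.comp (eψ₀.trans χ').toMonoidHom).range = Y'' := by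
      ext y
      constructor
      · rintro ⟨x, rfl⟩
        exact ((eψ₀.trans χ') x).2
      · intro hy
        exact ⟨(eψ₀.trans χ').symm ⟨y, hy⟩, by simp⟩
    have hfn' : F.IsFullyNormalized (Y''.subtype.comp (eψ₀.trans χ').toMonoidHom).range := by
      rw [hr]; exact hfn
    have h1 := map_fn_mem_cse hS hF hE (le_sup_left : Y ⊓ T ≤ (Y ⊓ T) ⊔ Subgroup.zpowers c) inf_le_right
      hPmax₀ hPlt hcY₀ hc le_rfl hiso hfn' IH'
    have h1' : ((χ' (eψ₀ ⟨c, hcY₀⟩) : Y'') : Ω) ∈ cse p F E := h1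
    -- pulling back along `φ'`
    have hc'Y' : ψ ⟨c, hcY⟩ ∈ (ψ.comp (Subgroup.inclusion hY₀Y)).range := ⟨⟨c, hcY₀⟩, rfl⟩
    have heq : eψ₀ ⟨c, hcY₀⟩ = ⟨ψ ⟨c, hcY⟩, hc'Y'⟩ := Subtype.ext (heψ₀v _)
    rw [heq, ← hφ'χ' _ hc'Y' (le_normalizerIn hY'S hc'Y')] at h1'
    obtain ⟨ζ, hζ, hζinv⟩ := F.inv_mem hφ'
    -- cardinalities
    obtain ⟨ψ₀', hψ₀', hinv₀⟩ := F.inv_mem hψ₀
    have hψ₀'r : ψ₀'.range ≤ (Y ⊓ T) ⊔ Subgroup.zpowers c := by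
      rintro _ ⟨⟨_, y, rfl⟩, rfl⟩
      rw [hinv₀]; exact y.2
    have hcard1 : Nat.card ↥((ψ.comp (Subgroup.inclusion hY₀Y)).range ⊓ T) ≤ Nat.card ↥(Y ⊓ T) :=
      (card_inf_le_of_hom hTsc hψ₀' hψ₀'r).trans (Subgroup.card_le_of_le (fun y hy => hPmax₀ y hy.1 hy.2))
    have hcard2 : Nat.card ↥(Y ⊓ T) ≤ Nat.card ↥((ψ.comp (Subgroup.inclusion hY₀Y)).range ⊓ T) :=
      (Subgroup.card_le_of_le (le_inf le_sup_left inf_le_right)).trans (card_inf_le_of_hom hTsc hψ₀ le_rfl)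
    have hTY' : ¬ T ≤ (ψ.comp (Subgroup.inclusion hY₀Y)).range := by
      intro h
      have h2 : Nat.card T ≤ Nat.card ↥((ψ.comp (Subgroup.inclusion hY₀Y)).range ⊓ T) :=
        Subgroup.card_le_of_le (le_inf h le_rfl)
      have h3 : Nat.card ↥(Y ⊓ T) < Nat.card T := by
        obtain ⟨x, hxT, hxP⟩ := SetLike.exists_of_lt hPlt
        exact card_lt_of_mem_not_mem inf_le_right hxT hxP
      omega
    obtain ⟨t, htT, htN, htY'⟩ := exists_mem_normalizerIn_inf_not_mem hS hTsc hY'S hTY'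
    haveI : Finite ↥(normalizerIn S (ψ.comp (Subgroup.inclusion hY₀Y)).range ⊓ T) :=
      finite_of_le (inf_le_right.trans hTS)
    have hcard3 : Nat.card ↥((ψ.comp (Subgroup.inclusion hY₀Y)).range ⊓ T) <
        Nat.card ↥(normalizerIn S (ψ.comp (Subgroup.inclusion hY₀Y)).range ⊓ T) :=
      card_lt_of_mem_not_mem (inf_le_inf_right _ (le_normalizerIn hY'S)) (Subgroup.mem_inf.mpr ⟨htN, htT⟩)
        (fun h => htY' h.1)
    have hcard4 := card_inf_le_of_hom hTsc hφ' (le_refl φ'.range)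
    have h2 := IH' φ'.range _ ⟨_, rfl⟩ h1' (by omega) ζ hζ
    rw [hζinv] at h2
    exact h2

/-- **`C_S(E)` is strongly closed in `F`** -/
theorem cse_stronglyClosed (hS : IsPGroup p S) (hF : F.IsSaturated p) (hE : E.IsNormalIn F p) :
    F.StronglyClosed (cse p F E) := by
  refine ⟨(cse_le p F E).trans (centralizerIn_le_S S T), fun R hR φ hφ x => ?_⟩
  exact hom_mem_cse hS hF hE _ R x x.2 (hR x.2) rfl φ hφ

end

end Cfsg.Agent.Lib.Helper27.CE
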