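import Mathlib
import Cfsg.Agent.Lib.Helper27.CEK
import Cfsg.Agent.Lib.Helper27.EnvA

set_option autoImplicit false

/-! Maps of the system between subgroups of `C_S(T)`, `T` strongly closed: they extend over `T`, and
factor as a map of `C_F(T)` followed by an automorphism of `T C_S(T)`. -/

namespace Cfsg.Agent.Lib.Helper27.CE

open Cfsg Cfsg.FusionSystem Cfsg.Agent.Lib.Helper27 Cfsg.Agent.Lib.Helper27.WN Cfsg.Agent.H26
  Cfsg.Agent.Lib.Helper27.Env

variable {Ω : Type*} [Group Ω] {S T : Subgroup Ω}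

section

variable [Finite S] {p : ℕ} [Fact p.Prime] {F : FusionSystem S}

omit [Fact p.Prime] in
/-- a map of the system defined on an overgroup of the strongly closed `T` is onto `T` on `T` -/
theorem exists_preimage_T (hT : F.StronglyClosed T) {W : Subgroup Ω} (hTW : T ≤ W) {ψ : W →* Ω}
    (hψ : ψ ∈ F.Hom W) {t : Ω} (ht : t ∈ T) : ∃ t' : T, ψ ⟨t', hTW t'.2⟩ = t := by
  obtain ⟨b, -, hb⟩ := exists_resAut_hom hT hTW hψ
  refine ⟨b⁻¹ ⟨t, ht⟩, ?_⟩
  rw [← hb, MulAut.apply_inv_self]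

/-- a map of the system between subgroups of `C_S(T)` extends over `T` -/
theorem cen_exists_ext (hS : IsPGroup p S) (hF : F.IsSaturated p) (hT : F.StronglyClosed T)
    {P : Subgroup Ω} (hPC : P ≤ centralizerIn S T) {φ : P →* Ω} (hφ : φ ∈ F.Hom P)
    (hφC : ∀ x : P, φ x ∈ centralizerIn S T) :
    ∃ ψ ∈ F.Hom (P ⊔ T), ∀ x : P, ψ (Subgroup.inclusion le_sup_left x) = φ x := by
  have hTS := hT.1
  obtain ⟨e, he, hev⟩ := exists_isIso_of_hom F hφ rfl
  have hP'S : φ.range ≤ S := hom_range_le F hφ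
  obtain ⟨P'', hconj, hfn⟩ := exists_fullyNormalized_conj F hP'S
  obtain ⟨χ, hχ⟩ := (isConj_iff F).mp hconj
  obtain ⟨-, hrec, -⟩ := fa_receptive_of_fullyNormalized hS hF hfn
  have hTP : T ≤ centralizerIn S P := by
    intro t ht
    rw [mem_centralizerIn_iff]
    refine ⟨hTS ht, fun x hx => ?_⟩
    exact ((mem_centralizerIn_iff.mp (hPC hx)).2 t ht).symm
  have hTP' : T ≤ centralizerIn S φ.range := by
    intro t ht
    rw [mem_centralizerIn_iff]
    refine ⟨hTS ht, ?_⟩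
    rintro _ ⟨x, rfl⟩
    exact ((mem_centralizerIn_iff.mp (hφC x)).2 t ht).symm
  obtain ⟨ψ₁, hψ₁, hψ₁e⟩ := receptive_exists_extension hrec (he.trans hχ)
  obtain ⟨ψ₂, hψ₂, hψ₂e⟩ := receptive_exists_extension hrec hχ
  have hle₁ : P ⊔ T ≤ extender S P (P''.subtype.comp (e.trans χ).toMonoidHom) :=
    sup_le (le_extender_of_isIso (he.trans hχ)) (hTP.trans (centralizerIn_le_extender _))
  have hle₂ : φ.range ⊔ T ≤ extender S φ.range (P''.subtype.comp χ.toMonoidHom) :=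
    sup_le (le_extender_of_isIso hχ) (hTP'.trans (centralizerIn_le_extender _))
  have hψ₁' := hom_restrict F hle₁ hψ₁
  have hψ₂' := hom_restrict F hle₂ hψ₂
  obtain ⟨ε₂, hε₂, hε₂v⟩ := exists_isIso_of_hom F hψ₂' rfl
  have hkey : ∀ x : P, (ψ₂.comp (Subgroup.inclusion hle₂)) (Subgroup.inclusion le_sup_left (e x)) =
      (ψ₁.comp (Subgroup.inclusion hle₁)) (Subgroup.inclusion le_sup_left x) := by
    intro x
    have h1 := hψ₁e x x.2 (hle₁ (Subgroup.mem_sup_left x.2))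
    have h2 := hψ₂e (e x) (e x).2 (hle₂ (Subgroup.mem_sup_left (e x).2))
    show ψ₂ ⟨((e x : φ.range) : Ω), _⟩ = ψ₁ ⟨(x : Ω), _⟩
    rw [h1, h2]
    rfl
  have hmem : ∀ z : ↥(P ⊔ T), (ψ₁.comp (Subgroup.inclusion hle₁)) z ∈
      (ψ₂.comp (Subgroup.inclusion hle₂)).range := by
    apply map_sup_mem
    · intro x
      exact ⟨Subgroup.inclusion le_sup_left (e x), hkey x⟩
    · intro t
      have h1 : (ψ₁.comp (Subgroup.inclusion hle₁)) (Subgroup.inclusion le_sup_right t) ∈ T :=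
        hom_mem_T hT hψ₁' _ t.2
      obtain ⟨t', ht'⟩ := exists_preimage_T hT le_sup_right hψ₂' h1
      exact ⟨_, ht'⟩
  have hcomp := F.comp_mem hψ₁' hε₂.symm hmem
  refine ⟨_, hcomp, fun x => ?_⟩
  simp only [MonoidHom.coe_comp, Function.comp_apply, Subgroup.coe_subtype]
  rw [← hev x]
  have h3 : (MonoidHom.codRestrict (ψ₁.comp (Subgroup.inclusion hle₁))
      (ψ₂.comp (Subgroup.inclusion hle₂)).range hmem) (Subgroup.inclusion le_sup_left x) =
      ε₂ (Subgroup.inclusion le_sup_left (e x)) := by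
    apply Subtype.ext
    rw [hε₂v]
    exact (hkey x).symm
  have h4 : ε₂.symm ((MonoidHom.codRestrict (ψ₁.comp (Subgroup.inclusion hle₁))
      (ψ₂.comp (Subgroup.inclusion hle₂)).range hmem) (Subgroup.inclusion le_sup_left x)) =
      Subgroup.inclusion le_sup_left (e x) := by
    rw [h3, MulEquiv.symm_apply_apply]
  exact congrArg (fun z : ↥(φ.range ⊔ T) => (z : Ω)) h4

/-- a map of the system between subgroups of `C_S(T)` is a map of `C_F(T)` followed by an automorphism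
of `T C_S(T)` of the system -/
theorem cen_exists_factor (hS : IsPGroup p S) (hF : F.IsSaturated p) (hT : F.StronglyClosed T)
    {P : Subgroup Ω} (hPC : P ≤ centralizerIn S T) {φ : P →* Ω} (hφ : φ ∈ F.Hom P)
    (hφC : ∀ x : P, φ x ∈ centralizerIn S T) :
    ∃ a : ↥(T ⊔ centralizerIn S T) ≃* ↥(T ⊔ centralizerIn S T), IsIso F a ∧
      ∃ κ ∈ F.centralizerHom T P, ∀ (x : P) (hx : κ x ∈ T ⊔ centralizerIn S T),
        φ x = ((a ⟨κ x, hx⟩ : ↥(T ⊔ centralizerIn S T)) : Ω) := by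
  obtain ⟨ψ, hψ, hψφ⟩ := cen_exists_ext hS hF hT hPC hφ hφC
  obtain ⟨b, hbF, hb⟩ := exists_resAut_hom hT (le_sup_right : T ≤ P ⊔ T) hψ
  obtain ⟨a, ha, hab⟩ := exists_aut_ext hS hF hT ((mem_autGroup_iff F hT.1 b).mp hbF)
  have hval : ∀ z : ↥(P ⊔ T), ψ z ∈ T ⊔ centralizerIn S T := by
    apply map_sup_mem
    · intro x
      rw [hψφ]
      exact Subgroup.mem_sup_right (hφC x)
    · intro t
      exact Subgroup.mem_sup_left (hom_mem_T hT hψ _ t.2)
  have hκ := F.comp_mem hψ ha.symm hval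
  have happ : ∀ z : ↥(P ⊔ T), (((T ⊔ centralizerIn S T).subtype.comp a.symm.toMonoidHom).comp
      (ψ.codRestrict (T ⊔ centralizerIn S T) hval)) z =
      ((a.symm ⟨ψ z, hval z⟩ : ↥(T ⊔ centralizerIn S T)) : Ω) := fun z => rfl
  refine ⟨a, ha, _, ⟨hom_restrict F le_sup_left hκ, hPC, fun x => ?_, _, hκ, fun x => rfl, fun t => ?_⟩,
    fun x hx => ?_⟩
  · show (((T ⊔ centralizerIn S T).subtype.comp a.symm.toMonoidHom).comp
      (ψ.codRestrict (T ⊔ centralizerIn S T) hval)) (Subgroup.inclusion le_sup_left x) ∈ _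
    rw [happ]
    apply aut_mem_C hT ha.symm
    show ψ (Subgroup.inclusion le_sup_left x) ∈ _
    rw [hψφ]
    exact hφC x
  · rw [happ]
    have h1 : (⟨ψ (Subgroup.inclusion le_sup_right t), hval _⟩ : ↥(T ⊔ centralizerIn S T)) =
        a (Subgroup.inclusion le_sup_left t) := by
      apply Subtype.ext
      rw [hab, hb]
      rfl
    rw [h1, MulEquiv.symm_apply_apply]
    rfl
  · have h2 : (⟨(((T ⊔ centralizerIn S T).subtype.comp a.symm.toMonoidHom).comp
        (ψ.codRestrict (T ⊔ centralizerIn S T) hval)).comp (Subgroup.inclusion le_sup_left) x, hx⟩ :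
        ↥(T ⊔ centralizerIn S T)) = a.symm ⟨ψ (Subgroup.inclusion le_sup_left x), hval _⟩ :=
      Subtype.ext rfl
    rw [h2, MulEquiv.apply_symm_apply]
    exact (hψφ x).symm

omit [Fact p.Prime] in
/-- conjugating a map of `C_F(T)` by a map of the system defined on an overgroup of `T` gives a map of
`C_F(T)` -/
theorem cen_conj_mem (hT : F.StronglyClosed T) {W : Subgroup Ω} (hTW : T ≤ W) {ψ : W →* Ω}
    (hψ : ψ ∈ F.Hom W) {P : Subgroup Ω} (hPW : P ≤ W) {κ : P →* Ω} (hκ : κ ∈ F.centralizerHom T P)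
    (hκW : ∀ x : P, κ x ∈ W) {P' : Subgroup Ω} (hP' : ∀ z, z ∈ P' ↔ ∃ x : P, z = ψ ⟨x, hPW x.2⟩)
    {χ : P' →* Ω}
    (hχ : ∀ (x : P) (hz : ψ ⟨x, hPW x.2⟩ ∈ P'), χ ⟨ψ ⟨x, hPW x.2⟩, hz⟩ = ψ ⟨κ x, hκW x⟩) :
    χ ∈ F.centralizerHom T P' := by
  obtain ⟨hκF, hPC, hκC, κ', hκ', hκ'P, hκ'T⟩ := hκ
  have hr : (ψ.comp (Subgroup.inclusion hPW)).range = P' := by
    ext z
    rw [hP']
    constructor
    · rintro ⟨x, rfl⟩
      exact ⟨x, rfl⟩
    · rintro ⟨x, rfl⟩
      exact ⟨x, rfl⟩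
  obtain ⟨ε, hε, hεv⟩ := exists_isIso_of_hom F (hom_restrict F hPW hψ) hr
  have h1 : χ ∈ F.Hom P' := by
    have hc1 := hε.symm.comp_hom hκF
    have hc2 := F.comp_mem hc1 hψ (fun z => hκW _)
    have heq : χ = ψ.comp ((κ.comp ε.symm.toMonoidHom).codRestrict W (fun z => hκW _)) := by
      ext z
      obtain ⟨x, rfl⟩ := ε.surjective z
      have hz : ψ ⟨x, hPW x.2⟩ ∈ P' := by
        have := (ε x).2
        rw [hεv] at this
        exact this
      have h2 : ε x = ⟨ψ ⟨x, hPW x.2⟩, hz⟩ := Subtype.ext (hεv x)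
      show χ (ε x) = ψ ⟨κ (ε.symm (ε x)), _⟩
      simp only [MulEquiv.symm_apply_apply]
      exact (congrArg χ h2).trans (hχ x hz)
    rw [heq]
    exact hc2
  have hsupW : P ⊔ T ≤ W := sup_le hPW hTW
  have hψ₁ := hom_restrict F hsupW hψ
  obtain ⟨ε₁, hε₁, hε₁v⟩ := exists_isIso_of_hom F hψ₁ rfl
  have hle : P' ⊔ T ≤ (ψ.comp (Subgroup.inclusion hsupW)).range := by
    apply sup_le
    · intro z hz
      obtain ⟨x, rfl⟩ := (hP' z).mp hz
      exact ⟨Subgroup.inclusion le_sup_left x, rfl⟩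
    · intro t ht
      obtain ⟨t', ht'⟩ := exists_preimage_T hT hTW hψ ht
      exact ⟨Subgroup.inclusion le_sup_right t', ht'⟩
  have hκ'W : ∀ z : ↥(P ⊔ T), κ' z ∈ W := by
    apply map_sup_mem
    · intro x
      rw [hκ'P]
      exact hκW x
    · intro t
      rw [hκ'T]
      exact hTW t.2
  have hc1 := hε₁.symm.comp_hom hκ'
  have hc2 := F.comp_mem hc1 hψ (fun z => hκ'W _)
  have hc3 := hom_restrict F hle hc2
  have happ : ∀ r : ↥(P' ⊔ T), ((ψ.comp ((κ'.comp ε₁.symm.toMonoidHom).codRestrict W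
      (fun z => hκ'W _))).comp (Subgroup.inclusion hle)) r =
      ψ ⟨κ' (ε₁.symm (Subgroup.inclusion hle r)), hκ'W _⟩ := fun r => rfl
  have hP'C : P' ≤ centralizerIn S T := by
    intro z hz
    obtain ⟨x, rfl⟩ := (hP' z).mp hz
    exact hom_mem_C hT hTW hψ _ (hPC x.2)
  refine ⟨h1, hP'C, fun z => ?_, _, hc3, fun z => ?_, fun t => ?_⟩
  · obtain ⟨x, hx⟩ := (hP' z).mp z.2
    have hz : ψ ⟨x, hPW x.2⟩ ∈ P' := hx ▸ z.2
    have h2 : z = ⟨ψ ⟨x, hPW x.2⟩, hz⟩ := Subtype.ext hx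
    rw [h2, hχ x hz]
    exact hom_mem_C hT hTW hψ _ (hκC x)
  · obtain ⟨x, hx⟩ := (hP' z).mp z.2
    have hz : ψ ⟨x, hPW x.2⟩ ∈ P' := hx ▸ z.2
    have h2 : z = ⟨ψ ⟨x, hPW x.2⟩, hz⟩ := Subtype.ext hx
    rw [happ, h2, hχ x hz]
    have h3 : Subgroup.inclusion hle (Subgroup.inclusion le_sup_left
        (⟨ψ ⟨x, hPW x.2⟩, hz⟩ : P')) = ε₁ (Subgroup.inclusion le_sup_left x) := by
      apply Subtype.ext
      rw [hε₁v]
      rfl
    have h4 : ε₁.symm (Subgroup.inclusion hle (Subgroup.inclusion le_sup_left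
        (⟨ψ ⟨x, hPW x.2⟩, hz⟩ : P'))) = Subgroup.inclusion le_sup_left x := by
      rw [h3, MulEquiv.symm_apply_apply]
    congr 1
    apply Subtype.ext
    show κ' _ = κ x
    rw [h4, hκ'P]
  · obtain ⟨t', ht'⟩ := exists_preimage_T hT hTW hψ t.2
    rw [happ]
    have h3 : Subgroup.inclusion hle (Subgroup.inclusion le_sup_right t) =
        ε₁ (Subgroup.inclusion le_sup_right t') := by
      apply Subtype.ext
      rw [hε₁v]
      exact ht'.symm
    have h4 : ε₁.symm (Subgroup.inclusion hle (Subgroup.inclusion le_sup_right t)) =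
        Subgroup.inclusion le_sup_right t' := by
      rw [h3, MulEquiv.symm_apply_apply]
    rw [← ht']
    congr 1
    apply Subtype.ext
    show κ' _ = (t' : Ω)
    rw [h4, hκ'T]

end

end Cfsg.Agent.Lib.Helper27.CE
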