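import Mathlib
import Cfsg.Agent.Lib.Helper27.CEL
import Cfsg.Agent.Lib.Helper27.EnvC

set_option autoImplicit false

/-! The invariance condition for a subsystem of `p`-power index of a subsystem `G'` of `F`, given that
the automizers of `G'` are permuted by the automorphisms in `F` of the base. -/

namespace Cfsg.Agent.Lib.Helper27.CE

open Cfsg Cfsg.FusionSystem Cfsg.Agent.Lib.Helper27 Cfsg.Agent.Lib.Helper27.WN Cfsg.Agent.H26
  Cfsg.Agent.Lib.Helper27.Env

variable {Ω : Type*} [Group Ω] {S T : Subgroup Ω}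

theorem invCond_of_pPowerIndex_of_congr [Finite S] {p : ℕ} [Fact p.Prime] (hS : IsPGroup p S)
    {F : FusionSystem S} {U' U : Subgroup Ω} {G' : FusionSystem U'}
    (hU'S : U' ≤ S) {G : FusionSystem U} (hGsat : G.IsSaturated p)
    (hGidx : G.HasPPowerIndexIn G' p)
    (hcongr : ∀ α ∈ F.autGroup U, ∀ (P U₁ : Subgroup Ω) (hPU : P ≤ U) (e : P ≃* U₁),
      (∀ x : P, ((e x : U₁) : Ω) = ((α ⟨x, hPU x.2⟩ : U) : Ω)) →
      ∀ γ ∈ G'.autGroup P, MulAut.congr e γ ∈ G'.autGroup U₁) : InvCond G F := by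
  have hUU' : U ≤ U' := le_of_subsystem hGidx.1
  haveI : Finite U' := Finite.of_injective (Subgroup.inclusion hU'S) (Subgroup.inclusion_injective hU'S)
  have hle : G.IsSubsystemOf (invCore G (F.autGroup U)) := by
    refine le_of_saturated_of_pResidual_le (hS.to_le hU'S) G' G hGsat hGidx.1 le_rfl
      (invCore G (F.autGroup U)) (fun P hPU => ?_)
    intro γ hγ
    refine aut_mem_invCore hPU (hGidx.2.2 P hPU hγ) (fun α hα U₁ e he => ?_)
    have hU₁U : U₁ ≤ U := by
      intro z hz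
      have h1 := he (e.symm ⟨z, hz⟩)
      rw [MulEquiv.apply_symm_apply] at h1
      have h2 : z = ((α ⟨(e.symm ⟨z, hz⟩ : P), hPU (e.symm ⟨z, hz⟩).2⟩ : U) : Ω) := h1
      rw [h2]
      exact (α _).2
    apply hGidx.2.2 U₁ hU₁U
    exact congr_mem_pResidual_of_map
      (fun γ' hγ' => hcongr α hα P U₁ hPU e he γ' hγ') hγ
  intro P hPU φ hφ α hα
  obtain ⟨χ, hχ, h⟩ := invCore_invCond G F P hPU φ (hle P hφ) α hα
  exact ⟨χ, invCore_hom_subset G _ _ hχ, h⟩

end Cfsg.Agent.Lib.Helper27.CE
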