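import Mathlib
import Cfsg.Agent.Lib.Helper27.CEM

set_option autoImplicit false

/-! A subsystem of `p`-power index of `C_F(T)` over a strongly closed subgroup `Y ≤ C_S(T)` of `F` is
invariant in `F`. -/

namespace Cfsg.Agent.Lib.Helper27.CE

open Cfsg Cfsg.FusionSystem Cfsg.Agent.Lib.Helper27 Cfsg.Agent.Lib.Helper27.WN Cfsg.Agent.H26
  Cfsg.Agent.Lib.Helper27.Env

variable {Ω : Type*} [Group Ω] {S T : Subgroup Ω}

section

variable [Finite S] {p : ℕ} [Fact p.Prime] {F : FusionSystem S}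

/-- the automorphisms in `F` of a subgroup `Y ≤ C_S(T)` permute the automizers of `C_F(T)` -/
theorem cen_congr (hS : IsPGroup p S) (hF : F.IsSaturated p) (hT : F.StronglyClosed T)
    {C : FusionSystem (centralizerIn S T)} (hC : F.IsCentralizerSystem T C)
    {Y : Subgroup Ω} (hYC : Y ≤ centralizerIn S T) {α : MulAut Y} (hα : α ∈ F.autGroup Y)
    (P U₁ : Subgroup Ω) (hPU : P ≤ Y) (e : P ≃* U₁)
    (he : ∀ x : P, ((e x : U₁) : Ω) = ((α ⟨x, hPU x.2⟩ : Y) : Ω)) {γ : MulAut P}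
    (hγ : γ ∈ C.autGroup P) : MulAut.congr e γ ∈ C.autGroup U₁ := by
  have hYS : Y ≤ S := hYC.trans (centralizerIn_le_S S T)
  have hαiso := (mem_autGroup_iff F hYS α).mp hα
  obtain ⟨ψ, hψ, hψα⟩ := cen_exists_ext hS hF hT hYC hαiso (fun x => hYC (α x).2)
  have hPC : P ≤ centralizerIn S T := hPU.trans hYC
  have hγiso := (mem_autGroup_iff C hPC γ).mp hγ
  unfold IsIso at hγiso
  rw [hC P] at hγiso
  have hPW : P ≤ Y ⊔ T := hPU.trans le_sup_left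
  have hψe : ∀ x : P, ψ ⟨x, hPW x.2⟩ = ((e x : U₁) : Ω) := by
    intro x
    rw [he]
    exact hψα ⟨x, hPU x.2⟩
  have hU₁C : U₁ ≤ centralizerIn S T := by
    intro z hz
    have h1 := he (e.symm ⟨z, hz⟩)
    rw [MulEquiv.apply_symm_apply] at h1
    have h2 : z = ((α ⟨(e.symm ⟨z, hz⟩ : P), hPU (e.symm ⟨z, hz⟩).2⟩ : Y) : Ω) := h1
    rw [h2]
    exact hYC (α _).2
  rw [mem_autGroup_iff C hU₁C]
  unfold IsIso
  rw [hC U₁]
  refine cen_conj_mem hT (le_sup_right : T ≤ Y ⊔ T) hψ hPW hγiso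
    (fun x => (le_sup_left : Y ≤ Y ⊔ T) (hPU (γ x).2)) (fun z => ?_) (fun x hz => ?_)
  · constructor
    · intro hz
      refine ⟨e.symm ⟨z, hz⟩, ?_⟩
      rw [hψe, MulEquiv.apply_symm_apply]
    · rintro ⟨x, rfl⟩
      rw [hψe]
      exact (e x).2
  · have h1 : (⟨ψ ⟨x, hPW x.2⟩, hz⟩ : U₁) = e x := Subtype.ext (hψe x)
    rw [h1]
    show ((e (γ (e.symm (e x))) : U₁) : Ω) = ψ ⟨((γ x : P) : Ω), _⟩
    rw [MulEquiv.symm_apply_apply]
    exact (hψe (γ x)).symm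

/-- the Frattini condition in `F` for a subsystem invariant in `C_F(T)` over a strongly closed subgroup of
`F` inside `C_S(T)` -/
theorem cen_frat (hS : IsPGroup p S) (hF : F.IsSaturated p) (hT : F.StronglyClosed T)
    {C : FusionSystem (centralizerIn S T)} (hC : F.IsCentralizerSystem T C)
    {Y : Subgroup Ω} (hYC : Y ≤ centralizerIn S T) (hY : F.StronglyClosed Y)
    {D : FusionSystem Y} (hDC : D.IsInvariantIn C) {P : Subgroup Ω} (hPY : P ≤ Y) {φ : P →* Ω}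
    (hφ : φ ∈ F.Hom P) :
    ∃ α ∈ F.autGroup Y, ∃ φ₀ ∈ D.Hom P, ∀ (x : P) (hx : φ₀ x ∈ Y), φ x = ((α ⟨φ₀ x, hx⟩ : Y) : Ω) := by
  have hYS : Y ≤ S := hY.1
  have hCS : centralizerIn S T ≤ S := centralizerIn_le_S S T
  have hDS : T ⊔ centralizerIn S T ≤ S := sup_le hT.1 hCS
  haveI : Finite Y := finite_of_le hYS
  have hφY : ∀ x : P, φ x ∈ Y := fun x => hY.2 P hPY φ hφ x
  obtain ⟨a, ha, κ, hκ, hφκ⟩ := cen_exists_factor hS hF hT (hPY.trans hYC) hφ (fun x => hYC (hφY x))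
  have hκC : ∀ x : P, κ x ∈ centralizerIn S T := hκ.2.2.1
  have hκD : ∀ x : P, κ x ∈ T ⊔ centralizerIn S T := fun x => Subgroup.mem_sup_right (hκC x)
  have hYD : Y ≤ T ⊔ centralizerIn S T := hYC.trans le_sup_right
  have hκY : ∀ x : P, κ x ∈ Y := by
    intro x
    have h1 : (⟨κ x, hκD x⟩ : ↥(T ⊔ centralizerIn S T)) = a.symm ⟨φ x, hYD (hφY x)⟩ := by
      rw [MulEquiv.eq_symm_apply]
      exact Subtype.ext (hφκ x (hκD x)).symm
    have h2 := stronglyClosed_aut_mem hY ha.symm (x := ⟨φ x, hYD (hφY x)⟩) (hφY x)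
    rw [← h1] at h2
    exact h2
  have hκC' : κ ∈ C.Hom P := by rw [hC P]; exact hκ
  obtain ⟨α', hα', φ₀, hφ₀, hκφ₀⟩ := hDC.2.2.2 P hPY κ hκC'
  have haY : ∀ x : ↥(T ⊔ centralizerIn S T), (x : Ω) ∈ Y →
      ((T ⊔ centralizerIn S T).subtype.comp a.toMonoidHom) x ∈ Y :=
    fun x hx => stronglyClosed_aut_mem hY ha hx
  obtain ⟨δ, hδ, hδa⟩ := exists_aut_restrict F hYD ha haY
  have hCF : C.IsSubsystemOf F := fun Q ψ hψ => by
    rw [hC Q] at hψ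
    exact hψ.1
  have hα'F : α' ∈ F.autGroup Y := Cfsg.Agent.H26.autGroup_le_of_subsystem hCF hYC hCS hα'
  have hδF : (δ : MulAut Y) ∈ F.autGroup Y := (mem_autGroup_iff F hYS δ).mpr hδ
  refine ⟨(δ : MulAut Y) * α', Subgroup.mul_mem _ hδF hα'F, φ₀, hφ₀, fun x hx => ?_⟩
  rw [MulAut.mul_apply, hφκ x (hκD x)]
  show _ = ((δ (α' ⟨φ₀ x, hx⟩) : Y) : Ω)
  rw [hδa]
  show ((a ⟨κ x, _⟩ : ↥(T ⊔ centralizerIn S T)) : Ω) = ((a ⟨((α' ⟨φ₀ x, hx⟩ : Y) : Ω), _⟩ :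
    ↥(T ⊔ centralizerIn S T)) : Ω)
  congr 2
  apply Subtype.ext
  exact hκφ₀ x hx

end

end Cfsg.Agent.Lib.Helper27.CE
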