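import Mathlib
import Cfsg.Agent.Lib.Helper27.CEN
import Cfsg.Agent.S5128

set_option autoImplicit false

/-! The extension condition in `F` for the `p'`-automorphisms in `C_F(T)` of a strongly closed subgroup
`Y ≤ C_S(T)` absorbing the twists of the maps trivial on `T`. -/

namespace Cfsg.Agent.Lib.Helper27.CE

open Cfsg Cfsg.FusionSystem Cfsg.Agent.Lib.Helper27 Cfsg.Agent.Lib.Helper27.WN Cfsg.Agent.H26
  Cfsg.Agent.Lib.Helper27.Env

/-- an automorphism of order prime to `p` stabilizing `x N ⊇ x z N`, `z N` with `N` central: `z ∈ N` -/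
theorem mem_of_stab_chain {G : Type*} [Group G] {p : ℕ} (a : MulAut G) (ha : (orderOf a).Coprime p)
    (N : Subgroup G) (hNc : ∀ w ∈ N, ∀ g : G, w * g = g * w) (haN : ∀ w ∈ N, a w ∈ N)
    {x z : G} (h1 : a x = x * z) (h2 : z⁻¹ * a z ∈ N) {k : ℕ} (hz : z ^ p ^ k = 1) : z ∈ N := by
  obtain ⟨u, hu⟩ : ∃ u : G, u = z⁻¹ * a z := ⟨_, rfl⟩
  have huN : u ∈ N := hu ▸ h2
  have haz : a z = z * u := by rw [hu]; group
  have hcomm : Commute z u := (hNc u huN z).symm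
  have hpow : ∀ i : ℕ, ∃ w ∈ N, (a ^ i) x = x * z ^ i * w := by
    intro i
    induction i with
    | zero => exact ⟨1, N.one_mem, by simp⟩
    | succ i ih =>
      obtain ⟨w, hw, h⟩ := ih
      refine ⟨u ^ i * a w, N.mul_mem (N.pow_mem huN i) (haN w hw), ?_⟩
      rw [pow_succ', MulAut.mul_apply, h, map_mul, map_mul, map_pow, h1, haz, hcomm.mul_pow, pow_succ']
      group
  obtain ⟨w, hw, h3⟩ := hpow (orderOf a)
  rw [pow_orderOf_eq_one, MulAut.one_apply] at h3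
  have h4 : z ^ orderOf a = w⁻¹ := by
    have : x * 1 = x * (z ^ orderOf a * w) := by rw [mul_one, ← mul_assoc]; exact h3
    have h5 := mul_left_cancel this
    exact eq_inv_of_mul_eq_one_left h5.symm
  apply Cfsg.Agent.H26.mem_of_pow_mem_of_coprime N (ha.pow_right k)
  · rw [h4]
    exact N.inv_mem hw
  · rw [hz]
    exact N.one_mem

variable {Ω : Type*} [Group Ω] {S T : Subgroup Ω}

section

variable [Finite S] {p : ℕ} [Fact p.Prime] {F : FusionSystem S}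

theorem cen_coprime_mem_extAut (hS : IsPGroup p S) (hF : F.IsSaturated p) (hT : F.StronglyClosed T)
    {C : FusionSystem (centralizerIn S T)} (hC : F.IsCentralizerSystem T C)
    {Y : Subgroup Ω} (hYC : Y ≤ centralizerIn S T) (hY : F.StronglyClosed Y)
    (hkey : ∀ (W : Subgroup Ω) (hTW : T ≤ W) (c : Ω) (hcW : c ∈ W), c ∈ centralizerIn S T →
      ∀ Φ : W →* Ω, Φ ∈ F.Hom W → (∀ t : T, Φ (Subgroup.inclusion hTW t) = t) →
        c⁻¹ * Φ ⟨c, hcW⟩ ∈ Y)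
    {α : MulAut Y} (hα : α ∈ C.autGroup Y) (hcop : (orderOf α).Coprime p) :
    α ∈ extAut F Y hY.1 := by
  have hTS := hT.1
  have hYS := hY.1
  have hαiso := (mem_autGroup_iff C hYC α).mp hα
  unfold IsIso at hαiso
  rw [hC Y] at hαiso
  obtain ⟨hαF, -, -, α', hα', hα'Y, hα'T⟩ := hαiso
  have hV : F.StronglyClosed (Y ⊔ T) := Cfsg.Agent.S5128.result p hS F hF Y T hY hT
  have hVS := hV.1
  haveI : Finite ↥(Y ⊔ T) := finite_of_le hVS
  obtain ⟨a₁, ha₁, ha₁v⟩ := exists_aut_of_hom_self F hα' (fun z => hV.2 _ le_rfl α' hα' z)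
  have hrec := weaklyClosed_isReceptive hF (weaklyClosed_of_stronglyClosed hV)
  obtain ⟨ψ, hψ, hψa⟩ := receptive_exists_extension hrec ha₁
  have hTn := le_normalizer_of_stronglyClosed hT
  have hTCY : T ≤ centralizerIn S Y := by
    intro t ht
    rw [mem_centralizerIn_iff]
    exact ⟨hTS ht, fun y hy => ((mem_centralizerIn_iff.mp (hYC hy)).2 t ht).symm⟩
  have ha₁Y : ∀ y : Y, ((a₁ (Subgroup.inclusion le_sup_left y) : ↥(Y ⊔ T)) : Ω) = ((α y : Y) : Ω) := by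
    intro y
    rw [ha₁v, hα'Y]
    rfl
  have ha₁T : ∀ t : T, ((a₁ (Subgroup.inclusion le_sup_right t) : ↥(Y ⊔ T)) : Ω) = (t : Ω) := by
    intro t
    rw [ha₁v, hα'T]
  have hCYext : centralizerIn S Y ≤ extender S (Y ⊔ T) ((Y ⊔ T).subtype.comp a₁.toMonoidHom) := by
    intro c hc
    rw [mem_extender_iff]
    have hcS := hc.1
    have hcN : c ∈ Subgroup.normalizer ((Y ⊔ T : Subgroup Ω) : Set Ω) :=
      le_normalizer_of_stronglyClosed hV hcS
    have hcY : ∀ y ∈ Y, c * y * c⁻¹ = y := by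
      intro y hy
      have := (mem_centralizerIn_iff.mp hc).2 y hy
      rw [← this]
      group
    have hcT : ∀ t ∈ T, c * t * c⁻¹ ∈ T := fun t ht =>
      (Subgroup.mem_normalizer_iff.mp (hTn hcS) t).mp ht
    refine ⟨hcS, hcN, c, hcS, ?_⟩
    have hcV : ∀ x : ↥(Y ⊔ T), ((MulAut.conj c).toMonoidHom.comp (Y ⊔ T).subtype) x ∈ Y ⊔ T :=
      fun x => (Subgroup.mem_normalizer_iff.mp hcN x).mp x.2
    have hfg := hom_eq_of_eqOn_sup
      (((Y ⊔ T).subtype.comp a₁.toMonoidHom).comp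
        (((MulAut.conj c).toMonoidHom.comp (Y ⊔ T).subtype).codRestrict (Y ⊔ T) hcV))
      ((MulAut.conj c).toMonoidHom.comp ((Y ⊔ T).subtype.comp a₁.toMonoidHom)) ?_ ?_
    · intro x hx
      exact hfg x
    · intro y
      have h1 : (((MulAut.conj c).toMonoidHom.comp (Y ⊔ T).subtype).codRestrict (Y ⊔ T) hcV)
          (Subgroup.inclusion le_sup_left y) = Subgroup.inclusion le_sup_left y := by
        apply Subtype.ext
        exact hcY y y.2
      show ((a₁ _ : ↥(Y ⊔ T)) : Ω) = c * ((a₁ _ : ↥(Y ⊔ T)) : Ω) * c⁻¹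
      rw [h1, ha₁Y, hcY _ (α y).2]
    · intro t
      have h1 : (((MulAut.conj c).toMonoidHom.comp (Y ⊔ T).subtype).codRestrict (Y ⊔ T) hcV)
          (Subgroup.inclusion le_sup_right t) =
          Subgroup.inclusion le_sup_right (⟨c * t * c⁻¹, hcT t t.2⟩ : T) := by
        apply Subtype.ext
        rfl
      show ((a₁ _ : ↥(Y ⊔ T)) : Ω) = c * ((a₁ _ : ↥(Y ⊔ T)) : Ω) * c⁻¹
      rw [h1, ha₁T, ha₁T]
  have hD : Y ⊔ centralizerIn S Y ≤ extender S (Y ⊔ T) ((Y ⊔ T).subtype.comp a₁.toMonoidHom) :=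
    sup_le ((le_sup_left : Y ≤ Y ⊔ T).trans (le_extender_of_isIso ha₁)) hCYext
  have hDS : Y ⊔ centralizerIn S Y ≤ S := sup_le hYS (centralizerIn_le_S S Y)
  haveI : Finite ↥(Y ⊔ centralizerIn S Y) := finite_of_le hDS
  have hψD := hom_restrict F hD hψ
  have hψY : ∀ y : Y, (ψ.comp (Subgroup.inclusion hD)) (Subgroup.inclusion le_sup_left y) =
      ((α y : Y) : Ω) := by
    intro y
    have h1 := hψa y (Subgroup.mem_sup_left y.2) (hD (Subgroup.mem_sup_left y.2))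
    have h2 := ha₁Y y
    show ψ ⟨(y : Ω), _⟩ = _
    rw [h1]
    exact h2
  have hψT : ∀ t : T, (ψ.comp (Subgroup.inclusion hD)) ⟨t, Subgroup.mem_sup_right (hTCY t.2)⟩ =
      (t : Ω) := by
    intro t
    have h1 := hψa t (Subgroup.mem_sup_right t.2) (hD (Subgroup.mem_sup_right (hTCY t.2)))
    have h2 := ha₁T t
    show ψ ⟨(t : Ω), _⟩ = _
    rw [h1]
    exact h2
  have hval : ∀ z : ↥(Y ⊔ centralizerIn S Y), (ψ.comp (Subgroup.inclusion hD)) z ∈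
      Y ⊔ centralizerIn S Y := by
    apply map_sup_mem
    · intro y
      rw [hψY]
      exact Subgroup.mem_sup_left (α y).2
    · intro c
      apply Subgroup.mem_sup_right
      rw [mem_centralizerIn_iff]
      refine ⟨(F.le_of_mem hψD).2 _, fun y hy => ?_⟩
      have h1 : (ψ.comp (Subgroup.inclusion hD)) (Subgroup.inclusion le_sup_left (α⁻¹ ⟨y, hy⟩)) = y := by
        rw [hψY, MulAut.apply_inv_self]
      rw [← h1, ← map_mul, ← map_mul]
      congr 1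
      apply Subtype.ext
      exact (mem_centralizerIn_iff.mp c.2).2 _ (α⁻¹ ⟨y, hy⟩ : Y).2
  obtain ⟨Ψ, hΨ, hΨv⟩ : ∃ Ψ : MulAut ↥(Y ⊔ centralizerIn S Y),
      IsIso F (Ψ : ↥(Y ⊔ centralizerIn S Y) ≃* ↥(Y ⊔ centralizerIn S Y)) ∧
      ∀ z, ((Ψ z : ↥(Y ⊔ centralizerIn S Y)) : Ω) = (ψ.comp (Subgroup.inclusion hD)) z :=
    exists_aut_of_hom_self F hψD hval
  have hΨF : Ψ ∈ F.autGroup (Y ⊔ centralizerIn S Y) := (mem_autGroup_iff F hDS Ψ).mpr hΨ
  haveI : Finite (MulAut ↥(Y ⊔ centralizerIn S Y)) := inferInstance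
  obtain ⟨k, hk1, hk2⟩ := exists_pow_coprime p
    (⟨Ψ, hΨF⟩ : F.autGroup (Y ⊔ centralizerIn S Y)) α hcop
  have hΨY : ∀ y : Y, ((Ψ (Subgroup.inclusion le_sup_left y) : ↥(Y ⊔ centralizerIn S Y)) : Ω) =
      ((α y : Y) : Ω) := fun y => by rw [hΨv, hψY]
  have hβY : ∀ y : Y, (((Ψ ^ k) (Subgroup.inclusion le_sup_left y) : ↥(Y ⊔ centralizerIn S Y)) : Ω) =
      ((α y : Y) : Ω) := fun y => by rw [pow_restrict le_sup_left hΨY, hk1]
  have hΨT : ∀ t : T, Ψ ⟨t, Subgroup.mem_sup_right (hTCY t.2)⟩ =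
      ⟨t, Subgroup.mem_sup_right (hTCY t.2)⟩ := by
    intro t
    apply Subtype.ext
    rw [hΨv, hψT]
  have hβT : ∀ t : T, (Ψ ^ k) ⟨t, Subgroup.mem_sup_right (hTCY t.2)⟩ =
      ⟨t, Subgroup.mem_sup_right (hTCY t.2)⟩ := fun t => pow_apply_of_fixed Ψ (hΨT t) k
  have hβF : Ψ ^ k ∈ F.autGroup (Y ⊔ centralizerIn S Y) := Subgroup.pow_mem _ hΨF k
  have hβord : (orderOf (Ψ ^ k)).Coprime p := by
    have h1 : ((⟨Ψ, hΨF⟩ : F.autGroup (Y ⊔ centralizerIn S Y)) ^ k : F.autGroup _) =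
        ⟨Ψ ^ k, hβF⟩ := Subtype.ext rfl
    rw [h1] at hk2
    rw [← Subgroup.orderOf_coe] at hk2
    exact hk2
  refine ⟨Ψ ^ k, hβF, hβY, fun c hc => ?_⟩
  -- the twist
  obtain ⟨z, hz⟩ : ∃ z : ↥(Y ⊔ centralizerIn S Y), z = c⁻¹ * (Ψ ^ k) c := ⟨_, rfl⟩
  have hzval : (z : Ω) = (c : Ω)⁻¹ * (((Ψ ^ k) c : ↥(Y ⊔ centralizerIn S Y)) : Ω) := by
    rw [hz]; rfl
  have hβc : (Ψ ^ k) c = c * z := by rw [hz]; group
  have hβC : ∀ d : ↥(Y ⊔ centralizerIn S Y), (d : Ω) ∈ centralizerIn S Y →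
      (((Ψ ^ k) d : ↥(Y ⊔ centralizerIn S Y)) : Ω) ∈ centralizerIn S Y :=
    fun d hd => ext_maps_centralizer hYS hβY d hd
  have hzCY : (z : Ω) ∈ centralizerIn S Y := by
    rw [hzval]
    exact Subgroup.mul_mem _ (Subgroup.inv_mem _ hc) (hβC c hc)
  have hzCT : (z : Ω) ∈ centralizerIn S T := by
    rw [mem_centralizerIn_iff]
    refine ⟨hzCY.1, fun t ht => ?_⟩
    have hct : (c : Ω) * t * (c : Ω)⁻¹ ∈ T :=
      (Subgroup.mem_normalizer_iff.mp (hTn hc.1) t).mp ht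
    have h1 := hβT ⟨_, hct⟩
    have h2 : (⟨(c : Ω) * t * (c : Ω)⁻¹, Subgroup.mem_sup_right (hTCY hct)⟩ : ↥(Y ⊔ centralizerIn S Y)) =
        c * ⟨t, Subgroup.mem_sup_right (hTCY ht)⟩ * c⁻¹ := Subtype.ext rfl
    have h3 := hβT ⟨t, ht⟩
    have h4 : (Ψ ^ k) c * ⟨t, Subgroup.mem_sup_right (hTCY ht)⟩ * ((Ψ ^ k) c)⁻¹ =
        c * ⟨t, Subgroup.mem_sup_right (hTCY ht)⟩ * c⁻¹ := by
      have := h1
      simp only [] at this
      rw [h2, map_mul, map_mul, map_inv, h3] at this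
      exact this
    have h5 := congrArg (fun w : ↥(Y ⊔ centralizerIn S Y) => (w : Ω)) h4
    simp only [Subgroup.coe_mul, Subgroup.coe_inv] at h5
    rw [hzval]
    -- from β(c) t β(c)⁻¹ = c t c⁻¹
    have h6 : (((Ψ ^ k) c : ↥(Y ⊔ centralizerIn S Y)) : Ω) * t =
        (c : Ω) * t * (c : Ω)⁻¹ * (((Ψ ^ k) c : ↥(Y ⊔ centralizerIn S Y)) : Ω) := by
      rw [← h5]; group
    calc t * ((c : Ω)⁻¹ * (((Ψ ^ k) c : ↥(Y ⊔ centralizerIn S Y)) : Ω))
        = (c : Ω)⁻¹ * ((c : Ω) * t * (c : Ω)⁻¹ * (((Ψ ^ k) c : ↥(Y ⊔ centralizerIn S Y)) : Ω)) := by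
          group
      _ = (c : Ω)⁻¹ * (((Ψ ^ k) c : ↥(Y ⊔ centralizerIn S Y)) : Ω) * t := by rw [← h6]; group
  have hβiso := (mem_autGroup_iff F hDS (Ψ ^ k)).mp hβF
  have hTD : T ≤ Y ⊔ centralizerIn S Y := hTCY.trans le_sup_right
  have h7 := hkey (Y ⊔ centralizerIn S Y) hTD (z : Ω) z.2 hzCT _ hβiso
    (fun t => congrArg (fun w : ↥(Y ⊔ centralizerIn S Y) => (w : Ω)) (hβT t))
  -- the central subgroup
  have hN : ∀ w : ↥(Y ⊔ centralizerIn S Y),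
      w ∈ (Y ⊓ Subgroup.centralizer (Y : Set Ω)).subgroupOf (Y ⊔ centralizerIn S Y) →
      ∀ g : ↥(Y ⊔ centralizerIn S Y), w * g = g * w := by
    intro w hw g
    rw [Subgroup.mem_subgroupOf] at hw
    have hle : Y ⊔ centralizerIn S Y ≤ Subgroup.centralizer {(w : Ω)} := by
      apply sup_le
      · intro y hy
        rw [Subgroup.mem_centralizer_iff]
        rintro _ rfl
        exact ((Subgroup.mem_centralizer_iff.mp hw.2) y hy).symm
      · intro d hd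
        rw [Subgroup.mem_centralizer_iff]
        rintro _ rfl
        exact (mem_centralizerIn_iff.mp hd).2 _ hw.1
    apply Subtype.ext
    exact (Subgroup.mem_centralizer_iff.mp (hle g.2)) _ rfl
  have hNβ : ∀ w : ↥(Y ⊔ centralizerIn S Y),
      w ∈ (Y ⊓ Subgroup.centralizer (Y : Set Ω)).subgroupOf (Y ⊔ centralizerIn S Y) →
      (Ψ ^ k) w ∈ (Y ⊓ Subgroup.centralizer (Y : Set Ω)).subgroupOf (Y ⊔ centralizerIn S Y) := by
    intro w hw
    rw [Subgroup.mem_subgroupOf] at hw ⊢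
    have hwCY : (w : Ω) ∈ centralizerIn S Y := ⟨hYS hw.1, hw.2⟩
    refine ⟨?_, (hβC w hwCY).2⟩
    have h1 : w = Subgroup.inclusion le_sup_left (⟨w, hw.1⟩ : Y) := Subtype.ext rfl
    rw [h1, hβY]
    exact (α _).2
  have hzN : z⁻¹ * (Ψ ^ k) z ∈
      (Y ⊓ Subgroup.centralizer (Y : Set Ω)).subgroupOf (Y ⊔ centralizerIn S Y) := by
    rw [Subgroup.mem_subgroupOf]
    refine ⟨h7, ?_⟩
    have := Subgroup.mul_mem _ (Subgroup.inv_mem _ hzCY) (hβC z hzCY)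
    exact this.2
  obtain ⟨j, hj⟩ := (hS.to_le hDS) z
  have hfin := mem_of_stab_chain (Ψ ^ k) hβord _ hN hNβ hβc hzN hj
  rw [Subgroup.mem_subgroupOf, hzval] at hfin
  exact hfin

end

end Cfsg.Agent.Lib.Helper27.CE
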