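import Mathlib

set_option autoImplicit false

/-! Averaging: fixed points of a group are a direct factor of the fixed points of a subgroup of index
prime to `p`, on a finite abelian `p`-group. -/

namespace Cfsg.Agent.Lib.Helper27.FixAvg

open Finset

theorem exists_complement_fixedPoints {V : Type*} [Group V] [Finite V] (hcomm : ∀ a b : V, a * b = b * a)
    {p : ℕ} [Fact p.Prime] (hV : IsPGroup p V) {G : Type*} [Group G] [Finite G] (ρ : G →* MulAut V)
    (T : Subgroup G) (hidx : ¬ p ∣ T.index) :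
    ∃ K : Subgroup V, (∀ k ∈ K, ∀ t ∈ T, ρ t k = k) ∧ (∀ k ∈ K, (∀ g : G, ρ g k = k) → k = 1) ∧
      (∀ x : V, (∀ t ∈ T, ρ t x = x) → ∃ b k : V, (∀ g : G, ρ g b = b) ∧ k ∈ K ∧ x = b * k) := by
  classical
  have hp : p.Prime := Fact.out
  letI : CommGroup V := { (inferInstance : Group V) with mul_comm := hcomm }
  haveI : Fintype (G ⧸ T) := Fintype.ofFinite _
  let tr : V →* V :=
    { toFun := fun v => ∏ q : G ⧸ T, ρ (q.out) v
      map_one' := by simp
      map_mul' := by
        intro a b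
        simp only [map_mul]
        exact Finset.prod_mul_distrib }
  have htr : ∀ v, tr v = ∏ q : G ⧸ T, ρ (q.out) v := fun v => rfl
  -- invariance
  have hinv : ∀ v : V, (∀ t ∈ T, ρ t v = v) → ∀ g : G, ρ g (tr v) = tr v := by
    intro v hv g
    rw [htr, map_prod]
    have h1 : ∀ q : G ⧸ T, ρ g (ρ (q.out) v) = ρ ((g • q).out) v := by
      intro q
      have hq : g • q = QuotientGroup.mk (g * q.out) := by
        conv_lhs => rw [← QuotientGroup.out_eq' q]
        rfl
      obtain ⟨t, ht⟩ := QuotientGroup.mk_out_eq_mul T (g * q.out)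
      rw [hq, ht, map_mul, map_mul, MulAut.mul_apply, MulAut.mul_apply, hv t t.2]
    simp only [h1]
    exact Fintype.prod_equiv (MulAction.toPerm g) _ _ (fun q => rfl)
  -- on fixed points of G, tr is the m-th power
  have hpow : ∀ v : V, (∀ g : G, ρ g v = v) → tr v = v ^ T.index := by
    intro v hv
    rw [htr]
    simp only [hv]
    rw [Finset.prod_const, Finset.card_univ, Subgroup.index, Nat.card_eq_fintype_card]
  -- inverse exponent
  obtain ⟨k, hk⟩ := hV.exists_card_eq
  have hcop : Nat.Coprime T.index (Nat.card V) := by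
    rw [hk]
    exact Nat.Coprime.pow_right _ ((Nat.Prime.coprime_iff_not_dvd hp).mpr hidx).symm
  obtain ⟨m', hm'⟩ : ∃ m' : ℕ, ∀ v : V, (v ^ T.index) ^ m' = v := by
    have hcpos : Nat.card V ≠ 0 := Nat.card_pos.ne'
    obtain ⟨m', -, hm'⟩ := Nat.exists_mul_mod_eq_of_coprime 1 hcop hcpos
    refine ⟨m', fun v => ?_⟩
    rw [← pow_mul, ← pow_mod_natCard, hm', pow_mod_natCard, pow_one]
  let K : Subgroup V :=
    { carrier := {x | (∀ t ∈ T, ρ t x = x) ∧ tr x = 1}
      one_mem' := ⟨fun t _ => map_one _, map_one _⟩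
      mul_mem' := by
        rintro a b ⟨ha, ha'⟩ ⟨hb, hb'⟩
        refine ⟨fun t ht => ?_, ?_⟩
        · rw [map_mul, ha t ht, hb t ht]
        · rw [map_mul, ha', hb', one_mul]
      inv_mem' := by
        rintro a ⟨ha, ha'⟩
        refine ⟨fun t ht => ?_, ?_⟩
        · rw [map_inv, ha t ht]
        · rw [map_inv, ha', inv_one] }
  refine ⟨K, fun k hk t ht => hk.1 t ht, fun k hk hg => ?_, fun x hx => ?_⟩
  · have h1 := hpow k hg
    rw [hk.2] at h1
    have h2 := hm' k
    rw [← h1, one_pow] at h2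
    exact h2.symm
  · set b : V := (tr x) ^ m' with hb
    have hbfix : ∀ g : G, ρ g b = b := by
      intro g
      rw [hb, map_pow, hinv x hx g]
    refine ⟨b, x * b⁻¹, hbfix, ⟨fun t ht => ?_, ?_⟩, ?_⟩
    · rw [map_mul, map_inv, hx t ht, hbfix t]
    · rw [map_mul, map_inv, hpow b hbfix, hb, ← pow_mul, mul_comm m' T.index, pow_mul, hm']
      exact mul_inv_cancel _
    · rw [mul_comm x, mul_inv_cancel_left]

end Cfsg.Agent.Lib.Helper27.FixAvg
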