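import Mathlib

set_option autoImplicit false

/-! Upper central series of a `p`-group of maximal class: `|Z_i| = p ^ i`. -/

namespace Cfsg.Agent.Lib.Helper27.MC

open commutatorElement



variable {G : Type*} [Group G]

/-- If `Z_{m+1}` has prime index then it is everything. -/
theorem upperCentralSeries_succ_index_ne_prime {p : ℕ} [Fact p.Prime] (m : ℕ)
    (h : (Subgroup.upperCentralSeries G (m + 1)).index = p) : False := by
  have hp : p.Prime := Fact.out
  set Z0 := Subgroup.upperCentralSeries G m with hZ0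
  set Z1 := Subgroup.upperCentralSeries G (m + 1) with hZ1
  have hle : Z0 ≤ Z1 := Subgroup.upperCentralSeries_mono G (Nat.le_succ m)
  let f : G ⧸ Z0 →* G ⧸ Z1 := QuotientGroup.map Z0 Z1 (MonoidHom.id G) (by
    intro x hx; exact hle hx)
  have hcard : Nat.card (G ⧸ Z1) = p := by
    rw [← Subgroup.index_eq_card]; exact h
  haveI : IsCyclic (G ⧸ Z1) := isCyclic_of_prime_card hcard
  have hker : f.ker ≤ Subgroup.center (G ⧸ Z0) := by
    intro x hx
    induction x using QuotientGroup.induction_on with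
    | H x =>
      rw [MonoidHom.mem_ker] at hx
      have hx1 : x ∈ Z1 := by
        have : ((x : G) : G ⧸ Z1) = 1 := hx
        exact (QuotientGroup.eq_one_iff x).mp this
      rw [Subgroup.mem_center_iff]
      intro y
      induction y using QuotientGroup.induction_on with
      | H y =>
        have hc : ⁅x, y⁆ ∈ Z0 := (Subgroup.mem_upperCentralSeries_succ_iff.mp hx1) y
        rw [← QuotientGroup.mk_mul, ← QuotientGroup.mk_mul, eq_comm, QuotientGroup.eq]
        have : (x * y)⁻¹ * (y * x) = ⁅y⁻¹, x⁻¹⁆ := by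
          rw [commutatorElement_def]; group
        rw [this]
        -- y⁻¹ x⁻¹ y x ∈ Z0
        have h2 : ⁅x, y⁆⁻¹ ∈ Z0 := Z0.inv_mem hc
        have h3 : ⁅y⁻¹, x⁻¹⁆ = (y⁻¹ * x⁻¹) * ⁅x, y⁆⁻¹ * (y⁻¹ * x⁻¹)⁻¹ := by
          rw [commutatorElement_def, commutatorElement_def]; group
        rw [h3]
        exact (inferInstance : Z0.Normal).conj_mem _ h2 _
  have hcomm : ∀ a b : G ⧸ Z0, a * b = b * a := fun a b =>
    (f.isMulCommutative_of_isCyclic_of_ker_le_center hker).is_comm.comm a b
  have htop : Z1 = ⊤ := by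
    rw [eq_top_iff]
    intro x _
    rw [hZ1, Subgroup.mem_upperCentralSeries_succ_iff]
    intro y
    have := hcomm (x : G ⧸ Z0) (y : G ⧸ Z0)
    rw [← QuotientGroup.mk_mul, ← QuotientGroup.mk_mul, QuotientGroup.eq] at this
    have h3 : ⁅x, y⁆ = (x * y) * ((x * y)⁻¹ * (y * x))⁻¹ * (x * y)⁻¹ := by
      rw [commutatorElement_def]; group
    rw [h3]
    exact (inferInstance : Z0.Normal).conj_mem _ (Z0.inv_mem this) _
  rw [htop, Subgroup.index_top] at h
  exact hp.one_lt.ne h


theorem pow_dvd_succ_of_lt {p : ℕ} (hp : p.Prime) {i A B : ℕ} (hA : p ^ i ∣ A) (hAB : A ∣ B) (hne : A ≠ B)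
    {n : ℕ} (hB : B ∣ p ^ n) : p ^ (i + 1) ∣ B := by
  obtain ⟨b, hb, rfl⟩ := (Nat.dvd_prime_pow hp).mp hB
  obtain ⟨a, ha, rfl⟩ := (Nat.dvd_prime_pow hp).mp (hAB.trans hB)
  have h1 : i ≤ a := (Nat.pow_dvd_pow_iff_le_right hp.one_lt).mp hA
  have h2 : a ≤ b := (Nat.pow_dvd_pow_iff_le_right hp.one_lt).mp hAB
  have h3 : a ≠ b := fun h => hne (by rw [h])
  exact pow_dvd_pow p (by omega)

/-- In a group of order `p ^ n` whose `(n-2)`-th upper central term is proper (maximal class),
`|Z_i| = p ^ i` for `i ≤ n - 2`. -/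
theorem card_upperCentralSeries [Finite G] {p : ℕ} [Fact p.Prime] {n : ℕ} (hn : Nat.card G = p ^ n)
    (h2 : 2 ≤ n) (hmax : Subgroup.upperCentralSeries G (n - 2) ≠ ⊤) :
    ∀ i, i ≤ n - 2 → Nat.card (Subgroup.upperCentralSeries G i) = p ^ i := by
  have hp : p.Prime := Fact.out
  have hG : IsPGroup p G := IsPGroup.of_card hn
  haveI : Group.IsNilpotent G := hG.isNilpotent
  have hnt : ∀ i, i ≤ n - 2 → Subgroup.upperCentralSeries G i ≠ ⊤ := by
    intro i hi htop
    apply hmax
    rw [eq_top_iff, ← htop]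
    exact Subgroup.upperCentralSeries_mono G hi
  have hlt : ∀ i, i ≤ n - 2 → Subgroup.upperCentralSeries G i < Subgroup.upperCentralSeries G (i + 1) := by
    intro i hi
    refine lt_of_le_of_ne (Subgroup.upperCentralSeries_mono G (Nat.le_succ i)) ?_
    intro heq
    exact hnt i hi (Subgroup.upperCentralSeries.eq_top (Nat.succ_ne_self i).symm heq)
  have hcd : ∀ H : Subgroup G, Nat.card H ∣ p ^ n := fun H => hn ▸ Subgroup.card_subgroup_dvd_card H
  have hid : ∀ H : Subgroup G, H.index ∣ p ^ n := fun H => hn ▸ Subgroup.index_dvd_card H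
  -- lower bound
  have hA : ∀ i, i ≤ n - 1 → p ^ i ∣ Nat.card (Subgroup.upperCentralSeries G i) := by
    intro i
    induction i with
    | zero => intro _; simp
    | succ i ih =>
      intro hi
      have hi' : i ≤ n - 2 := by omega
      have h1 := ih (by omega)
      have hl := hlt i hi'
      refine pow_dvd_succ_of_lt hp h1 (Subgroup.card_dvd_of_le hl.le) ?_ (hcd _)
      intro hc
      exact hl.ne (Subgroup.eq_of_le_of_card_ge hl.le hc.ge)
  -- upper bound
  have hB : ∀ k, k ≤ n - 2 → p ^ (k + 2) ∣ (Subgroup.upperCentralSeries G (n - 2 - k)).index := by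
    intro k
    induction k with
    | zero =>
      intro _
      obtain ⟨c, hc, hc'⟩ := (Nat.dvd_prime_pow hp).mp (hid (Subgroup.upperCentralSeries G (n - 2)))
      have hc0 : c ≠ 0 := by
        rintro rfl
        rw [pow_zero, Subgroup.index_eq_one] at hc'
        exact hmax hc'
      have hc1 : c ≠ 1 := by
        rintro rfl
        rw [pow_one] at hc'
        rcases Nat.eq_zero_or_pos (n - 2) with h0 | h0
        · rw [h0, Subgroup.upperCentralSeries_zero, Subgroup.index_bot, hn] at hc'
          have : p ^ n = p ^ 1 := by rw [pow_one]; exact hc'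
          have := Nat.pow_right_injective hp.two_le this
          omega
        · obtain ⟨m, hm⟩ : ∃ m, n - 2 = m + 1 := ⟨n - 2 - 1, by omega⟩
          rw [hm] at hc'
          exact upperCentralSeries_succ_index_ne_prime m hc'
      rw [Nat.sub_zero, hc']
      exact pow_dvd_pow p (by omega)
    | succ k ih =>
      intro hk
      have h1 := ih (by omega)
      have hj : n - 2 - k = (n - 2 - (k + 1)) + 1 := by omega
      have hl := hlt (n - 2 - (k + 1)) (by omega)
      rw [← hj] at hl
      rw [← Subgroup.relIndex_mul_index hl.le]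
      have hr : p ∣ (Subgroup.upperCentralSeries G (n - 2 - (k + 1))).relIndex
          (Subgroup.upperCentralSeries G (n - 2 - k)) := by
        have hd : (Subgroup.upperCentralSeries G (n - 2 - (k + 1))).relIndex
          (Subgroup.upperCentralSeries G (n - 2 - k)) ∣ p ^ n :=
          (Subgroup.relIndex_dvd_index_of_le hl.le).trans (hid _)
        obtain ⟨c, hc, hc'⟩ := (Nat.dvd_prime_pow hp).mp hd
        have hc0 : c ≠ 0 := by
          rintro rfl
          rw [pow_zero, Subgroup.relIndex_eq_one] at hc'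
          exact absurd hc' (not_le_of_gt hl)
        rw [hc']
        exact dvd_pow_self p hc0
      have : p ^ (k + 1 + 2) = p * p ^ (k + 2) := by rw [pow_succ]; ring
      rw [this]
      exact mul_dvd_mul hr h1
  intro i hi
  have h1 := hA i (by omega)
  have h2' := hB (n - 2 - i) (by omega)
  have hi2 : n - 2 - (n - 2 - i) = i := by omega
  rw [hi2] at h2'
  have hmul := Subgroup.card_mul_index (Subgroup.upperCentralSeries G i)
  rw [hn] at hmul
  obtain ⟨a, ha, ha'⟩ := (Nat.dvd_prime_pow hp).mp (hcd (Subgroup.upperCentralSeries G i))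
  obtain ⟨b, hb, hb'⟩ := (Nat.dvd_prime_pow hp).mp (hid (Subgroup.upperCentralSeries G i))
  rw [ha', hb', ← pow_add] at hmul
  have hab : a + b = n := Nat.pow_right_injective hp.two_le hmul
  rw [ha'] at h1
  rw [hb'] at h2'
  have h3 : i ≤ a := (Nat.pow_dvd_pow_iff_le_right hp.one_lt).mp h1
  have h4 : n - 2 - i + 2 ≤ b := (Nat.pow_dvd_pow_iff_le_right hp.one_lt).mp h2'
  have : a = i := by omega
  rw [ha', this]

end Cfsg.Agent.Lib.Helper27.MC
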