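import Mathlib
import Cfsg.Agent.Lib.Helper27.MaxClassA

set_option autoImplicit false

/-! Centralizer of the second centre in a `p`-group with `|Z| = p`, `|Z_2| = p ^ 2`. -/

namespace Cfsg.Agent.Lib.Helper27.MC

open commutatorElement

variable {Ω : Type*} [Group Ω]

/-- Abstract data: `Z1 = Z(S)`, `Z2 = Z_2(S)` as subgroups of the ambient group. -/
structure SecondCentre (p : ℕ) (S Z1 Z2 : Subgroup Ω) : Prop where
  mem1 : ∀ x, x ∈ Z1 ↔ x ∈ S ∧ ∀ s ∈ S, s * x = x * s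
  mem2 : ∀ x, x ∈ Z2 ↔ x ∈ S ∧ ∀ s ∈ S, x * s * x⁻¹ * s⁻¹ ∈ Z1
  card1 : Nat.card Z1 = p
  card2 : Nat.card Z2 = p ^ 2

namespace SecondCentre

variable {p : ℕ} {S Z1 Z2 : Subgroup Ω}

theorem z1_le_S (h : SecondCentre p S Z1 Z2) : Z1 ≤ S := fun x hx => ((h.mem1 x).mp hx).1

theorem z2_le_S (h : SecondCentre p S Z1 Z2) : Z2 ≤ S := fun x hx => ((h.mem2 x).mp hx).1

theorem z1_le_z2 (h : SecondCentre p S Z1 Z2) : Z1 ≤ Z2 := by
  intro x hx
  obtain ⟨hxS, hc⟩ := (h.mem1 x).mp hx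
  refine (h.mem2 x).mpr ⟨hxS, fun s hs => ?_⟩
  have : x * s * x⁻¹ * s⁻¹ = 1 := by
    rw [← hc s hs]; group
  rw [this]; exact Z1.one_mem

theorem z2_conj_mem (h : SecondCentre p S Z1 Z2) {g x : Ω} (hg : g ∈ S) (hx : x ∈ Z2) :
    g * x * g⁻¹ ∈ Z2 := by
  obtain ⟨hxS, hc⟩ := (h.mem2 x).mp hx
  have hv := hc g hg
  have h7 : g * x * g⁻¹ = (x * g * x⁻¹ * g⁻¹)⁻¹ * x := by group
  rw [h7]
  exact Z2.mul_mem (h.z1_le_z2 (Z1.inv_mem hv)) hx

theorem exists_z (h : SecondCentre p S Z1 Z2) [Fact p.Prime] [Finite S] : ∃ z ∈ Z2, z ∉ Z1 := by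
  have hp : p.Prime := Fact.out
  by_contra hcon
  push Not at hcon
  have hle : Z2 ≤ Z1 := hcon
  haveI : Finite Z1 := Finite.of_injective (Subgroup.inclusion h.z1_le_S) (Subgroup.inclusion_injective _)
  have := Subgroup.card_le_of_le hle
  rw [h.card1, h.card2] at this
  have h2 : p * 2 ≤ p * p := Nat.mul_le_mul_left p hp.two_le
  nlinarith [hp.two_le]

theorem z1_comm (h : SecondCentre p S Z1 Z2) {u s : Ω} (hu : u ∈ Z1) (hs : s ∈ S) : s * u = u * s :=
  ((h.mem1 u).mp hu).2 s hs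

/-- an element of `S` commuting with `z ∈ Z2 \ Z1` centralizes `Z2`. -/
theorem centralizes_of_comm (h : SecondCentre p S Z1 Z2) [Fact p.Prime] [Finite S] {z : Ω} (hz : z ∈ Z2)
    (hz1 : z ∉ Z1) {g : Ω} (hg : g ∈ S) (hgz : g * z = z * g) :
    g ∈ Subgroup.centralizer (Z2 : Set Ω) := by
  have hp : p.Prime := Fact.out
  haveI : Finite Z2 := Finite.of_injective (Subgroup.inclusion h.z2_le_S) (Subgroup.inclusion_injective _)
  set H : Subgroup Ω := Z2 ⊓ Subgroup.centralizer ({g} : Set Ω) with hH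
  have hZ1H : Z1 ≤ H := by
    intro u hu
    refine Subgroup.mem_inf.mpr ⟨h.z1_le_z2 hu, ?_⟩
    rw [Subgroup.mem_centralizer_singleton_iff]
    exact (h.z1_comm hu hg).symm
  have hzH : z ∈ H := by
    refine Subgroup.mem_inf.mpr ⟨hz, ?_⟩
    rw [Subgroup.mem_centralizer_singleton_iff]
    exact hgz.symm
  have hHZ2 : H ≤ Z2 := inf_le_left
  haveI : Finite H := Finite.of_injective (Subgroup.inclusion hHZ2) (Subgroup.inclusion_injective _)
  have hd1 : Nat.card Z1 ∣ Nat.card H := Subgroup.card_dvd_of_le hZ1H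
  have hd2 : Nat.card H ∣ Nat.card Z2 := Subgroup.card_dvd_of_le hHZ2
  rw [h.card1] at hd1
  rw [h.card2] at hd2
  obtain ⟨a, ha, ha'⟩ := (Nat.dvd_prime_pow hp).mp hd2
  have hane : Nat.card H ≠ p := by
    intro hc
    have : Z1 = H := Subgroup.eq_of_le_of_card_ge hZ1H (by rw [h.card1, hc])
    exact hz1 (this ▸ hzH)
  have ha2 : a = 2 := by
    rcases Nat.lt_or_ge a 2 with hlt | hge
    · interval_cases a
      · rw [ha', pow_zero] at hd1
        exact absurd (Nat.le_of_dvd one_pos hd1) (not_le_of_gt hp.one_lt)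
      · rw [pow_one] at ha'; exact absurd ha' hane
    · omega
  have hHeq : H = Z2 := Subgroup.eq_of_le_of_card_ge hHZ2 (by rw [h.card2, ha', ha2])
  rw [Subgroup.mem_centralizer_iff]
  intro w hw
  have hwH : w ∈ H := hHeq ▸ hw
  have := (Subgroup.mem_inf.mp hwH).2
  rw [Subgroup.mem_centralizer_singleton_iff] at this
  exact this

/-- `|C_S(Z_2)| * p = |S|`. -/
theorem card_centralizer (h : SecondCentre p S Z1 Z2) [Fact p.Prime] [Finite S] :
    Nat.card ↥(S ⊓ Subgroup.centralizer (Z2 : Set Ω)) * p = Nat.card S := by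
  have hp : p.Prime := Fact.out
  obtain ⟨z, hz, hz1⟩ := h.exists_z
  obtain ⟨hzS, hzc⟩ := (h.mem2 z).mp hz
  have hmem : ∀ g : S, (g : Ω) * z * (g : Ω)⁻¹ * z⁻¹ ∈ Z1 := by
    intro g
    have := Z1.inv_mem (hzc g g.2)
    have e : (z * (g : Ω) * z⁻¹ * (g : Ω)⁻¹)⁻¹ = (g : Ω) * z * (g : Ω)⁻¹ * z⁻¹ := by group
    rwa [e] at this
  let f : S →* Z1 := MonoidHom.mk' (fun g => ⟨(g : Ω) * z * (g : Ω)⁻¹ * z⁻¹, hmem g⟩) (by
    intro a b
    apply Subtype.ext
    simp only [Subgroup.coe_mul]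
    have hu := h.z1_comm (hmem b) a.2
    have e1 : (a : Ω) * (b : Ω) * z * ((a : Ω) * (b : Ω))⁻¹ * z⁻¹ =
        (a : Ω) * ((b : Ω) * z * (b : Ω)⁻¹ * z⁻¹) * z * (a : Ω)⁻¹ * z⁻¹ := by group
    rw [e1, hu]
    have hv := h.z1_comm (hmem b) (h.z1_le_S (hmem a))
    have e2 : (b : Ω) * z * (b : Ω)⁻¹ * z⁻¹ * (a : Ω) * z * (a : Ω)⁻¹ * z⁻¹ =
        ((b : Ω) * z * (b : Ω)⁻¹ * z⁻¹) * ((a : Ω) * z * (a : Ω)⁻¹ * z⁻¹) := by group
    rw [e2, ← hv])
  have hfapp : ∀ g : S, ((f g : Z1) : Ω) = (g : Ω) * z * (g : Ω)⁻¹ * z⁻¹ := fun g => rfl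
  have hker : f.ker = (S ⊓ Subgroup.centralizer (Z2 : Set Ω)).subgroupOf S := by
    ext g
    rw [MonoidHom.mem_ker, Subgroup.mem_subgroupOf]
    constructor
    · intro hg
      have h1 : (g : Ω) * z * (g : Ω)⁻¹ * z⁻¹ = 1 := by
        rw [← hfapp, hg]; rfl
      have h2 : (g : Ω) * z = z * (g : Ω) := by
        have : (g : Ω) * z = ((g : Ω) * z * (g : Ω)⁻¹ * z⁻¹) * (z * (g : Ω)) := by group
        rw [this, h1, one_mul]
      exact Subgroup.mem_inf.mpr ⟨g.2, h.centralizes_of_comm hz hz1 g.2 h2⟩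
    · intro hg
      have h2 := (Subgroup.mem_centralizer_iff.mp (Subgroup.mem_inf.mp hg).2) z hz
      apply Subtype.ext
      rw [hfapp]
      have : (g : Ω) * z * (g : Ω)⁻¹ * z⁻¹ = (z * (g : Ω))⁻¹⁻¹ * (g : Ω)⁻¹ * z⁻¹ := by
        rw [inv_inv, h2]
      rw [this]; group
      rfl
  haveI : Finite Z1 := Finite.of_injective (Subgroup.inclusion h.z1_le_S) (Subgroup.inclusion_injective _)
  have hrd : Nat.card f.range ∣ p := by
    have := Subgroup.card_subgroup_dvd_card f.range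
    rwa [h.card1] at this
  have hrne : Nat.card f.range ≠ 1 := by
    intro h1
    have hbot : f.range = ⊥ := Subgroup.card_eq_one.mp h1
    apply hz1
    refine (h.mem1 z).mpr ⟨hzS, fun s hs => ?_⟩
    have hfs : f ⟨s, hs⟩ ∈ f.range := ⟨_, rfl⟩
    rw [hbot, Subgroup.mem_bot] at hfs
    have h1 : s * z * s⁻¹ * z⁻¹ = 1 := by
      have := hfapp ⟨s, hs⟩
      rw [hfs] at this
      exact this.symm
    have : s * z = (s * z * s⁻¹ * z⁻¹) * (z * s) := by group
    rw [this, h1, one_mul]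
  have hr : Nat.card f.range = p := by
    rcases (Nat.dvd_prime hp).mp hrd with h1 | h1
    · exact absurd h1 hrne
    · exact h1
  have hidx := Subgroup.index_ker f
  have hmul := Subgroup.card_mul_index f.ker
  rw [hidx, hr, hker] at hmul
  rw [← hmul]
  congr 1
  exact (Nat.card_congr (Subgroup.subgroupOfEquivOfLe (inf_le_left : S ⊓ Subgroup.centralizer (Z2 : Set Ω) ≤ S)).toEquiv).symm

/-- a subgroup `Q` of index `p` in `S` having a central subgroup of order `p ^ 2` contains its centralizer. -/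
theorem centralizer_le_of_index (h : SecondCentre p S Z1 Z2) [Fact p.Prime] [Finite S] {Q A : Subgroup Ω}
    (hQS : Q ≤ S) (hQ : Nat.card Q * p = Nat.card S) (hAQ : A ≤ Q) (hA : Nat.card A = p ^ 2)
    (hcomm : ∀ a ∈ A, ∀ q ∈ Q, a * q = q * a) :
    S ⊓ Subgroup.centralizer (Q : Set Ω) ≤ Q := by
  have hp : p.Prime := Fact.out
  intro g hg
  by_contra hgQ
  obtain ⟨hgS, hgc⟩ := Subgroup.mem_inf.mp hg
  set T : Subgroup Ω := Q ⊔ Subgroup.zpowers g with hT
  have hTS : T ≤ S := sup_le hQS (by rw [Subgroup.zpowers_le]; exact hgS)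
  have hQT : Q ≤ T := le_sup_left
  have hgT : g ∈ T := (le_sup_right : Subgroup.zpowers g ≤ T) (Subgroup.mem_zpowers g)
  haveI : Finite T := Finite.of_injective (Subgroup.inclusion hTS) (Subgroup.inclusion_injective _)
  haveI : Finite Q := Finite.of_injective (Subgroup.inclusion hQS) (Subgroup.inclusion_injective _)
  have hQpos : 0 < Nat.card Q := Nat.card_pos
  have hd1 : Nat.card Q ∣ Nat.card T := Subgroup.card_dvd_of_le hQT
  have hd2 : Nat.card T ∣ Nat.card S := Subgroup.card_dvd_of_le hTS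
  obtain ⟨m, hm⟩ := hd1
  rw [hm, ← hQ] at hd2
  have hmp : m ∣ p := Nat.dvd_of_mul_dvd_mul_left hQpos hd2
  have hm1 : m ≠ 1 := by
    rintro rfl
    rw [mul_one] at hm
    have : Q = T := Subgroup.eq_of_le_of_card_ge hQT hm.le
    exact hgQ (this ▸ hgT)
  have hmp' : m = p := by
    rcases (Nat.dvd_prime hp).mp hmp with h1 | h1
    · exact absurd h1 hm1
    · exact h1
  have hTeq : T = S := Subgroup.eq_of_le_of_card_ge hTS (by rw [hm, hmp', hQ])
  have hAZ1 : A ≤ Z1 := by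
    intro a ha
    have haS : a ∈ S := hQS (hAQ ha)
    refine (h.mem1 a).mpr ⟨haS, ?_⟩
    have hTc : T ≤ Subgroup.centralizer ({a} : Set Ω) := by
      refine sup_le ?_ ?_
      · intro q hq
        rw [Subgroup.mem_centralizer_singleton_iff]
        exact (hcomm a ha q hq).symm
      · rw [Subgroup.zpowers_le, Subgroup.mem_centralizer_singleton_iff]
        have := (Subgroup.mem_centralizer_iff.mp hgc) a (hAQ ha)
        exact this.symm
    intro s hs
    have := hTc (hTeq ▸ hs)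
    rwa [Subgroup.mem_centralizer_singleton_iff] at this
  haveI : Finite Z1 := Finite.of_injective (Subgroup.inclusion h.z1_le_S) (Subgroup.inclusion_injective _)
  have := Subgroup.card_le_of_le hAZ1
  rw [h.card1, hA] at this
  nlinarith [hp.two_le]

theorem le_normalizer_centralizer (h : SecondCentre p S Z1 Z2) [Finite S] :
    S ≤ Subgroup.normalizer ((S ⊓ Subgroup.centralizer (Z2 : Set Ω) : Subgroup Ω) : Set Ω) := by
  have key : ∀ g ∈ S, ∀ c ∈ S ⊓ Subgroup.centralizer (Z2 : Set Ω),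
      g * c * g⁻¹ ∈ S ⊓ Subgroup.centralizer (Z2 : Set Ω) := by
    intro g hg c hc
    obtain ⟨hcS, hcc⟩ := Subgroup.mem_inf.mp hc
    refine Subgroup.mem_inf.mpr ⟨S.mul_mem (S.mul_mem hg hcS) (S.inv_mem hg), ?_⟩
    rw [Subgroup.mem_centralizer_iff]
    intro w hw
    have hw' : g⁻¹ * w * g⁻¹⁻¹ ∈ Z2 := h.z2_conj_mem (S.inv_mem hg) hw
    have := (Subgroup.mem_centralizer_iff.mp hcc) _ hw'
    have e1 : w * (g * c * g⁻¹) = g * ((g⁻¹ * w * g⁻¹⁻¹) * c) * g⁻¹ := by group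
    have e2 : g * c * g⁻¹ * w = g * (c * (g⁻¹ * w * g⁻¹⁻¹)) * g⁻¹ := by group
    rw [e1, e2, this]
  intro g hg
  rw [Subgroup.mem_normalizer_iff]
  intro c
  constructor
  · intro hc; exact key g hg c hc
  · intro hc
    have := key g⁻¹ (S.inv_mem hg) _ hc
    have e : g⁻¹ * (g * c * g⁻¹) * g⁻¹⁻¹ = c := by group
    rwa [e] at this

end SecondCentre

theorem card_map_subtype (S : Subgroup Ω) (H : Subgroup S) :
    Nat.card (H.map S.subtype) = Nat.card H :=
  (Nat.card_congr (H.equivMapOfInjective S.subtype S.subtype_injective).toEquiv).symm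

theorem upperCentralSeries_ne_top_of_lower {S : Subgroup Ω} {k : ℕ}
    (hmax : Subgroup.lowerCentralSeries S k ≠ ⊥) : Subgroup.upperCentralSeries ↥S k ≠ ⊤ := by
  intro htop
  apply hmax
  have h1 : Subgroup.lowerCentralSeries (⊤ : Subgroup ↥S) k = ⊥ :=
    Subgroup.lowerCentralSeries_eq_bot_iff_upperCentralSeries_eq_top.mpr htop
  rw [← Subgroup.top_subtype_lowerCentralSeries, h1, Subgroup.map_bot]

theorem secondCentre_of_maxClass {S : Subgroup Ω} [Finite S] {p : ℕ} [Fact p.Prime] {n : ℕ}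
    (hn : Nat.card S = p ^ n) (h4 : 4 ≤ n) (hmax : Subgroup.lowerCentralSeries S (n - 2) ≠ ⊥) :
    SecondCentre p S ((Subgroup.center ↥S).map S.subtype)
      ((Subgroup.upperCentralSeries ↥S 2).map S.subtype) := by
  have hcards := card_upperCentralSeries hn (by omega) (upperCentralSeries_ne_top_of_lower hmax)
  have hm1 : ∀ x, x ∈ (Subgroup.center ↥S).map S.subtype ↔ x ∈ S ∧ ∀ s ∈ S, s * x = x * s := by
    intro x
    constructor
    · rintro ⟨y, hy, rfl⟩
      refine ⟨y.2, fun s hs => ?_⟩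
      have := (Subgroup.mem_center_iff.mp hy) ⟨s, hs⟩
      exact congrArg Subtype.val this
    · rintro ⟨hx, hc⟩
      refine ⟨⟨x, hx⟩, ?_, rfl⟩
      show (⟨x, hx⟩ : S) ∈ Subgroup.center ↥S
      rw [Subgroup.mem_center_iff]
      intro s
      exact Subtype.ext (hc s s.2)
  refine ⟨hm1, ?_, ?_, ?_⟩
  · intro x
    constructor
    · rintro ⟨y, hy, rfl⟩
      refine ⟨y.2, fun s hs => ?_⟩
      have h1 : y ∈ Subgroup.upperCentralSeries ↥S (1 + 1) := hy
      rw [Subgroup.mem_upperCentralSeries_succ_iff, Subgroup.upperCentralSeries_one] at h1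
      have h2 := h1 ⟨s, hs⟩
      refine ⟨_, h2, ?_⟩
      rw [commutatorElement_def]; rfl
    · rintro ⟨hx, hc⟩
      refine ⟨⟨x, hx⟩, ?_, rfl⟩
      show (⟨x, hx⟩ : S) ∈ Subgroup.upperCentralSeries ↥S (1 + 1)
      rw [Subgroup.mem_upperCentralSeries_succ_iff, Subgroup.upperCentralSeries_one]
      intro s
      obtain ⟨w, hw, hw'⟩ := hc s s.2
      have : w = ⁅(⟨x, hx⟩ : S), s⁆ := by
        apply Subtype.ext
        rw [commutatorElement_def]
        exact hw'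
      rw [← this]; exact hw
  · rw [card_map_subtype, ← Subgroup.upperCentralSeries_one, hcards 1 (by omega), pow_one]
  · rw [card_map_subtype, hcards 2 (by omega)]

end Cfsg.Agent.Lib.Helper27.MC
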