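import Mathlib
import Cfsg.Prelude.Def_FusionSystem
import Cfsg.Agent.Lib.Helper27.FusionSat
import Cfsg.Agent.Lib.Helper27.FusionAlperin
import Cfsg.Agent.Lib.Helper27.MaxClassB
import Cfsg.Agent.Lib.Helper16.SPE
import Cfsg.Agent.H26.Essential

set_option autoImplicit false

/-! `C_S(Z_2(S))` is essential when some automorphism of `Z_2(S)` moves `Z(S)`. -/

namespace Cfsg.Agent.Lib.Helper27.MC

open Cfsg Cfsg.FusionSystem Cfsg.Agent.Lib.Helper27

/-- A non-normal Sylow `p`-subgroup of order `p` has strongly `p`-embedded normalizer. -/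
theorem spe_of_sylow_card_prime {X : Type*} [Group X] [Finite X] {p : ℕ} [Fact p.Prime] (P : Sylow p X)
    (hcard : Nat.card P ∣ p) (hnn : ¬ (P : Subgroup X).Normal) :
    IsStronglyPEmbedded p (Subgroup.normalizer ((P : Subgroup X) : Set X)) := by
  have hp : p.Prime := Fact.out
  have hne : (P : Subgroup X) ≠ ⊥ := by
    intro h
    apply hnn
    rw [h]; infer_instance
  have hcard' : Nat.card P = p := by
    rcases (Nat.dvd_prime hp).mp hcard with h1 | h1
    · exact absurd (Subgroup.card_eq_one.mp h1) hne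
    · exact h1
  refine ⟨?_, ?_, P, ?_⟩
  · rw [← hcard']
    exact Subgroup.card_subgroup_dvd_card _
  · intro htop
    exact hnn (Subgroup.normalizer_eq_top_iff.mp htop)
  · rw [Cfsg.Agent.Lib.Helper16.kGeneratedCore_one_le_iff]
    intro Q hQP hQne
    have hd : Nat.card Q ∣ p := hcard' ▸ Subgroup.card_dvd_of_le hQP
    have hQc : Nat.card Q = p := by
      rcases (Nat.dvd_prime hp).mp hd with h1 | h1
      · exact absurd (Subgroup.card_eq_one.mp h1) hQne
      · exact h1
    have : Q = P := Subgroup.eq_of_le_of_card_ge hQP (by rw [hQc, hcard'])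
    rw [this]


variable {Ω : Type*} [Group Ω] {S : Subgroup Ω}

theorem normalizerIn_eq_of_le {P : Subgroup Ω} (h : S ≤ Subgroup.normalizer (P : Set Ω)) :
    normalizerIn S P = S := by
  unfold normalizerIn
  exact inf_eq_left.mpr h

/-- a subgroup normalized by `S` is fully normalized -/
theorem isFullyNormalized_of_le_normalizer [Finite S] (F : FusionSystem S) {P : Subgroup Ω} (hP : P ≤ S)
    (h : S ≤ Subgroup.normalizer (P : Set Ω)) : F.IsFullyNormalized P := by
  refine ⟨hP, fun Q _ => ?_⟩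
  rw [normalizerIn_eq_of_le h]
  exact Subgroup.card_le_of_le (normalizerIn_le_S S Q)

theorem z2_comm {p : ℕ} [Fact p.Prime] [Finite S] {Z1 Z2 : Subgroup Ω} (h : SecondCentre p S Z1 Z2) :
    ∀ a ∈ Z2, ∀ b ∈ Z2, a * b = b * a := by
  intro a ha b hb
  haveI : Finite Z2 := Finite.of_injective (Subgroup.inclusion h.z2_le_S) (Subgroup.inclusion_injective _)
  haveI := IsPGroup.isMulCommutative_of_card_eq_prime_sq h.card2
  have := mul_comm' (⟨a, ha⟩ : Z2) ⟨b, hb⟩
  exact congrArg Subtype.val this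

theorem z2_le_centralizer {p : ℕ} [Fact p.Prime] [Finite S] {Z1 Z2 : Subgroup Ω} (h : SecondCentre p S Z1 Z2) :
    Z2 ≤ S ⊓ Subgroup.centralizer (Z2 : Set Ω) := by
  intro a ha
  refine Subgroup.mem_inf.mpr ⟨h.z2_le_S ha, ?_⟩
  rw [Subgroup.mem_centralizer_iff]
  intro b hb
  exact z2_comm h b hb a ha


section main
variable [Finite S] {p : ℕ} [Fact p.Prime] {Z1 Z2 : Subgroup Ω}

theorem isCentric_centralizer (h : SecondCentre p S Z1 Z2) (F : FusionSystem S) :
    F.IsCentric (S ⊓ Subgroup.centralizer (Z2 : Set Ω)) := by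
  set C : Subgroup Ω := S ⊓ Subgroup.centralizer (Z2 : Set Ω) with hC
  have hCS : C ≤ S := inf_le_left
  refine ⟨hCS, fun Q hQ => ?_⟩
  obtain ⟨χ, hχ, hr⟩ := hQ
  have hinj := F.injective_of_mem hχ
  have hQS : Q ≤ S := hr ▸ hom_range_le F hχ
  have hcardQ : Nat.card Q = Nat.card C := by
    rw [← hr]
    exact (Nat.card_congr (MonoidHom.ofInjective hinj).toEquiv).symm
  have hZC : Z2 ≤ C := z2_le_centralizer h
  set A : Subgroup Ω := (Z2.subgroupOf C).map χ with hA
  have hAQ : A ≤ Q := by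
    rintro _ ⟨x, _, rfl⟩
    rw [← hr]; exact ⟨x, rfl⟩
  have hcardA : Nat.card A = p ^ 2 := by
    rw [← h.card2]
    have e1 : Nat.card A = Nat.card (Z2.subgroupOf C) :=
      (Nat.card_congr ((Z2.subgroupOf C).equivMapOfInjective χ hinj).toEquiv).symm
    rw [e1]
    exact Nat.card_congr (Subgroup.subgroupOfEquivOfLe hZC).toEquiv
  have hcomm : ∀ a ∈ A, ∀ q ∈ Q, a * q = q * a := by
    rintro _ ⟨w, hw, rfl⟩ q hq
    rw [← hr] at hq
    obtain ⟨c, rfl⟩ := hq
    rw [← map_mul, ← map_mul]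
    congr 1
    apply Subtype.ext
    have hw' : (w : Ω) ∈ Z2 := Subgroup.mem_subgroupOf.mp hw
    have hc := (Subgroup.mem_inf.mp c.2).2
    have := (Subgroup.mem_centralizer_iff.mp hc) w hw'
    exact this
  have := h.centralizer_le_of_index hQS (by rw [hcardQ]; exact h.card_centralizer) hAQ hcardA hcomm
  exact this

/-- an automorphism of `Z_2` in the system extends to an automorphism of `C_S(Z_2)`. -/
theorem exists_aut_extending (hS : IsPGroup p S) (h : SecondCentre p S Z1 Z2) {F : FusionSystem S}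
    (hF : F.IsSaturated p) (φ : Z2 →* Ω) (hφ : φ ∈ F.Hom Z2) (hφr : φ.range = Z2) :
    ∃ α : MulAut ↥(S ⊓ Subgroup.centralizer (Z2 : Set Ω)), α ∈ F.autGroup (S ⊓ Subgroup.centralizer (Z2 : Set Ω)) ∧
      ∀ (x : Ω) (hx : x ∈ Z2) (hx' : x ∈ S ⊓ Subgroup.centralizer (Z2 : Set Ω)),
        ((α ⟨x, hx'⟩ : ↥(S ⊓ Subgroup.centralizer (Z2 : Set Ω))) : Ω) = φ ⟨x, hx⟩ := by
  set C : Subgroup Ω := S ⊓ Subgroup.centralizer (Z2 : Set Ω) with hC
  have hCS : C ≤ S := inf_le_left
  have hZ2n : S ≤ Subgroup.normalizer (Z2 : Set Ω) := by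
    intro g hg
    rw [Subgroup.mem_normalizer_iff]
    intro x
    constructor
    · intro hx; exact h.z2_conj_mem hg hx
    · intro hx
      have := h.z2_conj_mem (S.inv_mem hg) hx
      have e : g⁻¹ * (g * x * g⁻¹) * g⁻¹⁻¹ = x := by group
      rwa [e] at this
  have hfn : F.IsFullyNormalized Z2 := isFullyNormalized_of_le_normalizer F h.z2_le_S hZ2n
  obtain ⟨-, hrec, -⟩ := fa_receptive_of_fullyNormalized hS hF hfn
  obtain ⟨ψ, hψ, hψφ⟩ := hrec.2 Z2 φ hφ hφr
  have hCext : C ≤ extender S Z2 φ := centralizerIn_le_extender φ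
  have hψ' := hom_restrict F hCext hψ
  set ψ' := ψ.comp (Subgroup.inclusion hCext) with hψ'def
  have hZC : Z2 ≤ C := z2_le_centralizer h
  have hψ'φ : ∀ (x : Ω) (hx : x ∈ Z2) (hx' : x ∈ C), ψ' ⟨x, hx'⟩ = φ ⟨x, hx⟩ := by
    intro x hx hx'
    exact hψφ x hx (hCext hx')
  have hrange : ψ'.range = C := by
    have hle : ψ'.range ≤ C := by
      rintro _ ⟨c, rfl⟩
      refine Subgroup.mem_inf.mpr ⟨(F.le_of_mem hψ').2 c, ?_⟩
      rw [Subgroup.mem_centralizer_iff]
      intro w hw
      rw [← hφr] at hw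
      obtain ⟨w', rfl⟩ := hw
      rw [← hψ'φ w' w'.2 (hZC w'.2), ← map_mul, ← map_mul]
      congr 1
      apply Subtype.ext
      have hc := (Subgroup.mem_inf.mp c.2).2
      exact (Subgroup.mem_centralizer_iff.mp hc) w' w'.2
    haveI : Finite C := Finite.of_injective (Subgroup.inclusion hCS) (Subgroup.inclusion_injective _)
    apply Subgroup.eq_of_le_of_card_ge hle
    rw [Nat.card_congr (MonoidHom.ofInjective (F.injective_of_mem hψ')).toEquiv]
  obtain ⟨e, he, hee⟩ := exists_isIso_of_hom F hψ' hrange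
  refine ⟨e, (mem_autGroup_iff F hCS e).mpr he, fun x hx hx' => ?_⟩
  rw [← hψ'φ x hx hx']
  exact hee ⟨x, hx'⟩


theorem isEssential_centralizer (hS : IsPGroup p S) (h : SecondCentre p S Z1 Z2) {F : FusionSystem S}
    (hF : F.IsSaturated p) (φ : Z2 →* Ω) (hφ : φ ∈ F.Hom Z2) (hφr : φ.range = Z2)
    (hmove : ∃ (z : Ω) (hz : z ∈ Z2), z ∈ Z1 ∧ φ ⟨z, hz⟩ ∉ Z1) :
    F.IsEssential p (S ⊓ Subgroup.centralizer (Z2 : Set Ω)) := by
  have hp : p.Prime := Fact.out
  set C : Subgroup Ω := S ⊓ Subgroup.centralizer (Z2 : Set Ω) with hC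
  have hCS : C ≤ S := inf_le_left
  haveI : Finite C := Finite.of_injective (Subgroup.inclusion hCS) (Subgroup.inclusion_injective _)
  have hcen : F.IsCentric C := isCentric_centralizer h F
  have hCn : S ≤ Subgroup.normalizer (C : Set Ω) := h.le_normalizer_centralizer
  have hfn : F.IsFullyNormalized C := isFullyNormalized_of_le_normalizer F hCS hCn
  have hNS : normalizerIn S C = S := normalizerIn_eq_of_le hCn
  have hI : ((Inn C).subgroupOf (F.autGroup C)).Normal := Cfsg.Agent.H26.inn_subgroupOf_normal F C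
  obtain ⟨⟨-, R, hR⟩, hrec, -⟩ := fa_receptive_of_fullyNormalized hS hF hfn
  have hπ : Function.Surjective (QuotientGroup.mk' ((Inn C).subgroupOf (F.autGroup C))) :=
    QuotientGroup.mk'_surjective _
  set Pbar : Sylow p (F.autGroup C ⧸ (Inn C).subgroupOf (F.autGroup C)) := R.mapSurjective hπ with hPbar
  have hPcoe : (Pbar : Subgroup (F.autGroup C ⧸ (Inn C).subgroupOf (F.autGroup C))) =
      (R : Subgroup (F.autGroup C)).map (QuotientGroup.mk' ((Inn C).subgroupOf (F.autGroup C))) := rfl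
  have hmemA : ∀ g : normalizerIn S C, conjAutHom S C g ∈ F.autGroup C := by
    intro g
    apply autInducedBy_le_autGroup F hCS
    rw [← conjAutHom_range]
    exact ⟨g, rfl⟩
  have hmemR : ∀ g : normalizerIn S C, (⟨conjAutHom S C g, hmemA g⟩ : F.autGroup C) ∈ (R : Subgroup (F.autGroup C)) := by
    intro g
    rw [hR, Subgroup.mem_subgroupOf, ← conjAutHom_range]
    exact ⟨g, rfl⟩
  have hInnR : (Inn C).subgroupOf (F.autGroup C) ≤ (R : Subgroup (F.autGroup C)) := by
    rw [hR]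
    intro x hx
    rw [Subgroup.mem_subgroupOf] at hx ⊢
    exact inn_le_autInducedBy hCS hx
  refine ⟨hcen, hfn, hI, _, spe_of_sylow_card_prime Pbar ?_ ?_⟩
  · -- card divides p
    let θ : normalizerIn S C →* F.autGroup C ⧸ (Inn C).subgroupOf (F.autGroup C) :=
      (QuotientGroup.mk' ((Inn C).subgroupOf (F.autGroup C))).comp ((conjAutHom S C).codRestrict (F.autGroup C) hmemA)
    have hle : (Pbar : Subgroup (F.autGroup C ⧸ (Inn C).subgroupOf (F.autGroup C))) ≤ θ.range := by
      rw [hPcoe]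
      rintro _ ⟨r, hr, rfl⟩
      rw [SetLike.mem_coe, hR, Subgroup.mem_subgroupOf, ← conjAutHom_range] at hr
      obtain ⟨g, hg⟩ := hr
      refine ⟨g, ?_⟩
      show (QuotientGroup.mk' _) (((conjAutHom S C).codRestrict (F.autGroup C) hmemA) g) = _
      congr 1
      exact Subtype.ext hg
    have hd1 : Nat.card Pbar ∣ Nat.card θ.range := Subgroup.card_dvd_of_le hle
    refine hd1.trans ?_
    rw [← Subgroup.index_ker]
    have hK : C.subgroupOf (normalizerIn S C) ≤ θ.ker := by
      intro g hg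
      rw [Subgroup.mem_subgroupOf] at hg
      rw [MonoidHom.mem_ker]
      show (QuotientGroup.mk' _) (((conjAutHom S C).codRestrict (F.autGroup C) hmemA) g) = 1
      rw [QuotientGroup.mk'_apply, QuotientGroup.eq_one_iff, Subgroup.mem_subgroupOf]
      show conjAutHom S C g ∈ Inn C
      rw [mem_inn_iff]
      refine ⟨⟨g, hg⟩, fun x => ?_⟩
      apply Subtype.ext
      rw [conjAutHom_apply]
      rfl
    refine (Subgroup.index_dvd_of_le hK).trans ?_
    have h1 := Subgroup.card_mul_index (C.subgroupOf (normalizerIn S C))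
    have hCN : C ≤ normalizerIn S C := le_normalizerIn hCS
    have hcN : Nat.card (normalizerIn S C) = Nat.card S := by rw [hNS]
    rw [Nat.card_congr (Subgroup.subgroupOfEquivOfLe hCN).toEquiv, hcN, ← h.card_centralizer] at h1
    have hpos : 0 < Nat.card C := Nat.card_pos
    have := Nat.eq_of_mul_eq_mul_left hpos h1
    rw [this]
  · -- not normal
    intro hnorm
    obtain ⟨α, hα, hαφ⟩ := exists_aut_extending hS h hF φ hφ hφr
    set αA : F.autGroup C := ⟨α, hα⟩ with hαA
    have hext : ∀ g ∈ S, g ∈ extender S C (C.subtype.comp ((αA : MulAut C) : C ≃* C).toMonoidHom) := by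
      intro g hgS
      have hg : g ∈ normalizerIn S C := hNS.symm ▸ hgS
      apply Cfsg.Agent.H26.mem_extender_of_conj_mem hCS αA hg
      set r : F.autGroup C := ⟨conjAutHom S C ⟨g, hg⟩, hmemA ⟨g, hg⟩⟩ with hr
      have hrR : r ∈ (R : Subgroup (F.autGroup C)) := hmemR ⟨g, hg⟩
      have h1 : (QuotientGroup.mk' ((Inn C).subgroupOf (F.autGroup C))) (αA * r * αA⁻¹) ∈
          (Pbar : Subgroup (F.autGroup C ⧸ (Inn C).subgroupOf (F.autGroup C))) := by
        rw [map_mul, map_mul, map_inv]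
        apply hnorm.conj_mem
        rw [hPcoe]
        exact ⟨r, hrR, rfl⟩
      rw [hPcoe] at h1
      obtain ⟨r', hr'R, hr'⟩ := h1
      have h2 : r'⁻¹ * (αA * r * αA⁻¹) ∈ (Inn C).subgroupOf (F.autGroup C) := by
        rw [← QuotientGroup.eq]
        exact hr'
      have h3 : αA * r * αA⁻¹ ∈ (R : Subgroup (F.autGroup C)) := by
        have := (R : Subgroup (F.autGroup C)).mul_mem hr'R (hInnR h2)
        rwa [mul_inv_cancel_left] at this
      rw [hR, Subgroup.mem_subgroupOf] at h3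
      exact h3
    have hextS : extender S C (C.subtype.comp ((αA : MulAut C) : C ≃* C).toMonoidHom) = S :=
      le_antisymm (extender_le_S _) hext
    have hiso : IsIso F ((αA : MulAut C) : C ≃* C) := (mem_autGroup_iff F hCS _).mp hα
    obtain ⟨ψ, hψ, hψα⟩ := receptive_exists_extension hrec hiso
    have hψS := hom_restrict F hextS.ge hψ
    set ψS := ψ.comp (Subgroup.inclusion hextS.ge) with hψSdef
    obtain ⟨β, -, hβ⟩ := exists_aut_of_hom_top F hψS
    obtain ⟨z, hz, hz1, hzφ⟩ := hmove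
    apply hzφ
    have hzS : z ∈ S := h.z1_le_S hz1
    have hzC : z ∈ C := z2_le_centralizer h hz
    have e1 : ψS ⟨z, hzS⟩ = φ ⟨z, hz⟩ := by
      rw [← hαφ z hz hzC]
      exact hψα z hzC _
    rw [← e1]
    refine (h.mem1 _).mpr ⟨(F.le_of_mem hψS).2 _, fun s hs => ?_⟩
    obtain ⟨s', hs'⟩ : ∃ s' : S, ψS s' = s := ⟨β.symm ⟨s, hs⟩, by rw [← hβ]; simp⟩
    rw [← hs', ← map_mul, ← map_mul]
    congr 1
    apply Subtype.ext
    exact h.z1_comm hz1 s'.2

end main

end Cfsg.Agent.Lib.Helper27.MC
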