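import Mathlib
import Cfsg.Prelude.Def_FusionSystem
import Cfsg.Agent.Lib.Helper27.FusionSat
import Cfsg.Agent.Lib.Helper27.FusionNormal
import Cfsg.Agent.Lib.Helper27.LG2CenterModel
import Cfsg.Agent.Lib.Helper27.MaxClassC
import Cfsg.Agent.Lib.Helper27.FixedAvg
import Cfsg.Agent.Lib.Helper27.AbelianIndexP

set_option autoImplicit false

/-! In a saturated fusion system with an abelian normal subgroup `V ≥ Z(S)`, the centre of the system is
a direct factor of `Z(S)`. -/

namespace Cfsg.Agent.Lib.Helper27.FixAvg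

open Cfsg Cfsg.FusionSystem Cfsg.Agent.Lib.Helper27 Cfsg.Agent.Lib.Helper27.LG2

variable {Ω : Type*} [Group Ω] {S : Subgroup Ω}

/-- elements of the centre are fixed by `Aut_N(V)` -/
theorem center_fixed {N : FusionSystem S} [Finite S] {V : Subgroup Ω} (hVS : V ≤ S) {z : Ω}
    (hz : z ∈ N.center) (hzV : z ∈ V) (g : MulAut V) (hg : g ∈ N.autGroup V) : g ⟨z, hzV⟩ = ⟨z, hzV⟩ := by
  have hiso : IsIso N (g : V ≃* V) := (mem_autGroup_iff N hVS g).mp hg
  have := isCentral_fixes (isCentral_center N) hiso ⟨z, hzV⟩ hz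
  exact Subtype.ext this

/-- elements of `V` fixed by `Aut_N(V)` are central, for `V` normal in `N` -/
theorem fixed_le_center {N : FusionSystem S} [Finite S] {V : Subgroup Ω} (hVn : N.IsNormal V)
    {z : Ω} (hzV : z ∈ V) (hfix : ∀ g : MulAut V, g ∈ N.autGroup V → g ⟨z, hzV⟩ = ⟨z, hzV⟩) :
    z ∈ N.center := by
  have hVS : V ≤ S := hVn.1
  haveI : Finite V := Finite.of_injective (Subgroup.inclusion hVS) (Subgroup.inclusion_injective _)
  -- the subgroup of fixed elements
  let C : Subgroup Ω :=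
    { carrier := {v | ∃ hv : v ∈ V, ∀ g : MulAut V, g ∈ N.autGroup V → g ⟨v, hv⟩ = ⟨v, hv⟩}
      one_mem' := ⟨V.one_mem, fun g _ => map_one g⟩
      mul_mem' := by
        rintro a b ⟨ha, ha'⟩ ⟨hb, hb'⟩
        refine ⟨V.mul_mem ha hb, fun g hg => ?_⟩
        have : (⟨a * b, V.mul_mem ha hb⟩ : V) = ⟨a, ha⟩ * ⟨b, hb⟩ := rfl
        rw [this, map_mul, ha' g hg, hb' g hg]
      inv_mem' := by
        rintro a ⟨ha, ha'⟩
        refine ⟨V.inv_mem ha, fun g hg => ?_⟩
        have : (⟨a⁻¹, V.inv_mem ha⟩ : V) = (⟨a, ha⟩ : V)⁻¹ := rfl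
        rw [this, map_inv, ha' g hg] }
  have hCV : C ≤ V := fun v hv => hv.1
  have hzC : z ∈ C := ⟨hzV, hfix⟩
  have hcen : N.IsCentral C := by
    refine ⟨hCV.trans hVS, fun P φ hφ => ?_⟩
    obtain ⟨ψ, hψ, hψφ, α, hα, hαψ⟩ := normal_exists_extension hVn hφ
    have hle : P ⊔ C ≤ P ⊔ V := sup_le_sup_left hCV P
    refine ⟨ψ.comp (Subgroup.inclusion hle), hom_restrict N hle hψ, fun x => ?_, fun c => ?_⟩
    · rw [← hψφ x]; rfl
    · obtain ⟨hcV, hc⟩ := c.2
      have h1 := hc α ((mem_autGroup_iff N hVS α).mpr hα)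
      have h2 := hαψ ⟨c, hcV⟩
      rw [h1] at h2
      show ψ _ = (c : Ω)
      rw [h2]; rfl
  exact le_center hcen hzC


/-- **Direct factor**: in a saturated system with an abelian normal subgroup `V ≥ Z(S)`, `Z(N)` is a direct
factor of `Z(S)`. -/
theorem center_direct_factor [Finite S] {p : ℕ} [Fact p.Prime] (hS : IsPGroup p S) {N : FusionSystem S}
    (hN : N.IsSaturated p) {V : Subgroup Ω} (hVn : N.IsNormal V) (hVab : ∀ a ∈ V, ∀ b ∈ V, a * b = b * a)
    (hZV : S ⊓ Subgroup.centralizer (S : Set Ω) ≤ V) :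
    ∃ K : Subgroup Ω, K ≤ S ⊓ Subgroup.centralizer (S : Set Ω) ∧ N.center ⊓ K = ⊥ ∧
      N.center ⊔ K = S ⊓ Subgroup.centralizer (S : Set Ω) := by
  have hVS : V ≤ S := hVn.1
  haveI : Finite V := Finite.of_injective (Subgroup.inclusion hVS) (Subgroup.inclusion_injective _)
  have hVnorm : S ≤ Subgroup.normalizer (V : Set Ω) := normal_le_normalizer hVn
  have hfn : N.IsFullyNormalized V := Cfsg.Agent.Lib.Helper27.MC.isFullyNormalized_of_le_normalizer N hVS hVnorm
  obtain ⟨⟨-, R, hR⟩, -, -⟩ := fa_receptive_of_fullyNormalized hS hN hfn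
  have hVp : IsPGroup p V := hS.of_injective (Subgroup.inclusion hVS) (Subgroup.inclusion_injective _)
  have hcomm : ∀ a b : V, a * b = b * a := fun a b => Subtype.ext (hVab a a.2 b b.2)
  obtain ⟨K₀, hK1, hK2, hK3⟩ := exists_complement_fixedPoints hcomm hVp (N.autGroup V).subtype
    (R : Subgroup (N.autGroup V)) R.not_dvd_index
  have hcenZ : N.center ≤ S ⊓ Subgroup.centralizer (S : Set Ω) := isCentral_le_centerS (isCentral_center N)
  -- fixed by T iff central in S
  have hTfix : ∀ x : V, (∀ t ∈ (R : Subgroup (N.autGroup V)), (N.autGroup V).subtype t x = x) ↔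
      (x : Ω) ∈ S ⊓ Subgroup.centralizer (S : Set Ω) := by
    intro x
    constructor
    · intro h
      refine Subgroup.mem_inf.mpr ⟨hVS x.2, ?_⟩
      rw [Subgroup.mem_centralizer_iff]
      intro s hs
      have hsN : s ∈ normalizerIn S V := ⟨hs, hVnorm hs⟩
      have hmem : conjAutHom S V ⟨s, hsN⟩ ∈ N.autGroup V := by
        apply autInducedBy_le_autGroup N hVS
        rw [← conjAutHom_range]
        exact ⟨_, rfl⟩
      have ht : (⟨conjAutHom S V ⟨s, hsN⟩, hmem⟩ : N.autGroup V) ∈ (R : Subgroup (N.autGroup V)) := by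
        rw [hR, Subgroup.mem_subgroupOf, ← conjAutHom_range]
        exact ⟨_, rfl⟩
      have h1 := h _ ht
      have h2 : s * (x : Ω) * s⁻¹ = x := by
        have := congrArg Subtype.val h1
        rw [Subgroup.coe_subtype, conjAutHom_apply] at this
        exact this
      calc s * (x : Ω) = (s * (x : Ω) * s⁻¹) * s := by group
        _ = (x : Ω) * s := by rw [h2]
    · intro hx t ht
      rw [hR, Subgroup.mem_subgroupOf, mem_autInducedBy_iff] at ht
      obtain ⟨g, hg, hgt⟩ := ht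
      apply Subtype.ext
      rw [Subgroup.coe_subtype, hgt x, center_commute hx hg, mul_inv_cancel_right]
  refine ⟨K₀.map V.subtype, ?_, ?_, ?_⟩
  · rintro _ ⟨k, hk, rfl⟩
    exact (hTfix k).mp (hK1 k hk)
  · rw [eq_bot_iff]
    rintro x ⟨hxc, ⟨k, hk, rfl⟩⟩
    rw [Subgroup.mem_bot]
    have : k = 1 := by
      apply hK2 k hk
      intro g
      exact center_fixed hVS hxc k.2 g g.2
    rw [this]; rfl
  · apply le_antisymm
    · refine sup_le hcenZ ?_
      rintro _ ⟨k, hk, rfl⟩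
      exact (hTfix k).mp (hK1 k hk)
    · intro x hx
      have hxV : x ∈ V := hZV hx
      obtain ⟨b, k, hb, hk, hxbk⟩ := hK3 ⟨x, hxV⟩ ((hTfix ⟨x, hxV⟩).mpr hx)
      have hbc : (b : Ω) ∈ N.center := by
        apply fixed_le_center hVn b.2
        intro g hg
        exact hb ⟨g, hg⟩
      have : x = (b : Ω) * (k : Ω) := congrArg Subtype.val hxbk
      rw [this]
      exact Subgroup.mul_mem_sup hbc ⟨k, hk, rfl⟩

end Cfsg.Agent.Lib.Helper27.FixAvg
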