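import Mathlib
import Cfsg.Prelude.Def_FusionSystem
import Cfsg.Agent.Lib.Helper27.FusionNormal
import Cfsg.Agent.Lib.Helper27.CenterFactor

set_option autoImplicit false

/-! The centre of a normal subgroup of a fusion system is normal in the system. -/

namespace Cfsg.Agent.Lib.Helper27.FixAvg

open Cfsg Cfsg.FusionSystem Cfsg.Agent.Lib.Helper27

variable {Ω : Type*} [Group Ω] {S : Subgroup Ω}

theorem isNormal_centerOf {F : FusionSystem S} {Q : Subgroup Ω} [Finite Q] (hQ : F.IsNormal Q) :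
    F.IsNormal (Q ⊓ Subgroup.centralizer (Q : Set Ω)) := by
  set V : Subgroup Ω := Q ⊓ Subgroup.centralizer (Q : Set Ω) with hV
  have hVQ : V ≤ Q := inf_le_left
  have hcen : ∀ (α : Q ≃* Q) (x : Q), (x : Ω) ∈ V → ((α x : Q) : Ω) ∈ V := by
    intro α x hx
    refine Subgroup.mem_inf.mpr ⟨(α x).2, ?_⟩
    rw [Subgroup.mem_centralizer_iff]
    intro q hq
    have hxc := Subgroup.mem_centralizer_iff.mp (Subgroup.mem_inf.mp hx).2
    have h1 : α.symm ⟨q, hq⟩ * x = x * α.symm ⟨q, hq⟩ := Subtype.ext (hxc _ (α.symm ⟨q, hq⟩).2)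
    have h2 := congrArg α h1
    rw [map_mul, map_mul, MulEquiv.apply_symm_apply] at h2
    exact congrArg Subtype.val h2
  refine ⟨hVQ.trans hQ.1, fun P φ hφ => ?_⟩
  obtain ⟨ψ, hψ, hψφ, α, hα, hαψ⟩ := normal_exists_extension hQ hφ
  have hle : P ⊔ V ≤ P ⊔ Q := sup_le_sup_left hVQ P
  refine ⟨ψ.comp (Subgroup.inclusion hle), hom_restrict F hle hψ, fun x => ?_, ?_⟩
  · rw [← hψφ x]; rfl
  · ext y
    constructor
    · rintro ⟨x, hx, rfl⟩
      have hxV : (x : Ω) ∈ V := Subgroup.mem_subgroupOf.mp hx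
      have h1 := hαψ ⟨x, hVQ hxV⟩
      have h2 := hcen α ⟨x, hVQ hxV⟩ hxV
      rw [h1] at h2
      exact h2
    · intro hy
      have h2 := hcen α.symm ⟨y, hVQ hy⟩ hy
      refine ⟨⟨((α.symm ⟨y, hVQ hy⟩ : Q) : Ω), (le_sup_right : V ≤ P ⊔ V) h2⟩,
        Subgroup.mem_subgroupOf.mpr h2, ?_⟩
      have h1 := hαψ (α.symm ⟨y, hVQ hy⟩)
      rw [MulEquiv.apply_symm_apply] at h1
      show ψ _ = y
      exact h1.symm

end Cfsg.Agent.Lib.Helper27.FixAvg
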