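import Cfsg.Agent.Lib.Helper8.ChevAu21
import Cfsg.Agent.Lib.Helper10.ChevDiagConj

set_option autoImplicit false

/-! The number of automorphisms preserving `U` and `V`, and the order of the outer automorphism
group, for all seven types (in terms of the realised symmetries of the diagram). -/

namespace Cfsg.Agent.Lib.Helper27.ChevOut

open Cfsg Cfsg.Lie Matrix Cfsg.Agent.Lib.Helper3 Cfsg.Agent.Lib.Helper8.Chev

section

variable {D : ChevalleyDatum} {F : Type*} [Field F]

/-- `g` acts on the fundamental root elements and their negatives as the graph automorphism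
attached to `π` -/
def ActsAsGraph (hD : D ∈ [chevG2, chevB2, chevD4, chevF4, chevE6, chevE7, chevE8])
    (π : Equiv.Perm (Fin D.rank)) (g : MulAut ↥(D.group F)) : Prop :=
  ∀ (i : Fin D.rank) (t : F),
    g (xEl hD (D.simple i) t) =
      xEl hD (D.simple (π i)) (t ^ D.graphExp (ringChar F) i (π i)) ∧
    g (xEl hD (D.neg (D.simple i)) t) =
      xEl hD (D.neg (D.simple (π i))) (t ^ D.graphExp (ringChar F) i (π i))

theorem actsAsGraph_of_isGraphAut (hD : D ∈ [chevG2, chevB2, chevD4, chevF4, chevE6, chevE7, chevE8])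
    {g : MulAut ↥(D.group F)} (hg : D.IsGraphAut g) :
    ∃ π : Equiv.Perm (Fin D.rank), D.IsDiagramSymmetry π ∧ ActsAsGraph hD π g := by
  obtain ⟨π, hπ, h⟩ := hg
  refine ⟨π, hπ, fun i t => ⟨?_, ?_⟩⟩
  · have := (h _ i t).1 (coe_xEl hD (StdAut.simple_lt hD i) t)
    exact eq_xEl_of_coe hD (StdAut.simple_lt hD _) this
  · have := (h _ i t).2 (coe_xEl hD (StdAut.neg_simple_lt hD i) t)
    exact eq_xEl_of_coe hD (StdAut.neg_simple_lt hD _) this

theorem isGraphAut_of_actsAsGraph (hD : D ∈ [chevG2, chevB2, chevD4, chevF4, chevE6, chevE7, chevE8])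
    {π : Equiv.Perm (Fin D.rank)} (hπ : D.IsDiagramSymmetry π) {g : MulAut ↥(D.group F)}
    (h : ActsAsGraph hD π g) : D.IsGraphAut g := by
  refine ⟨π, hπ, fun g₀ i t => ⟨fun hg => ?_, fun hg => ?_⟩⟩
  · rw [eq_xEl_of_coe hD (StdAut.simple_lt hD i) hg, (h i t).1,
      coe_xEl hD (StdAut.simple_lt hD _)]
  · rw [eq_xEl_of_coe hD (StdAut.neg_simple_lt hD i) hg, (h i t).2,
      coe_xEl hD (StdAut.neg_simple_lt hD _)]

theorem pow_graphExp_inj [Finite F] (D : ChevalleyDatum) (i j : ℕ) :
    Function.Injective (fun t : F => t ^ D.graphExp (ringChar F) i j) := by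
  unfold ChevalleyDatum.graphExp
  split_ifs
  · haveI : Fact (ringChar F).Prime := ⟨CharP.char_is_prime F _⟩
    exact frobenius_inj F (ringChar F)
  · intro a b h
    simpa using h

theorem pow_graphExp_surj [Finite F] (D : ChevalleyDatum) (i j : ℕ) :
    Function.Surjective (fun t : F => t ^ D.graphExp (ringChar F) i j) :=
  Finite.injective_iff_surjective.mp (pow_graphExp_inj D i j)

/-- the symmetries of the diagram realised by an automorphism preserving `U` and `V` -/
def RealSym (hD : D ∈ [chevG2, chevB2, chevD4, chevF4, chevE6, chevE7, chevE8])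
    (F : Type*) [Field F] [Finite F] : Set (Equiv.Perm (Fin D.rank)) :=
  {π | D.IsDiagramSymmetry π ∧ ∃ g ∈ presSub D F, ActsAsGraph hD π g}

/-- the number of automorphisms preserving `U` and `V` -/
theorem card_presSub_gen [Fintype F]
    (hD : D ∈ [chevG2, chevB2, chevD4, chevF4, chevE6, chevE7, chevE8])
    (hN : NormalForm hD F) :
    Nat.card (presSub D F) = (Fintype.card F - 1) ^ D.rank *
      Nat.card (RealSym hD F) * Nat.card (F ≃+* F) := by
  classical
  have hΓ : ∀ π : RealSym hD F, ∃ g ∈ presSub D F, ActsAsGraph hD π.1 g := fun π => π.2.2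
  choose gOf hgmem hgOf using hΓ
  have hfex := fun σ : F ≃+* F => exists_fieldAut (F := F) hD σ
  choose fOf hfield hfOf using hfex
  let Ξ : (Fin D.rank → Fˣ) × RealSym hD F × (F ≃+* F) → presSub D F := fun p =>
    ⟨diagAut hD (rcChar_isRootCharacter hD p.1) * gOf p.2.1 * fOf p.2.2,
      mul_mem (mul_mem (diagAut_mem_presSub hD _) (hgmem _))
        (fieldAut_mem_presSub (hfield _))⟩
  have hΞ1 : ∀ p (i : Fin D.rank) (t : F), (Ξ p).1 (xEl hD (D.simple i) t) =
      xEl hD (D.simple (p.2.1.1 i)) ((p.1 (p.2.1.1 i) : F) *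
        (p.2.2 t) ^ D.graphExp (ringChar F) i (p.2.1.1 i)) := by
    intro p i t
    show (diagAut hD (rcChar_isRootCharacter hD p.1) * gOf p.2.1 * fOf p.2.2) _ = _
    rw [MulAut.mul_apply, MulAut.mul_apply, hfOf _ _ _ (StdAut.simple_lt hD i),
      (hgOf _ i _).1, diagAut_xEl hD _ (StdAut.simple_lt hD _), rcChar_simple hD]
  have hΞ2 : ∀ p (i : Fin D.rank) (t : F), (Ξ p).1 (xEl hD (D.neg (D.simple i)) t) =
      xEl hD (D.neg (D.simple (p.2.1.1 i))) (((p.1 (p.2.1.1 i))⁻¹ : Fˣ) *
        (p.2.2 t) ^ D.graphExp (ringChar F) i (p.2.1.1 i)) := by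
    intro p i t
    show (diagAut hD (rcChar_isRootCharacter hD p.1) * gOf p.2.1 * fOf p.2.2) _ = _
    rw [MulAut.mul_apply, MulAut.mul_apply, hfOf _ _ _ (StdAut.neg_simple_lt hD i),
      (hgOf _ i _).2, diagAut_xEl hD _ (StdAut.neg_simple_lt hD _), rcChar_neg_simple hD]
  have hbij : Function.Bijective Ξ := by
    constructor
    · rintro ⟨c, ⟨π, hπ⟩, σ⟩ ⟨c', ⟨π', hπ'⟩, σ'⟩ h
      have h' : (Ξ (c, ⟨π, hπ⟩, σ)).1 = (Ξ (c', ⟨π', hπ'⟩, σ')).1 := congrArg Subtype.val h
      have key : ∀ (i : Fin D.rank) (t : F),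
          (xEl hD (D.simple (π i)) ((c (π i) : F) *
            (σ t) ^ D.graphExp (ringChar F) i (π i)) : ↥(D.group F)) =
            xEl hD (D.simple (π' i)) ((c' (π' i) : F) *
              (σ' t) ^ D.graphExp (ringChar F) i (π' i)) := by
        intro i t
        have := hΞ1 (c, ⟨π, hπ⟩, σ) i t
        rw [h', hΞ1 (c', ⟨π', hπ'⟩, σ') i t] at this
        exact this.symm
      have hπeq : π = π' := by
        apply Equiv.ext
        intro i
        have := key i 1
        rw [map_one, map_one, one_pow, one_pow, mul_one, mul_one] at this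
        exact (simple_eq_of_xEl_eq hD (Units.ne_zero _) this).symm
      subst hπeq
      have hceq : c = c' := by
        funext j
        obtain ⟨i, rfl⟩ := π.surjective j
        have := xEl_inj hD (StdAut.simple_lt hD _) (key i 1)
        rw [map_one, map_one, one_pow, mul_one, mul_one] at this
        exact Units.ext this
      subst hceq
      have hσeq : σ = σ' := by
        apply RingEquiv.ext
        intro t
        have i : Fin D.rank := ⟨0, rank_pos_of_mem hD⟩
        have := xEl_inj hD (StdAut.simple_lt hD _) (key i t)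
        exact pow_graphExp_inj D i (π i) (mul_left_cancel₀ (Units.ne_zero _) this)
      subst hσeq
      rfl
    · rintro ⟨θ, hθ⟩
      obtain ⟨χ, hχ, g, f, hg, hf, e⟩ := decomp_of_pres hD hN hθ.1 hθ.2
      obtain ⟨π, hπ, hgx⟩ := actsAsGraph_of_isGraphAut hD hg
      obtain ⟨σ, hfx⟩ := fieldAut_xEl hD hf
      have hgmem' : g ∈ presSub D F := by
        have e2 : g = (diagAut hD hχ)⁻¹ * θ * f⁻¹ := by
          rw [e]; group
        rw [e2]
        exact mul_mem (mul_mem (inv_mem (diagAut_mem_presSub hD hχ)) hθ)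
          (inv_mem (fieldAut_mem_presSub hf))
      refine ⟨(fun j => χ (D.simple j), ⟨π, hπ, g, hgmem', hgx⟩, σ), ?_⟩
      apply Subtype.ext
      show (Ξ _).1 = θ
      apply aut_ext_fund hD
      · intro i t
        rw [hΞ1, e, MulAut.mul_apply, MulAut.mul_apply, hfx _ _ (StdAut.simple_lt hD i),
          (hgx i _).1, diagAut_xEl hD hχ (StdAut.simple_lt hD _)]
      · intro i t
        rw [hΞ2, e, MulAut.mul_apply, MulAut.mul_apply, hfx _ _ (StdAut.neg_simple_lt hD i),
          (hgx i _).2, diagAut_xEl hD hχ (StdAut.neg_simple_lt hD _),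
          hχ.1 _ (StdAut.simple_lt hD _)]
  rw [← Nat.card_eq_of_bijective Ξ hbij, Nat.card_prod, Nat.card_prod, Nat.card_fun,
    Nat.card_eq_fintype_card (α := Fˣ), Fintype.card_units, Nat.card_eq_fintype_card (α := Fin D.rank),
    Fintype.card_fin, mul_assoc]

/-- the facts on the conjugations by elements of `H`, for all seven types -/
theorem diagConj_of_mem [Finite F]
    (hD : D ∈ [chevG2, chevB2, chevD4, chevF4, chevE6, chevE7, chevE8]) : DiagConj D F :=
  ⟨fun x hU hV => Cfsg.Agent.Lib.Helper10.ChevDiagConj.conj_pres_mem_diagonal hD x hU hV,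
    fun x hx => Cfsg.Agent.Lib.Helper10.ChevDiagConj.pres_conj_of_mem_diagonal hD x hx,
    fun x hx h => Cfsg.Agent.Lib.Helper10.ChevDiagConj.eq_one_of_conj_eq_one hD x hx h⟩

/-- the order of the outer automorphism group -/
theorem card_out_gen [Fintype F] (p f : ℕ) [Fact p.Prime] [CharP F p]
    (hF : Fintype.card F = p ^ f)
    (hD : D ∈ [chevG2, chevB2, chevD4, chevF4, chevE6, chevE7, chevE8])
    (hN : NormalForm hD F) (d : ℕ)
    (hd : d * Nat.card (D.diagonalSubgroup F) = (p ^ f - 1) ^ D.rank) :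
    Nat.card (Cfsg.Out ↥(D.group F)) = d * Nat.card (RealSym hD F) * f := by
  have V := valid0_of_mem hD
  have V1 := valid1_of_mem hD
  have hC : DiagConj D F := diagConj_of_mem hD
  have hA := card_presSub_gen hD hN
  rw [card_ringAut_pf p f hF, hF] at hA
  have hO := Cfsg.Agent.Lib.Helper27.OutCount.card_out_mul (presSub D F)
    ((D.diagonalSubgroup F).subgroupOf (D.group F))
    (fun θ => exists_adjust p hD θ)
    (fun x hx => Subgroup.mem_subgroupOf.mpr (hC.mem x hx.1 hx.2))
    (fun x hx => hC.pres x (Subgroup.mem_subgroupOf.mp hx))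
    (fun x hx h => hC.inj x (Subgroup.mem_subgroupOf.mp hx) h)
  have hH : Nat.card ((D.diagonalSubgroup F).subgroupOf (D.group F)) =
      Nat.card (D.diagonalSubgroup F) :=
    Nat.card_congr (Subgroup.subgroupOfEquivOfLe (diagonal_le_group V V1)).toEquiv
  rw [hH, hA, ← hd] at hO
  have hpos : 0 < Nat.card (D.diagonalSubgroup F) := Nat.card_pos
  apply Nat.eq_of_mul_eq_mul_right hpos
  rw [hO]
  ring

end

end Cfsg.Agent.Lib.Helper27.ChevOut
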