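import Cfsg.Agent.Lib.Helper27.ChevOutA
import Cfsg.Agent.Lib.Helper10.ChevDiagAut

set_option autoImplicit false

/-! The permutation of the nodes induced by an automorphism preserving `U` and `V`: a
homomorphism whose kernel is generated by the diagonal and the field automorphisms and whose
range is the set of realised symmetries. -/

namespace Cfsg.Agent.Lib.Helper27.ChevOut

open Cfsg Cfsg.Lie Matrix Cfsg.Agent.Lib.Helper3 Cfsg.Agent.Lib.Helper8.Chev
open Cfsg.Agent.Lib.Helper10.ChevDiagAut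

section

variable {D : ChevalleyDatum} {F : Type*} [Field F] [Finite F]

/-- the standard form of an automorphism preserving `U` and `V` -/
noncomputable def stdOf (hD : D ∈ [chevG2, chevB2, chevD4, chevF4, chevE6, chevE7, chevE8])
    (θ : ↥(presSub D F)) : StdAut hD (θ : MulAut ↥(D.group F)) :=
  (exists_stdAut hD θ.2.1 θ.2.2).some

/-- the permutation of the nodes -/
noncomputable def rhoOf (hD : D ∈ [chevG2, chevB2, chevD4, chevF4, chevE6, chevE7, chevE8])
    (θ : ↥(presSub D F)) : Equiv.Perm (Fin D.rank) := (stdOf hD θ).ρ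

theorem rhoOf_unique (hD : D ∈ [chevG2, chevB2, chevD4, chevF4, chevE6, chevE7, chevE8])
    (θ : ↥(presSub D F)) (i j : Fin D.rank) {t u : F} (ht : t ≠ 0)
    (h : (θ : MulAut ↥(D.group F)) (xEl hD (D.simple i) t) = xEl hD (D.simple j) u) :
    rhoOf hD θ i = j := by
  have h1 := (stdOf hD θ).hf i t
  rw [h] at h1
  have h2 := simple_eq_of_xEl_eq hD ((stdOf hD θ).f_ne_zero i ht) h1.symm
  exact h2.symm

theorem rhoOf_mul (hD : D ∈ [chevG2, chevB2, chevD4, chevF4, chevE6, chevE7, chevE8])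
    (θ θ' : ↥(presSub D F)) : rhoOf hD (θ * θ') = rhoOf hD θ * rhoOf hD θ' := by
  apply Equiv.ext
  intro i
  apply rhoOf_unique hD (θ * θ') i _ (one_ne_zero (α := F))
  show ((θ : MulAut ↥(D.group F)) * (θ' : MulAut ↥(D.group F))) _ = _
  rw [MulAut.mul_apply, (stdOf hD θ').hf, (stdOf hD θ).hf]
  rfl

/-- the homomorphism to the permutations of the nodes -/
noncomputable def rhoHom (hD : D ∈ [chevG2, chevB2, chevD4, chevF4, chevE6, chevE7, chevE8])
    (F : Type*) [Field F] [Finite F] : ↥(presSub D F) →* Equiv.Perm (Fin D.rank) :=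
  MonoidHom.mk' (rhoOf hD) (rhoOf_mul hD)

theorem rhoHom_apply (hD : D ∈ [chevG2, chevB2, chevD4, chevF4, chevE6, chevE7, chevE8])
    (θ : ↥(presSub D F)) : rhoHom hD F θ = rhoOf hD θ := rfl

theorem rhoOf_of_actsAsGraph (hD : D ∈ [chevG2, chevB2, chevD4, chevF4, chevE6, chevE7, chevE8])
    (θ : ↥(presSub D F)) {π : Equiv.Perm (Fin D.rank)}
    (h : ActsAsGraph hD π (θ : MulAut ↥(D.group F))) : rhoOf hD θ = π := by
  apply Equiv.ext
  intro i
  exact rhoOf_unique hD θ i _ (one_ne_zero (α := F)) (h i 1).1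

theorem rhoOf_diagAut (hD : D ∈ [chevG2, chevB2, chevD4, chevF4, chevE6, chevE7, chevE8])
    {χ : ℕ → Fˣ} (hχ : D.IsRootCharacter χ) :
    rhoOf hD (⟨diagAut hD hχ, diagAut_mem_presSub hD hχ⟩ : ↥(presSub D F)) = 1 := by
  apply Equiv.ext
  intro i
  apply rhoOf_unique hD _ i _ (one_ne_zero (α := F))
  exact diagAut_xEl hD hχ (StdAut.simple_lt hD i) 1

theorem rhoOf_fieldAut (hD : D ∈ [chevG2, chevB2, chevD4, chevF4, chevE6, chevE7, chevE8])
    {α : MulAut ↥(D.group F)} (hα : D.IsFieldAut α) :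
    rhoOf hD (⟨α, fieldAut_mem_presSub hα⟩ : ↥(presSub D F)) = 1 := by
  obtain ⟨σ, hσ⟩ := fieldAut_xEl hD hα
  apply Equiv.ext
  intro i
  apply rhoOf_unique hD _ i _ (one_ne_zero (α := F))
  exact hσ _ 1 (StdAut.simple_lt hD i)

/-- the decomposition with the graph part inside `presSub` -/
theorem decomp_mem (hD : D ∈ [chevG2, chevB2, chevD4, chevF4, chevE6, chevE7, chevE8])
    (hN : NormalForm hD F) (θ : ↥(presSub D F)) :
    ∃ (χ : ℕ → Fˣ) (hχ : D.IsRootCharacter χ) (g f : MulAut ↥(D.group F))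
      (π : Equiv.Perm (Fin D.rank)), D.IsDiagramSymmetry π ∧ ActsAsGraph hD π g ∧
      g ∈ presSub D F ∧ D.IsFieldAut f ∧
      (θ : MulAut ↥(D.group F)) = diagAut hD hχ * g * f ∧ rhoOf hD θ = π := by
  obtain ⟨χ, hχ, g, f, hg, hf, e⟩ := decomp_of_pres hD hN θ.2.1 θ.2.2
  obtain ⟨π, hπ, hgx⟩ := actsAsGraph_of_isGraphAut hD hg
  obtain ⟨σ, hfx⟩ := fieldAut_xEl hD hf
  have hgmem : g ∈ presSub D F := by
    have e2 : g = (diagAut hD hχ)⁻¹ * (θ : MulAut ↥(D.group F)) * f⁻¹ := by
      rw [e]; group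
    rw [e2]
    exact mul_mem (mul_mem (inv_mem (diagAut_mem_presSub hD hχ)) θ.2)
      (inv_mem (fieldAut_mem_presSub hf))
  refine ⟨χ, hχ, g, f, π, hπ, hgx, hgmem, hf, e, ?_⟩
  apply Equiv.ext
  intro i
  apply rhoOf_unique hD θ i _ (one_ne_zero (α := F))
  rw [e, MulAut.mul_apply, MulAut.mul_apply, hfx _ _ (StdAut.simple_lt hD i), (hgx i _).1,
    diagAut_xEl hD hχ (StdAut.simple_lt hD _)]

theorem graphExp_self' (D : ChevalleyDatum) (c i : ℕ) : D.graphExp c i i = 1 := by
  unfold ChevalleyDatum.graphExp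
  cases D.isLong (D.simple i) <;> simp

/-- the subgroup generated by the diagonal and the field automorphisms -/
def diagField (D : ChevalleyDatum) (F : Type*) [Field F] : Subgroup (MulAut ↥(D.group F)) :=
  Subgroup.closure {φ : MulAut ↥(D.group F) | D.IsDiagonalAut φ} ⊔
    Subgroup.closure {φ : MulAut ↥(D.group F) | D.IsFieldAut φ}

theorem isDiagonalAut_mem_presSub
    (hD : D ∈ [chevG2, chevB2, chevD4, chevF4, chevE6, chevE7, chevE8])
    {d : MulAut ↥(D.group F)} (hd : D.IsDiagonalAut d) : d ∈ presSub D F := by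
  obtain ⟨χ, hχ, rfl⟩ := eq_diagAut_of_isDiagonalAut hD hd
  exact diagAut_mem_presSub hD hχ

theorem diagField_le_presSub
    (hD : D ∈ [chevG2, chevB2, chevD4, chevF4, chevE6, chevE7, chevE8]) :
    diagField D F ≤ presSub D F := by
  unfold diagField
  apply sup_le
  · rw [Subgroup.closure_le]
    intro d hd
    exact isDiagonalAut_mem_presSub hD hd
  · rw [Subgroup.closure_le]
    intro f hf
    exact fieldAut_mem_presSub hf

/-- the kernel of the node permutation -/
theorem diagField_subgroupOf_eq_ker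
    (hD : D ∈ [chevG2, chevB2, chevD4, chevF4, chevE6, chevE7, chevE8])
    (hN : NormalForm hD F) :
    (diagField D F).subgroupOf (presSub D F) = (rhoHom hD F).ker := by
  apply le_antisymm
  · -- generators are in the kernel
    have h1 : diagField D F ≤ ((rhoHom hD F).ker).map (presSub D F).subtype := by
      unfold diagField
      apply sup_le
      · rw [Subgroup.closure_le]
        intro d hd
        obtain ⟨χ, hχ, rfl⟩ := eq_diagAut_of_isDiagonalAut hD hd
        refine ⟨⟨diagAut hD hχ, diagAut_mem_presSub hD hχ⟩, ?_, rfl⟩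
        show rhoHom hD F _ = 1
        exact rhoOf_diagAut hD hχ
      · rw [Subgroup.closure_le]
        intro f hf
        refine ⟨⟨f, fieldAut_mem_presSub hf⟩, ?_, rfl⟩
        show rhoHom hD F _ = 1
        exact rhoOf_fieldAut hD hf
    intro θ hθ
    obtain ⟨θ', hθ', e⟩ := h1 (Subgroup.mem_subgroupOf.1 hθ)
    have : θ' = θ := Subtype.ext e
    rw [← this]
    exact hθ'
  · intro θ hθ
    have hρ : rhoOf hD θ = 1 := hθ
    obtain ⟨χ, hχ, g, f, π, hπ, hgx, hgmem, hf, e, hρπ⟩ := decomp_mem hD hN θ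
    have hπ1 : π = 1 := hρπ.symm.trans hρ
    subst hπ1
    have hg1 : g = 1 := by
      apply aut_ext_fund hD
      · intro i t
        rw [(hgx i t).1, Equiv.Perm.one_apply, graphExp_self', pow_one, MulAut.one_apply]
      · intro i t
        rw [(hgx i t).2, Equiv.Perm.one_apply, graphExp_self', pow_one, MulAut.one_apply]
    rw [hg1, mul_one] at e
    apply Subgroup.mem_subgroupOf.2
    rw [e]
    unfold diagField
    exact mul_mem (Subgroup.mem_sup_left (Subgroup.subset_closure (isDiagonalAut_diagAut hD hχ)))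
      (Subgroup.mem_sup_right (Subgroup.subset_closure hf))

/-- the range of the node permutation -/
theorem range_rhoHom
    (hD : D ∈ [chevG2, chevB2, chevD4, chevF4, chevE6, chevE7, chevE8])
    (hN : NormalForm hD F) :
    ((rhoHom hD F).range : Set (Equiv.Perm (Fin D.rank))) = RealSym hD F := by
  ext π
  constructor
  · rintro ⟨θ, rfl⟩
    obtain ⟨χ, hχ, g, f, π, hπ, hgx, hgmem, hf, e, hρπ⟩ := decomp_mem hD hN θ
    show rhoOf hD θ ∈ RealSym hD F
    rw [hρπ]
    exact ⟨hπ, g, hgmem, hgx⟩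
  · rintro ⟨hπ, g, hgmem, hgx⟩
    exact ⟨⟨g, hgmem⟩, rhoOf_of_actsAsGraph hD ⟨g, hgmem⟩ hgx⟩

theorem card_range_rhoHom
    (hD : D ∈ [chevG2, chevB2, chevD4, chevF4, chevE6, chevE7, chevE8])
    (hN : NormalForm hD F) :
    Nat.card (rhoHom hD F).range = Nat.card (RealSym hD F) := by
  have := range_rhoHom hD hN
  exact Nat.card_congr (Equiv.setCongr this)

end

end Cfsg.Agent.Lib.Helper27.ChevOut
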