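import Cfsg.Agent.Lib.Helper27.ChevOutA
import Cfsg.Agent.Lib.Helper26.ChevNsl9

set_option autoImplicit false

/-! The realised symmetries of the diagrams of types `G₂` and `F₄`. -/

namespace Cfsg.Agent.Lib.Helper27.ChevOut

open Cfsg Cfsg.Lie Matrix Cfsg.Agent.Lib.Helper3 Cfsg.Agent.Lib.Helper8.Chev
open Cfsg.Agent.Lib.Helper26.ChevNsl

section

variable {D : ChevalleyDatum} {F : Type*} [Field F]

/-- the standard form of an automorphism acting as a graph automorphism -/
noncomputable def stdOfGraph (hD : D ∈ [chevG2, chevB2, chevD4, chevF4, chevE6, chevE7, chevE8])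
    {π : Equiv.Perm (Fin D.rank)} {g : MulAut ↥(D.group F)} (h : ActsAsGraph hD π g) :
    StdAut hD g where
  ρ := π
  f := fun i t => t ^ D.graphExp (ringChar F) i (π i)
  g := fun i t => t ^ D.graphExp (ringChar F) i (π i)
  hf := fun i t => (h i t).1
  hg := fun i t => (h i t).2

theorem one_mem_realSym [Finite F]
    (hD : D ∈ [chevG2, chevB2, chevD4, chevF4, chevE6, chevE7, chevE8]) :
    (1 : Equiv.Perm (Fin D.rank)) ∈ RealSym hD F := by
  refine ⟨fun i j _ => rfl, 1, one_mem _, fun i t => ⟨?_, ?_⟩⟩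
  · rw [MulAut.one_apply, Equiv.Perm.one_apply, graphExp_self, pow_one]
  · rw [MulAut.one_apply, Equiv.Perm.one_apply, graphExp_self, pow_one]

theorem card_singleton_one (R : Set (Equiv.Perm (Fin D.rank))) (h : R = {1}) : Nat.card R = 1 := by
  rw [h]
  exact Nat.card_unique

end

section G2

variable {F : Type*} [Field F] [Finite F]

theorem mem7_G2 : chevG2 ∈ [chevG2, chevB2, chevD4, chevF4, chevE6, chevE7, chevE8] := by simp
theorem mem7_F4 : chevF4 ∈ [chevG2, chevB2, chevD4, chevF4, chevE6, chevE7, chevE8] := by simp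

theorem realSym_G2_of_ne (h3 : ringChar F ≠ 3) (h2 : Nat.card F ≠ 2) :
    RealSym mem7_G2 F = {1} := by
  ext π
  simp only [Set.mem_singleton_iff]
  constructor
  · rintro ⟨-, g, -, hg⟩
    by_contra hne
    have := char_G2_of_ne_one (stdOfGraph mem7_G2 hg) (fun i => one_pow _) hne
    rcases this with h | h
    · exact h3 h
    · exact h2 h
  · rintro rfl
    exact one_mem_realSym mem7_G2

/-- the two permutations of the nodes of `G₂` -/
theorem g2_perm_cases (π : Equiv.Perm (Fin chevG2.rank)) : π = 1 ∨ π = Equiv.swap g2i0 g2i1 := by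
  revert π
  decide

theorem realSym_G2_of_swap
    (hs : ∃ g ∈ presSub chevG2 F, ActsAsGraph mem7_G2 (Equiv.swap g2i0 g2i1) g) :
    RealSym mem7_G2 F = Set.univ := by
  ext π
  simp only [Set.mem_univ, iff_true]
  rcases g2_perm_cases π with rfl | rfl
  · exact one_mem_realSym mem7_G2
  · exact ⟨diagSym_G2 _, hs⟩

theorem card_perm_G2 : Nat.card (Equiv.Perm (Fin chevG2.rank)) = 2 := by
  rw [Nat.card_eq_fintype_card, Fintype.card_perm, Fintype.card_fin]
  rfl

end G2

section F4

variable {F : Type*} [Field F] [Finite F]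

theorem realSym_F4_of_ne (h2 : ringChar F ≠ 2) : RealSym mem7_F4 F = {1} := by
  ext π
  simp only [Set.mem_singleton_iff]
  constructor
  · rintro ⟨-, g, -, hg⟩
    by_contra hne
    exact h2 (char_F4_of_ne_one (stdOfGraph mem7_F4 hg) (fun i => one_pow _) hne)
  · rintro rfl
    exact one_mem_realSym mem7_F4

theorem realSym_F4_of_rev
    (hs : ∃ g ∈ presSub chevF4 F, ActsAsGraph mem7_F4 (Fin.revPerm : Equiv.Perm (Fin chevF4.rank)) g) :
    RealSym mem7_F4 F = {1, Fin.revPerm} := by
  ext π
  simp only [Set.mem_insert_iff, Set.mem_singleton_iff]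
  constructor
  · rintro ⟨-, g, -, hg⟩
    rcases rho_F4 (stdOfGraph mem7_F4 hg) (fun i => one_pow _) with h | h
    · left
      ext i
      have := h i
      exact congrArg Fin.val this
    · right
      ext i
      have := h i
      exact congrArg Fin.val this
  · rintro (rfl | rfl)
    · exact one_mem_realSym mem7_F4
    · exact ⟨f4_sym_rev _ (fun i => rfl), hs⟩

theorem f4_rev_ne_one : (Fin.revPerm : Equiv.Perm (Fin chevF4.rank)) ≠ 1 := by
  decide

theorem card_pair_F4 :
    Nat.card ({1, Fin.revPerm} : Set (Equiv.Perm (Fin chevF4.rank))) = 2 := by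
  rw [Nat.card_eq_two_iff]
  refine ⟨⟨1, by simp⟩, ⟨Fin.revPerm, by simp⟩, ?_, ?_⟩
  · intro h
    exact f4_rev_ne_one (congrArg Subtype.val h).symm
  · ext ⟨π, hπ⟩
    simp only [Set.mem_insert_iff, Set.mem_singleton_iff, Set.mem_univ, iff_true]
    rcases hπ with h | h
    · left; exact Subtype.ext h
    · right; exact Subtype.ext h

end F4

end Cfsg.Agent.Lib.Helper27.ChevOut
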