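import Cfsg.Agent.Lib.Helper27.ChevOutB
import Cfsg.Agent.Lib.Helper25.OutQuot
import Cfsg.Agent.Lib.Helper25.DiagComm
import Cfsg.Agent.Lib.Helper26.ChevFieldCyc
import Cfsg.Prelude.Def_KGroupFacts

set_option autoImplicit false

/-! The structure of the outer automorphism group: the generic part. -/

namespace Cfsg.Agent.Lib.Helper27.ChevOut

open Cfsg Cfsg.Lie Matrix Cfsg.Agent.Lib.Helper3 Cfsg.Agent.Lib.Helper8.Chev
open Cfsg.Agent.Lib.Helper25.S2159 Cfsg.Agent.Lib.Helper10.ChevDiagAut Cfsg.Agent.Lib.Helper26.ChevFieldCyc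
open scoped commutatorElement

section

variable {D : ChevalleyDatum} {F : Type*} [Field F] [Finite F]

theorem exists_inn_mul_mem (hD : D ∈ [chevG2, chevB2, chevD4, chevF4, chevE6, chevE7, chevE8])
    (a : MulAut ↥(D.group F)) : ∃ n ∈ Cfsg.Inn ↥(D.group F), n * a ∈ presSub D F := by
  have : Fintype F := Fintype.ofFinite F
  have : Fact (ringChar F).Prime := ⟨CharP.char_is_prime F (ringChar F)⟩
  obtain ⟨x, hU, hV⟩ := exists_adjust (ringChar F) hD a
  exact ⟨MulAut.conj x, ⟨x, rfl⟩, hU, hV⟩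

theorem conj_mem_closure_diag (hD : D ∈ [chevG2, chevB2, chevD4, chevF4, chevE6, chevE7, chevE8])
    (hN : NormalForm hD F) :
    ∀ θ ∈ presSub D F, ∀ k ∈ Subgroup.closure {φ : MulAut ↥(D.group F) | D.IsDiagonalAut φ},
      θ * k * θ⁻¹ ∈ Subgroup.closure {φ : MulAut ↥(D.group F) | D.IsDiagonalAut φ} := by
  intro θ hθ
  apply conj_mem_closure
  intro d hd
  exact Subgroup.subset_closure (conj_isDiagonalAut hD hN hθ hd)

theorem conj_mem_diagField (hD : D ∈ [chevG2, chevB2, chevD4, chevF4, chevE6, chevE7, chevE8])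
    (hN : NormalForm hD F) :
    ∀ θ ∈ presSub D F, ∀ k ∈ diagField D F, θ * k * θ⁻¹ ∈ diagField D F := by
  intro θ hθ k hk
  have hkP : k ∈ presSub D F := diagField_le_presSub hD hk
  have h1 : (⟨k, hkP⟩ : ↥(presSub D F)) ∈ (rhoHom hD F).ker := by
    rw [← diagField_subgroupOf_eq_ker hD hN]
    exact Subgroup.mem_subgroupOf.2 hk
  have h2 : (⟨θ, hθ⟩ : ↥(presSub D F)) * ⟨k, hkP⟩ * (⟨θ, hθ⟩ : ↥(presSub D F))⁻¹ ∈
      (rhoHom hD F).ker := (MonoidHom.normal_ker _).conj_mem _ h1 _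
  rw [← diagField_subgroupOf_eq_ker hD hN] at h2
  exact Subgroup.mem_subgroupOf.1 h2

theorem presSub_inf_inn_le (hD : D ∈ [chevG2, chevB2, chevD4, chevF4, chevE6, chevE7, chevE8]) :
    presSub D F ⊓ Cfsg.Inn ↥(D.group F) ≤ diagField D F := by
  rintro a ⟨haP, x, rfl⟩
  have := isDiagonalAut_conj_of_mem_presSub hD x haP
  exact Subgroup.mem_sup_left (Subgroup.subset_closure this)

theorem isCyclic_map_of_isCyclic {G H : Type*} [Group G] [Group H] (f : G →* H) (K : Subgroup G)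
    [IsCyclic ↥K] : IsCyclic ↥(K.map f) :=
  isCyclic_of_surjective (f.subgroupMap K) (f.subgroupMap_surjective K)

/-- the structure of the outer automorphism group, generic part -/
theorem out_structure_gen (hD : D ∈ [chevG2, chevB2, chevD4, chevF4, chevE6, chevE7, chevE8])
    (hN : NormalForm hD F)
    (Dbar Fbar : Subgroup (Cfsg.Out ↥(D.group F)))
    (hDbar : Dbar = (Subgroup.closure {φ : MulAut ↥(D.group F) | D.IsDiagonalAut φ}).map
      (QuotientGroup.mk' (Cfsg.Inn ↥(D.group F))))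
    (hFbar : Fbar = (Subgroup.closure {φ : MulAut ↥(D.group F) | D.IsFieldAut φ}).map
      (QuotientGroup.mk' (Cfsg.Inn ↥(D.group F)))) :
    Dbar.Normal ∧ IsMulCommutative ↥Dbar ∧ IsCyclic ↥Fbar ∧ (Dbar ⊔ Fbar).Normal ∧
      (Dbar ⊔ Fbar).index = Nat.card (RealSym hD F) ∧
      (commutator (Cfsg.Out ↥(D.group F)) ≤ Dbar ⊔ Fbar →
        ∀ π₁ ∈ RealSym hD F, ∀ π₂ ∈ RealSym hD F, π₁ * π₂ = π₂ * π₁) := by
  have hPN := exists_inn_mul_mem (F := F) hD
  have hsup : Dbar ⊔ Fbar = (diagField D F).map (QuotientGroup.mk' (Cfsg.Inn ↥(D.group F))) := by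
    rw [hDbar, hFbar, ← Subgroup.map_sup]
    rfl
  refine ⟨?_, ?_, ?_, ?_, ?_, ?_⟩
  · rw [hDbar]
    exact map_mk_normal _ (presSub D F) _ hPN (conj_mem_closure_diag hD hN)
  · rw [hDbar]
    exact isMulCommutative_map_closure_diagonal D _
  · rw [hFbar]
    haveI := isCyclic_closure_fieldAut (F := F) hD
    exact isCyclic_map_of_isCyclic _ _
  · rw [hsup]
    exact map_mk_normal _ (presSub D F) _ hPN (conj_mem_diagField hD hN)
  · rw [hsup, index_map_mk _ (presSub D F) _ hPN (diagField_le_presSub hD)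
      (presSub_inf_inn_le hD),
      index_ker_eq_card_range (presSub D F) (diagField D F) (rhoHom hD F)
        (diagField_subgroupOf_eq_ker hD hN), card_range_rhoHom hD hN]
  · intro hcomm π₁ h₁ π₂ h₂
    rw [hsup] at hcomm
    have key := commutator_mem_of_le _ (presSub D F) _ (diagField_le_presSub hD)
      (presSub_inf_inn_le hD) hcomm
    obtain ⟨-, g₁, hg₁, ha₁⟩ := h₁
    obtain ⟨-, g₂, hg₂, ha₂⟩ := h₂
    have h := key g₁ hg₁ g₂ hg₂
    have h1 : (⁅(⟨g₁, hg₁⟩ : ↥(presSub D F)), ⟨g₂, hg₂⟩⁆ : ↥(presSub D F)) ∈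
        (rhoHom hD F).ker := by
      rw [← diagField_subgroupOf_eq_ker hD hN]
      exact Subgroup.mem_subgroupOf.2 h
    have h2 : rhoHom hD F ⁅(⟨g₁, hg₁⟩ : ↥(presSub D F)), ⟨g₂, hg₂⟩⁆ = 1 := h1
    rw [map_commutatorElement, rhoHom_apply, rhoHom_apply,
      rhoOf_of_actsAsGraph hD ⟨g₁, hg₁⟩ ha₁, rhoOf_of_actsAsGraph hD ⟨g₂, hg₂⟩ ha₂,
      commutatorElement_eq_one_iff_mul_comm] at h2
    exact h2

end

end Cfsg.Agent.Lib.Helper27.ChevOut
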