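import Cfsg.Agent.Lib.Helper27.ChevOutD
import Cfsg.Agent.Lib.Helper27.ChevOutC
import Cfsg.Agent.Lib.Helper8.ChevAu30

set_option autoImplicit false

/-! The structure of the outer automorphism group: the number of realised symmetries by type. -/

namespace Cfsg.Agent.Lib.Helper27.ChevOut

open Cfsg Cfsg.Lie Matrix Cfsg.Agent.Lib.Helper3 Cfsg.Agent.Lib.Helper8.Chev
open Cfsg.Agent.Lib.Helper26.ChevNsl

section

variable {D : ChevalleyDatum} {F : Type*} [Field F] [Finite F]

theorem card_realSym_one_or_two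
    (hD : D ∈ [chevG2, chevB2, chevD4, chevF4, chevE6, chevE7, chevE8])
    (S : Set (Equiv.Perm (Fin D.rank))) (hS : RealSym hD F ⊆ S) (hc : Nat.card S ≤ 2) :
    Nat.card (RealSym hD F) = 1 ∨ Nat.card (RealSym hD F) = 2 := by
  have h1 : Nat.card (RealSym hD F) ≤ Nat.card S := Nat.card_mono (Set.toFinite S) hS
  have h2 : 0 < Nat.card (RealSym hD F) := by
    haveI : Nonempty ↥(RealSym hD F) := ⟨⟨1, one_mem_realSym hD⟩⟩
    exact Nat.card_pos
  omega

theorem realSym_subset_sym (hD : D ∈ [chevG2, chevB2, chevD4, chevF4, chevE6, chevE7, chevE8]) :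
    RealSym hD F ⊆ {π | D.IsDiagramSymmetry π} := fun _ h => h.1

theorem card_univ_perm_two {n : ℕ} (hn : n = 2) :
    Nat.card (Set.univ : Set (Equiv.Perm (Fin n))) ≤ 2 := by
  subst hn
  rw [Nat.card_congr (Equiv.Set.univ _), Nat.card_eq_fintype_card, Fintype.card_perm,
    Fintype.card_fin]
  decide

theorem mem7_B2 : chevB2 ∈ [chevG2, chevB2, chevD4, chevF4, chevE6, chevE7, chevE8] := by simp

theorem card_realSym_G2 (hD : chevG2 ∈ [chevG2, chevB2, chevD4, chevF4, chevE6, chevE7, chevE8]) :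
    Nat.card (RealSym hD F) = 1 ∨ Nat.card (RealSym hD F) = 2 :=
  card_realSym_one_or_two hD Set.univ (Set.subset_univ _) (card_univ_perm_two rfl)

theorem card_realSym_B2 (hD : chevB2 ∈ [chevG2, chevB2, chevD4, chevF4, chevE6, chevE7, chevE8]) :
    Nat.card (RealSym hD F) = 1 ∨ Nat.card (RealSym hD F) = 2 :=
  card_realSym_one_or_two hD Set.univ (Set.subset_univ _) (card_univ_perm_two rfl)

theorem card_realSym_F4 (hD : chevF4 ∈ [chevG2, chevB2, chevD4, chevF4, chevE6, chevE7, chevE8]) :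
    Nat.card (RealSym hD F) = 1 ∨ Nat.card (RealSym hD F) = 2 := by
  apply card_realSym_one_or_two hD ({1, Fin.revPerm} : Set (Equiv.Perm (Fin chevF4.rank)))
  · rintro π ⟨-, g, -, hg⟩
    simp only [Set.mem_insert_iff, Set.mem_singleton_iff]
    rcases rho_F4 (stdOfGraph hD hg) (fun i => one_pow _) with h | h
    · left
      ext i
      exact congrArg Fin.val (h i)
    · right
      ext i
      exact congrArg Fin.val (h i)
  · exact le_of_eq card_pair_F4

theorem card_realSym_E6 (hD : chevE6 ∈ [chevG2, chevB2, chevD4, chevF4, chevE6, chevE7, chevE8]) :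
    Nat.card (RealSym hD F) = 1 ∨ Nat.card (RealSym hD F) = 2 := by
  apply card_realSym_one_or_two hD {π | chevE6.IsDiagramSymmetry π} (realSym_subset_sym hD)
  exact le_of_eq card_sym_E6

theorem card_realSym_E7 (hD : chevE7 ∈ [chevG2, chevB2, chevD4, chevF4, chevE6, chevE7, chevE8]) :
    Nat.card (RealSym hD F) = 1 := by
  apply card_singleton_one
  ext π
  simp only [Set.mem_singleton_iff]
  constructor
  · intro h
    exact Cfsg.Agent.Lib.Helper23.DiagSym.diagSym_E7 π h.1
  · rintro rfl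
    exact one_mem_realSym hD

theorem card_realSym_E8 (hD : chevE8 ∈ [chevG2, chevB2, chevD4, chevF4, chevE6, chevE7, chevE8]) :
    Nat.card (RealSym hD F) = 1 := by
  apply card_singleton_one
  ext π
  simp only [Set.mem_singleton_iff]
  constructor
  · intro h
    exact Cfsg.Agent.Lib.Helper23.DiagSym.diagSym_E8 π h.1
  · rintro rfl
    exact one_mem_realSym hD

theorem realSym_D4 (hD : chevD4 ∈ [chevG2, chevB2, chevD4, chevF4, chevE6, chevE7, chevE8]) :
    RealSym hD F = {π | chevD4.IsDiagramSymmetry π} := by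
  apply Set.Subset.antisymm (realSym_subset_sym hD)
  intro π hπ
  obtain ⟨g, hg, h⟩ := graphReal_D4 (F := F) π hπ
  refine ⟨hπ, g, hg, fun i t => ?_⟩
  rw [graphExp_eq_one mem4_D4 _ _ (π i).isLt, pow_one]
  exact h i t

theorem card_realSym_D4 (hD : chevD4 ∈ [chevG2, chevB2, chevD4, chevF4, chevE6, chevE7, chevE8]) :
    Nat.card (RealSym hD F) = 6 := by
  rw [realSym_D4 hD]
  exact card_sym_D4

/-- the structure of the outer automorphism group -/
theorem out_structure (hD : D ∈ [chevG2, chevB2, chevD4, chevF4, chevE6, chevE7, chevE8])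
    (Dbar Fbar : Subgroup (Cfsg.Out ↥(D.group F)))
    (hDbar : Dbar = (Subgroup.closure {φ : MulAut ↥(D.group F) | D.IsDiagonalAut φ}).map
      (QuotientGroup.mk' (Cfsg.Inn ↥(D.group F))))
    (hFbar : Fbar = (Subgroup.closure {φ : MulAut ↥(D.group F) | D.IsFieldAut φ}).map
      (QuotientGroup.mk' (Cfsg.Inn ↥(D.group F)))) :
    Dbar.Normal ∧ IsMulCommutative ↥Dbar ∧ IsCyclic ↥Fbar ∧ (Dbar ⊔ Fbar).Normal ∧
      ((Dbar ⊔ Fbar).index = 1 ∨ (Dbar ⊔ Fbar).index = 2 ∨
        ((Dbar ⊔ Fbar).index = 6 ∧ ¬ commutator (Cfsg.Out ↥(D.group F)) ≤ Dbar ⊔ Fbar)) := by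
  obtain ⟨h1, h2, h3, h4, h5, h6⟩ :=
    out_structure_gen hD (normalForm_all hD) Dbar Fbar hDbar hFbar
  refine ⟨h1, h2, h3, h4, ?_⟩
  rw [h5]
  have hD' := hD
  simp only [List.mem_cons, List.not_mem_nil, or_false] at hD'
  rcases hD' with rfl | rfl | rfl | rfl | rfl | rfl | rfl
  · rcases card_realSym_G2 (F := F) hD with h | h
    · exact Or.inl h
    · exact Or.inr (Or.inl h)
  · rcases card_realSym_B2 (F := F) hD with h | h
    · exact Or.inl h
    · exact Or.inr (Or.inl h)
  · refine Or.inr (Or.inr ⟨card_realSym_D4 hD, fun hc => ?_⟩)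
    obtain ⟨π₁, π₂, hπ₁, hπ₂, hne⟩ := D4_noncomm
    apply hne
    apply h6 hc
    · rw [realSym_D4 hD]; exact hπ₁
    · rw [realSym_D4 hD]; exact hπ₂
  · rcases card_realSym_F4 (F := F) hD with h | h
    · exact Or.inl h
    · exact Or.inr (Or.inl h)
  · rcases card_realSym_E6 (F := F) hD with h | h
    · exact Or.inl h
    · exact Or.inr (Or.inl h)
  · exact Or.inl (card_realSym_E7 hD)
  · exact Or.inl (card_realSym_E8 hD)

end

end Cfsg.Agent.Lib.Helper27.ChevOut
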