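import Cfsg.Agent.H26.LeastNormal

set_option autoImplicit false

namespace Cfsg.Agent.Lib.Helper27.Chi

open Cfsg Cfsg.FusionSystem Cfsg.Agent.Lib.Helper27 Cfsg.Agent.H26

variable {Ω : Type*} [Group Ω] {S T : Subgroup Ω}

section Restrict

variable [Finite T] {p : ℕ} [Fact p.Prime]

/-- **Extension lemma for automorphisms**: let `D` be a saturated system over `T`, invariant under a group `Λ` of
automorphisms of `T` in which every element with a `p`-power in `Aut_D(T)` lies in `Aut_D(T)`. An element of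
`Λ` whose restriction to some `D`-centric subgroup is a map of `D` lies in `Aut_D(T)`. -/
theorem aut_mem_of_restrict_centric_gen (hT : IsPGroup p T) {D : FusionSystem T} (hD : D.IsSaturated p)
    (Λ M : Subgroup (MulAut T))
    (hInv : ∀ b ∈ Λ, ∀ (P P' : Subgroup Ω) (φ : P →* Ω) (χ : P' →* Ω), φ ∈ D.Hom P → Transp b φ χ →
      χ ∈ D.Hom P')
    (hbase : ∀ a ∈ Λ, a ∈ D.autGroup T → a ∈ M)
    (hH : ∀ a ∈ Λ, ∀ k : ℕ, a ^ (p ^ k) ∈ M → a ∈ M) :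
    ∀ (n : ℕ) (a : MulAut T), a ∈ Λ → ∀ (Q : Subgroup Ω) (hQ : D.IsCentric Q),
      Nat.card T - Nat.card Q = n → resAut a hQ.1 ∈ D.Hom Q → a ∈ M := by
  intro n
  induction n using Nat.strong_induction_on with
  | _ n IH =>
  intro a ha Q hQ hn hres
  have hQT : Q ≤ T := hQ.1
  rcases eq_or_lt_of_le hQT with hQeq | hQlt
  · subst hQeq
    apply hbase a ha
    rw [mem_autGroup_iff D le_rfl]
    unfold IsIso
    convert hres using 1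
    ext x
    rfl
  haveI : Finite Q := Finite.of_injective (Subgroup.inclusion hQT) (Subgroup.inclusion_injective hQT)
  obtain ⟨g₀, hg₀N, hg₀Q⟩ := exists_mem_normalizerIn_not_mem hT hQlt
  have hQN : Q ≤ normalizerIn T Q := le_normalizerIn hQT
  have hNT : normalizerIn T Q ≤ T := normalizerIn_le_S T Q
  haveI : Finite (normalizerIn T Q) :=
    Finite.of_injective (Subgroup.inclusion hNT) (Subgroup.inclusion_injective hNT)
  obtain ⟨e, he, hee⟩ := exists_isIso_of_hom D hres rfl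
  have hQ'c : D.IsCentric (resAut a hQT).range := isCentric_of_isConj hQ ⟨_, hres, rfl⟩
  have hrec : D.IsReceptive (resAut a hQT).range :=
    isReceptive_of_fullyCentralized hT hD (isFullyCentralized_of_isCentric hQ'c)
  obtain ⟨ψ', hψ', hψ'e⟩ := receptive_exists_extension hrec he
  have hext : normalizerIn T Q ≤ extender T Q ((resAut a hQT).range.subtype.comp e.toMonoidHom) := by
    intro g hg
    rw [mem_extender_iff]
    refine ⟨hg.1, hg.2, ((a ⟨g, hg.1⟩ : T) : Ω), (a ⟨g, hg.1⟩).2, fun x hx => ?_⟩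
    simp only [MonoidHom.coe_comp, Function.comp_apply, Subgroup.coe_subtype, MulEquiv.coe_toMonoidHom]
    rw [hee, hee, resAut_apply, resAut_apply]
    have : (⟨g * (x : Ω) * g⁻¹, hQT hx⟩ : T) = ⟨g, hg.1⟩ * ⟨x, hQT x.2⟩ * ⟨g, hg.1⟩⁻¹ := Subtype.ext rfl
    rw [this, map_mul, map_mul, map_inv]
    rfl
  have hψ₁ : ψ'.comp (Subgroup.inclusion hext) ∈ D.Hom (normalizerIn T Q) := hom_restrict D hext hψ'
  obtain ⟨ψ₁, hψ₁def⟩ : ∃ ψ₁ : ↥(normalizerIn T Q) →* Ω, ψ₁ = ψ'.comp (Subgroup.inclusion hext) := ⟨_, rfl⟩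
  rw [← hψ₁def] at hψ₁
  have hψ₁T : ∀ g : normalizerIn T Q, ψ₁ g ∈ T := (D.le_of_mem hψ₁).2
  have hagree : ∀ (x : normalizerIn T Q) (hx : (x : Ω) ∈ Q), ψ₁ x = ((a ⟨x, hNT x.2⟩ : T) : Ω) := by
    intro x hx
    rw [hψ₁def]
    have h1 := hψ'e x hx (hext x.2)
    have h2 := hee ⟨x, hx⟩
    show ψ' ⟨(x : Ω), hext x.2⟩ = _
    rw [h1, h2]
    rfl
  -- the correction term lies in `Q' = a(Q)`
  have hcorr : ∀ g : normalizerIn T Q,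
      (((a ⟨g, hNT g.2⟩ : T) : Ω))⁻¹ * ψ₁ g ∈ (resAut a hQT).range := by
    intro g
    apply hQ'c.2 _ (isConj_refl D hQ'c.1)
    rw [mem_centralizerIn_iff]
    refine ⟨T.mul_mem (T.inv_mem (a ⟨g, hNT g.2⟩).2) (hψ₁T g), ?_⟩
    rintro _ ⟨x, rfl⟩
    rw [resAut_apply]
    have hgx : (g : Ω) * (x : Ω) * (g : Ω)⁻¹ ∈ Q := ((mem_normalizerIn_iff.mp g.2).2 x).mp x.2
    have h1 : ψ₁ (g * ⟨x, hQN x.2⟩ * g⁻¹) = ((a ⟨(g : Ω) * x * (g : Ω)⁻¹, hQT hgx⟩ : T) : Ω) :=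
      hagree (g * ⟨x, hQN x.2⟩ * g⁻¹) hgx
    have h2 : ψ₁ ⟨x, hQN x.2⟩ = ((a ⟨x, hQT x.2⟩ : T) : Ω) := hagree ⟨x, hQN x.2⟩ x.2
    have h3 : (⟨(g : Ω) * x * (g : Ω)⁻¹, hQT hgx⟩ : T) = ⟨g, hNT g.2⟩ * ⟨x, hQT x.2⟩ * ⟨g, hNT g.2⟩⁻¹ :=
      Subtype.ext rfl
    rw [map_mul, map_mul, map_inv, h2, h3, map_mul, map_mul, map_inv] at h1
    have h4 : ψ₁ g * ((a ⟨x, hQT x.2⟩ : T) : Ω) * (ψ₁ g)⁻¹ =
        ((a ⟨g, hNT g.2⟩ : T) : Ω) * ((a ⟨x, hQT x.2⟩ : T) : Ω) * (((a ⟨g, hNT g.2⟩ : T) : Ω))⁻¹ := h1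
    have h5 : ψ₁ g * ((a ⟨x, hQT x.2⟩ : T) : Ω) =
        ((a ⟨g, hNT g.2⟩ : T) : Ω) * ((a ⟨x, hQT x.2⟩ : T) : Ω) * (((a ⟨g, hNT g.2⟩ : T) : Ω))⁻¹ * ψ₁ g := by
      rw [← h4]; group
    calc ((a ⟨x, hQT x.2⟩ : T) : Ω) * ((((a ⟨g, hNT g.2⟩ : T) : Ω))⁻¹ * ψ₁ g)
        = (((a ⟨g, hNT g.2⟩ : T) : Ω))⁻¹ * (((a ⟨g, hNT g.2⟩ : T) : Ω) * ((a ⟨x, hQT x.2⟩ : T) : Ω) *
            (((a ⟨g, hNT g.2⟩ : T) : Ω))⁻¹ * ψ₁ g) := by group
      _ = (((a ⟨g, hNT g.2⟩ : T) : Ω))⁻¹ * (ψ₁ g * ((a ⟨x, hQT x.2⟩ : T) : Ω)) := by rw [h5]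
      _ = (((a ⟨g, hNT g.2⟩ : T) : Ω))⁻¹ * ψ₁ g * ((a ⟨x, hQT x.2⟩ : T) : Ω) := by group
  -- `θ g = a⁻¹ (ψ₁ g)`
  have hθ : ∀ g : normalizerIn T Q, ∃ z : Q, ψ₁ g = ((a (⟨g, hNT g.2⟩ * ⟨z, hQT z.2⟩) : T) : Ω) := by
    intro g
    obtain ⟨z, hz⟩ := hcorr g
    refine ⟨z, ?_⟩
    rw [map_mul]
    rw [resAut_apply] at hz
    show ψ₁ g = ((a ⟨g, hNT g.2⟩ : T) : Ω) * ((a ⟨z, hQT z.2⟩ : T) : Ω)
    rw [hz]; group
  have hθN : ∀ g : normalizerIn T Q,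
      (T.subtype.comp ((a⁻¹ : MulAut T).toMonoidHom.comp (ψ₁.codRestrict T hψ₁T))) g ∈ normalizerIn T Q := by
    intro g
    obtain ⟨z, hz⟩ := hθ g
    show ((a⁻¹ ⟨ψ₁ g, hψ₁T g⟩ : T) : Ω) ∈ normalizerIn T Q
    have : (⟨ψ₁ g, hψ₁T g⟩ : T) = a (⟨g, hNT g.2⟩ * ⟨z, hQT z.2⟩) := Subtype.ext hz
    rw [this, MulAut.inv_apply_self]
    exact (normalizerIn T Q).mul_mem g.2 (hQN z.2)
  obtain ⟨χ', hχ'def⟩ : ∃ χ' : ↥(normalizerIn T Q) →* ↥(normalizerIn T Q), χ' =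
      (T.subtype.comp ((a⁻¹ : MulAut T).toMonoidHom.comp (ψ₁.codRestrict T hψ₁T))).codRestrict _ hθN :=
    ⟨_, rfl⟩
  have hχ'a : ∀ g : normalizerIn T Q, ((a ⟨(χ' g : Ω), hNT (χ' g).2⟩ : T) : Ω) = ψ₁ g := by
    intro g
    rw [hχ'def]
    show ((a ⟨((a⁻¹ ⟨ψ₁ g, hψ₁T g⟩ : T) : Ω), _⟩ : T) : Ω) = ψ₁ g
    have : (⟨((a⁻¹ ⟨ψ₁ g, hψ₁T g⟩ : T) : Ω), (a⁻¹ ⟨ψ₁ g, hψ₁T g⟩ : T).2⟩ : T) = a⁻¹ ⟨ψ₁ g, hψ₁T g⟩ := rfl
    rw [this, MulAut.apply_inv_self]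
  have hχ'g : ∀ g : normalizerIn T Q, ∃ z : Q, χ' g = g * ⟨z, hQN z.2⟩ := by
    intro g
    obtain ⟨z, hz⟩ := hθ g
    refine ⟨z, ?_⟩
    apply Subtype.ext
    have h1 := hχ'a g
    rw [hz] at h1
    have h2 := a.injective (Subtype.ext h1)
    exact congrArg (fun t : T => (t : Ω)) h2
  have hχ'Q : ∀ z : Q, χ' ⟨z, hQN z.2⟩ = ⟨z, hQN z.2⟩ := by
    intro z
    apply Subtype.ext
    have h1 := hχ'a ⟨z, hQN z.2⟩
    rw [hagree ⟨z, hQN z.2⟩ z.2] at h1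
    have h2 := a.injective (Subtype.ext h1)
    exact congrArg (fun t : T => (t : Ω)) h2
  have hiter : ∀ g : normalizerIn T Q, iterHom χ' (Nat.card Q) g = g := by
    intro g
    obtain ⟨z, hz⟩ := hχ'g g
    rw [iterHom_apply_of_fixed χ' g ⟨z, hQN z.2⟩ hz (hχ'Q z)]
    have h1 : z ^ Nat.card Q = 1 := pow_card_eq_one'
    have h3 : ((z : Ω)) ^ Nat.card Q = 1 := by
      have := congrArg (fun t : Q => (t : Ω)) h1
      simp only [Subgroup.coe_pow, Subgroup.coe_one] at this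
      exact this
    have h2 : (⟨z, hQN z.2⟩ : normalizerIn T Q) ^ Nat.card Q = 1 := by
      apply Subtype.ext
      simp only [Subgroup.coe_pow, Subgroup.coe_one]
      exact h3
    rw [h2, mul_one]
  -- the maps `a^j ∘ χ'^j` are in `D`
  have hΦ : ∀ j : ℕ, (resAut (a ^ j) hNT).comp (iterHom χ' j) ∈ D.Hom (normalizerIn T Q) := by
    intro j
    induction j with
    | zero =>
      have h1 : conjHom (normalizerIn T Q) 1 ∈ D.Hom (normalizerIn T Q) := D.conj_mem hNT T.one_mem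
      convert h1 using 1
      ext g
      simp [resAut_apply, iterHom, conjHom]
    | succ j ih =>
      have hb : a ^ j ∈ Λ := Subgroup.pow_mem _ ha j
      obtain ⟨χb, hχb⟩ := exists_transp (a ^ j) hNT ψ₁ hψ₁T
      have hχbD := hInv _ hb _ _ _ _ hψ₁ hχb
      have hval : ∀ g : normalizerIn T Q, ((resAut (a ^ j) hNT).comp (iterHom χ' j)) g ∈
          ((normalizerIn T Q).subgroupOf T).map (T.subtype.comp ((a ^ j : MulAut T)).toMonoidHom) := by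
        intro g
        exact hχb.mem ⟨_, hNT (iterHom χ' j g).2⟩ (iterHom χ' j g).2
      have hcomp := D.comp_mem ih hχbD hval
      convert hcomp using 1
      ext g
      have h1 := hχb.2 ⟨_, hNT (iterHom χ' j g).2⟩ (iterHom χ' j g).2 (hval g) (hψ₁T _)
      refine Eq.trans ?_ h1.symm
      show (((a ^ (j + 1)) ⟨((χ' (iterHom χ' j g) : normalizerIn T Q) : Ω),
        hNT (χ' (iterHom χ' j g)).2⟩ : T) : Ω) = _
      rw [pow_succ, MulAut.mul_apply]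
      congr 2
      apply Subtype.ext
      exact hχ'a _
  have hΦq := hΦ (Nat.card Q)
  have hres' : resAut (a ^ Nat.card Q) hNT ∈ D.Hom (normalizerIn T Q) := by
    convert hΦq using 1
    ext g
    show _ = resAut (a ^ Nat.card Q) hNT (iterHom χ' (Nat.card Q) g)
    rw [hiter g]
  have hNc : D.IsCentric (normalizerIn T Q) := isCentric_of_le hQ hQN hNT
  have hlt : Nat.card Q < Nat.card (normalizerIn T Q) := by
    refine lt_of_le_of_ne (Subgroup.card_le_of_le hQN) (fun heq => hg₀Q ?_)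
    have := Subgroup.eq_of_le_of_card_ge hQN heq.ge
    rw [this]; exact hg₀N
  have hle₁ : Nat.card (normalizerIn T Q) ≤ Nat.card T := Subgroup.card_le_of_le hNT
  have hpow := IH (Nat.card T - Nat.card (normalizerIn T Q)) (by omega) (a ^ Nat.card Q)
    (Subgroup.pow_mem _ ha _) (normalizerIn T Q) hNc rfl hres'
  have hQp : IsPGroup p Q := hT.of_injective (Subgroup.inclusion hQT) (Subgroup.inclusion_injective hQT)
  obtain ⟨m, hm⟩ := IsPGroup.iff_card.mp hQp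
  rw [hm] at hpow
  exact hH a ha m hpow

end Restrict

section Ker

variable {F : FusionSystem S} {Δ : Type*} [Group Δ]

/-- The kernel of a character of `Aut_F(T)`, as a group of automorphisms of `T`. -/
def kerAut (χ : ↥(F.autGroup T) →* Δ) : Subgroup (MulAut T) := χ.ker.map (F.autGroup T).subtype

theorem mem_kerAut_iff {χ : ↥(F.autGroup T) →* Δ} {a : MulAut T} :
    a ∈ kerAut χ ↔ ∃ h : a ∈ F.autGroup T, χ ⟨a, h⟩ = 1 := by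
  constructor
  · rintro ⟨b, hb, rfl⟩
    exact ⟨b.2, MonoidHom.mem_ker.mp hb⟩
  · rintro ⟨h, h1⟩
    exact ⟨⟨a, h⟩, MonoidHom.mem_ker.mpr h1, rfl⟩

theorem kerAut_le (χ : ↥(F.autGroup T) →* Δ) : kerAut χ ≤ F.autGroup T := by
  rintro _ ⟨b, -, rfl⟩
  exact b.2

theorem conj_mem_kerAut {χ : ↥(F.autGroup T) →* Δ} {a k : MulAut T} (ha : a ∈ F.autGroup T)
    (hk : k ∈ kerAut χ) : a * k * a⁻¹ ∈ kerAut χ := by
  obtain ⟨hk', hk1⟩ := mem_kerAut_iff.mp hk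
  refine mem_kerAut_iff.mpr ⟨Subgroup.mul_mem _ (Subgroup.mul_mem _ ha hk') (Subgroup.inv_mem _ ha), ?_⟩
  have : (⟨a * k * a⁻¹, Subgroup.mul_mem _ (Subgroup.mul_mem _ ha hk') (Subgroup.inv_mem _ ha)⟩ :
      F.autGroup T) = ⟨a, ha⟩ * ⟨k, hk'⟩ * ⟨a, ha⟩⁻¹ := rfl
  rw [this, map_mul, map_mul, hk1, mul_one, map_inv, mul_inv_cancel]

theorem mem_kerAut_of_mul {χ : ↥(F.autGroup T) →* Δ} {a b : MulAut T} (ha : a ∈ F.autGroup T)
    (hb : b ∈ F.autGroup T) (h : χ ⟨a, ha⟩ = χ ⟨b, hb⟩) : a⁻¹ * b ∈ kerAut χ := by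
  refine mem_kerAut_iff.mpr ⟨Subgroup.mul_mem _ (Subgroup.inv_mem _ ha) hb, ?_⟩
  have : (⟨a⁻¹ * b, Subgroup.mul_mem _ (Subgroup.inv_mem _ ha) hb⟩ : F.autGroup T) =
      ⟨a, ha⟩⁻¹ * ⟨b, hb⟩ := rfl
  rw [this, map_mul, map_inv, h, inv_mul_cancel]

theorem pow_mem_kerAut_imp [Finite Δ] {p : ℕ} (hΔ : (Nat.card Δ).Coprime p)
    {χ : ↥(F.autGroup T) →* Δ} {a : MulAut T} (ha : a ∈ F.autGroup T) {k : ℕ}
    (hk : a ^ (p ^ k) ∈ kerAut χ) : a ∈ kerAut χ := by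
  obtain ⟨hk', hk1⟩ := mem_kerAut_iff.mp hk
  refine mem_kerAut_iff.mpr ⟨ha, ?_⟩
  have h1 : (⟨a ^ (p ^ k), hk'⟩ : F.autGroup T) = ⟨a, ha⟩ ^ (p ^ k) := rfl
  rw [h1, map_pow] at hk1
  have h2 : orderOf (χ ⟨a, ha⟩) ∣ p ^ k := orderOf_dvd_of_pow_eq_one hk1
  have h3 : orderOf (χ ⟨a, ha⟩) ∣ Nat.card Δ := orderOf_dvd_natCard _
  have h4 : orderOf (χ ⟨a, ha⟩) = 1 :=
    Nat.eq_one_of_dvd_coprimes (Nat.Coprime.pow_right k hΔ) h3 h2
  exact orderOf_eq_one_iff.mp h4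

end Ker

end Cfsg.Agent.Lib.Helper27.Chi
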