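import Cfsg.Agent.Lib.Helper27.ChiA

set_option autoImplicit false

namespace Cfsg.Agent.Lib.Helper27.Chi

open Cfsg Cfsg.FusionSystem Cfsg.Agent.Lib.Helper27 Cfsg.Agent.H26

variable {Ω : Type*} [Group Ω] {S T : Subgroup Ω}

/-- The standing data: a normal subsystem `E` over `T` of the saturated system `F` over `S`, and a character
`χ` of `Aut_F(T)` with values in a group of order prime to `p`, trivial on `Aut_E(T)`. -/
structure Data (p : ℕ) (F : FusionSystem S) (E : FusionSystem T) (Δ : Type*) [Group Δ] where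
  hS : IsPGroup p S
  hF : F.IsSaturated p
  hE : E.IsNormalIn F p
  χ : ↥(F.autGroup T) →* Δ
  hΔ : (Nat.card Δ).Coprime p
  hker : (E.autGroup T).subgroupOf (F.autGroup T) ≤ χ.ker

namespace Data

variable {p : ℕ} {F : FusionSystem S} {E : FusionSystem T} {Δ : Type*} [Group Δ] (d : Data p F E Δ)

include d

theorem hEsat : E.IsSaturated p := d.hE.1.1
theorem hEF : E.IsSubsystemOf F := d.hE.1.2.2.1
theorem hT : F.StronglyClosed T := d.hE.1.2.2.2.1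
theorem hTS : T ≤ S := d.hT.1
theorem hInv : InvCond E F := d.hE.1.2.2.2.2.1
theorem hFrat (P : Subgroup Ω) (hP : P ≤ T) (φ : P →* Ω) (hφ : φ ∈ F.Hom P) : FratAt E F P φ :=
  d.hE.1.2.2.2.2.2 P hP φ hφ
theorem hTp : IsPGroup p T := d.hS.to_le d.hTS

/-- The kernel of the character. -/
def K : Subgroup (MulAut T) := kerAut d.χ

theorem K_le : d.K ≤ F.autGroup T := kerAut_le d.χ

theorem autE_le_K : E.autGroup T ≤ d.K := by
  intro a ha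
  have haF : a ∈ F.autGroup T := autGroup_le_autGroup_of_subsystem d.hEF le_rfl d.hTS ha
  refine mem_kerAut_iff.mpr ⟨haF, ?_⟩
  exact MonoidHom.mem_ker.mp (d.hker (Subgroup.mem_subgroupOf.mpr ha))

theorem hInvK (P : Subgroup Ω) : E.Hom P ⊆ (invCore E d.K).Hom P := by
  intro φ hφ
  exact ⟨hφ, fun α hα P' χ' hχ' => InvCond.transp_mem d.hInv hφ (d.K_le hα) hχ'⟩

/-- The system `K · E` over `T`. -/
def KE : FusionSystem T := prodSys E d.K d.hInvK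

theorem mem_KE_iff {P : Subgroup Ω} {φ : P →* Ω} :
    φ ∈ d.KE.Hom P ↔ ∃ α ∈ d.K, ∃ φ₀ ∈ E.Hom P, ∀ (x : P) (hx : φ₀ x ∈ T),
      φ x = ((α ⟨φ₀ x, hx⟩ : T) : Ω) := Iff.rfl

theorem E_le_KE (P : Subgroup Ω) : E.Hom P ⊆ d.KE.Hom P :=
  fun φ hφ => ⟨1, Subgroup.one_mem _, φ, hφ, fun _ _ => rfl⟩

theorem KE_le_F (P : Subgroup Ω) : d.KE.Hom P ⊆ F.Hom P := by
  rintro φ ⟨α, hα, φ₀, hφ₀, h⟩
  have hφ₀F := d.hEF P hφ₀
  have hαF := (mem_autGroup_iff F d.hTS α).mp (d.K_le hα)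
  have hval : ∀ x : P, φ₀ x ∈ T := (E.le_of_mem hφ₀).2
  have := F.comp_mem hφ₀F hαF hval
  have heq : φ = (T.subtype.comp (α : T ≃* T).toMonoidHom).comp (φ₀.codRestrict T hval) := by
    ext x
    exact h x (hval x)
  rw [heq]
  exact this

section Fin

variable [Finite S] [Fact p.Prime] [Finite Δ]

/-- An automorphism of `T` in `F` whose restriction to an `E`-centric subgroup is a map of `E` lies in the
kernel of the character. -/
theorem mem_K_of_restrict {a : MulAut T} (ha : a ∈ F.autGroup T) {Q : Subgroup Ω} (hQ : E.IsCentric Q)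
    (hres : resAut a hQ.1 ∈ E.Hom Q) : a ∈ d.K := by
  haveI : Finite T := Finite.of_injective (Subgroup.inclusion d.hTS) (Subgroup.inclusion_injective d.hTS)
  exact aut_mem_of_restrict_centric_gen d.hTp d.hEsat (F.autGroup T) d.K
    (fun b hb P P' φ χ' hφ hχ' => InvCond.transp_mem d.hInv hφ hb hχ')
    (fun a _ ha => d.autE_le_K ha)
    (fun a ha k hk => pow_mem_kerAut_imp d.hΔ ha hk) _ a ha Q hQ rfl hres

/-- A map of `F` between subgroups of `T` whose restriction to an `E`-centric subgroup lies in `K · E` lies in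
`K · E`. -/
theorem KE_of_restrict {P Q : Subgroup Ω} (hPQ : P ≤ Q) (hQT : Q ≤ T) (hP : E.IsCentric P) {φ : Q →* Ω}
    (hφ : φ ∈ F.Hom Q) (hres : φ.comp (Subgroup.inclusion hPQ) ∈ d.KE.Hom P) : φ ∈ d.KE.Hom Q := by
  obtain ⟨γ, hγ, ψ₀, hψ₀, hγψ⟩ := d.hFrat Q hQT φ hφ
  obtain ⟨κ, hκ, ρ₀, hρ₀, hκρ⟩ := hres
  have hψ₀T : ∀ x : Q, ψ₀ x ∈ T := (E.le_of_mem hψ₀).2
  have hρ₀T : ∀ x : P, ρ₀ x ∈ T := (E.le_of_mem hρ₀).2
  have hψ₀P := hom_restrict E hPQ hψ₀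
  have hP₀ : E.IsCentric (ψ₀.comp (Subgroup.inclusion hPQ)).range :=
    isCentric_of_isConj hP ⟨_, hψ₀P, rfl⟩
  obtain ⟨θ, hθ, hθinv⟩ := E.inv_mem hψ₀P
  have hθval : ∀ y : (ψ₀.comp (Subgroup.inclusion hPQ)).range, θ y ∈ P := by
    rintro ⟨_, x, rfl⟩
    rw [hθinv]
    exact x.2
  have hcomp := E.comp_mem hθ hρ₀ hθval
  have hκF : κ ∈ F.autGroup T := d.K_le hκ
  have hb : κ⁻¹ * γ ∈ d.K := by
    apply d.mem_K_of_restrict (Subgroup.mul_mem _ (Subgroup.inv_mem _ hκF) hγ) hP₀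
    convert hcomp using 1
    ext ⟨_, x, rfl⟩
    show (((κ⁻¹ * γ) ⟨ψ₀ (Subgroup.inclusion hPQ x), _⟩ : T) : Ω) = ρ₀ ⟨θ ⟨_, _⟩, _⟩
    have e1 : (⟨θ ⟨(ψ₀.comp (Subgroup.inclusion hPQ)) x, ⟨x, rfl⟩⟩, hθval ⟨_, ⟨x, rfl⟩⟩⟩ : P) = x :=
      Subtype.ext (hθinv x)
    have e2 : ρ₀ ⟨θ ⟨(ψ₀.comp (Subgroup.inclusion hPQ)) x, ⟨x, rfl⟩⟩, hθval ⟨_, ⟨x, rfl⟩⟩⟩ = ρ₀ x := by
      rw [e1]
    rw [e2]
    have e3 : (γ ⟨ψ₀ (Subgroup.inclusion hPQ x), hψ₀T _⟩ : T) = κ ⟨ρ₀ x, hρ₀T x⟩ := by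
      apply Subtype.ext
      rw [← hγψ _ (hψ₀T _), ← hκρ x (hρ₀T x)]
      rfl
    rw [MulAut.mul_apply, e3, MulAut.inv_apply_self]
  have hγK : γ ∈ d.K := by
    have : γ = κ * (κ⁻¹ * γ) := by group
    rw [this]
    exact Subgroup.mul_mem _ hκ hb
  exact ⟨γ, hγK, ψ₀, hψ₀, hγψ⟩

end Fin

end Data

end Cfsg.Agent.Lib.Helper27.Chi
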