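import Cfsg.Agent.Lib.Helper27.ChiB

set_option autoImplicit false

namespace Cfsg.Agent.Lib.Helper27.Chi

open Cfsg Cfsg.FusionSystem Cfsg.Agent.Lib.Helper27 Cfsg.Agent.H26

variable {Ω : Type*} [Group Ω] {S T : Subgroup Ω}

/-- The restriction of a map to the intersection of its source with `T`. -/
def resT (T : Subgroup Ω) {P : Subgroup Ω} (φ : P →* Ω) : ↥(P ⊓ T) →* Ω :=
  φ.comp (Subgroup.inclusion inf_le_left)

theorem resT_apply (T : Subgroup Ω) {P : Subgroup Ω} (φ : P →* Ω) (x : ↥(P ⊓ T)) :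
    resT T φ x = φ ⟨x, x.2.1⟩ := rfl

theorem resT_mem_T {F : FusionSystem S} (hT : F.StronglyClosed T) {P : Subgroup Ω} {φ : P →* Ω}
    (hφ : φ ∈ F.Hom P) (x : ↥(P ⊓ T)) : resT T φ x ∈ T :=
  hT.2 (P ⊓ T) inf_le_right _ (hom_restrict F inf_le_left hφ) x

/-- For `T` strongly closed, `φ(P) ∩ T = φ(P ∩ T)`. -/
theorem range_inf_eq {F : FusionSystem S} (hT : F.StronglyClosed T) {P : Subgroup Ω} {φ : P →* Ω}
    (hφ : φ ∈ F.Hom P) : φ.range ⊓ T = (resT T φ).range := by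
  apply le_antisymm
  · rintro y ⟨⟨x, rfl⟩, hyT⟩
    obtain ⟨ψ, hψ, hinv⟩ := F.inv_mem hφ
    have h1 := resT_mem_T hT hψ ⟨φ x, ⟨⟨x, rfl⟩, hyT⟩⟩
    rw [resT_apply] at h1
    have h2 : ψ ⟨φ x, ⟨x, rfl⟩⟩ = (x : Ω) := hinv x
    have hxT : (x : Ω) ∈ T := by
      rw [← h2]
      exact h1
    exact ⟨⟨x, ⟨x.2, hxT⟩⟩, rfl⟩
  · rintro _ ⟨x, rfl⟩
    exact ⟨⟨⟨x, x.2.1⟩, rfl⟩, resT_mem_T hT hφ x⟩

/-- The maps of `F` whose restriction to `T` lies in a given system `D` over the strongly closed subgroup `T`. -/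
def pullSys (F : FusionSystem S) (D : FusionSystem T) (hT : F.StronglyClosed T)
    (hconj : ∀ P : Subgroup Ω, P ≤ T → ∀ g ∈ S, conjHom P g ∈ D.Hom P) : FusionSystem S where
  Hom P := {φ | φ ∈ F.Hom P ∧ resT T φ ∈ D.Hom (P ⊓ T)}
  le_of_mem h := F.le_of_mem h.1
  injective_of_mem h := F.injective_of_mem h.1
  conj_mem := by
    intro P g hP hg
    exact ⟨F.conj_mem hP hg, hconj (P ⊓ T) inf_le_right g hg⟩
  comp_mem := by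
    rintro P Q φ ψ ⟨hφ, hφD⟩ ⟨hψ, hψD⟩ h
    refine ⟨F.comp_mem hφ hψ h, ?_⟩
    have h' : ∀ x : ↥(P ⊓ T), resT T φ x ∈ Q ⊓ T := fun x => ⟨h _, resT_mem_T hT hφ x⟩
    exact D.comp_mem hφD hψD h'
  inv_mem := by
    rintro P φ ⟨hφ, hφD⟩
    obtain ⟨ψ, hψ, hinv⟩ := F.inv_mem hφ
    refine ⟨ψ, ⟨hψ, ?_⟩, hinv⟩
    obtain ⟨ψ₁, hψ₁, hinv₁⟩ := D.inv_mem hφD
    refine (hom_cast D (range_inf_eq hT hφ) ?_).mpr hψ₁
    rintro _ hy ⟨x, rfl⟩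
    rw [hinv₁ x, resT_apply]
    exact hinv ⟨x, x.2.1⟩

theorem mem_pullSys_iff {F : FusionSystem S} {D : FusionSystem T} {hT : F.StronglyClosed T}
    {hconj : ∀ P : Subgroup Ω, P ≤ T → ∀ g ∈ S, conjHom P g ∈ D.Hom P} {P : Subgroup Ω} {φ : P →* Ω} :
    φ ∈ (pullSys F D hT hconj).Hom P ↔ φ ∈ F.Hom P ∧ resT T φ ∈ D.Hom (P ⊓ T) := Iff.rfl

end Cfsg.Agent.Lib.Helper27.Chi
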