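import Cfsg.Agent.Lib.Helper27.ChiC
import Cfsg.Agent.Lib.Helper27.FusionLift

set_option autoImplicit false

namespace Cfsg.Agent.Lib.Helper27.Chi

open Cfsg Cfsg.FusionSystem Cfsg.Agent.Lib.Helper27 Cfsg.Agent.H26

variable {Ω : Type*} [Group Ω] {S T : Subgroup Ω}

/-- The full subsystem of a fusion system over `S` on a subgroup `T ≤ S`. -/
def fullOn (F : FusionSystem S) (T : Subgroup Ω) (hTS : T ≤ S) : FusionSystem T where
  Hom P := {φ | φ ∈ F.Hom P ∧ P ≤ T ∧ ∀ x : P, φ x ∈ T}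
  le_of_mem h := ⟨h.2.1, h.2.2⟩
  injective_of_mem h := F.injective_of_mem h.1
  conj_mem := by
    intro P g hP hg
    refine ⟨F.conj_mem (le_trans hP hTS) (hTS hg), hP, fun x => ?_⟩
    show g * (x : Ω) * g⁻¹ ∈ T
    exact T.mul_mem (T.mul_mem hg (hP x.2)) (T.inv_mem hg)
  comp_mem := by
    rintro P Q φ ψ ⟨hφ, hP, hφT⟩ ⟨hψ, hQ, hψT⟩ h
    exact ⟨F.comp_mem hφ hψ h, hP, fun x => hψT _⟩
  inv_mem := by
    rintro P φ ⟨hφ, hP, hφT⟩
    obtain ⟨ψ, hψ, hinv⟩ := F.inv_mem hφ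
    refine ⟨ψ, ⟨hψ, ?_, ?_⟩, hinv⟩
    · rintro _ ⟨x, rfl⟩
      exact hφT x
    · rintro ⟨_, x, rfl⟩
      rw [hinv x]
      exact hP x.2

theorem fullOn_subsystem (F : FusionSystem S) (T : Subgroup Ω) (hTS : T ≤ S) :
    (fullOn F T hTS).IsSubsystemOf F := fun _ _ h => h.1

namespace Data

variable {p : ℕ} {F : FusionSystem S} {E : FusionSystem T} {Δ : Type*} [Group Δ] (d : Data p F E Δ)

include d

/-- `E`-centric subgroups are carried to `E`-centric subgroups by the maps of `F`. -/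
theorem centric_map {Q : Subgroup Ω} (hQ : E.IsCentric Q) {φ : Q →* Ω} (hφ : φ ∈ F.Hom Q) :
    E.IsCentric φ.range := by
  have hQT : Q ≤ T := hQ.1
  have h1 : (fullOn F T d.hTS).IsCentric Q :=
    isCentric_of_frat_of_subsystem (fullOn_subsystem F T d.hTS) d.hFrat hQ
  have h2 : (fullOn F T d.hTS).IsCentric φ.range :=
    isCentric_of_isConj h1 ⟨φ, ⟨hφ, hQT, fun x => d.hT.2 Q hQT φ hφ x⟩, rfl⟩
  have hle : E ≤ fullOn F T d.hTS := fun P ψ hψ => ⟨d.hEF P hψ, (E.le_of_mem hψ).1, (E.le_of_mem hψ).2⟩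
  exact isCentric_of_le_system hle h2

section Fin

variable [Finite S] [Fact p.Prime] [Finite Δ]

theorem centric_T : E.IsCentric T := by
  haveI : Finite T := Finite.of_injective (Subgroup.inclusion d.hTS) (Subgroup.inclusion_injective d.hTS)
  refine ⟨le_rfl, fun Q hQ => ?_⟩
  obtain ⟨e, he⟩ := (isConj_iff E).mp hQ
  have hQT : Q = T := Subgroup.eq_of_le_of_card_ge he.le_right (Nat.card_congr e.toEquiv).le
  rw [hQT]
  exact inf_le_left

theorem autS_le_K : autInducedBy S T ≤ d.K := by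
  intro a ha
  have haF := autInducedBy_le_autGroup F d.hTS ha
  obtain ⟨k, hk⟩ := (IsPGroup.iff_orderOf.mp (isPGroup_autInducedBy d.hS T)) ⟨a, ha⟩
  apply pow_mem_kerAut_imp d.hΔ haF (k := k)
  have h1 : a ^ (p ^ k) = 1 := by
    rw [Subgroup.orderOf_mk] at hk
    rw [← hk]
    exact pow_orderOf_eq_one a
  rw [h1]
  exact Subgroup.one_mem _

theorem conj_mem_KE {P : Subgroup Ω} (hP : P ≤ T) {g : Ω} (hg : g ∈ S) : conjHom P g ∈ d.KE.Hom P := by
  have hgN : g ∈ normalizerIn S T := ⟨hg, le_normalizer_of_stronglyClosed d.hT hg⟩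
  have h1 : conjAutHom S T ⟨g, hgN⟩ ∈ autInducedBy S T := by
    rw [← conjAutHom_range]
    exact ⟨_, rfl⟩
  exact ⟨conjAutHom S T ⟨g, hgN⟩, d.autS_le_K h1, P.subtype, hom_subtype E hP, fun x hx => rfl⟩

/-- The maps of `F` whose restriction to `T` lies in `K · E`. -/
def pull : FusionSystem S := pullSys F d.KE d.hT (fun _ hP _ hg => d.conj_mem_KE hP hg)

theorem mem_pull_iff {P : Subgroup Ω} {φ : P →* Ω} :
    φ ∈ d.pull.Hom P ↔ φ ∈ F.Hom P ∧ resT T φ ∈ d.KE.Hom (P ⊓ T) := Iff.rfl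

omit d [Finite S] [Fact p.Prime] [Finite Δ] in
/-- The family of subgroups of `S` meeting `T` in an `E`-centric subgroup. -/
def _root_.Cfsg.Agent.Lib.Helper27.Chi.fam (S : Subgroup Ω) (E : FusionSystem T) : Set (Subgroup Ω) :=
  {P | P ≤ S ∧ E.IsCentric (P ⊓ T)}

/-- The generating maps. -/
def gens (P : Subgroup Ω) : Set (P →* Ω) := {φ | P ∈ fam S E ∧ φ ∈ d.pull.Hom P}

/-- The subsystem. -/
def F0 : FusionSystem S := genSystem F d.gens

theorem gens_subset (P : Subgroup Ω) : d.gens P ⊆ F.Hom P := fun _ h => h.2.1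

theorem F0_le_F : d.F0.IsSubsystemOf F := genSystem_subsystem F _

theorem F0_le_pull (P : Subgroup Ω) : d.F0.Hom P ⊆ d.pull.Hom P :=
  genSystem_le_of (fun _ _ h => h.2) P

theorem pull_le_F0 {P : Subgroup Ω} (hP : P ∈ fam S E) : d.pull.Hom P ⊆ d.F0.Hom P :=
  fun _ hφ => subset_genSystem d.gens_subset P ⟨hP, hφ⟩

theorem fam_of_le {P P' : Subgroup Ω} (hP : P ∈ fam S E) (hPP' : P ≤ P') (hP'S : P' ≤ S) : P' ∈ fam S E :=
  ⟨hP'S, isCentric_of_le hP.2 (inf_le_inf_right T hPP') inf_le_right⟩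

theorem top_mem_fam : S ∈ fam S E := by
  refine ⟨le_rfl, ?_⟩
  have : S ⊓ T = T := inf_eq_right.mpr d.hTS
  rw [this]
  exact d.centric_T

theorem fam_conj {P : Subgroup Ω} (hP : P ∈ fam S E) {φ : P →* Ω} (hφ : φ ∈ F.Hom P) : φ.range ∈ fam S E := by
  refine ⟨hom_range_le F hφ, ?_⟩
  rw [range_inf_eq d.hT hφ]
  exact d.centric_map hP.2 (hom_restrict F inf_le_left hφ)

theorem fam_of_isConj {P Q : Subgroup Ω} (hP : P ∈ fam S E) (h : F.IsConj P Q) : Q ∈ fam S E := by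
  obtain ⟨φ, hφ, rfl⟩ := h
  exact d.fam_conj hP hφ

end Fin

end Data

end Cfsg.Agent.Lib.Helper27.Chi
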