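import Cfsg.Agent.Lib.Helper27.ChiD
import Cfsg.Agent.Lib.Helper27.FusionNormal

set_option autoImplicit false

namespace Cfsg.Agent.Lib.Helper27.Chi

open Cfsg Cfsg.FusionSystem Cfsg.Agent.Lib.Helper27 Cfsg.Agent.H26

variable {Ω : Type*} [Group Ω] {S T : Subgroup Ω}

/-- The restriction to a strongly closed subgroup `T` of an automorphism of `S` in `F`. -/
theorem exists_resAutT [Finite S] {F : FusionSystem S} (hT : F.StronglyClosed T) {α : MulAut S}
    (hα : α ∈ F.autGroup S) :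
    ∃ a ∈ F.autGroup T, ∀ t : T, ((a t : T) : Ω) = ((α ⟨t, hT.1 t.2⟩ : S) : Ω) := by
  have hαiso : IsIso F (α : S ≃* S) := (mem_autGroup_iff F le_rfl α).mp hα
  have hαinv : IsIso F ((α⁻¹ : MulAut S) : S ≃* S) :=
    (mem_autGroup_iff F le_rfl _).mp (Subgroup.inv_mem _ hα)
  have hP' : ∀ z : Ω, z ∈ T ↔ ∃ x : S, (x : Ω) ∈ T ∧ z = ((α x : S) : Ω) := by
    intro z
    constructor
    · intro hz
      refine ⟨α⁻¹ ⟨z, hT.1 hz⟩, stronglyClosed_aut_mem hT hαinv hz, ?_⟩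
      rw [MulAut.apply_inv_self]
    · rintro ⟨x, hx, rfl⟩
      exact stronglyClosed_aut_mem hT hαiso hx
  obtain ⟨e, he⟩ := exists_resIso α hT.1 hP'
  exact ⟨e, (mem_autGroup_iff F hT.1 e).mpr (isIso_resIso le_rfl hα hT.1 e he), he⟩

namespace Data

variable {p : ℕ} {F : FusionSystem S} {E : FusionSystem T} {Δ : Type*} [Group Δ] (d : Data p F E Δ)

include d

variable [Finite S] [Fact p.Prime] [Finite Δ]

/-- Modulo the kernel of the character, every automorphism of `T` in `F` is the restriction of an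
automorphism of `S` in `F`. -/
theorem exists_aut_top (γ : MulAut T) (hγ : γ ∈ F.autGroup T) :
    ∃ α ∈ F.autGroup S, ∃ a ∈ F.autGroup T,
      (∀ t : T, ((a t : T) : Ω) = ((α ⟨t, d.hTS t.2⟩ : S) : Ω)) ∧ a⁻¹ * γ ∈ d.K := by
  have hTS := d.hTS
  haveI : Finite T := Finite.of_injective (Subgroup.inclusion hTS) (Subgroup.inclusion_injective hTS)
  haveI : Finite (MulAut T) := inferInstance
  have hwc : F.WeaklyClosed T := weaklyClosed_of_stronglyClosed d.hT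
  obtain ⟨-, R, hR⟩ := weaklyClosed_isFullyAutomized d.hF hwc
  have hrec : F.IsReceptive T := weaklyClosed_isReceptive d.hF hwc
  have hXle : ((autInducedBy S T).map (MulAut.conj γ).toMonoidHom).subgroupOf (F.autGroup T) ≤ d.χ.ker := by
    intro x hx
    rw [Subgroup.mem_subgroupOf] at hx
    obtain ⟨c, hc, hcx⟩ := hx
    have h1 : γ * c * γ⁻¹ ∈ d.K := conj_mem_kerAut hγ (d.autS_le_K hc)
    obtain ⟨h2, h3⟩ := mem_kerAut_iff.mp h1
    have : x = ⟨γ * c * γ⁻¹, h2⟩ := Subtype.ext hcx.symm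
    rw [this]
    exact MonoidHom.mem_ker.mpr h3
  have hXp : IsPGroup p (((autInducedBy S T).map (MulAut.conj γ).toMonoidHom).subgroupOf (F.autGroup T)) :=
    ((isPGroup_autInducedBy d.hS T).map _).comap_subtype
  obtain ⟨n, hnN, hn⟩ := exists_conj_mem_sylow_of_le_normal d.χ.ker R _ hXle hXp
  have hnK : (n : MulAut T) ∈ d.K := mem_kerAut_iff.mpr ⟨n.2, MonoidHom.mem_ker.mp hnN⟩
  have hδA : (n : MulAut T) * γ ∈ F.autGroup T := Subgroup.mul_mem _ n.2 hγ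
  have hδiso : IsIso F (((n : MulAut T) * γ : MulAut T) : T ≃* T) :=
    (mem_autGroup_iff F hTS _).mp hδA
  have hext : S ≤ extender S T (T.subtype.comp (((n : MulAut T) * γ : MulAut T) : T ≃* T).toMonoidHom) := by
    intro g hg
    have hgN : g ∈ normalizerIn S T := ⟨hg, le_normalizer_of_stronglyClosed d.hT hg⟩
    rw [mem_extender_iff]
    refine ⟨hg, hgN.2, ?_⟩
    have hc : conjAutHom S T ⟨g, hgN⟩ ∈ autInducedBy S T := by
      rw [← conjAutHom_range]; exact ⟨_, rfl⟩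
    have hcX : γ * conjAutHom S T ⟨g, hgN⟩ * γ⁻¹ ∈ (autInducedBy S T).map (MulAut.conj γ).toMonoidHom :=
      ⟨_, hc, rfl⟩
    have hcF : γ * conjAutHom S T ⟨g, hgN⟩ * γ⁻¹ ∈ F.autGroup T :=
      Subgroup.mul_mem _ (Subgroup.mul_mem _ hγ (autInducedBy_le_autGroup F hTS hc)) (Subgroup.inv_mem _ hγ)
    have h1 := hn ⟨γ * conjAutHom S T ⟨g, hgN⟩ * γ⁻¹, hcF⟩ (Subgroup.mem_subgroupOf.mpr hcX)
    rw [hR, Subgroup.mem_subgroupOf, mem_autInducedBy_iff] at h1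
    obtain ⟨h, hh, hh'⟩ := h1
    refine ⟨h, hh, fun x hx => ?_⟩
    have h3 := hh' (((n : MulAut T) * γ) x)
    show ((((n : MulAut T) * γ) ⟨g * x * g⁻¹, hx⟩ : T) : Ω) = h * ((((n : MulAut T) * γ) x : T) : Ω) * h⁻¹
    rw [← h3]
    show _ = ((((n : MulAut T) * (γ * conjAutHom S T ⟨g, hgN⟩ * γ⁻¹) * (n : MulAut T)⁻¹)
      (((n : MulAut T) * γ) x) : T) : Ω)
    simp only [MulAut.mul_apply, MulAut.inv_apply_self]
    rfl
  obtain ⟨ψ', hψ', hψ'e⟩ := receptive_exists_extension hrec hδiso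
  have hψ : ψ'.comp (Subgroup.inclusion hext) ∈ F.Hom S := hom_restrict F hext hψ'
  obtain ⟨α, hα, hαψ⟩ := exists_aut_of_hom_top F hψ
  have hαA : (α : MulAut S) ∈ F.autGroup S := (mem_autGroup_iff F le_rfl α).mpr hα
  refine ⟨α, hαA, (n : MulAut T) * γ, hδA, fun t => ?_, ?_⟩
  · rw [hαψ]
    exact (hψ'e t t.2 (hext (hTS t.2))).symm
  · have : ((n : MulAut T) * γ)⁻¹ * γ = γ⁻¹ * (n : MulAut T)⁻¹ * γ⁻¹⁻¹ := by group
    rw [this]
    exact conj_mem_kerAut (Subgroup.inv_mem _ hγ) (Subgroup.inv_mem _ hnK)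

end Data

end Cfsg.Agent.Lib.Helper27.Chi
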