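import Cfsg.Agent.Lib.Helper27.ChiE

set_option autoImplicit false

namespace Cfsg.Agent.Lib.Helper27.Chi

open Cfsg Cfsg.FusionSystem Cfsg.Agent.Lib.Helper27 Cfsg.Agent.H26

variable {Ω : Type*} [Group Ω] {S T : Subgroup Ω}

/-- A fusion system is invariant under its own automorphisms of a subgroup `T`. -/
theorem transp_mem_self {F : FusionSystem S} (hTS : T ≤ S) {α : MulAut T} (hα : α ∈ F.autGroup T)
    {P P' : Subgroup Ω} (hPT : P ≤ T) {φ : P →* Ω} (hφ : φ ∈ F.Hom P) (hφT : ∀ x : P, φ x ∈ T)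
    {χ : P' →* Ω} (h : Transp α φ χ) : χ ∈ F.Hom P' := by
  obtain ⟨e, he⟩ := exists_resIso α hPT h.1
  have heiso : IsIso F e := isIso_resIso hTS hα hPT e he
  have hαhom := (mem_autGroup_iff F hTS α).mp hα
  have h1 := F.comp_mem hφ hαhom hφT
  have h2 := IsIso.comp_hom heiso.symm h1
  convert h2 using 1
  ext y
  obtain ⟨x, rfl⟩ := e.surjective y
  show χ (e x) = ((α ⟨φ (e.symm (e x)), _⟩ : T) : Ω)
  have h3 : e x = ⟨((α ⟨x, hPT x.2⟩ : T) : Ω), h.mem ⟨x, hPT x.2⟩ x.2⟩ := Subtype.ext (he x)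
  rw [h3, h.2 ⟨x, hPT x.2⟩ x.2 _ (hφT _)]
  congr 3
  rw [← h3, MulEquiv.symm_apply_apply]

namespace Data

variable {p : ℕ} {F : FusionSystem S} {E : FusionSystem T} {Δ : Type*} [Group Δ] (d : Data p F E Δ)

include d

/-- `K · E` is invariant under `Aut_F(T)`. -/
theorem transp_mem_KE {a : MulAut T} (ha : a ∈ F.autGroup T) {P P' : Subgroup Ω} {φ : P →* Ω}
    (hφ : φ ∈ d.KE.Hom P) {χ' : P' →* Ω} (h : Transp a φ χ') : χ' ∈ d.KE.Hom P' := by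
  obtain ⟨κ, hκ, φ₀, hφ₀, hκφ⟩ := hφ
  have hPT : P ≤ T := (E.le_of_mem hφ₀).1
  have hφ₀T : ∀ x : P, φ₀ x ∈ T := (E.le_of_mem hφ₀).2
  obtain ⟨χ₀, hχ₀⟩ := exists_transp a hPT φ₀ hφ₀T
  have hχ₀E := InvCond.transp_mem d.hInv hφ₀ ha hχ₀
  have hχ₀T : ∀ y, χ₀ y ∈ T := (E.le_of_mem hχ₀E).2
  have hκ' : a * κ * a⁻¹ ∈ d.K := conj_mem_kerAut ha hκ
  have hρ : (T.subtype.comp (a * κ * a⁻¹ : MulAut T).toMonoidHom).comp (χ₀.codRestrict T hχ₀T) ∈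
      d.KE.Hom ((P.subgroupOf T).map (T.subtype.comp a.toMonoidHom)) :=
    ⟨a * κ * a⁻¹, hκ', χ₀, hχ₀E, fun y hy => rfl⟩
  have heq : (P.subgroupOf T).map (T.subtype.comp a.toMonoidHom) = P' := by
    ext z
    rw [hχ₀.1, h.1]
  refine (hom_cast d.KE heq ?_).mp hρ
  intro z hz hz'
  obtain ⟨x, hx, rfl⟩ := (h.1 z).mp hz'
  have hφT : φ ⟨x, hx⟩ ∈ T := by
    rw [hκφ ⟨x, hx⟩ (hφ₀T _)]
    exact (κ _).2
  rw [h.2 x hx hz' hφT]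
  show (((a * κ * a⁻¹) ⟨χ₀ ⟨a x, hz⟩, _⟩ : T) : Ω) = _
  have h1 : (⟨χ₀ ⟨a x, hz⟩, hχ₀T _⟩ : T) = a ⟨φ₀ ⟨x, hx⟩, hφ₀T _⟩ :=
    Subtype.ext (hχ₀.2 x hx hz (hφ₀T _))
  rw [h1, MulAut.mul_apply, MulAut.mul_apply, MulAut.inv_apply_self]
  congr 2
  apply Subtype.ext
  exact (hκφ ⟨x, hx⟩ (hφ₀T _)).symm

variable [Finite S] [Fact p.Prime] [Finite Δ]

/-- The pullback system is invariant under `Aut_F(S)`. -/
theorem transp_mem_pull {α : MulAut S} (hα : α ∈ F.autGroup S) {Q P' : Subgroup Ω} {φ : Q →* Ω}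
    (hφ : φ ∈ d.pull.Hom Q) {χ' : P' →* Ω} (h : Transp α φ χ') : χ' ∈ d.pull.Hom P' := by
  obtain ⟨hφF, hφK⟩ := hφ
  have hQS : Q ≤ S := (F.le_of_mem hφF).1
  have hφS : ∀ x : Q, φ x ∈ S := (F.le_of_mem hφF).2
  have hχ'F : χ' ∈ F.Hom P' := transp_mem_self le_rfl hα hQS hφF hφS h
  refine ⟨hχ'F, ?_⟩
  obtain ⟨a, ha, haα⟩ := exists_resAutT d.hT hα
  refine d.transp_mem_KE ha hφK (χ' := resT T χ') ⟨fun z => ?_, fun x hx hax hφx => ?_⟩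
  · constructor
    · rintro ⟨hzP', hzT⟩
      obtain ⟨x₀, hx₀, hzx₀⟩ := (h.1 z).mp hzP'
      have h1 : ((a (a⁻¹ ⟨z, hzT⟩) : T) : Ω) = z := by rw [MulAut.apply_inv_self]
      have h2 : α ⟨((a⁻¹ ⟨z, hzT⟩ : T) : Ω), d.hTS (a⁻¹ ⟨z, hzT⟩).2⟩ = α x₀ := by
        apply Subtype.ext
        rw [← haα, h1, hzx₀]
      have h3 := α.injective h2
      refine ⟨a⁻¹ ⟨z, hzT⟩, ⟨?_, (a⁻¹ ⟨z, hzT⟩).2⟩, h1.symm⟩
      have : ((a⁻¹ ⟨z, hzT⟩ : T) : Ω) = (x₀ : Ω) := congrArg (fun s : S => (s : Ω)) h3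
      rw [this]
      exact hx₀
    · rintro ⟨x, hx, rfl⟩
      refine ⟨?_, (a x).2⟩
      rw [haα]
      exact h.mem ⟨x, d.hTS x.2⟩ hx.1
  · have h1 := h.2 ⟨x, d.hTS x.2⟩ hx.1 (by rw [← haα]; exact hax.1) (hφS _)
    rw [resT_apply]
    have h2 : (⟨((a x : T) : Ω), hax.1⟩ : P') = ⟨((α ⟨x, d.hTS x.2⟩ : S) : Ω), by rw [← haα]; exact hax.1⟩ :=
      Subtype.ext (haα x)
    rw [h2, h1, haα]
    rfl

end Data

end Cfsg.Agent.Lib.Helper27.Chi
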