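import Cfsg.Agent.Lib.Helper27.ChiF
import Cfsg.Agent.S5251

set_option autoImplicit false

namespace Cfsg.Agent.Lib.Helper27.Chi

open Cfsg Cfsg.FusionSystem Cfsg.Agent.Lib.Helper27 Cfsg.Agent.H26

variable {Ω : Type*} [Group Ω] {S T : Subgroup Ω}

namespace Data

variable {p : ℕ} {F : FusionSystem S} {E : FusionSystem T} {Δ : Type*} [Group Δ] (d : Data p F E Δ)

include d

variable [Finite S] [Fact p.Prime] [Finite Δ]

/-- The Frattini property on the family. -/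
theorem frat_fam {P : Subgroup Ω} (hP : P ∈ fam S E) {φ : P →* Ω} (hφ : φ ∈ F.Hom P) :
    FratAt d.F0 F P φ := by
  have hφS : ∀ x : P, φ x ∈ S := (F.le_of_mem hφ).2
  have hres : resT T φ ∈ F.Hom (P ⊓ T) := hom_restrict F inf_le_left hφ
  obtain ⟨γ, hγ, ψ₀, hψ₀, hγψ⟩ := d.hFrat (P ⊓ T) inf_le_right _ hres
  obtain ⟨α, hα, a, ha, haα, haK⟩ := d.exists_aut_top γ hγ
  have hαinv : α⁻¹ ∈ F.autGroup S := Subgroup.inv_mem _ hα
  have hαinvhom := (mem_autGroup_iff F le_rfl α⁻¹).mp hαinv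
  have hφ₁F : (S.subtype.comp ((α⁻¹ : MulAut S) : S ≃* S).toMonoidHom).comp (φ.codRestrict S hφS) ∈ F.Hom P :=
    F.comp_mem hφ hαinvhom hφS
  have hainv : ∀ t : T, ((a⁻¹ t : T) : Ω) = ((α⁻¹ ⟨t, d.hTS t.2⟩ : S) : Ω) := by
    intro t
    have h1 : α ⟨((a⁻¹ t : T) : Ω), d.hTS (a⁻¹ t).2⟩ = ⟨t, d.hTS t.2⟩ := by
      apply Subtype.ext
      rw [← haα, MulAut.apply_inv_self]
    rw [← h1, MulAut.inv_apply_self]
  refine ⟨α, hα, _, d.pull_le_F0 hP ⟨hφ₁F, a⁻¹ * γ, haK, ψ₀, hψ₀, fun x hx => ?_⟩, fun x hx => ?_⟩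
  · show ((α⁻¹ ⟨φ ⟨x, x.2.1⟩, _⟩ : S) : Ω) = (((a⁻¹ * γ) ⟨ψ₀ x, hx⟩ : T) : Ω)
    rw [MulAut.mul_apply, hainv]
    congr 2
    apply Subtype.ext
    exact hγψ x hx
  · show φ x = ((α (α⁻¹ ⟨φ x, _⟩) : S) : Ω)
    rw [MulAut.apply_inv_self]

/-- The subsystem is invariant under `Aut_F(S)`. -/
theorem F0_inv (P : Subgroup Ω) : d.F0.Hom P ⊆ (invCore d.F0 (F.autGroup S)).Hom P := by
  apply genSystem_le_of
  rintro Q φ ⟨hQ, hφ⟩
  refine ⟨d.pull_le_F0 hQ hφ, fun α hα P' χ' hχ' => ?_⟩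
  obtain ⟨e, he⟩ := exists_resIso α hQ.1 hχ'.1
  have heiso : IsIso F e := isIso_resIso le_rfl hα hQ.1 e he
  have hP' : P' ∈ fam S E := d.fam_of_isConj hQ ((isConj_iff F).mpr ⟨e, heiso⟩)
  exact d.pull_le_F0 hP' (d.transp_mem_pull hα hφ hχ')

theorem F0_invCond : InvCond d.F0 F := by
  intro P hPS φ hφ α hα
  have hφS : ∀ x : P, φ x ∈ S := (d.F0.le_of_mem hφ).2
  obtain ⟨χ', hχ'⟩ := exists_transp α hPS φ hφS
  exact ⟨χ', (d.F0_inv P hφ).2 α hα _ _ hχ', fun x hφx hαx => hχ'.2 ⟨x, hPS x.2⟩ x.2 hαx hφx⟩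

/-- The Frattini property for all maps of `F`. -/
theorem frat_all (P : Subgroup Ω) (φ : P →* Ω) (hφ : φ ∈ F.Hom P) : FratAt d.F0 F P φ := by
  have h := alperin d.hS d.hF (prodSys d.F0 (F.autGroup S) d.F0_inv) ?_ ?_ P hφ
  · exact h
  · intro α hα
    exact ⟨α, (mem_autGroup_iff F le_rfl α).mpr hα, S.subtype, hom_subtype d.F0 le_rfl, fun x hx => rfl⟩
  · intro R hR hfn hc hr α hα
    have hRfam : R ∈ fam S E := by
      refine ⟨hc.1, ?_⟩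
      by_contra hcon
      exact (Cfsg.Agent.S5251.result p d.hS F d.hF E d.hE R hc hcon).2 hr
    exact d.frat_fam hRfam hα

theorem isCentric_iff (P : Subgroup Ω) : d.F0.IsCentric P ↔ F.IsCentric P :=
  isCentric_iff_of_frat d.F0_le_F d.frat_all P

end Data

end Cfsg.Agent.Lib.Helper27.Chi
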