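import Cfsg.Agent.Lib.Helper27.ChiH

set_option autoImplicit false

namespace Cfsg.Agent.Lib.Helper27.Chi

open Cfsg Cfsg.FusionSystem Cfsg.Agent.Lib.Helper27 Cfsg.Agent.H26 Cfsg.Agent.Lib.Helper16

variable {Ω : Type*} [Group Ω] {S T : Subgroup Ω}

/-- A fully automized non-radical subgroup has a nontrivial `Out_S ∩ O_p(Out)` in every subsystem over `S`. -/
theorem not_le_inn_of_not_radical [Finite S] {p : ℕ} [Fact p.Prime] (hS : IsPGroup p S)
    {F F' : FusionSystem S} (hF'F : F'.IsSubsystemOf F) {Q : Subgroup Ω} (hfa : F.IsFullyAutomized p Q)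
    (hnr : ¬ F.IsRadical p Q) :
    ¬ (autInducedBy S Q ⊓ (pCore p ↥(F'.autGroup Q)).map (F'.autGroup Q).subtype ≤ Inn Q) := by
  obtain ⟨hQS, R₀, hR₀⟩ := hfa
  haveI : Finite Q := Finite.of_injective (Subgroup.inclusion hQS) (Subgroup.inclusion_injective hQS)
  have hne : (pCore p (F.autGroup Q)).map (F.autGroup Q).subtype ≠ Inn Q := fun h => hnr ⟨hQS, h⟩
  have hlt : Inn Q < (pCore p (F.autGroup Q)).map (F.autGroup Q).subtype :=
    lt_of_le_of_ne (inn_le_pCore_map hS F hQS) hne.symm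
  obtain ⟨k, hkK, hkI⟩ := SetLike.exists_of_lt hlt
  have hKS : (pCore p (F.autGroup Q)).map (F.autGroup Q).subtype ≤ autInducedBy S Q := by
    rintro _ ⟨k', hk', rfl⟩
    have h1 : k' ∈ (R₀ : Subgroup (F.autGroup Q)) := Cfsg.Agent.Lib.Helper1.pCore_le_sylow R₀ hk'
    rw [hR₀] at h1
    exact h1
  have hOF' : (pCore p (F.autGroup Q)).map (F.autGroup Q).subtype ≤ F'.autGroup Q :=
    hKS.trans (autInducedBy_le_autGroup F' hQS)
  have hF'le : F'.autGroup Q ≤ F.autGroup Q := autGroup_le_of_subsystem hF'F Q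
  intro hle
  apply hkI
  apply hle
  refine ⟨hKS hkK, ?_⟩
  have hn : (((pCore p (F.autGroup Q)).map (F.autGroup Q).subtype).subgroupOf (F'.autGroup Q)).Normal := by
    refine ⟨fun n hn g => ?_⟩
    rw [Subgroup.mem_subgroupOf] at hn ⊢
    obtain ⟨k', hk', hk'n⟩ := hn
    have := (Cfsg.Agent.Lib.Helper1.pCore_normal (G := F.autGroup Q) p).conj_mem k' hk'
      ⟨(g : MulAut Q), hF'le g.2⟩
    refine ⟨_, this, ?_⟩
    simp only [Subgroup.coe_subtype, Subgroup.coe_mul, Subgroup.coe_inv]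
    rw [← hk'n]
    rfl
  have hp : IsPGroup p (((pCore p (F.autGroup Q)).map (F.autGroup Q).subtype).subgroupOf (F'.autGroup Q)) :=
    ((Cfsg.Agent.Lib.Helper1.pCore_isPGroup (G := F.autGroup Q) p).map _).comap_subtype
  have h2 := Cfsg.Agent.Lib.Helper1.le_pCore hn hp
  exact ⟨⟨k, hOF' hkK⟩, h2 (Subgroup.mem_subgroupOf.mpr hkK), rfl⟩

namespace Data

variable {p : ℕ} {F : FusionSystem S} {E : FusionSystem T} {Δ : Type*} [Group Δ] (d : Data p F E Δ)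

include d

variable [Finite S] [Fact p.Prime] [Finite Δ]

/-- Every subgroup of `S` is conjugate in the subsystem to a subgroup fully normalized in `F`. -/
theorem exists_fn_conj {P : Subgroup Ω} (hPS : P ≤ S) :
    ∃ Q, d.F0.IsConj P Q ∧ F.IsFullyNormalized Q := by
  obtain ⟨P', hPP', hfn⟩ := exists_fullyNormalized_conj F hPS
  obtain ⟨φ, hφ, hφr⟩ := hPP'
  obtain ⟨α, hα, φ₁, hφ₁, hαφ⟩ := d.frat_all P φ hφ
  have hφ₁S : ∀ x : P, φ₁ x ∈ S := (d.F0.le_of_mem hφ₁).2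
  have hQS : φ₁.range ≤ S := by
    rintro _ ⟨x, rfl⟩
    exact hφ₁S x
  have hP'S : P' ≤ S := hfn.1
  have hP'iff : ∀ z : Ω, z ∈ P' ↔ ∃ x : S, (x : Ω) ∈ φ₁.range ∧ z = ((α x : S) : Ω) := by
    intro z
    rw [← hφr]
    constructor
    · rintro ⟨x, rfl⟩
      exact ⟨⟨φ₁ x, hφ₁S x⟩, ⟨x, rfl⟩, hαφ x (hφ₁S x)⟩
    · rintro ⟨y, ⟨x, hx⟩, rfl⟩
      refine ⟨x, ?_⟩
      rw [hαφ x (hφ₁S x)]
      congr 2
      exact Subtype.ext hx
  obtain ⟨e, he⟩ := exists_resIso α hQS hP'iff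
  have heiso : IsIso F e := isIso_resIso le_rfl hα hQS e he
  have hcard : Nat.card (normalizerIn S P') ≤ Nat.card (normalizerIn S φ₁.range) := by
    apply card_normalizerIn_le_of_aut (α := α⁻¹) hP'S hQS e.symm
    intro y
    have h1 := he (e.symm y)
    rw [MulEquiv.apply_symm_apply] at h1
    have h2 : (⟨(y : Ω), hP'S y.2⟩ : S) = α ⟨((e.symm y : φ₁.range) : Ω), hQS (e.symm y).2⟩ :=
      Subtype.ext h1
    rw [h2, MulAut.inv_apply_self]
  refine ⟨φ₁.range, ⟨φ₁, hφ₁, rfl⟩, hQS, fun Q'' hQ'' => (hfn.2 Q'' ?_).trans hcard⟩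
  exact isConj_trans F (isConj_symm F ((Cfsg.Agent.Lib.Helper27.isConj_iff F).mpr ⟨e, heiso⟩)) hQ''

theorem isConj_F_of_F0 {P Q : Subgroup Ω} (h : d.F0.IsConj P Q) : F.IsConj P Q := by
  obtain ⟨φ, hφ, hr⟩ := h
  exact ⟨φ, d.F0_le_F P hφ, hr⟩

/-- Members of the family are conjugate in the subsystem to fully automized receptive subgroups. -/
theorem hasSat_fam {P : Subgroup Ω} (hP : P ∈ fam S E) :
    ∃ Q, d.F0.IsConj P Q ∧ d.F0.IsFullyAutomized p Q ∧ d.F0.IsReceptive Q := by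
  obtain ⟨Q, hPQ, hQfn⟩ := d.exists_fn_conj hP.1
  obtain ⟨hfa, hrec, -⟩ := fa_receptive_of_fullyNormalized d.hS d.hF hQfn
  have hQfam : Q ∈ fam S E := d.fam_of_isConj hP (d.isConj_F_of_F0 hPQ)
  refine ⟨Q, hPQ, fullyAutomized_of_subsystem d.hS d.F0_le_F hfa, hQfn.1, ?_⟩
  intro R φ' hφ' hφ'r
  have hφ'F := d.F0_le_F R hφ'
  have hRS : R ≤ S := (F.le_of_mem hφ'F).1
  obtain ⟨ψ, hψ, hψe⟩ := hrec.2 R φ' hφ'F hφ'r
  have hRfam : R ∈ fam S E := d.fam_of_isConj hQfam (isConj_symm F ⟨φ', hφ'F, hφ'r⟩)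
  have hRN : R ≤ extender S R φ' := le_extender hRS φ' (F.le_of_mem hφ'F).2
  have hNfam : extender S R φ' ∈ fam S E := d.fam_of_le hRfam hRN (extender_le_S φ')
  refine ⟨ψ, d.pull_le_F0 hNfam ⟨hψ, ?_⟩, hψe⟩
  have hle : R ⊓ T ≤ extender S R φ' ⊓ T := inf_le_inf_right T hRN
  apply d.KE_of_restrict hle inf_le_right hRfam.2 (hom_restrict F inf_le_left hψ)
  have heq : (resT T ψ).comp (Subgroup.inclusion hle) = resT T φ' := by
    ext x
    exact hψe x x.2.1 _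
  have h3 := (d.F0_le_pull R hφ').2
  rw [← heq] at h3
  exact h3

/-- The subsystem is saturated. -/
theorem F0_saturated : d.F0.IsSaturated p := by
  apply saturated_of_generated d.hS d.F0 (fam S E)
  · intro P hP Q hQ
    exact d.fam_of_isConj hP (d.isConj_F_of_F0 hQ)
  · intro P hP
    exact d.hasSat_fam hP
  · intro E' hE' P
    apply genSystem_le_of
    rintro Q φ ⟨hQ, hφ⟩
    exact hE' Q hQ (d.pull_le_F0 hQ hφ)
  · intro P hPc hPn
    have hPcF : F.IsCentric P := (d.isCentric_iff P).mp hPc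
    obtain ⟨Q, hPQ, hQfn⟩ := d.exists_fn_conj hPcF.1
    have hPQF := d.isConj_F_of_F0 hPQ
    have hQc : F.IsCentric Q := isCentric_of_isConj hPcF hPQF
    have hQn : ¬ E.IsCentric (Q ⊓ T) := by
      intro h
      exact hPn (d.fam_of_isConj ⟨hQc.1, h⟩ (isConj_symm F hPQF))
    have hnr : ¬ F.IsRadical p Q := (Cfsg.Agent.S5251.result p d.hS F d.hF E d.hE Q hQc hQn).2
    obtain ⟨hfa, -, -⟩ := fa_receptive_of_fullyNormalized d.hS d.hF hQfn
    exact ⟨Q, hPQ, not_le_inn_of_not_radical d.hS d.F0_le_F hfa hnr⟩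

theorem F0_hasPrimeToPIndexIn : d.F0.HasPrimeToPIndexIn F p :=
  hasPrimeToPIndexIn_of_frat d.hS d.hF d.F0_le_F d.frat_all

end Data

end Cfsg.Agent.Lib.Helper27.Chi
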