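import Mathlib

set_option autoImplicit false

/-! Ring lemma: `(1 + x) ^ p = 1`, `x ^ (n (p - 1) + 1) = 0` imply `p ^ n * x = 0`. -/

namespace Cfsg.Agent.Lib.Helper27.CBd

open Finset

variable {Q : Type*} [CommRing Q]

/-- From `(1 + x) ^ p = 1`: `p x = - x ^ p - Σ_{m < p - 2} C(p, m + 2) x ^ (m + 2)`. -/
theorem binom_rel {p : ℕ} (hp : p.Prime) {x : Q} (h1 : (1 + x) ^ p = 1) :
    (p : Q) * x + x ^ p + ∑ m ∈ range (p - 2), x ^ (m + 2) * (p.choose (m + 2) : Q) = 0 := by
  obtain ⟨q, rfl⟩ : ∃ q, p = q + 2 := ⟨p - 2, by have := hp.two_le; omega⟩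
  rw [add_comm 1 x, add_pow] at h1
  simp only [one_pow, mul_one] at h1
  rw [sum_range_succ, sum_range_succ', sum_range_succ'] at h1
  simp only [Nat.choose_self, Nat.cast_one, mul_one, pow_zero, Nat.choose_zero_right, zero_add, pow_one,
    Nat.choose_one_right] at h1
  have e : q + 2 - 2 = q := by omega
  rw [e]
  have h2 : ∑ m ∈ range q, x ^ (m + 2) * ((q + 2).choose (m + 2) : Q) + x * ((q + 2 : ℕ) : Q) + 1 + x ^ (q + 2) = 1 := by
    convert h1 using 3
  linear_combination h2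


theorem stepA {p : ℕ} (hp : p.Prime) {x : Q} (h1 : (1 + x) ^ p = 1) {K : ℕ} (h2 : x ^ K = 0) :
    ∀ d a : ℕ, 1 ≤ a → K ≤ a + d → ∃ r : Q, (p : Q) * x ^ a = x ^ (a + (p - 1)) * r := by
  have hrel := binom_rel hp h1
  intro d
  induction d with
  | zero =>
    intro a _ hK
    refine ⟨0, ?_⟩
    have : x ^ a = 0 := by
      have e : a = K + (a - K) := by omega
      rw [e, pow_add, h2, zero_mul]
    rw [this, mul_zero, mul_zero]
  | succ d ih =>
    intro a ha hK
    have hdvd : ∀ m ∈ range (p - 2), ∃ c : ℕ, p.choose (m + 2) = p * c := by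
      intro m hm
      rw [mem_range] at hm
      exact hp.dvd_choose_self (by omega) (by omega)
    have hex : ∀ m : ℕ, ∃ r : Q, m ∈ range (p - 2) →
        x ^ (a - 1) * (x ^ (m + 2) * (p.choose (m + 2) : Q)) = x ^ (a + (p - 1)) * r := by
      intro m
      by_cases hm : m ∈ range (p - 2)
      · obtain ⟨c, hc⟩ := hdvd m hm
        obtain ⟨r, hr⟩ := ih (a + m + 1) (by omega) (by omega)
        refine ⟨(c : Q) * x ^ (m + 1) * r, fun _ => ?_⟩
        rw [hc, Nat.cast_mul]
        have e1 : x ^ (a - 1) * (x ^ (m + 2) * ((p : Q) * (c : Q))) = (c : Q) * ((p : Q) * x ^ (a + m + 1)) := by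
          have : x ^ (a + m + 1) = x ^ (a - 1) * x ^ (m + 2) := by
            rw [← pow_add]; congr 1; omega
          rw [this]; ring
        rw [e1, hr]
        have e2 : x ^ (a + m + 1 + (p - 1)) = x ^ (a + (p - 1)) * x ^ (m + 1) := by
          rw [← pow_add]; congr 1; omega
        rw [e2]; ring
      · exact ⟨0, fun h => absurd h hm⟩
    choose r hr using hex
    refine ⟨-1 - ∑ m ∈ range (p - 2), r m, ?_⟩
    have h3 : (p : Q) * x ^ a = x ^ (a - 1) * ((p : Q) * x) := by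
      have : x ^ a = x ^ (a - 1) * x := by
        rw [← pow_succ]; congr 1; omega
      rw [this]; ring
    have h4 : (p : Q) * x = - x ^ p - ∑ m ∈ range (p - 2), x ^ (m + 2) * (p.choose (m + 2) : Q) := by
      linear_combination hrel
    rw [h3, h4, mul_sub, mul_neg, mul_sum, mul_sub, mul_neg, mul_one, mul_sum]
    have h5 : x ^ (a - 1) * x ^ p = x ^ (a + (p - 1)) := by
      rw [← pow_add]; congr 1
      have := hp.two_le; omega
    rw [h5]
    congr 1
    apply sum_congr rfl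
    intro m hm
    exact hr m hm

/-- **Ring lemma**. -/
theorem pow_mul_eq_zero {p : ℕ} (hp : p.Prime) (n : ℕ) {x : Q} (h1 : (1 + x) ^ p = 1)
    (h2 : x ^ (n * (p - 1) + 1) = 0) : (p : Q) ^ n * x = 0 := by
  have key : ∀ j : ℕ, ∃ r : Q, (p : Q) ^ j * x = x ^ (j * (p - 1) + 1) * r := by
    intro j
    induction j with
    | zero => exact ⟨1, by simp⟩
    | succ j ih =>
      obtain ⟨r, hr⟩ := ih
      obtain ⟨r', hr'⟩ := stepA hp h1 h2 (n * (p - 1) + 1) (j * (p - 1) + 1) (by omega) (by omega)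
      refine ⟨r' * r, ?_⟩
      rw [pow_succ, mul_assoc, mul_comm (p : Q) x, ← mul_assoc, hr, mul_assoc, mul_comm r (p : Q), ← mul_assoc,
        mul_comm (x ^ (j * (p - 1) + 1)) (p : Q), hr']
      have : (j + 1) * (p - 1) + 1 = j * (p - 1) + 1 + (p - 1) := by ring
      rw [this]; ring
  obtain ⟨r, hr⟩ := key n
  rw [hr, h2, zero_mul]


open Polynomial in
/-- The ring lemma in a not necessarily commutative ring. -/
theorem pow_mul_eq_zero' {R : Type*} [Ring R] {p : ℕ} (hp : p.Prime) (n : ℕ) {x : R} (h1 : (1 + x) ^ p = 1)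
    (h2 : x ^ (n * (p - 1) + 1) = 0) : (p : R) ^ n * x = 0 := by
  set I : Ideal ℤ[X] := Ideal.span {(1 + X) ^ p - 1, X ^ (n * (p - 1) + 1)} with hI
  have hx1 : (1 + Ideal.Quotient.mk I X) ^ p = 1 := by
    have : (1 + X : ℤ[X]) ^ p - 1 ∈ I := Ideal.subset_span (by simp)
    have h := Ideal.Quotient.eq_zero_iff_mem.mpr this
    rw [map_sub, map_pow, map_add, map_one] at h
    exact sub_eq_zero.mp h
  have hx2 : (Ideal.Quotient.mk I X) ^ (n * (p - 1) + 1) = 0 := by
    have : (X : ℤ[X]) ^ (n * (p - 1) + 1) ∈ I := Ideal.subset_span (by simp)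
    have h := Ideal.Quotient.eq_zero_iff_mem.mpr this
    rwa [map_pow] at h
  have h3 := pow_mul_eq_zero hp n hx1 hx2
  have h4 : ((p : ℤ[X]) ^ n * X) ∈ I := by
    rw [← Ideal.Quotient.eq_zero_iff_mem, map_mul, map_pow, map_natCast]
    exact h3
  rw [hI, Ideal.mem_span_pair] at h4
  obtain ⟨a, b, hab⟩ := h4
  have h5 := congrArg (aeval x) hab
  rw [map_add, map_mul, map_mul, map_sub, map_pow, map_add, map_one, aeval_X, map_pow, aeval_X, h1, h2,
    sub_self, mul_zero, mul_zero, add_zero, map_mul, map_pow, map_natCast, aeval_X] at h5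
  exact h5.symm

end Cfsg.Agent.Lib.Helper27.CBd
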