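import Mathlib
import Cfsg.Agent.Lib.Helper27.ClassBoundA

set_option autoImplicit false

/-! Module lemma: an element `s` normalizing an abelian subgroup `M`, with `s ^ p` centralizing `M` and
`[M, s; n (p - 1) + 1] = 1`, centralizes the `p ^ n`-th powers of `M`. -/

namespace Cfsg.Agent.Lib.Helper27.CBd

variable {Ω : Type*} [Group Ω]

/-- the commutator map `m ↦ s m s⁻¹ m⁻¹` -/
def commMap (s : Ω) (m : Ω) : Ω := s * m * s⁻¹ * m⁻¹

theorem commMap_mem {M : Subgroup Ω} {s : Ω} (hs : ∀ m ∈ M, s * m * s⁻¹ ∈ M) {m : Ω} (hm : m ∈ M) :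
    commMap s m ∈ M := M.mul_mem (hs m hm) (M.inv_mem hm)

theorem commMap_iterate_mem {M : Subgroup Ω} {s : Ω} (hs : ∀ m ∈ M, s * m * s⁻¹ ∈ M) (j : ℕ) {m : Ω}
    (hm : m ∈ M) : (commMap s)^[j] m ∈ M := by
  induction j with
  | zero => exact hm
  | succ j ih =>
    rw [Function.iterate_succ_apply']
    exact commMap_mem hs ih

theorem conj_fixes_pow {M : Subgroup Ω} (hM : ∀ a ∈ M, ∀ b ∈ M, a * b = b * a) {s : Ω}
    (hs : ∀ m ∈ M, s * m * s⁻¹ ∈ M) {p : ℕ} (hp : p.Prime) (hsp : ∀ m ∈ M, s ^ p * m = m * s ^ p) (n : ℕ)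
    (hD : ∀ m ∈ M, (commMap s)^[n * (p - 1) + 1] m = 1) :
    ∀ m ∈ M, s * m ^ (p ^ n) * s⁻¹ = m ^ (p ^ n) := by
  letI : CommGroup ↥M := { (inferInstance : Group ↥M) with
    mul_comm := fun a b => Subtype.ext (hM a a.2 b b.2) }
  let shat : AddMonoid.End (Additive ↥M) := AddMonoidHom.mk'
    (fun a => Additive.ofMul (⟨s * ((Additive.toMul a : M) : Ω) * s⁻¹, hs _ (Additive.toMul a).2⟩ : M))
    (by
      intro a b
      apply congrArg Additive.ofMul
      apply Subtype.ext
      simp only [toMul_add, Subgroup.coe_mul, toMul_ofMul]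
      group)
  have hshat : ∀ a : Additive ↥M, ((Additive.toMul (shat a) : M) : Ω) = s * ((Additive.toMul a : M) : Ω) * s⁻¹ :=
    fun a => rfl
  have hpow : ∀ (j : ℕ) (a : Additive ↥M),
      ((Additive.toMul ((shat ^ j) a) : M) : Ω) = s ^ j * ((Additive.toMul a : M) : Ω) * (s ^ j)⁻¹ := by
    intro j
    induction j with
    | zero => intro a; simp
    | succ j ih =>
      intro a
      rw [pow_succ']
      show ((Additive.toMul (shat ((shat ^ j) a)) : M) : Ω) = _
      rw [hshat, ih, pow_succ']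
      group
  set δ : AddMonoid.End (Additive ↥M) := shat - 1 with hδ
  have hδapp : ∀ a : Additive ↥M, ((Additive.toMul (δ a) : M) : Ω) = commMap s ((Additive.toMul a : M) : Ω) := by
    intro a
    rw [hδ]
    show ((Additive.toMul (shat a - a) : M) : Ω) = _
    rw [toMul_sub, div_eq_mul_inv, Subgroup.coe_mul, Subgroup.coe_inv, hshat]
    rfl
  have hδpow : ∀ (j : ℕ) (a : Additive ↥M),
      ((Additive.toMul ((δ ^ j) a) : M) : Ω) = (commMap s)^[j] ((Additive.toMul a : M) : Ω) := by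
    intro j
    induction j with
    | zero => intro a; simp
    | succ j ih =>
      intro a
      rw [pow_succ']
      show ((Additive.toMul (δ ((δ ^ j) a)) : M) : Ω) = _
      rw [hδapp, ih, Function.iterate_succ_apply']
  have h1 : (1 + δ) ^ p = 1 := by
    have : 1 + δ = shat := by rw [hδ]; abel
    rw [this]
    ext a
    rw [hpow]
    have := hsp _ (Additive.toMul a).2
    rw [this]
    simp
  have h2 : δ ^ (n * (p - 1) + 1) = 0 := by
    ext a
    rw [hδpow, hD _ (Additive.toMul a).2]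
    rfl
  have h3 := pow_mul_eq_zero' hp n h1 h2
  intro m hm
  have h4 := congrArg (fun f : AddMonoid.End (Additive ↥M) => f (Additive.ofMul (⟨m, hm⟩ : M))) h3
  have h4' : ((p : AddMonoid.End (Additive ↥M)) ^ n) (δ (Additive.ofMul (⟨m, hm⟩ : M))) = 0 := h4
  clear h4
  rename' h4' => h4
  have h5 : ((p : AddMonoid.End (Additive ↥M)) ^ n) = ((p ^ n : ℕ) : AddMonoid.End (Additive ↥M)) := by
    rw [Nat.cast_pow]
  rw [h5, AddMonoid.End.natCast_apply] at h4
  have h6 := congrArg (fun a : Additive ↥M => ((Additive.toMul a : M) : Ω)) h4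
  simp only [toMul_nsmul, Subgroup.coe_pow, toMul_zero, Subgroup.coe_one] at h6
  rw [hδapp] at h6
  simp only [toMul_ofMul] at h6
  -- (s m s⁻¹ m⁻¹)^(p^n) = 1
  unfold commMap at h6
  have hcomm : Commute (s * m * s⁻¹) m⁻¹ := hM _ (hs m hm) _ (M.inv_mem hm)
  rw [hcomm.mul_pow, inv_pow] at h6
  rw [← conj_pow]
  exact mul_inv_eq_one.mp h6

end Cfsg.Agent.Lib.Helper27.CBd
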