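import Mathlib
import Cfsg.Prelude.Def_FusionSystem
import Cfsg.Agent.Lib.Helper27.FusionRadical
import Cfsg.Agent.Lib.Helper27.FusionEssential
import Cfsg.Agent.Lib.Helper27.CommP
import Cfsg.Agent.S5080

/-!
# Essential subgroups have no characteristic chain with steps of order `p`

* `comm_mem_of_relIndex_prime`: in a finite `p`-group, normal subgroups `B ≤ B'` with
  `|B' : B| = p` satisfy `[B', Γ] ≤ B`.
* `essential_no_chain`: an essential subgroup `H` of a saturated fusion system has no chain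
  `⊥ = c 0 ≤ c 1 ≤ … ≤ c m = ⊤` of subgroups invariant under all automorphisms of `H` with
  `|c (j+1)| = p |c j|`.
-/

set_option autoImplicit false

namespace Cfsg.Agent.Lib.Helper27

open Cfsg Cfsg.FusionSystem

theorem relIndex_eq_of_card_eq_mul {G : Type*} [Group G] [Finite G] {A B : Subgroup G} (hle : A ≤ B)
    {p : ℕ} (h : Nat.card B = p * Nat.card A) : A.relIndex B = p := by
  have h1 : A.relIndex B * B.index = A.index := Subgroup.relIndex_mul_index hle
  have h2 : Nat.card A * A.index = Nat.card G := Subgroup.card_mul_index A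
  have h3 : Nat.card B * B.index = Nat.card G := Subgroup.card_mul_index B
  have hA : 0 < Nat.card A := Nat.card_pos
  have hBi : 0 < B.index := Nat.pos_of_ne_zero Subgroup.index_ne_zero_of_finite
  have h4 : A.relIndex B * (Nat.card A * B.index) = p * (Nat.card A * B.index) := by
    calc A.relIndex B * (Nat.card A * B.index) = Nat.card A * (A.relIndex B * B.index) := by ring
      _ = Nat.card A * A.index := by rw [h1]
      _ = Nat.card B * B.index := by rw [h2, h3]
      _ = p * (Nat.card A * B.index) := by rw [h]; ring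
  exact Nat.eq_of_mul_eq_mul_right (Nat.mul_pos hA hBi) h4

/-- in a finite `p`-group, if `B ≤ B'` are normal with `|B' : B| = p` then `[B', Γ] ≤ B` -/
theorem comm_mem_of_relIndex_prime {Γ : Type*} [Group Γ] [Finite Γ] {p : ℕ} [Fact p.Prime]
    (hΓ : IsPGroup p Γ) (B B' : Subgroup Γ) (hB : B.Normal) (hB' : B'.Normal) (hle : B ≤ B')
    (hidx : B.relIndex B' = p) : ∀ x ∈ B', ∀ t : Γ, x⁻¹ * (t * x * t⁻¹) ∈ B := by
  intro x hx t
  have hf : Function.Surjective (QuotientGroup.mk' B) := QuotientGroup.mk'_surjective B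
  obtain ⟨N, hN⟩ : ∃ N : Subgroup (Γ ⧸ B), N = B'.map (QuotientGroup.mk' B) := ⟨_, rfl⟩
  have hNn : N.Normal := by rw [hN]; exact hB'.map _ hf
  have hcardN : Nat.card N = p := by
    have h1 : N.index = B'.index := by
      rw [hN]
      exact Subgroup.index_map_eq B' hf (by rw [QuotientGroup.ker_mk']; exact hle)
    have h2 : Nat.card N * N.index = Nat.card (Γ ⧸ B) := Subgroup.card_mul_index N
    have h3 : B.relIndex B' * B'.index = B.index := Subgroup.relIndex_mul_index hle
    have h4 : B.index = Nat.card (Γ ⧸ B) := Subgroup.index_eq_card B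
    rw [h1, ← h4, ← h3, hidx] at h2
    have hpos : 0 < B'.index := Nat.pos_of_ne_zero Subgroup.index_ne_zero_of_finite
    exact Nat.eq_of_mul_eq_mul_right hpos h2
  have hQ : IsPGroup p (Γ ⧸ B) := hΓ.to_quotient B
  have hcen := central_of_card_prime (S := (⊤ : Subgroup (Γ ⧸ B))) (N := N) (p := p)
    (hQ.to_subgroup ⊤) le_top hcardN (fun s _ n hn => hNn.conj_mem n hn s)
  have hxN : QuotientGroup.mk' B x ∈ N := by rw [hN]; exact Subgroup.mem_map_of_mem _ hx
  have h6 := hcen _ hxN (QuotientGroup.mk' B t) (Subgroup.mem_top _)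
  have h7 : QuotientGroup.mk' B (x⁻¹ * (t * x * t⁻¹)) = 1 := by
    rw [map_mul, map_mul, map_mul, map_inv, map_inv, h6]
    group
  exact (QuotientGroup.eq_one_iff _).mp h7

variable {Ω : Type*} [Group Ω] {S : Subgroup Ω}

/-- an essential subgroup has no chain of characteristic subgroups with steps of order `p` -/
theorem essential_no_chain [Finite S] {p : ℕ} [Fact p.Prime] (hS : IsPGroup p S)
    {F : FusionSystem S} (hF : F.IsSaturated p) {H : Subgroup Ω} (hH : F.IsEssential p H)
    (c : ℕ → Subgroup ↥H) (m : ℕ) (hc0 : c 0 = ⊥) (hcm : c m = ⊤)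
    (hchar : ∀ j, ∀ α : ↥H ≃* ↥H, ∀ x ∈ c j, α x ∈ c j)
    (hstep : ∀ j < m, c j ≤ c (j + 1) ∧ Nat.card (c (j + 1)) = p * Nat.card (c j)) : False := by
  have hrad := Cfsg.Agent.S5080.result p hS F hF H hH
  obtain ⟨K, -, -, -, ⟨g, hgN, hgH⟩, -⟩ := essential_exists_subgroup hS hF hH
  have hcen : F.IsCentric H := hH.1
  have hHS : H ≤ S := hcen.1
  have hfinH : Finite H :=
    Finite.of_injective (Subgroup.inclusion hHS) (Subgroup.inclusion_injective hHS)
  obtain ⟨b, hb⟩ : ∃ b : ℕ → Subgroup Ω, b = fun j => (c j).map H.subtype := ⟨_, rfl⟩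
  have hmem : ∀ j (x : H), (x : Ω) ∈ b j ↔ x ∈ c j := by
    intro j x
    rw [hb]
    constructor
    · intro hx
      obtain ⟨y, hy, hyx⟩ := Subgroup.mem_map.mp hx
      have h1 : y = x := Subtype.ext hyx
      rw [← h1]; exact hy
    · intro hx; exact Subgroup.mem_map.mpr ⟨x, hx, rfl⟩
  have hbH : ∀ j, b j ≤ H := by
    intro j y hy
    rw [hb] at hy
    obtain ⟨y', -, rfl⟩ := Subgroup.mem_map.mp hy
    exact y'.2
  refine not_isRadical_of_conjAutHom_mem_pCore hcen hgN hgH ?_ hrad
  apply conjAutHom_mem_pCore_of_stabilizes_chain hS F hHS b m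
  · intro j α _ x hx
    exact (hmem j _).mpr (hchar j α x ((hmem j x).mp hx))
  · rw [hb]
    show (c 0).map H.subtype = ⊥
    rw [hc0, Subgroup.map_bot]
  · intro x hx
    exact (hmem m ⟨x, hx⟩).mpr (by rw [hcm]; exact Subgroup.mem_top _)
  · intro j hj x hxH hxb
    obtain ⟨hle, hcard⟩ := hstep j hj
    have hNS : normalizerIn S H ≤ S := inf_le_left
    have hfinN : Finite (normalizerIn S H) :=
      Finite.of_injective (Subgroup.inclusion hNS) (Subgroup.inclusion_injective hNS)
    have hpN : IsPGroup p (normalizerIn S H) := hS.to_le hNS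
    have hHN : H ≤ normalizerIn S H := le_normalizerIn hHS
    have hconj : ∀ i, ∀ t ∈ normalizerIn S H, ∀ y ∈ b i, t * y * t⁻¹ ∈ b i := by
      intro i t ht y hy
      have hyH : y ∈ H := hbH i hy
      have h1 := hchar i (conjAutHom S H ⟨t, ht⟩) ⟨y, hyH⟩ ((hmem i ⟨y, hyH⟩).mp hy)
      have h2 := (hmem i _).mpr h1
      rw [conjAutHom_apply] at h2
      exact h2
    obtain ⟨B, hBdef⟩ : ∃ B : Subgroup (normalizerIn S H),
      B = (b j).subgroupOf (normalizerIn S H) := ⟨_, rfl⟩
    obtain ⟨B', hB'def⟩ : ∃ B' : Subgroup (normalizerIn S H),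
      B' = (b (j + 1)).subgroupOf (normalizerIn S H) := ⟨_, rfl⟩
    have hBn : B.Normal := by
      constructor
      intro n hn t
      rw [hBdef, Subgroup.mem_subgroupOf] at hn ⊢
      exact hconj j t t.2 n hn
    have hB'n : B'.Normal := by
      constructor
      intro n hn t
      rw [hB'def, Subgroup.mem_subgroupOf] at hn ⊢
      exact hconj (j + 1) t t.2 n hn
    have hble : b j ≤ b (j + 1) := by
      rw [hb]; exact Subgroup.map_mono hle
    have hBle : B ≤ B' := by
      intro n hn
      rw [hBdef, Subgroup.mem_subgroupOf] at hn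
      rw [hB'def, Subgroup.mem_subgroupOf]
      exact hble hn
    have hidx : B.relIndex B' = p := by
      rw [hBdef, hB'def, Subgroup.relIndex_subgroupOf ((hbH (j + 1)).trans hHN)]
      have h1 : (b j).relIndex (b (j + 1)) = (c j).relIndex (c (j + 1)) := by
        rw [hb]
        exact Subgroup.relIndex_map_map_of_injective (c j) (c (j + 1)) (Subgroup.subtype_injective H)
      rw [h1]
      exact relIndex_eq_of_card_eq_mul hle hcard
    have hxB' : (⟨x, hHN hxH⟩ : normalizerIn S H) ∈ B' := by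
      rw [hB'def, Subgroup.mem_subgroupOf]; exact hxb
    have h9 := comm_mem_of_relIndex_prime hpN B B' hBn hB'n hBle hidx ⟨x, hHN hxH⟩ hxB' ⟨g, hgN⟩
    rw [hBdef, Subgroup.mem_subgroupOf] at h9
    exact h9

end Cfsg.Agent.Lib.Helper27
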