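import Mathlib
import Cfsg.Prelude.Def_FusionSystem
import Cfsg.Agent.Lib.Helper27.EssentialChain
import Cfsg.Agent.Lib.Helper27.AbelianTwoGen

/-!
# Abelian essential subgroups: outer elements of order `p` act nontrivially modulo `p`-th powers
-/

set_option autoImplicit false

namespace Cfsg.Agent.Lib.Helper27

open Cfsg Cfsg.FusionSystem

variable {Ω : Type*} [Group Ω] {S : Subgroup Ω}

/-- if `N_S(H) > H` there is `g ∈ N_S(H) - H` with `g ^ p ∈ H` -/
theorem exists_outer_pow_mem {p : ℕ} (hS : IsPGroup p S) {H : Subgroup Ω} {g : Ω}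
    (hgN : g ∈ normalizerIn S H) (hgH : g ∉ H) :
    ∃ g' ∈ normalizerIn S H, g' ∉ H ∧ g' ^ p ∈ H := by
  have key : ∀ n : ℕ, ∀ g ∈ normalizerIn S H, g ∉ H → g ^ (p ^ n) ∈ H →
      ∃ g' ∈ normalizerIn S H, g' ∉ H ∧ g' ^ p ∈ H := by
    intro n
    induction n with
    | zero =>
      intro g _ hgH hg
      rw [pow_zero, pow_one] at hg
      exact absurd hg hgH
    | succ n ih =>
      intro g hgN hgH hg
      by_cases h : g ^ p ∈ H
      · exact ⟨g, hgN, hgH, h⟩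
      · apply ih (g ^ p) (Subgroup.pow_mem _ hgN p) h
        rw [← pow_mul, ← pow_succ']
        exact hg
  have hgS : g ∈ S := (inf_le_left : normalizerIn S H ≤ S) hgN
  obtain ⟨n, hn⟩ := hS ⟨g, hgS⟩
  have hn' : g ^ (p ^ n) = 1 := by
    have := congrArg Subtype.val hn
    simpa using this
  exact key n g hgN hgH (by rw [hn']; exact H.one_mem)

/-- an element of `N_S(H) - H`, `H` abelian essential of exponent dividing `p^k`, cannot act
trivially on `H` modulo `p`-th powers -/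
theorem essential_not_trivial_mod_pow [Finite S] {p : ℕ} [Fact p.Prime] (hS : IsPGroup p S)
    {F : FusionSystem S} (hF : F.IsSaturated p) {H : Subgroup Ω} (hH : F.IsEssential p H)
    (hc : ∀ x y : H, x * y = y * x) (k : ℕ) (hexp : ∀ x : H, x ^ (p ^ k) = 1)
    {g : Ω} (hgN : g ∈ normalizerIn S H) (hgH : g ∉ H)
    (htriv : ∀ x : H, ∃ w : H, x⁻¹ * conjAutHom S H ⟨g, hgN⟩ x = w ^ p) : False := by
  have hrad := Cfsg.Agent.S5080.result p hS F hF H hH
  have hcen : F.IsCentric H := hH.1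
  have hHS : H ≤ S := hcen.1
  obtain ⟨b, hb⟩ : ∃ b : ℕ → Subgroup Ω,
      b = fun j => (ATG.pw hc (p ^ (k - j)) ⊤).map H.subtype := ⟨_, rfl⟩
  have hmem : ∀ j (x : H), (x : Ω) ∈ b j ↔ ∃ y : H, y ^ (p ^ (k - j)) = x := by
    intro j x
    rw [hb]
    show (x : Ω) ∈ (ATG.pw hc (p ^ (k - j)) ⊤).map H.subtype ↔ _
    constructor
    · intro hx
      obtain ⟨y, hy, hyx⟩ := Subgroup.mem_map.mp hx
      have h1 : y = x := Subtype.ext hyx
      rw [← h1]
      obtain ⟨z, -, hz⟩ := (ATG.mem_pw hc).mp hy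
      exact ⟨z, hz⟩
    · rintro ⟨y, hy⟩
      exact Subgroup.mem_map.mpr ⟨x, (ATG.mem_pw hc).mpr ⟨y, Subgroup.mem_top y, hy⟩, rfl⟩
  have hbH : ∀ j, b j ≤ H := by
    intro j y hy
    rw [hb] at hy
    obtain ⟨y', -, rfl⟩ := Subgroup.mem_map.mp hy
    exact y'.2
  refine not_isRadical_of_conjAutHom_mem_pCore hcen hgN hgH ?_ hrad
  apply conjAutHom_mem_pCore_of_stabilizes_chain hS F hHS b k
  · intro j α _ x hx
    obtain ⟨y, hy⟩ := (hmem j x).mp hx
    exact (hmem j (α x)).mpr ⟨α y, by rw [← map_pow, hy]⟩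
  · rw [Subgroup.eq_bot_iff_forall]
    intro x hx
    have hxH : x ∈ H := hbH 0 hx
    obtain ⟨y, hy⟩ := (hmem 0 ⟨x, hxH⟩).mp hx
    rw [Nat.sub_zero, hexp y] at hy
    have := congrArg Subtype.val hy
    exact this.symm
  · intro x hx
    exact (hmem k ⟨x, hx⟩).mpr ⟨⟨x, hx⟩, by rw [Nat.sub_self, pow_zero, pow_one]⟩
  · intro j hj x hxH hxb
    obtain ⟨z, hz⟩ := (hmem (j + 1) ⟨x, hxH⟩).mp hxb
    obtain ⟨w, hw⟩ := htriv z
    have e : x⁻¹ * (g * x * g⁻¹) =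
        (((⟨x, hxH⟩ : H)⁻¹ * conjAutHom S H ⟨g, hgN⟩ ⟨x, hxH⟩ : H) : Ω) := rfl
    rw [e]
    refine (hmem j _).mpr ⟨w, ?_⟩
    have hk' : k - j = (k - (j + 1)) + 1 := by omega
    rw [hk', pow_succ, pow_mul', ← hw, Commute.mul_pow (hc _ _), inv_pow, ← map_pow, hz]

end Cfsg.Agent.Lib.Helper27
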