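import Mathlib
import Cfsg.Agent.Lib.Helper18.MaxAbelian
import Cfsg.Agent.Lib.Helper18.ProductFormula
import Cfsg.Agent.H5.Replacement
import Cfsg.Agent.Lib.Helper1.ThompsonPQ
import Cfsg.Agent.Lib.Helper10.Basic

set_option autoImplicit false

/-! Thompson factorization, group-theoretic part 1: an abelian subgroup of largest order of a
`p`-group `S` which does not centralize an abelian subgroup `V` normalized by `S` contains an element
acting quadratically and nontrivially on `V`. -/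

namespace Cfsg.Agent.Lib.Helper27.TF

open Subgroup Cfsg.Agent.Lib.Helper18 Cfsg.Agent.Lib.Helper1
open scoped commutatorElement

variable {G : Type*} [Group G] [Finite G] {p : ℕ} [Fact p.Prime]

/-- **Quadratic elements.** -/
theorem exists_quadratic {S V B : Subgroup G} (hSp : IsPGroup p S) (hVS : V ≤ S)
    (hVab : ∀ a ∈ V, ∀ b ∈ V, a * b = b * a) (hSV : S ≤ normalizer (V : Set G))
    (hB : IsMaxAbIn S B) (hBV : ¬ B ≤ centralizer (V : Set G)) :
    ∃ g ∈ B, g ∉ centralizer (V : Set G) ∧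
      ⁅⁅V, Subgroup.zpowers g⁆, Subgroup.zpowers g⁆ = ⊥ := by
  have hVc : IsMulCommutative V := (isMulCommutative_iff_forall V).mpr hVab
  have hAV : B ≤ normalizer (V : Set G) := hB.1.trans hSV
  have hBcent : B ≤ centralizer (B : Set G) := by
    intro b hb
    rw [Subgroup.mem_centralizer_iff]
    intro c hc
    exact hB.2.1 c hc b hb
  have hab : ⁅B, B⁆ ≤ centralizer (V : Set G) := by
    rw [Subgroup.commutator_eq_bot_iff_le_centralizer.mpr hBcent]; exact bot_le
  have hmemfix : ∀ (X : Subgroup G) (x : G),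
      x ∈ H5.fix V X ↔ x ∈ V ∧ x ∈ centralizer (X : Set G) := fun X x => Subgroup.mem_inf
  have hmax : ∀ Y : Subgroup G, Y ≤ B → H5.mm V Y ≤ H5.mm V B := by
    intro Y hY
    have hcomm : ∀ a ∈ Y, ∀ b ∈ H5.fix V Y, a * b = b * a := by
      intro a ha b hb
      exact Subgroup.mem_centralizer_iff.mp ((hmemfix Y b).mp hb).2 a ha
    have hEab : ∀ x ∈ Y ⊔ H5.fix V Y, ∀ y ∈ Y ⊔ H5.fix V Y, x * y = y * x := by
      intro x hx y hy
      obtain ⟨a, ha, b, hb, rfl⟩ :=
        (Cfsg.Agent.Lib.Helper10.mem_sup_of_commute Y _ hcomm).mp hx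
      obtain ⟨a', ha', b', hb', rfl⟩ :=
        (Cfsg.Agent.Lib.Helper10.mem_sup_of_commute Y _ hcomm).mp hy
      have h1 : a * a' = a' * a := hB.2.1 a (hY ha) a' (hY ha')
      have h2 : b * b' = b' * b := hVab b ((hmemfix Y b).mp hb).1 b' ((hmemfix Y b').mp hb').1
      have h3 : a * b' = b' * a := hcomm a ha b' hb'
      have h4 : a' * b = b * a' := hcomm a' ha' b hb
      calc a * b * (a' * b') = a * (b * a') * b' := by group
        _ = a * (a' * b) * b' := by rw [h4]
        _ = (a * a') * (b * b') := by group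
        _ = (a' * a) * (b' * b) := by rw [h1, h2]
        _ = a' * (a * b') * b := by group
        _ = a' * (b' * a) * b := by rw [h3]
        _ = a' * b' * (a * b) := by group
    have hES : Y ⊔ H5.fix V Y ≤ S := sup_le (hY.trans hB.1) ((H5.fix_le V Y).trans hVS)
    have h1 := hB.2.2 _ hES hEab
    have h2 := card_mul_card_le_card_sup_mul_card_inf Y (H5.fix V Y)
    have h3 : Y ⊓ H5.fix V Y ≤ H5.fix V B := by
      intro x hx
      obtain ⟨hx1, hx2⟩ := Subgroup.mem_inf.mp hx
      rw [hmemfix] at hx2 ⊢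
      refine ⟨hx2.1, ?_⟩
      rw [Subgroup.mem_centralizer_iff]
      intro b hb
      exact hB.2.1 b hb x (hY hx1)
    have h4 := Subgroup.card_le_of_le h3
    show Nat.card Y * Nat.card (H5.fix V Y) ≤ Nat.card B * Nat.card (H5.fix V B)
    exact h2.trans (Nat.mul_le_mul h1 h4)
  obtain ⟨hmm, hfix⟩ := H5.replacement V B hAV hab hmax V le_rfl
  obtain ⟨R, hR⟩ : ∃ R : Subgroup G, R = ⁅V, B⁆ := ⟨_, rfl⟩
  rw [← hR] at hmm hfix
  obtain ⟨B₁, hB₁⟩ : ∃ B₁ : Subgroup G, B₁ = B ⊓ centralizer (R : Set G) := ⟨_, rfl⟩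
  rw [← hB₁] at hmm hfix
  have hB₁B : B₁ ≤ B := by rw [hB₁]; exact inf_le_left
  have hB₁R : B₁ ≤ centralizer (R : Set G) := by rw [hB₁]; exact inf_le_right
  have hRV : R ≤ V := by rw [hR]; exact Subgroup.le_normalizer_iff_commutator_le_left.mp hAV
  -- `B₁` does not centralize `V`
  have hB₁V : ¬ B₁ ≤ centralizer (V : Set G) := by
    intro hB₁P
    apply hBV
    have h1 : H5.fix V B₁ = V := by
      apply le_antisymm (H5.fix_le V B₁)
      intro v hv
      rw [hmemfix]
      refine ⟨hv, ?_⟩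
      rw [Subgroup.mem_centralizer_iff]
      intro b hb
      exact (Subgroup.mem_centralizer_iff.mp (hB₁P hb) v hv).symm
    rw [h1] at hfix
    have hcomm' : ∀ a ∈ R, ∀ b ∈ H5.fix V B, a * b = b * a := fun a ha b hb =>
      hVab a (hRV ha) b ((hmemfix B b).mp hb).1
    have hRle' : ⁅V, B⁆ ≤ ⁅R, B⁆ := by
      rw [Subgroup.commutator_le]
      intro v hv b hb
      have hv' : v ∈ R ⊔ H5.fix V B := by rw [← hfix]; exact hv
      obtain ⟨c, hc, f, hf, rfl⟩ :=
        (Cfsg.Agent.Lib.Helper10.mem_sup_of_commute R _ hcomm').mp hv'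
      have hfb : f * b = b * f :=
        (Subgroup.mem_centralizer_iff.mp ((hmemfix B f).mp hf).2 b hb).symm
      have e : ⁅c * f, b⁆ = ⁅c, b⁆ := by
        rw [commutatorElement_def, commutatorElement_def]
        calc c * f * b * (c * f)⁻¹ * b⁻¹ = c * (f * b) * f⁻¹ * c⁻¹ * b⁻¹ := by group
          _ = c * (b * f) * f⁻¹ * c⁻¹ * b⁻¹ := by rw [hfb]
          _ = c * b * c⁻¹ * b⁻¹ := by group
      rw [e]
      exact Subgroup.commutator_mem_commutator hc hb
    have hBR : B ≤ normalizer (R : Set G) := by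
      intro b hb
      rw [hR]
      exact mem_normalizer_commutator_of_mem_centralizer (hAV hb) (hBcent hb)
    have hRB : ⁅R, B⁆ = R :=
      le_antisymm (Subgroup.le_normalizer_iff_commutator_le_left.mp hBR) (hR.le.trans hRle')
    have hBp : IsPGroup p B := hSp.to_le hB.1
    have hRp : IsPGroup p R := hSp.to_le (hRV.trans hVS)
    have hRbot : R = ⊥ := eq_bot_of_commutator_eq_of_isPGroup hBp hRp hBR hRB
    rw [hR, Subgroup.commutator_eq_bot_iff_le_centralizer] at hRbot
    intro b hb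
    rw [Subgroup.mem_centralizer_iff]
    intro v hv
    exact (Subgroup.mem_centralizer_iff.mp (hRbot hv) b hb).symm
  obtain ⟨g, hgB₁, hgV⟩ := SetLike.not_le_iff_exists.mp hB₁V
  refine ⟨g, hB₁B hgB₁, hgV, ?_⟩
  rw [eq_bot_iff]
  have h1 : ⁅V, Subgroup.zpowers g⁆ ≤ R := by
    rw [hR]
    exact Subgroup.commutator_mono le_rfl (Subgroup.zpowers_le.mpr (hB₁B hgB₁))
  have h2 : Subgroup.zpowers g ≤ centralizer (R : Set G) := Subgroup.zpowers_le.mpr (hB₁R hgB₁)
  have h3 : ⁅R, Subgroup.zpowers g⁆ = ⊥ := by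
    rw [Subgroup.commutator_comm, Subgroup.commutator_eq_bot_iff_le_centralizer]
    exact h2
  rw [← h3]
  exact Subgroup.commutator_mono h1 le_rfl

end Cfsg.Agent.Lib.Helper27.TF
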