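import Mathlib
import Cfsg.Agent.Lib.Helper27.TFQuad
import Cfsg.Agent.Lib.Helper16.PCore
import Cfsg.Agent.S1974

set_option autoImplicit false

/-! Thompson factorization, group-theoretic part 2: in a finite group `G` with
`C_G(O_p(G)) ≤ O_p(G)` and Sylow `p`-subgroup `T` there is a normal subgroup `L` centralizing the
`p`-th powers of `Z(T)` such that `N_G(T ∩ L)` normalizes `J(T)` or `T ∩ L` is not contained in
`O_p(G)`. -/

namespace Cfsg.Agent.Lib.Helper27.TF

open Subgroup Cfsg.Agent.Lib.Helper18 Cfsg.Agent.Lib.Helper1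
open scoped commutatorElement

section basic

variable {G : Type*} [Group G]

theorem powerClosure_mono (p n : ℕ) {H K : Subgroup G} (h : H ≤ K) :
    Cfsg.powerClosure p n H ≤ Cfsg.powerClosure p n K := by
  unfold Cfsg.powerClosure
  apply Subgroup.closure_mono
  rintro _ ⟨x, hx, rfl⟩
  exact ⟨x, h hx, rfl⟩

theorem powerClosure_le (p n : ℕ) (H : Subgroup G) : Cfsg.powerClosure p n H ≤ H := by
  unfold Cfsg.powerClosure
  rw [Subgroup.closure_le]
  rintro _ ⟨x, hx, rfl⟩
  exact H.pow_mem hx _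

theorem le_normalizer_powerClosure (p n : ℕ) (H : Subgroup G) :
    normalizer (H : Set G) ≤ normalizer ((Cfsg.powerClosure p n H : Subgroup G) : Set G) := by
  intro g hg
  have key : ∀ g : G, g ∈ normalizer (H : Set G) → ∀ y ∈ Cfsg.powerClosure p n H,
      g * y * g⁻¹ ∈ Cfsg.powerClosure p n H := by
    intro g hg y hy
    have hle : Cfsg.powerClosure p n H ≤
        (Cfsg.powerClosure p n H).comap (MulAut.conj g).toMonoidHom := by
      unfold Cfsg.powerClosure
      rw [Subgroup.closure_le]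
      rintro _ ⟨x, hx, rfl⟩
      show g * x ^ (p ^ n) * g⁻¹ ∈ Subgroup.closure {y : G | ∃ x ∈ H, y = x ^ (p ^ n)}
      rw [← conj_pow]
      exact Subgroup.subset_closure ⟨g * x * g⁻¹, (Subgroup.mem_normalizer_iff.mp hg x).mp hx, rfl⟩
    exact hle hy
  rw [Subgroup.mem_normalizer_iff]
  intro y
  constructor
  · exact key g hg y
  · intro h
    have := key g⁻¹ (Subgroup.inv_mem _ hg) _ h
    rw [inv_inv] at this
    have e : g⁻¹ * (g * y * g⁻¹) * g = y := by group
    rwa [e] at this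

theorem centralizer_normal_of_normal (H : Subgroup G) [hH : H.Normal] :
    (centralizer (H : Set G)).Normal := by
  constructor
  intro n hn g
  rw [Subgroup.mem_centralizer_iff] at hn ⊢
  intro h hh
  have h1 := hn (g⁻¹ * h * g) (by
    have := hH.conj_mem h hh g⁻¹
    rwa [inv_inv] at this)
  calc h * (g * n * g⁻¹) = g * ((g⁻¹ * h * g) * n) * g⁻¹ := by group
    _ = g * (n * (g⁻¹ * h * g)) * g⁻¹ := by rw [h1]
    _ = g * n * g⁻¹ * h := by group

theorem normalizer_le_normalizer_thompsonSubgroupAOf (T : Subgroup G) :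
    normalizer (T : Set G) ≤ normalizer ((Cfsg.thompsonSubgroupAOf T : Subgroup G) : Set G) := by
  have key : ∀ g : G, g ∈ normalizer (T : Set G) → Cfsg.thompsonSubgroupAOf T ≤
      (Cfsg.thompsonSubgroupAOf T).comap (MulAut.conj g).toMonoidHom := by
    intro g hg
    rw [thompsonSubgroupAOf_eq_sSup]
    apply sSup_le
    intro B hB
    rw [← Subgroup.map_le_iff_le_comap]
    apply le_sSup
    refine ⟨?_, ?_, ?_⟩
    · rintro _ ⟨b, hb, rfl⟩
      exact (Subgroup.mem_normalizer_iff.mp hg b).mp (hB.1 hb)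
    · rintro _ ⟨a, ha, rfl⟩ _ ⟨b, hb, rfl⟩
      have := hB.2.1 a ha b hb
      show g * a * g⁻¹ * (g * b * g⁻¹) = g * b * g⁻¹ * (g * a * g⁻¹)
      calc g * a * g⁻¹ * (g * b * g⁻¹) = g * (a * b) * g⁻¹ := by group
        _ = g * (b * a) * g⁻¹ := by rw [this]
        _ = g * b * g⁻¹ * (g * a * g⁻¹) := by group
    · intro C hC hCc
      rw [card_cj]
      exact hB.2.2 C hC hCc
  intro g hg
  rw [Subgroup.mem_normalizer_iff]
  intro y
  constructor
  · intro hy
    exact key g hg hy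
  · intro hy
    have := key g⁻¹ (Subgroup.inv_mem _ hg) hy
    have e : g⁻¹ * (g * y * g⁻¹) * g⁻¹⁻¹ = y := by group
    have h2 : (MulAut.conj g⁻¹).toMonoidHom (g * y * g⁻¹) ∈ Cfsg.thompsonSubgroupAOf T := this
    simp only [MulEquiv.coe_toMonoidHom, MulAut.conj_apply] at h2
    rwa [e] at h2

variable [Finite G]

theorem isMaxAbIn_iff_of_le {T T₁ : Subgroup G} (hle : T₁ ≤ T)
    (h : ∀ B, IsMaxAbIn T B → B ≤ T₁) (B : Subgroup G) : IsMaxAbIn T₁ B ↔ IsMaxAbIn T B := by
  obtain ⟨B₀, hB₀⟩ := exists_isMaxAbIn T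
  constructor
  · intro hB
    refine ⟨hB.1.trans hle, hB.2.1, fun C hC hCc => ?_⟩
    exact (hB₀.2.2 C hC hCc).trans (hB.2.2 B₀ (h B₀ hB₀) hB₀.2.1)
  · intro hB
    exact ⟨h B hB, hB.2.1, fun C hC hCc => hB.2.2 C (hC.trans hle) hCc⟩

theorem thompsonSubgroupAOf_eq_of_le {T T₁ : Subgroup G} (hle : T₁ ≤ T)
    (h : Cfsg.thompsonSubgroupAOf T ≤ T₁) :
    Cfsg.thompsonSubgroupAOf T₁ = Cfsg.thompsonSubgroupAOf T := by
  have h' : ∀ B, IsMaxAbIn T B → B ≤ T₁ := by
    intro B hB
    refine le_trans ?_ h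
    rw [thompsonSubgroupAOf_eq_sSup]
    exact le_sSup hB
  rw [thompsonSubgroupAOf_eq_sSup, thompsonSubgroupAOf_eq_sSup]
  congr 1
  ext B
  exact isMaxAbIn_iff_of_le hle h' B

end basic

section power

variable {G : Type*} [Group G] {p : ℕ} [Fact p.Prime]

/-- A suitable `p`-power of a quadratic element of a `p`-group not centralizing the abelian group
`V` still does not centralize `V` but centralizes the `p`-th powers of `V`. -/
theorem exists_pow_centralizes {T V : Subgroup G} (hTp : IsPGroup p T)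
    (hVc : ∀ a ∈ V, ∀ b ∈ V, a * b = b * a) (hTV : T ≤ normalizer (V : Set G)) {g : G}
    (hgT : g ∈ T) (hgV : g ∉ centralizer (V : Set G))
    (hquad : ⁅⁅V, Subgroup.zpowers g⁆, Subgroup.zpowers g⁆ = ⊥) :
    ∃ g' ∈ T, g' ∉ centralizer (V : Set G) ∧
      g' ∈ centralizer ((Cfsg.powerClosure p 1 V : Subgroup G) : Set G) := by
  have hex : ∃ j : ℕ, g ^ p ^ j ∈ Subgroup.centralizer (V : Set G) := by
    obtain ⟨k, hk⟩ := hTp ⟨g, hgT⟩
    refine ⟨k, ?_⟩
    have : g ^ p ^ k = 1 := by simpa using congrArg Subtype.val hk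
    rw [this]; exact Subgroup.one_mem _
  classical
  obtain ⟨j₀, hj₀⟩ : ∃ j₀, j₀ = Nat.find hex := ⟨_, rfl⟩
  have hj₀mem : g ^ p ^ j₀ ∈ Subgroup.centralizer (V : Set G) := hj₀ ▸ Nat.find_spec hex
  rcases Nat.eq_zero_or_pos j₀ with h0 | hpos
  · rw [h0, pow_zero, pow_one] at hj₀mem
    exact absurd hj₀mem hgV
  · obtain ⟨j, hj⟩ : ∃ j, j₀ = j + 1 := ⟨j₀ - 1, by omega⟩
    have hjnot : g ^ p ^ j ∉ Subgroup.centralizer (V : Set G) := by
      have : j < Nat.find hex := by rw [← hj₀, hj]; exact Nat.lt_succ_self j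
      exact Nat.find_min hex this
    refine ⟨g ^ p ^ j, T.pow_mem hgT _, hjnot, ?_⟩
    have hle : Subgroup.zpowers (g ^ p ^ j) ≤ Subgroup.zpowers g :=
      Subgroup.zpowers_le.mpr (Subgroup.pow_mem _ (Subgroup.mem_zpowers g) _)
    have hq' : ⁅⁅V, Subgroup.zpowers (g ^ p ^ j)⁆, Subgroup.zpowers (g ^ p ^ j)⁆ = ⊥ := by
      rw [eq_bot_iff, ← hquad]
      exact Subgroup.commutator_mono (Subgroup.commutator_mono le_rfl hle) hle
    have hpow : (g ^ p ^ j) ^ p ∈ Subgroup.centralizer (V : Set G) := by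
      rw [← pow_mul, ← pow_succ, ← hj]; exact hj₀mem
    have hgN : g ^ p ^ j ∈ Subgroup.normalizer (V : Set G) := hTV (T.pow_mem hgT _)
    rw [Subgroup.mem_centralizer_iff]
    intro y hy
    have hy' : y ∈ Subgroup.centralizer ({g ^ p ^ j} : Set G) := by
      revert y
      show Cfsg.powerClosure p 1 V ≤ Subgroup.centralizer ({g ^ p ^ j} : Set G)
      unfold Cfsg.powerClosure
      rw [Subgroup.closure_le]
      rintro _ ⟨v, hv, rfl⟩
      rw [pow_one]
      show v ^ p ∈ Subgroup.centralizer ({g ^ p ^ j} : Set G)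
      rw [Subgroup.mem_centralizer_iff]
      intro h hh
      rw [Set.mem_singleton_iff] at hh
      rw [hh]
      have := Cfsg.Agent.S1974.quad_centralizes_pow p V hVc (g ^ p ^ j) hgN hq' hpow v hv
      calc g ^ p ^ j * v ^ p = (g ^ p ^ j * v ^ p * (g ^ p ^ j)⁻¹) * g ^ p ^ j := by group
        _ = v ^ p * g ^ p ^ j := by rw [this]
    exact (Subgroup.mem_centralizer_iff.mp hy' _ rfl).symm

end power

section core

variable {G : Type*} [Group G] [Finite G] {p : ℕ} [Fact p.Prime]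

/-- **The group-theoretic core of the Thompson factorization.** -/
theorem group_core (Sy : Sylow p G)
    (hchar : centralizer ((Cfsg.pCore p G : Subgroup G) : Set G) ≤ Cfsg.pCore p G) :
    ∃ L : Subgroup G, L.Normal ∧
      L ≤ centralizer ((Cfsg.powerClosure p 1
        ((Sy : Subgroup G) ⊓ centralizer ((Sy : Subgroup G) : Set G)) : Subgroup G) : Set G) ∧
      (normalizer ((((Sy : Subgroup G) ⊓ L : Subgroup G)) : Set G) ≤
          normalizer ((Cfsg.thompsonSubgroupAOf (Sy : Subgroup G) : Subgroup G) : Set G) ∨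
        ¬ ((Sy : Subgroup G) ⊓ L ≤ Cfsg.pCore p G)) := by
  obtain ⟨T, hT⟩ : ∃ T : Subgroup G, T = (Sy : Subgroup G) := ⟨_, rfl⟩
  rw [← hT]
  have hTp : IsPGroup p T := hT ▸ Sy.isPGroup'
  obtain ⟨Q, hQ⟩ : ∃ Q : Subgroup G, Q = Cfsg.pCore p G := ⟨_, rfl⟩
  rw [← hQ] at hchar ⊢
  haveI hQn : Q.Normal := hQ ▸ Cfsg.Agent.Lib.Helper16.pCore_normal
  have hQT : Q ≤ T := by rw [hQ, hT]; exact Cfsg.Agent.Lib.Helper16.pCore_le_sylow Sy
  obtain ⟨V, hV⟩ : ∃ V : Subgroup G, V = Q ⊓ centralizer (Q : Set G) := ⟨_, rfl⟩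
  have hVQ : V ≤ Q := hV ▸ inf_le_left
  have hVC : V ≤ centralizer (Q : Set G) := hV ▸ inf_le_right
  haveI hCn : (centralizer (Q : Set G)).Normal := centralizer_normal_of_normal Q
  haveI hVn : V.Normal := by
    rw [hV]
    infer_instance
  have hVc : ∀ a ∈ V, ∀ b ∈ V, a * b = b * a := fun a ha b hb =>
    Subgroup.mem_centralizer_iff.mp (hVC hb) a (hVQ ha)
  have hQCV : Q ≤ centralizer (V : Set G) := by
    intro q hq
    rw [Subgroup.mem_centralizer_iff]
    intro v hv
    exact (Subgroup.mem_centralizer_iff.mp (hVC hv) q hq).symm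
  obtain ⟨Z, hZ⟩ : ∃ Z : Subgroup G, Z = T ⊓ centralizer (T : Set G) := ⟨_, rfl⟩
  rw [← hZ]
  have hZV : Z ≤ V := by
    intro z hz
    rw [hZ] at hz
    have h1 : z ∈ centralizer (Q : Set G) :=
      Subgroup.centralizer_le (SetLike.coe_subset_coe.mpr hQT) hz.2
    rw [hV]
    exact ⟨hchar h1, h1⟩
  have hTV : T ≤ normalizer (V : Set G) := by
    rw [Subgroup.normalizer_eq_top_iff.mpr hVn]
    exact le_top
  by_cases hJ : Cfsg.thompsonSubgroupAOf T ≤ centralizer (V : Set G)
  · -- first case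
    haveI : (centralizer (V : Set G)).Normal := centralizer_normal_of_normal V
    refine ⟨centralizer (V : Set G), inferInstance, ?_, Or.inl ?_⟩
    · apply Subgroup.centralizer_le
      exact SetLike.coe_subset_coe.mpr ((powerClosure_le p 1 Z).trans hZV)
    · have hJT : Cfsg.thompsonSubgroupAOf T ≤ T := by
        rintro _ ⟨j, -, rfl⟩
        exact j.2
      have h1 := thompsonSubgroupAOf_eq_of_le (inf_le_left : T ⊓ centralizer (V : Set G) ≤ T)
        (le_inf hJT hJ)
      rw [← h1]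
      exact normalizer_le_normalizer_thompsonSubgroupAOf _
  · -- second case
    have hex : ∃ B, IsMaxAbIn T B ∧ ¬ B ≤ centralizer (V : Set G) := by
      by_contra hcon
      push Not at hcon
      apply hJ
      rw [thompsonSubgroupAOf_eq_sSup]
      exact sSup_le (fun B hB => hcon B hB)
    obtain ⟨B, hB, hBV⟩ := hex
    obtain ⟨g, hgB, hgV, hquad⟩ :=
      exists_quadratic hTp (hVQ.trans hQT) hVc hTV hB hBV
    obtain ⟨g', hg'T, hg'V, hg'C⟩ := exists_pow_centralizes hTp hVc hTV (hB.1 hgB) hgV hquad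
    haveI hAn : (Cfsg.powerClosure p 1 V).Normal := by
      rw [← Subgroup.normalizer_eq_top_iff]
      have := le_normalizer_powerClosure p 1 V
      rw [Subgroup.normalizer_eq_top_iff.mpr hVn] at this
      exact top_le_iff.mp this
    haveI : (centralizer ((Cfsg.powerClosure p 1 V : Subgroup G) : Set G)).Normal :=
      centralizer_normal_of_normal _
    refine ⟨centralizer ((Cfsg.powerClosure p 1 V : Subgroup G) : Set G), inferInstance, ?_,
      Or.inr ?_⟩
    · apply Subgroup.centralizer_le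
      exact SetLike.coe_subset_coe.mpr (powerClosure_mono p 1 hZV)
    · intro hle
      exact hg'V (hQCV (hle ⟨hg'T, hg'C⟩))

end core

end Cfsg.Agent.Lib.Helper27.TF
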