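import Mathlib
import Cfsg.Prelude.Def_FusionSystem
import Cfsg.Prelude.Def_PLocal
import Cfsg.Agent.Lib.Helper27.FusionSat
import Cfsg.Agent.Lib.Helper27.FusionAlperin
import Cfsg.Agent.Lib.Helper27.FusionNormalCrit
import Cfsg.Agent.Lib.Helper27.AbelianIndexP
import Cfsg.Agent.Lib.Helper27.EssentialAbelian
import Cfsg.Agent.Lib.Helper27.TFGroup
import Cfsg.Agent.Lib.Helper27.ClassBoundB
import Cfsg.Agent.Lib.Helper16.SPE
import Cfsg.Agent.H26.Essential

set_option autoImplicit false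

/-! Subsystem of maps preserving a subgroup of `Z(S)`; strong (inductive) invariance criterion. -/

namespace Cfsg.Agent.Lib.Helper27.CBd

open Cfsg Cfsg.FusionSystem Cfsg.Agent.Lib.Helper27
open commutatorElement

variable {Ω : Type*} [Group Ω] {S : Subgroup Ω}

/-- The subsystem of `F` of the maps `φ` with `x ∈ Y ↔ φ x ∈ Y`, for `Y ≤ Z(S)`. -/
def presSys (F : FusionSystem S) (Y : Subgroup Ω) (hYZ : Y ≤ S ⊓ Subgroup.centralizer (S : Set Ω)) :
    FusionSystem S :=
  have hc : ∀ y ∈ Y, ∀ s ∈ S, s * y = y * s := fun y hy s hs => center_commute (hYZ hy) hs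
  { Hom := fun P => {φ | φ ∈ F.Hom P ∧ ∀ x : P, (x : Ω) ∈ Y ↔ φ x ∈ Y}
    le_of_mem := fun h => F.le_of_mem h.1
    injective_of_mem := fun h => F.injective_of_mem h.1
    conj_mem := by
      intro P g hP hg
      refine ⟨F.conj_mem hP hg, fun x => ?_⟩
      show (x : Ω) ∈ Y ↔ g * (x : Ω) * g⁻¹ ∈ Y
      constructor
      · intro hx
        rw [hc _ hx g hg, mul_inv_cancel_right]
        exact hx
      · intro hx
        have h1 : (x : Ω) = g⁻¹ * (g * (x : Ω) * g⁻¹) * g := by group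
        rw [h1, hc _ hx g⁻¹ (S.inv_mem hg), inv_mul_cancel_right]
        exact hx
    comp_mem := by
      intro P Q φ ψ hφ hψ h
      refine ⟨F.comp_mem hφ.1 hψ.1 h, fun x => ?_⟩
      show (x : Ω) ∈ Y ↔ ψ (φ.codRestrict Q h x) ∈ Y
      rw [hφ.2 x]
      exact hψ.2 (φ.codRestrict Q h x)
    inv_mem := by
      intro P φ hφ
      obtain ⟨ψ, hψ, hψφ⟩ := F.inv_mem hφ.1
      refine ⟨ψ, ⟨hψ, ?_⟩, hψφ⟩
      rintro ⟨_, x, rfl⟩
      rw [hψφ x]
      exact (hφ.2 x).symm }

theorem mem_presSys_iff (F : FusionSystem S) (Y : Subgroup Ω) (hYZ : Y ≤ S ⊓ Subgroup.centralizer (S : Set Ω))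
    {P : Subgroup Ω} (φ : P →* Ω) :
    φ ∈ (presSys F Y hYZ).Hom P ↔ φ ∈ F.Hom P ∧ ∀ x : P, (x : Ω) ∈ Y ↔ φ x ∈ Y := Iff.rfl

/-- If `F ≤ presSys F Y`, then `Y` is normal in `F`. -/
theorem isNormal_of_le_presSys [Finite S] {p : ℕ} [Fact p.Prime] (hS : IsPGroup p S)
    {F : FusionSystem S} (hF : F.IsSaturated p) {Y : Subgroup Ω}
    (hYZ : Y ≤ S ⊓ Subgroup.centralizer (S : Set Ω))
    (hle : ∀ P : Subgroup Ω, F.Hom P ⊆ (presSys F Y hYZ).Hom P) : F.IsNormal Y := by
  have hall : ∀ (P : Subgroup Ω) (φ : P →* Ω), φ ∈ F.Hom P → ∀ x : P, (x : Ω) ∈ Y ↔ φ x ∈ Y :=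
    fun P φ hφ => (hle P hφ).2
  have hsc : F.StronglyClosed Y :=
    ⟨hYZ.trans inf_le_left, fun R hR φ hφ x => (hall R φ hφ x).mp (hR x.2)⟩
  apply isNormal_of_le_frc hS hF hsc
  intro R _ _ hcR _ y hy
  apply hcR.2 R (isConj_refl F hcR.1)
  rw [mem_centralizerIn_iff]
  exact ⟨(hYZ hy).1, fun r hr => center_commute (hYZ hy) (hcR.1 hr)⟩


theorem commMap_iterate_mem_lcs {s m : Ω} (hs : s ∈ S) (hm : m ∈ S) (j : ℕ) :
    (commMap s)^[j] m ∈ Subgroup.lowerCentralSeries S j := by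
  induction j with
  | zero => exact hm
  | succ j ih =>
    rw [Function.iterate_succ_apply', Subgroup.lowerCentralSeries_succ]
    have h1 : ⁅(commMap s)^[j] m, s⁆ ∈ ⁅Subgroup.lowerCentralSeries S j, S⁆ :=
      Subgroup.commutator_mem_commutator ih hs
    have h2 : commMap s ((commMap s)^[j] m) = ⁅(commMap s)^[j] m, s⁆⁻¹ := by
      rw [commutatorElement_inv, commutatorElement_def]; rfl
    rw [h2]
    exact Subgroup.inv_mem _ h1

/-- an automorphism preserves the centre -/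
theorem mulAut_mem_center {R : Type*} [Group R] (e : MulAut R) {m : R} (hm : m ∈ Subgroup.center R) :
    e m ∈ Subgroup.center R := by
  rw [Subgroup.mem_center_iff] at hm ⊢
  intro x
  have := hm (e⁻¹ x)
  have h2 := congrArg e this
  rw [map_mul, map_mul, MulAut.apply_inv_self] at h2
  exact h2

/-- The automorphisms in `Aut_F(R)` fixing all `p ^ n`-th powers of elements of `Z(R)`. -/
def fixSub (F : FusionSystem S) (R : Subgroup Ω) (k : ℕ) : Subgroup (F.autGroup R) where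
  carrier := {ν | ∀ m : R, m ∈ Subgroup.center R → (ν : MulAut R) (m ^ k) = m ^ k}
  one_mem' := fun m _ => rfl
  mul_mem' := by
    intro a b ha hb m hm
    show (a : MulAut R) ((b : MulAut R) (m ^ k)) = m ^ k
    rw [hb m hm, ha m hm]
  inv_mem' := by
    intro a ha m hm
    show (a : MulAut R)⁻¹ (m ^ k) = m ^ k
    have := ha m hm
    conv_lhs => rw [← this]
    exact MulAut.inv_apply_self _ _ _

theorem fixSub_normal (F : FusionSystem S) (R : Subgroup Ω) (k : ℕ) : (fixSub F R k).Normal := by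
  constructor
  intro ν hν g m hm
  show (g : MulAut R) ((ν : MulAut R) ((g : MulAut R)⁻¹ (m ^ k))) = m ^ k
  rw [map_pow, hν _ (mulAut_mem_center _ hm), ← map_pow, MulAut.apply_inv_self]


theorem conjAut_mem_fixSub (F : FusionSystem S) {R : Subgroup Ω} (hRS : R ≤ S) {p : ℕ} (hp : p.Prime) (n : ℕ)
    (hcl : Subgroup.lowerCentralSeries S (n * (p - 1) + 1) = ⊥) (s : normalizerIn S R)
    (hsp : (s : Ω) ^ p ∈ R) (hmem : conjAutHom S R s ∈ F.autGroup R) :
    (⟨conjAutHom S R s, hmem⟩ : F.autGroup R) ∈ fixSub F R (p ^ n) := by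
  intro m hm
  show conjAutHom S R s (m ^ (p ^ n)) = m ^ (p ^ n)
  apply Subtype.ext
  rw [conjAutHom_apply, Subgroup.coe_pow]
  set M : Subgroup Ω := (Subgroup.center R).map R.subtype with hMdef
  have hmM : (m : Ω) ∈ M := ⟨m, hm, rfl⟩
  refine conj_fixes_pow (M := M) ?_ ?_ hp ?_ n ?_ (m : Ω) hmM
  · rintro _ ⟨a, ha, rfl⟩ _ ⟨b, _, rfl⟩
    have := (Subgroup.mem_center_iff.mp ha) b
    exact (congrArg Subtype.val this).symm
  · rintro _ ⟨a, ha, rfl⟩
    refine ⟨conjAutHom S R s a, mulAut_mem_center _ ha, ?_⟩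
    rw [Subgroup.coe_subtype, conjAutHom_apply]
  · rintro _ ⟨a, ha, rfl⟩
    have := (Subgroup.mem_center_iff.mp ha) ⟨(s : Ω) ^ p, hsp⟩
    exact congrArg Subtype.val this
  · rintro _ ⟨a, _, rfl⟩
    have h1 := commMap_iterate_mem_lcs (S := S) s.2.1 (hRS a.2) (n * (p - 1) + 1)
    rw [hcl, Subgroup.mem_bot] at h1
    exact h1


/-- elements of `fixSub` preserve `℧ⁿ(Z(S))` for centric `R`. -/
theorem fixSub_fixes {F : FusionSystem S} {R : Subgroup Ω} (hc : F.IsCentric R) (p n : ℕ)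
    {ν : F.autGroup R} (hν : ν ∈ fixSub F R (p ^ n)) :
    ∀ y : R, (y : Ω) ∈ Cfsg.powerClosure p n (S ⊓ Subgroup.centralizer (S : Set Ω)) →
      (ν : MulAut R) y = y := by
  have hRS : R ≤ S := hc.1
  have hZR : ∀ z ∈ S ⊓ Subgroup.centralizer (S : Set Ω), ∃ hz : z ∈ R, (⟨z, hz⟩ : R) ∈ Subgroup.center R := by
    intro z hz
    have hzR : z ∈ R := by
      apply hc.2 R (isConj_refl F hRS)
      rw [mem_centralizerIn_iff]
      exact ⟨hz.1, fun r hr => center_commute hz (hRS hr)⟩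
    refine ⟨hzR, ?_⟩
    rw [Subgroup.mem_center_iff]
    intro r
    exact Subtype.ext (center_commute hz (hRS r.2))
  have key : ∀ y ∈ Cfsg.powerClosure p n (S ⊓ Subgroup.centralizer (S : Set Ω)),
      ∃ hy : y ∈ R, (ν : MulAut R) ⟨y, hy⟩ = ⟨y, hy⟩ := by
    intro y hy
    unfold Cfsg.powerClosure at hy
    induction hy using Subgroup.closure_induction with
    | mem x hx =>
      obtain ⟨z, hz, rfl⟩ := hx
      obtain ⟨hzR, hzc⟩ := hZR z hz
      refine ⟨R.pow_mem hzR _, ?_⟩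
      have := hν ⟨z, hzR⟩ hzc
      exact this
    | one => exact ⟨R.one_mem, map_one _⟩
    | mul a b _ _ ha hb =>
      obtain ⟨haR, ha'⟩ := ha
      obtain ⟨hbR, hb'⟩ := hb
      refine ⟨R.mul_mem haR hbR, ?_⟩
      have : (⟨a * b, R.mul_mem haR hbR⟩ : R) = ⟨a, haR⟩ * ⟨b, hbR⟩ := rfl
      rw [this, map_mul, ha', hb']
    | inv a _ ha =>
      obtain ⟨haR, ha'⟩ := ha
      refine ⟨R.inv_mem haR, ?_⟩
      have : (⟨a⁻¹, R.inv_mem haR⟩ : R) = (⟨a, haR⟩ : R)⁻¹ := rfl
      rw [this, map_inv, ha']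
  intro y hy
  obtain ⟨_, h⟩ := key y hy
  exact h


/-- automorphisms of `S` preserve `℧ⁿ(Z(S))` -/
theorem top_pres (p n : ℕ) (β : S ≃* S) :
    ∀ y ∈ Cfsg.powerClosure p n (S ⊓ Subgroup.centralizer (S : Set Ω)),
      ∃ hy : y ∈ S, ((β ⟨y, hy⟩ : S) : Ω) ∈ Cfsg.powerClosure p n (S ⊓ Subgroup.centralizer (S : Set Ω)) := by
  intro y hy
  have hyS : y ∈ S := (Cfsg.Agent.Lib.Helper27.TF.powerClosure_le p n _ hy).1
  refine ⟨hyS, ?_⟩
  have key : ∀ y ∈ Cfsg.powerClosure p n (S ⊓ Subgroup.centralizer (S : Set Ω)), ∀ hy : y ∈ S,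
      ((β ⟨y, hy⟩ : S) : Ω) ∈ Cfsg.powerClosure p n (S ⊓ Subgroup.centralizer (S : Set Ω)) := by
    intro y hy
    unfold Cfsg.powerClosure at hy
    induction hy using Subgroup.closure_induction with
    | mem x hx =>
      intro hxS
      obtain ⟨z, hz, rfl⟩ := hx
      have hzc : (⟨z, hz.1⟩ : S) ∈ Subgroup.center S := by
        rw [Subgroup.mem_center_iff]
        intro r
        exact Subtype.ext (center_commute hz r.2)
      have h1 : (β : MulAut S) ⟨z, hz.1⟩ ∈ Subgroup.center S := mulAut_mem_center (β : MulAut S) hzc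
      have h2 : ((β ⟨z, hz.1⟩ : S) : Ω) ∈ S ⊓ Subgroup.centralizer (S : Set Ω) := by
        refine Subgroup.mem_inf.mpr ⟨(β ⟨z, hz.1⟩).2, ?_⟩
        rw [Subgroup.mem_centralizer_iff]
        intro r hr
        have := (Subgroup.mem_center_iff.mp h1) ⟨r, hr⟩
        exact congrArg Subtype.val this
      have h3 : (⟨z ^ p ^ n, hxS⟩ : S) = (⟨z, hz.1⟩ : S) ^ (p ^ n) := rfl
      rw [h3, map_pow, Subgroup.coe_pow]
      exact Subgroup.subset_closure ⟨_, h2, rfl⟩
    | one =>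
      intro h1
      have : (⟨1, h1⟩ : S) = 1 := rfl
      rw [this, map_one]
      exact Subgroup.one_mem _
    | mul a b haY hbY ha hb =>
      intro hab
      have haS : a ∈ S := (Cfsg.Agent.Lib.Helper27.TF.powerClosure_le p n _ haY).1
      have hbS : b ∈ S := (Cfsg.Agent.Lib.Helper27.TF.powerClosure_le p n _ hbY).1
      have : (⟨a * b, hab⟩ : S) = ⟨a, haS⟩ * ⟨b, hbS⟩ := rfl
      rw [this, map_mul, Subgroup.coe_mul]
      exact Subgroup.mul_mem _ (ha haS) (hb hbS)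
    | inv a haY ha =>
      intro hai
      have haS : a ∈ S := (Cfsg.Agent.Lib.Helper27.TF.powerClosure_le p n _ haY).1
      have : (⟨a⁻¹, hai⟩ : S) = (⟨a, haS⟩ : S)⁻¹ := rfl
      rw [this, map_inv, Subgroup.coe_inv]
      exact Subgroup.inv_mem _ (ha haS)
  exact key y hy hyS


/-- **Class bound theorem**: if `S` has class at most `n (p - 1) + 1` then `℧ⁿ(Z(S))` is normal in `F`. -/
theorem isNormal_powerClosure_center [Finite S] {p : ℕ} [Fact p.Prime] (hS : IsPGroup p S)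
    {F : FusionSystem S} (hF : F.IsSaturated p) (n : ℕ)
    (hcl : Subgroup.lowerCentralSeries S (n * (p - 1) + 1) = ⊥) :
    F.IsNormal (Cfsg.powerClosure p n (S ⊓ Subgroup.centralizer (S : Set Ω))) := by
  have hp : p.Prime := Fact.out
  set Y : Subgroup Ω := Cfsg.powerClosure p n (S ⊓ Subgroup.centralizer (S : Set Ω)) with hY
  have hYZ : Y ≤ S ⊓ Subgroup.centralizer (S : Set Ω) := Cfsg.Agent.Lib.Helper27.TF.powerClosure_le p n _
  apply isNormal_of_le_presSys hS hF hYZ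
  apply alperin_strong hS hF (presSys F Y hYZ)
  · intro α hα
    refine ⟨hα, fun x => ⟨fun hx => ?_, fun hx => ?_⟩⟩
    · obtain ⟨_, h⟩ := top_pres p n α (x : Ω) hx
      exact h
    · obtain ⟨_, h⟩ := top_pres p n α.symm _ hx
      have e : (⟨((S.subtype.comp α.toMonoidHom) x : Ω), (α x).2⟩ : S) = α x := rfl
      have h' : ((α.symm (α x) : S) : Ω) ∈ Y := h
      rwa [MulEquiv.symm_apply_apply] at h'
  · intro R hRlt hfn hcR _ IH α hα
    have hRS : R ≤ S := hRlt.le
    haveI : Finite R := Finite.of_injective (Subgroup.inclusion hRS) (Subgroup.inclusion_injective hRS)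
    obtain ⟨⟨-, T0, hT0⟩, hrec, -⟩ := fa_receptive_of_fullyNormalized hS hF hfn
    have hmemA : ∀ g : normalizerIn S R, conjAutHom S R g ∈ F.autGroup R := by
      intro g
      apply autInducedBy_le_autGroup F hRS
      rw [← conjAutHom_range]
      exact ⟨g, rfl⟩
    let cs : normalizerIn S R → F.autGroup R := fun g => ⟨conjAutHom S R g, hmemA g⟩
    have hcsT : ∀ g, cs g ∈ (T0 : Subgroup (F.autGroup R)) := by
      intro g
      rw [hT0, Subgroup.mem_subgroupOf, ← conjAutHom_range]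
      exact ⟨g, rfl⟩
    set N : Subgroup (F.autGroup R) :=
      Subgroup.normalClosure {c | ∃ s : normalizerIn S R, (s : Ω) ^ p ∈ R ∧ c = cs s} with hN
    haveI hfixn : (fixSub F R (p ^ n)).Normal := fixSub_normal F R (p ^ n)
    have hNfix : N ≤ fixSub F R (p ^ n) := by
      apply Subgroup.normalClosure_le_normal
      rintro _ ⟨s, hsp, rfl⟩
      exact conjAut_mem_fixSub F hRS hp n hcl s hsp _
    -- every element of N is an isomorphism of the subsystem
    have hNE : ∀ ν : F.autGroup R, ν ∈ N → IsIso (presSys F Y hYZ) ((ν : MulAut R) : R ≃* R) := by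
      intro ν hν
      have hνF : IsIso F ((ν : MulAut R) : R ≃* R) := (mem_autGroup_iff F hRS _).mp ν.2
      refine ⟨hνF, fun x => ⟨fun hx => ?_, fun hx => ?_⟩⟩
      · have := fixSub_fixes hcR p n (hNfix hν) x hx
        show (((ν : MulAut R) x : R) : Ω) ∈ Y
        rw [this]; exact hx
      · have hx' : (((ν : MulAut R) x : R) : Ω) ∈ Y := hx
        have := fixSub_fixes hcR p n (hNfix (N.inv_mem hν)) _ hx'
        have h2 : ((ν⁻¹ : F.autGroup R) : MulAut R) ((ν : MulAut R) x) = x := by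
          rw [Subgroup.coe_inv, MulAut.inv_apply_self]
        rw [h2] at this
        rw [this]; exact hx'
    -- an element outside R with p-th power inside
    obtain ⟨g, hgN, hgR⟩ := exists_mem_normalizerIn_not_mem hS hRlt
    obtain ⟨s0, hs0N, hs0R, hs0p⟩ := exists_outer_pow_mem hS hgN hgR
    set c : F.autGroup R := cs ⟨s0, hs0N⟩ with hc
    have hcN : c ∈ N := Subgroup.subset_normalClosure ⟨_, hs0p, rfl⟩
    set αA : F.autGroup R := ⟨α, (mem_autGroup_iff F hRS α).mpr hα⟩ with hαA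
    set x : F.autGroup R := αA * c * αA⁻¹ with hx
    have hNn : N.Normal := Subgroup.normalClosure_normal
    have hxN : x ∈ N := hNn.conj_mem c hcN αA
    have hA : IsPGroup p (Subgroup.zpowers x) := by
      have h1 : Subgroup.zpowers x = (Subgroup.zpowers c).map (MulAut.conj αA).toMonoidHom := by
        rw [MonoidHom.map_zpowers]
        rfl
      rw [h1]
      apply IsPGroup.map
      apply T0.2.to_le
      rw [Subgroup.zpowers_le]
      exact hcsT _
    obtain ⟨m, hmK, hmA⟩ := Cfsg.Agent.Lib.Helper16.exists_conj_le_sylow T0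
      ((T0 : Subgroup (F.autGroup R)) ⊔ N) le_sup_left (Subgroup.zpowers x)
      (by rw [Subgroup.zpowers_le]; exact (le_sup_right : N ≤ _) hxN) hA
    have hmK' : m ∈ (((T0 : Subgroup (F.autGroup R)) ⊔ N : Subgroup (F.autGroup R)) : Set (F.autGroup R)) := hmK
    rw [Subgroup.mul_normal] at hmK'
    obtain ⟨t, ht, ν, hν, rfl⟩ := hmK'
    have h1 : (t * ν) * x * (t * ν)⁻¹ ∈ (T0 : Subgroup (F.autGroup R)) :=
      hmA ⟨x, Subgroup.mem_zpowers x, rfl⟩
    have h2 : ν * x * ν⁻¹ ∈ (T0 : Subgroup (F.autGroup R)) := by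
      have h3 := (T0 : Subgroup (F.autGroup R)).mul_mem
        ((T0 : Subgroup (F.autGroup R)).mul_mem ((T0 : Subgroup (F.autGroup R)).inv_mem ht) h1) ht
      have e : t⁻¹ * ((t * ν) * x * (t * ν)⁻¹) * t = ν * x * ν⁻¹ := by group
      rwa [e] at h3
    set β : F.autGroup R := ν * αA with hβ
    have h3 : β * c * β⁻¹ ∈ (T0 : Subgroup (F.autGroup R)) := by
      have e : β * c * β⁻¹ = ν * x * ν⁻¹ := by rw [hβ, hx]; group
      rw [e]; exact h2
    rw [hT0, Subgroup.mem_subgroupOf] at h3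
    have h4 : ((β : MulAut R) * conjAutHom S R ⟨s0, hs0N⟩ * (β : MulAut R)⁻¹) ∈ autInducedBy S R := h3
    have h5 := Cfsg.Agent.H26.mem_extender_of_conj_mem hRS β hs0N h4
    have hβF : IsIso F ((β : MulAut R) : R ≃* R) := (mem_autGroup_iff F hRS _).mp β.2
    have hβE : IsIso (presSys F Y hYZ) ((β : MulAut R) : R ≃* R) :=
      isIso_of_extender_gt hrec IH hβF ⟨s0, h5, hs0R⟩
    have hνE := hNE ν⁻¹ (N.inv_mem hν)
    have hcomp := IsIso.trans hβE hνE
    have e : (((β : MulAut R) : R ≃* R).trans (((ν⁻¹ : F.autGroup R) : MulAut R) : R ≃* R)) = α := by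
      ext y
      show ((((ν⁻¹ : F.autGroup R) : MulAut R) ((β : MulAut R) y) : R) : Ω) = _
      rw [hβ, Subgroup.coe_mul, Subgroup.coe_inv, MulAut.mul_apply, MulAut.inv_apply_self]
    rw [e] at hcomp
    exact hcomp

end Cfsg.Agent.Lib.Helper27.CBd
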