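import Mathlib

set_option autoImplicit false

/-! Exponent of the upper central series terms in terms of the exponent of the centre. -/

namespace Cfsg.Agent.Lib.Helper27.CBd

universe u

/-- if `z y = c y z` with `c` central then `z ^ j y = c ^ j y z ^ j` -/
theorem pow_mul_comm_of_central {G : Type*} [Group G] {z y c : G} (hc : ∀ g : G, g * c = c * g)
    (h : z * y = c * y * z) (j : ℕ) : z ^ j * y = c ^ j * y * z ^ j := by
  induction j with
  | zero => simp
  | succ j ih =>
    have hcj : ∀ g : G, g * c ^ j = c ^ j * g := by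
      intro g
      exact ((Commute.pow_right (hc g) j : Commute g (c ^ j))).eq
    calc z ^ (j + 1) * y = z * (z ^ j * y) := by rw [pow_succ', mul_assoc]
      _ = z * (c ^ j * y * z ^ j) := by rw [ih]
      _ = (z * c ^ j) * y * z ^ j := by group
      _ = c ^ j * (z * y) * z ^ j := by rw [hcj z]; group
      _ = c ^ j * (c * y * z) * z ^ j := by rw [h]
      _ = c ^ (j + 1) * y * z ^ (j + 1) := by rw [pow_succ, pow_succ']; group

theorem center_quotient_pow {G : Type*} [Group G] (e : ℕ) (h : ∀ z ∈ Subgroup.center G, z ^ e = 1)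
    (zb : G ⧸ Subgroup.center G) (hz : zb ∈ Subgroup.center (G ⧸ Subgroup.center G)) : zb ^ e = 1 := by
  induction zb using QuotientGroup.induction_on with
  | H z =>
    rw [← QuotientGroup.mk_pow, QuotientGroup.eq_one_iff, Subgroup.mem_center_iff]
    intro y
    -- c = z y z⁻¹ y⁻¹ is central
    have hcmem : z * y * z⁻¹ * y⁻¹ ∈ Subgroup.center G := by
      have h1 := (Subgroup.mem_center_iff.mp hz) (y : G ⧸ Subgroup.center G)
      rw [← QuotientGroup.mk_mul, ← QuotientGroup.mk_mul, QuotientGroup.eq] at h1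
      -- (y z)⁻¹ (z y) ∈ center
      have h2 : z * y * z⁻¹ * y⁻¹ = (y * z) * ((y * z)⁻¹ * (z * y)) * (y * z)⁻¹ := by group
      rw [h2]
      exact (inferInstance : (Subgroup.center G).Normal).conj_mem _ h1 _
    have hc : ∀ g : G, g * (z * y * z⁻¹ * y⁻¹) = (z * y * z⁻¹ * y⁻¹) * g :=
      fun g => (Subgroup.mem_center_iff.mp hcmem) g
    have hrel : z * y = (z * y * z⁻¹ * y⁻¹) * y * z := by group
    have h3 := pow_mul_comm_of_central hc hrel e
    rw [h _ hcmem, one_mul] at h3
    exact h3.symm

theorem upperCentralSeries_pow :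
    ∀ (i : ℕ) (G : Type u) [Group G] (e : ℕ), (∀ z ∈ Subgroup.center G, z ^ e = 1) →
      ∀ x ∈ Subgroup.upperCentralSeries G i, x ^ (e ^ i) = 1 := by
  intro i
  induction i with
  | zero =>
    intro G _ e _ x hx
    rw [Subgroup.upperCentralSeries_zero, Subgroup.mem_bot] at hx
    rw [hx, one_pow]
  | succ i ih =>
    intro G _ e h x hx
    have h1 : (x : G ⧸ Subgroup.center G) ∈ Subgroup.upperCentralSeries (G ⧸ Subgroup.center G) i := by
      rw [← Subgroup.comap_upperCentralSeries_quotient_center] at hx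
      exact hx
    have h2 := ih (G ⧸ Subgroup.center G) e (center_quotient_pow e h) _ h1
    rw [← QuotientGroup.mk_pow, QuotientGroup.eq_one_iff] at h2
    have h3 := h _ h2
    rw [← pow_mul] at h3
    rw [pow_succ]
    exact h3

end Cfsg.Agent.Lib.Helper27.CBd
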