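import Cfsg.Agent.Lib.Helper28.OutOne

/-!
# A criterion for a trivial outer automorphism group, rigidity form (S2069)

`⟨a⟩` a self-centralising Sylow `p`-subgroup of order `p`, `d a d⁻¹ = a ^ 2`, the powers of `2` and `-1`
exhaust the units modulo `p`, and the only automorphism that fixes `d` and sends `a` to `a` or `a⁻¹` is the
identity: then every automorphism is inner.
-/

set_option autoImplicit false

namespace Cfsg.Agent.Lib.Helper27.OutPM

open Cfsg.Agent.Lib.Helper28.OutTwo Cfsg.Agent.Lib.Helper28.OutOne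

variable {G : Type*} [Group G]

theorem all_inner_pm [Finite G] {p : ℕ} [hp : Fact p.Prime] {a d : G}
    (ha : orderOf a = p) (hfac : (Nat.card G).factorization p = 1)
    (hd : d * a * d⁻¹ = a ^ 2)
    (hr : ∀ k : ℕ, 1 ≤ k → k < p → ∃ i : ℕ, k * 2 ^ i % p = 1 ∨ k * 2 ^ i % p = p - 1)
    (hCa : ∀ g : G, g * a = a * g → g ∈ Subgroup.zpowers a)
    (hrig : ∀ χ : MulAut G, (χ a = a ∨ χ a = a⁻¹) → χ d = d → χ = 1)
    (φ : MulAut G) : φ ∈ Cfsg.Inn G := by
  obtain ⟨c, hc⟩ := exists_fix_or_inv ha hfac hd hr φ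
  set ψ : MulAut G := MulAut.conj c * φ with hψ
  have hψd : ψ d * a * (ψ d)⁻¹ = a ^ 2 := by
    rcases hc with hc | hc
    · have h := congrArg ψ hd
      rw [map_mul, map_mul, map_inv, map_pow, hc] at h
      exact h
    · have h := congrArg ψ hd
      rw [map_mul, map_mul, map_inv, map_pow, hc] at h
      have h' := congrArg (fun x => x⁻¹) h
      simp only [mul_inv_rev, inv_inv, inv_pow] at h'
      rw [← mul_assoc] at h'
      exact h'
  have hcomm : (d⁻¹ * ψ d) * a = a * (d⁻¹ * ψ d) := by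
    have h1 : d⁻¹ * a ^ 2 * d = a := by
      rw [← hd]; group
    have h2 : ψ d * a = a ^ 2 * ψ d := by
      rw [← hψd]; group
    calc d⁻¹ * ψ d * a = d⁻¹ * (ψ d * a) := by group
      _ = d⁻¹ * (a ^ 2 * ψ d) := by rw [h2]
      _ = (d⁻¹ * a ^ 2 * d) * (d⁻¹ * ψ d) := by group
      _ = a * (d⁻¹ * ψ d) := by rw [h1]
  obtain ⟨i, hi⟩ := Subgroup.mem_zpowers_iff.mp (hCa _ hcomm)
  have hψd' : ψ d = d * a ^ i := by
    rw [hi]; group
  set x : G := a ^ (2 * i) with hx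
  have hxd : x * d = d * a ^ i := by
    rw [hx, ← conj_zpow_two hd i]; group
  set χ : MulAut G := MulAut.conj x * ψ with hχ
  have hχd : χ d = d := by
    rw [hχ, MulAut.mul_apply, MulAut.conj_apply, hψd']
    calc x * (d * a ^ i) * x⁻¹ = (x * d) * a ^ i * x⁻¹ := by group
      _ = d * a ^ i * a ^ i * x⁻¹ := by rw [hxd]
      _ = d * (a ^ i * a ^ i * (a ^ (2 * i))⁻¹) := by rw [hx]; group
      _ = d := by
        rw [← zpow_add, ← zpow_neg, ← zpow_add]
        have : i + i + -(2 * i) = 0 := by ring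
        rw [this, zpow_zero, mul_one]
  have hxa : ∀ y : G, y ∈ Subgroup.zpowers a → x * y * x⁻¹ = y := by
    intro y hy
    obtain ⟨j, rfl⟩ := Subgroup.mem_zpowers_iff.mp hy
    rw [hx, ← zpow_add, ← zpow_neg, ← zpow_add]
    congr 1
    ring
  have hχinn : χ = MulAut.conj (x * c) * φ := by
    rw [hχ, hψ, map_mul, mul_assoc]
  have hχa : χ a = a ∨ χ a = a⁻¹ := by
    rcases hc with hc | hc
    · left
      rw [hχ, MulAut.mul_apply, MulAut.conj_apply, hc]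
      exact hxa a (Subgroup.mem_zpowers a)
    · right
      rw [hχ, MulAut.mul_apply, MulAut.conj_apply, hc]
      exact hxa a⁻¹ ((Subgroup.zpowers a).inv_mem (Subgroup.mem_zpowers a))
  have h1 := hrig χ hχa hχd
  have hinnc : MulAut.conj (x * c) ∈ Cfsg.Inn G := ⟨x * c, rfl⟩
  have h2 : φ = (MulAut.conj (x * c))⁻¹ := by
    rw [hχinn] at h1
    exact eq_inv_of_mul_eq_one_right h1
  rw [h2]
  exact (Cfsg.Inn G).inv_mem hinnc

theorem out_card_one_pm [Finite G] {p : ℕ} [hp : Fact p.Prime] {a d : G}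
    (ha : orderOf a = p) (hfac : (Nat.card G).factorization p = 1)
    (hd : d * a * d⁻¹ = a ^ 2)
    (hr : ∀ k : ℕ, 1 ≤ k → k < p → ∃ i : ℕ, k * 2 ^ i % p = 1 ∨ k * 2 ^ i % p = p - 1)
    (hCa : ∀ g : G, g * a = a * g → g ∈ Subgroup.zpowers a)
    (hrig : ∀ χ : MulAut G, (χ a = a ∨ χ a = a⁻¹) → χ d = d → χ = 1) :
    Nat.card (Cfsg.Out G) = 1 := by
  show Nat.card (MulAut G ⧸ Cfsg.Inn G) = 1
  have htop : Cfsg.Inn G = ⊤ := by
    rw [eq_top_iff]
    intro φ _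
    exact all_inner_pm ha hfac hd hr hCa hrig φ
  rw [← Subgroup.index_eq_card, htop, Subgroup.index_top]

/-- the version for a subgroup of an ambient group -/
theorem out_card_one_pm_sub {G₀ : Type*} [Group G₀] (K : Subgroup G₀) [Finite K] {p : ℕ}
    [Fact p.Prime] {a d : G₀} (hak : a ∈ K) (hdk : d ∈ K)
    (ha : orderOf a = p) (hfac : (Nat.card K).factorization p = 1)
    (hd : d * a * d⁻¹ = a ^ 2)
    (hr : ∀ k : ℕ, 1 ≤ k → k < p → ∃ i : ℕ, k * 2 ^ i % p = 1 ∨ k * 2 ^ i % p = p - 1)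
    (hCa : ∀ c ∈ K, c * a = a * c → c ∈ Subgroup.zpowers a)
    (hrig : ∀ χ : MulAut K, (χ ⟨a, hak⟩ = ⟨a, hak⟩ ∨ χ ⟨a, hak⟩ = (⟨a, hak⟩ : K)⁻¹) →
      χ ⟨d, hdk⟩ = ⟨d, hdk⟩ → χ = 1) :
    Nat.card (Cfsg.Out K) = 1 := by
  have ha' : orderOf (⟨a, hak⟩ : K) = p := by
    rw [Subgroup.orderOf_mk]; exact ha
  have hd' : (⟨d, hdk⟩ : K) * ⟨a, hak⟩ * (⟨d, hdk⟩ : K)⁻¹ = (⟨a, hak⟩ : K) ^ 2 := by
    apply Subtype.ext
    simp only [Subgroup.coe_mul, Subgroup.coe_inv, Subgroup.coe_pow]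
    exact hd
  have hCa' : ∀ c : K, c * ⟨a, hak⟩ = ⟨a, hak⟩ * c → c ∈ Subgroup.zpowers (⟨a, hak⟩ : K) := by
    intro c hc
    have h1 : (c : G₀) * a = a * (c : G₀) := by
      have := congrArg Subtype.val hc
      simpa using this
    obtain ⟨i, hi⟩ := Subgroup.mem_zpowers_iff.mp (hCa c.1 c.2 h1)
    rw [Subgroup.mem_zpowers_iff]
    refine ⟨i, ?_⟩
    apply Subtype.ext
    rw [Subgroup.coe_zpow]
    exact hi
  exact out_card_one_pm ha' hfac hd' hr hCa' hrig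

end Cfsg.Agent.Lib.Helper27.OutPM
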