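import Mathlib
import Cfsg.Agent.Lib.Helper27.CommP

/-!
# Relative versions of the `CommP` lemmas

`T ≤ S` with `CommP T Z₀ p`, and an essential subgroup `R ≤ T` of a fusion system on `S`.
-/

set_option autoImplicit false

namespace Cfsg.Agent.Lib.Helper27

open Cfsg Cfsg.FusionSystem
open scoped commutatorElement

variable {Ω : Type*} [Group Ω] {S : Subgroup Ω}

namespace CommP

variable {Z₀ T : Subgroup Ω} {p : ℕ}

theorem le_of_centric' (h : CommP T Z₀ p) (hTS : T ≤ S) {F : FusionSystem S} {R : Subgroup Ω}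
    (hc : F.IsCentric R) (hRT : R ≤ T) : Z₀ ≤ R := by
  intro z hz
  apply hc.2 R (isConj_refl F hc.1)
  rw [mem_centralizerIn_iff]
  exact ⟨hTS (h.le hz), fun y hy => h.cent z hz y (hRT hy)⟩

theorem mem_normalizerIn' [Finite S] (h : CommP T Z₀ p) (hTS : T ≤ S) {R : Subgroup Ω}
    (hRT : R ≤ T) (hZR : Z₀ ≤ R) {g : Ω} (hg : g ∈ T) : g ∈ normalizerIn S R := by
  have hRS : R ≤ S := hRT.trans hTS
  have : Finite R := Finite.of_injective (Subgroup.inclusion hRS) (Subgroup.inclusion_injective hRS)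
  exact ⟨hTS hg, mem_normalizer_of_conj_mem (fun y hy => h.conj_mem hZR hg hy (hRT hy))⟩

/-- a centric radical subgroup properly contained in `T` is abelian -/
theorem essential_comm' [Finite S] [Fact p.Prime] (h : CommP T Z₀ p) (hS : IsPGroup p S)
    (hTS : T ≤ S) {F : FusionSystem S} {R : Subgroup Ω} (hc : F.IsCentric R)
    (hr : F.IsRadical p R) (hRT : R ≤ T) (hne : ∃ g ∈ T, g ∉ R) :
    ∀ a ∈ R, ∀ b ∈ R, a * b = b * a := by
  by_contra hcon
  push Not at hcon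
  obtain ⟨a, ha, b, hb, hab⟩ := hcon
  obtain ⟨g, hgT, hgR⟩ := hne
  have hZR : Z₀ ≤ R := h.le_of_centric' hTS hc hRT
  have hcZ : a * b * a⁻¹ * b⁻¹ ∈ Z₀ := h.comm a (hRT ha) b (hRT hb)
  have hc1 : a * b * a⁻¹ * b⁻¹ ≠ 1 := by
    intro h1
    apply hab
    have : a * b = (a * b * a⁻¹ * b⁻¹) * (b * a) := by group
    rw [this, h1, one_mul]
  have hgen : Subgroup.zpowers (a * b * a⁻¹ * b⁻¹) = Z₀ := by
    apply eq_of_le_of_ne_bot_of_card_prime h.card (Subgroup.zpowers_le.mpr hcZ)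
    rwa [Ne, Subgroup.zpowers_eq_bot]
  apply hgR
  apply mem_of_stabilizes_chain hS hc hr (chainZ Z₀) 2 ?_ rfl le_top
    (h.mem_normalizerIn' hTS hRT hZR hgT) ?_
  · intro j
    match j with
    | 0 =>
      intro α _ x hx
      have hx0 : (x : Ω) ∈ (⊥ : Subgroup Ω) := hx
      have hx1 : x = 1 := Subtype.ext (Subgroup.mem_bot.mp hx0)
      show ((α x : R) : Ω) ∈ (⊥ : Subgroup Ω)
      rw [hx1, map_one]
      exact Subgroup.one_mem _
    | 1 =>
      intro α _ x hx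
      have hx0 : (x : Ω) ∈ Z₀ := hx
      show ((α x : R) : Ω) ∈ Z₀
      have hx' : (x : Ω) ∈ Subgroup.zpowers (a * b * a⁻¹ * b⁻¹) := by rw [hgen]; exact hx0
      obtain ⟨k, hk⟩ := Subgroup.mem_zpowers_iff.mp hx'
      have hxk : x = ((⟨a, ha⟩ : R) * ⟨b, hb⟩ * (⟨a, ha⟩ : R)⁻¹ * (⟨b, hb⟩ : R)⁻¹) ^ k := by
        apply Subtype.ext
        rw [Subgroup.coe_zpow]
        exact hk.symm
      rw [hxk, map_zpow, Subgroup.coe_zpow]
      apply Subgroup.zpow_mem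
      rw [map_mul, map_mul, map_mul, map_inv, map_inv]
      exact h.comm _ (hRT (α ⟨a, ha⟩).2) _ (hRT (α ⟨b, hb⟩).2)
    | (n + 2) =>
      intro α _ x _
      exact Subgroup.mem_top _
  · intro j hj x hxR hx
    interval_cases j
    · have hx0 : x ∈ Z₀ := hx
      show x⁻¹ * (g * x * g⁻¹) ∈ (⊥ : Subgroup Ω)
      rw [Subgroup.mem_bot, h.cent x hx0 g hgT]
      group
    · show x⁻¹ * (g * x * g⁻¹) ∈ Z₀
      have := h.comm x⁻¹ (T.inv_mem (hRT hxR)) g hgT
      have e : x⁻¹ * (g * x * g⁻¹) = x⁻¹ * g * x⁻¹⁻¹ * g⁻¹ := by group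
      rw [e]
      exact this

/-- for an essential subgroup `R ≤ T` some element of `R` has its centralizer in `T` inside `R` -/
theorem essential_exists' [Finite S] [Fact p.Prime] (h : CommP T Z₀ p) (hS : IsPGroup p S)
    (hTS : T ≤ S) {F : FusionSystem S} (hF : F.IsSaturated p) {R : Subgroup Ω}
    (hR : F.IsEssential p R) (hRT : R ≤ T) :
    ∃ y ∈ R, ∀ g ∈ T, g * y = y * g → g ∈ R := by
  by_contra hcon
  push Not at hcon
  have hRS : R ≤ S := hR.1.1
  have hfn := hR.2.1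
  have : Finite R := Finite.of_injective (Subgroup.inclusion hRS) (Subgroup.inclusion_injective hRS)
  have hpR : IsPGroup p R :=
    hS.of_injective (Subgroup.inclusion hRS) (Subgroup.inclusion_injective hRS)
  have hZR : Z₀ ≤ R := h.le_of_centric' hTS hR.1 hRT
  obtain ⟨z, hz, hz1, hgen⟩ := h.exists_generator
  obtain ⟨K, hKA, ⟨β₀, hβ₀A, hβ₀K⟩, hSK, -, hK⟩ := essential_exists_subgroup hS hF hR
  apply hβ₀K
  have key : ∀ γ ∈ F.autGroup R, γ ∈ K := by
    intro γ hγ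
    obtain ⟨g, hgT, hgc, hgR⟩ := hcon ((γ⁻¹ (⟨z, hZR hz⟩ : R) : R) : Ω) (γ⁻¹ (⟨z, hZR hz⟩ : R)).2
    have hgN : g ∈ normalizerIn S R := h.mem_normalizerIn' hTS hRT hZR hgT
    obtain ⟨α, hα⟩ : ∃ α : MulAut R, α = conjAutHom S R ⟨g, hgN⟩ := ⟨_, rfl⟩
    have hαapp : ∀ y : R, ((α y : R) : Ω) = g * y * g⁻¹ := by
      intro y; rw [hα]; exact conjAutHom_apply S R ⟨g, hgN⟩ y
    have hw : (⟨z, hZR hz⟩ : R) ∈ Transv.fixS α := by
      rw [Transv.mem_fixS]
      apply Subtype.ext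
      rw [hαapp]
      show g * z * g⁻¹ = z
      rw [h.cent z hz g hgT, mul_inv_cancel_right]
    have htr : ∀ y : R, y⁻¹ * α y ∈ Subgroup.zpowers (⟨z, hZR hz⟩ : R) := by
      intro y
      have h1 : (y : Ω)⁻¹ * (g * y * g⁻¹) ∈ Subgroup.zpowers z := by
        rw [hgen]
        have := h.comm (y : Ω)⁻¹ (T.inv_mem (hRT y.2)) g hgT
        have e : (y : Ω)⁻¹ * (g * y * g⁻¹) = (y : Ω)⁻¹ * g * (y : Ω)⁻¹⁻¹ * g⁻¹ := by group
        rw [e]; exact this
      obtain ⟨k, hk⟩ := Subgroup.mem_zpowers_iff.mp h1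
      rw [Subgroup.mem_zpowers_iff]
      refine ⟨k, Subtype.ext ?_⟩
      rw [Subgroup.coe_zpow, Subgroup.coe_mul, Subgroup.coe_inv, hαapp]
      exact hk
    have hfix : ∀ y : R, α y = y ↔ y ∈ Transv.fixS α := fun y => Iff.rfl
    have hγw : γ⁻¹ (⟨z, hZR hz⟩ : R) ∈ Transv.fixS α := by
      rw [Transv.mem_fixS]
      apply Subtype.ext
      rw [hαapp, hgc, mul_inv_cancel_right]
    obtain ⟨H, hH, hαH, hα'H⟩ := Transv.isPGroup_pair hpR hw htr hfix γ hγw
    have hαS : α ∈ autInducedBy S R := by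
      rw [hα, ← conjAutHom_range]; exact ⟨_, rfl⟩
    have hαG : α ∈ F.autGroup R := autInducedBy_le_autGroup F hRS hαS
    have hα'G : γ * α * γ⁻¹ ∈ F.autGroup R :=
      (F.autGroup R).mul_mem ((F.autGroup R).mul_mem hγ hαG) ((F.autGroup R).inv_mem hγ)
    obtain ⟨c, hc⟩ := exists_conj_isPGroup_mem_autInducedBy hS hF hfn
      (H.subgroupOf (F.autGroup R)) hH.comap_subtype
    have e1 := hc ⟨α, hαG⟩ (Subgroup.mem_subgroupOf.mpr hαH)
    have e2 := hc ⟨γ * α * γ⁻¹, hα'G⟩ (Subgroup.mem_subgroupOf.mpr hα'H)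
    have hcK : (c : MulAut R) ∈ K := by
      apply hK (c : MulAut R) c.2 ⟨g, hgN⟩ hgR
      rw [← hα]
      exact e1
    have hcγK : (c : MulAut R) * γ ∈ K := by
      apply hK _ ((F.autGroup R).mul_mem c.2 hγ) ⟨g, hgN⟩ hgR
      rw [← hα]
      have e3 : (c : MulAut R) * γ * α * ((c : MulAut R) * γ)⁻¹ =
          (c : MulAut R) * (γ * α * γ⁻¹) * (c : MulAut R)⁻¹ := by group
      rw [e3]
      exact e2
    have e4 : γ = (c : MulAut R)⁻¹ * ((c : MulAut R) * γ) := by group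
    rw [e4]
    exact K.mul_mem (K.inv_mem hcK) hcγK
  exact key β₀ hβ₀A

end CommP

/-- an extraspecial subgroup gives `CommP` -/
theorem commP_of_isExtraspecial {Q : Subgroup Ω} {p : ℕ} (hQ : Cfsg.IsExtraspecial p ↥Q) :
    CommP Q (Q ⊓ Subgroup.centralizer (Q : Set Ω)) p := by
  obtain ⟨⟨hQp, -, hcomm⟩, hcard⟩ := hQ
  refine ⟨hQp, inf_le_left, ?_, ?_, ?_⟩
  · rw [← center_map_subtype (S := Q), Subgroup.card_map_of_injective Q.subtype_injective]
    exact hcard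
  · intro a ha b hb
    have h1 : ⁅(⟨a, ha⟩ : Q), ⟨b, hb⟩⁆ ∈ commutator ↥Q := by
      rw [commutator_def]
      exact Subgroup.commutator_mem_commutator (Subgroup.mem_top _) (Subgroup.mem_top _)
    rw [hcomm] at h1
    rw [← center_map_subtype (S := Q)]
    exact ⟨_, h1, rfl⟩
  · intro z hz s hs
    exact Subgroup.mem_centralizer_iff.mp (Subgroup.mem_inf.mp hz).2 s hs

end Cfsg.Agent.Lib.Helper27
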