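import Cfsg.Agent.Lib.Helper27.E8CCCRef

set_option autoImplicit false
set_option maxRecDepth 100000
set_option Elab.async false

/-! S2107 / S2105 / S2106, table piece [C] (`CanP`), spare (helper27): row checks for `chevE8`,
rows 0..29 (one `decide +kernel` per small range keeps the kernel's memory small). -/

namespace Cfsg.Agent.Lib.Helper10.E8CC.Helper27

open Cfsg.Lie

theorem cE8_0 : rangeB chevE8 refE8 0 3 = true := by decide +kernel
theorem cE8_1 : rangeB chevE8 refE8 3 6 = true := by decide +kernel
theorem cE8_2 : rangeB chevE8 refE8 6 9 = true := by decide +kernel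
theorem cE8_3 : rangeB chevE8 refE8 9 12 = true := by decide +kernel
theorem cE8_4 : rangeB chevE8 refE8 12 15 = true := by decide +kernel
theorem cE8_5 : rangeB chevE8 refE8 15 18 = true := by decide +kernel
theorem cE8_6 : rangeB chevE8 refE8 18 21 = true := by decide +kernel
theorem cE8_7 : rangeB chevE8 refE8 21 24 = true := by decide +kernel
theorem cE8_8 : rangeB chevE8 refE8 24 27 = true := by decide +kernel
theorem cE8_9 : rangeB chevE8 refE8 27 30 = true := by decide +kernel

end Cfsg.Agent.Lib.Helper10.E8CC.Helper27
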