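import Cfsg.Agent.Lib.Helper27.E8CCCRef

set_option autoImplicit false
set_option maxRecDepth 100000
set_option Elab.async false

/-! S2107 / S2105 / S2106, table piece [C] (`CanP`), spare (helper27): row checks for `chevE8`,
rows 30..59 (one `decide +kernel` per small range keeps the kernel's memory small). -/

namespace Cfsg.Agent.Lib.Helper10.E8CC.Helper27

open Cfsg.Lie

theorem cE8_10 : rangeB chevE8 refE8 30 33 = true := by decide +kernel
theorem cE8_11 : rangeB chevE8 refE8 33 36 = true := by decide +kernel
theorem cE8_12 : rangeB chevE8 refE8 36 39 = true := by decide +kernel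
theorem cE8_13 : rangeB chevE8 refE8 39 42 = true := by decide +kernel
theorem cE8_14 : rangeB chevE8 refE8 42 45 = true := by decide +kernel
theorem cE8_15 : rangeB chevE8 refE8 45 48 = true := by decide +kernel
theorem cE8_16 : rangeB chevE8 refE8 48 51 = true := by decide +kernel
theorem cE8_17 : rangeB chevE8 refE8 51 54 = true := by decide +kernel
theorem cE8_18 : rangeB chevE8 refE8 54 57 = true := by decide +kernel
theorem cE8_19 : rangeB chevE8 refE8 57 60 = true := by decide +kernel

end Cfsg.Agent.Lib.Helper10.E8CC.Helper27
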