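import Cfsg.Agent.Lib.Helper27.E8CCCRef

set_option autoImplicit false
set_option maxRecDepth 100000
set_option Elab.async false

/-! S2107 / S2105 / S2106, table piece [C] (`CanP`), spare (helper27): row checks for `chevE8`,
rows 60..89 (one `decide +kernel` per small range keeps the kernel's memory small). -/

namespace Cfsg.Agent.Lib.Helper10.E8CC.Helper27

open Cfsg.Lie

theorem cE8_20 : rangeB chevE8 refE8 60 63 = true := by decide +kernel
theorem cE8_21 : rangeB chevE8 refE8 63 66 = true := by decide +kernel
theorem cE8_22 : rangeB chevE8 refE8 66 69 = true := by decide +kernel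
theorem cE8_23 : rangeB chevE8 refE8 69 72 = true := by decide +kernel
theorem cE8_24 : rangeB chevE8 refE8 72 75 = true := by decide +kernel
theorem cE8_25 : rangeB chevE8 refE8 75 78 = true := by decide +kernel
theorem cE8_26 : rangeB chevE8 refE8 78 81 = true := by decide +kernel
theorem cE8_27 : rangeB chevE8 refE8 81 84 = true := by decide +kernel
theorem cE8_28 : rangeB chevE8 refE8 84 87 = true := by decide +kernel
theorem cE8_29 : rangeB chevE8 refE8 87 90 = true := by decide +kernel

end Cfsg.Agent.Lib.Helper10.E8CC.Helper27
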