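import Cfsg.Agent.Lib.Helper27.E8CCCRef

set_option autoImplicit false
set_option maxRecDepth 100000
set_option Elab.async false

/-! S2107 / S2105 / S2106, table piece [C] (`CanP`), spare (helper27): row checks for `chevE8`,
rows 90..119 (one `decide +kernel` per small range keeps the kernel's memory small). -/

namespace Cfsg.Agent.Lib.Helper10.E8CC.Helper27

open Cfsg.Lie

theorem cE8_30 : rangeB chevE8 refE8 90 93 = true := by decide +kernel
theorem cE8_31 : rangeB chevE8 refE8 93 96 = true := by decide +kernel
theorem cE8_32 : rangeB chevE8 refE8 96 99 = true := by decide +kernel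
theorem cE8_33 : rangeB chevE8 refE8 99 102 = true := by decide +kernel
theorem cE8_34 : rangeB chevE8 refE8 102 105 = true := by decide +kernel
theorem cE8_35 : rangeB chevE8 refE8 105 108 = true := by decide +kernel
theorem cE8_36 : rangeB chevE8 refE8 108 111 = true := by decide +kernel
theorem cE8_37 : rangeB chevE8 refE8 111 114 = true := by decide +kernel
theorem cE8_38 : rangeB chevE8 refE8 114 117 = true := by decide +kernel
theorem cE8_39 : rangeB chevE8 refE8 117 120 = true := by decide +kernel

end Cfsg.Agent.Lib.Helper10.E8CC.Helper27
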