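import Cfsg.Agent.Lib.Helper27.E8CCCRef

set_option autoImplicit false
set_option maxRecDepth 100000
set_option Elab.async false

/-! S2107 / S2105 / S2106, table piece [C] (`CanP`), spare (helper27): row checks for `chevE8`,
rows 120..149 (one `decide +kernel` per small range keeps the kernel's memory small). -/

namespace Cfsg.Agent.Lib.Helper10.E8CC.Helper27

open Cfsg.Lie

theorem cE8_40 : rangeB chevE8 refE8 120 123 = true := by decide +kernel
theorem cE8_41 : rangeB chevE8 refE8 123 126 = true := by decide +kernel
theorem cE8_42 : rangeB chevE8 refE8 126 129 = true := by decide +kernel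
theorem cE8_43 : rangeB chevE8 refE8 129 132 = true := by decide +kernel
theorem cE8_44 : rangeB chevE8 refE8 132 135 = true := by decide +kernel
theorem cE8_45 : rangeB chevE8 refE8 135 138 = true := by decide +kernel
theorem cE8_46 : rangeB chevE8 refE8 138 141 = true := by decide +kernel
theorem cE8_47 : rangeB chevE8 refE8 141 144 = true := by decide +kernel
theorem cE8_48 : rangeB chevE8 refE8 144 147 = true := by decide +kernel
theorem cE8_49 : rangeB chevE8 refE8 147 150 = true := by decide +kernel

end Cfsg.Agent.Lib.Helper10.E8CC.Helper27
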