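import Cfsg.Agent.Lib.Helper27.E8CCCRef

set_option autoImplicit false
set_option maxRecDepth 100000
set_option Elab.async false

/-! S2107 / S2105 / S2106, table piece [C] (`CanP`), spare (helper27): row checks for `chevE8`,
rows 150..179 (one `decide +kernel` per small range keeps the kernel's memory small). -/

namespace Cfsg.Agent.Lib.Helper10.E8CC.Helper27

open Cfsg.Lie

theorem cE8_50 : rangeB chevE8 refE8 150 153 = true := by decide +kernel
theorem cE8_51 : rangeB chevE8 refE8 153 156 = true := by decide +kernel
theorem cE8_52 : rangeB chevE8 refE8 156 159 = true := by decide +kernel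
theorem cE8_53 : rangeB chevE8 refE8 159 162 = true := by decide +kernel
theorem cE8_54 : rangeB chevE8 refE8 162 165 = true := by decide +kernel
theorem cE8_55 : rangeB chevE8 refE8 165 168 = true := by decide +kernel
theorem cE8_56 : rangeB chevE8 refE8 168 171 = true := by decide +kernel
theorem cE8_57 : rangeB chevE8 refE8 171 174 = true := by decide +kernel
theorem cE8_58 : rangeB chevE8 refE8 174 177 = true := by decide +kernel
theorem cE8_59 : rangeB chevE8 refE8 177 180 = true := by decide +kernel

end Cfsg.Agent.Lib.Helper10.E8CC.Helper27
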