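import Cfsg.Agent.Lib.Helper27.E8CCCRef

set_option autoImplicit false
set_option maxRecDepth 100000
set_option Elab.async false

/-! S2107 / S2105 / S2106, table piece [C] (`CanP`), spare (helper27): row checks for `chevE8`,
rows 180..209 (one `decide +kernel` per small range keeps the kernel's memory small). -/

namespace Cfsg.Agent.Lib.Helper10.E8CC.Helper27

open Cfsg.Lie

theorem cE8_60 : rangeB chevE8 refE8 180 183 = true := by decide +kernel
theorem cE8_61 : rangeB chevE8 refE8 183 186 = true := by decide +kernel
theorem cE8_62 : rangeB chevE8 refE8 186 189 = true := by decide +kernel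
theorem cE8_63 : rangeB chevE8 refE8 189 192 = true := by decide +kernel
theorem cE8_64 : rangeB chevE8 refE8 192 195 = true := by decide +kernel
theorem cE8_65 : rangeB chevE8 refE8 195 198 = true := by decide +kernel
theorem cE8_66 : rangeB chevE8 refE8 198 201 = true := by decide +kernel
theorem cE8_67 : rangeB chevE8 refE8 201 204 = true := by decide +kernel
theorem cE8_68 : rangeB chevE8 refE8 204 207 = true := by decide +kernel
theorem cE8_69 : rangeB chevE8 refE8 207 210 = true := by decide +kernel

end Cfsg.Agent.Lib.Helper10.E8CC.Helper27
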