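import Cfsg.Agent.Lib.Helper27.E8CCCRef

set_option autoImplicit false
set_option maxRecDepth 100000
set_option Elab.async false

/-! S2107 / S2105 / S2106, table piece [C] (`CanP`), spare (helper27): row checks for `chevE8`,
rows 210..239 (one `decide +kernel` per small range keeps the kernel's memory small). -/

namespace Cfsg.Agent.Lib.Helper10.E8CC.Helper27

open Cfsg.Lie

theorem cE8_70 : rangeB chevE8 refE8 210 213 = true := by decide +kernel
theorem cE8_71 : rangeB chevE8 refE8 213 216 = true := by decide +kernel
theorem cE8_72 : rangeB chevE8 refE8 216 219 = true := by decide +kernel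
theorem cE8_73 : rangeB chevE8 refE8 219 222 = true := by decide +kernel
theorem cE8_74 : rangeB chevE8 refE8 222 225 = true := by decide +kernel
theorem cE8_75 : rangeB chevE8 refE8 225 228 = true := by decide +kernel
theorem cE8_76 : rangeB chevE8 refE8 228 231 = true := by decide +kernel
theorem cE8_77 : rangeB chevE8 refE8 231 234 = true := by decide +kernel
theorem cE8_78 : rangeB chevE8 refE8 234 237 = true := by decide +kernel
theorem cE8_79 : rangeB chevE8 refE8 237 240 = true := by decide +kernel

end Cfsg.Agent.Lib.Helper10.E8CC.Helper27
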