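import Cfsg.Agent.Lib.Helper22.StCCBBTE8a
import Cfsg.Agent.Lib.Helper27.E8CCCE8a
import Cfsg.Agent.Lib.Helper27.E8CCCE8b
import Cfsg.Agent.Lib.Helper27.E8CCCE8c
import Cfsg.Agent.Lib.Helper27.E8CCCE8d
import Cfsg.Agent.Lib.Helper27.E8CCCE8e
import Cfsg.Agent.Lib.Helper27.E8CCCE8f
import Cfsg.Agent.Lib.Helper27.E8CCCE8g
import Cfsg.Agent.Lib.Helper27.E8CCCE8h

set_option autoImplicit false

/-! S2107 / S2105 / S2106, table piece [C]: `CanP` for `chevE8` (spare, helper27;
same statements as helper10's skeleton piece [E8-C], in the sub-namespace `Helper27`). -/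

namespace Cfsg.Agent.Lib.Helper10.E8CC.Helper27

open Cfsg.Lie Cfsg.Agent.Lib.Helper8.Chev Cfsg.Agent.Lib.Helper14.StCC
  Cfsg.Agent.Lib.Helper14.StCC.B

theorem rows_E8 : ∀ a < chevE8.nroots, rowB chevE8 refE8 a = true ∧ refB chevE8 refE8 a = true := by
  intro a ha
  have ha' : a < 240 := ha
  by_cases h0 : a < 3
  · exact rowB_of_range cE8_0 (by omega) h0
  by_cases h1 : a < 6
  · exact rowB_of_range cE8_1 (by omega) h1
  by_cases h2 : a < 9
  · exact rowB_of_range cE8_2 (by omega) h2
  by_cases h3 : a < 12
  · exact rowB_of_range cE8_3 (by omega) h3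
  by_cases h4 : a < 15
  · exact rowB_of_range cE8_4 (by omega) h4
  by_cases h5 : a < 18
  · exact rowB_of_range cE8_5 (by omega) h5
  by_cases h6 : a < 21
  · exact rowB_of_range cE8_6 (by omega) h6
  by_cases h7 : a < 24
  · exact rowB_of_range cE8_7 (by omega) h7
  by_cases h8 : a < 27
  · exact rowB_of_range cE8_8 (by omega) h8
  by_cases h9 : a < 30
  · exact rowB_of_range cE8_9 (by omega) h9
  by_cases h10 : a < 33
  · exact rowB_of_range cE8_10 (by omega) h10
  by_cases h11 : a < 36
  · exact rowB_of_range cE8_11 (by omega) h11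
  by_cases h12 : a < 39
  · exact rowB_of_range cE8_12 (by omega) h12
  by_cases h13 : a < 42
  · exact rowB_of_range cE8_13 (by omega) h13
  by_cases h14 : a < 45
  · exact rowB_of_range cE8_14 (by omega) h14
  by_cases h15 : a < 48
  · exact rowB_of_range cE8_15 (by omega) h15
  by_cases h16 : a < 51
  · exact rowB_of_range cE8_16 (by omega) h16
  by_cases h17 : a < 54
  · exact rowB_of_range cE8_17 (by omega) h17
  by_cases h18 : a < 57
  · exact rowB_of_range cE8_18 (by omega) h18
  by_cases h19 : a < 60
  · exact rowB_of_range cE8_19 (by omega) h19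
  by_cases h20 : a < 63
  · exact rowB_of_range cE8_20 (by omega) h20
  by_cases h21 : a < 66
  · exact rowB_of_range cE8_21 (by omega) h21
  by_cases h22 : a < 69
  · exact rowB_of_range cE8_22 (by omega) h22
  by_cases h23 : a < 72
  · exact rowB_of_range cE8_23 (by omega) h23
  by_cases h24 : a < 75
  · exact rowB_of_range cE8_24 (by omega) h24
  by_cases h25 : a < 78
  · exact rowB_of_range cE8_25 (by omega) h25
  by_cases h26 : a < 81
  · exact rowB_of_range cE8_26 (by omega) h26
  by_cases h27 : a < 84
  · exact rowB_of_range cE8_27 (by omega) h27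
  by_cases h28 : a < 87
  · exact rowB_of_range cE8_28 (by omega) h28
  by_cases h29 : a < 90
  · exact rowB_of_range cE8_29 (by omega) h29
  by_cases h30 : a < 93
  · exact rowB_of_range cE8_30 (by omega) h30
  by_cases h31 : a < 96
  · exact rowB_of_range cE8_31 (by omega) h31
  by_cases h32 : a < 99
  · exact rowB_of_range cE8_32 (by omega) h32
  by_cases h33 : a < 102
  · exact rowB_of_range cE8_33 (by omega) h33
  by_cases h34 : a < 105
  · exact rowB_of_range cE8_34 (by omega) h34
  by_cases h35 : a < 108
  · exact rowB_of_range cE8_35 (by omega) h35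
  by_cases h36 : a < 111
  · exact rowB_of_range cE8_36 (by omega) h36
  by_cases h37 : a < 114
  · exact rowB_of_range cE8_37 (by omega) h37
  by_cases h38 : a < 117
  · exact rowB_of_range cE8_38 (by omega) h38
  by_cases h39 : a < 120
  · exact rowB_of_range cE8_39 (by omega) h39
  by_cases h40 : a < 123
  · exact rowB_of_range cE8_40 (by omega) h40
  by_cases h41 : a < 126
  · exact rowB_of_range cE8_41 (by omega) h41
  by_cases h42 : a < 129
  · exact rowB_of_range cE8_42 (by omega) h42
  by_cases h43 : a < 132
  · exact rowB_of_range cE8_43 (by omega) h43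
  by_cases h44 : a < 135
  · exact rowB_of_range cE8_44 (by omega) h44
  by_cases h45 : a < 138
  · exact rowB_of_range cE8_45 (by omega) h45
  by_cases h46 : a < 141
  · exact rowB_of_range cE8_46 (by omega) h46
  by_cases h47 : a < 144
  · exact rowB_of_range cE8_47 (by omega) h47
  by_cases h48 : a < 147
  · exact rowB_of_range cE8_48 (by omega) h48
  by_cases h49 : a < 150
  · exact rowB_of_range cE8_49 (by omega) h49
  by_cases h50 : a < 153
  · exact rowB_of_range cE8_50 (by omega) h50
  by_cases h51 : a < 156
  · exact rowB_of_range cE8_51 (by omega) h51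
  by_cases h52 : a < 159
  · exact rowB_of_range cE8_52 (by omega) h52
  by_cases h53 : a < 162
  · exact rowB_of_range cE8_53 (by omega) h53
  by_cases h54 : a < 165
  · exact rowB_of_range cE8_54 (by omega) h54
  by_cases h55 : a < 168
  · exact rowB_of_range cE8_55 (by omega) h55
  by_cases h56 : a < 171
  · exact rowB_of_range cE8_56 (by omega) h56
  by_cases h57 : a < 174
  · exact rowB_of_range cE8_57 (by omega) h57
  by_cases h58 : a < 177
  · exact rowB_of_range cE8_58 (by omega) h58
  by_cases h59 : a < 180
  · exact rowB_of_range cE8_59 (by omega) h59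
  by_cases h60 : a < 183
  · exact rowB_of_range cE8_60 (by omega) h60
  by_cases h61 : a < 186
  · exact rowB_of_range cE8_61 (by omega) h61
  by_cases h62 : a < 189
  · exact rowB_of_range cE8_62 (by omega) h62
  by_cases h63 : a < 192
  · exact rowB_of_range cE8_63 (by omega) h63
  by_cases h64 : a < 195
  · exact rowB_of_range cE8_64 (by omega) h64
  by_cases h65 : a < 198
  · exact rowB_of_range cE8_65 (by omega) h65
  by_cases h66 : a < 201
  · exact rowB_of_range cE8_66 (by omega) h66
  by_cases h67 : a < 204
  · exact rowB_of_range cE8_67 (by omega) h67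
  by_cases h68 : a < 207
  · exact rowB_of_range cE8_68 (by omega) h68
  by_cases h69 : a < 210
  · exact rowB_of_range cE8_69 (by omega) h69
  by_cases h70 : a < 213
  · exact rowB_of_range cE8_70 (by omega) h70
  by_cases h71 : a < 216
  · exact rowB_of_range cE8_71 (by omega) h71
  by_cases h72 : a < 219
  · exact rowB_of_range cE8_72 (by omega) h72
  by_cases h73 : a < 222
  · exact rowB_of_range cE8_73 (by omega) h73
  by_cases h74 : a < 225
  · exact rowB_of_range cE8_74 (by omega) h74
  by_cases h75 : a < 228
  · exact rowB_of_range cE8_75 (by omega) h75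
  by_cases h76 : a < 231
  · exact rowB_of_range cE8_76 (by omega) h76
  by_cases h77 : a < 234
  · exact rowB_of_range cE8_77 (by omega) h77
  by_cases h78 : a < 237
  · exact rowB_of_range cE8_78 (by omega) h78
  by_cases h79 : a < 240
  · exact rowB_of_range cE8_79 (by omega) h79
  omega

/-- [C] for `chevE8` -/
theorem canP_E8_spare {q : ℕ} (hq : q < chevE8.nroots) : CanP chevE8 q :=
  canP_of_check Cfsg.Agent.Lib.Helper14.StCC.B.Helper22.slB_E8 refE8
    (fun a ha => (rows_E8 a ha).1) (fun a ha => (rows_E8 a ha).2) hq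

end Cfsg.Agent.Lib.Helper10.E8CC.Helper27
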