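import Cfsg.Agent.Lib.Helper10.E8CC.Defs
import Cfsg.Agent.Lib.Helper22.StCCBBTSL

set_option autoImplicit false

/-! S2107 / S2105 / S2106, table piece [C] (`CanP`), generic in the simply-laced datum `D`
(spare, helper27).  For a simply-laced `D` (`slB D = true`) the decompositions `q = a + b` of all
roots are exactly the entries of the chain table, so ONE pass over the rows of the table checks
`CanP D q` for every root `q`: every decomposition `(a, b)` of `q` is the reference decomposition
`(a₀, b₀)`, its mirror, or adjacent to one of the two; the root `c = a₀ - a` of the adjacency is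
read off the chain table (`diffR`). -/

namespace Cfsg.Agent.Lib.Helper10.E8CC.Helper27

open Cfsg.Lie Cfsg.Agent.Lib.Helper8.Chev Cfsg.Agent.Lib.Helper14.StCC
  Cfsg.Agent.Lib.Helper14.StCC.B Cfsg.Agent.Lib.Helper14.StCC.B.Helper22

/-- `(a, b)` is an admissible ordered pair of roots -/
def admB (D : ChevalleyDatum) (a b : ℕ) : Bool :=
  Nat.blt a D.nroots && Nat.blt b D.nroots && !(Nat.beq b a) && !(Nat.beq b (D.neg a))

/-- the chain of `(a, b)` is `[(q, ±1)]` -/
def oneB (D : ChevalleyDatum) (a b q : ℕ) : Bool :=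
  admB D a b &&
    match D.chainEntry a b with
    | [(q', N)] => Nat.beq q' q && (decide (N = 1) || decide (N = -1))
    | _ => false

/-- the chain of `(a, b)` is empty -/
def nilB (D : ChevalleyDatum) (a b : ℕ) : Bool :=
  admB D a b && (D.chainEntry a b).isEmpty

/-- the root `a' - a`, read off the chain of `(-a, a')` (junk value `D.nroots` if it is no root) -/
def diffR (D : ChevalleyDatum) (a a' : ℕ) : ℕ :=
  match D.chainEntry (D.neg a) a' with
  | (c, _) :: _ => c
  | [] => D.nroots

/-- Bool form of `AdjI` with the root `c` computed -/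
def adjIB (D : ChevalleyDatum) (a b a' b' q : ℕ) : Bool :=
  oneB D a (diffR D a a') a' && oneB D (diffR D a a') b' b && nilB D a b' && nilB D a' b &&
    nilB D a' q && nilB D b q

/-- Bool form of `Adj` -/
def adjB (D : ChevalleyDatum) (a b a₀ b₀ q : ℕ) : Bool :=
  (Nat.beq a a₀ && Nat.beq b b₀) || (Nat.beq a b₀ && Nat.beq b a₀) || adjIB D a b a₀ b₀ q ||
    adjIB D a b b₀ a₀ q

/-- the reference decomposition of `q` in the certificate -/
def refOf (ref : Array (ℕ × ℕ)) (q : ℕ) : ℕ × ℕ := ref.getD q (0, 0)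

/-- the check of the row of `a`: every decomposition `(a, b)` of a root `q` is adjacent to the
reference decomposition of `q` -/
def rowB (D : ChevalleyDatum) (ref : Array (ℕ × ℕ)) (a : ℕ) : Bool :=
  (row D a).all fun e =>
    match e.2.toList with
    | [] => true
    | (q, _) :: _ => adjB D a e.1 (refOf ref q).1 (refOf ref q).2 q

/-- the check of the reference decomposition of `q` -/
def refB (D : ChevalleyDatum) (ref : Array (ℕ × ℕ)) (q : ℕ) : Bool :=
  oneB D (refOf ref q).1 (refOf ref q).2 q && nilB D (refOf ref q).2 q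

/-- both checks for the rows / roots `lo ≤ a < hi` -/
def rangeB (D : ChevalleyDatum) (ref : Array (ℕ × ℕ)) (lo hi : ℕ) : Bool :=
  (List.range' lo (hi - lo)).all fun a => rowB D ref a && refB D ref a

variable {D : ChevalleyDatum}

theorem admB_spec {a b : ℕ} (h : admB D a b = true) :
    a < D.nroots ∧ b < D.nroots ∧ b ≠ a ∧ b ≠ D.neg a := by
  unfold admB at h
  simp only [Bool.and_eq_true, Nat.blt_eq, Bool.not_eq_true'] at h
  obtain ⟨⟨⟨h1, h2⟩, h3⟩, h4⟩ := h
  exact ⟨h1, h2, Nat.ne_of_beq_eq_false h3, Nat.ne_of_beq_eq_false h4⟩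

theorem commTerms_of_one (hsl : slB D = true) {a b q : ℕ} {N : ℤ}
    (h : D.chainEntry a b = [(q, N)]) : D.commTerms a b = [(q, N, 1, 1)] := by
  rw [commTerms_A (by rw [h]; simp) (chainEntry_length_le_one hsl b a), h]
  rfl

theorem oneB_spec (hsl : slB D = true) {a b q : ℕ} (h : oneB D a b q = true) :
    ∃ N : ℤ, OneP D a b q N ∧ (N = 1 ∨ N = -1) := by
  unfold oneB at h
  rw [Bool.and_eq_true] at h
  obtain ⟨hadm, hm⟩ := h
  obtain ⟨h1, h2, h3, h4⟩ := admB_spec hadm
  match hL : D.chainEntry a b, hm with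
  | [(q', N)], hm =>
    simp only [Bool.and_eq_true, Bool.or_eq_true, decide_eq_true_eq] at hm
    obtain ⟨hq, hN⟩ := hm
    have hq := Nat.eq_of_beq_eq_true hq
    subst hq
    exact ⟨N, ⟨h1, h2, h3, h4, commTerms_of_one hsl hL⟩, hN⟩

theorem nilB_spec (hsl : slB D = true) {a b : ℕ} (h : nilB D a b = true) : NilP D a b := by
  unfold nilB at h
  rw [Bool.and_eq_true] at h
  obtain ⟨hadm, hm⟩ := h
  obtain ⟨h1, h2, h3, h4⟩ := admB_spec hadm
  exact ⟨h1, h2, h3, h4, commTerms_eq_nil_of_sl hsl (List.isEmpty_iff.mp hm)⟩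

theorem adjIB_spec (hsl : slB D = true) {a b a' b' q : ℕ} (h : adjIB D a b a' b' q = true) :
    AdjI D a b a' b' q := by
  unfold adjIB at h
  simp only [Bool.and_eq_true] at h
  obtain ⟨⟨⟨⟨⟨h1, h2⟩, h3⟩, h4⟩, h5⟩, h6⟩ := h
  obtain ⟨N₁, hO1, hN1⟩ := oneB_spec hsl h1
  obtain ⟨N₂, hO2, hN2⟩ := oneB_spec hsl h2
  exact ⟨diffR D a a', N₁, N₂, hO1, hN1, hO2, hN2, nilB_spec hsl h3, nilB_spec hsl h4,
    nilB_spec hsl h5, nilB_spec hsl h6⟩

theorem adjB_spec (hsl : slB D = true) {a b a₀ b₀ q : ℕ} (h : adjB D a b a₀ b₀ q = true) :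
    Adj D a b a₀ b₀ q := by
  unfold adjB at h
  simp only [Bool.or_eq_true, Bool.and_eq_true] at h
  rcases h with ((h | h) | h) | h
  · exact Or.inl ⟨Nat.eq_of_beq_eq_true h.1, Nat.eq_of_beq_eq_true h.2⟩
  · exact Or.inr (Or.inl ⟨Nat.eq_of_beq_eq_true h.1, Nat.eq_of_beq_eq_true h.2⟩)
  · exact Or.inr (Or.inr (Or.inl (adjIB_spec hsl h)))
  · exact Or.inr (Or.inr (Or.inr (adjIB_spec hsl h)))

/-- soundness of the row check -/
theorem canP_of_check (hsl : slB D = true) (ref : Array (ℕ × ℕ))
    (hrow : ∀ a < D.nroots, rowB D ref a = true) (href : ∀ q < D.nroots, refB D ref q = true)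
    {q : ℕ} (hq : q < D.nroots) : CanP D q := by
  have hr := href q hq
  unfold refB at hr
  rw [Bool.and_eq_true] at hr
  obtain ⟨N₀, hO, hN⟩ := oneB_spec hsl hr.1
  refine ⟨(refOf ref q).1, (refOf ref q).2, N₀, hO, hN, nilB_spec hsl hr.2, ?_⟩
  intro a b N hab
  obtain ⟨ha, -, -, -, hct⟩ := hab
  have hlen := chainEntry_length_le_one hsl a b
  have hA := commTerms_A (D := D) (r := a) (s := b) (by omega) (chainEntry_length_le_one hsl b a)
  match hL : D.chainEntry a b, hlen with
  | [], _ =>
    rw [hL] at hA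
    rw [hA] at hct
    simp at hct
  | [(q', M)], _ =>
    have hct' := commTerms_of_one hsl hL
    rw [hct] at hct'
    have hq' : q = q' := by
      have := congrArg (fun l => l.head?.map Prod.fst) hct'
      simpa using this
    subst hq'
    have hne : D.chainEntry a b ≠ [] := by rw [hL]; simp
    obtain ⟨e, he, he1, he2⟩ := chainEntry_mem D hne
    have hra := hrow a ha
    unfold rowB at hra
    rw [List.all_eq_true] at hra
    have h3 := hra e he
    rw [he2, hL] at h3
    simp only at h3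
    rw [he1] at h3
    exact adjB_spec hsl h3

theorem rowB_of_range {ref : Array (ℕ × ℕ)} {lo hi : ℕ} (h : rangeB D ref lo hi = true) {a : ℕ}
    (h1 : lo ≤ a) (h2 : a < hi) : rowB D ref a = true ∧ refB D ref a = true := by
  unfold rangeB at h
  rw [List.all_eq_true] at h
  have := h a (by rw [List.mem_range'_1]; omega)
  rwa [Bool.and_eq_true] at this

end Cfsg.Agent.Lib.Helper10.E8CC.Helper27
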