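import Cfsg.Agent.Lib.Helper27.Fi22OData0
import Cfsg.Agent.Lib.Helper1.TreeT3

/-! # S2079: path certificates, list 0 -/

set_option autoImplicit false
set_option maxRecDepth 100000

namespace Cfsg.Agent.Lib.Helper27.Fi22O

open Cfsg.Agent.Lib.Helper28.BSGS Cfsg.Agent.Lib.Helper22.SuzOut Cfsg.Agent.Lib.Helper27.TreeSift

theorem base0_ok : gensOK 3510 12 [p0_0, p0_1, p0_2, p0_3, p0_4, p0_5, p0_6, p0_7, p0_8] = true := by decide +kernel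

theorem step0_8 : gensOK 3510 12 [p0_0, p0_1, p0_2, p0_3, p0_4, p0_5, p0_6, p0_7, p0_8] = true ∧
    genGroup 3510 12 [p0_0, p0_1, p0_2, p0_3, p0_4, p0_5, p0_6, p0_7, p0_8] = genGroup 3510 12 [p0_0, p0_1, p0_2, p0_3, p0_4, p0_5, p0_6, p0_7, p0_8] := ⟨base0_ok, rfl⟩

theorem path0_9 : pathOK 3510 12 [p0_0, p0_1, p0_2, p0_3, p0_4, p0_5, p0_6, p0_7, p0_8] (0, p0_9.1, p0_9.2) [11, 4, 0, 8, 0, 8, 14, 12, 12, 12, 14, 4, 10] = true := by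
  decide +kernel

theorem step0_9 : gensOK 3510 12 [p0_0, p0_1, p0_2, p0_3, p0_4, p0_5, p0_6, p0_7, p0_8, p0_9] = true ∧
    genGroup 3510 12 [p0_0, p0_1, p0_2, p0_3, p0_4, p0_5, p0_6, p0_7, p0_8, p0_9] = genGroup 3510 12 [p0_0, p0_1, p0_2, p0_3, p0_4, p0_5, p0_6, p0_7, p0_8] :=
  have h := seq_step 3510 12 [p0_0, p0_1, p0_2, p0_3, p0_4, p0_5, p0_6, p0_7, p0_8] step0_8.1 p0_9 [11, 4, 0, 8, 0, 8, 14, 12, 12, 12, 14, 4, 10] path0_9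
  ⟨h.1, h.2.1.trans step0_8.2⟩

theorem path0_10 : pathOK 3510 12 [p0_0, p0_1, p0_2, p0_3, p0_4, p0_5, p0_6, p0_7, p0_8, p0_9] (0, p0_10.1, p0_10.2) [19, 5, 9, 17, 19, 1, 13, 15, 3, 2, 0, 4, 14, 6, 8, 19, 12, 19, 8, 12, 16] = true := by
  decide +kernel

theorem step0_10 : gensOK 3510 12 [p0_0, p0_1, p0_2, p0_3, p0_4, p0_5, p0_6, p0_7, p0_8, p0_9, p0_10] = true ∧
    genGroup 3510 12 [p0_0, p0_1, p0_2, p0_3, p0_4, p0_5, p0_6, p0_7, p0_8, p0_9, p0_10] = genGroup 3510 12 [p0_0, p0_1, p0_2, p0_3, p0_4, p0_5, p0_6, p0_7, p0_8] :=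
  have h := seq_step 3510 12 [p0_0, p0_1, p0_2, p0_3, p0_4, p0_5, p0_6, p0_7, p0_8, p0_9] step0_9.1 p0_10 [19, 5, 9, 17, 19, 1, 13, 15, 3, 2, 0, 4, 14, 6, 8, 19, 12, 19, 8, 12, 16] path0_10
  ⟨h.1, h.2.1.trans step0_9.2⟩

theorem path0_11 : pathOK 3510 12 [p0_0, p0_1, p0_2, p0_3, p0_4, p0_5, p0_6, p0_7, p0_8, p0_9, p0_10] (0, p0_11.1, p0_11.2) [19, 17, 1, 13, 15, 4, 20, 0, 10, 10, 10, 4, 12, 12, 14, 16, 12] = true := by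
  decide +kernel

theorem step0_11 : gensOK 3510 12 [p0_0, p0_1, p0_2, p0_3, p0_4, p0_5, p0_6, p0_7, p0_8, p0_9, p0_10, p0_11] = true ∧
    genGroup 3510 12 [p0_0, p0_1, p0_2, p0_3, p0_4, p0_5, p0_6, p0_7, p0_8, p0_9, p0_10, p0_11] = genGroup 3510 12 [p0_0, p0_1, p0_2, p0_3, p0_4, p0_5, p0_6, p0_7, p0_8] :=
  have h := seq_step 3510 12 [p0_0, p0_1, p0_2, p0_3, p0_4, p0_5, p0_6, p0_7, p0_8, p0_9, p0_10] step0_10.1 p0_11 [19, 17, 1, 13, 15, 4, 20, 0, 10, 10, 10, 4, 12, 12, 14, 16, 12] path0_11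
  ⟨h.1, h.2.1.trans step0_10.2⟩

theorem path0_12 : pathOK 3510 12 [p0_0, p0_1, p0_2, p0_3, p0_4, p0_5, p0_6, p0_7, p0_8, p0_9, p0_10, p0_11] (0, p0_12.1, p0_12.2) [19, 1, 11, 9, 23, 20, 20, 6, 23, 8, 12, 8, 16, 8, 16, 10, 0] = true := by
  decide +kernel

theorem step0_12 : gensOK 3510 12 [p0_0, p0_1, p0_2, p0_3, p0_4, p0_5, p0_6, p0_7, p0_8, p0_9, p0_10, p0_11, p0_12] = true ∧
    genGroup 3510 12 [p0_0, p0_1, p0_2, p0_3, p0_4, p0_5, p0_6, p0_7, p0_8, p0_9, p0_10, p0_11, p0_12] = genGroup 3510 12 [p0_0, p0_1, p0_2, p0_3, p0_4, p0_5, p0_6, p0_7, p0_8] :=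
  have h := seq_step 3510 12 [p0_0, p0_1, p0_2, p0_3, p0_4, p0_5, p0_6, p0_7, p0_8, p0_9, p0_10, p0_11] step0_11.1 p0_12 [19, 1, 11, 9, 23, 20, 20, 6, 23, 8, 12, 8, 16, 8, 16, 10, 0] path0_12
  ⟨h.1, h.2.1.trans step0_11.2⟩

theorem path0_13 : pathOK 3510 12 [p0_0, p0_1, p0_2, p0_3, p0_4, p0_5, p0_6, p0_7, p0_8, p0_9, p0_10, p0_11, p0_12] (0, p0_13.1, p0_13.2) [9, 17, 25, 3, 1, 23, 22, 19, 0, 21, 8, 2, 19, 23, 20, 20, 16, 24] = true := by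
  decide +kernel

theorem step0_13 : gensOK 3510 12 [p0_0, p0_1, p0_2, p0_3, p0_4, p0_5, p0_6, p0_7, p0_8, p0_9, p0_10, p0_11, p0_12, p0_13] = true ∧
    genGroup 3510 12 [p0_0, p0_1, p0_2, p0_3, p0_4, p0_5, p0_6, p0_7, p0_8, p0_9, p0_10, p0_11, p0_12, p0_13] = genGroup 3510 12 [p0_0, p0_1, p0_2, p0_3, p0_4, p0_5, p0_6, p0_7, p0_8] :=
  have h := seq_step 3510 12 [p0_0, p0_1, p0_2, p0_3, p0_4, p0_5, p0_6, p0_7, p0_8, p0_9, p0_10, p0_11, p0_12] step0_12.1 p0_13 [9, 17, 25, 3, 1, 23, 22, 19, 0, 21, 8, 2, 19, 23, 20, 20, 16, 24] path0_13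
  ⟨h.1, h.2.1.trans step0_12.2⟩

theorem path0_14 : pathOK 3510 12 [p0_0, p0_1, p0_2, p0_3, p0_4, p0_5, p0_6, p0_7, p0_8, p0_9, p0_10, p0_11, p0_12, p0_13] (0, p0_14.1, p0_14.2) [7, 26, 5, 13, 26, 13, 15, 14, 4, 27, 18, 6, 14, 2, 2, 25, 12, 22, 27] = true := by
  decide +kernel

theorem step0_14 : gensOK 3510 12 [p0_0, p0_1, p0_2, p0_3, p0_4, p0_5, p0_6, p0_7, p0_8, p0_9, p0_10, p0_11, p0_12, p0_13, p0_14] = true ∧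
    genGroup 3510 12 [p0_0, p0_1, p0_2, p0_3, p0_4, p0_5, p0_6, p0_7, p0_8, p0_9, p0_10, p0_11, p0_12, p0_13, p0_14] = genGroup 3510 12 [p0_0, p0_1, p0_2, p0_3, p0_4, p0_5, p0_6, p0_7, p0_8] :=
  have h := seq_step 3510 12 [p0_0, p0_1, p0_2, p0_3, p0_4, p0_5, p0_6, p0_7, p0_8, p0_9, p0_10, p0_11, p0_12, p0_13] step0_13.1 p0_14 [7, 26, 5, 13, 26, 13, 15, 14, 4, 27, 18, 6, 14, 2, 2, 25, 12, 22, 27] path0_14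
  ⟨h.1, h.2.1.trans step0_13.2⟩

theorem path0_15 : pathOK 3510 12 [p0_0, p0_1, p0_2, p0_3, p0_4, p0_5, p0_6, p0_7, p0_8, p0_9, p0_10, p0_11, p0_12, p0_13, p0_14] (0, p0_15.1, p0_15.2) [5, 9, 19, 11, 27, 5, 15, 3, 25, 27, 2, 28, 6, 19, 8, 16, 26, 24, 2, 20, 14, 12] = true := by
  decide +kernel

theorem step0_15 : gensOK 3510 12 [p0_0, p0_1, p0_2, p0_3, p0_4, p0_5, p0_6, p0_7, p0_8, p0_9, p0_10, p0_11, p0_12, p0_13, p0_14, p0_15] = true ∧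
    genGroup 3510 12 [p0_0, p0_1, p0_2, p0_3, p0_4, p0_5, p0_6, p0_7, p0_8, p0_9, p0_10, p0_11, p0_12, p0_13, p0_14, p0_15] = genGroup 3510 12 [p0_0, p0_1, p0_2, p0_3, p0_4, p0_5, p0_6, p0_7, p0_8] :=
  have h := seq_step 3510 12 [p0_0, p0_1, p0_2, p0_3, p0_4, p0_5, p0_6, p0_7, p0_8, p0_9, p0_10, p0_11, p0_12, p0_13, p0_14] step0_14.1 p0_15 [5, 9, 19, 11, 27, 5, 15, 3, 25, 27, 2, 28, 6, 19, 8, 16, 26, 24, 2, 20, 14, 12] path0_15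
  ⟨h.1, h.2.1.trans step0_14.2⟩

theorem path0_16 : pathOK 3510 12 [p0_0, p0_1, p0_2, p0_3, p0_4, p0_5, p0_6, p0_7, p0_8, p0_9, p0_10, p0_11, p0_12, p0_13, p0_14, p0_15] (0, p0_16.1, p0_16.2) [9, 17, 28, 1, 11, 9, 29, 15, 7, 3, 1, 0, 0, 0, 24, 28, 0, 2, 31, 25, 24, 0, 2] = true := by
  decide +kernel

theorem step0_16 : gensOK 3510 12 [p0_0, p0_1, p0_2, p0_3, p0_4, p0_5, p0_6, p0_7, p0_8, p0_9, p0_10, p0_11, p0_12, p0_13, p0_14, p0_15, p0_16] = true ∧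
    genGroup 3510 12 [p0_0, p0_1, p0_2, p0_3, p0_4, p0_5, p0_6, p0_7, p0_8, p0_9, p0_10, p0_11, p0_12, p0_13, p0_14, p0_15, p0_16] = genGroup 3510 12 [p0_0, p0_1, p0_2, p0_3, p0_4, p0_5, p0_6, p0_7, p0_8] :=
  have h := seq_step 3510 12 [p0_0, p0_1, p0_2, p0_3, p0_4, p0_5, p0_6, p0_7, p0_8, p0_9, p0_10, p0_11, p0_12, p0_13, p0_14, p0_15] step0_15.1 p0_16 [9, 17, 28, 1, 11, 9, 29, 15, 7, 3, 1, 0, 0, 0, 24, 28, 0, 2, 31, 25, 24, 0, 2] path0_16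
  ⟨h.1, h.2.1.trans step0_15.2⟩

theorem path0_17 : pathOK 3510 12 [p0_0, p0_1, p0_2, p0_3, p0_4, p0_5, p0_6, p0_7, p0_8, p0_9, p0_10, p0_11, p0_12, p0_13, p0_14, p0_15, p0_16] (0, p0_17.1, p0_17.2) [26, 9, 32, 30, 20, 30, 18, 18, 24, 24, 18, 33, 18, 8, 18, 29] = true := by
  decide +kernel

theorem step0_17 : gensOK 3510 12 [p0_0, p0_1, p0_2, p0_3, p0_4, p0_5, p0_6, p0_7, p0_8, p0_9, p0_10, p0_11, p0_12, p0_13, p0_14, p0_15, p0_16, p0_17] = true ∧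
    genGroup 3510 12 [p0_0, p0_1, p0_2, p0_3, p0_4, p0_5, p0_6, p0_7, p0_8, p0_9, p0_10, p0_11, p0_12, p0_13, p0_14, p0_15, p0_16, p0_17] = genGroup 3510 12 [p0_0, p0_1, p0_2, p0_3, p0_4, p0_5, p0_6, p0_7, p0_8] :=
  have h := seq_step 3510 12 [p0_0, p0_1, p0_2, p0_3, p0_4, p0_5, p0_6, p0_7, p0_8, p0_9, p0_10, p0_11, p0_12, p0_13, p0_14, p0_15, p0_16] step0_16.1 p0_17 [26, 9, 32, 30, 20, 30, 18, 18, 24, 24, 18, 33, 18, 8, 18, 29] path0_17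
  ⟨h.1, h.2.1.trans step0_16.2⟩

theorem path0_18 : pathOK 3510 12 [p0_0, p0_1, p0_2, p0_3, p0_4, p0_5, p0_6, p0_7, p0_8, p0_9, p0_10, p0_11, p0_12, p0_13, p0_14, p0_15, p0_16, p0_17] (0, p0_18.1, p0_18.2) [30, 34, 29, 35, 5, 17, 11, 34, 9, 27, 21, 25, 32, 33, 32, 25, 8, 29, 10, 4, 30, 18] = true := by
  decide +kernel

theorem step0_18 : gensOK 3510 12 [p0_0, p0_1, p0_2, p0_3, p0_4, p0_5, p0_6, p0_7, p0_8, p0_9, p0_10, p0_11, p0_12, p0_13, p0_14, p0_15, p0_16, p0_17, p0_18] = true ∧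
    genGroup 3510 12 [p0_0, p0_1, p0_2, p0_3, p0_4, p0_5, p0_6, p0_7, p0_8, p0_9, p0_10, p0_11, p0_12, p0_13, p0_14, p0_15, p0_16, p0_17, p0_18] = genGroup 3510 12 [p0_0, p0_1, p0_2, p0_3, p0_4, p0_5, p0_6, p0_7, p0_8] :=
  have h := seq_step 3510 12 [p0_0, p0_1, p0_2, p0_3, p0_4, p0_5, p0_6, p0_7, p0_8, p0_9, p0_10, p0_11, p0_12, p0_13, p0_14, p0_15, p0_16, p0_17] step0_17.1 p0_18 [30, 34, 29, 35, 5, 17, 11, 34, 9, 27, 21, 25, 32, 33, 32, 25, 8, 29, 10, 4, 30, 18] path0_18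
  ⟨h.1, h.2.1.trans step0_17.2⟩

theorem path0_19 : pathOK 3510 12 [p0_0, p0_1, p0_2, p0_3, p0_4, p0_5, p0_6, p0_7, p0_8, p0_9, p0_10, p0_11, p0_12, p0_13, p0_14, p0_15, p0_16, p0_17, p0_18] (0, p0_19.1, p0_19.2) [10, 8, 6, 4, 16, 14, 2, 0, 10, 8] = true := by
  decide +kernel

theorem step0_19 : gensOK 3510 12 [p0_0, p0_1, p0_2, p0_3, p0_4, p0_5, p0_6, p0_7, p0_8, p0_9, p0_10, p0_11, p0_12, p0_13, p0_14, p0_15, p0_16, p0_17, p0_18, p0_19] = true ∧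
    genGroup 3510 12 [p0_0, p0_1, p0_2, p0_3, p0_4, p0_5, p0_6, p0_7, p0_8, p0_9, p0_10, p0_11, p0_12, p0_13, p0_14, p0_15, p0_16, p0_17, p0_18, p0_19] = genGroup 3510 12 [p0_0, p0_1, p0_2, p0_3, p0_4, p0_5, p0_6, p0_7, p0_8] :=
  have h := seq_step 3510 12 [p0_0, p0_1, p0_2, p0_3, p0_4, p0_5, p0_6, p0_7, p0_8, p0_9, p0_10, p0_11, p0_12, p0_13, p0_14, p0_15, p0_16, p0_17, p0_18] step0_18.1 p0_19 [10, 8, 6, 4, 16, 14, 2, 0, 10, 8] path0_19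
  ⟨h.1, h.2.1.trans step0_18.2⟩

theorem path0_20 : pathOK 3510 12 [p0_0, p0_1, p0_2, p0_3, p0_4, p0_5, p0_6, p0_7, p0_8, p0_9, p0_10, p0_11, p0_12, p0_13, p0_14, p0_15, p0_16, p0_17, p0_18, p0_19] (0, p0_20.1, p0_20.2) [2, 34, 22, 14, 10, 6, 35, 16, 35, 27, 36, 22] = true := by
  decide +kernel

theorem step0_20 : gensOK 3510 12 [p0_0, p0_1, p0_2, p0_3, p0_4, p0_5, p0_6, p0_7, p0_8, p0_9, p0_10, p0_11, p0_12, p0_13, p0_14, p0_15, p0_16, p0_17, p0_18, p0_19, p0_20] = true ∧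
    genGroup 3510 12 [p0_0, p0_1, p0_2, p0_3, p0_4, p0_5, p0_6, p0_7, p0_8, p0_9, p0_10, p0_11, p0_12, p0_13, p0_14, p0_15, p0_16, p0_17, p0_18, p0_19, p0_20] = genGroup 3510 12 [p0_0, p0_1, p0_2, p0_3, p0_4, p0_5, p0_6, p0_7, p0_8] :=
  have h := seq_step 3510 12 [p0_0, p0_1, p0_2, p0_3, p0_4, p0_5, p0_6, p0_7, p0_8, p0_9, p0_10, p0_11, p0_12, p0_13, p0_14, p0_15, p0_16, p0_17, p0_18, p0_19] step0_19.1 p0_20 [2, 34, 22, 14, 10, 6, 35, 16, 35, 27, 36, 22] path0_20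
  ⟨h.1, h.2.1.trans step0_19.2⟩

theorem path0_21 : pathOK 3510 12 [p0_0, p0_1, p0_2, p0_3, p0_4, p0_5, p0_6, p0_7, p0_8, p0_9, p0_10, p0_11, p0_12, p0_13, p0_14, p0_15, p0_16, p0_17, p0_18, p0_19, p0_20] (0, p0_21.1, p0_21.2) [32, 2, 35, 2, 10, 32, 14, 8, 10, 8, 32, 8, 34, 32, 36, 30, 36] = true := by
  decide +kernel

theorem step0_21 : gensOK 3510 12 [p0_0, p0_1, p0_2, p0_3, p0_4, p0_5, p0_6, p0_7, p0_8, p0_9, p0_10, p0_11, p0_12, p0_13, p0_14, p0_15, p0_16, p0_17, p0_18, p0_19, p0_20, p0_21] = true ∧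
    genGroup 3510 12 [p0_0, p0_1, p0_2, p0_3, p0_4, p0_5, p0_6, p0_7, p0_8, p0_9, p0_10, p0_11, p0_12, p0_13, p0_14, p0_15, p0_16, p0_17, p0_18, p0_19, p0_20, p0_21] = genGroup 3510 12 [p0_0, p0_1, p0_2, p0_3, p0_4, p0_5, p0_6, p0_7, p0_8] :=
  have h := seq_step 3510 12 [p0_0, p0_1, p0_2, p0_3, p0_4, p0_5, p0_6, p0_7, p0_8, p0_9, p0_10, p0_11, p0_12, p0_13, p0_14, p0_15, p0_16, p0_17, p0_18, p0_19, p0_20] step0_20.1 p0_21 [32, 2, 35, 2, 10, 32, 14, 8, 10, 8, 32, 8, 34, 32, 36, 30, 36] path0_21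
  ⟨h.1, h.2.1.trans step0_20.2⟩

theorem path0_22 : pathOK 3510 12 [p0_0, p0_1, p0_2, p0_3, p0_4, p0_5, p0_6, p0_7, p0_8, p0_9, p0_10, p0_11, p0_12, p0_13, p0_14, p0_15, p0_16, p0_17, p0_18, p0_19, p0_20, p0_21] (0, p0_22.1, p0_22.2) [16, 34, 28, 4, 0, 2, 14, 6, 35, 12, 0, 24, 35, 8, 4, 32, 34, 28, 35, 31, 24] = true := by
  decide +kernel

theorem step0_22 : gensOK 3510 12 [p0_0, p0_1, p0_2, p0_3, p0_4, p0_5, p0_6, p0_7, p0_8, p0_9, p0_10, p0_11, p0_12, p0_13, p0_14, p0_15, p0_16, p0_17, p0_18, p0_19, p0_20, p0_21, p0_22] = true ∧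
    genGroup 3510 12 [p0_0, p0_1, p0_2, p0_3, p0_4, p0_5, p0_6, p0_7, p0_8, p0_9, p0_10, p0_11, p0_12, p0_13, p0_14, p0_15, p0_16, p0_17, p0_18, p0_19, p0_20, p0_21, p0_22] = genGroup 3510 12 [p0_0, p0_1, p0_2, p0_3, p0_4, p0_5, p0_6, p0_7, p0_8] :=
  have h := seq_step 3510 12 [p0_0, p0_1, p0_2, p0_3, p0_4, p0_5, p0_6, p0_7, p0_8, p0_9, p0_10, p0_11, p0_12, p0_13, p0_14, p0_15, p0_16, p0_17, p0_18, p0_19, p0_20, p0_21] step0_21.1 p0_22 [16, 34, 28, 4, 0, 2, 14, 6, 35, 12, 0, 24, 35, 8, 4, 32, 34, 28, 35, 31, 24] path0_22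
  ⟨h.1, h.2.1.trans step0_21.2⟩

end Cfsg.Agent.Lib.Helper27.Fi22O
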