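import Cfsg.Agent.Lib.Helper27.Fi22OData1
import Cfsg.Agent.Lib.Helper1.TreeT3

/-! # S2079: path certificates, list 1 -/

set_option autoImplicit false
set_option maxRecDepth 100000

namespace Cfsg.Agent.Lib.Helper27.Fi22O

open Cfsg.Agent.Lib.Helper28.BSGS Cfsg.Agent.Lib.Helper22.SuzOut Cfsg.Agent.Lib.Helper27.TreeSift

theorem base1_ok : gensOK 3510 12 [p0_19, p0_20, p0_21] = true := by decide +kernel

theorem step1_2 : gensOK 3510 12 [p0_19, p0_20, p0_21] = true ∧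
    genGroup 3510 12 [p0_19, p0_20, p0_21] = genGroup 3510 12 [p0_19, p0_20, p0_21] := ⟨base1_ok, rfl⟩

theorem path1_3 : pathOK 3510 12 [p0_19, p0_20, p0_21] (0, p1_3.1, p1_3.2) [3, 3, 1, 5, 0, 1, 0, 2, 3, 1, 3, 4] = true := by
  decide +kernel

theorem step1_3 : gensOK 3510 12 [p0_19, p0_20, p0_21, p1_3] = true ∧
    genGroup 3510 12 [p0_19, p0_20, p0_21, p1_3] = genGroup 3510 12 [p0_19, p0_20, p0_21] :=
  have h := seq_step 3510 12 [p0_19, p0_20, p0_21] step1_2.1 p1_3 [3, 3, 1, 5, 0, 1, 0, 2, 3, 1, 3, 4] path1_3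
  ⟨h.1, h.2.1.trans step1_2.2⟩

theorem path1_4 : pathOK 3510 12 [p0_19, p0_20, p0_21, p1_3] (0, p1_4.1, p1_4.2) [0, 5, 1, 4, 7, 4, 4, 5, 3, 3, 2, 3, 6, 4, 0, 5] = true := by
  decide +kernel

theorem step1_4 : gensOK 3510 12 [p0_19, p0_20, p0_21, p1_3, p1_4] = true ∧
    genGroup 3510 12 [p0_19, p0_20, p0_21, p1_3, p1_4] = genGroup 3510 12 [p0_19, p0_20, p0_21] :=
  have h := seq_step 3510 12 [p0_19, p0_20, p0_21, p1_3] step1_3.1 p1_4 [0, 5, 1, 4, 7, 4, 4, 5, 3, 3, 2, 3, 6, 4, 0, 5] path1_4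
  ⟨h.1, h.2.1.trans step1_3.2⟩

theorem path1_5 : pathOK 3510 12 [p0_19, p0_20, p0_21, p1_3, p1_4] (0, p1_5.1, p1_5.2) [8, 7, 8, 8, 7, 8, 8, 7, 8, 0, 8, 1, 3, 6, 2, 2, 4, 1, 5, 4, 9, 9, 0] = true := by
  decide +kernel

theorem step1_5 : gensOK 3510 12 [p0_19, p0_20, p0_21, p1_3, p1_4, p1_5] = true ∧
    genGroup 3510 12 [p0_19, p0_20, p0_21, p1_3, p1_4, p1_5] = genGroup 3510 12 [p0_19, p0_20, p0_21] :=
  have h := seq_step 3510 12 [p0_19, p0_20, p0_21, p1_3, p1_4] step1_4.1 p1_5 [8, 7, 8, 8, 7, 8, 8, 7, 8, 0, 8, 1, 3, 6, 2, 2, 4, 1, 5, 4, 9, 9, 0] path1_5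
  ⟨h.1, h.2.1.trans step1_4.2⟩

theorem path1_6 : pathOK 3510 12 [p0_19, p0_20, p0_21, p1_3, p1_4, p1_5] (0, p1_6.1, p1_6.2) [9, 11, 7, 9, 9, 1, 4, 7, 3, 9, 10, 11, 5, 1, 4, 5, 4, 7, 11] = true := by
  decide +kernel

theorem step1_6 : gensOK 3510 12 [p0_19, p0_20, p0_21, p1_3, p1_4, p1_5, p1_6] = true ∧
    genGroup 3510 12 [p0_19, p0_20, p0_21, p1_3, p1_4, p1_5, p1_6] = genGroup 3510 12 [p0_19, p0_20, p0_21] :=
  have h := seq_step 3510 12 [p0_19, p0_20, p0_21, p1_3, p1_4, p1_5] step1_5.1 p1_6 [9, 11, 7, 9, 9, 1, 4, 7, 3, 9, 10, 11, 5, 1, 4, 5, 4, 7, 11] path1_6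
  ⟨h.1, h.2.1.trans step1_5.2⟩

theorem path1_7 : pathOK 3510 12 [p0_19, p0_20, p0_21, p1_3, p1_4, p1_5, p1_6] (0, p1_7.1, p1_7.2) [11, 13, 11, 12, 11, 13, 7, 9, 9, 7, 10, 13, 3, 8, 12, 5, 2, 7, 7, 11, 2, 0, 4, 0, 11] = true := by
  decide +kernel

theorem step1_7 : gensOK 3510 12 [p0_19, p0_20, p0_21, p1_3, p1_4, p1_5, p1_6, p1_7] = true ∧
    genGroup 3510 12 [p0_19, p0_20, p0_21, p1_3, p1_4, p1_5, p1_6, p1_7] = genGroup 3510 12 [p0_19, p0_20, p0_21] :=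
  have h := seq_step 3510 12 [p0_19, p0_20, p0_21, p1_3, p1_4, p1_5, p1_6] step1_6.1 p1_7 [11, 13, 11, 12, 11, 13, 7, 9, 9, 7, 10, 13, 3, 8, 12, 5, 2, 7, 7, 11, 2, 0, 4, 0, 11] path1_7
  ⟨h.1, h.2.1.trans step1_6.2⟩

theorem path1_8 : pathOK 3510 12 [p0_19, p0_20, p0_21, p1_3, p1_4, p1_5, p1_6, p1_7] (0, p1_8.1, p1_8.2) [13, 11, 13, 14, 12, 7, 13, 14, 14, 11, 1, 1, 5, 11, 14, 11, 12, 0, 13, 11, 12, 0, 14, 1, 5] = true := by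
  decide +kernel

theorem step1_8 : gensOK 3510 12 [p0_19, p0_20, p0_21, p1_3, p1_4, p1_5, p1_6, p1_7, p1_8] = true ∧
    genGroup 3510 12 [p0_19, p0_20, p0_21, p1_3, p1_4, p1_5, p1_6, p1_7, p1_8] = genGroup 3510 12 [p0_19, p0_20, p0_21] :=
  have h := seq_step 3510 12 [p0_19, p0_20, p0_21, p1_3, p1_4, p1_5, p1_6, p1_7] step1_7.1 p1_8 [13, 11, 13, 14, 12, 7, 13, 14, 14, 11, 1, 1, 5, 11, 14, 11, 12, 0, 13, 11, 12, 0, 14, 1, 5] path1_8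
  ⟨h.1, h.2.1.trans step1_7.2⟩

theorem path1_9 : pathOK 3510 12 [p0_19, p0_20, p0_21, p1_3, p1_4, p1_5, p1_6, p1_7, p1_8] (0, p1_9.1, p1_9.2) [14, 14, 17, 14, 14, 11, 13, 11, 11, 9, 16, 11, 15, 0, 2, 6, 3, 7, 14, 11, 16, 11, 16, 8, 14] = true := by
  decide +kernel

theorem step1_9 : gensOK 3510 12 [p0_19, p0_20, p0_21, p1_3, p1_4, p1_5, p1_6, p1_7, p1_8, p1_9] = true ∧
    genGroup 3510 12 [p0_19, p0_20, p0_21, p1_3, p1_4, p1_5, p1_6, p1_7, p1_8, p1_9] = genGroup 3510 12 [p0_19, p0_20, p0_21] :=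
  have h := seq_step 3510 12 [p0_19, p0_20, p0_21, p1_3, p1_4, p1_5, p1_6, p1_7, p1_8] step1_8.1 p1_9 [14, 14, 17, 14, 14, 11, 13, 11, 11, 9, 16, 11, 15, 0, 2, 6, 3, 7, 14, 11, 16, 11, 16, 8, 14] path1_9
  ⟨h.1, h.2.1.trans step1_8.2⟩

theorem path1_10 : pathOK 3510 12 [p0_19, p0_20, p0_21, p1_3, p1_4, p1_5, p1_6, p1_7, p1_8, p1_9] (0, p1_10.1, p1_10.2) [14, 14, 17, 11, 11, 16, 12, 7, 14, 9, 14, 3, 0, 16, 19, 11, 4, 10, 8, 17, 2, 9, 10, 9] = true := by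
  decide +kernel

theorem step1_10 : gensOK 3510 12 [p0_19, p0_20, p0_21, p1_3, p1_4, p1_5, p1_6, p1_7, p1_8, p1_9, p1_10] = true ∧
    genGroup 3510 12 [p0_19, p0_20, p0_21, p1_3, p1_4, p1_5, p1_6, p1_7, p1_8, p1_9, p1_10] = genGroup 3510 12 [p0_19, p0_20, p0_21] :=
  have h := seq_step 3510 12 [p0_19, p0_20, p0_21, p1_3, p1_4, p1_5, p1_6, p1_7, p1_8, p1_9] step1_9.1 p1_10 [14, 14, 17, 11, 11, 16, 12, 7, 14, 9, 14, 3, 0, 16, 19, 11, 4, 10, 8, 17, 2, 9, 10, 9] path1_10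
  ⟨h.1, h.2.1.trans step1_9.2⟩

theorem path1_11 : pathOK 3510 12 [p0_19, p0_20, p0_21, p1_3, p1_4, p1_5, p1_6, p1_7, p1_8, p1_9, p1_10] (0, p1_11.1, p1_11.2) [16, 21, 14, 11, 19, 11, 17, 7, 15, 13, 8, 1, 1, 8, 5, 2, 20, 4, 9, 15, 5, 1, 2, 19] = true := by
  decide +kernel

theorem step1_11 : gensOK 3510 12 [p0_19, p0_20, p0_21, p1_3, p1_4, p1_5, p1_6, p1_7, p1_8, p1_9, p1_10, p1_11] = true ∧
    genGroup 3510 12 [p0_19, p0_20, p0_21, p1_3, p1_4, p1_5, p1_6, p1_7, p1_8, p1_9, p1_10, p1_11] = genGroup 3510 12 [p0_19, p0_20, p0_21] :=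
  have h := seq_step 3510 12 [p0_19, p0_20, p0_21, p1_3, p1_4, p1_5, p1_6, p1_7, p1_8, p1_9, p1_10] step1_10.1 p1_11 [16, 21, 14, 11, 19, 11, 17, 7, 15, 13, 8, 1, 1, 8, 5, 2, 20, 4, 9, 15, 5, 1, 2, 19] path1_11
  ⟨h.1, h.2.1.trans step1_10.2⟩

theorem path1_12 : pathOK 3510 12 [p0_19, p0_20, p0_21, p1_3, p1_4, p1_5, p1_6, p1_7, p1_8, p1_9, p1_10, p1_11] (0, p1_12.1, p1_12.2) [21, 23, 21, 15, 23, 16, 10, 14, 13, 20, 7, 11, 13, 9, 0, 13, 16, 17, 12, 1, 7, 23, 19, 11, 8, 14, 20] = true := by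
  decide +kernel

theorem step1_12 : gensOK 3510 12 [p0_19, p0_20, p0_21, p1_3, p1_4, p1_5, p1_6, p1_7, p1_8, p1_9, p1_10, p1_11, p1_12] = true ∧
    genGroup 3510 12 [p0_19, p0_20, p0_21, p1_3, p1_4, p1_5, p1_6, p1_7, p1_8, p1_9, p1_10, p1_11, p1_12] = genGroup 3510 12 [p0_19, p0_20, p0_21] :=
  have h := seq_step 3510 12 [p0_19, p0_20, p0_21, p1_3, p1_4, p1_5, p1_6, p1_7, p1_8, p1_9, p1_10, p1_11] step1_11.1 p1_12 [21, 23, 21, 15, 23, 16, 10, 14, 13, 20, 7, 11, 13, 9, 0, 13, 16, 17, 12, 1, 7, 23, 19, 11, 8, 14, 20] path1_12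
  ⟨h.1, h.2.1.trans step1_11.2⟩

theorem path1_13 : pathOK 3510 12 [p0_19, p0_20, p0_21, p1_3, p1_4, p1_5, p1_6, p1_7, p1_8, p1_9, p1_10, p1_11, p1_12] (0, p1_13.1, p1_13.2) [20, 23, 19, 10, 19, 17, 7, 20, 25, 1, 5, 1, 17, 23, 18, 4, 20, 25, 13, 3, 5, 13, 11] = true := by
  decide +kernel

theorem step1_13 : gensOK 3510 12 [p0_19, p0_20, p0_21, p1_3, p1_4, p1_5, p1_6, p1_7, p1_8, p1_9, p1_10, p1_11, p1_12, p1_13] = true ∧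
    genGroup 3510 12 [p0_19, p0_20, p0_21, p1_3, p1_4, p1_5, p1_6, p1_7, p1_8, p1_9, p1_10, p1_11, p1_12, p1_13] = genGroup 3510 12 [p0_19, p0_20, p0_21] :=
  have h := seq_step 3510 12 [p0_19, p0_20, p0_21, p1_3, p1_4, p1_5, p1_6, p1_7, p1_8, p1_9, p1_10, p1_11, p1_12] step1_12.1 p1_13 [20, 23, 19, 10, 19, 17, 7, 20, 25, 1, 5, 1, 17, 23, 18, 4, 20, 25, 13, 3, 5, 13, 11] path1_13
  ⟨h.1, h.2.1.trans step1_12.2⟩

theorem path1_14 : pathOK 3510 12 [p0_19, p0_20, p0_21, p1_3, p1_4, p1_5, p1_6, p1_7, p1_8, p1_9, p1_10, p1_11, p1_12, p1_13] (0, p1_14.1, p1_14.2) [12, 15, 19, 5, 14, 11, 25, 18, 26, 2, 15, 24, 8, 1] = true := by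
  decide +kernel

theorem step1_14 : gensOK 3510 12 [p0_19, p0_20, p0_21, p1_3, p1_4, p1_5, p1_6, p1_7, p1_8, p1_9, p1_10, p1_11, p1_12, p1_13, p1_14] = true ∧
    genGroup 3510 12 [p0_19, p0_20, p0_21, p1_3, p1_4, p1_5, p1_6, p1_7, p1_8, p1_9, p1_10, p1_11, p1_12, p1_13, p1_14] = genGroup 3510 12 [p0_19, p0_20, p0_21] :=
  have h := seq_step 3510 12 [p0_19, p0_20, p0_21, p1_3, p1_4, p1_5, p1_6, p1_7, p1_8, p1_9, p1_10, p1_11, p1_12, p1_13] step1_13.1 p1_14 [12, 15, 19, 5, 14, 11, 25, 18, 26, 2, 15, 24, 8, 1] path1_14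
  ⟨h.1, h.2.1.trans step1_13.2⟩

theorem path1_15 : pathOK 3510 12 [p0_19, p0_20, p0_21, p1_3, p1_4, p1_5, p1_6, p1_7, p1_8, p1_9, p1_10, p1_11, p1_12, p1_13, p1_14] (0, p1_15.1, p1_15.2) [13, 21, 14, 5, 1, 0, 4, 21, 18, 15, 24, 23, 11] = true := by
  decide +kernel

theorem step1_15 : gensOK 3510 12 [p0_19, p0_20, p0_21, p1_3, p1_4, p1_5, p1_6, p1_7, p1_8, p1_9, p1_10, p1_11, p1_12, p1_13, p1_14, p1_15] = true ∧
    genGroup 3510 12 [p0_19, p0_20, p0_21, p1_3, p1_4, p1_5, p1_6, p1_7, p1_8, p1_9, p1_10, p1_11, p1_12, p1_13, p1_14, p1_15] = genGroup 3510 12 [p0_19, p0_20, p0_21] :=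
  have h := seq_step 3510 12 [p0_19, p0_20, p0_21, p1_3, p1_4, p1_5, p1_6, p1_7, p1_8, p1_9, p1_10, p1_11, p1_12, p1_13, p1_14] step1_14.1 p1_15 [13, 21, 14, 5, 1, 0, 4, 21, 18, 15, 24, 23, 11] path1_15
  ⟨h.1, h.2.1.trans step1_14.2⟩

theorem path1_16 : pathOK 3510 12 [p0_19, p0_20, p0_21, p1_3, p1_4, p1_5, p1_6, p1_7, p1_8, p1_9, p1_10, p1_11, p1_12, p1_13, p1_14, p1_15] (0, p1_16.1, p1_16.2) [29, 31, 31, 29, 30, 7, 29, 30, 9, 0, 21, 20, 1, 17, 31, 12, 26, 6, 12] = true := by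
  decide +kernel

theorem step1_16 : gensOK 3510 12 [p0_19, p0_20, p0_21, p1_3, p1_4, p1_5, p1_6, p1_7, p1_8, p1_9, p1_10, p1_11, p1_12, p1_13, p1_14, p1_15, p1_16] = true ∧
    genGroup 3510 12 [p0_19, p0_20, p0_21, p1_3, p1_4, p1_5, p1_6, p1_7, p1_8, p1_9, p1_10, p1_11, p1_12, p1_13, p1_14, p1_15, p1_16] = genGroup 3510 12 [p0_19, p0_20, p0_21] :=
  have h := seq_step 3510 12 [p0_19, p0_20, p0_21, p1_3, p1_4, p1_5, p1_6, p1_7, p1_8, p1_9, p1_10, p1_11, p1_12, p1_13, p1_14, p1_15] step1_15.1 p1_16 [29, 31, 31, 29, 30, 7, 29, 30, 9, 0, 21, 20, 1, 17, 31, 12, 26, 6, 12] path1_16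
  ⟨h.1, h.2.1.trans step1_15.2⟩

theorem path1_17 : pathOK 3510 12 [p0_19, p0_20, p0_21, p1_3, p1_4, p1_5, p1_6, p1_7, p1_8, p1_9, p1_10, p1_11, p1_12, p1_13, p1_14, p1_15, p1_16] (0, p1_17.1, p1_17.2) [32, 32, 32, 32, 32, 19, 33, 33, 28, 31, 12, 23, 11, 3, 4, 33, 16, 5, 27, 21, 5, 23, 26, 16] = true := by
  decide +kernel

theorem step1_17 : gensOK 3510 12 [p0_19, p0_20, p0_21, p1_3, p1_4, p1_5, p1_6, p1_7, p1_8, p1_9, p1_10, p1_11, p1_12, p1_13, p1_14, p1_15, p1_16, p1_17] = true ∧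
    genGroup 3510 12 [p0_19, p0_20, p0_21, p1_3, p1_4, p1_5, p1_6, p1_7, p1_8, p1_9, p1_10, p1_11, p1_12, p1_13, p1_14, p1_15, p1_16, p1_17] = genGroup 3510 12 [p0_19, p0_20, p0_21] :=
  have h := seq_step 3510 12 [p0_19, p0_20, p0_21, p1_3, p1_4, p1_5, p1_6, p1_7, p1_8, p1_9, p1_10, p1_11, p1_12, p1_13, p1_14, p1_15, p1_16] step1_16.1 p1_17 [32, 32, 32, 32, 32, 19, 33, 33, 28, 31, 12, 23, 11, 3, 4, 33, 16, 5, 27, 21, 5, 23, 26, 16] path1_17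
  ⟨h.1, h.2.1.trans step1_16.2⟩

theorem path1_18 : pathOK 3510 12 [p0_19, p0_20, p0_21, p1_3, p1_4, p1_5, p1_6, p1_7, p1_8, p1_9, p1_10, p1_11, p1_12, p1_13, p1_14, p1_15, p1_16, p1_17] (0, p1_18.1, p1_18.2) [32, 32, 35, 32, 31, 29, 33, 28, 30, 9, 29, 29, 3, 28, 6, 12, 18, 6, 2, 12, 23] = true := by
  decide +kernel

theorem step1_18 : gensOK 3510 12 [p0_19, p0_20, p0_21, p1_3, p1_4, p1_5, p1_6, p1_7, p1_8, p1_9, p1_10, p1_11, p1_12, p1_13, p1_14, p1_15, p1_16, p1_17, p1_18] = true ∧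
    genGroup 3510 12 [p0_19, p0_20, p0_21, p1_3, p1_4, p1_5, p1_6, p1_7, p1_8, p1_9, p1_10, p1_11, p1_12, p1_13, p1_14, p1_15, p1_16, p1_17, p1_18] = genGroup 3510 12 [p0_19, p0_20, p0_21] :=
  have h := seq_step 3510 12 [p0_19, p0_20, p0_21, p1_3, p1_4, p1_5, p1_6, p1_7, p1_8, p1_9, p1_10, p1_11, p1_12, p1_13, p1_14, p1_15, p1_16, p1_17] step1_17.1 p1_18 [32, 32, 35, 32, 31, 29, 33, 28, 30, 9, 29, 29, 3, 28, 6, 12, 18, 6, 2, 12, 23] path1_18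
  ⟨h.1, h.2.1.trans step1_17.2⟩

theorem path1_19 : pathOK 3510 12 [p0_19, p0_20, p0_21, p1_3, p1_4, p1_5, p1_6, p1_7, p1_8, p1_9, p1_10, p1_11, p1_12, p1_13, p1_14, p1_15, p1_16, p1_17, p1_18] (0, p1_19.1, p1_19.2) [28, 31, 37, 32, 7, 37, 30, 1, 5, 32, 27, 19, 22, 37, 7, 5, 32, 33] = true := by
  decide +kernel

theorem step1_19 : gensOK 3510 12 [p0_19, p0_20, p0_21, p1_3, p1_4, p1_5, p1_6, p1_7, p1_8, p1_9, p1_10, p1_11, p1_12, p1_13, p1_14, p1_15, p1_16, p1_17, p1_18, p1_19] = true ∧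
    genGroup 3510 12 [p0_19, p0_20, p0_21, p1_3, p1_4, p1_5, p1_6, p1_7, p1_8, p1_9, p1_10, p1_11, p1_12, p1_13, p1_14, p1_15, p1_16, p1_17, p1_18, p1_19] = genGroup 3510 12 [p0_19, p0_20, p0_21] :=
  have h := seq_step 3510 12 [p0_19, p0_20, p0_21, p1_3, p1_4, p1_5, p1_6, p1_7, p1_8, p1_9, p1_10, p1_11, p1_12, p1_13, p1_14, p1_15, p1_16, p1_17, p1_18] step1_18.1 p1_19 [28, 31, 37, 32, 7, 37, 30, 1, 5, 32, 27, 19, 22, 37, 7, 5, 32, 33] path1_19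
  ⟨h.1, h.2.1.trans step1_18.2⟩

theorem path1_20 : pathOK 3510 12 [p0_19, p0_20, p0_21, p1_3, p1_4, p1_5, p1_6, p1_7, p1_8, p1_9, p1_10, p1_11, p1_12, p1_13, p1_14, p1_15, p1_16, p1_17, p1_18, p1_19] (0, p1_20.1, p1_20.2) [39, 36, 19, 31, 39, 31, 37, 14, 12, 12, 7, 38, 17, 19, 12, 24, 30] = true := by
  decide +kernel

theorem step1_20 : gensOK 3510 12 [p0_19, p0_20, p0_21, p1_3, p1_4, p1_5, p1_6, p1_7, p1_8, p1_9, p1_10, p1_11, p1_12, p1_13, p1_14, p1_15, p1_16, p1_17, p1_18, p1_19, p1_20] = true ∧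
    genGroup 3510 12 [p0_19, p0_20, p0_21, p1_3, p1_4, p1_5, p1_6, p1_7, p1_8, p1_9, p1_10, p1_11, p1_12, p1_13, p1_14, p1_15, p1_16, p1_17, p1_18, p1_19, p1_20] = genGroup 3510 12 [p0_19, p0_20, p0_21] :=
  have h := seq_step 3510 12 [p0_19, p0_20, p0_21, p1_3, p1_4, p1_5, p1_6, p1_7, p1_8, p1_9, p1_10, p1_11, p1_12, p1_13, p1_14, p1_15, p1_16, p1_17, p1_18, p1_19] step1_19.1 p1_20 [39, 36, 19, 31, 39, 31, 37, 14, 12, 12, 7, 38, 17, 19, 12, 24, 30] path1_20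
  ⟨h.1, h.2.1.trans step1_19.2⟩

theorem path1_21 : pathOK 3510 12 [p0_19, p0_20, p0_21, p1_3, p1_4, p1_5, p1_6, p1_7, p1_8, p1_9, p1_10, p1_11, p1_12, p1_13, p1_14, p1_15, p1_16, p1_17, p1_18, p1_19, p1_20] (0, p1_21.1, p1_21.2) [37, 37, 32, 40, 35, 31, 35, 17, 32, 13, 5, 13, 14, 8, 38, 13, 33, 0, 12, 10] = true := by
  decide +kernel

theorem step1_21 : gensOK 3510 12 [p0_19, p0_20, p0_21, p1_3, p1_4, p1_5, p1_6, p1_7, p1_8, p1_9, p1_10, p1_11, p1_12, p1_13, p1_14, p1_15, p1_16, p1_17, p1_18, p1_19, p1_20, p1_21] = true ∧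
    genGroup 3510 12 [p0_19, p0_20, p0_21, p1_3, p1_4, p1_5, p1_6, p1_7, p1_8, p1_9, p1_10, p1_11, p1_12, p1_13, p1_14, p1_15, p1_16, p1_17, p1_18, p1_19, p1_20, p1_21] = genGroup 3510 12 [p0_19, p0_20, p0_21] :=
  have h := seq_step 3510 12 [p0_19, p0_20, p0_21, p1_3, p1_4, p1_5, p1_6, p1_7, p1_8, p1_9, p1_10, p1_11, p1_12, p1_13, p1_14, p1_15, p1_16, p1_17, p1_18, p1_19, p1_20] step1_20.1 p1_21 [37, 37, 32, 40, 35, 31, 35, 17, 32, 13, 5, 13, 14, 8, 38, 13, 33, 0, 12, 10] path1_21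
  ⟨h.1, h.2.1.trans step1_20.2⟩

theorem path1_22 : pathOK 3510 12 [p0_19, p0_20, p0_21, p1_3, p1_4, p1_5, p1_6, p1_7, p1_8, p1_9, p1_10, p1_11, p1_12, p1_13, p1_14, p1_15, p1_16, p1_17, p1_18, p1_19, p1_20, p1_21] (0, p1_22.1, p1_22.2) [35, 43, 38, 36, 19, 39, 19, 30, 20, 37, 0, 1, 41, 21, 35, 42, 39, 39, 19] = true := by
  decide +kernel

theorem step1_22 : gensOK 3510 12 [p0_19, p0_20, p0_21, p1_3, p1_4, p1_5, p1_6, p1_7, p1_8, p1_9, p1_10, p1_11, p1_12, p1_13, p1_14, p1_15, p1_16, p1_17, p1_18, p1_19, p1_20, p1_21, p1_22] = true ∧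
    genGroup 3510 12 [p0_19, p0_20, p0_21, p1_3, p1_4, p1_5, p1_6, p1_7, p1_8, p1_9, p1_10, p1_11, p1_12, p1_13, p1_14, p1_15, p1_16, p1_17, p1_18, p1_19, p1_20, p1_21, p1_22] = genGroup 3510 12 [p0_19, p0_20, p0_21] :=
  have h := seq_step 3510 12 [p0_19, p0_20, p0_21, p1_3, p1_4, p1_5, p1_6, p1_7, p1_8, p1_9, p1_10, p1_11, p1_12, p1_13, p1_14, p1_15, p1_16, p1_17, p1_18, p1_19, p1_20, p1_21] step1_21.1 p1_22 [35, 43, 38, 36, 19, 39, 19, 30, 20, 37, 0, 1, 41, 21, 35, 42, 39, 39, 19] path1_22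
  ⟨h.1, h.2.1.trans step1_21.2⟩

end Cfsg.Agent.Lib.Helper27.Fi22O
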