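import Cfsg.Agent.Lib.Helper27.Fi22OData1
import Cfsg.Agent.Lib.Helper27.TreeDefs

/-! # S2079: the two Schreier-vector chains are certified (kernel computations) -/

set_option autoImplicit false
set_option maxRecDepth 100000

namespace Cfsg.Agent.Lib.Helper27.Fi22O

open Cfsg.Agent.Lib.Helper28.BSGS Cfsg.Agent.Lib.Helper22.SuzOut Cfsg.Agent.Lib.Helper27.TreeSift

theorem chain1_ok : chainOKT 3510 12 known1 8 [] levels1 = true := by decide +kernel

theorem chain2_ok : chainOKT 3510 12 known1 8 [] levels2 = true := by decide +kernel

theorem size1 : sizeT 3510 12 levels1 = 64561751654400 := by decide +kernel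

theorem size2 : sizeT 3510 12 levels2 = 64561751654400 := by decide +kernel

end Cfsg.Agent.Lib.Helper27.Fi22O
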