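import Cfsg.Agent.Lib.Helper27.Fi22OData1
import Cfsg.Agent.Lib.Helper27.TreeDefs

/-! # S2079: base-image exclusions (kernel computations) -/

set_option autoImplicit false
set_option maxRecDepth 100000

namespace Cfsg.Agent.Lib.Helper27.Fi22O

open Cfsg.Agent.Lib.Helper28.BSGS Cfsg.Agent.Lib.Helper22.SuzOut Cfsg.Agent.Lib.Helper27.TreeSift

/-- the element `A` of order 13 on values -/
def fA (x : ℕ) : ℕ := look 12 p0_19.1 x

/-- `A ^ 2` on values -/
def fA2 (x : ℕ) : ℕ := look 12 p0_19.1 (look 12 p0_19.1 x)

/-- the element `d` of order 6 on values -/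
def fd (x : ℕ) : ℕ := look 12 p0_20.1 x

/-- the `A`-cycle of the point `0` -/
def cycA : List ℕ := [0, 15, 244, 96, 205, 112, 38, 223, 88, 104, 8, 12, 14]

theorem cycA_spec : cycA = (List.range 13).map (fun k => fA^[k] 0) := by decide +kernel

/-- candidates for the image of `0` under an element centralising `A`: only the cycle points sift -/
theorem excl1 : allBelow (fun y => cycA.any (Nat.beq y) ||
    Option.isNone (treeSift 12 known1 8 levels1 (iterImgs fA 6 y) [])) 3510 = true := by
  decide +kernel

/-- candidates for the image of `0` under an element conjugating `A` to `A ^ 2`: none sifts -/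
theorem excl2 : allBelow (fun y =>
    Option.isNone (treeSift 12 known1 8 levels1 (iterImgs fA2 6 y) [])) 3510 = true := by
  decide +kernel

/-- first word-order test: `(A d z⁻¹ A) ^ 14` moves the point `0` -/
def t1 (ws : List ℕ) : Bool :=
  !(Nat.beq ((fun x => fA (fd (evalW 12 ws (fA x))))^[14] 0) 0)

/-- second word-order test: `(z⁻¹ A) ^ 20` moves the point `0` -/
def t2 (ws : List ℕ) : Bool :=
  !(Nat.beq ((fun x => evalW 12 ws (fA x))^[20] 0) 0)

/-- candidates for the image of `0` under an element centralising `d` with the word orders of `y` -/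
noncomputable def cand3 (y : ℕ) : Bool :=
  Nat.beq y 476 ||
    (match treeSift 12 known1 8 levels2 (iterImgs fd 6 y) [] with
     | none => true
     | some ws => t1 ws || t2 ws)

theorem excl3 : allBelow cand3 3510 = true := by decide +kernel

end Cfsg.Agent.Lib.Helper27.Fi22O
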