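import Cfsg.Agent.Lib.Helper27.Fi22OExcl

/-! # S2079: pointwise identities between the tables (kernel computations) -/

set_option autoImplicit false
set_option maxRecDepth 100000

namespace Cfsg.Agent.Lib.Helper27.Fi22O

open Cfsg.Agent.Lib.Helper28.BSGS Cfsg.Agent.Lib.Helper22.SuzOut Cfsg.Agent.Lib.Helper27.TreeSift

/-- inverse of `A` on values -/
def fAi (x : ℕ) : ℕ := look 12 p0_19.2 x

/-- inverse of `d` on values -/
def fdi (x : ℕ) : ℕ := look 12 p0_20.2 x

/-- the element `y` of order 3 on values -/
def fy (x : ℕ) : ℕ := look 12 p0_21.1 x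

/-- inverse of `y` on values -/
def fyi (x : ℕ) : ℕ := look 12 p0_21.2 x

/-- the element `h` on values -/
def fh (x : ℕ) : ℕ := look 12 p0_22.1 x

/-- inverse of `h` on values -/
def fhi (x : ℕ) : ℕ := look 12 p0_22.2 x

/-- the diagram symmetry on values -/
def fT (x : ℕ) : ℕ := look 12 tTheta x

theorem theta_ok : pairOK 3510 12 tTheta tTheta = true := by decide +kernel

/-- the diagram symmetry on the indices of the generators -/
def thetaIdx : List (ℕ × ℕ) :=
  [(0, 6), (1, 5), (2, 4), (3, 3), (4, 2), (5, 1), (6, 0), (7, 7), (8, 8)]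

theorem theta_conj : thetaIdx.all (fun ij => allBelow (fun x =>
    Nat.beq (fT (look 12 (cox.getD ij.1 (0, 0)).1 (fT x))) (look 12 (cox.getD ij.2 (0, 0)).1 x))
    3510) = true := by decide +kernel

theorem tau_A : allBelow (fun x => Nat.beq (fhi (fT (fA (fT (fh x))))) (fA (fA x))) 3510 = true := by
  decide +kernel

theorem d_conj_A : allBelow (fun x => Nat.beq (fd (fA x)) (fA (fA (fA (fA (fd x)))))) 3510 = true := by
  decide +kernel

theorem y_comm_d : allBelow (fun x => Nat.beq (fy (fd x)) (fd (fy x))) 3510 = true := by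
  decide +kernel

theorem A_pow13 : allBelow (fun x => Nat.beq (fA^[13] x) x) 3510 = true := by decide +kernel

theorem A_zero : fA 0 = 15 := by decide +kernel

theorem y_rel1 : allBelow (fun x => Nat.beq ((fun x => fA (fd (fyi (fA x))))^[14] x) x) 3510 = true := by
  decide +kernel

theorem y_rel2 : allBelow (fun x => Nat.beq ((fun x => fyi (fA x))^[20] x) x) 3510 = true := by
  decide +kernel

theorem y_zero : fy 0 = 476 := by decide +kernel

theorem bases1 : basesOK fA levels1 = true := by decide +kernel

theorem bases2 : basesOK fd levels2 = true := by decide +kernel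

end Cfsg.Agent.Lib.Helper27.Fi22O
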