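import Cfsg.Prelude.Def_Spor_Fi22
import Cfsg.Agent.Lib.Helper27.Fi22OData0
import Cfsg.Agent.Lib.Helper1.TreeT3

/-! # S2079: the presented group `Fi22` acts on 3510 points -/

set_option autoImplicit false
set_option maxRecDepth 100000

namespace Cfsg.Agent.Lib.Helper27.Fi22O

open Cfsg.Agent.Lib.Helper28.BSGS Cfsg.Agent.Lib.Helper22.SuzOut Cfsg.Agent.Lib.Helper27.TreeSift
open Cfsg.Spor

/-- numbering of the generators -/
def gidx : Fi22.Gen → ℕ
  | .a => 0 | .b => 1 | .c => 2 | .d => 3 | .e => 4 | .f => 5 | .g => 6 | .h => 7 | .i => 8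

/-- the permutation of a generator -/
def gperm (x : Fi22.Gen) : Equiv.Perm (Fin 3510) := letterPerm 3510 12 cox (2 * gidx x)

theorem cox_ok : gensOK 3510 12 cox = true := by decide +kernel

set_option maxHeartbeats 8000000 in
theorem coxrel (x y : Fi22.Gen) :
    relOK 3510 12 cox [2 * gidx x, 2 * gidx y] (coxLabel Fi22.edges x y) = true := by
  cases x <;> cases y <;> decide +kernel

theorem exrel1 : relOK 3510 12 cox [6, 4, 2, 6, 8, 10, 6, 14, 16] 10 = true := by decide +kernel

theorem exrel2 : relOK 3510 12 cox [0, 2, 4, 6, 8, 10, 14] 9 = true := by decide +kernel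

theorem exrel3 : relOK 3510 12 cox [2, 4, 6, 8, 10, 12, 14] 9 = true := by decide +kernel

theorem pathPerm_two (c1 c2 : ℕ) :
    pathPerm 3510 12 cox [c1, c2] = letterPerm 3510 12 cox c1 * letterPerm 3510 12 cox c2 := by
  rw [pathPerm_cons, pathPerm_cons, pathPerm_nil, mul_one]

theorem gperm_eq (x : Fi22.Gen) : gperm x = letterPerm 3510 12 cox (2 * gidx x) := rfl

theorem rel_cox (x y : Fi22.Gen) : (gperm x * gperm y) ^ coxLabel Fi22.edges x y = 1 := by
  have h := pathPerm_pow_eq_one 3510 12 cox cox_ok [2 * gidx x, 2 * gidx y] _ (coxrel x y)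
  rw [pathPerm_two] at h
  rw [gperm_eq, gperm_eq]
  exact h

theorem rel_ex1 : (gperm .d * gperm .c * gperm .b * gperm .d * gperm .e * gperm .f * gperm .d *
    gperm .h * gperm .i) ^ 10 = 1 := by
  have h := pathPerm_pow_eq_one 3510 12 cox cox_ok _ _ exrel1
  simp only [pathPerm_cons, pathPerm_nil, mul_one, ← mul_assoc] at h
  simp only [gperm_eq, gidx, Nat.reduceMul]
  exact h

theorem rel_ex2 : (gperm .a * gperm .b * gperm .c * gperm .d * gperm .e * gperm .f *
    gperm .h) ^ 9 = 1 := by
  have h := pathPerm_pow_eq_one 3510 12 cox cox_ok _ _ exrel2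
  simp only [pathPerm_cons, pathPerm_nil, mul_one, ← mul_assoc] at h
  simp only [gperm_eq, gidx, Nat.reduceMul]
  exact h

theorem rel_ex3 : (gperm .b * gperm .c * gperm .d * gperm .e * gperm .f * gperm .g *
    gperm .h) ^ 9 = 1 := by
  have h := pathPerm_pow_eq_one 3510 12 cox cox_ok _ _ exrel3
  simp only [pathPerm_cons, pathPerm_nil, mul_one, ← mul_assoc] at h
  simp only [gperm_eq, gidx, Nat.reduceMul]
  exact h

theorem rels_ok : ∀ r ∈ coxRelators Fi22.edges ∪ {r | r ∈ Fi22.extra},
    FreeGroup.lift gperm r = 1 := by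
  intro r hr
  rcases hr with ⟨x, _, y, _, rfl⟩ | hr
  · rw [map_pow, map_mul, FreeGroup.lift_apply_of, FreeGroup.lift_apply_of]
    exact rel_cox x y
  · have hr' : r ∈ Fi22.extra := hr
    unfold Fi22.extra at hr'
    rw [List.mem_cons, List.mem_cons, List.mem_singleton] at hr'
    rcases hr' with rfl | rfl | rfl
    · simp only [map_pow, map_mul, FreeGroup.lift_apply_of]
      exact rel_ex1
    · simp only [map_pow, map_mul, FreeGroup.lift_apply_of]
      exact rel_ex2
    · simp only [map_pow, map_mul, FreeGroup.lift_apply_of]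
      exact rel_ex3

/-- the action of the presented group on the 3510 points -/
noncomputable def rho : Fi22 →* Equiv.Perm (Fin 3510) := PresentedGroup.toGroup rels_ok

theorem rho_of (x : Fi22.Gen) :
    rho (PresentedGroup.of x) = gperm x := PresentedGroup.toGroup.of rels_ok

end Cfsg.Agent.Lib.Helper27.Fi22O
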