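import Cfsg.Agent.Lib.Helper20.TreeT1
import Cfsg.Agent.Lib.Helper21.TreeT2
import Cfsg.Agent.Lib.Helper1.TreeT3

/-!
# Base points along a cycle of `g`: elements `z` with `z * g = g' * z` (glue of the pieces T1, T2, T3)
-/

set_option autoImplicit false

namespace Cfsg.Agent.Lib.Helper27.TreeSift

open Cfsg.Agent.Lib.Helper28.BSGS Cfsg.Agent.Lib.Helper22.SuzOut MulAction

/-- an element `z` "conjugating `g` to `g'`" sifts along the images `y, g' y, …` of the base points,
and its inverse acts through the resulting word -/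
theorem conj_sift (n w : ℕ) [NeZero n] (gens : List (ℕ × ℕ)) (fuel : ℕ)
    (hgens : gensOK n w gens = true) (levels : List TLevel) (lv0 : TLevel) (rest : List TLevel)
    (hl : levels = lv0 :: rest)
    (h : chainOKT n w gens fuel [] levels = true)
    (g g' z : Equiv.Perm (Fin n)) (f f' : ℕ → ℕ)
    (hg : ∀ a : Fin n, (g a).val = f a.val)
    (hg' : ∀ a : Fin n, (g' a).val = f' a.val)
    (hb : basesOK f levels = true)
    (hs : Sifts (semTs n w gens fuel levels) z) (hz : z * g = g' * z) :
    ∃ ws, treeSift w gens fuel levels (iterImgs f' levels.length (z (pt n lv0.1)).val) [] = some ws ∧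
      ActsByW n w z⁻¹ ws := by
  have himg := himg_of_conj n g g' z f f' hg hg' hz levels
    (base_lt_of_chainOKT n w gens fuel levels [] h) hb (z (pt n lv0.1)).val
    (by
      intro lv hlv
      rw [hl] at hlv
      have : lv = lv0 := by simpa using hlv.symm
      rw [this])
  exact treeSift_sound n w gens fuel hgens levels [] h z hs _ himg

/-- such an element is determined by the image of the first base point -/
theorem conj_rigid (n w : ℕ) [NeZero n] (gens : List (ℕ × ℕ)) (fuel : ℕ)
    (hgens : gensOK n w gens = true) (levels : List TLevel) (lv0 : TLevel) (rest : List TLevel)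
    (hl : levels = lv0 :: rest)
    (h : chainOKT n w gens fuel [] levels = true)
    (g g' z z' : Equiv.Perm (Fin n)) (f f' : ℕ → ℕ)
    (hg : ∀ a : Fin n, (g a).val = f a.val)
    (hg' : ∀ a : Fin n, (g' a).val = f' a.val)
    (hb : basesOK f levels = true)
    (hs : Sifts (semTs n w gens fuel levels) z)
    (hs' : Sifts (semTs n w gens fuel levels) z')
    (hz : z * g = g' * z) (hz' : z' * g = g' * z')
    (h0 : z (pt n lv0.1) = z' (pt n lv0.1)) : z = z' := by
  have hhead : ∀ (u : Equiv.Perm (Fin n)) (y : ℕ), (u (pt n lv0.1)).val = y →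
      ∀ lv ∈ levels.head?, (u (pt n lv.1)).val = y := by
    intro u y hy lv hlv
    rw [hl] at hlv
    have : lv = lv0 := by simpa using hlv.symm
    rw [this]; exact hy
  have hlt := base_lt_of_chainOKT n w gens fuel levels [] h
  have himg := himg_of_conj n g g' z f f' hg hg' hz levels hlt hb (z (pt n lv0.1)).val
    (hhead z _ rfl)
  have himg' := himg_of_conj n g g' z' f f' hg hg' hz' levels hlt hb (z (pt n lv0.1)).val
    (hhead z' _ (by rw [h0]))
  exact eq_of_imgs n w gens fuel hgens levels [] h z z' hs hs' _ himg himg'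

/-- two permutations acting through pointwise equal functions are equal -/
theorem eq_of_vals {n : ℕ} (g g' : Equiv.Perm (Fin n)) (f f' : ℕ → ℕ)
    (hg : ∀ a : Fin n, (g a).val = f a.val) (hg' : ∀ a : Fin n, (g' a).val = f' a.val)
    (h : allBelow (fun x => Nat.beq (f x) (f' x)) n = true) : g = g' := by
  apply Equiv.ext
  intro a
  apply Fin.ext
  rw [hg, hg']
  exact Nat.eq_of_beq_eq_true (allBelow_spec h a.val a.isLt)

/-- the values of a product -/
theorem mul_vals {n : ℕ} {g g' : Equiv.Perm (Fin n)} {f f' : ℕ → ℕ}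
    (hg : ∀ a : Fin n, (g a).val = f a.val) (hg' : ∀ a : Fin n, (g' a).val = f' a.val) :
    ∀ a : Fin n, ((g * g') a).val = f (f' a.val) := by
  intro a
  rw [Equiv.Perm.mul_apply, hg, hg']

/-- a power acting trivially on values is trivial -/
theorem pow_eq_one_of_vals {n : ℕ} (g : Equiv.Perm (Fin n)) (f : ℕ → ℕ)
    (hg : ∀ a : Fin n, (g a).val = f a.val) (m : ℕ)
    (h : allBelow (fun x => Nat.beq (f^[m] x) x) n = true) : g ^ m = 1 := by
  apply Equiv.ext
  intro a
  apply Fin.ext
  rw [pow_val_iterate n g f hg m a]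
  exact Nat.eq_of_beq_eq_true (allBelow_spec h a.val a.isLt)

end Cfsg.Agent.Lib.Helper27.TreeSift
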