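import Cfsg.Agent.Lib.Helper27.Fi22OCert0
import Cfsg.Agent.Lib.Helper27.Fi22OCert1
import Cfsg.Agent.Lib.Helper27.Fi22OChain
import Cfsg.Agent.Lib.Helper27.Fi22OFacts
import Cfsg.Agent.Lib.Helper27.Fi22ORels
import Cfsg.Agent.Lib.Helper27.TreeConj
import Cfsg.Agent.Lib.Helper21.SuzOF6
import Cfsg.Agent.Lib.Helper4.TC.Fi22SMain

/-! # S2079: the group side — `K = genGroup cox ≃ Fi22`, the elements `A`, `d`, `y`, `h`, the chains -/

set_option autoImplicit false
set_option maxRecDepth 100000

namespace Cfsg.Agent.Lib.Helper27.Fi22O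

open Cfsg.Agent.Lib.Helper28.BSGS Cfsg.Agent.Lib.Helper22.SuzOut Cfsg.Agent.Lib.Helper27.TreeSift
open Cfsg.Spor MulAction

instance neZero3510 : NeZero (3510 : ℕ) := ⟨by norm_num⟩

/-- the group of the nine generator tables -/
abbrev K : Subgroup (Equiv.Perm (Fin 3510)) := genGroup 3510 12 cox

theorem known0_ok : gensOK 3510 12 known0 = true := step0_22.1

theorem known0_grp : genGroup 3510 12 known0 = K := step0_22.2

theorem known1_ok : gensOK 3510 12 known1 = true := step1_22.1

theorem known1_grp : genGroup 3510 12 known1 = genGroup 3510 12 [p0_19, p0_20, p0_21] := step1_22.2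

/-- the element of order 13 -/
def pA : Equiv.Perm (Fin 3510) := permOf 3510 12 p0_19.1 p0_19.2
/-- the element of order 6 -/
def pd : Equiv.Perm (Fin 3510) := permOf 3510 12 p0_20.1 p0_20.2
/-- the element of order 3 -/
def py : Equiv.Perm (Fin 3510) := permOf 3510 12 p0_21.1 p0_21.2
/-- the conjugating element -/
def ph : Equiv.Perm (Fin 3510) := permOf 3510 12 p0_22.1 p0_22.2
/-- the diagram symmetry -/
def pT : Equiv.Perm (Fin 3510) := permOf 3510 12 tTheta tTheta

theorem mem0_19 : p0_19 ∈ known0 := by simp [known0]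
theorem mem0_20 : p0_20 ∈ known0 := by simp [known0]
theorem mem0_21 : p0_21 ∈ known0 := by simp [known0]
theorem mem0_22 : p0_22 ∈ known0 := by simp [known0]

theorem pairA : pairOK 3510 12 p0_19.1 p0_19.2 = true := gensOK_spec 3510 12 known0_ok _ mem0_19
theorem paird : pairOK 3510 12 p0_20.1 p0_20.2 = true := gensOK_spec 3510 12 known0_ok _ mem0_20
theorem pairy : pairOK 3510 12 p0_21.1 p0_21.2 = true := gensOK_spec 3510 12 known0_ok _ mem0_21
theorem pairh : pairOK 3510 12 p0_22.1 p0_22.2 = true := gensOK_spec 3510 12 known0_ok _ mem0_22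

theorem pA_mem : pA ∈ K := by
  rw [← known0_grp]; exact Subgroup.subset_closure (mem_semGens 3510 12 mem0_19)
theorem pd_mem : pd ∈ K := by
  rw [← known0_grp]; exact Subgroup.subset_closure (mem_semGens 3510 12 mem0_20)
theorem py_mem : py ∈ K := by
  rw [← known0_grp]; exact Subgroup.subset_closure (mem_semGens 3510 12 mem0_21)
theorem ph_mem : ph ∈ K := by
  rw [← known0_grp]; exact Subgroup.subset_closure (mem_semGens 3510 12 mem0_22)

theorem vA (a : Fin 3510) : (pA a).val = fA a.val := permOf_apply pairA a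
theorem vAi (a : Fin 3510) : (pA⁻¹ a).val = fAi a.val := permOf_inv_apply pairA a
theorem vd (a : Fin 3510) : (pd a).val = fd a.val := permOf_apply paird a
theorem vdi (a : Fin 3510) : (pd⁻¹ a).val = fdi a.val := permOf_inv_apply paird a
theorem vy (a : Fin 3510) : (py a).val = fy a.val := permOf_apply pairy a
theorem vyi (a : Fin 3510) : (py⁻¹ a).val = fyi a.val := permOf_inv_apply pairy a
theorem vh (a : Fin 3510) : (ph a).val = fh a.val := permOf_apply pairh a
theorem vhi (a : Fin 3510) : (ph⁻¹ a).val = fhi a.val := permOf_inv_apply pairh a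
theorem vT (a : Fin 3510) : (pT a).val = fT a.val := permOf_apply theta_ok a
theorem vTi (a : Fin 3510) : (pT⁻¹ a).val = fT a.val := permOf_inv_apply theta_ok a

/-- the group generated by `A`, `d`, `y` lies in `K` -/
theorem ady_le : genGroup 3510 12 [p0_19, p0_20, p0_21] ≤ K := by
  unfold genGroup
  rw [Subgroup.closure_le]
  intro s hs
  have hs' : s ∈ semGens 3510 12 [p0_19, p0_20, p0_21] := hs
  simp only [semGens, List.map_cons, List.map_nil, List.mem_cons, List.not_mem_nil, or_false] at hs'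
  rcases hs' with rfl | rfl | rfl
  · exact pA_mem
  · exact pd_mem
  · exact py_mem

theorem known1_le : genGroup 3510 12 known1 ≤ K := by
  rw [known1_grp]; exact ady_le

/-! ## the isomorphism with the presented group -/

/-- the table pair of a generator -/
def gtab (x : Fi22.Gen) : ℕ × ℕ := cox.getD (gidx x) (0, 0)

theorem gperm_tab (x : Fi22.Gen) : gperm x = permOf 3510 12 (gtab x).1 (gtab x).2 := by
  have h1 : 2 * gidx x % 2 = 0 := Nat.mul_mod_right 2 _
  have h2 : 2 * gidx x / 2 = gidx x := Nat.mul_div_cancel_left _ (by norm_num)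
  unfold gperm letterPerm gtab
  rw [if_pos h1, h2]

theorem rho_tab (x : Fi22.Gen) :
    rho (PresentedGroup.of x) = permOf 3510 12 (gtab x).1 (gtab x).2 := by
  rw [rho_of, gperm_tab]

theorem cox_iff (s : ℕ × ℕ) : s ∈ cox ↔ ∃ x, gtab x = s := by
  constructor
  · intro hs
    simp only [cox, List.mem_cons, List.not_mem_nil, or_false] at hs
    rcases hs with rfl | rfl | rfl | rfl | rfl | rfl | rfl | rfl | rfl
    · exact ⟨.a, rfl⟩
    · exact ⟨.b, rfl⟩
    · exact ⟨.c, rfl⟩
    · exact ⟨.d, rfl⟩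
    · exact ⟨.e, rfl⟩
    · exact ⟨.f, rfl⟩
    · exact ⟨.g, rfl⟩
    · exact ⟨.h, rfl⟩
    · exact ⟨.i, rfl⟩
  · rintro ⟨x, rfl⟩
    cases x <;> simp [gtab, gidx, cox]

theorem gperm_a_ne : permOf 3510 12 (gtab .a).1 (gtab .a).2 ≠ 1 := by
  intro h
  have hp : pairOK 3510 12 (gtab .a).1 (gtab .a).2 = true :=
    gensOK_spec 3510 12 cox_ok _ ((cox_iff _).mpr ⟨.a, rfl⟩)
  have h1 := permOf_apply hp (pt 3510 1)
  rw [h, Equiv.Perm.one_apply, pt_val 3510 (by norm_num : 1 < 3510)] at h1
  have h2 : look 12 (gtab .a).1 1 ≠ 1 := by decide +kernel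
  exact h2 h1.symm

/-- the presented group is isomorphic to `K` -/
theorem fi22_equiv : Nonempty (Fi22 ≃* ↥K) :=
  presented_equiv_genGroup _ Cfsg.Agent.Helper4.TC.Fi22S.main.1 3510 12 gtab cox cox_iff rho rho_tab
    .a gperm_a_ne

theorem card_K : Nat.card ↥K = 64561751654400 := by
  obtain ⟨e⟩ := fi22_equiv
  rw [← Nat.card_congr e.toEquiv]
  exact Cfsg.Agent.Helper4.TC.Fi22S.main.2

/-! ## the two chains -/

theorem main1 : genGroup 3510 12 known1 = K ∧ Nat.card ↥K = sizeT 3510 12 levels1 ∧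
    ∀ z ∈ K, Sifts (semTs 3510 12 known1 8 levels1) z :=
  tree_main 3510 12 known1 8 known1_ok levels1 chain1_ok K known1_le
    (by rw [card_K, size1])

theorem main2 : genGroup 3510 12 known1 = K ∧ Nat.card ↥K = sizeT 3510 12 levels2 ∧
    ∀ z ∈ K, Sifts (semTs 3510 12 known1 8 levels2) z :=
  tree_main 3510 12 known1 8 known1_ok levels2 chain2_ok K known1_le
    (by rw [card_K, size2])

/-- `A`, `d`, `y` generate `K` -/
theorem ady_grp : genGroup 3510 12 [p0_19, p0_20, p0_21] = K := by
  rw [← known1_grp]; exact main1.1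

end Cfsg.Agent.Lib.Helper27.Fi22O
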