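import Cfsg.Agent.Lib.Helper27.Fi22OMainA
import Cfsg.Agent.Lib.Helper9.SuzOP5
import Cfsg.Agent.Lib.Helper17.HeOutP1
import Cfsg.Agent.Lib.Helper21.OutPermModel

/-! # S2079: `|Out(Fi22)| = 2` — the rigidity argument on `K` -/

set_option autoImplicit false
set_option maxRecDepth 100000

namespace Cfsg.Agent.Lib.Helper27.Fi22O

open Cfsg.Agent.Lib.Helper28.BSGS Cfsg.Agent.Lib.Helper22.SuzOut Cfsg.Agent.Lib.Helper27.TreeSift
open Cfsg.Spor MulAction

instance fact13 : Fact (Nat.Prime 13) := ⟨by norm_num⟩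

/-! ## identities between the permutations -/

theorem pA_pow : pA ^ 13 = 1 := pow_eq_one_of_vals pA fA vA 13 A_pow13

theorem pA_ne : pA ≠ 1 := by
  intro h
  have h1 := vA (pt 3510 0)
  rw [h, Equiv.Perm.one_apply, pt_val 3510 (by norm_num : 0 < 3510), A_zero] at h1
  exact absurd h1 (by norm_num)

theorem order_pA : orderOf pA = 13 := orderOf_eq_prime pA_pow pA_ne

theorem v_dA (a : Fin 3510) : ((pd * pA) a).val = fd (fA a.val) := by
  rw [Equiv.Perm.mul_apply, vd, vA]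

theorem v_A4d (a : Fin 3510) :
    ((pA * pA * pA * pA * pd) a).val = fA (fA (fA (fA (fd a.val)))) := by
  simp only [Equiv.Perm.mul_apply, vA, vd]

theorem d_A : pd * pA = pA * pA * pA * pA * pd :=
  eq_of_vals _ _ (fun x => fd (fA x)) (fun x => fA (fA (fA (fA (fd x))))) v_dA v_A4d d_conj_A

theorem d_conj : pd * pA * pd⁻¹ = pA ^ 4 := by
  rw [d_A, mul_inv_cancel_right]
  simp only [pow_succ, pow_zero, one_mul]

theorem v_yd (a : Fin 3510) : ((py * pd) a).val = fy (fd a.val) := by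
  rw [Equiv.Perm.mul_apply, vy, vd]

theorem v_dy (a : Fin 3510) : ((pd * py) a).val = fd (fy a.val) := by
  rw [Equiv.Perm.mul_apply, vd, vy]

theorem y_d : py * pd = pd * py :=
  eq_of_vals _ _ (fun x => fy (fd x)) (fun x => fd (fy x)) v_yd v_dy y_comm_d

theorem v_W1 (a : Fin 3510) :
    ((pA * pd * py⁻¹ * pA) a).val = fA (fd (fyi (fA a.val))) := by
  simp only [Equiv.Perm.mul_apply, vA, vd, vyi]

theorem W1_pow : (pA * pd * py⁻¹ * pA) ^ 14 = 1 :=
  pow_eq_one_of_vals _ (fun x => fA (fd (fyi (fA x)))) v_W1 14 y_rel1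

theorem v_W2 (a : Fin 3510) : ((py⁻¹ * pA) a).val = fyi (fA a.val) := by
  simp only [Equiv.Perm.mul_apply, vA, vyi]

theorem W2_pow : (py⁻¹ * pA) ^ 20 = 1 :=
  pow_eq_one_of_vals _ (fun x => fyi (fA x)) v_W2 20 y_rel2

/-- the element inducing the outer automorphism -/
def pq : Equiv.Perm (Fin 3510) := ph⁻¹ * pT

theorem v_qAq (a : Fin 3510) :
    ((ph⁻¹ * pT * pA * (pT⁻¹ * ph)) a).val = fhi (fT (fA (fT (fh a.val)))) := by
  simp only [Equiv.Perm.mul_apply, vhi, vT, vA, vTi, vh]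

theorem v_AA (a : Fin 3510) : ((pA * pA) a).val = fA (fA a.val) := by
  rw [Equiv.Perm.mul_apply, vA, vA]

theorem q_conj : pq * pA * pq⁻¹ = pA * pA := by
  have h : ph⁻¹ * pT * pA * (pT⁻¹ * ph) = pA * pA :=
    eq_of_vals _ _ (fun x => fhi (fT (fA (fT (fh x))))) (fun x => fA (fA x)) v_qAq v_AA tau_A
  unfold pq
  rw [mul_inv_rev, inv_inv]
  exact h

/-! ## the diagram symmetry normalises `K` -/

theorem cox_len : cox.length = 9 := rfl

theorem coxmem (i : ℕ) (hi : i < 9) : cox.getD i (0, 0) ∈ cox := by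
  rw [List.getD_eq_getElem _ _ (by rw [cox_len]; exact hi)]
  exact List.getElem_mem _

theorem thetaIdx_lt : ∀ ij ∈ thetaIdx, ij.1 < 9 ∧ ij.2 < 9 := by decide

theorem thetaIdx_ex : ∀ i < 9, ∃ j < 9, (i, j) ∈ thetaIdx := by decide

theorem cox_getD : ∀ g ∈ cox, ∃ i < 9, cox.getD i (0, 0) = g := by
  intro g hg
  simp only [cox, List.mem_cons, List.not_mem_nil, or_false] at hg
  rcases hg with rfl | rfl | rfl | rfl | rfl | rfl | rfl | rfl | rfl
  exacts [⟨0, by norm_num, rfl⟩, ⟨1, by norm_num, rfl⟩, ⟨2, by norm_num, rfl⟩,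
    ⟨3, by norm_num, rfl⟩, ⟨4, by norm_num, rfl⟩, ⟨5, by norm_num, rfl⟩, ⟨6, by norm_num, rfl⟩,
    ⟨7, by norm_num, rfl⟩, ⟨8, by norm_num, rfl⟩]

theorem theta_conj_perm (ij : ℕ × ℕ) (hij : ij ∈ thetaIdx) :
    pT * permOf 3510 12 (cox.getD ij.1 (0, 0)).1 (cox.getD ij.1 (0, 0)).2 * pT⁻¹ =
      permOf 3510 12 (cox.getD ij.2 (0, 0)).1 (cox.getD ij.2 (0, 0)).2 := by
  obtain ⟨h1, h2⟩ := thetaIdx_lt ij hij
  have p1 := gensOK_spec 3510 12 cox_ok _ (coxmem ij.1 h1)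
  have p2 := gensOK_spec 3510 12 cox_ok _ (coxmem ij.2 h2)
  have hfact := List.all_eq_true.mp theta_conj ij hij
  refine eq_of_vals _ _ (fun x => fT (look 12 (cox.getD ij.1 (0, 0)).1 (fT x)))
    (fun x => look 12 (cox.getD ij.2 (0, 0)).1 x) ?_ ?_ hfact
  · intro a
    simp only [Equiv.Perm.mul_apply, vT, vTi, permOf_apply p1]
  · intro a
    exact permOf_apply p2 a

theorem theta_gens : ∀ s ∈ {s | s ∈ semGens 3510 12 cox}, pT * s * pT⁻¹ ∈ K := by
  intro s hs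
  obtain ⟨g, hg, rfl⟩ := List.mem_map.mp hs
  obtain ⟨i, hi, rfl⟩ := cox_getD g hg
  obtain ⟨j, _, hj⟩ := thetaIdx_ex i hi
  rw [theta_conj_perm (i, j) hj]
  exact Subgroup.subset_closure (mem_semGens 3510 12 (coxmem j (thetaIdx_lt _ hj).2))

theorem q_gens : ∀ s ∈ {s | s ∈ semGens 3510 12 cox}, pq * s * pq⁻¹ ∈ K := by
  intro s hs
  have h := theta_gens s hs
  have e : pq * s * pq⁻¹ = ph⁻¹ * (pT * s * pT⁻¹) * ph := by
    unfold pq; group
  rw [e]
  exact K.mul_mem (K.mul_mem (K.inv_mem ph_mem) h) ph_mem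

theorem q_norm : (∀ k ∈ K, pq * k * pq⁻¹ ∈ K) ∧ (∀ k ∈ K, pq⁻¹ * k * pq ∈ K) :=
  normalizes_of_gens K {s | s ∈ semGens 3510 12 cox} rfl pq q_gens

/-! ## the elements of `K` -/

/-- `A` in `K` -/
def kA : ↥K := ⟨pA, pA_mem⟩
/-- `d` in `K` -/
def kd : ↥K := ⟨pd, pd_mem⟩
/-- `y` in `K` -/
def ky : ↥K := ⟨py, py_mem⟩

/-- the outer automorphism -/
def tau : MulAut ↥K := conjAut K pq q_norm.1 q_norm.2

theorem tau_kA : tau kA = kA ^ 2 := by
  apply Subtype.ext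
  rw [Subgroup.coe_pow, pow_two]
  show pq * pA * pq⁻¹ = pA * pA
  exact q_conj

theorem order_kA : orderOf kA = 13 := by
  rw [← order_pA]
  exact Subgroup.orderOf_mk pA pA_mem

theorem fac13 : (Nat.card ↥K).factorization 13 = 1 := by
  rw [card_K]
  have e : (64561751654400 : ℕ) = 13 ^ 1 * 4966288588800 := by norm_num
  rw [e, Nat.factorization_mul (by norm_num) (by norm_num), Finsupp.add_apply,
    Nat.Prime.factorization_pow (by norm_num : Nat.Prime 13), Finsupp.single_eq_same,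
    Nat.factorization_eq_zero_of_not_dvd (by norm_num)]

theorem kd_conj : kd * kA * kd⁻¹ = kA ^ 4 := by
  apply Subtype.ext
  rw [Subgroup.coe_pow]
  exact d_conj

theorem hr13 : ∀ k : ℕ, 1 ≤ k → k < 13 → ∃ i : ℕ, k * 4 ^ i % 13 = 1 ∨ k * 4 ^ i % 13 = 2 := by
  intro k h1 h2
  interval_cases k
  · exact ⟨0, by decide⟩
  · exact ⟨0, by decide⟩
  · exact ⟨4, by decide⟩
  · exact ⟨5, by decide⟩
  · exact ⟨2, by decide⟩
  · exact ⟨4, by decide⟩
  · exact ⟨1, by decide⟩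
  · exact ⟨5, by decide⟩
  · exact ⟨2, by decide⟩
  · exact ⟨1, by decide⟩
  · exact ⟨3, by decide⟩
  · exact ⟨3, by decide⟩

end Cfsg.Agent.Lib.Helper27.Fi22O
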