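import Cfsg.Agent.Lib.Helper27.Fi22OMainB

/-! # S2079: `|Out(Fi22)| = 2` — centralisers by base-image exclusion, assembly -/

set_option autoImplicit false
set_option maxRecDepth 100000

namespace Cfsg.Agent.Lib.Helper27.Fi22O

open Cfsg.Agent.Lib.Helper28.BSGS Cfsg.Agent.Lib.Helper22.SuzOut Cfsg.Agent.Lib.Helper27.TreeSift
open Cfsg.Spor MulAction

theorem lt3510 : (0 : ℕ) < 3510 := by norm_num

/-! ## the centraliser of `A` -/

theorem cent_A (c : Equiv.Perm (Fin 3510)) (hc : c ∈ K) (hcomm : c * pA = pA * c) :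
    ∃ k : ℕ, c = pA ^ k := by
  obtain ⟨ws, hws, -⟩ := conj_sift 3510 12 known1 8 known1_ok levels1 _ _ rfl chain1_ok pA pA c
    fA fA vA vA bases1 (main1.2.2 c hc) hcomm
  have hws' : treeSift 12 known1 8 levels1 (iterImgs fA 6 (c (pt 3510 0)).val) [] = some ws := hws
  have hex := allBelow_spec excl1 (c (pt 3510 0)).val (Fin.isLt _)
  simp only [hws', Option.isNone_some, Bool.or_false] at hex
  rw [cycA_spec, List.any_map, List.any_eq_true] at hex
  obtain ⟨k, -, hk⟩ := hex
  have hk' : (c (pt 3510 0)).val = fA^[k] 0 := Nat.eq_of_beq_eq_true hk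
  refine ⟨k, ?_⟩
  refine conj_rigid 3510 12 known1 8 known1_ok levels1 _ _ rfl chain1_ok pA pA c (pA ^ k)
    fA fA vA vA bases1 (main1.2.2 c hc) (main1.2.2 _ (K.pow_mem pA_mem k)) hcomm
    (by rw [← pow_succ, ← pow_succ']) ?_
  apply Fin.ext
  show (c (pt 3510 0)).val = ((pA ^ k) (pt 3510 0)).val
  rw [hk', pow_val_iterate 3510 pA fA vA k, pt_val 3510 lt3510]

theorem hCa : ∀ c : ↥K, c * kA = kA * c → c ∈ Subgroup.zpowers kA := by
  intro c hc
  have hc' : c.1 * pA = pA * c.1 := congrArg Subtype.val hc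
  obtain ⟨k, hk⟩ := cent_A c.1 c.2 hc'
  have : c = kA ^ k := by
    apply Subtype.ext
    rw [Subgroup.coe_pow]
    exact hk
  rw [this]
  exact Subgroup.npow_mem_zpowers kA k

/-! ## no element of `K` conjugates `A` to `A ^ 2` -/

theorem v_A2 (a : Fin 3510) : ((pA * pA) a).val = fA2 a.val := by
  rw [Equiv.Perm.mul_apply, vA, vA]; rfl

theorem no_conj (g : Equiv.Perm (Fin 3510)) (hg : g ∈ K) (h : g * pA = pA * pA * g) : False := by
  obtain ⟨ws, hws, -⟩ := conj_sift 3510 12 known1 8 known1_ok levels1 _ _ rfl chain1_ok pA (pA * pA) g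
    fA fA2 vA v_A2 bases1 (main1.2.2 g hg) h
  have hws' : treeSift 12 known1 8 levels1 (iterImgs fA2 6 (g (pt 3510 0)).val) [] = some ws := hws
  have hex := allBelow_spec excl2 (g (pt 3510 0)).val (Fin.isLt _)
  simp only [hws', Option.isNone_some] at hex
  exact Bool.false_ne_true hex

theorem hno : ∀ g : ↥K, g * kA * g⁻¹ ≠ kA ^ 2 := by
  intro g h
  have h1 : g * kA = kA ^ 2 * g := by rw [← h]; group
  have h2 : g.1 * pA = pA * pA * g.1 := by
    have := congrArg Subtype.val h1
    rw [Subgroup.coe_mul, Subgroup.coe_mul, Subgroup.coe_pow, pow_two] at this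
    exact this
  exact no_conj g.1 g.2 h2

/-! ## the centraliser of `d` and the word orders of `y` -/

theorem cent_d (z : Equiv.Perm (Fin 3510)) (hz : z ∈ K) (hcomm : z * pd = pd * z)
    (h1 : (pA * pd * z⁻¹ * pA) ^ 14 = 1) (h2 : (z⁻¹ * pA) ^ 20 = 1) : z = py := by
  obtain ⟨ws, hws, hact⟩ := conj_sift 3510 12 known1 8 known1_ok levels2 _ _ rfl chain2_ok pd pd z
    fd fd vd vd bases2 (main2.2.2 z hz) hcomm
  have hws' : treeSift 12 known1 8 levels2 (iterImgs fd 6 (z (pt 3510 0)).val) [] = some ws := hws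
  have hex := allBelow_spec excl3 (z (pt 3510 0)).val (Fin.isLt _)
  unfold cand3 at hex
  simp only [hws'] at hex
  -- the two tests fail
  have ht1 : t1 ws = false := by
    have hv : ∀ a : Fin 3510, ((pA * pd * z⁻¹ * pA) a).val =
        (fun x => fA (fd (evalW 12 ws (fA x)))) a.val := by
      intro a
      simp only [Equiv.Perm.mul_apply, vA, vd, hact _]
    have h := pow_val_iterate 3510 (pA * pd * z⁻¹ * pA)
      (fun x => fA (fd (evalW 12 ws (fA x)))) hv 14 (pt 3510 0)
    rw [h1, Equiv.Perm.one_apply, pt_val 3510 lt3510] at h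
    unfold t1
    rw [← h]
    simp
  have ht2 : t2 ws = false := by
    have hv : ∀ a : Fin 3510, ((z⁻¹ * pA) a).val = (fun x => evalW 12 ws (fA x)) a.val := by
      intro a
      simp only [Equiv.Perm.mul_apply, vA, hact _]
    have h := pow_val_iterate 3510 (z⁻¹ * pA) (fun x => evalW 12 ws (fA x)) hv 20 (pt 3510 0)
    rw [h2, Equiv.Perm.one_apply, pt_val 3510 lt3510] at h
    unfold t2
    rw [← h]
    simp
  rw [ht1, ht2, Bool.or_false, Bool.or_false] at hex
  have hz0 : (z (pt 3510 0)).val = 476 := Nat.eq_of_beq_eq_true hex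
  refine conj_rigid 3510 12 known1 8 known1_ok levels2 _ _ rfl chain2_ok pd pd z py
    fd fd vd vd bases2 (main2.2.2 z hz) (main2.2.2 _ py_mem) hcomm y_d ?_
  apply Fin.ext
  show (z (pt 3510 0)).val = (py (pt 3510 0)).val
  rw [hz0, vy, pt_val 3510 lt3510, y_zero]

theorem hy : ∀ ψ : MulAut ↥K, ψ kA = kA → ψ kd = kd → ψ ky = ky := by
  intro ψ ha hd
  have e1 : ky * kd = kd * ky := Subtype.ext y_d
  have e2 : (kA * kd * ky⁻¹ * kA) ^ 14 = 1 := by
    apply Subtype.ext
    rw [Subgroup.coe_pow]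
    exact W1_pow
  have e3 : (ky⁻¹ * kA) ^ 20 = 1 := by
    apply Subtype.ext
    rw [Subgroup.coe_pow]
    exact W2_pow
  have f1 : ψ ky * kd = kd * ψ ky := by
    have := congrArg ψ e1
    rwa [map_mul, map_mul, hd] at this
  have f2 : (kA * kd * (ψ ky)⁻¹ * kA) ^ 14 = 1 := by
    have := congrArg ψ e2
    rwa [map_pow, map_mul, map_mul, map_mul, map_inv, ha, hd, map_one] at this
  have f3 : ((ψ ky)⁻¹ * kA) ^ 20 = 1 := by
    have := congrArg ψ e3
    rwa [map_pow, map_mul, map_inv, ha, map_one] at this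
  apply Subtype.ext
  refine cent_d (ψ ky).1 (ψ ky).2 (congrArg Subtype.val f1) ?_ ?_
  · have := congrArg Subtype.val f2
    rwa [Subgroup.coe_pow] at this
  · have := congrArg Subtype.val f3
    rwa [Subgroup.coe_pow] at this

/-! ## generation -/

theorem hgen : Subgroup.closure ({kA, kd, ky} : Set ↥K) = ⊤ := by
  have h1 : Subgroup.closure ({pA, pd, py} : Set (Equiv.Perm (Fin 3510))) = K := by
    rw [← ady_grp]
    unfold genGroup
    congr 1
    ext s
    simp only [semGens, List.map_cons, List.map_nil, List.mem_cons, List.not_mem_nil, or_false,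
      Set.mem_insert_iff, Set.mem_singleton_iff, Set.mem_ofPred_eq]
    rfl
  apply Subgroup.map_injective K.subtype_injective
  rw [MonoidHom.map_closure, ← MonoidHom.range_eq_map, Subgroup.range_subtype]
  have : (K.subtype '' ({kA, kd, ky} : Set ↥K)) = {pA, pd, py} := by
    simp only [Set.image_insert_eq, Set.image_singleton]
    rfl
  rw [this]
  exact h1

/-! ## the result -/

theorem out_K : Nat.card (Cfsg.Out ↥K) = 2 :=
  Cfsg.Agent.Lib.Helper29.HeOut.out_card_two_of_rigid (p := 13) (a := kA) (d := kd) (y := ky)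
    (r := 4) (t := 2) order_kA fac13 kd_conj (by decide) hr13 hCa hgen hy hno tau tau_kA

theorem out_Fi22 : Nat.card (Cfsg.Out Fi22) = 2 := by
  obtain ⟨e⟩ := fi22_equiv
  rw [Cfsg.Agent.Lib.Helper15.OutOne.out_card_congr' e]
  exact out_K

end Cfsg.Agent.Lib.Helper27.Fi22O
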