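import Mathlib
import Cfsg.Prelude.Def_FischerSpaces

/-!
# Basic facts on partial linear spaces with three points per line (helper27)

`Third L x y z`: three different points on a common line; the map `lineMap L x`; transfer of
collinearity along an isomorphism of a subspace with a model plane.
-/

set_option autoImplicit false

namespace Cfsg.Agent.Lib.Helper27.FS

open Cfsg Cfsg.LineSystem

variable {X : Type*} {L : Set (Set X)}

/-- Three different points on a common line. -/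
def Third (L : Set (Set X)) (x y z : X) : Prop :=
  x ≠ y ∧ x ≠ z ∧ y ≠ z ∧ ∃ k ∈ L, x ∈ k ∧ y ∈ k ∧ z ∈ k

theorem Third.swap12 {x y z : X} (h : Third L x y z) : Third L y x z := by
  obtain ⟨h1, h2, h3, k, hk, a, b, c⟩ := h
  exact ⟨h1.symm, h3, h2, k, hk, b, a, c⟩

theorem Third.swap23 {x y z : X} (h : Third L x y z) : Third L x z y := by
  obtain ⟨h1, h2, h3, k, hk, a, b, c⟩ := h
  exact ⟨h2, h1, h3.symm, k, hk, a, c, b⟩

/-- `y'` is the image of `y` under the map `t(x)`, relationally. -/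
def Tau (L : Set (Set X)) (x y y' : X) : Prop :=
  Third L x y y' ∨ (y' = y ∧ ¬ ∃ z, Third L x y z)

theorem line_eq (h3 : ∀ l ∈ L, l.ncard = 3) {k : Set X} (hk : k ∈ L) {x y z : X}
    (hx : x ∈ k) (hy : y ∈ k) (hz : z ∈ k) (hxy : x ≠ y) (hxz : x ≠ z) (hyz : y ≠ z) :
    k = {x, y, z} := by
  have hfin : k.Finite := Set.finite_of_ncard_ne_zero (by rw [h3 k hk]; norm_num)
  have hsub : ({x, y, z} : Set X) ⊆ k := by
    intro w hw
    rcases hw with hw | hw | hw
    · rw [hw]; exact hx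
    · rw [hw]; exact hy
    · rw [Set.mem_singleton_iff] at hw
      rw [hw]; exact hz
  have hc : ({x, y, z} : Set X).ncard = 3 :=
    Set.ncard_eq_three.mpr ⟨x, y, z, hxy, hxz, hyz, rfl⟩
  exact (Set.eq_of_subset_of_ncard_le hsub (by rw [hc, h3 k hk]) hfin).symm

theorem third_unique (hPL : IsPartialLinear L) (h3 : ∀ l ∈ L, l.ncard = 3) {x y z z' : X}
    (h : Third L x y z) (h' : Third L x y z') : z = z' := by
  obtain ⟨hxy, hxz, hyz, k, hk, hx, hy, hz⟩ := h
  obtain ⟨-, hxz', hyz', k', hk', hx', hy', hz'⟩ := h'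
  have e : k = k' := hPL k hk k' hk' x y hxy hx hy hx' hy'
  subst e
  have hkeq := line_eq h3 hk hx hy hz hxy hxz hyz
  have hz'' : z' ∈ ({x, y, z} : Set X) := by rw [← hkeq]; exact hz'
  rcases hz'' with h1 | h1 | h1
  · exact absurd h1.symm hxz'
  · exact absurd h1.symm hyz'
  · rw [Set.mem_singleton_iff] at h1
    exact h1.symm

theorem exists_third_of_mem (h3 : ∀ l ∈ L, l.ncard = 3) {k : Set X} (hk : k ∈ L) {x y : X}
    (hx : x ∈ k) (hy : y ∈ k) (hxy : x ≠ y) : ∃ z, Third L x y z ∧ z ∈ k := by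
  obtain ⟨a, b, c, hab, hac, hbc, hkeq⟩ := Set.ncard_eq_three.mp (h3 k hk)
  have hex : ∃ z ∈ k, z ≠ x ∧ z ≠ y := by
    by_cases ha : a ≠ x ∧ a ≠ y
    · exact ⟨a, by rw [hkeq]; exact Or.inl rfl, ha⟩
    by_cases hb : b ≠ x ∧ b ≠ y
    · exact ⟨b, by rw [hkeq]; exact Or.inr (Or.inl rfl), hb⟩
    by_cases hc : c ≠ x ∧ c ≠ y
    · exact ⟨c, by rw [hkeq]; exact Or.inr (Or.inr rfl), hc⟩
    exfalso
    have ha' : a = x ∨ a = y := by
      by_contra h
      push Not at h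
      exact ha h
    have hb' : b = x ∨ b = y := by
      by_contra h
      push Not at h
      exact hb h
    have hc' : c = x ∨ c = y := by
      by_contra h
      push Not at h
      exact hc h
    rcases ha' with h1 | h1 <;> rcases hb' with h2 | h2 <;> rcases hc' with h3 | h3
    · exact hab (h1.trans h2.symm)
    · exact hab (h1.trans h2.symm)
    · exact hac (h1.trans h3.symm)
    · exact hbc (h2.trans h3.symm)
    · exact hbc (h2.trans h3.symm)
    · exact hac (h1.trans h3.symm)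
    · exact hab (h1.trans h2.symm)
    · exact hab (h1.trans h2.symm)
  obtain ⟨z, hz, hzx, hzy⟩ := hex
  exact ⟨z, ⟨hxy, hzx.symm, hzy.symm, k, hk, hx, hy, hz⟩, hz⟩

theorem lineMap_of_third (hPL : IsPartialLinear L) (h3 : ∀ l ∈ L, l.ncard = 3) {x y z : X}
    (h : Third L x y z) : lineMap L x y = z := by
  have hk : ({x, y, z} : Set X) ∈ L := by
    obtain ⟨hxy, hxz, hyz, k, hk, hx, hy, hz⟩ := h
    rw [← line_eq h3 hk hx hy hz hxy hxz hyz]
    exact hk
  have hex : ∃ z : X, z ≠ x ∧ z ≠ y ∧ x ≠ y ∧ ({x, y, z} : Set X) ∈ L :=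
    ⟨z, h.2.1.symm, h.2.2.1.symm, h.1, hk⟩
  have e : lineMap L x y = hex.choose := by
    unfold lineMap
    exact dif_pos hex
  rw [e]
  obtain ⟨h1, h2, h3', h4⟩ := hex.choose_spec
  have hT : Third L x y hex.choose :=
    ⟨h3', h1.symm, h2.symm, _, h4, Or.inl rfl, Or.inr (Or.inl rfl), Or.inr (Or.inr rfl)⟩
  exact third_unique hPL h3 hT h

theorem lineMap_of_not {x y : X} (h : ¬ ∃ z, Third L x y z) : lineMap L x y = y := by
  have hex : ¬ ∃ z : X, z ≠ x ∧ z ≠ y ∧ x ≠ y ∧ ({x, y, z} : Set X) ∈ L := by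
    rintro ⟨z, h1, h2, h3, h4⟩
    exact h ⟨z, h3, h1.symm, h2.symm, _, h4, Or.inl rfl, Or.inr (Or.inl rfl),
      Or.inr (Or.inr rfl)⟩
  unfold lineMap
  exact dif_neg hex

theorem tau_lineMap (hPL : IsPartialLinear L) (h3 : ∀ l ∈ L, l.ncard = 3) (x y : X) :
    Tau L x y (lineMap L x y) := by
  by_cases h : ∃ z, Third L x y z
  · obtain ⟨z, hz⟩ := h
    rw [lineMap_of_third hPL h3 hz]
    exact Or.inl hz
  · rw [lineMap_of_not h]
    exact Or.inr ⟨rfl, h⟩

theorem lineMap_eq_of_tau (hPL : IsPartialLinear L) (h3 : ∀ l ∈ L, l.ncard = 3) {x y y' : X}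
    (h : Tau L x y y') : lineMap L x y = y' := by
  rcases h with h | ⟨h1, h⟩
  · exact lineMap_of_third hPL h3 h
  · rw [h1]
    exact lineMap_of_not h

theorem lineMap_invol (hPL : IsPartialLinear L) (h3 : ∀ l ∈ L, l.ncard = 3) (x y : X) :
    lineMap L x (lineMap L x y) = y := by
  by_cases h : ∃ z, Third L x y z
  · obtain ⟨z, hz⟩ := h
    rw [lineMap_of_third hPL h3 hz]
    exact lineMap_of_third hPL h3 hz.swap23
  · rw [lineMap_of_not h, lineMap_of_not h]

theorem subset_span (U : Set X) : U ⊆ span L U := by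
  intro u hu
  apply Set.mem_sInter.mpr
  rintro T ⟨hUT, -⟩
  exact hUT hu

theorem isSubspace_span (U : Set X) : IsSubspace L (span L U) := by
  intro k hk x hx y hy hxy hxk hyk w hw
  apply Set.mem_sInter.mpr
  rintro T ⟨hUT, hT⟩
  exact hT k hk x (Set.mem_sInter.mp hx T ⟨hUT, hT⟩) y (Set.mem_sInter.mp hy T ⟨hUT, hT⟩) hxy
    hxk hyk hw

section Transfer

variable {S : Set X} {Y : Type*} {M : Set (Set Y)}

theorem third_transfer (hS : IsSubspace L S) (e : ↥S ≃ Y) (hiso : IsIso (restrict L S) M e)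
    (u v w : ↥S) : Third L (u : X) (v : X) (w : X) ↔ Third M (e u) (e v) (e w) := by
  constructor
  · rintro ⟨huv, huw, hvw, k, hk, hu, hv, hw⟩
    have hkS : k ⊆ S := hS k hk u u.2 v v.2 huv hu hv
    have hk' : ∃ l ∈ L, l ⊆ S ∧ {x : ↥S | (x : X) ∈ k} = {x : ↥S | (x : X) ∈ l} :=
      ⟨k, hk, hkS, rfl⟩
    have hM : e '' {x : ↥S | (x : X) ∈ k} ∈ M := (hiso _).mp hk'
    exact ⟨fun h => huv (congrArg Subtype.val (e.injective h)),
      fun h => huw (congrArg Subtype.val (e.injective h)),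
      fun h => hvw (congrArg Subtype.val (e.injective h)), _, hM, ⟨u, hu, rfl⟩, ⟨v, hv, rfl⟩,
      ⟨w, hw, rfl⟩⟩
  · rintro ⟨huv, huw, hvw, k₁, hk₁, hu, hv, hw⟩
    have hl : e ⁻¹' k₁ ∈ restrict L S :=
      (hiso _).mpr (by rw [Equiv.image_preimage]; exact hk₁)
    obtain ⟨k, hk, -, hl'⟩ := hl
    have hmem : ∀ t : ↥S, e t ∈ k₁ → (t : X) ∈ k := by
      intro t ht
      have h1 : t ∈ e ⁻¹' k₁ := ht
      rw [hl'] at h1
      exact h1
    exact ⟨fun h => huv (congrArg e (Subtype.ext h)), fun h => huw (congrArg e (Subtype.ext h)),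
      fun h => hvw (congrArg e (Subtype.ext h)), k, hk, hmem u hu, hmem v hv, hmem w hw⟩

theorem tau_transfer (hS : IsSubspace L S) (e : ↥S ≃ Y) (hiso : IsIso (restrict L S) M e)
    (u v w : ↥S) (h : Tau L (u : X) (v : X) (w : X)) : Tau M (e u) (e v) (e w) := by
  rcases h with h | ⟨h1, h2⟩
  · exact Or.inl ((third_transfer hS e hiso u v w).mp h)
  · have hwv : w = v := Subtype.ext h1
    refine Or.inr ⟨by rw [hwv], ?_⟩
    rintro ⟨z', hz'⟩
    apply h2
    have h3 := (third_transfer hS e hiso u v (e.symm z')).mpr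
      (by rw [e.apply_symm_apply]; exact hz')
    exact ⟨_, h3⟩

/-- If the subspace `S` is isomorphic to a model in which the maps `t(x)` preserve collinear
triples, then `t(x)` maps lines inside `S` to lines, for `x` in `S`. -/
theorem image_line_of_model (hPL : IsPartialLinear L) (h3 : ∀ l ∈ L, l.ncard = 3)
    (hS : IsSubspace L S) (e : ↥S ≃ Y) (hiso : IsIso (restrict L S) M e)
    (MP : ∀ x a b c a' b' c' : Y, Third M a b c → Tau M x a a' → Tau M x b b' → Tau M x c c' →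
      Third M a' b' c')
    {x : X} (hx : x ∈ S) {k : Set X} (hk : k ∈ L) (hkS : k ⊆ S) : lineMap L x '' k ∈ L := by
  obtain ⟨a, b, c, hab, hac, hbc, hkeq⟩ := Set.ncard_eq_three.mp (h3 k hk)
  have hak : a ∈ k := by rw [hkeq]; exact Or.inl rfl
  have hbk : b ∈ k := by rw [hkeq]; exact Or.inr (Or.inl rfl)
  have hck : c ∈ k := by rw [hkeq]; exact Or.inr (Or.inr rfl)
  have ha : a ∈ S := hkS hak
  have hb : b ∈ S := hkS hbk
  have hc : c ∈ S := hkS hck
  have hT : Third L a b c := ⟨hab, hac, hbc, k, hk, hak, hbk, hck⟩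
  have hmemS : ∀ y ∈ S, lineMap L x y ∈ S := by
    intro y hy
    rcases tau_lineMap hPL h3 x y with h | ⟨h1, -⟩
    · obtain ⟨hxy, -, -, m, hm, hxm, hym, hzm⟩ := h
      exact hS m hm x hx y hy hxy hxm hym hzm
    · rw [h1]
      exact hy
  have ta := tau_transfer hS e hiso ⟨x, hx⟩ ⟨a, ha⟩ ⟨_, hmemS a ha⟩ (tau_lineMap hPL h3 x a)
  have tb := tau_transfer hS e hiso ⟨x, hx⟩ ⟨b, hb⟩ ⟨_, hmemS b hb⟩ (tau_lineMap hPL h3 x b)
  have tc := tau_transfer hS e hiso ⟨x, hx⟩ ⟨c, hc⟩ ⟨_, hmemS c hc⟩ (tau_lineMap hPL h3 x c)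
  have hT' := (third_transfer hS e hiso ⟨a, ha⟩ ⟨b, hb⟩ ⟨c, hc⟩).mp hT
  have hT'' := MP _ _ _ _ _ _ _ hT' ta tb tc
  have hT3 := (third_transfer hS e hiso ⟨_, hmemS a ha⟩ ⟨_, hmemS b hb⟩ ⟨_, hmemS c hc⟩).mpr hT''
  obtain ⟨h1, h2, h3', k', hk', ha', hb', hc'⟩ := hT3
  have hk'eq := line_eq h3 hk' ha' hb' hc' h1 h2 h3'
  rw [hkeq, Set.image_insert_eq, Set.image_pair]
  rw [hk'eq] at hk'
  exact hk'

end Transfer

end Cfsg.Agent.Lib.Helper27.FS
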