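import Mathlib
import Cfsg.Prelude.Def_FischerSpaces
import Cfsg.Agent.Lib.Helper27.ThreeTransp

/-!
# The line system of a set of 3-transpositions (helper27)

Lines `{x, y, x y x}`, partial linearity, three points per line, and a generic recognition lemma
`plane_iso` for the subspace spanned by a family of points closed under `x ↦ a x a`.
-/

set_option autoImplicit false

namespace Cfsg.Agent.Lib.Helper27.TT

open Cfsg Cfsg.LineSystem

variable {G : Type*} [Group G] {D : Set G}

theorem ne_of_not_commute {x y : G} (h : ¬ Commute x y) : x ≠ y := by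
  intro e
  subst e
  exact h (Commute.refl x)

theorem T_mem (hD : IsThreeTranspositionSet D) (hc : ∀ g : G, ∀ d ∈ D, g * d * g⁻¹ ∈ D)
    {x y : G} (hx : x ∈ D) (hy : y ∈ D) : x * y * x ∈ D := by
  have h := hc x y hy
  rwa [inv_of_mem hD hx] at h

theorem T_T (hD : IsThreeTranspositionSet D) {x : G} (hx : x ∈ D) (y : G) :
    x * (x * y * x) * x = y := by
  have hxx := mul_self_of_mem hD hx
  calc x * (x * y * x) * x = (x * x) * y * (x * x) := by simp only [mul_assoc]
    _ = y := by rw [hxx, one_mul, mul_one]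

/-- Conjugating a triple product by an involution. -/
theorem conj3 {u : G} (huu : u * u = 1) (x y : G) :
    u * (x * y * x) * u = (u * x * u) * (u * y * u) * (u * x * u) := by
  have h' : ∀ z, u * (u * z) = z := fun z => by rw [← mul_assoc, huu, one_mul]
  simp only [mul_assoc, h']

theorem not_commute_T (hD : IsThreeTranspositionSet D) {x y : G} (hx : x ∈ D)
    (h : ¬ Commute x y) : ¬ Commute x (x * y * x) := by
  intro hcm
  apply h
  have hxx := mul_self_of_mem hD hx
  have e : x * (x * y * x) = x * y * x * x := hcm.eq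
  have e2 : y * x = x * y := by
    calc y * x = x * x * (y * x) := by rw [hxx, one_mul]
      _ = x * (x * y * x) := by simp only [mul_assoc]
      _ = x * y * x * x := e
      _ = x * y * (x * x) := by simp only [mul_assoc]
      _ = x * y := by rw [hxx, mul_one]
  exact e2.symm

theorem not_commute_T' (hD : IsThreeTranspositionSet D) {x y : G} (hx : x ∈ D) (hy : y ∈ D)
    (h : ¬ Commute x y) : ¬ Commute y (x * y * x) := by
  rw [braid hD hx hy h]
  exact not_commute_T hD hy (fun h' => h h'.symm)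

theorem commute_T_iff (hD : IsThreeTranspositionSet D) {u : G} (hu : u ∈ D) (x y : G) :
    Commute (u * x * u) (u * y * u) ↔ Commute x y := by
  have h := Commute.conj_iff (a := x) (b := y) u
  rwa [inv_of_mem hD hu] at h

theorem commute_T_iff' (hD : IsThreeTranspositionSet D) {u : G} (hu : u ∈ D) (x y : G) :
    Commute (u * x * u) y ↔ Commute x (u * y * u) := by
  have h := commute_T_iff hD hu x (u * y * u)
  rwa [T_T hD hu y] at h

/-- The third point of the line through `x` and `x y x` is `y` again (other order). -/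
theorem T_T' (hD : IsThreeTranspositionSet D) {x y : G} (hx : x ∈ D) (hy : y ∈ D)
    (h : ¬ Commute x y) : (x * y * x) * x * (x * y * x) = y := by
  have hxx := mul_self_of_mem hD hx
  calc (x * y * x) * x * (x * y * x) = x * y * (x * x) * (x * y * x) := by simp only [mul_assoc]
    _ = x * (y * x * y) * x := by rw [hxx, mul_one]; simp only [mul_assoc]
    _ = x * (x * y * x) * x := by rw [← braid hD hx hy h]
    _ = y := T_T hD hx y

/-- The line `{x, y, x y x}` as a set of members of `D`. -/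
def lineOf (D : Set G) (x y : G) : Set D :=
  {z : D | (z : G) = x ∨ (z : G) = y ∨ (z : G) = x * y * x}

theorem mem_lineOf_left {x : G} (hx : x ∈ D) (y : G) : (⟨x, hx⟩ : D) ∈ lineOf D x y :=
  Or.inl rfl

theorem mem_lineOf_right (x : G) {y : G} (hy : y ∈ D) : (⟨y, hy⟩ : D) ∈ lineOf D x y :=
  Or.inr (Or.inl rfl)

theorem mem_lineOf_third {x y : G} (hz : x * y * x ∈ D) : (⟨x * y * x, hz⟩ : D) ∈ lineOf D x y :=
  Or.inr (Or.inr rfl)

theorem lineOf_swap (hD : IsThreeTranspositionSet D) {x y : G} (hx : x ∈ D) (hy : y ∈ D)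
    (h : ¬ Commute x y) : lineOf D y x = lineOf D x y := by
  ext w
  simp only [lineOf, Set.mem_ofPred_eq]
  rw [braid hD hx hy h]
  tauto

theorem lineOf_rot (hD : IsThreeTranspositionSet D) {x : G} (hx : x ∈ D) (y : G) :
    lineOf D x (x * y * x) = lineOf D x y := by
  ext w
  simp only [lineOf, Set.mem_ofPred_eq]
  rw [T_T hD hx y]
  tauto

/-- Any two different points of a line are non-commuting and span the same line. -/
theorem lineOf_eq (hD : IsThreeTranspositionSet D) (hc : ∀ g : G, ∀ d ∈ D, g * d * g⁻¹ ∈ D)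
    {x y : G} (hx : x ∈ D) (hy : y ∈ D) (h : ¬ Commute x y) {u v : G}
    (hu : u = x ∨ u = y ∨ u = x * y * x) (hv : v = x ∨ v = y ∨ v = x * y * x) (huv : u ≠ v) :
    ¬ Commute u v ∧ lineOf D u v = lineOf D x y := by
  have hz : x * y * x ∈ D := T_mem hD hc hx hy
  have nxz := not_commute_T hD hx h
  have nyz := not_commute_T' hD hx hy h
  have hyx : ¬ Commute y x := fun h' => h h'.symm
  rcases hu with hu | hu | hu <;> rcases hv with hv | hv | hv
  · exact absurd (hu.trans hv.symm) huv
  · rw [hu, hv]; exact ⟨h, rfl⟩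
  · rw [hu, hv]; exact ⟨nxz, lineOf_rot hD hx y⟩
  · rw [hu, hv]; exact ⟨hyx, lineOf_swap hD hx hy h⟩
  · exact absurd (hu.trans hv.symm) huv
  · rw [hu, hv]
    refine ⟨nyz, ?_⟩
    rw [braid hD hx hy h, lineOf_rot hD hy x]
    exact lineOf_swap hD hx hy h
  · rw [hu, hv]
    refine ⟨fun h' => nxz h'.symm, ?_⟩
    rw [lineOf_swap hD hx hz nxz]
    exact lineOf_rot hD hx y
  · rw [hu, hv]
    refine ⟨fun h' => nyz h'.symm, ?_⟩
    rw [lineOf_swap hD hy hz nyz, braid hD hx hy h, lineOf_rot hD hy x]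
    exact lineOf_swap hD hx hy h
  · exact absurd (hu.trans hv.symm) huv

theorem mem_lines_iff (hD : IsThreeTranspositionSet D) (l : Set D) :
    l ∈ threeTranspositionLines D ↔
      ∃ x ∈ D, ∃ y ∈ D, ¬ Commute x y ∧ l = lineOf D x y := by
  constructor
  · rintro ⟨x, y, hxy, rfl⟩
    refine ⟨x.1, x.2, y.1, y.2, hxy, ?_⟩
    ext w
    simp only [lineOf, Set.mem_ofPred_eq]
    rw [inv_of_mem hD y.2, ← braid hD x.2 y.2 hxy]
  · rintro ⟨x, hx, y, hy, hxy, rfl⟩
    refine ⟨⟨x, hx⟩, ⟨y, hy⟩, hxy, ?_⟩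
    ext w
    simp only [lineOf, Set.mem_ofPred_eq]
    rw [inv_of_mem hD hy, ← braid hD hx hy hxy]

theorem isPartialLinear (hD : IsThreeTranspositionSet D)
    (hc : ∀ g : G, ∀ d ∈ D, g * d * g⁻¹ ∈ D) :
    IsPartialLinear (threeTranspositionLines D) := by
  intro l hl m hm x y hxy hxl hyl hxm hym
  obtain ⟨a, ha, b, hb, hab, rfl⟩ := (mem_lines_iff hD l).mp hl
  obtain ⟨a', ha', b', hb', hab', rfl⟩ := (mem_lines_iff hD m).mp hm
  have hne : (x : G) ≠ (y : G) := fun h => hxy (Subtype.ext h)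
  have hxl' : (x : G) = a ∨ (x : G) = b ∨ (x : G) = a * b * a := hxl
  have hyl' : (y : G) = a ∨ (y : G) = b ∨ (y : G) = a * b * a := hyl
  have hxm' : (x : G) = a' ∨ (x : G) = b' ∨ (x : G) = a' * b' * a' := hxm
  have hym' : (y : G) = a' ∨ (y : G) = b' ∨ (y : G) = a' * b' * a' := hym
  have h1 := (lineOf_eq hD hc ha hb hab hxl' hyl' hne).2
  have h2 := (lineOf_eq hD hc ha' hb' hab' hxm' hym' hne).2
  rw [← h1, ← h2]

theorem ncard_line (hD : IsThreeTranspositionSet D) (hc : ∀ g : G, ∀ d ∈ D, g * d * g⁻¹ ∈ D)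
    {l : Set D} (hl : l ∈ threeTranspositionLines D) : l.ncard = 3 := by
  obtain ⟨x, hx, y, hy, hxy, rfl⟩ := (mem_lines_iff hD l).mp hl
  have hz := T_mem hD hc hx hy
  rw [Set.ncard_eq_three]
  refine ⟨⟨x, hx⟩, ⟨y, hy⟩, ⟨x * y * x, hz⟩, ?_, ?_, ?_, ?_⟩
  · intro h
    exact ne_of_not_commute hxy (congrArg Subtype.val h)
  · intro h
    exact ne_of_not_commute (not_commute_T hD hx hxy) (congrArg Subtype.val h)
  · intro h
    exact ne_of_not_commute (not_commute_T' hD hx hy hxy) (congrArg Subtype.val h)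
  · ext w
    constructor
    · rintro (h | h | h)
      · exact Or.inl (Subtype.ext h)
      · exact Or.inr (Or.inl (Subtype.ext h))
      · exact Or.inr (Or.inr (Subtype.ext h))
    · rintro (h | h | h)
      · exact Or.inl (congrArg Subtype.val h)
      · exact Or.inr (Or.inl (congrArg Subtype.val h))
      · exact Or.inr (Or.inr (congrArg Subtype.val h))

/-- A line through a point `P` is `lineOf D P b` for a suitable `b`. -/
theorem exists_other (hD : IsThreeTranspositionSet D) (hc : ∀ g : G, ∀ d ∈ D, g * d * g⁻¹ ∈ D)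
    {l : Set D} (hl : l ∈ threeTranspositionLines D) {P : D} (hP : P ∈ l) :
    ∃ b ∈ D, ¬ Commute (P : G) b ∧ l = lineOf D (P : G) b := by
  obtain ⟨x, hx, y, hy, hxy, rfl⟩ := (mem_lines_iff hD l).mp hl
  have hP' : (P : G) = x ∨ (P : G) = y ∨ (P : G) = x * y * x := hP
  by_cases hPx : (P : G) = x
  · have hne : (P : G) ≠ y := by
      rw [hPx]
      exact ne_of_not_commute hxy
    obtain ⟨h1, h2⟩ := lineOf_eq hD hc hx hy hxy hP' (Or.inr (Or.inl rfl)) hne
    exact ⟨y, hy, h1, h2.symm⟩
  · obtain ⟨h1, h2⟩ := lineOf_eq hD hc hx hy hxy hP' (Or.inl rfl) hPx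
    exact ⟨x, hx, h1, h2.symm⟩

/-- Closure of the conjugation table under composition. -/
theorem good_act {ι : Type*} (Q : ι → G) (act : ι → ι → ι) {a a' : ι}
    (ha : ∀ v, Q a * Q v * Q a = Q (act a v)) (ha' : ∀ v, Q a' * Q v * Q a' = Q (act a' v))
    (hassoc : ∀ v, act (act a a') v = act a (act a' (act a v))) :
    ∀ v, Q (act a a') * Q v * Q (act a a') = Q (act (act a a') v) := by
  intro v
  calc Q (act a a') * Q v * Q (act a a')
      = (Q a * Q a' * Q a) * Q v * (Q a * Q a' * Q a) := by rw [ha a']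
    _ = Q a * (Q a' * (Q a * Q v * Q a) * Q a') * Q a := by simp only [mul_assoc]
    _ = Q (act a (act a' (act a v))) := by rw [ha v, ha' (act a v), ha (act a' (act a v))]
    _ = Q (act (act a a') v) := by rw [hassoc v]

end Cfsg.Agent.Lib.Helper27.TT
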