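import Mathlib
import Cfsg.Prelude.Def_FischerSpaces
import Cfsg.Agent.Lib.Helper27.TTLines

/-!
# Recognising the plane spanned by two lines of a 3-transposition line system (helper27)

`plane_iso`: if `Q : ι → D` is an injective family closed under `Q a * Q v * Q a = Q (act a v)`,
generated by the points of `U`, and `(Y, M)` is a model with the same triples, then the subspace
spanned by `U` is isomorphic to `M`.
-/

set_option autoImplicit false

namespace Cfsg.Agent.Lib.Helper27.TT

open Cfsg Cfsg.LineSystem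

variable {G : Type*} [Group G] {D : Set G}

theorem plane_iso (hD : IsThreeTranspositionSet D) (hc : ∀ g : G, ∀ d ∈ D, g * d * g⁻¹ ∈ D)
    {ι : Type} (Q : ι → G) (act : ι → ι → ι) (hQD : ∀ i, Q i ∈ D)
    (hinj : Function.Injective Q) (hact : ∀ a v, Q a * Q v * Q a = Q (act a v))
    {Y : Type} (M : Set (Set Y)) (lab : ι ≃ Y)
    (hM : ∀ m : Set Y, m ∈ M ↔ ∃ i j, i ≠ j ∧ act i j ≠ j ∧ m = lab '' {i, j, act i j})
    (U : Set D) (I0 : Set ι) (hU : ∀ u ∈ U, ∃ i, Q i = (u : G))
    (hI0 : ∀ i ∈ I0, (⟨Q i, hQD i⟩ : D) ∈ U)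
    (hgen : ∀ T : Set ι, I0 ⊆ T → (∀ i j, i ∈ T → j ∈ T → act i j ∈ T) → ∀ k, k ∈ T) :
    Isomorphic (restrict (threeTranspositionLines D) (span (threeTranspositionLines D) U)) M := by
  classical
  obtain ⟨pt, hpt⟩ : ∃ pt : ι → D, ∀ i, ((pt i : D) : G) = Q i :=
    ⟨fun i => ⟨Q i, hQD i⟩, fun i => rfl⟩
  have hpt_inj : Function.Injective pt := by
    intro i j h
    apply hinj
    rw [← hpt i, ← hpt j, h]
  have hsq : ∀ i, Q i * Q i = 1 := fun i => mul_self_of_mem hD (hQD i)
  have hcomm : ∀ i j, Commute (Q i) (Q j) → act i j = j := by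
    intro i j h
    apply hinj
    rw [← hact i j, h.eq, mul_assoc, hsq i, mul_one]
  have hcomm' : ∀ i j, act i j = j → Commute (Q i) (Q j) := by
    intro i j h
    have e := hact i j
    rw [h] at e
    have e2 : Q i * Q j = Q j * Q i := by
      calc Q i * Q j = Q i * Q j * (Q i * Q i) := by rw [hsq i, mul_one]
        _ = (Q i * Q j * Q i) * Q i := by simp only [mul_assoc]
        _ = Q j * Q i := by rw [e]
    exact e2
  have hlineL : ∀ i j, ¬ Commute (Q i) (Q j) →
      lineOf D (Q i) (Q j) ∈ threeTranspositionLines D := fun i j h =>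
    (mem_lines_iff hD _).mpr ⟨Q i, hQD i, Q j, hQD j, h, rfl⟩
  have hmemline : ∀ i j (w : D),
      w ∈ lineOf D (Q i) (Q j) ↔ w = pt i ∨ w = pt j ∨ w = pt (act i j) := by
    intro i j w
    constructor
    · rintro (h | h | h)
      · exact Or.inl (Subtype.ext (h.trans (hpt i).symm))
      · exact Or.inr (Or.inl (Subtype.ext (h.trans (hpt j).symm)))
      · exact Or.inr (Or.inr (Subtype.ext ((h.trans (hact i j)).trans (hpt _).symm)))
    · rintro (h | h | h)
      · exact Or.inl ((congrArg Subtype.val h).trans (hpt i))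
      · exact Or.inr (Or.inl ((congrArg Subtype.val h).trans (hpt j)))
      · exact Or.inr (Or.inr (((congrArg Subtype.val h).trans (hpt _)).trans (hact i j).symm))
  have hsub : IsSubspace (threeTranspositionLines D) (Set.range pt) := by
    intro l hl x hx y hy hxy hxl hyl
    obtain ⟨i, rfl⟩ := hx
    obtain ⟨j, rfl⟩ := hy
    obtain ⟨a, ha, b, hb, hab, rfl⟩ := (mem_lines_iff hD l).mp hl
    have hne : ((pt i : D) : G) ≠ ((pt j : D) : G) := fun h => hxy (Subtype.ext h)
    have hxl' : ((pt i : D) : G) = a ∨ ((pt i : D) : G) = b ∨ ((pt i : D) : G) = a * b * a := hxl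
    have hyl' : ((pt j : D) : G) = a ∨ ((pt j : D) : G) = b ∨ ((pt j : D) : G) = a * b * a := hyl
    obtain ⟨-, h2⟩ := lineOf_eq hD hc ha hb hab hxl' hyl' hne
    rw [hpt, hpt] at h2
    rw [← h2]
    intro w hw
    rcases (hmemline i j w).mp hw with h | h | h
    · exact ⟨i, h.symm⟩
    · exact ⟨j, h.symm⟩
    · exact ⟨act i j, h.symm⟩
  have hUS : U ⊆ Set.range pt := by
    intro u hu
    obtain ⟨i, hi⟩ := hU u hu
    exact ⟨i, Subtype.ext ((hpt i).trans hi)⟩
  have hspan : span (threeTranspositionLines D) U = Set.range pt := by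
    apply Set.Subset.antisymm
    · exact Set.sInter_subset_of_mem ⟨hUS, hsub⟩
    · apply Set.subset_sInter
      rintro T ⟨hUT, hT⟩
      have key : ∀ k, k ∈ {i : ι | pt i ∈ T} := by
        apply hgen
        · intro i hi
          have h1 := hUT (hI0 i hi)
          have e : pt i = ⟨Q i, hQD i⟩ := Subtype.ext (hpt i)
          show pt i ∈ T
          rw [e]
          exact h1
        · intro i j hi hj
          have hi' : pt i ∈ T := hi
          have hj' : pt j ∈ T := hj
          show pt (act i j) ∈ T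
          by_cases hcm : Commute (Q i) (Q j)
          · rw [hcomm i j hcm]
            exact hj'
          · have hl := hlineL i j hcm
            have hij : pt i ≠ pt j := fun h =>
              ne_of_not_commute hcm (by rw [← hpt i, ← hpt j, h])
            have h3 := hT _ hl (pt i) hi' (pt j) hj' hij
              ((hmemline i j _).mpr (Or.inl rfl)) ((hmemline i j _).mpr (Or.inr (Or.inl rfl)))
            exact h3 ((hmemline i j _).mpr (Or.inr (Or.inr rfl)))
      rintro x ⟨k, rfl⟩
      exact key k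
  rw [hspan]
  obtain ⟨f, hf⟩ : ∃ f : ι ≃ ↥(Set.range pt), ∀ k, ((f k : ↥(Set.range pt)) : D) = pt k :=
    ⟨Equiv.ofInjective pt hpt_inj, fun k => rfl⟩
  have hfsymm : ∀ (x : ↥(Set.range pt)) (k : ι), (((x : D)) : G) = Q k → f.symm x = k := by
    intro x k h
    rw [Equiv.symm_apply_eq]
    apply Subtype.ext
    rw [hf]
    apply Subtype.ext
    rw [hpt]
    exact h
  have KEY : ∀ i j, (f.symm.trans lab) '' {x : ↥(Set.range pt) | (x : D) ∈ lineOf D (Q i) (Q j)}
      = lab '' {i, j, act i j} := by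
    intro i j
    ext y
    constructor
    · rintro ⟨x, hx, rfl⟩
      have hx' : (((x : D)) : G) = Q i ∨ (((x : D)) : G) = Q j ∨
          (((x : D)) : G) = Q i * Q j * Q i := hx
      rw [hact i j] at hx'
      refine ⟨f.symm x, ?_, rfl⟩
      rcases hx' with h | h | h
      · rw [hfsymm x i h]; exact Or.inl rfl
      · rw [hfsymm x j h]; exact Or.inr (Or.inl rfl)
      · rw [hfsymm x _ h]; exact Or.inr (Or.inr rfl)
    · rintro ⟨k, hk, rfl⟩
      refine ⟨f k, ?_, ?_⟩
      · show ((f k : ↥(Set.range pt)) : D) ∈ lineOf D (Q i) (Q j)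
        rw [hf, hmemline]
        rcases hk with h | h | h
        · rw [h]; exact Or.inl rfl
        · rw [h]; exact Or.inr (Or.inl rfl)
        · rw [Set.mem_singleton_iff] at h
          rw [h]; exact Or.inr (Or.inr rfl)
      · show lab (f.symm (f k)) = lab k
        rw [Equiv.symm_apply_apply]
  refine ⟨f.symm.trans lab, ?_⟩
  intro l
  constructor
  · rintro ⟨l₀, hl₀, hl₀S, rfl⟩
    obtain ⟨a, ha, b, hb, hab, rfl⟩ := (mem_lines_iff hD l₀).mp hl₀
    have haS : (⟨a, ha⟩ : D) ∈ Set.range pt := hl₀S (mem_lineOf_left ha b)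
    have hbS : (⟨b, hb⟩ : D) ∈ Set.range pt := hl₀S (mem_lineOf_right a hb)
    obtain ⟨i, hi⟩ := haS
    obtain ⟨j, hj⟩ := hbS
    have hai : a = Q i := by rw [← hpt i, hi]
    have hbj : b = Q j := by rw [← hpt j, hj]
    subst hai hbj
    rw [KEY i j, hM]
    refine ⟨i, j, ?_, ?_, rfl⟩
    · rintro rfl
      exact hab (Commute.refl _)
    · intro h
      exact hab (hcomm' i j h)
  · intro h
    obtain ⟨i, j, hij, hne, he⟩ := (hM _).mp h
    rw [← KEY i j] at he
    have hl : l = {x : ↥(Set.range pt) | (x : D) ∈ lineOf D (Q i) (Q j)} :=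
      (Set.image_injective.mpr (f.symm.trans lab).injective) he
    have hnc : ¬ Commute (Q i) (Q j) := fun hcm => hne (hcomm i j hcm)
    show ∃ l₀ ∈ threeTranspositionLines D, l₀ ⊆ Set.range pt ∧
      l = {x : ↥(Set.range pt) | (x : D) ∈ l₀}
    refine ⟨lineOf D (Q i) (Q j), hlineL i j hnc, ?_, hl⟩
    intro w hw
    rcases (hmemline i j w).mp hw with h | h | h
    · exact ⟨i, h.symm⟩
    · exact ⟨j, h.symm⟩
    · exact ⟨act i j, h.symm⟩

end Cfsg.Agent.Lib.Helper27.TT
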