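import Mathlib
import Cfsg.Prelude.Def_FischerSpaces
import Cfsg.Agent.Lib.Helper27.TTPlane

/-!
# Two lines through a point spanning an affine plane of order three (helper27)
-/

set_option autoImplicit false

namespace Cfsg.Agent.Lib.Helper27.TT

open Cfsg Cfsg.LineSystem

variable {G : Type*} [Group G] {D : Set G}

theorem z3 : ∀ s : ZMod 3, s = 0 ∨ s = 1 ∨ s = 2 := by decide

theorem z3_two : ∀ a b : ZMod 3, a + 2 * b = -a - (a + b) := by decide

theorem z3_eq : ∀ a b : ZMod 3, -a - b = b → a = b := by decide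

/-- Third point of the line through two points of the affine plane of order three. -/
def act9 (a v : Fin 2 → ZMod 3) : Fin 2 → ZMod 3 := -a - v

theorem act9_assoc : ∀ a a' v : Fin 2 → ZMod 3,
    act9 (act9 a a') v = act9 a (act9 a' (act9 a v)) := by decide

theorem gen9 (T : Set (Fin 2 → ZMod 3))
    (h0 : {i : Fin 2 → ZMod 3 | i = ![0, 0] ∨ i = ![1, 0] ∨ i = ![0, 1]} ⊆ T)
    (hcl : ∀ i j, i ∈ T → j ∈ T → act9 i j ∈ T) : ∀ k, k ∈ T := by
  have m00 : (![0, 0] : Fin 2 → ZMod 3) ∈ T := h0 (Or.inl rfl)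
  have m10 : (![1, 0] : Fin 2 → ZMod 3) ∈ T := h0 (Or.inr (Or.inl rfl))
  have m01 : (![0, 1] : Fin 2 → ZMod 3) ∈ T := h0 (Or.inr (Or.inr rfl))
  have m20 : (![2, 0] : Fin 2 → ZMod 3) ∈ T := by
    have h := hcl _ _ m00 m10
    rwa [show act9 ![0, 0] ![1, 0] = ![2, 0] from by decide] at h
  have m02 : (![0, 2] : Fin 2 → ZMod 3) ∈ T := by
    have h := hcl _ _ m00 m01
    rwa [show act9 ![0, 0] ![0, 1] = ![0, 2] from by decide] at h
  have m22 : (![2, 2] : Fin 2 → ZMod 3) ∈ T := by
    have h := hcl _ _ m10 m01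
    rwa [show act9 ![1, 0] ![0, 1] = ![2, 2] from by decide] at h
  have m21 : (![2, 1] : Fin 2 → ZMod 3) ∈ T := by
    have h := hcl _ _ m10 m02
    rwa [show act9 ![1, 0] ![0, 2] = ![2, 1] from by decide] at h
  have m12 : (![1, 2] : Fin 2 → ZMod 3) ∈ T := by
    have h := hcl _ _ m20 m01
    rwa [show act9 ![2, 0] ![0, 1] = ![1, 2] from by decide] at h
  have m11 : (![1, 1] : Fin 2 → ZMod 3) ∈ T := by
    have h := hcl _ _ m20 m02
    rwa [show act9 ![2, 0] ![0, 2] = ![1, 1] from by decide] at h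
  intro k
  have hk : k = ![k 0, k 1] := by
    ext i
    fin_cases i <;> rfl
  rw [hk]
  rcases z3 (k 0) with h | h | h <;> rcases z3 (k 1) with h' | h' | h' <;> rw [h, h'] <;>
    assumption

theorem aff_line_eq (v w : Fin 2 → ZMod 3) :
    {x | ∃ c : ZMod 3, x = v + c • w} = ({v, v + w, -v - (v + w)} : Set (Fin 2 → ZMod 3)) := by
  have e2 : v + (2 : ZMod 3) • w = -v - (v + w) := by
    funext k
    exact z3_two (v k) (w k)
  ext x
  constructor
  · rintro ⟨c, rfl⟩
    rcases z3 c with rfl | rfl | rfl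
    · exact Or.inl (by rw [zero_smul, add_zero])
    · exact Or.inr (Or.inl (by rw [one_smul]))
    · exact Or.inr (Or.inr e2)
  · rintro (h | h | h)
    · exact ⟨0, by rw [h, zero_smul, add_zero]⟩
    · exact ⟨1, by rw [h, one_smul]⟩
    · rw [Set.mem_singleton_iff] at h
      exact ⟨2, by rw [h, e2]⟩

theorem aff_hM : ∀ m : Set (Fin 2 → ZMod 3), m ∈ affinePlaneThree ↔
    ∃ i j : Fin 2 → ZMod 3, i ≠ j ∧ act9 i j ≠ j ∧
      m = (Equiv.refl (Fin 2 → ZMod 3)) '' {i, j, act9 i j} := by
  intro m
  have hne : ∀ i j : Fin 2 → ZMod 3, i ≠ j → act9 i j ≠ j := by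
    intro i j hij h
    apply hij
    funext k
    have hk : -(i k) - j k = j k := congrFun h k
    exact z3_eq (i k) (j k) hk
  constructor
  · rintro ⟨v, w, hw, rfl⟩
    have h1 : v ≠ v + w := fun h => hw (left_eq_add.mp h)
    refine ⟨v, v + w, h1, hne _ _ h1, ?_⟩
    rw [Equiv.coe_refl, Set.image_id]
    exact aff_line_eq v w
  · rintro ⟨i, j, hij, -, rfl⟩
    rw [Equiv.coe_refl, Set.image_id]
    show ∃ v w : Fin 2 → ZMod 3, w ≠ 0 ∧
      ({i, j, act9 i j} : Set (Fin 2 → ZMod 3)) = {x | ∃ c : ZMod 3, x = v + c • w}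
    refine ⟨i, j - i, sub_ne_zero.mpr (Ne.symm hij), ?_⟩
    rw [aff_line_eq, add_sub_cancel]
    rfl

/-- The nine points generated by `p`, `b`, `c`. -/
def tbl9F (p b c : G) : Fin 3 → Fin 3 → G
  | 0, 0 => p
  | 1, 0 => b
  | 2, 0 => p * b * p
  | 0, 1 => c
  | 0, 2 => p * c * p
  | 2, 2 => b * c * b
  | 2, 1 => b * (p * c * p) * b
  | 1, 2 => (p * b * p) * c * (p * b * p)
  | 1, 1 => (p * b * p) * (p * c * p) * (p * b * p)

def tbl9 (p b c : G) (s t : ZMod 3) : G := tbl9F p b c s t

def Q9 (p b c : G) (v : Fin 2 → ZMod 3) : G := tbl9 p b c (v 0) (v 1)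

theorem affine_iso (hD : IsThreeTranspositionSet D) (hc : ∀ g : G, ∀ d ∈ D, g * d * g⁻¹ ∈ D)
    {p b c : G} (hp : p ∈ D) (hb : b ∈ D) (hcD : c ∈ D) (hpb : ¬ Commute p b)
    (hpc : ¬ Commute p c) (hbc : ¬ Commute b c) (hbc' : ¬ Commute b (p * c * p)) :
    Isomorphic (restrict (threeTranspositionLines D)
      (span (threeTranspositionLines D) (lineOf D p b ∪ lineOf D p c))) affinePlaneThree := by
  have hpp := mul_self_of_mem hD hp
  have hbb := mul_self_of_mem hD hb
  have hcc := mul_self_of_mem hD hcD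
  have hb' : p * b * p ∈ D := T_mem hD hc hp hb
  have hc' : p * c * p ∈ D := T_mem hD hc hp hcD
  have hbp : ¬ Commute b p := fun h => hpb h.symm
  have hcp : ¬ Commute c p := fun h => hpc h.symm
  have hcb : ¬ Commute c b := fun h => hbc h.symm
  have hb'c : ¬ Commute (p * b * p) c := fun h => hbc' ((commute_T_iff' hD hp b c).mp h)
  have hcb' : ¬ Commute c (p * b * p) := fun h => hb'c h.symm
  have hb'c' : ¬ Commute (p * b * p) (p * c * p) := fun h => hbc ((commute_T_iff hD hp b c).mp h)
  have E1 : b * p * b = p * b * p := braid hD hb hp hbp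
  have E2 : c * p * c = p * c * p := braid hD hcD hp hcp
  have hbb'b : b * (p * b * p) * b = p := by
    rw [← E1]
    exact T_T hD hb p
  have hcc'c : c * (p * c * p) * c = p := by
    rw [← E2]
    exact T_T hD hcD p
  have hb'pb' : (p * b * p) * p * (p * b * p) = b := T_T' hD hp hb hpb
  -- the conjugation table for `p`
  have g00 : ∀ v, Q9 p b c ![0, 0] * Q9 p b c v * Q9 p b c ![0, 0]
      = Q9 p b c (act9 ![0, 0] v) := by
    intro v
    show tbl9 p b c 0 0 * tbl9 p b c (v 0) (v 1) * tbl9 p b c 0 0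
      = tbl9 p b c (-0 - v 0) (-0 - v 1)
    generalize v 0 = s
    generalize v 1 = t
    rcases z3 s with rfl | rfl | rfl <;> rcases z3 t with rfl | rfl | rfl
    · show p * p * p = p
      rw [hpp, one_mul]
    · show p * c * p = p * c * p
      rfl
    · show p * (p * c * p) * p = c
      exact T_T hD hp c
    · show p * b * p = p * b * p
      rfl
    · show p * ((p * b * p) * (p * c * p) * (p * b * p)) * p = b * c * b
      rw [conj3 hpp (p * b * p) (p * c * p), T_T hD hp b, T_T hD hp c]
    · show p * ((p * b * p) * c * (p * b * p)) * p = b * (p * c * p) * b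
      rw [conj3 hpp (p * b * p) c, T_T hD hp b]
    · show p * (p * b * p) * p = b
      exact T_T hD hp b
    · show p * (b * (p * c * p) * b) * p = (p * b * p) * c * (p * b * p)
      rw [conj3 hpp b (p * c * p), T_T hD hp c]
    · show p * (b * c * b) * p = (p * b * p) * (p * c * p) * (p * b * p)
      exact conj3 hpp b c
  -- the conjugation table for `b`
  have g10 : ∀ v, Q9 p b c ![1, 0] * Q9 p b c v * Q9 p b c ![1, 0]
      = Q9 p b c (act9 ![1, 0] v) := by
    intro v
    show tbl9 p b c 1 0 * tbl9 p b c (v 0) (v 1) * tbl9 p b c 1 0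
      = tbl9 p b c (-1 - v 0) (-0 - v 1)
    generalize v 0 = s
    generalize v 1 = t
    rcases z3 s with rfl | rfl | rfl <;> rcases z3 t with rfl | rfl | rfl
    · show b * p * b = p * b * p
      exact E1
    · show b * c * b = b * c * b
      rfl
    · show b * (p * c * p) * b = b * (p * c * p) * b
      rfl
    · show b * b * b = b
      rw [hbb, one_mul]
    · show b * ((p * b * p) * (p * c * p) * (p * b * p)) * b = (p * b * p) * c * (p * b * p)
      rw [conj3 hbb (p * b * p) (p * c * p), hbb'b, conj3 hpp b (p * c * p), T_T hD hp c]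
    · show b * ((p * b * p) * c * (p * b * p)) * b = (p * b * p) * (p * c * p) * (p * b * p)
      rw [conj3 hbb (p * b * p) c, hbb'b, conj3 hpp b c]
    · show b * (p * b * p) * b = p
      exact hbb'b
    · show b * (b * (p * c * p) * b) * b = p * c * p
      exact T_T hD hb (p * c * p)
    · show b * (b * c * b) * b = c
      exact T_T hD hb c
  -- the conjugation table for `c`
  have g01 : ∀ v, Q9 p b c ![0, 1] * Q9 p b c v * Q9 p b c ![0, 1]
      = Q9 p b c (act9 ![0, 1] v) := by
    intro v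
    show tbl9 p b c 0 1 * tbl9 p b c (v 0) (v 1) * tbl9 p b c 0 1
      = tbl9 p b c (-0 - v 0) (-1 - v 1)
    generalize v 0 = s
    generalize v 1 = t
    rcases z3 s with rfl | rfl | rfl <;> rcases z3 t with rfl | rfl | rfl
    · show c * p * c = p * c * p
      exact E2
    · show c * c * c = c
      rw [hcc, one_mul]
    · show c * (p * c * p) * c = p
      exact hcc'c
    · show c * b * c = b * c * b
      exact braid hD hcD hb hcb
    · show c * ((p * b * p) * (p * c * p) * (p * b * p)) * c = b * (p * c * p) * b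
      rw [braid hD hb' hc' hb'c', conj3 hcc (p * c * p) (p * b * p), hcc'c,
        braid hD hcD hb' hcb', conj3 hpp (p * b * p) c, T_T hD hp b]
    · show c * ((p * b * p) * c * (p * b * p)) * c = p * b * p
      rw [← braid hD hcD hb' hcb']
      exact T_T hD hcD (p * b * p)
    · show c * (p * b * p) * c = (p * b * p) * c * (p * b * p)
      exact braid hD hcD hb' hcb'
    · show c * (b * (p * c * p) * b) * c = (p * b * p) * (p * c * p) * (p * b * p)
      rw [braid hD hb hc' hbc', conj3 hcc (p * c * p) b, hcc'c, braid hD hcD hb hcb,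
        conj3 hpp b c]
    · show c * (b * c * b) * c = b
      rw [← braid hD hcD hb hcb]
      exact T_T hD hcD b
  have hact : ∀ a v, Q9 p b c a * Q9 p b c v * Q9 p b c a = Q9 p b c (act9 a v) := by
    have hT := gen9 {a | ∀ v, Q9 p b c a * Q9 p b c v * Q9 p b c a = Q9 p b c (act9 a v)}
      (by
        rintro i (rfl | rfl | rfl)
        · exact g00
        · exact g10
        · exact g01)
      (by
        intro i j hi hj
        exact good_act (Q9 p b c) act9 hi hj (act9_assoc i j))
    intro a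
    exact hT a
  -- distinctness
  have h0 : ∀ s t : ZMod 3, ¬ (s = 0 ∧ t = 0) → p ≠ tbl9 p b c s t := by
    intro s t hst
    rcases z3 s with rfl | rfl | rfl <;> rcases z3 t with rfl | rfl | rfl
    · exact absurd ⟨rfl, rfl⟩ hst
    · exact ne_of_not_commute hpc
    · exact ne_of_not_commute (not_commute_T hD hp hpc)
    · exact ne_of_not_commute hpb
    · show p ≠ (p * b * p) * (p * c * p) * (p * b * p)
      apply ne_of_not_commute
      intro h
      have h1 := (commute_T_iff' hD hb' p (p * c * p)).mpr h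
      rw [hb'pb'] at h1
      exact hbc' h1
    · show p ≠ (p * b * p) * c * (p * b * p)
      apply ne_of_not_commute
      intro h
      have h1 := (commute_T_iff' hD hb' p c).mpr h
      rw [hb'pb'] at h1
      exact hbc h1
    · exact ne_of_not_commute (not_commute_T hD hp hpb)
    · show p ≠ b * (p * c * p) * b
      apply ne_of_not_commute
      intro h
      have h1 := (commute_T_iff' hD hb p (p * c * p)).mpr h
      rw [E1] at h1
      exact hb'c' h1
    · show p ≠ b * c * b
      apply ne_of_not_commute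
      intro h
      have h1 := (commute_T_iff' hD hb p c).mpr h
      rw [E1] at h1
      exact hb'c h1
  have hinj : Function.Injective (Q9 p b c) := by
    intro i j hij
    by_contra hne
    have e1 := hact i (act9 0 i)
    have e2 := hact 0 i
    have e3 := hact i (act9 0 j)
    have e4 := hact 0 j
    have h1 : Q9 p b c (act9 i (act9 0 i)) = Q9 p b c (act9 i (act9 0 j)) := by
      rw [← e1, ← e2, ← e3, ← e4, hij]
    have a1 : act9 i (act9 0 i) = 0 := by
      show -i - (-0 - i) = 0
      abel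
    have a2 : act9 i (act9 0 j) = j - i := by
      show -i - (-0 - j) = j - i
      abel
    rw [a1, a2] at h1
    have hw : ¬ ((j - i) 0 = 0 ∧ (j - i) 1 = 0) := by
      rintro ⟨w0, w1⟩
      apply hne
      have : j - i = 0 := by
        ext k
        fin_cases k
        · exact w0
        · exact w1
      exact (sub_eq_zero.mp this).symm
    exact h0 ((j - i) 0) ((j - i) 1) hw h1
  have hQD : ∀ i, Q9 p b c i ∈ D := by
    intro v
    show tbl9 p b c (v 0) (v 1) ∈ D
    generalize v 0 = s
    generalize v 1 = t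
    rcases z3 s with rfl | rfl | rfl <;> rcases z3 t with rfl | rfl | rfl
    · exact hp
    · exact hcD
    · exact hc'
    · exact hb
    · exact T_mem hD hc hb' hc'
    · exact T_mem hD hc hb' hcD
    · exact hb'
    · exact T_mem hD hc hb hc'
    · exact T_mem hD hc hb hcD
  have hU : ∀ u ∈ lineOf D p b ∪ lineOf D p c, ∃ i, Q9 p b c i = (u : G) := by
    rintro u ((h | h | h) | (h | h | h))
    · exact ⟨![0, 0], h.symm⟩
    · exact ⟨![1, 0], h.symm⟩
    · exact ⟨![2, 0], h.symm⟩
    · exact ⟨![0, 0], h.symm⟩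
    · exact ⟨![0, 1], h.symm⟩
    · exact ⟨![0, 2], h.symm⟩
  have hI0 : ∀ i ∈ {i : Fin 2 → ZMod 3 | i = ![0, 0] ∨ i = ![1, 0] ∨ i = ![0, 1]},
      (⟨Q9 p b c i, hQD i⟩ : D) ∈ lineOf D p b ∪ lineOf D p c := by
    rintro i (rfl | rfl | rfl)
    · exact Or.inl (Or.inl rfl)
    · exact Or.inl (Or.inr (Or.inl rfl))
    · exact Or.inr (Or.inr (Or.inl rfl))
  exact plane_iso hD hc (Q9 p b c) act9 hQD hinj hact affinePlaneThree
    (Equiv.refl (Fin 2 → ZMod 3)) aff_hM
    (lineOf D p b ∪ lineOf D p c) {i : Fin 2 → ZMod 3 | i = ![0, 0] ∨ i = ![1, 0] ∨ i = ![0, 1]}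
    hU hI0 gen9

end Cfsg.Agent.Lib.Helper27.TT
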