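import Mathlib
import Cfsg.Prelude.Def_FischerSpaces
import Cfsg.Agent.Lib.Helper27.TTPlane

/-!
# Two lines through a point spanning a dual affine plane of order two (helper27)
-/

set_option autoImplicit false

namespace Cfsg.Agent.Lib.Helper27.TT

open Cfsg Cfsg.LineSystem

variable {G : Type*} [Group G] {D : Set G}

/-- Conjugation table of the six transpositions `(12),(01),(02),(23),(13),(03)` of `S₄`. -/
def act6 : Fin 6 → Fin 6 → Fin 6 :=
  ![![0, 2, 1, 4, 3, 5], ![2, 1, 0, 3, 5, 4], ![1, 0, 2, 5, 4, 3], ![4, 1, 5, 3, 0, 2],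
    ![3, 5, 2, 0, 4, 1], ![0, 4, 3, 2, 1, 5]]

theorem act6_assoc :
    ∀ a a' v : Fin 6, act6 (act6 a a') v = act6 a (act6 a' (act6 a v)) := by decide

theorem fin6 : ∀ k : Fin 6, k = 0 ∨ k = 1 ∨ k = 2 ∨ k = 3 ∨ k = 4 ∨ k = 5 := by decide

theorem gen6 (T : Set (Fin 6)) (h0 : {i : Fin 6 | i = 0 ∨ i = 1 ∨ i = 3} ⊆ T)
    (hcl : ∀ i j, i ∈ T → j ∈ T → act6 i j ∈ T) : ∀ k, k ∈ T := by
  have m0 : (0 : Fin 6) ∈ T := h0 (Or.inl rfl)
  have m1 : (1 : Fin 6) ∈ T := h0 (Or.inr (Or.inl rfl))
  have m3 : (3 : Fin 6) ∈ T := h0 (Or.inr (Or.inr rfl))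
  have m2 : (2 : Fin 6) ∈ T := hcl 0 1 m0 m1
  have m4 : (4 : Fin 6) ∈ T := hcl 0 3 m0 m3
  have m5 : (5 : Fin 6) ∈ T := hcl 1 4 m1 m4
  intro k
  rcases fin6 k with rfl | rfl | rfl | rfl | rfl | rfl <;> assumption

/-- The six two-element subsets of `Fin 4`. -/
def lab6F : Fin 6 → Finset (Fin 4) := ![{1, 2}, {0, 1}, {0, 2}, {2, 3}, {1, 3}, {0, 3}]

theorem lab6F_card : ∀ i, (lab6F i).card = 2 := by decide

theorem lab6F_inj : ∀ i j : Fin 6, lab6F i = lab6F j → i = j := by decide

def lab6P (i : Fin 6) : DualAffinePoint := ⟨lab6F i, lab6F_card i⟩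

theorem lab6P_bij : Function.Bijective lab6P := by
  apply Function.Injective.bijective_of_nat_card_le
  · intro i j h
    exact lab6F_inj i j (congrArg Subtype.val h)
  · rw [Nat.card_eq_fintype_card, Nat.card_eq_fintype_card, Fintype.card_finset_len,
      Fintype.card_fin, Fintype.card_fin]
    decide

noncomputable def lab6 : Fin 6 ≃ DualAffinePoint := Equiv.ofBijective lab6P lab6P_bij

theorem dual_core1 : ∀ i j : Fin 6, i ≠ j → act6 i j ≠ j →
    ∃ k : Fin 4, ∀ t : Fin 6, (t = i ∨ t = j ∨ t = act6 i j) ↔ k ∉ lab6F t := by decide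

theorem dual_core2 : ∀ k : Fin 4, ∃ i j : Fin 6, i ≠ j ∧ act6 i j ≠ j ∧
    ∀ t : Fin 6, (t = i ∨ t = j ∨ t = act6 i j) ↔ k ∉ lab6F t := by decide

theorem dual_hM : ∀ m : Set DualAffinePoint, m ∈ dualAffinePlaneTwo ↔
    ∃ i j : Fin 6, i ≠ j ∧ act6 i j ≠ j ∧ m = lab6 '' {i, j, act6 i j} := by
  intro m
  have hlab : ∀ t, ((lab6 t : DualAffinePoint) : Finset (Fin 4)) = lab6F t := fun t => rfl
  have hset : ∀ (k : Fin 4) (i j : Fin 6),
      (∀ t : Fin 6, (t = i ∨ t = j ∨ t = act6 i j) ↔ k ∉ lab6F t) →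
      ({s : DualAffinePoint | k ∉ s.val} = lab6 '' {i, j, act6 i j}) := by
    intro k i j h
    ext s
    constructor
    · intro hs
      have hs' : k ∉ s.val := hs
      refine ⟨lab6.symm s, ?_, lab6.apply_symm_apply s⟩
      have h1 : k ∉ lab6F (lab6.symm s) := by
        rw [← hlab, lab6.apply_symm_apply]
        exact hs'
      exact (h (lab6.symm s)).mpr h1
    · rintro ⟨t, ht, rfl⟩
      have ht' : t = i ∨ t = j ∨ t = act6 i j := ht
      have h1 := (h t).mp ht'
      show k ∉ (lab6 t).val
      rw [hlab]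
      exact h1
  constructor
  · rintro ⟨k, rfl⟩
    obtain ⟨i, j, hij, hne, h⟩ := dual_core2 k
    exact ⟨i, j, hij, hne, hset k i j h⟩
  · rintro ⟨i, j, hij, hne, rfl⟩
    obtain ⟨k, h⟩ := dual_core1 i j hij hne
    show ∃ k' : Fin 4, lab6 '' {i, j, act6 i j} = {s : DualAffinePoint | k' ∉ s.val}
    exact ⟨k, (hset k i j h).symm⟩

/-- The six points of the dual affine plane spanned by `{p, b, pbp}` and `{p, c, pcp}` when
`b` and `c` commute. -/
def Q6 (p b c : G) : Fin 6 → G
  | 0 => p
  | 1 => b
  | 2 => p * b * p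
  | 3 => c
  | 4 => p * c * p
  | 5 => b * (p * c * p) * b

theorem dual_iso (hD : IsThreeTranspositionSet D) (hc : ∀ g : G, ∀ d ∈ D, g * d * g⁻¹ ∈ D)
    {p b c : G} (hp : p ∈ D) (hb : b ∈ D) (hcD : c ∈ D) (hpb : ¬ Commute p b)
    (hpc : ¬ Commute p c) (hbc : Commute b c) (hcb : c ≠ b) :
    Isomorphic (restrict (threeTranspositionLines D)
      (span (threeTranspositionLines D) (lineOf D p b ∪ lineOf D p c))) dualAffinePlaneTwo := by
  have hpp := mul_self_of_mem hD hp
  have hbb := mul_self_of_mem hD hb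
  have hcc := mul_self_of_mem hD hcD
  have hb' : p * b * p ∈ D := T_mem hD hc hp hb
  have hc' : p * c * p ∈ D := T_mem hD hc hp hcD
  have hq : b * (p * c * p) * b ∈ D := T_mem hD hc hb hc'
  have hbp : ¬ Commute b p := fun h => hpb h.symm
  have hcp : ¬ Commute c p := fun h => hpc h.symm
  have E1 : b * p * b = p * b * p := braid hD hb hp hbp
  have E2 : c * p * c = p * c * p := braid hD hcD hp hcp
  have E3 : b * c * b = c := by rw [hbc.eq, mul_assoc, hbb, mul_one]
  have E4 : c * b * c = b := by rw [← hbc.eq, mul_assoc, hcc, mul_one]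
  have hbc' : ¬ Commute b (p * c * p) := by
    intro h
    apply hbp
    have h1 : Commute b (c * (p * c * p) * c) := (hbc.mul_right h).mul_right hbc
    have e : c * (p * c * p) * c = p := by
      rw [← E2]
      exact T_T hD hcD p
    rwa [e] at h1
  have hcb'n : ¬ Commute c (p * b * p) := by
    intro h
    apply hbc'
    exact (commute_T_iff' hD hp b c).mp h.symm
  have h2 : c * (p * b * p) * c = b * (p * c * p) * b := by
    rw [← E1, conj3 hcc b p, E4, E2]
  have g0 : ∀ v : Fin 6, Q6 p b c 0 * Q6 p b c v * Q6 p b c 0 = Q6 p b c (act6 0 v) := by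
    intro v
    rcases fin6 v with rfl | rfl | rfl | rfl | rfl | rfl
    · show p * p * p = p
      rw [hpp, one_mul]
    · rfl
    · exact T_T hD hp b
    · rfl
    · exact T_T hD hp c
    · show p * (b * (p * c * p) * b) * p = b * (p * c * p) * b
      rw [conj3 hpp b (p * c * p), T_T hD hp c, conj3 hbb p c, E1, E3]
  have g1 : ∀ v : Fin 6, Q6 p b c 1 * Q6 p b c v * Q6 p b c 1 = Q6 p b c (act6 1 v) := by
    intro v
    rcases fin6 v with rfl | rfl | rfl | rfl | rfl | rfl
    · exact E1
    · show b * b * b = b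
      rw [hbb, one_mul]
    · show b * (p * b * p) * b = p
      rw [← E1]
      exact T_T hD hb p
    · exact E3
    · rfl
    · exact T_T hD hb (p * c * p)
  have g3 : ∀ v : Fin 6, Q6 p b c 3 * Q6 p b c v * Q6 p b c 3 = Q6 p b c (act6 3 v) := by
    intro v
    rcases fin6 v with rfl | rfl | rfl | rfl | rfl | rfl
    · exact E2
    · exact E4
    · exact h2
    · show c * c * c = c
      rw [hcc, one_mul]
    · show c * (p * c * p) * c = p
      rw [← E2]
      exact T_T hD hcD p
    · show c * (b * (p * c * p) * b) * c = p * b * p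
      rw [← h2]
      exact T_T hD hcD (p * b * p)
  have hact : ∀ a v : Fin 6,
      Q6 p b c a * Q6 p b c v * Q6 p b c a = Q6 p b c (act6 a v) := by
    have hT := gen6 {a : Fin 6 | ∀ v, Q6 p b c a * Q6 p b c v * Q6 p b c a = Q6 p b c (act6 a v)}
      (by
        rintro i (rfl | rfl | rfl)
        · exact g0
        · exact g1
        · exact g3)
      (by
        intro i j hi hj
        exact good_act (Q6 p b c) act6 hi hj (act6_assoc i j))
    intro a
    exact hT a
  have hinj : Function.Injective (Q6 p b c) := by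
    have n01 : p ≠ b := ne_of_not_commute hpb
    have n02 : p ≠ p * b * p := ne_of_not_commute (not_commute_T hD hp hpb)
    have n03 : p ≠ c := ne_of_not_commute hpc
    have n04 : p ≠ p * c * p := ne_of_not_commute (not_commute_T hD hp hpc)
    have n05 : p ≠ b * (p * c * p) * b := by
      intro h
      have h1 : b * p * b = p * c * p := by
        have h3 := T_T hD hb (p * c * p)
        rw [← h] at h3
        exact h3
      rw [E1] at h1
      exact hcb (mul_left_cancel (mul_right_cancel h1)).symm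
    have n12 : b ≠ p * b * p := ne_of_not_commute (not_commute_T' hD hp hb hpb)
    have n13 : b ≠ c := fun h => hcb h.symm
    have n14 : b ≠ p * c * p := ne_of_not_commute hbc'
    have n15 : b ≠ b * (p * c * p) * b := ne_of_not_commute (not_commute_T hD hb hbc')
    have n23 : p * b * p ≠ c := (ne_of_not_commute hcb'n).symm
    have n24 : p * b * p ≠ p * c * p := fun h =>
      hcb (mul_left_cancel (mul_right_cancel h)).symm
    have n25 : p * b * p ≠ b * (p * c * p) * b := by
      have h3 := ne_of_not_commute (not_commute_T' hD hcD hb' hcb'n)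
      rwa [h2] at h3
    have n34 : c ≠ p * c * p := ne_of_not_commute (not_commute_T' hD hp hcD hpc)
    have n35 : c ≠ b * (p * c * p) * b := by
      have h3 := ne_of_not_commute (not_commute_T hD hcD hcb'n)
      rwa [h2] at h3
    have n45 : p * c * p ≠ b * (p * c * p) * b :=
      ne_of_not_commute (not_commute_T' hD hb hc' hbc')
    intro i j hij
    rcases fin6 i with rfl | rfl | rfl | rfl | rfl | rfl <;>
      rcases fin6 j with rfl | rfl | rfl | rfl | rfl | rfl <;>
      first
        | rfl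
        | exact absurd hij n01 | exact absurd hij.symm n01
        | exact absurd hij n02 | exact absurd hij.symm n02
        | exact absurd hij n03 | exact absurd hij.symm n03
        | exact absurd hij n04 | exact absurd hij.symm n04
        | exact absurd hij n05 | exact absurd hij.symm n05
        | exact absurd hij n12 | exact absurd hij.symm n12
        | exact absurd hij n13 | exact absurd hij.symm n13
        | exact absurd hij n14 | exact absurd hij.symm n14
        | exact absurd hij n15 | exact absurd hij.symm n15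
        | exact absurd hij n23 | exact absurd hij.symm n23
        | exact absurd hij n24 | exact absurd hij.symm n24
        | exact absurd hij n25 | exact absurd hij.symm n25
        | exact absurd hij n34 | exact absurd hij.symm n34
        | exact absurd hij n35 | exact absurd hij.symm n35
        | exact absurd hij n45 | exact absurd hij.symm n45
  have hQD : ∀ i, Q6 p b c i ∈ D := by
    intro i
    rcases fin6 i with rfl | rfl | rfl | rfl | rfl | rfl
    · exact hp
    · exact hb
    · exact hb'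
    · exact hcD
    · exact hc'
    · exact hq
  have hU : ∀ u ∈ lineOf D p b ∪ lineOf D p c, ∃ i, Q6 p b c i = (u : G) := by
    rintro u ((h | h | h) | (h | h | h))
    · exact ⟨0, h.symm⟩
    · exact ⟨1, h.symm⟩
    · exact ⟨2, h.symm⟩
    · exact ⟨0, h.symm⟩
    · exact ⟨3, h.symm⟩
    · exact ⟨4, h.symm⟩
  have hI0 : ∀ i ∈ {i : Fin 6 | i = 0 ∨ i = 1 ∨ i = 3},
      (⟨Q6 p b c i, hQD i⟩ : D) ∈ lineOf D p b ∪ lineOf D p c := by
    rintro i (rfl | rfl | rfl)
    · exact Or.inl (Or.inl rfl)
    · exact Or.inl (Or.inr (Or.inl rfl))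
    · exact Or.inr (Or.inr (Or.inl rfl))
  exact plane_iso hD hc (Q6 p b c) act6 hQD hinj hact dualAffinePlaneTwo lab6 dual_hM
    (lineOf D p b ∪ lineOf D p c) {i : Fin 6 | i = 0 ∨ i = 1 ∨ i = 3} hU hI0 gen6

end Cfsg.Agent.Lib.Helper27.TT
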