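import Mathlib
import Cfsg.Prelude.Def_FischerSpaces
import Cfsg.Agent.Lib.Helper27.FischerBasic
import Cfsg.Agent.Lib.Helper27.TTPlaneDual
import Cfsg.Agent.Lib.Helper27.TTPlaneAffine

/-!
# The maps `t(x)` in the two model planes, and in a Fischer space (helper27)
-/

set_option autoImplicit false

namespace Cfsg.Agent.Lib.Helper27.FS

open Cfsg Cfsg.LineSystem Cfsg.Agent.Lib.Helper27.TT

/-! ### The affine plane of order three -/

theorem z3_line : ∀ v w α β γ : ZMod 3, α ≠ β → α ≠ γ → β ≠ γ →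
    v + γ * w = -(v + α * w) - (v + β * w) := by decide

theorem z3_third : ∀ a b : ZMod 3, -a - b = a + 2 * (b - a) := by decide

theorem z3_self : ∀ a : ZMod 3, a = -a - a := by decide

theorem z3_eq1 : ∀ a b : ZMod 3, a = -a - b → a = b := by decide

theorem z3_eq2 : ∀ a b : ZMod 3, b = -a - b → a = b := by decide

theorem z3_mp : ∀ x a b : ZMod 3, -x - (-a - b) = -(-x - a) - (-x - b) := by decide

theorem thirdA_iff (a b c : Fin 2 → ZMod 3) :
    Third affinePlaneThree a b c ↔ a ≠ b ∧ a ≠ c ∧ b ≠ c ∧ c = -a - b := by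
  constructor
  · rintro ⟨hab, hac, hbc, k, ⟨v, w, hw, rfl⟩, ⟨α, hα⟩, ⟨β, hβ⟩, ⟨γ, hγ⟩⟩
    refine ⟨hab, hac, hbc, ?_⟩
    have hαβ : α ≠ β := fun h => hab (by rw [hα, hβ, h])
    have hαγ : α ≠ γ := fun h => hac (by rw [hα, hγ, h])
    have hβγ : β ≠ γ := fun h => hbc (by rw [hβ, hγ, h])
    rw [hα, hβ, hγ]
    funext i
    exact z3_line (v i) (w i) α β γ hαβ hαγ hβγ
  · rintro ⟨hab, hac, hbc, hc⟩
    have hk : ({x | ∃ t : ZMod 3, x = a + t • (b - a)} : Set (Fin 2 → ZMod 3))
        ∈ affinePlaneThree := by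
      show ∃ v w : Fin 2 → ZMod 3, w ≠ 0 ∧
        ({x | ∃ t : ZMod 3, x = a + t • (b - a)} : Set (Fin 2 → ZMod 3))
          = {x | ∃ t : ZMod 3, x = v + t • w}
      exact ⟨a, b - a, sub_ne_zero.mpr (Ne.symm hab), rfl⟩
    refine ⟨hab, hac, hbc, _, hk, ⟨0, by rw [zero_smul, add_zero]⟩,
      ⟨1, by rw [one_smul, add_sub_cancel]⟩, ⟨2, ?_⟩⟩
    rw [hc]
    funext i
    exact z3_third (a i) (b i)

theorem tauA {x y y' : Fin 2 → ZMod 3} (h : Tau affinePlaneThree x y y') : y' = -x - y := by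
  rcases h with h | ⟨h1, h⟩
  · exact ((thirdA_iff x y y').mp h).2.2.2
  · rw [h1]
    by_cases hxy : x = y
    · rw [hxy]
      funext i
      exact z3_self (y i)
    · exfalso
      apply h
      refine ⟨-x - y, (thirdA_iff x y (-x - y)).mpr ⟨hxy, ?_, ?_, rfl⟩⟩
      · intro h2
        apply hxy
        funext i
        exact z3_eq1 (x i) (y i) (congrFun h2 i)
      · intro h2
        apply hxy
        funext i
        exact z3_eq2 (x i) (y i) (congrFun h2 i)

theorem MP_affine : ∀ x a b c a' b' c' : Fin 2 → ZMod 3, Third affinePlaneThree a b c →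
    Tau affinePlaneThree x a a' → Tau affinePlaneThree x b b' → Tau affinePlaneThree x c c' →
    Third affinePlaneThree a' b' c' := by
  intro x a b c a' b' c' hT ha hb hc
  rw [tauA ha, tauA hb, tauA hc]
  obtain ⟨hab, hac, hbc, hc'⟩ := (thirdA_iff a b c).mp hT
  rw [thirdA_iff]
  refine ⟨fun h => hab (sub_right_injective h), fun h => hac (sub_right_injective h),
    fun h => hbc (sub_right_injective h), ?_⟩
  rw [hc']
  funext i
  exact z3_mp (x i) (a i) (b i)

/-! ### The dual affine plane of order two -/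

/-- Collinear triples of the dual affine plane, in the labelling by `Fin 6`. -/
def T6 (i j k : Fin 6) : Prop :=
  i ≠ j ∧ i ≠ k ∧ j ≠ k ∧ ∃ n : Fin 4, n ∉ lab6F i ∧ n ∉ lab6F j ∧ n ∉ lab6F k

instance (i j k : Fin 6) : Decidable (T6 i j k) := by
  unfold T6
  infer_instance

theorem D1 : ∀ x y y' : Fin 6, (T6 x y y' ∨ (y' = y ∧ ¬ ∃ z, T6 x y z)) → y' = act6 x y := by
  decide

theorem D2 : ∀ x a b c : Fin 6, T6 a b c → T6 (act6 x a) (act6 x b) (act6 x c) := by
  decide

theorem thirdD_iff (i j k : Fin 6) :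
    Third dualAffinePlaneTwo (lab6 i) (lab6 j) (lab6 k) ↔ T6 i j k := by
  constructor
  · rintro ⟨hij, hik, hjk, l, ⟨n, rfl⟩, hi, hj, hk⟩
    exact ⟨fun h => hij (by rw [h]), fun h => hik (by rw [h]), fun h => hjk (by rw [h]),
      n, hi, hj, hk⟩
  · rintro ⟨hij, hik, hjk, n, hi, hj, hk⟩
    have hl : ({s : DualAffinePoint | n ∉ s.val} : Set DualAffinePoint) ∈ dualAffinePlaneTwo := by
      show ∃ i : Fin 4, ({s : DualAffinePoint | n ∉ s.val} : Set DualAffinePoint)
        = {s | i ∉ s.val}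
      exact ⟨n, rfl⟩
    exact ⟨lab6.injective.ne hij, lab6.injective.ne hik, lab6.injective.ne hjk, _, hl, hi, hj, hk⟩

theorem tauD {x y y' : Fin 6} (h : Tau dualAffinePlaneTwo (lab6 x) (lab6 y) (lab6 y')) :
    y' = act6 x y := by
  apply D1
  rcases h with h | ⟨h1, h⟩
  · exact Or.inl ((thirdD_iff x y y').mp h)
  · refine Or.inr ⟨lab6.injective h1, ?_⟩
    rintro ⟨z, hz⟩
    exact h ⟨lab6 z, (thirdD_iff x y z).mpr hz⟩

theorem MP_dual : ∀ x a b c a' b' c' : DualAffinePoint, Third dualAffinePlaneTwo a b c →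
    Tau dualAffinePlaneTwo x a a' → Tau dualAffinePlaneTwo x b b' →
    Tau dualAffinePlaneTwo x c c' → Third dualAffinePlaneTwo a' b' c' := by
  intro x a b c a' b' c' hT ha hb hc
  obtain ⟨x, rfl⟩ := lab6.surjective x
  obtain ⟨a, rfl⟩ := lab6.surjective a
  obtain ⟨b, rfl⟩ := lab6.surjective b
  obtain ⟨c, rfl⟩ := lab6.surjective c
  obtain ⟨a', rfl⟩ := lab6.surjective a'
  obtain ⟨b', rfl⟩ := lab6.surjective b'
  obtain ⟨c', rfl⟩ := lab6.surjective c'
  rw [tauD ha, tauD hb, tauD hc, thirdD_iff]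
  exact D2 x a b c ((thirdD_iff a b c).mp hT)

/-! ### Fischer spaces -/

variable {X : Type*} {L : Set (Set X)}

/-- In a Fischer space the maps `t(x)` send lines to lines. -/
theorem image_line (hL : IsFischerSpace L) (x : X) {k : Set X} (hk : k ∈ L) :
    lineMap L x '' k ∈ L := by
  obtain ⟨hPL, h3, hplane⟩ := hL
  by_cases hxk : x ∈ k
  · have hsub : lineMap L x '' k ⊆ k := by
      rintro _ ⟨y, hy, rfl⟩
      by_cases hxy : x = y
      · rw [← hxy, lineMap_of_not (fun ⟨z, hz⟩ => hz.1 rfl)]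
        exact hxk
      · obtain ⟨z, hz, hzk⟩ := exists_third_of_mem h3 hk hxk hy hxy
        rw [lineMap_of_third hPL h3 hz]
        exact hzk
    have heq : lineMap L x '' k = k := by
      apply Set.Subset.antisymm hsub
      intro y hy
      exact ⟨lineMap L x y, hsub ⟨y, hy, rfl⟩, lineMap_invol hPL h3 x y⟩
    rw [heq]
    exact hk
  · by_cases hcol : ∃ a ∈ k, ∃ z, Third L x a z
    · obtain ⟨a, hak, z, hz⟩ := hcol
      obtain ⟨hxa, hxz, haz, m, hm, hxm, ham, hzm⟩ := hz
      have hkm : k ≠ m := by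
        intro h
        apply hxk
        rw [h]
        exact hxm
      have hS := isSubspace_span (L := L) (k ∪ m)
      have hsubS := subset_span (L := L) (k ∪ m)
      have hxS : x ∈ span L (k ∪ m) := hsubS (Or.inr hxm)
      have hkS : k ⊆ span L (k ∪ m) := fun w hw => hsubS (Or.inl hw)
      rcases hplane k hk m hm hkm ⟨a, hak, ham⟩ with ⟨e, he⟩ | ⟨e, he⟩
      · exact image_line_of_model hPL h3 hS e he MP_dual hxS hk hkS
      · exact image_line_of_model hPL h3 hS e he MP_affine hxS hk hkS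
    · have heq : lineMap L x '' k = k := by
        ext w
        constructor
        · rintro ⟨y, hy, rfl⟩
          rw [lineMap_of_not (fun ⟨z, hz⟩ => hcol ⟨y, hy, z, hz⟩)]
          exact hy
        · intro hw
          exact ⟨w, hw, lineMap_of_not (fun ⟨z, hz⟩ => hcol ⟨w, hw, z, hz⟩)⟩
      rw [heq]
      exact hk

theorem third_image (hL : IsFischerSpace L) (x : X) {u v w : X} (h : Third L u v w) :
    Third L (lineMap L x u) (lineMap L x v) (lineMap L x w) := by
  have hinj : Function.Injective (lineMap L x) := by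
    intro s t hst
    rw [← lineMap_invol hL.1 hL.2.1 x s, ← lineMap_invol hL.1 hL.2.1 x t, hst]
  obtain ⟨huv, huw, hvw, k, hk, hu, hv, hw⟩ := h
  exact ⟨hinj.ne huv, hinj.ne huw, hinj.ne hvw, _, image_line hL x hk, ⟨u, hu, rfl⟩,
    ⟨v, hv, rfl⟩, ⟨w, hw, rfl⟩⟩

theorem tau_image (hL : IsFischerSpace L) (x : X) {y v w : X} (h : Tau L y v w) :
    Tau L (lineMap L x y) (lineMap L x v) (lineMap L x w) := by
  rcases h with h | ⟨h1, h2⟩
  · exact Or.inl (third_image hL x h)
  · refine Or.inr ⟨by rw [h1], ?_⟩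
    rintro ⟨z', hz'⟩
    apply h2
    have h3 := third_image hL x hz'
    rw [lineMap_invol hL.1 hL.2.1, lineMap_invol hL.1 hL.2.1] at h3
    exact ⟨_, h3⟩

/-- `t(t(x) y) ∘ t(x) = t(x) ∘ t(y)`. -/
theorem lineMap_conj (hL : IsFischerSpace L) (x y v : X) :
    lineMap L (lineMap L x y) (lineMap L x v) = lineMap L x (lineMap L y v) :=
  lineMap_eq_of_tau hL.1 hL.2.1 (tau_image hL x (tau_lineMap hL.1 hL.2.1 y v))

end Cfsg.Agent.Lib.Helper27.FS
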