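import Mathlib
import Cfsg.Prelude.Def_FusionComponents
import Cfsg.Agent.Lib.Helper27.GroupNormalExt
import Cfsg.Agent.Lib.Helper27.FusionRealizedSub

set_option autoImplicit false

/-! Passing a realization `ι : S →* G` of a fusion system (on a Sylow subgroup) to the quotient of `G` by
a normal `p'`-subgroup, and to a subgroup of `G` inducing the whole system. -/

namespace Cfsg.Agent.Lib.Helper27

open Cfsg Cfsg.FusionSystem Cfsg.Agent.H26
open scoped Pointwise

section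

variable {Ω : Type*} [Group Ω] {S : Subgroup Ω} {G : Type*} [Group G] [Finite G] {p : ℕ} [Fact p.Prime]

/-- The quotient by a normal `p'`-subgroup realizes the same fusion system. -/
theorem realized_quotient {F : FusionSystem S} {ι : S →* G} (hreal : F.IsRealizedBy ι) (Sy : Sylow p G)
    (hSy : (Sy : Subgroup G) = ι.range) (K : Subgroup G) [hKn : K.Normal] (hK : (Nat.card K).Coprime p) :
    F.IsRealizedBy ((QuotientGroup.mk' K).comp ι) ∧
      ∃ T : Sylow p (G ⧸ K), (T : Subgroup (G ⧸ K)) = ((QuotientGroup.mk' K).comp ι).range := by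
  classical
  have hdisj : (Sy : Subgroup G) ⊓ K = ⊥ := by
    obtain ⟨n, hn⟩ := IsPGroup.exists_card_eq (p := p) Sy.isPGroup'
    apply disjoint_iff.mp
    apply Subgroup.disjoint_of_coprime_natCard
    rw [hn]
    exact Nat.Coprime.pow_left n hK.symm
  have hmem1 : ∀ y : G, y ∈ (Sy : Subgroup G) → y ∈ K → y = 1 := by
    intro y h1 h2
    have : y ∈ (Sy : Subgroup G) ⊓ K := ⟨h1, h2⟩
    rw [hdisj] at this
    exact Subgroup.mem_bot.mp this
  have hιSy : ∀ s : S, ι s ∈ (Sy : Subgroup G) := fun s => by rw [hSy]; exact ⟨s, rfl⟩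
  refine ⟨⟨?_, ?_⟩, ?_⟩
  · -- injective
    rw [injective_iff_map_eq_one]
    intro s hs
    have h1 : ι s ∈ K := by
      have : (QuotientGroup.mk' K) (ι s) = 1 := hs
      exact (QuotientGroup.eq_one_iff _).mp this
    exact hreal.1 ((hmem1 _ (hιSy s) h1).trans (map_one ι).symm)
  · -- the maps
    intro P hP φ hφ
    constructor
    · intro h
      obtain ⟨g, hg⟩ := (hreal.2 P hP φ hφ).mp h
      refine ⟨QuotientGroup.mk' K g, fun x => ?_⟩
      show (QuotientGroup.mk' K) (ι ⟨φ x, hφ x⟩) = _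
      rw [hg x, map_mul, map_mul, map_inv]
      rfl
    · rintro ⟨gbar, hgbar⟩
      obtain ⟨g, rfl⟩ := QuotientGroup.mk'_surjective K gbar
      have hk : ∀ x : P, (ι ⟨φ x, hφ x⟩)⁻¹ * (g * ι ⟨x, hP x.2⟩ * g⁻¹) ∈ K := by
        intro x
        have h1 : (QuotientGroup.mk' K) (ι ⟨φ x, hφ x⟩) =
            (QuotientGroup.mk' K) (g * ι ⟨x, hP x.2⟩ * g⁻¹) := by
          rw [map_mul, map_mul, map_inv]
          exact hgbar x
        exact QuotientGroup.eq.mp h1
      -- the conjugate `g ι(P) g⁻¹`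
      set Q : Subgroup G := (((P.subgroupOf S).map ι).map (MulAut.conj g).toMonoidHom) with hQ
      have hQmem : ∀ x : P, g * ι ⟨x, hP x.2⟩ * g⁻¹ ∈ Q := by
        intro x
        exact ⟨ι ⟨x, hP x.2⟩, ⟨⟨x, hP x.2⟩, Subgroup.mem_subgroupOf.mpr x.2, rfl⟩, rfl⟩
      have hQp : IsPGroup p Q := by
        have h1 : IsPGroup p ((P.subgroupOf S).map ι) := by
          apply Sy.isPGroup'.to_le
          rintro _ ⟨s, -, rfl⟩
          exact hιSy s
        exact h1.map _
      have hQM : Q ≤ (Sy : Subgroup G) ⊔ K := by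
        rintro _ ⟨_, ⟨s, hs, rfl⟩, rfl⟩
        have hsP : (s : Ω) ∈ P := Subgroup.mem_subgroupOf.mp hs
        have h1 := hk ⟨s, hsP⟩
        have e : (MulAut.conj g).toMonoidHom (ι s) =
            ι ⟨φ ⟨s, hsP⟩, hφ _⟩ * ((ι ⟨φ ⟨s, hsP⟩, hφ _⟩)⁻¹ * (g * ι ⟨(s : Ω), hP hsP⟩ * g⁻¹)) := by
          show g * ι s * g⁻¹ = _
          group
        rw [e]
        exact Subgroup.mul_mem _ (le_sup_left (a := (Sy : Subgroup G)) (hιSy _))
          (le_sup_right (a := (Sy : Subgroup G)) h1)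
      have hmax : ∀ Q' : Subgroup G, IsPGroup p Q' → (Sy : Subgroup G) ≤ Q' →
          Q' ≤ (Sy : Subgroup G) ⊔ K → Q' = (Sy : Subgroup G) := fun Q' h1 h2 _ => Sy.is_maximal' h1 h2
      obtain ⟨m, hmM, hm⟩ := exists_conj_le_of_max (le_sup_left (a := (Sy : Subgroup G)) (b := K))
        Sy.isPGroup' hmax hQM hQp
      have hmM' : m ∈ ((Sy : Subgroup G) : Set G) * (K : Set G) := by
        rw [← Subgroup.mul_normal]
        exact hmM
      obtain ⟨s, hs, k, hkK, rfl⟩ := Set.mem_mul.mp hmM'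
      have hkQ : ∀ y ∈ Q, k * y * k⁻¹ ∈ (Sy : Subgroup G) := by
        intro y hy
        have h1 := hm y hy
        have e : k * y * k⁻¹ = s⁻¹ * (s * k * y * (s * k)⁻¹) * s := by group
        rw [e]
        exact Subgroup.mul_mem _ (Subgroup.mul_mem _ (Subgroup.inv_mem _ hs) h1) hs
      refine (hreal.2 P hP φ hφ).mpr ⟨k * g, fun x => ?_⟩
      set y := g * ι ⟨x, hP x.2⟩ * g⁻¹ with hy
      have h1 : k * y * k⁻¹ ∈ (Sy : Subgroup G) := hkQ y (hQmem x)
      have h2 : (ι ⟨φ x, hφ x⟩)⁻¹ * (k * y * k⁻¹) ∈ (Sy : Subgroup G) :=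
        Subgroup.mul_mem _ (Subgroup.inv_mem _ (hιSy _)) h1
      have h3 : (ι ⟨φ x, hφ x⟩)⁻¹ * (k * y * k⁻¹) ∈ K := by
        have e : (ι ⟨φ x, hφ x⟩)⁻¹ * (k * y * k⁻¹) =
            ((ι ⟨φ x, hφ x⟩)⁻¹ * y) * (y⁻¹ * k * y⁻¹⁻¹) * k⁻¹ := by group
        rw [e]
        exact K.mul_mem (K.mul_mem (hk x) (hKn.conj_mem k hkK y⁻¹)) (K.inv_mem hkK)
      have h4 := hmem1 _ h2 h3
      have h5 : ι ⟨φ x, hφ x⟩ = k * y * k⁻¹ := by
        have := congrArg (fun z => ι ⟨φ x, hφ x⟩ * z) h4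
        simpa using this.symm
      rw [h5, hy]
      group
  · refine ⟨Sy.mapSurjective (QuotientGroup.mk'_surjective K), ?_⟩
    rw [Sylow.coe_mapSurjective, hSy, MonoidHom.map_range]

omit [Finite G] [Fact p.Prime] in
/-- A subgroup containing the image of `S` and inducing every map of the system realizes it. -/
theorem realized_subgroup {F : FusionSystem S} {ι : S →* G} (hreal : F.IsRealizedBy ι) (Sy : Sylow p G)
    (hSy : (Sy : Subgroup G) = ι.range) (H : Subgroup G) (hle : ∀ s : S, ι s ∈ H)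
    (hH : ∀ (P : Subgroup Ω) (φ : P →* Ω), φ ∈ F.Hom P →
      ∃ g ∈ H, ∀ x : P, ext1 ι (φ x) = g * ext1 ι (x : Ω) * g⁻¹) :
    F.IsRealizedBy (ι.codRestrict H hle) ∧
      ∃ T : Sylow p H, (T : Subgroup H) = (ι.codRestrict H hle).range := by
  refine ⟨⟨?_, ?_⟩, ?_⟩
  · intro a b hab
    have : ι a = ι b := congrArg Subtype.val hab
    exact hreal.1 this
  · intro P hP φ hφ
    constructor
    · intro h
      obtain ⟨g, hgH, hg⟩ := hH P φ h
      refine ⟨⟨g, hgH⟩, fun x => Subtype.ext ?_⟩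
      show ι ⟨φ x, hφ x⟩ = g * ι ⟨x, hP x.2⟩ * g⁻¹
      have := hg x
      rw [ext1_of_mem ι (hφ x), ext1_of_mem ι (hP x.2)] at this
      exact this
    · rintro ⟨g, hg⟩
      refine (hreal.2 P hP φ hφ).mpr ⟨g, fun x => ?_⟩
      exact congrArg Subtype.val (hg x)
  · have hSyH : (Sy : Subgroup G) ≤ H := by
      rw [hSy]
      rintro _ ⟨s, rfl⟩
      exact hle s
    refine ⟨Sy.subtype hSyH, ?_⟩
    rw [Sylow.coe_subtype, hSy]
    ext y
    rw [Subgroup.mem_subgroupOf]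
    constructor
    · rintro ⟨s, hs⟩
      exact ⟨s, Subtype.ext hs⟩
    · rintro ⟨s, rfl⟩
      exact ⟨s, rfl⟩

end

end Cfsg.Agent.Lib.Helper27
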