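import Mathlib
import Cfsg.Prelude.Def_FusionComponents
import Cfsg.Agent.H26.Realized
import Cfsg.Agent.Lib.Helper27.FusionRealizedSub
import Cfsg.Agent.Lib.Helper27.FusionAlperin
import Cfsg.Agent.Lib.Helper27.FusionSemidirect

set_option autoImplicit false

/-! The fusion system of the semidirect product `T ⋊ A` on `T`, for a subgroup `A` of `Aut(T)`; it is
saturated when `T` is a finite `p`-group and `A` has order prime to `p`. -/

namespace Cfsg.Agent.Lib.Helper27

open Cfsg Cfsg.FusionSystem Cfsg.Agent.H26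

section

variable {Ω : Type*} [Group Ω] {T : Subgroup Ω}

/-- The fusion system of `T ⋊ A` on `T`. -/
def semidirectSysGen (T : Subgroup Ω) (A : Subgroup (MulAut T)) : FusionSystem T :=
  realizedBy (SemidirectProduct.inl : T →* T ⋊[A.subtype] A) SemidirectProduct.inl_injective

theorem mem_semidirectSysGen_hom (A : Subgroup (MulAut T)) {P : Subgroup Ω} (φ : P →* Ω) :
    φ ∈ (semidirectSysGen T A).Hom P ↔ ∃ hP : P ≤ T, ∃ t : T, ∃ c ∈ A,
      ∀ x : P, φ x = (t : Ω) * ((c ⟨x, hP x.2⟩ : T) : Ω) * (t : Ω)⁻¹ := by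
  constructor
  · rintro ⟨hP, hφT, g, hg⟩
    refine ⟨hP, g.left, g.right, g.right.2, fun x => ?_⟩
    have h1 := hg x
    rw [ext1_of_mem _ (hφT x), ext1_of_mem _ (hP x.2)] at h1
    have h2 : g = SemidirectProduct.inl g.left * SemidirectProduct.inr g.right :=
      (SemidirectProduct.inl_left_mul_inr_right g).symm
    have h3 : g * SemidirectProduct.inl (⟨x, hP x.2⟩ : T) * g⁻¹ =
        SemidirectProduct.inl (g.left * ((g.right : MulAut T) ⟨x, hP x.2⟩) * g.left⁻¹) := by
      rw [map_mul, map_mul, map_inv]
      have h4 := SemidirectProduct.inl_aut (φ := A.subtype) g.right (⟨x, hP x.2⟩ : T)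
      have h5 : (A.subtype g.right) = (g.right : MulAut T) := rfl
      rw [h5] at h4
      rw [h4]
      conv_lhs => rw [h2]
      simp only [mul_inv_rev, map_inv, mul_assoc]
    rw [h3] at h1
    have h6 := SemidirectProduct.inl_injective h1
    have h7 := congrArg (fun z : T => (z : Ω)) h6
    exact h7
  · rintro ⟨hP, t, c, hc, h⟩
    have hφT : ∀ x : P, φ x ∈ T := by
      intro x
      rw [h x]
      exact T.mul_mem (T.mul_mem t.2 (c _).2) (T.inv_mem t.2)
    refine ⟨hP, hφT, SemidirectProduct.inl t * SemidirectProduct.inr ⟨c, hc⟩, fun x => ?_⟩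
    rw [ext1_of_mem _ (hφT x), ext1_of_mem _ (hP x.2)]
    have h4 := SemidirectProduct.inl_aut (φ := A.subtype) ⟨c, hc⟩ (⟨x, hP x.2⟩ : T)
    have h5 : (A.subtype ⟨c, hc⟩) = c := rfl
    rw [h5] at h4
    have h8 : (⟨φ x, hφT x⟩ : T) = t * (c ⟨x, hP x.2⟩) * t⁻¹ := Subtype.ext (h x)
    rw [h8, map_mul, map_mul, map_inv, h4]
    simp only [mul_inv_rev, map_inv, mul_assoc]

/-- Every `c ∈ A` is an automorphism of `T` in the system of `T ⋊ A`. -/
theorem mem_autGroup_semidirectSysGen (A : Subgroup (MulAut T)) {c : MulAut T} (hc : c ∈ A) :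
    c ∈ (semidirectSysGen T A).autGroup T := by
  apply Subgroup.subset_closure
  show T.subtype.comp (c : T ≃* T).toMonoidHom ∈ (semidirectSysGen T A).Hom T
  rw [mem_semidirectSysGen_hom]
  refine ⟨le_refl T, 1, c, hc, fun x => ?_⟩
  simp

variable [Finite T] {p : ℕ} [Fact p.Prime]

/-- The system of `T ⋊ A` is saturated when `T` is a finite `p`-group and `A` has order prime to
`p`. -/
theorem semidirectSysGen_saturated (hT : IsPGroup p T) {A : Subgroup (MulAut T)}
    (hA : (Nat.card A).Coprime p) : (semidirectSysGen T A).IsSaturated p := by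
  classical
  have : Finite (MulAut T) := Finite.of_injective (fun e : MulAut T => (e : T → T))
    (fun a b h => MulEquiv.ext (fun x => congrFun h x))
  set G := T ⋊[A.subtype] A with hG
  have : Finite G := Finite.of_equiv _ (SemidirectProduct.equivProd (φ := A.subtype)).symm
  set ι : T →* G := SemidirectProduct.inl with hι
  have hcardG : Nat.card G = Nat.card T * Nat.card A := by
    rw [Nat.card_congr (SemidirectProduct.equivProd (φ := A.subtype)), Nat.card_prod]
  have hcardR : Nat.card ι.range = Nat.card T :=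
    (Nat.card_congr (MonoidHom.ofInjective SemidirectProduct.inl_injective).toEquiv).symm
  have hindex : ι.range.index = Nat.card A := by
    have h1 := Subgroup.index_mul_card ι.range
    rw [hcardR, hcardG, mul_comm] at h1
    exact Nat.eq_of_mul_eq_mul_left Nat.card_pos h1
  have hRp : IsPGroup p ι.range :=
    IsPGroup.of_surjective hT ι.rangeRestrict ι.rangeRestrict_surjective
  have hnd : ¬ p ∣ ι.range.index := by
    rw [hindex]
    intro hdvd
    have hp : p.Prime := Fact.out
    have := Nat.Coprime.eq_one_of_dvd hA.symm hdvd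
    exact hp.one_lt.ne' this
  exact realized_saturated (realizedBy_isRealizedBy ι SemidirectProduct.inl_injective)
    (hRp.toSylow hnd) rfl

end

end Cfsg.Agent.Lib.Helper27
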