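import Mathlib
import Cfsg.Agent.Lib.Helper27.FusionSmallElts

/-!
# Helper27: `p'`-automorphisms whose orbits on small elements are `S`-conjugacy orbits

`aut_fix_small_of_conj`: if `α` is a `p'`-automorphism of `R ≤ S`, `T` an `α`-invariant subgroup,
and for every small `x ∈ R ∩ T` the elements `α^k x` are `S`-conjugates of `x`, then `α` fixes every
small element of `R ∩ T` (induction along the upper central series of `S`).
-/

set_option autoImplicit false

namespace Cfsg.Agent.Lib.Helper27

section Restrict

variable {R : Type*} [Group R]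

/-- restriction of an automorphism to an invariant subgroup -/
def restrictAut (α : MulAut R) (X : Subgroup R) (h1 : ∀ u ∈ X, α u ∈ X)
    (h2 : ∀ u ∈ X, α⁻¹ u ∈ X) : MulAut X where
  toFun u := ⟨α u, h1 u u.2⟩
  invFun u := ⟨α⁻¹ u, h2 u u.2⟩
  left_inv u := Subtype.ext (MulAut.inv_apply_self _ α u)
  right_inv u := Subtype.ext (MulAut.apply_inv_self _ α u)
  map_mul' u v := Subtype.ext (map_mul α (u : R) (v : R))

theorem restrictAut_apply (α : MulAut R) (X : Subgroup R) (h1 : ∀ u ∈ X, α u ∈ X)
    (h2 : ∀ u ∈ X, α⁻¹ u ∈ X) (u : X) : ((restrictAut α X h1 h2 u : X) : R) = α u := rfl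

theorem restrictAut_pow (α : MulAut R) (X : Subgroup R) (h1 : ∀ u ∈ X, α u ∈ X)
    (h2 : ∀ u ∈ X, α⁻¹ u ∈ X) (k : ℕ) (u : X) :
    ((((restrictAut α X h1 h2) ^ k) u : X) : R) = (α ^ k) u := by
  induction k generalizing u with
  | zero => simp
  | succ k ih =>
    rw [pow_succ', pow_succ', MulAut.mul_apply, MulAut.mul_apply, restrictAut_apply, ih]

/-- the subgroup generated by the `⟨α⟩`-orbit of `x` -/
def orbClosure (α : MulAut R) (x : R) : Subgroup R :=
  Subgroup.closure {y : R | ∃ k : ℕ, y = (α ^ k) x}

theorem pow_mem_orbClosure (α : MulAut R) (x : R) (k : ℕ) : (α ^ k) x ∈ orbClosure α x :=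
  Subgroup.subset_closure ⟨k, rfl⟩

theorem self_mem_orbClosure (α : MulAut R) (x : R) : x ∈ orbClosure α x := by
  have := pow_mem_orbClosure α x 0
  simpa using this

theorem orbClosure_le (α : MulAut R) (x : R) {K : Subgroup R} (h : ∀ k : ℕ, (α ^ k) x ∈ K) :
    orbClosure α x ≤ K := by
  unfold orbClosure
  rw [Subgroup.closure_le]
  rintro _ ⟨k, rfl⟩
  exact h k

theorem orbClosure_map (α : MulAut R) (x : R) : ∀ u ∈ orbClosure α x, α u ∈ orbClosure α x := by
  have hle : orbClosure α x ≤ (orbClosure α x).comap α.toMonoidHom := by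
    apply orbClosure_le
    intro k
    show α ((α ^ k) x) ∈ orbClosure α x
    have h : α ((α ^ k) x) = (α ^ (k + 1)) x := by rw [pow_succ', MulAut.mul_apply]
    rw [h]
    exact pow_mem_orbClosure α x (k + 1)
  exact fun u hu => hle hu

theorem orbClosure_pow_map (α : MulAut R) (x : R) (k : ℕ) :
    ∀ u ∈ orbClosure α x, (α ^ k) u ∈ orbClosure α x := by
  induction k with
  | zero => intro u hu; simpa using hu
  | succ k ih =>
    intro u hu
    rw [pow_succ', MulAut.mul_apply]
    exact orbClosure_map α x _ (ih u hu)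

theorem orbClosure_inv_map (α : MulAut R) (x : R) {m : ℕ} (hm0 : m ≠ 0) (ham : α ^ m = 1) :
    ∀ u ∈ orbClosure α x, α⁻¹ u ∈ orbClosure α x := by
  have hinv : α⁻¹ = α ^ (m - 1) := by
    apply inv_eq_of_mul_eq_one_right
    rw [← pow_succ', Nat.sub_add_cancel (Nat.one_le_iff_ne_zero.mpr hm0), ham]
  intro u hu
  rw [hinv]
  exact orbClosure_pow_map α x _ u hu

theorem orbClosure_eqOn {G' : Type*} [Group G'] (α : MulAut R) (x : R) (f g : R →* G')
    (h : ∀ k : ℕ, f ((α ^ k) x) = g ((α ^ k) x)) : ∀ u ∈ orbClosure α x, f u = g u := by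
  have heq : Set.EqOn f g {y : R | ∃ k : ℕ, y = (α ^ k) x} := by
    rintro _ ⟨k, rfl⟩
    exact h k
  exact fun u hu => MonoidHom.eqOn_closure heq hu

end Restrict

open Cfsg

variable {Ω : Type*} [Group Ω] {S : Subgroup Ω}

/-- If the `⟨α⟩`-orbits of the small elements of `R ∩ T` consist of `S`-conjugates, the `p'`-automorphism
`α` of `R` fixes every small element of `R ∩ T`. -/
theorem aut_fix_small_of_conj [Finite S] {p : ℕ} [Fact p.Prime] (hS : IsPGroup p S)
    {R : Subgroup Ω} (hRS : R ≤ S) (α : MulAut R) {m : ℕ} (hm : m.Coprime p) (ham : α ^ m = 1)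
    (T : Subgroup Ω) (hTα : ∀ y : R, (y : Ω) ∈ T → ((α y : R) : Ω) ∈ T)
    (hconj : ∀ x : R, Small p x → (x : Ω) ∈ T → ∀ k : ℕ, ∃ s ∈ S,
      (((α ^ k) x : R) : Ω) = s * x * s⁻¹) :
    ∀ x : R, Small p x → (x : Ω) ∈ T → α x = x := by
  have hpR : IsPGroup p R :=
    hS.of_injective (Subgroup.inclusion hRS) (Subgroup.inclusion_injective hRS)
  have : Finite R := Finite.of_injective (Subgroup.inclusion hRS) (Subgroup.inclusion_injective hRS)
  have hm0 : m ≠ 0 := by
    rintro rfl
    have h1 : p = 1 := by simpa using hm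
    exact (Fact.out : p.Prime).ne_one h1
  have hTpow : ∀ (k : ℕ) (y : R), (y : Ω) ∈ T → (((α ^ k) y : R) : Ω) ∈ T := by
    intro k
    induction k with
    | zero => intro y hy; simpa using hy
    | succ k ih =>
      intro y hy
      rw [pow_succ', MulAut.mul_apply]
      exact hTα _ (ih y hy)
  have key : ∀ i : ℕ, ∀ x : R, Small p x → (x : Ω) ∈ T →
      Subgroup.inclusion hRS x ∈ Subgroup.upperCentralSeries S i → α x = x := by
    intro i
    induction i with
    | zero =>
      intro x _ _ hx
      rw [Subgroup.upperCentralSeries_zero, Subgroup.mem_bot] at hx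
      have hx1 : x = 1 := Subgroup.inclusion_injective hRS (by rw [hx, map_one])
      rw [hx1, map_one]
    | succ i ih =>
      intro x hxs hxT hxZ
      have h1 := orbClosure_map α x
      have h2 := orbClosure_inv_map α x hm0 ham
      have hXT : ∀ u ∈ orbClosure α x, ((u : R) : Ω) ∈ T := by
        have hle : orbClosure α x ≤ T.subgroupOf R := orbClosure_le α x (fun k => hTpow k x hxT)
        exact fun u hu => hle hu
      have hd : ∀ k : ℕ, QuotientGroup.mk' (Subgroup.upperCentralSeries S i)
          (Subgroup.inclusion hRS ((α ^ k) x)) =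
          QuotientGroup.mk' (Subgroup.upperCentralSeries S i) (Subgroup.inclusion hRS x) := by
        intro k
        obtain ⟨s, hs, hsx⟩ := hconj x hxs hxT k
        have e1 : Subgroup.inclusion hRS ((α ^ k) x) =
            (⟨s, hs⟩ : S) * Subgroup.inclusion hRS x * (⟨s, hs⟩ : S)⁻¹ := Subtype.ext hsx
        rw [e1]
        symm
        rw [QuotientGroup.mk'_apply, QuotientGroup.mk'_apply, QuotientGroup.eq]
        have h3 := (Subgroup.mem_upperCentralSeries_succ_iff).mp
          ((Subgroup.upperCentralSeries S (i + 1)).inv_mem hxZ) (⟨s, hs⟩ : S)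
        have e2 : (Subgroup.inclusion hRS x)⁻¹ *
            ((⟨s, hs⟩ : S) * Subgroup.inclusion hRS x * (⟨s, hs⟩ : S)⁻¹) =
            (Subgroup.inclusion hRS x)⁻¹ * (⟨s, hs⟩ : S) * ((Subgroup.inclusion hRS x)⁻¹)⁻¹ *
              (⟨s, hs⟩ : S)⁻¹ := by group
        rw [e2]
        exact h3
      have he : ∀ u ∈ orbClosure α x, (Subgroup.inclusion hRS u)⁻¹ * Subgroup.inclusion hRS (α u) ∈
          Subgroup.upperCentralSeries S i := by
        intro u hu
        have h4 := orbClosure_eqOn α x
          ((QuotientGroup.mk' (Subgroup.upperCentralSeries S i)).comp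
            ((Subgroup.inclusion hRS).comp α.toMonoidHom))
          ((QuotientGroup.mk' (Subgroup.upperCentralSeries S i)).comp (Subgroup.inclusion hRS))
          (by
            intro k
            show QuotientGroup.mk' (Subgroup.upperCentralSeries S i)
                (Subgroup.inclusion hRS (α ((α ^ k) x))) =
              QuotientGroup.mk' (Subgroup.upperCentralSeries S i)
                (Subgroup.inclusion hRS ((α ^ k) x))
            have h5 : α ((α ^ k) x) = (α ^ (k + 1)) x := by rw [pow_succ', MulAut.mul_apply]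
            rw [h5, hd, hd]) u hu
        have h6 : QuotientGroup.mk' (Subgroup.upperCentralSeries S i) (Subgroup.inclusion hRS u) =
            QuotientGroup.mk' (Subgroup.upperCentralSeries S i) (Subgroup.inclusion hRS (α u)) :=
          h4.symm
        rw [QuotientGroup.mk'_apply, QuotientGroup.mk'_apply, QuotientGroup.eq] at h6
        exact h6
      have hβm : (restrictAut α (orbClosure α x) h1 h2) ^ m = 1 := by
        refine MulEquiv.ext (fun u => Subtype.ext ?_)
        rw [restrictAut_pow, ham]
        rfl
      have hβ1 : restrictAut α (orbClosure α x) h1 h2 = 1 := by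
        apply mulAut_eq_one_of_fix_small_comm (hpR.to_subgroup (orbClosure α x)) _ hm hβm
        intro w hw hws
        have hwZ : Subgroup.inclusion hRS (w : R) ∈ Subgroup.upperCentralSeries S i := by
          have hle : Subgroup.closure {y : orbClosure α x | ∃ u : orbClosure α x,
              y = u⁻¹ * restrictAut α (orbClosure α x) h1 h2 u} ≤
              (Subgroup.upperCentralSeries S i).comap
                ((Subgroup.inclusion hRS).comp (orbClosure α x).subtype) := by
            rw [Subgroup.closure_le]
            rintro _ ⟨u, rfl⟩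
            rw [SetLike.mem_coe, Subgroup.mem_comap]
            have e : ((Subgroup.inclusion hRS).comp (orbClosure α x).subtype)
                (u⁻¹ * restrictAut α (orbClosure α x) h1 h2 u) =
                (Subgroup.inclusion hRS (u : R))⁻¹ * Subgroup.inclusion hRS (α (u : R)) := by
              rw [map_mul, map_inv]
              rfl
            rw [e]
            exact he u u.2
          exact hle hw
        have hsm : Small p (w : R) := small_map (orbClosure α x).subtype hws
        have h7 := ih (w : R) hsm (hXT _ w.2) hwZ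
        exact Subtype.ext h7
      have h8 : restrictAut α (orbClosure α x) h1 h2 ⟨x, self_mem_orbClosure α x⟩ =
          ⟨x, self_mem_orbClosure α x⟩ := by
        rw [hβ1]; rfl
      exact congrArg Subtype.val h8
  have : Group.IsNilpotent S := hS.isNilpotent
  obtain ⟨n, hn⟩ := Group.IsNilpotent.nilpotent (G := S)
  intro x hxs hxT
  exact key n x hxs hxT (by rw [hn]; exact Subgroup.mem_top _)

end Cfsg.Agent.Lib.Helper27
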