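import Mathlib

set_option autoImplicit false

/-! Abstract algebra used for the centralisers of elements of order 7 and 13 in `G₂(3)`:
polynomials in a matrix over `ZMod p`, Frobenius, idempotents, cyclic vectors. -/

namespace Cfsg.Agent.Lib.Helper27.G23Alg

open Polynomial Matrix

section Frob

variable {n : Type*} [Fintype n] [DecidableEq n] {p : ℕ} [Fact p.Prime]

theorem pow_prime_pow_eq_expand (q : (ZMod p)[X]) (k : ℕ) :
    q ^ (p ^ k) = expand (ZMod p) (p ^ k) q := by
  induction k with
  | zero => simp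
  | succ k ih =>
    rw [pow_succ, pow_mul, ih, mul_comm, expand_mul, ZMod.expand_card]

/-- Frobenius: `q(X)^(p^k) = q(X^(p^k))` for a matrix over the prime field. -/
theorem aeval_pow_prime_pow (A : Matrix n n (ZMod p)) (q : (ZMod p)[X]) (k : ℕ) :
    (aeval A q) ^ (p ^ k) = aeval (A ^ (p ^ k)) q := by
  rw [← map_pow, pow_prime_pow_eq_expand, expand_aeval]

end Frob

section Monoid

variable {M : Type*} [Monoid M]

theorem idem_pow {e : M} (hee : e * e = e) : ∀ a : ℕ, 0 < a → e ^ a = e := by
  intro a ha
  induction a with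
  | zero => omega
  | succ a ih =>
    rcases Nat.eq_zero_or_pos a with h | h
    · subst h; simp
    · rw [pow_succ, ih h, hee]

/-- an element of the corner of an idempotent `e` with `u ^ r = e`, `u ^ (m + 1) = u` and `r`, `m`
coprime equals `e` -/
theorem eq_idem_of_pow {u e : M} (hue : u * e = u) (heu : e * u = u) (hee : e * e = e)
    {r m : ℕ} (hr : 0 < r) (hm : 1 < m) (hur : u ^ r = e) (hum : u ^ (m + 1) = u)
    (hco : Nat.Coprime r m) : u = e := by
  have hpe : ∀ a : ℕ, 0 < a → u ^ a * e = u ^ a := by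
    intro a ha
    obtain ⟨b, rfl⟩ : ∃ b, a = b + 1 := ⟨a - 1, by omega⟩
    rw [pow_succ, mul_assoc, hue]
  have hm0 : u ^ m = e := by
    calc u ^ m = u ^ m * e := (hpe m (by omega)).symm
      _ = u ^ m * u ^ r := by rw [hur]
      _ = u ^ (m + 1) * u ^ (r - 1) := by
          rw [← pow_add, ← pow_add]; congr 1; omega
      _ = u * u ^ (r - 1) := by rw [hum]
      _ = u ^ r := by rw [← pow_succ']; congr 1; omega
      _ = e := hur
  obtain ⟨a, -, ha⟩ := Nat.exists_mul_mod_eq_one_of_coprime hco hm
  have ha0 : 0 < a := by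
    rcases Nat.eq_zero_or_pos a with h | h
    · subst h; simp at ha
    · exact h
  have hdm := Nat.div_add_mod (r * a) m
  rw [ha] at hdm
  have h1 : u ^ (r * a) = e := by rw [pow_mul, hur, idem_pow hee a ha0]
  have h2 : u ^ (m * (r * a / m) + 1) = u := by
    rw [pow_succ, pow_mul, hm0]
    rcases Nat.eq_zero_or_pos (r * a / m) with h | h
    · rw [h]; simp
    · rw [idem_pow hee _ h, heu]
  rw [hdm] at h2
  rw [← h2, h1]

end Monoid

section Field

variable {n : Type*} [Fintype n] [DecidableEq n] {K : Type*} [Field K]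

theorem commute_aeval (A : Matrix n n K) (q g : K[X]) : Commute (aeval A q) (aeval A g) :=
  (Commute.all q g).map (aeval A)

theorem commute_aeval_of_commute {A Y : Matrix n n K} (h : Commute Y A) (g : K[X]) :
    Commute Y (aeval A g) := by
  induction g using Polynomial.induction_on' with
  | add p q hp hq => rw [map_add]; exact hp.add_right hq
  | monomial k a =>
    rw [aeval_monomial]
    exact (Algebra.commute_algebraMap_right a Y).mul_right (h.pow_right k)

/-- square roots of an idempotent `e = g(A)` in `K[A] e`, when `f(A) e = 0` for an irreducible `f` -/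
theorem pm_of_sq {A e : Matrix n n K} {g f q : K[X]} (he : e = aeval A g) (hee : e * e = e)
    (he0 : e ≠ 0) (hf : Irreducible f) (hfe : aeval A f * e = 0)
    (hu : (aeval A q * e) * (aeval A q * e) = e) :
    aeval A q * e = e ∨ aeval A q * e = -e := by
  let J : Ideal K[X] :=
    { carrier := {r | aeval A r * e = 0}
      add_mem' := by
        intro a b ha hb
        show aeval A (a + b) * e = 0
        rw [map_add, add_mul, ha, hb, add_zero]
      zero_mem' := by
        show aeval A (0 : K[X]) * e = 0
        rw [map_zero, zero_mul]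
      smul_mem' := by
        intro c r hr
        show aeval A (c • r) * e = 0
        rw [smul_eq_mul, map_mul, mul_assoc, hr, mul_zero] }
  have hfJ : f ∈ J := hfe
  have hJtop : J ≠ ⊤ := by
    intro h
    apply he0
    have h1 : (1 : K[X]) ∈ J := by rw [h]; trivial
    have h2 : aeval A (1 : K[X]) * e = 0 := h1
    rwa [map_one, one_mul] at h2
  have hmax : (Ideal.span {f}).IsMaximal := PrincipalIdealRing.isMaximal_of_irreducible hf
  have hle : Ideal.span {f} ≤ J := (Ideal.span_singleton_le_iff_mem J).mpr hfJ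
  have hJ : Ideal.span {f} = J := hmax.eq_of_le hJtop hle
  have hprime : J.IsPrime := hJ ▸ hmax.isPrime
  have hc : Commute (aeval A q) e := by rw [he]; exact commute_aeval A q g
  have hmem : (q - 1) * (q + 1) ∈ J := by
    show aeval A ((q - 1) * (q + 1)) * e = 0
    have h1 : (q - 1) * (q + 1) = q * q - 1 := by ring
    rw [h1, map_sub, map_mul, map_one, sub_mul, one_mul]
    have h2 : aeval A q * aeval A q * e = (aeval A q * e) * (aeval A q * e) := by
      rw [mul_assoc, mul_assoc, ← mul_assoc e, ← hc.eq, mul_assoc, hee]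
    rw [h2, hu, sub_self]
  rcases hprime.mem_or_mem hmem with h | h
  · left
    have h1 : aeval A (q - 1) * e = 0 := h
    rw [map_sub, map_one, sub_mul, one_mul] at h1
    exact sub_eq_zero.mp h1
  · right
    have h1 : aeval A (q + 1) * e = 0 := h
    rw [map_add, map_one, add_mul, one_mul] at h1
    exact eq_neg_of_add_eq_zero_left h1

theorem vecMulVec_sandwich (w s : n → K) (B : Matrix n n K) :
    vecMulVec w s * B * vecMulVec w s = (s ⬝ᵥ (B *ᵥ w)) • vecMulVec w s := by
  ext i j
  simp only [Matrix.mul_apply, vecMulVec_apply, Matrix.smul_apply, smul_eq_mul, dotProduct,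
    Matrix.mulVec, Finset.sum_mul, Finset.mul_sum]
  rw [Finset.sum_comm]
  apply Finset.sum_congr rfl; intro a _
  apply Finset.sum_congr rfl; intro b _
  ring

/-- cyclic vector: an element commuting with `A` acts on the image of the idempotent `e` as a
polynomial in `A` -/
theorem exists_poly_of_cyclic {d : ℕ} (A Y e : Matrix n n K) (w s : n → K)
    (Mj : Fin d → Matrix n n K) (hAY : Commute Y A) (heY : Commute Y e)
    (hW : e * vecMulVec w s = vecMulVec w s)
    (hspan : e = ∑ j : Fin d, A ^ (j : ℕ) * vecMulVec w s * Mj j) :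
    ∃ q : K[X], Y * e = aeval A q * e := by
  set W := vecMulVec w s with hWdef
  let c : Fin d → K := fun j => s ⬝ᵥ ((Mj j * Y) *ᵥ w)
  let q : K[X] := ∑ j : Fin d, monomial (j : ℕ) (c j)
  have hq : aeval A q = ∑ j : Fin d, c j • A ^ (j : ℕ) := by
    simp only [q, map_sum, aeval_monomial, Algebra.algebraMap_eq_smul_one, smul_mul_assoc, one_mul]
  have hYW : Y * W = aeval A q * W := by
    calc Y * W = Y * (e * W) := by rw [hW]
      _ = e * (Y * W) := by rw [← mul_assoc, heY.eq, mul_assoc]
      _ = ∑ j : Fin d, A ^ (j : ℕ) * (W * (Mj j * Y) * W) := by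
          rw [hspan, Finset.sum_mul]
          apply Finset.sum_congr rfl; intro j _
          simp only [mul_assoc]
      _ = ∑ j : Fin d, A ^ (j : ℕ) * (c j • W) := by
          apply Finset.sum_congr rfl; intro j _
          rw [hWdef, vecMulVec_sandwich]
      _ = aeval A q * W := by
          rw [hq, Finset.sum_mul]
          apply Finset.sum_congr rfl; intro j _
          rw [mul_smul_comm, smul_mul_assoc]
  refine ⟨q, ?_⟩
  have hcomm : ∀ j : ℕ, Commute (aeval A q) (A ^ j) := by
    intro j
    have := commute_aeval A q (X ^ j)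
    rwa [map_pow, aeval_X] at this
  calc Y * e = ∑ j : Fin d, Y * (A ^ (j : ℕ) * W * Mj j) := by
        conv_lhs => rw [hspan]
        rw [Finset.mul_sum]
    _ = ∑ j : Fin d, aeval A q * (A ^ (j : ℕ) * W * Mj j) := by
        apply Finset.sum_congr rfl; intro j _
        have h1 : Commute Y (A ^ (j : ℕ)) := hAY.pow_right _
        rw [← mul_assoc, ← mul_assoc, h1.eq, mul_assoc (A ^ (j : ℕ)) Y W, hYW,
          ← mul_assoc (A ^ (j : ℕ)), ← (hcomm j).eq]
        simp only [mul_assoc]
    _ = aeval A q * e := by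
        rw [← Finset.mul_sum, ← hspan]

end Field

section Main

variable {n : Type*} [Fintype n] [DecidableEq n] {p : ℕ} [Fact p.Prime]

/-- an element of order prime to `p ^ k - 1` commuting with `A` acts trivially on the image of an
idempotent `e = g(A)` on which it acts as a polynomial in `A` -/
theorem act_eq_idem_of_coprime (A Y e : Matrix n n (ZMod p)) (g q : (ZMod p)[X]) (k r : ℕ)
    (he : e = aeval A g) (hee : e * e = e) (hAk : A ^ (p ^ k) = A) (hYe : Commute Y e)
    (hq : Y * e = aeval A q * e) (hr : 0 < r) (hYr : Y ^ r = 1) (hk : 1 < p ^ k - 1)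
    (hco : Nat.Coprime r (p ^ k - 1)) : Y * e = e := by
  have hue : (Y * e) * e = Y * e := by rw [mul_assoc, hee]
  have heu : e * (Y * e) = Y * e := by rw [← mul_assoc, ← hYe.eq, mul_assoc, hee]
  have hur : (Y * e) ^ r = e := by
    rw [hYe.mul_pow, hYr, one_mul, idem_pow hee r hr]
  have hum : (Y * e) ^ (p ^ k - 1 + 1) = Y * e := by
    have h1 : p ^ k - 1 + 1 = p ^ k := by omega
    rw [h1, hq, he, ← map_mul, aeval_pow_prime_pow, hAk]
  exact eq_idem_of_pow hue heu hee hr hk hur hum hco

/-- an involution commuting with `A` acts as `±1` on the image of an idempotent `e = g(A)` killed by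
an irreducible polynomial in `A`, when it acts there as a polynomial in `A` -/
theorem act_pm_of_two (A Y e : Matrix n n (ZMod p)) (g q f : (ZMod p)[X])
    (he : e = aeval A g) (hee : e * e = e) (he0 : e ≠ 0) (hf : Irreducible f)
    (hfe : aeval A f * e = 0) (hYe : Commute Y e)
    (hq : Y * e = aeval A q * e) (hY2 : Y * Y = 1) : Y * e = e ∨ Y * e = -e := by
  rw [hq]
  apply pm_of_sq he hee he0 hf hfe
  rw [← hq, mul_assoc, ← mul_assoc e, ← hYe.eq, mul_assoc, hee, ← mul_assoc, hY2, one_mul]

end Main

section Sign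

variable {n : Type*} [Fintype n] [DecidableEq n] {K : Type*} [Field K]

/-- multiplicativity of the signs of a bracket-preserving map along a bracket witness -/
theorem sign_mul (Y ea eb ec : Matrix n n K) (B : (n → K) → (n → K) → (n → K))
    (hB : ∀ u v, Y *ᵥ B u v = B (Y *ᵥ u) (Y *ᵥ v))
    (hBl : ∀ (c : K) u v, B (c • u) v = c • B u v) (hBr : ∀ (c : K) u v, B u (c • v) = c • B u v)
    (εa εb εc : K) (ha : Y * ea = εa • ea) (hb : Y * eb = εb • eb) (hc : Y * ec = εc • ec)
    (hcY : Commute Y ec) (u v : n → K) (hu : ea *ᵥ u = u) (hv : eb *ᵥ v = v)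
    (hw : ec *ᵥ B u v ≠ 0) : εc = εa * εb := by
  have hYu : Y *ᵥ u = εa • u := by
    conv_lhs => rw [← hu]
    rw [Matrix.mulVec_mulVec, ha, Matrix.smul_mulVec, hu]
  have hYv : Y *ᵥ v = εb • v := by
    conv_lhs => rw [← hv]
    rw [Matrix.mulVec_mulVec, hb, Matrix.smul_mulVec, hv]
  have h1 : Y *ᵥ B u v = (εa * εb) • B u v := by
    rw [hB, hYu, hYv, hBl, hBr, smul_smul]
  have h2 : ec *ᵥ (Y *ᵥ B u v) = εc • (ec *ᵥ B u v) := by
    rw [Matrix.mulVec_mulVec, ← hcY.eq, hc, Matrix.smul_mulVec]
  rw [h1, Matrix.mulVec_smul] at h2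
  have h3 : (εa * εb - εc) • (ec *ᵥ B u v) = 0 := by rw [sub_smul, h2, sub_self]
  rcases smul_eq_zero.mp h3 with h | h
  · exact (sub_eq_zero.mp h).symm
  · exact absurd h hw

end Sign

end Cfsg.Agent.Lib.Helper27.G23Alg
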