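import Cfsg.Agent.Lib.Helper4.TC.MatData

set_option autoImplicit false

/-! Additions to the list matrices `MatD`: zero, scalar matrices, powers, polynomial evaluation by
Horner's rule, with the translation to Mathlib's matrices and polynomials. -/

namespace Cfsg.Agent.Lib.Helper27.G23Mat

open Cfsg.Agent.Helper4.TC Polynomial

variable {n : ℕ} {R : Type} [CommRing R]

/-- the scalar matrix -/
def scal (c : R) : MatD n R := MatD.ofFn fun i j => if i = j then c else 0

/-- powers -/
def mpow (X : MatD n R) : ℕ → MatD n R
  | 0 => MatD.one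
  | k + 1 => (mpow X k).mul X

/-- evaluation of the polynomial with the given coefficients (constant term first) by Horner's rule -/
def evalP (X : MatD n R) : List R → MatD n R
  | [] => scal 0
  | c :: cs => (scal c).add (X.mul (evalP X cs))

/-- the polynomial with the given coefficients (constant term first) -/
noncomputable def polyOfList : List R → R[X]
  | [] => 0
  | c :: cs => C c + X * polyOfList cs

/-- sum of a list of matrices -/
def msum : List (MatD n R) → MatD n R
  | [] => scal 0
  | A :: As => A.add (msum As)

section ToMat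

variable {κ : Type} [Fintype κ] [DecidableEq κ] (ε : κ ≃ Fin n)

theorem toMatE_scal (c : R) : (scal c : MatD n R).toMatE ε = c • (1 : Matrix κ κ R) := by
  ext i j
  show (scal c : MatD n R).entry (ε i) (ε j) = _
  unfold scal
  rw [MatD.entry_ofFn _ _ _ (ε i).2 (ε j).2, Matrix.smul_apply, Matrix.one_apply]
  by_cases h : i = j
  · subst h; simp
  · have : ((ε i : Fin n) : ℕ) ≠ (ε j : Fin n) := fun h' => h (ε.injective (Fin.ext h'))
    rw [if_neg this, if_neg h]; simp

theorem toMatE_scal_zero : (scal 0 : MatD n R).toMatE ε = 0 := by
  rw [toMatE_scal, zero_smul]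

theorem toMatE_mpow (X : MatD n R) (k : ℕ) : (mpow X k).toMatE ε = (X.toMatE ε) ^ k := by
  induction k with
  | zero => rw [pow_zero]; exact MatD.toMatE_one ε
  | succ k ih => rw [pow_succ, ← ih]; exact MatD.toMatE_mul ε _ _

theorem toMatE_evalP (X : MatD n R) (cs : List R) :
    (evalP X cs).toMatE ε = aeval (X.toMatE ε) (polyOfList cs) := by
  induction cs with
  | nil =>
    show (scal 0 : MatD n R).toMatE ε = aeval (X.toMatE ε) (0 : R[X])
    rw [toMatE_scal_zero, map_zero]
  | cons c cs ih =>
    show ((scal c).add (X.mul (evalP X cs))).toMatE ε = aeval (X.toMatE ε) (C c + Polynomial.X * polyOfList cs)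
    rw [MatD.toMatE_add, MatD.toMatE_mul, ih, toMatE_scal, map_add, map_mul, aeval_C, aeval_X,
      Algebra.algebraMap_eq_smul_one]

theorem toMatE_msum (As : List (MatD n R)) :
    (msum As).toMatE ε = (As.map fun A => A.toMatE ε).sum := by
  induction As with
  | nil => exact toMatE_scal_zero ε
  | cons A As ih =>
    show (A.add (msum As)).toMatE ε = _
    rw [MatD.toMatE_add, ih, List.map_cons, List.sum_cons]

end ToMat

end Cfsg.Agent.Lib.Helper27.G23Mat
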