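import Cfsg.Agent.Lib.Helper27.G23Comp
import Cfsg.Agent.Lib.Helper27.G23Mat

set_option autoImplicit false

/-! Building components from list-matrix certificates; irreducibility of the polynomials used. -/

namespace Cfsg.Agent.Lib.Helper27.G23Build

open Polynomial Matrix Cfsg.Agent.Helper4.TC Cfsg.Agent.Lib.Helper27.G23Alg
  Cfsg.Agent.Lib.Helper27.G23Comp Cfsg.Agent.Lib.Helper27.G23Mat

abbrev D7 : Type := MatD 7 F3

/-- the trivial numbering -/
def εr : Fin 7 ≃ Fin 7 := Equiv.refl _

theorem list_sum_range_map {α : Type*} [AddCommMonoid α] (g : ℕ → α) (m : ℕ) :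
    ((List.range m).map g).sum = ∑ l : Fin m, g l := by
  rw [Fin.sum_univ_eq_sum_range (fun l => g l) m]
  induction m with
  | zero => simp
  | succ m ih =>
    rw [List.range_succ, List.map_append, List.sum_append, ih, Finset.sum_range_succ]; simp

theorem toMatE_span (XD WD eD : D7) (MjL : List D7) (d : ℕ)
    (h : eD = msum ((List.range d).map fun j =>
      ((mpow XD j).mul WD).mul (MjL.getD j (scal 0)))) :
    eD.toMatE εr = ∑ j : Fin d, (XD.toMatE εr) ^ (j : ℕ) * WD.toMatE εr *
      (MjL.getD j (scal 0)).toMatE εr := by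
  conv_lhs => rw [h]
  rw [toMatE_msum, List.map_map, list_sum_range_map]
  apply Finset.sum_congr rfl
  intro j _
  show (((mpow XD j).mul WD).mul (MjL.getD j (scal 0))).toMatE εr = _
  rw [MatD.toMatE_mul, MatD.toMatE_mul, toMatE_mpow]

/-- a component from its certificates -/
noncomputable def mkComp (XD eD WD : D7) (gL fL wL : List F3) (MjL : List D7) (d : ℕ)
    (h_eq : evalP XD gL = eD) (h_idem : eD.mul eD = eD)
    (h_fe : (evalP XD fL).mul eD = scal 0) (h_eW : eD.mul WD = WD)
    (h_span : eD = msum ((List.range d).map fun j =>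
      ((mpow XD j).mul WD).mul (MjL.getD j (scal 0))))
    (h_W : WD.toMatE εr = vecMulVec (fun a : Fin 7 => wL.getD a 0) (Pi.single 0 1))
    (h_ne : eD.toMatE εr ≠ 0) (h_irr : Irreducible (polyOfList fL)) : Comp (XD.toMatE εr) where
  g := polyOfList gL
  f := polyOfList fL
  e := eD.toMatE εr
  he := by rw [← h_eq, toMatE_evalP]
  hee := by rw [← MatD.toMatE_mul, h_idem]
  he0 := h_ne
  hf := h_irr
  hfe := by rw [← toMatE_evalP, ← MatD.toMatE_mul, h_fe, toMatE_scal_zero]
  d := d
  w := fun a : Fin 7 => wL.getD a 0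
  s := Pi.single 0 1
  Mj := fun j => (MjL.getD j (scal 0)).toMatE εr
  hW := by rw [← h_W, ← MatD.toMatE_mul, h_eW]
  hspan := by rw [← h_W]; exact toMatE_span XD WD eD MjL d h_span

/-! ### Irreducibility -/

/-- Horner evaluation -/
def hornerEval (x : F3) : List F3 → F3
  | [] => 0
  | c :: cs => c + x * hornerEval x cs

theorem eval_polyOfList (x : F3) (cs : List F3) : eval x (polyOfList cs) = hornerEval x cs := by
  induction cs with
  | nil => simp [polyOfList, hornerEval]
  | cons c cs ih => simp [polyOfList, hornerEval, ih]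

theorem irr_linear (a : F3) : Irreducible (polyOfList [a, 1]) := by
  have h : polyOfList [a, 1] = X + C a := by
    simp [polyOfList]; ring
  rw [h]
  exact irreducible_of_degree_eq_one (degree_X_add_C a)

theorem irr_cubic (a b c : F3) (hroot : ∀ x : F3, hornerEval x [a, b, c, 1] ≠ 0) :
    Irreducible (polyOfList [a, b, c, 1]) := by
  have h : polyOfList [a, b, c, 1] = X ^ 3 + C c * X ^ 2 + C b * X + C a := by
    simp [polyOfList]; ring
  apply irreducible_of_degree_le_three_of_not_isRoot
  · have hd : (polyOfList [a, b, c, 1]).natDegree = 3 := by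
      rw [h]; compute_degree!
    rw [hd]; decide
  · intro x hx
    apply hroot x
    rw [← eval_polyOfList]
    exact hx

theorem irr_phi7 : Irreducible (polyOfList ([1, 1, 1, 1, 1, 1, 1] : List F3)) := by
  have : Fact (Nat.Prime 3) := ⟨Nat.prime_three⟩
  have h : polyOfList ([1, 1, 1, 1, 1, 1, 1] : List F3) = cyclotomic 7 (ZMod 3) := by
    have : Fact (Nat.Prime 7) := ⟨by norm_num⟩
    rw [cyclotomic_prime]
    simp [polyOfList, Finset.sum_range_succ]
    ring
  rw [h]
  have h73 : ¬ 3 ∣ 7 := by norm_num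
  apply ZMod.irreducible_of_dvd_cyclotomic_of_natDegree h73 (dvd_refl _)
  rw [natDegree_cyclotomic, Nat.totient_prime (by norm_num : Nat.Prime 7)]
  symm
  rw [orderOf_eq_iff (by norm_num)]
  have key : ∀ k : ℕ, (ZMod.unitOfCoprime 3 ((Nat.Prime.coprime_iff_not_dvd Nat.prime_three).mpr h73)) ^ k = 1 ↔
      (3 : ZMod 7) ^ k = 1 := by
    intro k
    rw [Units.ext_iff, Units.val_pow_eq_pow_val, ZMod.coe_unitOfCoprime, Units.val_one]
    norm_num
  refine ⟨(key _).mpr (by decide), ?_⟩
  intro m hm hm0
  rw [Ne, key]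
  interval_cases m <;> decide

end Cfsg.Agent.Lib.Helper27.G23Build
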