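import Cfsg.Agent.Lib.Helper27.G23Alg

set_option autoImplicit false

/-! Components of a matrix `A` over `ZMod 3`: an idempotent polynomial in `A` whose image is a cyclic
module killed by an irreducible polynomial in `A`. -/

namespace Cfsg.Agent.Lib.Helper27.G23Comp

open Polynomial Matrix Cfsg.Agent.Lib.Helper27.G23Alg

abbrev F3 : Type := ZMod 3

abbrev M7 : Type := Matrix (Fin 7) (Fin 7) F3

/-- a component of `A` -/
structure Comp (A : M7) where
  g : F3[X]
  f : F3[X]
  e : M7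
  he : e = aeval A g
  hee : e * e = e
  he0 : e ≠ 0
  hf : Irreducible f
  hfe : aeval A f * e = 0
  d : ℕ
  w : Fin 7 → F3
  s : Fin 7 → F3
  Mj : Fin d → M7
  hW : e * vecMulVec w s = vecMulVec w s
  hspan : e = ∑ j : Fin d, A ^ (j : ℕ) * vecMulVec w s * Mj j

variable {A : M7}

theorem Comp.commute (c : Comp A) {Y : M7} (hYA : Commute Y A) : Commute Y c.e := by
  rw [c.he]
  exact commute_aeval_of_commute hYA c.g

theorem Comp.exists_poly (c : Comp A) {Y : M7} (hYA : Commute Y A) :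
    ∃ q : F3[X], Y * c.e = aeval A q * c.e :=
  exists_poly_of_cyclic A Y c.e c.w c.s c.Mj hYA (c.commute hYA) c.hW c.hspan

theorem Comp.act_coprime (c : Comp A) {Y : M7} (hYA : Commute Y A) (k r : ℕ)
    (hAk : A ^ (3 ^ k) = A) (hr : 0 < r) (hYr : Y ^ r = 1) (hk : 1 < 3 ^ k - 1)
    (hco : Nat.Coprime r (3 ^ k - 1)) : Y * c.e = c.e := by
  obtain ⟨q, hq⟩ := c.exists_poly hYA
  have : Fact (Nat.Prime 3) := ⟨Nat.prime_three⟩
  exact act_eq_idem_of_coprime A Y c.e c.g q k r c.he c.hee hAk (c.commute hYA) hq hr hYr hk hco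

theorem Comp.act_two (c : Comp A) {Y : M7} (hYA : Commute Y A) (hY2 : Y * Y = 1) :
    Y * c.e = c.e ∨ Y * c.e = -c.e := by
  obtain ⟨q, hq⟩ := c.exists_poly hYA
  have : Fact (Nat.Prime 3) := ⟨Nat.prime_three⟩
  exact act_pm_of_two A Y c.e c.g q c.f c.he c.hee c.he0 c.hf c.hfe (c.commute hYA) hq hY2

/-- the sign with which an involution acts on a component -/
theorem Comp.exists_sign (c : Comp A) {Y : M7} (hYA : Commute Y A) (hY2 : Y * Y = 1) :
    ∃ ε : F3, ε * ε = 1 ∧ Y * c.e = ε • c.e := by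
  rcases c.act_two hYA hY2 with h | h
  · exact ⟨1, by simp, by rw [h, one_smul]⟩
  · exact ⟨-1, by simp, by rw [h, neg_smul, one_smul]⟩

theorem sq_one_cases (ε : F3) (h : ε * ε = 1) : ε = 1 ∨ ε = -1 := by
  revert ε; decide

end Cfsg.Agent.Lib.Helper27.G23Comp
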