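import Cfsg.Agent.Lib.Helper8.ChevX9
import Cfsg.Agent.Lib.Helper8.ChevT1
import Cfsg.Agent.Lib.Helper27.G23Comp

set_option autoImplicit false
set_option maxRecDepth 100000

/-! The Chevalley group `G₂(3)` acting on the 7-dimensional ideal of its Lie algebra spanned by the
short root vectors: restriction of matrices, invariance, the bracket on the ideal. -/

namespace Cfsg.Agent.Lib.Helper27.G23Res

open Cfsg.Lie Matrix Cfsg.Agent.Lib.Helper8.Chev Cfsg.Agent.Lib.Helper27.G23Comp

abbrev Idx : Type := Cfsg.Lie.chevG2.Idx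

/-- numbering of the coordinates -/
def eps : Idx ≃ Fin 14 := (finSumFinEquiv : Fin 2 ⊕ Fin 12 ≃ Fin (2 + 12))

/-- the coordinates of the ideal: `h_a` and the six short root vectors -/
def ιN : Fin 7 → Fin 14 := ![0, 4, 5, 6, 9, 10, 11]

/-- the coordinates of the ideal -/
def ι (i : Fin 7) : Idx := eps.symm (ιN i)

theorem ι_inj : Function.Injective ι := by decide

theorem mem7 : chevG2 ∈ [chevG2, chevB2, chevD4, chevF4, chevE6, chevE7, chevE8] := by simp

/-- the matrix maps the ideal into itself -/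
def InvI (M : Matrix Idx Idx F3) : Prop :=
  ∀ k : Idx, (∀ i, ι i ≠ k) → ∀ b : Fin 7, M k (ι b) = 0

instance (M : Matrix Idx Idx F3) : Decidable (InvI M) := by unfold InvI; infer_instance

/-- restriction to the ideal -/
def res (M : Matrix Idx Idx F3) : Matrix (Fin 7) (Fin 7) F3 := M.submatrix ι ι

theorem res_one : res 1 = 1 := by
  ext a b
  simp only [res, submatrix_apply, Matrix.one_apply, ι_inj.eq_iff]

theorem res_mul (M N : Matrix Idx Idx F3) (hN : InvI N) : res (M * N) = res M * res N := by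
  ext a b
  simp only [res, submatrix_apply, Matrix.mul_apply]
  rw [← Finset.sum_image (s := Finset.univ) (g := ι) (f := fun k => M (ι a) k * N k (ι b))
    (ι_inj.injOn)]
  symm
  apply Finset.sum_subset (Finset.subset_univ _)
  intro k _ hk
  rw [hN k (fun i h => hk (Finset.mem_image.mpr ⟨i, Finset.mem_univ _, h⟩)), mul_zero]

theorem InvI_one : InvI 1 := by
  intro k hk b
  rw [Matrix.one_apply, if_neg (fun h => hk b h.symm)]

theorem InvI.mul {M N : Matrix Idx Idx F3} (hM : InvI M) (hN : InvI N) : InvI (M * N) := by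
  intro k hk b
  rw [Matrix.mul_apply]
  apply Finset.sum_eq_zero
  intro j _
  by_cases hj : ∃ c, ι c = j
  · obtain ⟨c, rfl⟩ := hj
    rw [hM k hk c, zero_mul]
  · rw [hN j (fun i h => hj ⟨i, h⟩) b, mul_zero]

/-- extension of a vector of the ideal by zero -/
def ext (u : Fin 7 → F3) : Idx → F3 := fun k => ∑ i, if ι i = k then u i else 0

theorem ext_ι (u : Fin 7 → F3) (a : Fin 7) : ext u (ι a) = u a := by
  unfold ext
  simp only [ι_inj.eq_iff]
  rw [Finset.sum_ite_eq' Finset.univ a u, if_pos (Finset.mem_univ _)]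

theorem ext_of_not (u : Fin 7 → F3) (k : Idx) (hk : ∀ i, ι i ≠ k) : ext u k = 0 := by
  unfold ext
  apply Finset.sum_eq_zero
  intro i _
  rw [if_neg (hk i)]

theorem ext_injective : Function.Injective ext := by
  intro u v h
  funext a
  rw [← ext_ι u a, ← ext_ι v a, h]

theorem ext_smul (c : F3) (u : Fin 7 → F3) : ext (c • u) = c • ext u := by
  funext k
  unfold ext
  rw [Pi.smul_apply, smul_eq_mul, Finset.mul_sum]
  apply Finset.sum_congr rfl
  intro i _
  split_ifs <;> simp

theorem mulVec_ext (M : Matrix Idx Idx F3) (hM : InvI M) (u : Fin 7 → F3) :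
    M *ᵥ ext u = ext (res M *ᵥ u) := by
  funext k
  have h1 : (M *ᵥ ext u) k = ∑ i, M k (ι i) * u i := by
    simp only [Matrix.mulVec, dotProduct, ext, Finset.mul_sum]
    rw [Finset.sum_comm]
    apply Finset.sum_congr rfl
    intro i _
    simp only [mul_ite, mul_zero]
    rw [Finset.sum_ite_eq Finset.univ (ι i) (fun j => M k j * u i), if_pos (Finset.mem_univ _)]
  rw [h1]
  by_cases hk : ∃ a, ι a = k
  · obtain ⟨a, rfl⟩ := hk
    rw [ext_ι]
    rfl
  · have hk' : ∀ i, ι i ≠ k := fun i h => hk ⟨i, h⟩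
    rw [ext_of_not _ k hk']
    apply Finset.sum_eq_zero
    intro i _
    rw [hM k hk' i, zero_mul]

/-- the ideal is closed under the bracket (on basis vectors) -/
theorem brB_closed : ∀ a b k : Idx, (∃ i, ι i = a) → (∃ i, ι i = b) → (∀ i, ι i ≠ k) →
    brB chevG2 F3 a b k = 0 := by decide +kernel

/-- the bracket on the ideal -/
def B7 (u v : Fin 7 → F3) : Fin 7 → F3 := fun i => br chevG2 F3 (ext u) (ext v) (ι i)

theorem br_ext (u v : Fin 7 → F3) : br chevG2 F3 (ext u) (ext v) = ext (B7 u v) := by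
  funext k
  by_cases hk : ∃ a, ι a = k
  · obtain ⟨a, rfl⟩ := hk
    rw [ext_ι]
    rfl
  · have hk' : ∀ i, ι i ≠ k := fun i h => hk ⟨i, h⟩
    rw [ext_of_not _ k hk']
    unfold br
    rw [Finset.sum_apply]
    apply Finset.sum_eq_zero
    intro a _
    rw [Finset.sum_apply]
    apply Finset.sum_eq_zero
    intro b _
    rw [Pi.smul_apply, smul_eq_mul]
    by_cases ha : ∃ i, ι i = a
    · by_cases hb : ∃ i, ι i = b
      · rw [brB_closed a b k ha hb hk', mul_zero]
      · rw [ext_of_not v b (fun i h => hb ⟨i, h⟩), mul_zero, zero_mul]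
    · rw [ext_of_not u a (fun i h => ha ⟨i, h⟩), zero_mul, zero_mul]

theorem B7_smul_left (c : F3) (u v : Fin 7 → F3) : B7 (c • u) v = c • B7 u v := by
  funext i
  unfold B7
  rw [ext_smul, br_smul_left]
  rfl

theorem B7_smul_right (c : F3) (u v : Fin 7 → F3) : B7 u (c • v) = c • B7 u v := by
  funext i
  unfold B7
  rw [ext_smul, br_smul_right]
  rfl

theorem res_B7 (M : Matrix Idx Idx F3) (hI : InvI M) (hP : PresBr chevG2 F3 M)
    (u v : Fin 7 → F3) : res M *ᵥ B7 u v = B7 (res M *ᵥ u) (res M *ᵥ v) := by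
  apply ext_injective
  rw [← mulVec_ext M hI, ← br_ext, hP, mulVec_ext M hI, mulVec_ext M hI, br_ext]

/-! ### The group -/

/-- the generators map the ideal into itself -/
theorem InvI_xMat : ∀ (r : Fin chevG2.nroots) (t : F3), InvI (chevG2.xMat F3 r t) := by decide +kernel

theorem xMat_eq_xN (r : Fin chevG2.nroots) (t : F3) : chevG2.xMat F3 r t = xN chevG2 F3 r.val t := by
  rw [xMat_eq_xR]
  unfold xN
  rw [dif_pos r.isLt]

/-- good matrices: mapping the ideal to itself and preserving the bracket -/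
def Good (M : Matrix Idx Idx F3) : Prop := InvI M ∧ PresBr chevG2 F3 M

theorem good_xMat (r : Fin chevG2.nroots) (t : F3) : Good (chevG2.xMat F3 r t) :=
  ⟨InvI_xMat r t, by
    rw [xMat_eq_xN]
    exact presBr_xN (validJ_of_mem mem7) (valid1_of_mem mem7) _ _⟩

theorem good_of_mem {g : GL Idx F3} (hg : g ∈ chevG2.group F3) :
    Good (g : Matrix Idx Idx F3) := by
  unfold ChevalleyDatum.group at hg
  induction hg using Subgroup.closure_induction'' with
  | mem x hx =>
    obtain ⟨r, t, h⟩ := hx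
    rw [h]
    exact good_xMat r t
  | inv_mem x hx =>
    obtain ⟨r, t, h⟩ := hx
    have h1 : (x : Matrix Idx Idx F3) * chevG2.xMat F3 r (-t) = 1 := by
      rw [h, xMat_eq_xN, xMat_eq_xN]
      exact xN_mul_neg (validJ_of_mem mem7).V (valid1_of_mem mem7) r.isLt t
    have h2 : ((x⁻¹ : GL Idx F3) : Matrix Idx Idx F3) = chevG2.xMat F3 r (-t) := by
      rw [Matrix.coe_units_inv]
      exact Matrix.inv_eq_right_inv h1
    rw [h2]
    exact good_xMat r (-t)
  | one => exact ⟨InvI_one, presBr_one⟩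
  | mul x y _ _ hx hy =>
    rw [Units.val_mul]
    exact ⟨hx.1.mul hy.1, hx.2.mul hy.2⟩

/-- restriction to the ideal, as a homomorphism -/
def resHom : ↥(chevG2.group F3) →* Matrix (Fin 7) (Fin 7) F3 where
  toFun g := res ((g : GL Idx F3) : Matrix Idx Idx F3)
  map_one' := res_one
  map_mul' g h := by
    show res (((g * h : ↥(chevG2.group F3)) : GL Idx F3) : Matrix Idx Idx F3) = _
    rw [Subgroup.coe_mul, Units.val_mul]
    exact res_mul _ _ (good_of_mem h.2).1

theorem resHom_apply (g : ↥(chevG2.group F3)) :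
    resHom g = res ((g : GL Idx F3) : Matrix Idx Idx F3) := rfl

theorem resHom_B7 (g : ↥(chevG2.group F3)) (u v : Fin 7 → F3) :
    resHom g *ᵥ B7 u v = B7 (resHom g *ᵥ u) (resHom g *ᵥ v) :=
  res_B7 _ (good_of_mem g.2).1 (good_of_mem g.2).2 u v

end Cfsg.Agent.Lib.Helper27.G23Res
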