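import Cfsg.Agent.Lib.Helper27.G23Build
import Cfsg.Agent.Lib.Helper27.G23Res

set_option autoImplicit false
set_option maxRecDepth 100000
set_option maxHeartbeats 0

/-! Certificates for an element of order 13 of `G₂(3)` restricted to the short-root ideal
(generated data; all checks by kernel evaluation), and the resulting statement on its centraliser. -/

namespace Cfsg.Agent.Lib.Helper27.G23D13

open Polynomial Matrix Cfsg.Agent.Helper4.TC Cfsg.Agent.Lib.Helper27.G23Alg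
  Cfsg.Agent.Lib.Helper27.G23Comp Cfsg.Agent.Lib.Helper27.G23Mat Cfsg.Agent.Lib.Helper27.G23Res
  Cfsg.Agent.Lib.Helper27.G23Build

/-- the element, restricted to the ideal -/
def XD : D7 := ⟨[1, 2, 2, 0, 2, 0, 0, 2, 0, 2, 2, 0, 1, 1, 1, 1, 1, 0, 0, 0, 2, 2, 1, 2, 1, 2, 0, 0, 0, 0, 1, 0, 1, 0, 0, 2, 2, 0, 2, 0, 1, 1, 2, 2, 0, 0, 0, 0, 1]⟩

/-- the element, restricted to the ideal, as a matrix -/
def X : M7 := XD.toMatE εr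

theorem XD_pow : mpow XD 13 = MatD.one := by decide +kernel

theorem X_pow : X ^ 13 = 1 := by
  unfold X
  rw [← toMatE_mpow, XD_pow, MatD.toMatE_one]

theorem X_ne_one : X ≠ 1 := by decide +kernel

theorem X_frob : X ^ (3 ^ 3) = X := by
  have h : (3 : ℕ) ^ 3 = 13 * 2 + 1 := by norm_num
  rw [h, pow_succ, pow_mul, X_pow, one_pow, one_mul]

/-! ### component 0 -/

def gL0 : List F3 := [2, 2, 1, 0, 1, 2, 2]
def fL0 : List F3 := [2, 1]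
def eD0 : D7 := ⟨[1, 0, 0, 2, 0, 0, 1, 2, 0, 0, 1, 0, 0, 2, 0, 0, 0, 0, 0, 0, 0, 0, 0, 0, 0, 0, 0, 0, 1, 0, 0, 2, 0, 0, 1, 0, 0, 0, 0, 0, 0, 0, 0, 0, 0, 0, 0, 0, 0]⟩
def wL0 : List F3 := [1, 2, 0, 0, 1, 0, 0]
def WD0 : D7 := ⟨[1, 0, 0, 0, 0, 0, 0, 2, 0, 0, 0, 0, 0, 0, 0, 0, 0, 0, 0, 0, 0, 0, 0, 0, 0, 0, 0, 0, 1, 0, 0, 0, 0, 0, 0, 0, 0, 0, 0, 0, 0, 0, 0, 0, 0, 0, 0, 0, 0]⟩
def MjL0 : List D7 := [⟨[1, 0, 0, 2, 0, 0, 1, 0, 0, 0, 0, 0, 0, 0, 0, 0, 0, 0, 0, 0, 0, 0, 0, 0, 0, 0, 0, 0, 0, 0, 0, 0, 0, 0, 0, 0, 0, 0, 0, 0, 0, 0, 0, 0, 0, 0, 0, 0, 0]⟩]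

theorem eD0_eq : evalP XD gL0 = eD0 := by decide +kernel
theorem eD0_idem : eD0.mul eD0 = eD0 := by decide +kernel
theorem fe0 : (evalP XD fL0).mul eD0 = scal 0 := by decide +kernel
theorem eW0 : eD0.mul WD0 = WD0 := by decide +kernel
theorem span0 : eD0 = msum ((List.range 1).map fun j =>
    ((mpow XD j).mul WD0).mul (MjL0.getD j (scal 0))) := by decide +kernel
theorem WD0_eq : WD0.toMatE εr =
    vecMulVec (fun a : Fin 7 => wL0.getD a 0) (Pi.single 0 1) := by decide +kernel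
theorem eD0_ne : eD0.toMatE εr ≠ 0 := by decide +kernel
theorem irr0 : Irreducible (polyOfList fL0) := irr_linear 2

/-- component 0 -/
noncomputable def c0 : Comp X :=
  mkComp XD eD0 WD0 gL0 fL0 wL0 MjL0 1 eD0_eq eD0_idem fe0 eW0 span0 WD0_eq eD0_ne irr0

/-! ### component 1 -/

def gL1 : List F3 := [1, 2, 0, 0, 1, 1, 1]
def fL1 : List F3 := [2, 0, 1, 1]
def eD1 : D7 := ⟨[0, 0, 0, 0, 0, 0, 0, 1, 1, 0, 1, 0, 0, 2, 0, 2, 0, 0, 2, 0, 0, 0, 0, 0, 0, 0, 1, 0, 2, 0, 0, 2, 1, 0, 1, 0, 0, 0, 0, 0, 1, 0, 0, 0, 0, 0, 0, 1, 0]⟩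
def wL1 : List F3 := [0, 1, 0, 0, 2, 0, 0]
def WD1 : D7 := ⟨[0, 0, 0, 0, 0, 0, 0, 1, 0, 0, 0, 0, 0, 0, 0, 0, 0, 0, 0, 0, 0, 0, 0, 0, 0, 0, 0, 0, 2, 0, 0, 0, 0, 0, 0, 0, 0, 0, 0, 0, 0, 0, 0, 0, 0, 0, 0, 0, 0]⟩
def MjL1 : List D7 := [⟨[1, 2, 0, 1, 1, 2, 2, 0, 0, 0, 0, 0, 0, 0, 0, 0, 0, 0, 0, 0, 0, 0, 0, 0, 0, 0, 0, 0, 0, 0, 0, 0, 0, 0, 0, 0, 0, 0, 0, 0, 0, 0, 0, 0, 0, 0, 0, 0, 0]⟩, ⟨[0, 1, 0, 0, 1, 1, 0, 0, 0, 0, 0, 0, 0, 0, 0, 0, 0, 0, 0, 0, 0, 0, 0, 0, 0, 0, 0, 0, 0, 0, 0, 0, 0, 0, 0, 0, 0, 0, 0, 0, 0, 0, 0, 0, 0, 0, 0, 0, 0]⟩, ⟨[0, 2, 0, 0, 2, 1, 0, 0, 0, 0, 0, 0, 0, 0, 0, 0, 0, 0, 0, 0, 0, 0, 0, 0, 0, 0, 0, 0, 0, 0, 0, 0, 0, 0, 0, 0, 0, 0, 0, 0, 0, 0, 0, 0, 0, 0, 0, 0, 0]⟩]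

theorem eD1_eq : evalP XD gL1 = eD1 := by decide +kernel
theorem eD1_idem : eD1.mul eD1 = eD1 := by decide +kernel
theorem fe1 : (evalP XD fL1).mul eD1 = scal 0 := by decide +kernel
theorem eW1 : eD1.mul WD1 = WD1 := by decide +kernel
theorem span1 : eD1 = msum ((List.range 3).map fun j =>
    ((mpow XD j).mul WD1).mul (MjL1.getD j (scal 0))) := by decide +kernel
theorem WD1_eq : WD1.toMatE εr =
    vecMulVec (fun a : Fin 7 => wL1.getD a 0) (Pi.single 0 1) := by decide +kernel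
theorem eD1_ne : eD1.toMatE εr ≠ 0 := by decide +kernel
theorem irr1 : Irreducible (polyOfList fL1) := irr_cubic 2 0 1 (by decide)

/-- component 1 -/
noncomputable def c1 : Comp X :=
  mkComp XD eD1 WD1 gL1 fL1 wL1 MjL1 3 eD1_eq eD1_idem fe1 eW1 span1 WD1_eq eD1_ne irr1

/-! ### component 2 -/

def gL2 : List F3 := [1, 2, 2, 0, 1]
def fL2 : List F3 := [2, 2, 0, 1]
def eD2 : D7 := ⟨[0, 0, 0, 1, 0, 0, 2, 0, 0, 0, 1, 0, 0, 2, 0, 1, 1, 0, 1, 0, 0, 0, 0, 0, 1, 0, 2, 0, 0, 0, 0, 2, 0, 0, 1, 0, 0, 0, 0, 0, 0, 0, 0, 0, 0, 0, 0, 2, 1]⟩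
def wL2 : List F3 := [0, 0, 1, 0, 0, 0, 0]
def WD2 : D7 := ⟨[0, 0, 0, 0, 0, 0, 0, 0, 0, 0, 0, 0, 0, 0, 1, 0, 0, 0, 0, 0, 0, 0, 0, 0, 0, 0, 0, 0, 0, 0, 0, 0, 0, 0, 0, 0, 0, 0, 0, 0, 0, 0, 0, 0, 0, 0, 0, 0, 0]⟩
def MjL2 : List D7 := [⟨[0, 1, 1, 1, 1, 0, 2, 0, 0, 0, 0, 0, 0, 0, 0, 0, 0, 0, 0, 0, 0, 0, 0, 0, 0, 0, 0, 0, 0, 0, 0, 0, 0, 0, 0, 0, 0, 0, 0, 0, 0, 0, 0, 0, 0, 0, 0, 0, 0]⟩, ⟨[0, 0, 0, 2, 0, 1, 0, 0, 0, 0, 0, 0, 0, 0, 0, 0, 0, 0, 0, 0, 0, 0, 0, 0, 0, 0, 0, 0, 0, 0, 0, 0, 0, 0, 0, 0, 0, 0, 0, 0, 0, 0, 0, 0, 0, 0, 0, 0, 0]⟩, ⟨[0, 0, 0, 0, 0, 1, 2, 0, 0, 0, 0, 0, 0, 0, 0, 0, 0, 0, 0, 0, 0, 0, 0, 0, 0, 0, 0, 0, 0, 0, 0, 0, 0, 0, 0, 0, 0, 0, 0, 0, 0, 0, 0, 0, 0, 0, 0, 0, 0]⟩]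

theorem eD2_eq : evalP XD gL2 = eD2 := by decide +kernel
theorem eD2_idem : eD2.mul eD2 = eD2 := by decide +kernel
theorem fe2 : (evalP XD fL2).mul eD2 = scal 0 := by decide +kernel
theorem eW2 : eD2.mul WD2 = WD2 := by decide +kernel
theorem span2 : eD2 = msum ((List.range 3).map fun j =>
    ((mpow XD j).mul WD2).mul (MjL2.getD j (scal 0))) := by decide +kernel
theorem WD2_eq : WD2.toMatE εr =
    vecMulVec (fun a : Fin 7 => wL2.getD a 0) (Pi.single 0 1) := by decide +kernel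
theorem eD2_ne : eD2.toMatE εr ≠ 0 := by decide +kernel
theorem irr2 : Irreducible (polyOfList fL2) := irr_cubic 2 2 0 (by decide)

/-- component 2 -/
noncomputable def c2 : Comp X :=
  mkComp XD eD2 WD2 gL2 fL2 wL2 MjL2 3 eD2_eq eD2_idem fe2 eW2 span2 WD2_eq eD2_ne irr2

theorem esumD : ((eD0.add eD1).add eD2) = MatD.one := by decide +kernel

theorem esum : c0.e + c1.e + c2.e = 1 := by
  show eD0.toMatE εr + eD1.toMatE εr + eD2.toMatE εr = 1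
  rw [← MatD.toMatE_add, ← MatD.toMatE_add, esumD, MatD.toMatE_one]

def u112 : Fin 7 → F3 := fun a => ([0, 1, 0, 0, 2, 0, 0] : List F3).getD a 0
def v112 : Fin 7 → F3 := fun a => ([0, 1, 2, 0, 0, 0, 0] : List F3).getD a 0
theorem wit112 : eD1.toMatE εr *ᵥ u112 = u112 ∧ eD1.toMatE εr *ᵥ v112 = v112 ∧
    eD2.toMatE εr *ᵥ B7 u112 v112 ≠ 0 := by decide +kernel

def u221 : Fin 7 → F3 := fun a => ([0, 0, 1, 0, 0, 0, 0] : List F3).getD a 0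
def v221 : Fin 7 → F3 := fun a => ([1, 1, 0, 1, 2, 0, 0] : List F3).getD a 0
theorem wit221 : eD2.toMatE εr *ᵥ u221 = u221 ∧ eD2.toMatE εr *ᵥ v221 = v221 ∧
    eD1.toMatE εr *ᵥ B7 u221 v221 ≠ 0 := by decide +kernel

def u120 : Fin 7 → F3 := fun a => ([0, 1, 0, 0, 2, 0, 0] : List F3).getD a 0
def v120 : Fin 7 → F3 := fun a => ([1, 1, 0, 1, 2, 0, 0] : List F3).getD a 0
theorem wit120 : eD1.toMatE εr *ᵥ u120 = u120 ∧ eD2.toMatE εr *ᵥ v120 = v120 ∧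
    eD0.toMatE εr *ᵥ B7 u120 v120 ≠ 0 := by decide +kernel

/-- a bracket-preserving matrix of order 2, 3, 7 commuting with the element is trivial -/
theorem cent (Y : M7) (hYA : Commute Y X) (hB : ∀ u v, Y *ᵥ B7 u v = B7 (Y *ᵥ u) (Y *ᵥ v))
    (r : ℕ) (hr : r = 2 ∨ r = 3 ∨ r = 7) (hYr : Y ^ r = 1) : Y = 1 := by
  have hY : Y = Y * c0.e + Y * c1.e + Y * c2.e := by
    rw [← mul_add, ← mul_add, esum, mul_one]
  have hm : (3 : ℕ) ^ 3 - 1 = 26 := by norm_num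
  have hodd : ∀ r : ℕ, 0 < r → Nat.Coprime r 26 → Y ^ r = 1 → Y = 1 := by
    intro r hr0 hco hYr
    rw [hY, c0.act_coprime hYA 3 r X_frob hr0 hYr (by norm_num) (by rw [hm]; exact hco), c1.act_coprime hYA 3 r X_frob hr0 hYr (by norm_num) (by rw [hm]; exact hco), c2.act_coprime hYA 3 r X_frob hr0 hYr (by norm_num) (by rw [hm]; exact hco), esum]
  rcases hr with rfl | rfl | rfl
  · have hY2 : Y * Y = 1 := by rw [← pow_two]; exact hYr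

    obtain ⟨ε0, hs0, h0⟩ := c0.exists_sign hYA hY2
    obtain ⟨ε1, hs1, h1⟩ := c1.exists_sign hYA hY2
    obtain ⟨ε2, hs2, h2⟩ := c2.exists_sign hYA hY2
    have k112 : ε2 = ε1 * ε1 :=
      sign_mul Y c1.e c1.e c2.e B7 hB B7_smul_left B7_smul_right ε1 ε1 ε2 h1 h1 h2
        (c2.commute hYA) u112 v112 wit112.1 wit112.2.1 wit112.2.2
    have k221 : ε1 = ε2 * ε2 :=
      sign_mul Y c2.e c2.e c1.e B7 hB B7_smul_left B7_smul_right ε2 ε2 ε1 h2 h2 h1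
        (c1.commute hYA) u221 v221 wit221.1 wit221.2.1 wit221.2.2
    have k120 : ε0 = ε1 * ε2 :=
      sign_mul Y c1.e c2.e c0.e B7 hB B7_smul_left B7_smul_right ε1 ε2 ε0 h1 h2 h0
        (c0.commute hYA) u120 v120 wit120.1 wit120.2.1 wit120.2.2
    have e2 : ε2 = 1 := by rw [k112, hs1]
    have e1 : ε1 = 1 := by rw [k221, hs2]
    have e0 : ε0 = 1 := by rw [k120, e1, e2, mul_one]
    rw [hY, h0, h1, h2, e0, e1, e2, one_smul, one_smul, one_smul, esum]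
  · exact hodd 3 (by norm_num) (by norm_num) hYr
  · exact hodd 7 (by norm_num) (by norm_num) hYr

end Cfsg.Agent.Lib.Helper27.G23D13
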