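import Cfsg.Agent.Lib.Helper27.G23Main

set_option autoImplicit false

/-! The prime graph of `G₂(3)`: prime divisors 2, 3, 7, 13 and the only edge `2 — 3`. -/

namespace Cfsg.Agent.Lib.Helper27.G23Fin

open Cfsg.Lie Cfsg.Agent.Lib.Helper27.G23Comp Cfsg.Agent.Lib.Helper27.G23Res
  Cfsg.Agent.Lib.Helper27.G23Main

/-- subgroups of prime order `p` are conjugate when `p ^ 2` does not divide the group order -/
theorem exists_conj_of_card_prime {H : Type*} [Group H] [Finite H] {p : ℕ} [Fact p.Prime]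
    (hp2 : ¬ p ^ 2 ∣ Nat.card H) (P Q : Subgroup H) (hP : Nat.card P = p) (hQ : Nat.card Q = p) :
    ∃ g : H, ∀ a ∈ P, g * a * g⁻¹ ∈ Q := by
  have hp : p.Prime := Fact.out
  have key : ∀ R : Subgroup H, Nat.card R = p → ∃ S : Sylow p H, R = (S : Subgroup H) := by
    intro R hR
    have hRp : IsPGroup p R := IsPGroup.of_card (n := 1) (by rw [hR, pow_one])
    obtain ⟨S, hRS⟩ := hRp.exists_le_sylow
    obtain ⟨k, hk⟩ := IsPGroup.iff_card.mp S.isPGroup'
    have hdvd : p ^ k ∣ Nat.card H := hk ▸ Subgroup.card_subgroup_dvd_card (S : Subgroup H)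
    have hk1 : k ≤ 1 := by
      by_contra hcon
      exact hp2 ((pow_dvd_pow p (by omega : 2 ≤ k)).trans hdvd)
    have hk0 : k ≠ 0 := by
      intro h0
      have h1 : Nat.card R ∣ Nat.card (S : Subgroup H) := Subgroup.card_dvd_of_le hRS
      rw [hR, hk, h0, pow_zero] at h1
      exact hp.one_lt.ne' (Nat.dvd_one.mp h1)
    have hS : Nat.card (S : Subgroup H) = p := by
      rw [hk, show k = 1 by omega, pow_one]
    exact ⟨S, Subgroup.eq_of_le_of_card_ge hRS (by rw [hS, hR])⟩
  obtain ⟨S, hS⟩ := key P hP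
  obtain ⟨T, hT⟩ := key Q hQ
  obtain ⟨g, hg⟩ := MulAction.exists_smul_eq H S T
  refine ⟨g, fun a ha => ?_⟩
  rw [hT, ← hg, Sylow.coe_subgroup_smul]
  rw [hS] at ha
  have := Subgroup.smul_mem_pointwise_smul a (MulAut.conj g) (S : Subgroup H) ha
  rwa [MulAut.smul_def, MulAut.conj_apply] at this

/-- no element of prime order `s` commutes with an element of order `p`, given the statement on
the centraliser of one element `xp` of order `p` -/
theorem no_comm (xp : ↥G) (p : ℕ) [Fact p.Prime] (hxp : orderOf xp = p)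
    (hp2 : ¬ p ^ 2 ∣ Nat.card ↥G) (s : ℕ) (hsp : s.Prime)
    (hcent : ∀ y : ↥G, Commute y xp → y ^ s = 1 → y = 1)
    (a b : ↥G) (ha : orderOf a = p) (hb : orderOf b = s) (hab : Commute a b) : False := by
  have hP : Nat.card (Subgroup.zpowers xp) = p := by rw [Nat.card_zpowers, hxp]
  have hQ : Nat.card (Subgroup.zpowers a) = p := by rw [Nat.card_zpowers, ha]
  obtain ⟨g, hg⟩ := exists_conj_of_card_prime hp2 _ _ hP hQ
  obtain ⟨k, hk⟩ := Subgroup.mem_zpowers_iff.mp (hg xp (Subgroup.mem_zpowers xp))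
  have h1 : Commute b (g * xp * g⁻¹) := by
    rw [← hk]; exact (hab.symm).zpow_right k
  have h2 : Commute (g⁻¹ * b * g) xp := by
    have := h1.eq
    show g⁻¹ * b * g * xp = xp * (g⁻¹ * b * g)
    calc g⁻¹ * b * g * xp = g⁻¹ * (b * (g * xp * g⁻¹)) * g := by group
      _ = g⁻¹ * ((g * xp * g⁻¹) * b) * g := by rw [this]
      _ = xp * (g⁻¹ * b * g) := by group
  have h3 : (g⁻¹ * b * g) ^ s = 1 := by
    have : g⁻¹ * b * g = g⁻¹ * b * g⁻¹⁻¹ := by rw [inv_inv]
    rw [this, conj_pow, ← hb, pow_orderOf_eq_one]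
    group
  have h4 := hcent _ h2 h3
  have h5 : b = 1 := by
    have : b = g * (g⁻¹ * b * g) * g⁻¹ := by group
    rw [this, h4]; group
  rw [h5, orderOf_one] at hb
  exact hsp.one_lt.ne' hb.symm

theorem not_sq_13 : ¬ 13 ^ 2 ∣ Nat.card ↥G := by rw [card_G]; norm_num

theorem not_sq_7 : ¬ 7 ^ 2 ∣ Nat.card ↥G := by rw [card_G]; norm_num

theorem no_comm13 (a b : ↥G) (ha : orderOf a = 13) (s : ℕ) (hs : s = 2 ∨ s = 3 ∨ s = 7)
    (hb : orderOf b = s) (hab : Commute a b) : False := by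
  haveI : Fact (Nat.Prime 13) := ⟨by norm_num⟩
  have hsp : s.Prime := by rcases hs with rfl | rfl | rfl <;> norm_num
  exact no_comm x13 13 orderOf_x13 not_sq_13 s hsp (fun y hy hys => cent13 y hy s hs hys)
    a b ha hb hab

theorem no_comm7 (a b : ↥G) (ha : orderOf a = 7) (s : ℕ) (hs : s = 2 ∨ s = 3)
    (hb : orderOf b = s) (hab : Commute a b) : False := by
  haveI : Fact (Nat.Prime 7) := ⟨by norm_num⟩
  have hsp : s.Prime := by rcases hs with rfl | rfl <;> norm_num
  exact no_comm x7 7 orderOf_x7 not_sq_7 s hsp (fun y hy hys => cent7 y hy s hs hys)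
    a b ha hb hab

theorem prime_dvd_card (r : ℕ) (hr : r.Prime) :
    r ∣ Nat.card ↥G ↔ r = 2 ∨ r = 3 ∨ r = 7 ∨ r = 13 := by
  rw [card_G]
  constructor
  · intro h
    have h1 : r ∣ 2 ^ 6 * 3 ^ 6 * 7 * 13 := by norm_num; exact h
    rcases (Nat.Prime.dvd_mul hr).mp h1 with h2 | h2
    · rcases (Nat.Prime.dvd_mul hr).mp h2 with h3 | h3
      · rcases (Nat.Prime.dvd_mul hr).mp h3 with h4 | h4
        · left
          exact (Nat.prime_dvd_prime_iff_eq hr Nat.prime_two).mp (hr.dvd_of_dvd_pow h4)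
        · right; left
          exact (Nat.prime_dvd_prime_iff_eq hr Nat.prime_three).mp (hr.dvd_of_dvd_pow h4)
      · right; right; left
        exact (Nat.prime_dvd_prime_iff_eq hr (by norm_num)).mp h3
    · right; right; right
      exact (Nat.prime_dvd_prime_iff_eq hr (by norm_num)).mp h2
  · rintro (rfl | rfl | rfl | rfl) <;> norm_num

theorem pairs (r s : ℕ) (hr : r.Prime) (hs : s.Prime) (hrs : r ≠ s) :
    (∃ x : ↥G, orderOf x = r * s) ↔ r * s = 6 := by
  constructor
  · rintro ⟨z, hz⟩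
    have hdvd : r * s ∣ Nat.card ↥G := hz ▸ orderOf_dvd_natCard z
    have hr' := (prime_dvd_card r hr).mp ((dvd_mul_right r s).trans hdvd)
    have hs' := (prime_dvd_card s hs).mp ((dvd_mul_left s r).trans hdvd)
    have ha : orderOf (z ^ s) = r := by
      rw [orderOf_pow_of_dvd hs.ne_zero (hz ▸ dvd_mul_left s r), hz,
        Nat.mul_div_cancel _ hs.pos]
    have hb : orderOf (z ^ r) = s := by
      rw [orderOf_pow_of_dvd hr.ne_zero (hz ▸ dvd_mul_right r s), hz,
        Nat.mul_div_cancel_left _ hr.pos]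
    have hab : Commute (z ^ s) (z ^ r) := (Commute.refl z).pow_pow s r
    rcases hr' with rfl | rfl | rfl | rfl <;> rcases hs' with rfl | rfl | rfl | rfl
    all_goals first
      | rfl
      | exact absurd rfl hrs
      | exact (no_comm13 _ _ ha _ (by norm_num) hb hab).elim
      | exact (no_comm13 _ _ hb _ (by norm_num) ha hab.symm).elim
      | exact (no_comm7 _ _ ha _ (by norm_num) hb hab).elim
      | exact (no_comm7 _ _ hb _ (by norm_num) ha hab.symm).elim
  · intro h
    exact ⟨z6, by rw [orderOf_z6, h]⟩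

end Cfsg.Agent.Lib.Helper27.G23Fin
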