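import Cfsg.Agent.Lib.Helper27.G23D13
import Cfsg.Agent.Lib.Helper27.G23D7
import Cfsg.Agent.S1055
import Cfsg.Agent.S1059

set_option autoImplicit false
set_option maxRecDepth 100000
set_option maxHeartbeats 0

/-! The Chevalley group `G₂(3)`: explicit elements of order 6, 7, 13; the elements of order 7 and
13 commute with no element of another prime order; consequently the products of two distinct primes
that are element orders are exactly `2 · 3`. -/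

namespace Cfsg.Agent.Lib.Helper27.G23Main

open Polynomial Matrix Cfsg.Lie Cfsg.Agent.Helper4.TC Cfsg.Agent.Lib.Helper8.Chev
  Cfsg.Agent.Lib.Helper27.G23Comp Cfsg.Agent.Lib.Helper27.G23Mat Cfsg.Agent.Lib.Helper27.G23Res
  Cfsg.Agent.Lib.Helper27.G23Build

/-- the group `G₂(3)` -/
abbrev G : Subgroup (GL Idx F3) := chevG2.group F3

/-! ### Root elements -/

theorem xMat_mul_neg (r : Fin chevG2.nroots) (t : F3) :
    chevG2.xMat F3 r t * chevG2.xMat F3 r (-t) = 1 := by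
  rw [xMat_eq_xN, xMat_eq_xN]
  exact xN_mul_neg (validJ_of_mem mem7).V (valid1_of_mem mem7) r.isLt t

theorem xMat_neg_mul (r : Fin chevG2.nroots) (t : F3) :
    chevG2.xMat F3 r (-t) * chevG2.xMat F3 r t = 1 := by
  rw [xMat_eq_xN, xMat_eq_xN]
  exact xN_neg_mul (validJ_of_mem mem7).V (valid1_of_mem mem7) r.isLt t

/-- root elements as units -/
def xU (r : Fin chevG2.nroots) (t : F3) : GL Idx F3 :=
  ⟨chevG2.xMat F3 r t, chevG2.xMat F3 r (-t), xMat_mul_neg r t, xMat_neg_mul r t⟩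

theorem xU_mem (r : Fin chevG2.nroots) (t : F3) : xU r t ∈ G :=
  Subgroup.subset_closure ⟨r, t, rfl⟩

/-- root elements in the group -/
def xG (r : Fin chevG2.nroots) (t : F3) : ↥G := ⟨xU r t, xU_mem r t⟩

theorem resHom_xG (r : Fin chevG2.nroots) (t : F3) :
    resHom (xG r t) = res (chevG2.xMat F3 r t) := rfl

/-! ### Restrictions of the root elements used -/

def R0 : D7 := ⟨[1, 0, 0, 0, 0, 0, 0, 0, 1, 0, 0, 0, 1, 0, 0, 0, 1, 0, 0, 0, 2, 0, 0, 0, 1, 0, 0, 0, 0, 0, 0, 0, 1, 0, 0, 0, 0, 0, 0, 0, 1, 0, 0, 0, 0, 0, 0, 0, 1]⟩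
theorem res_x0 : res (chevG2.xMat F3 ⟨0, by decide⟩ 1) = R0.toMatE εr := by decide +kernel

def R1 : D7 := ⟨[1, 0, 0, 0, 0, 0, 0, 0, 1, 0, 0, 1, 0, 0, 0, 0, 1, 0, 0, 0, 0, 0, 0, 0, 1, 0, 0, 2, 0, 0, 0, 0, 1, 0, 0, 0, 0, 0, 0, 0, 1, 0, 0, 0, 0, 0, 0, 0, 1]⟩
theorem res_x1 : res (chevG2.xMat F3 ⟨1, by decide⟩ 1) = R1.toMatE εr := by decide +kernel

def R3 : D7 := ⟨[1, 0, 0, 0, 0, 2, 0, 0, 1, 0, 1, 0, 0, 0, 2, 0, 1, 0, 0, 2, 0, 0, 0, 0, 1, 0, 0, 0, 0, 0, 0, 0, 1, 0, 2, 0, 0, 0, 0, 0, 1, 0, 0, 0, 0, 0, 0, 0, 1]⟩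
theorem res_x3 : res (chevG2.xMat F3 ⟨3, by decide⟩ 1) = R3.toMatE εr := by decide +kernel

def R4 : D7 := ⟨[1, 0, 0, 0, 2, 0, 0, 0, 1, 2, 0, 0, 0, 0, 0, 0, 1, 0, 0, 0, 0, 2, 0, 0, 1, 2, 0, 0, 0, 0, 0, 0, 1, 0, 0, 0, 0, 0, 0, 0, 1, 1, 0, 0, 0, 0, 0, 0, 1]⟩
theorem res_x4 : res (chevG2.xMat F3 ⟨4, by decide⟩ 1) = R4.toMatE εr := by decide +kernel

def R9 : D7 := ⟨[1, 2, 0, 0, 0, 0, 0, 0, 1, 0, 0, 0, 0, 0, 0, 0, 1, 0, 0, 0, 0, 0, 0, 0, 1, 0, 0, 0, 0, 0, 1, 0, 1, 0, 0, 0, 0, 0, 2, 0, 1, 0, 2, 2, 0, 0, 0, 0, 1]⟩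
theorem res_x9 : res (chevG2.xMat F3 ⟨9, by decide⟩ 1) = R9.toMatE εr := by decide +kernel

def R11 : D7 := ⟨[1, 0, 0, 0, 0, 0, 0, 0, 1, 0, 0, 0, 0, 0, 0, 0, 1, 0, 0, 0, 0, 0, 0, 0, 1, 0, 0, 0, 0, 0, 0, 0, 1, 0, 0, 0, 1, 0, 0, 0, 1, 0, 0, 0, 2, 0, 0, 0, 1]⟩
theorem res_x11 : res (chevG2.xMat F3 ⟨11, by decide⟩ 1) = R11.toMatE εr := by decide +kernel

def ZD : D7 := ⟨[1, 0, 0, 0, 0, 0, 0, 0, 0, 0, 0, 0, 2, 0, 0, 0, 0, 0, 0, 0, 1, 0, 0, 0, 1, 0, 0, 0, 0, 0, 0, 0, 1, 0, 0, 0, 1, 0, 0, 0, 1, 0, 0, 0, 2, 0, 0, 0, 1]⟩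
theorem prod13 : (R0.mul R4).mul R9 = G23D13.XD := by decide +kernel
theorem prod7 : ((R0.mul R1).mul R3).mul R11 = G23D7.XD := by decide +kernel
theorem prod6 : (R0.mul R0).mul R11 = ZD := by decide +kernel

/-- an element of order 13 -/
def x13 : ↥G := xG ⟨0, by decide⟩ 1 * xG ⟨4, by decide⟩ 1 * xG ⟨9, by decide⟩ 1

/-- an element of order 7 -/
def x7 : ↥G := xG ⟨0, by decide⟩ 1 * xG ⟨1, by decide⟩ 1 * xG ⟨3, by decide⟩ 1 * xG ⟨11, by decide⟩ 1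

/-- an element of order 6 -/
def z6 : ↥G := xG ⟨0, by decide⟩ 1 * xG ⟨0, by decide⟩ 1 * xG ⟨11, by decide⟩ 1

theorem res_x13 : resHom x13 = G23D13.X := by
  unfold x13
  rw [map_mul, map_mul, resHom_xG, resHom_xG, resHom_xG, res_x0, res_x4, res_x9,
    ← MatD.toMatE_mul, ← MatD.toMatE_mul, prod13]
  rfl

theorem res_x7 : resHom x7 = G23D7.X := by
  unfold x7
  rw [map_mul, map_mul, map_mul, resHom_xG, resHom_xG, resHom_xG, resHom_xG, res_x0, res_x1,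
    res_x3, res_x11, ← MatD.toMatE_mul, ← MatD.toMatE_mul, ← MatD.toMatE_mul, prod7]
  rfl

theorem res_z6 : resHom z6 = ZD.toMatE εr := by
  unfold z6
  rw [map_mul, map_mul, resHom_xG, resHom_xG, res_x0, res_x11,
    ← MatD.toMatE_mul, ← MatD.toMatE_mul, prod6]

/-! ### Faithfulness -/

theorem simpleG : IsSimpleGroup ↥G :=
  (Cfsg.Agent.S1055.result (F := F3) ⟨2, by decide, by decide⟩).1

theorem ker_resHom : resHom.ker = ⊥ := by
  haveI := simpleG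
  rcases (resHom.normal_ker).eq_bot_or_eq_top with h | h
  · exact h
  · exfalso
    have h1 : x13 ∈ resHom.ker := by rw [h]; trivial
    have h2 : resHom x13 = 1 := h1
    rw [res_x13] at h2
    exact G23D13.X_ne_one h2

theorem eq_one_of_res {g : ↥G} (h : resHom g = 1) : g = 1 := by
  have h1 : g ∈ resHom.ker := h
  rw [ker_resHom] at h1
  exact Subgroup.mem_bot.mp h1

theorem card_G : Nat.card ↥G = 4245696 := by
  have h := Cfsg.Agent.S1059.result (F := F3) (q := 3) (ZMod.card 3)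
  exact h.trans (by norm_num)

instance : Finite ↥G := Nat.finite_of_card_ne_zero (by rw [card_G]; norm_num)

/-! ### Orders -/

theorem orderOf_x13 : orderOf x13 = 13 := by
  haveI : Fact (Nat.Prime 13) := ⟨by norm_num⟩
  apply orderOf_eq_prime
  · apply eq_one_of_res
    rw [map_pow, res_x13, G23D13.X_pow]
  · intro h
    have h2 : resHom x13 = 1 := by rw [h, map_one]
    rw [res_x13] at h2
    exact G23D13.X_ne_one h2

theorem orderOf_x7 : orderOf x7 = 7 := by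
  haveI : Fact (Nat.Prime 7) := ⟨by norm_num⟩
  apply orderOf_eq_prime
  · apply eq_one_of_res
    rw [map_pow, res_x7, G23D7.X_pow]
  · intro h
    have h2 : resHom x7 = 1 := by rw [h, map_one]
    rw [res_x7] at h2
    exact G23D7.X_ne_one h2

theorem ZD_pow : mpow ZD 6 = MatD.one := by decide +kernel

theorem ZD_pow_ne : ∀ m : Fin 6, 0 < m.val → (mpow ZD m.val).toMatE εr ≠ (1 : M7) := by
  decide +kernel

theorem orderOf_z6 : orderOf z6 = 6 := by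
  rw [orderOf_eq_iff (by norm_num)]
  constructor
  · apply eq_one_of_res
    rw [map_pow, res_z6, ← toMatE_mpow, ZD_pow, MatD.toMatE_one]
  · intro m hm hm0 h
    have h2 : resHom (z6 ^ m) = 1 := by rw [h, map_one]
    rw [map_pow, res_z6, ← toMatE_mpow] at h2
    exact ZD_pow_ne ⟨m, hm⟩ hm0 h2

/-! ### Centralisers -/

theorem cent13 (y : ↥G) (hy : Commute y x13) (r : ℕ) (hr : r = 2 ∨ r = 3 ∨ r = 7)
    (hyr : y ^ r = 1) : y = 1 := by
  apply eq_one_of_res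
  apply G23D13.cent (resHom y) ?_ (resHom_B7 y) r hr ?_
  · rw [← res_x13]; exact hy.map resHom
  · rw [← map_pow, hyr, map_one]

theorem cent7 (y : ↥G) (hy : Commute y x7) (r : ℕ) (hr : r = 2 ∨ r = 3)
    (hyr : y ^ r = 1) : y = 1 := by
  apply eq_one_of_res
  apply G23D7.cent (resHom y) ?_ (resHom_B7 y) r hr ?_
  · rw [← res_x7]; exact hy.map resHom
  · rw [← map_pow, hyr, map_one]

end Cfsg.Agent.Lib.Helper27.G23Main
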