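import Cfsg.Agent.Lib.Helper27.G24Sem
import Cfsg.Agent.Lib.Helper8.ChevSt14
import Cfsg.Agent.S1059

/-!
# The action of `G₂(4)` on `416` points (helper27, for S5746)
-/

set_option autoImplicit false

namespace Cfsg.Agent.Lib.Helper27.G24

open Cfsg.Lie Cfsg.Agent.Lib.Helper8.Chev Cfsg.Agent.Lib.Helper28.BSGS

theorem hD7 : chevG2 ∈ [chevG2, chevB2, chevD4, chevF4, chevE6, chevE7, chevE8] := by simp

theorem hD3 : chevG2 ∈ [chevG2, chevF4, chevE8] := by simp

section

variable {F : Type*} [Field F]

theorem stHom_injective : Function.Injective (stHom hD7 F) := by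
  rw [← MonoidHom.ker_eq_bot_iff, stHom_ker hD7, st_center_eq_bot hD3]

/-- the Steinberg group of type `G₂` is the Chevalley group -/
noncomputable def stIso : chevG2.SteinbergGroup F ≃* ↥(chevG2.group F) :=
  MulEquiv.ofBijective (stHom hD7 F) ⟨stHom_injective, stHom_surjective hD7⟩

variable [Fintype F] (hF : Fintype.card F = 4)

/-- the permutation representation of the Steinberg group -/
noncomputable def phiSt : chevG2.SteinbergGroup F →* Equiv.Perm (Fin 416) :=
  stLift chevG2 (toE4 hF) rootPerm satRels

/-- the permutation representation of `G₂(4)` on `416` points -/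
noncomputable def phi : ↥(chevG2.group F) →* Equiv.Perm (Fin 416) :=
  (phiSt hF).comp (stIso (F := F)).symm.toMonoidHom

theorem rootPerm_mem_range (r : ℕ) (hr : r < 12) (c : E4) : rootPerm r c ∈ (phi hF).range := by
  refine ⟨stIso (chevG2.stGen F r ((toE4 hF).symm c)), ?_⟩
  show phiSt hF ((stIso (F := F)).symm (stIso (chevG2.stGen F r ((toE4 hF).symm c)))) = _
  rw [MulEquiv.symm_apply_apply]
  unfold phiSt
  rw [stLift_stGen _ _ _ _ r hr, RingEquiv.apply_symm_apply]

include hF in
theorem card_G : Nat.card ↥(chevG2.group F) = 251596800 := by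
  rw [Cfsg.Agent.S1059.result hF]
  norm_num

end

end Cfsg.Agent.Lib.Helper27.G24
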