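import Cfsg.Agent.Lib.Helper27.G24Rels
import Cfsg.Agent.Lib.Helper27.G24Data
import Cfsg.Agent.Lib.Helper11.IcoPermData

/-!
# Kernel checks of the certificate data (helper27, for S5746)
-/

set_option autoImplicit false
set_option maxRecDepth 100000

namespace Cfsg.Agent.Lib.Helper27.G24

open Cfsg.Agent.Lib.Helper28.BSGS

/-- tables are valid and equal to the products of the root tables along the words -/
def certOK (tabs : List (ℕ × ℕ)) (words : List (List (ℕ × E4))) : Bool :=
  gensOK 416 9 tabs && (tabs.length == words.length) &&
    (tabs.zip words).all fun p => wordEq 416 9 [p.1.1] (tbw p.2)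

/-- all generators fix the point `p` -/
def fixOK (tabs : List (ℕ × ℕ)) (p : ℕ) : Bool := tabs.all fun g => look 9 g.1 p == p

/-- `l ⊆ l'` -/
def subB (l l' : List ℕ) : Bool := l.all fun x => l'.contains x

/-- all entries are below `n` -/
def ltB (n : ℕ) (l : List ℕ) : Bool := l.all fun x => decide (x < n)

/-- `l` and `l'` have no common entry -/
def disjB (l l' : List ℕ) : Bool := l.all fun x => !l'.contains x

/-- the suborbit of length 100 -/
def listD : List ℕ := pβ :: (orbM0 ++ orbM1)

/-- the suborbit of length 315 -/
def listG : List ℕ := pγ :: (orbN0 ++ orbN1 ++ orbN2 ++ orbN3 ++ orbN4)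

/-- the list of all points, arranged by suborbits -/
def allPts : List ℕ := 0 :: (listD ++ listG)

/-- the restriction of the `k`-th involution to the suborbit of length 315 is the `k`-th generator of the
icosian permutation group -/
def restrOK (k : ℕ) : Bool :=
  (List.range 315).all fun i =>
    look 9 (zGens.getD k (0, 0)).1 (lab.getD i 0) ==
      lab.getD (look 9 (Cfsg.Agent.Lib.Helper11.Ico.PD.gens.getD k (0, 0)).1 i) 0

set_option maxHeartbeats 4000000 in
theorem tCert : certOK tGens tGensW = true := by decide +kernel

set_option maxHeartbeats 4000000 in
theorem zCert : certOK zGens zGensW = true := by decide +kernel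

set_option maxHeartbeats 4000000 in
theorem kCert : certOK kGens kGensW = true := by decide +kernel

set_option maxHeartbeats 4000000 in
theorem lCert : certOK lGens lGensW = true := by decide +kernel

theorem zFix0 : fixOK zGens 0 = true := by decide +kernel
theorem kFix0 : fixOK kGens 0 = true := by decide +kernel
theorem kFixβ : fixOK kGens pβ = true := by decide +kernel
theorem lFix0 : fixOK lGens 0 = true := by decide +kernel
theorem lFixγ : fixOK lGens pγ = true := by decide +kernel

set_option maxHeartbeats 4000000 in
theorem orbAll_ok : orbitOK 9 tGens [0] todoAll = true := by decide +kernel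

theorem orbD_ok : orbitOK 9 zGens [pβ] todoD = true := by decide +kernel

set_option maxHeartbeats 4000000 in
theorem orbG_ok : orbitOK 9 zGens [pγ] todoG = true := by decide +kernel

theorem orbM0_ok : orbitOK 9 kGens [orbM0.headD 0] orbM0.tail = true := by decide +kernel
theorem orbM1_ok : orbitOK 9 kGens [orbM1.headD 0] orbM1.tail = true := by decide +kernel
theorem orbN0_ok : orbitOK 9 lGens [orbN0.headD 0] orbN0.tail = true := by decide +kernel
theorem orbN1_ok : orbitOK 9 lGens [orbN1.headD 0] orbN1.tail = true := by decide +kernel
theorem orbN2_ok : orbitOK 9 lGens [orbN2.headD 0] orbN2.tail = true := by decide +kernel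
theorem orbN3_ok : orbitOK 9 lGens [orbN3.headD 0] orbN3.tail = true := by decide +kernel
theorem orbN4_ok : orbitOK 9 lGens [orbN4.headD 0] orbN4.tail = true := by decide +kernel

theorem allPts_cover : subB (List.range 416) allPts = true := by decide +kernel
theorem todoAll_cover : subB (List.range 416) (0 :: todoAll) = true := by decide +kernel
theorem allPts_lt : ltB 416 allPts = true := by decide +kernel
theorem lab_lt : ltB 416 lab = true := by decide +kernel

theorem nd_listD : nodupB listD = true := by decide +kernel
theorem nd_listG : nodupB listG = true := by decide +kernel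
theorem nd_lab : nodupB lab = true := by decide +kernel
theorem nd_orbM0 : nodupB orbM0 = true := by decide +kernel
theorem nd_orbM1 : nodupB orbM1 = true := by decide +kernel
theorem nd_orbN0 : nodupB orbN0 = true := by decide +kernel
theorem nd_orbN1 : nodupB orbN1 = true := by decide +kernel
theorem nd_orbN2 : nodupB orbN2 = true := by decide +kernel
theorem nd_orbN3 : nodupB orbN3 = true := by decide +kernel
theorem nd_orbN4 : nodupB orbN4 = true := by decide +kernel

theorem dj_0_D : disjB [0] listD = true := by decide +kernel
theorem dj_0_G : disjB [0] listG = true := by decide +kernel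
theorem dj_D_G : disjB listD listG = true := by decide +kernel
theorem dj_β_M0 : disjB [pβ] orbM0 = true := by decide +kernel
theorem dj_β_M1 : disjB [pβ] orbM1 = true := by decide +kernel
theorem dj_M0_M1 : disjB orbM0 orbM1 = true := by decide +kernel
theorem dj_γ_N0 : disjB [pγ] orbN0 = true := by decide +kernel
theorem dj_γ_N1 : disjB [pγ] orbN1 = true := by decide +kernel
theorem dj_γ_N2 : disjB [pγ] orbN2 = true := by decide +kernel
theorem dj_γ_N3 : disjB [pγ] orbN3 = true := by decide +kernel
theorem dj_γ_N4 : disjB [pγ] orbN4 = true := by decide +kernel
theorem dj_N0_N1 : disjB orbN0 orbN1 = true := by decide +kernel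
theorem dj_N0_N2 : disjB orbN0 orbN2 = true := by decide +kernel
theorem dj_N0_N3 : disjB orbN0 orbN3 = true := by decide +kernel
theorem dj_N0_N4 : disjB orbN0 orbN4 = true := by decide +kernel
theorem dj_N1_N2 : disjB orbN1 orbN2 = true := by decide +kernel
theorem dj_N1_N3 : disjB orbN1 orbN3 = true := by decide +kernel
theorem dj_N1_N4 : disjB orbN1 orbN4 = true := by decide +kernel
theorem dj_N2_N3 : disjB orbN2 orbN3 = true := by decide +kernel
theorem dj_N2_N4 : disjB orbN2 orbN4 = true := by decide +kernel
theorem dj_N3_N4 : disjB orbN3 orbN4 = true := by decide +kernel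

theorem subD : subB (orbM0 ++ orbM1) todoD = true := by decide +kernel
theorem subG : subB (orbN0 ++ orbN1 ++ orbN2 ++ orbN3 ++ orbN4) todoG = true := by decide +kernel

theorem lab_length : lab.length = 315 := by decide +kernel
theorem lab_sub : subB lab listG = true := by decide +kernel
theorem sub_lab : subB listG lab = true := by decide +kernel

theorem restr0 : restrOK 0 = true := by decide +kernel
theorem restr1 : restrOK 1 = true := by decide +kernel
theorem restr2 : restrOK 2 = true := by decide +kernel
theorem restr3 : restrOK 3 = true := by decide +kernel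

theorem lenM0 : orbM0.length = 36 := by decide +kernel
theorem lenM1 : orbM1.length = 63 := by decide +kernel
theorem lenN0 : orbN0.length = 10 := by decide +kernel
theorem lenN1 : orbN1.length = 32 := by decide +kernel
theorem lenN2 : orbN2.length = 32 := by decide +kernel
theorem lenN3 : orbN3.length = 80 := by decide +kernel
theorem lenN4 : orbN4.length = 160 := by decide +kernel
theorem lenD : listD.length = 100 := by decide +kernel
theorem lenG : listG.length = 315 := by decide +kernel

end Cfsg.Agent.Lib.Helper27.G24
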