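import Mathlib

/-!
# A concrete field with four elements (helper27, for S5746)

`E4` has elements `o = 0`, `i = 1`, `w = ω`, `v = ω² = ω + 1`; all operations are given by tables so
that the kernel can evaluate them.
-/

set_option autoImplicit false

namespace Cfsg.Agent.Lib.Helper27.G24

/-- the field with four elements -/
inductive E4 : Type
  | o | i | w | v
  deriving DecidableEq

namespace E4

instance : Fintype E4 := ⟨{E4.o, E4.i, E4.w, E4.v}, by intro x; cases x <;> decide⟩

/-- addition table -/
def add : E4 → E4 → E4
  | o, x => x
  | x, o => x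
  | i, i => o
  | i, w => v
  | i, v => w
  | w, i => v
  | w, w => o
  | w, v => i
  | v, i => w
  | v, w => i
  | v, v => o

/-- multiplication table -/
def mul : E4 → E4 → E4
  | o, _ => o
  | _, o => o
  | i, x => x
  | x, i => x
  | w, w => v
  | w, v => i
  | v, w => i
  | v, v => w

/-- inverse table -/
def inv : E4 → E4
  | o => o
  | i => i
  | w => v
  | v => w

instance : Add E4 := ⟨add⟩
instance : Mul E4 := ⟨mul⟩
instance : Zero E4 := ⟨o⟩
instance : One E4 := ⟨i⟩
instance : Neg E4 := ⟨id⟩
instance : Inv E4 := ⟨inv⟩

instance : CommRing E4 where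
  add_assoc := by decide
  zero_add := by decide
  add_zero := by decide
  add_comm := by decide
  neg_add_cancel := by decide
  left_distrib := by decide
  right_distrib := by decide
  zero_mul := by decide
  mul_zero := by decide
  mul_assoc := by decide
  one_mul := by decide
  mul_one := by decide
  mul_comm := by decide
  nsmul := nsmulRec
  zsmul := zsmulRec

instance : Field E4 where
  exists_pair_ne := ⟨o, i, by decide⟩
  mul_inv_cancel := by decide
  inv_zero := rfl
  nnqsmul := _
  nnqsmul_def := fun _ _ => rfl
  qsmul := _
  qsmul_def := fun _ _ => rfl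

theorem card_eq : Fintype.card E4 = 4 := rfl

/-- the code of an element: `0, 1, 2, 3` -/
def code : E4 → ℕ
  | o => 0
  | i => 1
  | w => 2
  | v => 3

/-- all elements -/
def all : List E4 := [o, i, w, v]

theorem mem_all (x : E4) : x ∈ all := by cases x <;> decide

theorem zero_def : (0 : E4) = o := rfl

end E4

/-- any field with four elements is isomorphic to `E4` -/
noncomputable def toE4 {F : Type*} [Field F] [Fintype F] (hF : Fintype.card F = 4) : F ≃+* E4 :=
  FiniteField.ringEquivOfCardEq (by rw [hF, E4.card_eq])

end Cfsg.Agent.Lib.Helper27.G24
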