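import Mathlib
import Cfsg.Prelude.Def_Steinberg

/-!
# Homomorphisms out of the Steinberg presentation, through a ring isomorphism (helper27, for S5746)

Given a ring isomorphism `e : F ≃+* K` and a family `f : ℕ → K → M` of elements of a group `M` satisfying
Steinberg's relations over `K`, the assignment `x̄_r(t) ↦ f r (e t)` kills all relators over `F`.
-/

set_option autoImplicit false

namespace Cfsg.Agent.Lib.Helper27.G24

open Cfsg.Lie

variable (D : ChevalleyDatum) {F : Type*} [Field F] {K : Type*} [Field K] (e : F ≃+* K)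
variable {M : Type*} [Group M] (f : ℕ → K → M)

/-- value of a word `[(r₁, t₁), (r₂, t₂), …]` under `f` -/
def evalWd (w : List (ℕ × K)) : M :=
  (w.map fun p => if p.1 < D.nroots then f p.1 p.2 else 1).prod

theorem evalWd_nil : evalWd D f [] = 1 := rfl

theorem evalWd_cons (p : ℕ × K) (w : List (ℕ × K)) :
    evalWd D f (p :: w) = (if p.1 < D.nroots then f p.1 p.2 else 1) * evalWd D f w := by
  unfold evalWd
  rw [List.map_cons, List.prod_cons]

theorem evalWd_append (w w' : List (ℕ × K)) :
    evalWd D f (w ++ w') = evalWd D f w * evalWd D f w' := by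
  unfold evalWd
  rw [List.map_append, List.prod_append]

/-- the generator map -/
def xOf (p : Fin D.nroots × F) : M := f p.1.val (e p.2)

theorem lift_stX' (r : ℕ) (t : F) :
    FreeGroup.lift (xOf D e f) (D.stX r t) = if r < D.nroots then f r (e t) else 1 := by
  unfold ChevalleyDatum.stX
  by_cases hr : r < D.nroots
  · rw [dif_pos hr, if_pos hr, FreeGroup.lift_apply_of]
    rfl
  · rw [dif_neg hr, if_neg hr, map_one]

theorem lift_stWord' (w : List (ℕ × F)) :
    FreeGroup.lift (xOf D e f) (D.stWord w) = evalWd D f (w.map fun p => (p.1, e p.2)) := by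
  unfold ChevalleyDatum.stWord
  induction w with
  | nil => simp [evalWd]
  | cons p w ih =>
    rw [List.map_cons, List.prod_cons, map_mul, ih, lift_stX', List.map_cons, evalWd_cons]

theorem commWord_map (r s : ℕ) (t u : F) :
    ((D.commWord F r s t u).map fun p => (p.1, e p.2)) = D.commWord K r s (e t) (e u) := by
  unfold ChevalleyDatum.commWord
  rw [List.map_map]
  apply List.map_congr_left
  intro c _
  simp only [Function.comp_apply, map_mul, map_pow, map_neg, map_intCast]

theorem nWord_map (r : ℕ) (t : F) :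
    ((D.nWord r t).map fun p => (p.1, e p.2)) = D.nWord r (e t) := by
  unfold ChevalleyDatum.nWord
  simp only [List.map_cons, List.map_nil, map_neg, map_inv₀]

theorem hWord_map (r : ℕ) (t : F) :
    ((D.hWord r t).map fun p => (p.1, e p.2)) = D.hWord r (e t) := by
  unfold ChevalleyDatum.hWord
  rw [List.map_append, nWord_map, nWord_map, map_neg, map_one]

/-- Steinberg's relations for the family `f` over `K` -/
structure SatRels : Prop where
  r1 : ∀ r, r < D.nroots → ∀ a b : K, f r a * f r b = f r (a + b)
  r2 : ∀ r s, r < D.nroots → s < D.nroots → s ≠ r → s ≠ D.neg r → ∀ t u : K,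
    (f s u)⁻¹ * (f r t)⁻¹ * f s u * f r t = evalWd D f (D.commWord K r s t u)
  r3 : ∀ r, r < D.nroots → ∀ a b : K, a ≠ 0 → b ≠ 0 →
    evalWd D f (D.hWord r a) * evalWd D f (D.hWord r b) = evalWd D f (D.hWord r (a * b))

theorem lift_rels' (h : SatRels D f) :
    ∀ g ∈ D.steinbergRels F, FreeGroup.lift (xOf D e f) g = 1 := by
  intro g hg
  rcases hg with (⟨r, t₁, t₂, hr, rfl⟩ | ⟨r, s, t, u, hr, hs, h1, h2, rfl⟩) |
    ⟨r, t₁, t₂, hr, h1, h2, rfl⟩
  · rw [map_mul, map_mul, map_inv, mul_inv_eq_one, lift_stX', lift_stX', lift_stX', if_pos hr,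
      if_pos hr, if_pos hr, h.r1 r hr, map_add]
  · rw [map_mul, map_mul, map_mul, map_mul, map_inv, map_inv, map_inv, mul_inv_eq_one, lift_stX',
      lift_stX', if_pos hr, if_pos hs, lift_stWord', commWord_map, h.r2 r s hr hs h1 h2]
  · unfold ChevalleyDatum.stH
    rw [map_mul, map_mul, map_inv, mul_inv_eq_one, lift_stWord', lift_stWord', lift_stWord',
      hWord_map, hWord_map, hWord_map, map_mul,
      h.r3 r hr (e t₁) (e t₂) (by simpa using h1) (by simpa using h2)]

/-- the homomorphism from the presented group -/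
noncomputable def stLift (h : SatRels D f) : D.SteinbergGroup F →* M :=
  PresentedGroup.toGroup (lift_rels' D e f h)

theorem stLift_stGen (h : SatRels D f) (r : ℕ) (hr : r < D.nroots) (t : F) :
    stLift D e f h (D.stGen F r t) = f r (e t) := by
  have : stLift D e f h (D.stGen F r t) = FreeGroup.lift (xOf D e f) (D.stX r t) := rfl
  rw [this, lift_stX', if_pos hr]

end Cfsg.Agent.Lib.Helper27.G24
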