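import Cfsg.Agent.Lib.Helper27.G24Sem
import Cfsg.Agent.Lib.Helper27.G24Chk

/-!
# From the Boolean certificates to group-theoretic facts (helper27, for S5746)
-/

set_option autoImplicit false

namespace Cfsg.Agent.Lib.Helper27.G24

open Cfsg.Lie Cfsg.Agent.Lib.Helper28.BSGS MulAction

/-! ## lists -/

theorem subB_spec {l l' : List ℕ} (h : subB l l' = true) : ∀ x ∈ l, x ∈ l' := by
  unfold subB at h
  rw [List.all_eq_true] at h
  intro x hx
  have := h x hx
  simpa using this

theorem ltB_spec {n : ℕ} {l : List ℕ} (h : ltB n l = true) : ∀ x ∈ l, x < n := by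
  unfold ltB at h
  rw [List.all_eq_true] at h
  intro x hx
  simpa using h x hx

theorem exists_zip_of_mem {α β : Type*} : ∀ (l₁ : List α) (l₂ : List β), l₁.length = l₂.length →
    ∀ a ∈ l₁, ∃ b, (a, b) ∈ l₁.zip l₂
  | [], _, _, a, ha => by simp at ha
  | x :: l₁, [], h, _, _ => by simp at h
  | x :: l₁, y :: l₂, h, a, ha => by
    rcases List.mem_cons.mp ha with rfl | ha'
    · exact ⟨y, by simp⟩
    · obtain ⟨b, hb⟩ := exists_zip_of_mem l₁ l₂ (by simpa using h) a ha'
      exact ⟨b, by simp [hb]⟩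

/-! ## finite sets of points given by lists -/

/-- the set of points with numbers in the list -/
def fs (L : List ℕ) : Finset (Fin 416) := (L.map (pt 416)).toFinset

theorem mem_fs {L : List ℕ} (hL : ∀ a ∈ L, a < 416) (x : Fin 416) : x ∈ fs L ↔ x.val ∈ L := by
  unfold fs
  rw [List.mem_toFinset, List.mem_map]
  constructor
  · rintro ⟨a, ha, rfl⟩
    rw [pt_val 416 (hL a ha)]
    exact ha
  · intro h
    exact ⟨x.val, h, pt_of_val 416 x⟩

theorem pt_mem_fs {L : List ℕ} (hL : ∀ a ∈ L, a < 416) {a : ℕ} (ha : a ∈ L) : pt 416 a ∈ fs L := by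
  rw [mem_fs hL, pt_val 416 (hL a ha)]
  exact ha

theorem card_fs {L : List ℕ} (hL : ∀ a ∈ L, a < 416) (hnd : L.Nodup) : (fs L).card = L.length := by
  unfold fs
  rw [List.toFinset_card_of_nodup, List.length_map]
  apply List.Nodup.map_on _ hnd
  intro a ha b hb hab
  have := congrArg Fin.val hab
  rwa [pt_val 416 (hL a ha), pt_val 416 (hL b hb)] at this

theorem disjoint_fs {L L' : List ℕ} (hL : ∀ a ∈ L, a < 416) (hL' : ∀ a ∈ L', a < 416)
    (h : ∀ a ∈ L, a ∉ L') : Disjoint (fs L) (fs L') := by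
  rw [Finset.disjoint_left]
  intro x hx hx'
  rw [mem_fs hL] at hx
  rw [mem_fs hL'] at hx'
  exact h _ hx hx'

/-! ## certificates -/

section cert

variable {G : Type*} [Group G] (φ : G →* Equiv.Perm (Fin 416))

theorem evalWd_mem (hφ : ∀ r, r < 12 → ∀ c : E4, rootPerm r c ∈ φ.range) (wd : List (ℕ × E4)) :
    evalWd chevG2 rootPerm wd ∈ φ.range := by
  unfold evalWd
  apply Subgroup.list_prod_mem
  intro x hx
  obtain ⟨p, _, rfl⟩ := List.mem_map.mp hx
  by_cases hp : p.1 < chevG2.nroots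
  · rw [if_pos hp]
    exact hφ p.1 hp p.2
  · rw [if_neg hp]
    exact Subgroup.one_mem _

theorem gensOK_of_cert {tabs : List (ℕ × ℕ)} {words : List (List (ℕ × E4))}
    (h : certOK tabs words = true) : gensOK 416 9 tabs = true := by
  unfold certOK at h
  simp only [Bool.and_eq_true] at h
  exact h.1.1

theorem mem_range_of_cert (hφ : ∀ r, r < 12 → ∀ c : E4, rootPerm r c ∈ φ.range)
    {tabs : List (ℕ × ℕ)} {words : List (List (ℕ × E4))} (h : certOK tabs words = true) :
    ∀ g ∈ tabs, permOf 416 9 g.1 g.2 ∈ φ.range := by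
  intro g hg
  have hok := gensOK_spec 416 9 (gensOK_of_cert h) g hg
  unfold certOK at h
  simp only [Bool.and_eq_true, beq_iff_eq] at h
  obtain ⟨⟨_, hlen⟩, hall⟩ := h
  obtain ⟨wd, hwd⟩ := exists_zip_of_mem tabs words hlen g hg
  rw [List.all_eq_true] at hall
  have he := hall _ hwd
  have : permOf 416 9 g.1 g.2 = evalWd chevG2 rootPerm wd :=
    eq_of_wordEq 416 9 (actsByW_single (permOf_apply hok)) (evalWd_acts wd) he
  rw [this]
  exact evalWd_mem φ hφ wd

theorem genGroup_le_range (hφ : ∀ r, r < 12 → ∀ c : E4, rootPerm r c ∈ φ.range)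
    {tabs : List (ℕ × ℕ)} {words : List (List (ℕ × E4))} (h : certOK tabs words = true) :
    genGroup 416 9 tabs ≤ φ.range := by
  unfold genGroup
  rw [Subgroup.closure_le]
  intro s hs
  obtain ⟨g, hg, rfl⟩ := List.mem_map.mp hs
  exact mem_range_of_cert φ hφ h g hg

theorem fixes_of_fixOK {tabs : List (ℕ × ℕ)} (hg : gensOK 416 9 tabs = true) {p : ℕ} (hp : p < 416)
    (h : fixOK tabs p = true) : ∀ g ∈ genGroup 416 9 tabs, g (pt 416 p) = pt 416 p := by
  have hle : genGroup 416 9 tabs ≤ stabilizer (Equiv.Perm (Fin 416)) (pt 416 p) := by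
    unfold genGroup
    rw [Subgroup.closure_le]
    intro s hs
    obtain ⟨g, hgm, rfl⟩ := List.mem_map.mp hs
    unfold fixOK at h
    rw [List.all_eq_true] at h
    have h1 := beq_iff_eq.mp (h g hgm)
    rw [SetLike.mem_coe, mem_stabilizer_iff, Equiv.Perm.smul_def,
      permOf_pt 416 9 (gensOK_spec 416 9 hg g hgm) hp, h1]
  intro g hg'
  exact mem_stabilizer_iff.mp (hle hg')

/-- reachability inside the image of `φ` -/
theorem reach (hφ : ∀ r, r < 12 → ∀ c : E4, rootPerm r c ∈ φ.range)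
    {tabs : List (ℕ × ℕ)} {words : List (List (ℕ × E4))} (h : certOK tabs words = true)
    (c : ℕ) (hc : c < 416) (todo : List ℕ) (ho : orbitOK 9 tabs [c] todo = true) :
    ∀ x ∈ todo, x < 416 ∧ ∃ k : G, φ k ∈ genGroup 416 9 tabs ∧ φ k (pt 416 c) = pt 416 x := by
  intro x hx
  obtain ⟨hlt, g, hg, hgx⟩ := perm_orbit 416 9 tabs (gensOK_of_cert h) c hc todo ho x hx
  obtain ⟨k, rfl⟩ := genGroup_le_range φ hφ h hg
  exact ⟨hlt, k, hg, hgx⟩

end cert

end Cfsg.Agent.Lib.Helper27.G24
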