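import Cfsg.Agent.Lib.Helper27.G24Main1
import Cfsg.Agent.Lib.Helper2.PrimSuborb2

/-!
# Primitivity of `G₂(4)` on `416` points and of the point stabiliser on its suborbits
(helper27, for S5746)
-/

set_option autoImplicit false

namespace Cfsg.Agent.Lib.Helper27.G24

open Cfsg.Lie Cfsg.Agent.Lib.Helper28.BSGS MulAction Cfsg.Agent.Lib.Helper2.PrimSuborb

section

variable {G : Type*} [Group G] [MulAction G (Fin 416)] (φ : G →* Equiv.Perm (Fin 416))
  (hsm : ∀ (g : G) (x : Fin 416), g • x = φ g x)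
  (hφ : ∀ r, r < 12 → ∀ c : E4, rootPerm r c ∈ φ.range)

/-- the subgroup of `G` acting through the group generated by the tables -/
def KG (tabs : List (ℕ × ℕ)) : Subgroup G := (genGroup 416 9 tabs).comap φ

theorem pt0_val : (pt 416 0).val = 0 := pt_val 416 (by norm_num)

include hsm hφ in
theorem exists_smul_eq (x : Fin 416) : ∃ k : G, k • pt 416 0 = x := by
  have hx : x.val ∈ 0 :: todoAll := subB_spec todoAll_cover x.val (List.mem_range.mpr x.isLt)
  rcases List.mem_cons.mp hx with h0 | h1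
  · refine ⟨1, ?_⟩
    rw [one_smul]
    apply Fin.ext
    rw [pt0_val, h0]
  · obtain ⟨_, k, _, hk⟩ := reach φ hφ tCert 0 (by norm_num) todoAll orbAll_ok x.val h1
    refine ⟨k, ?_⟩
    rw [hsm, hk, pt_of_val]

include hsm hφ in
theorem orbit_eq_univ : orbit G (pt 416 0) = Set.univ := by
  rw [Set.eq_univ_iff_forall]
  intro x
  obtain ⟨k, hk⟩ := exists_smul_eq φ hsm hφ x
  exact ⟨k, hk⟩

include hsm hφ in
theorem card_stab (hcard : Nat.card G = 251596800) :
    Nat.card (stabilizer G (pt 416 0)) = 604800 := by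
  have h1 := Subgroup.card_mul_index (stabilizer G (pt 416 0))
  rw [index_stabilizer, orbit_eq_univ φ hsm hφ, Set.ncard_univ,
    Nat.card_eq_fintype_card (α := Fin 416), Fintype.card_fin, hcard] at h1
  omega

include hsm in
theorem KG_le_stab {tabs : List (ℕ × ℕ)} (hg : gensOK 416 9 tabs = true) {p : ℕ} (hp : p < 416)
    (h : fixOK tabs p = true) : KG φ tabs ≤ stabilizer G (pt 416 p) := by
  intro k hk
  rw [mem_stabilizer_iff, hsm]
  exact fixes_of_fixOK hg hp h _ hk

include hsm hφ in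
/-- reachability along an orbit list -/
theorem reachG {tabs : List (ℕ × ℕ)} {words : List (List (ℕ × E4))} (h : certOK tabs words = true)
    (M : List ℕ) (m : ℕ) (M' : List ℕ) (hM : M = m :: M') (hm : m < 416)
    (ho : orbitOK 9 tabs [m] M' = true) :
    ∀ z ∈ M, ∃ k ∈ KG φ tabs, k • pt 416 m = pt 416 z := by
  intro z hz
  rw [hM] at hz
  rcases List.mem_cons.mp hz with rfl | hz'
  · exact ⟨1, Subgroup.one_mem _, one_smul _ _⟩
  · obtain ⟨_, k, hk, hkz⟩ := reach φ hφ h m hm M' ho z hz'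
    exact ⟨k, hk, by rw [hsm, hkz]⟩

/-- transitivity on the set of an orbit list -/
theorem trans_of_reach {Γ : Type*} [Group Γ] [MulAction Γ (Fin 416)] (K : Subgroup Γ) (M : List ℕ)
    (hM : ∀ a ∈ M, a < 416) (m : ℕ)
    (hr : ∀ z ∈ M, ∃ k ∈ K, k • pt 416 m = pt 416 z) :
    ∀ x ∈ fs M, ∀ y ∈ fs M, ∃ k ∈ K, k • x = y := by
  intro x hx y hy
  rw [mem_fs hM] at hx hy
  obtain ⟨kx, hkx, hx'⟩ := hr x.val hx
  obtain ⟨ky, hky, hy'⟩ := hr y.val hy
  rw [pt_of_val] at hx' hy'
  refine ⟨ky * kx⁻¹, K.mul_mem hky (K.inv_mem hkx), ?_⟩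
  rw [mul_smul, ← hx', inv_smul_smul, hy']

end

end Cfsg.Agent.Lib.Helper27.G24
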