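import Cfsg.Agent.Lib.Helper27.G24Main2

/-!
# The point stabiliser of `G₂(4)` on `416` points is maximal, and so are its two-point stabilisers in it
(helper27, for S5746)
-/

set_option autoImplicit false

namespace Cfsg.Agent.Lib.Helper27.G24

open Cfsg.Lie Cfsg.Agent.Lib.Helper28.BSGS MulAction Cfsg.Agent.Lib.Helper2.PrimSuborb

/-! ## facts about the lists -/

theorem disjB_spec {l l' : List ℕ} (h : disjB l l' = true) : ∀ x ∈ l, x ∉ l' := by
  unfold disjB at h
  rw [List.all_eq_true] at h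
  intro x hx
  have := h x hx
  simpa using this

theorem allPts_lt' : ∀ a ∈ allPts, a < 416 := ltB_spec allPts_lt

theorem listD_sub : ∀ a ∈ listD, a ∈ allPts := by
  intro a ha
  unfold allPts
  simp only [List.mem_cons, List.mem_append]
  exact Or.inr (Or.inl ha)

theorem listG_sub : ∀ a ∈ listG, a ∈ allPts := by
  intro a ha
  unfold allPts
  simp only [List.mem_cons, List.mem_append]
  exact Or.inr (Or.inr ha)

theorem listD_lt : ∀ a ∈ listD, a < 416 := fun a ha => allPts_lt' a (listD_sub a ha)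

theorem listG_lt : ∀ a ∈ listG, a < 416 := fun a ha => allPts_lt' a (listG_sub a ha)

theorem mem_listD (a : ℕ) : a ∈ listD ↔ a = pβ ∨ a ∈ orbM0 ∨ a ∈ orbM1 := by
  unfold listD
  simp only [List.mem_cons, List.mem_append]

theorem mem_listG (a : ℕ) :
    a ∈ listG ↔ a = pγ ∨ a ∈ orbN0 ∨ a ∈ orbN1 ∨ a ∈ orbN2 ∨ a ∈ orbN3 ∨ a ∈ orbN4 := by
  unfold listG
  simp only [List.mem_cons, List.mem_append, or_assoc]

theorem orbM0_lt : ∀ a ∈ orbM0, a < 416 :=
  fun a ha => listD_lt a ((mem_listD a).mpr (Or.inr (Or.inl ha)))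

theorem orbM1_lt : ∀ a ∈ orbM1, a < 416 :=
  fun a ha => listD_lt a ((mem_listD a).mpr (Or.inr (Or.inr ha)))

theorem orbN0_lt : ∀ a ∈ orbN0, a < 416 :=
  fun a ha => listG_lt a ((mem_listG a).mpr (Or.inr (Or.inl ha)))

theorem orbN1_lt : ∀ a ∈ orbN1, a < 416 :=
  fun a ha => listG_lt a ((mem_listG a).mpr (Or.inr (Or.inr (Or.inl ha))))

theorem orbN2_lt : ∀ a ∈ orbN2, a < 416 :=
  fun a ha => listG_lt a ((mem_listG a).mpr (Or.inr (Or.inr (Or.inr (Or.inl ha)))))

theorem orbN3_lt : ∀ a ∈ orbN3, a < 416 :=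
  fun a ha => listG_lt a ((mem_listG a).mpr (Or.inr (Or.inr (Or.inr (Or.inr (Or.inl ha))))))

theorem orbN4_lt : ∀ a ∈ orbN4, a < 416 :=
  fun a ha => listG_lt a ((mem_listG a).mpr (Or.inr (Or.inr (Or.inr (Or.inr (Or.inr ha))))))

theorem pβ_lt : pβ < 416 := by decide

theorem pγ_lt : pγ < 416 := by decide

theorem pβ_mem : pβ ∈ listD := (mem_listD pβ).mpr (Or.inl rfl)

theorem pγ_mem : pγ ∈ listG := (mem_listG pγ).mpr (Or.inl rfl)

theorem card_listD : (fs listD).card = 100 := by
  rw [card_fs listD_lt (nodupB_sound _ nd_listD), lenD]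

theorem card_listG : (fs listG).card = 315 := by
  rw [card_fs listG_lt (nodupB_sound _ nd_listG), lenG]

theorem pt0_notMem_D : pt 416 0 ∉ fs listD := by
  rw [mem_fs listD_lt, pt0_val]
  exact disjB_spec dj_0_D 0 (List.mem_singleton.mpr rfl)

theorem pt0_notMem_G : pt 416 0 ∉ fs listG := by
  rw [mem_fs listG_lt, pt0_val]
  exact disjB_spec dj_0_G 0 (List.mem_singleton.mpr rfl)

theorem cover_all (x : Fin 416) : x = pt 416 0 ∨ x ∈ fs listD ∨ x ∈ fs listG := by
  have hx : x.val ∈ allPts := subB_spec allPts_cover x.val (List.mem_range.mpr x.isLt)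
  unfold allPts at hx
  simp only [List.mem_cons, List.mem_append] at hx
  rcases hx with h | h | h
  · left
    apply Fin.ext
    rw [pt0_val, h]
  · right; left
    exact (mem_fs listD_lt x).mpr h
  · right; right
    exact (mem_fs listG_lt x).mpr h

section

variable {G : Type*} [Group G] [MulAction G (Fin 416)] (φ : G →* Equiv.Perm (Fin 416))
  (hsm : ∀ (g : G) (x : Fin 416), g • x = φ g x)
  (hφ : ∀ r, r < 12 → ∀ c : E4, rootPerm r c ∈ φ.range)

include hsm hφ in
theorem reachD : ∀ y ∈ fs listD, ∃ k ∈ KG φ zGens, k • pt 416 pβ = y := by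
  intro y hy
  rw [mem_fs listD_lt, mem_listD] at hy
  have hy' : y.val ∈ pβ :: todoD := by
    rcases hy with h | h | h
    · rw [h]; exact List.mem_cons_self
    · exact List.mem_cons_of_mem _ (subB_spec subD _ (List.mem_append_left _ h))
    · exact List.mem_cons_of_mem _ (subB_spec subD _ (List.mem_append_right _ h))
  obtain ⟨k, hk, hky⟩ := reachG φ hsm hφ zCert (pβ :: todoD) pβ todoD rfl pβ_lt orbD_ok y.val hy'
  exact ⟨k, hk, by rw [hky, pt_of_val]⟩

include hsm hφ in
theorem reachGm : ∀ y ∈ fs listG, ∃ k ∈ KG φ zGens, k • pt 416 pγ = y := by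
  intro y hy
  rw [mem_fs listG_lt, mem_listG] at hy
  have hy' : y.val ∈ pγ :: todoG := by
    rcases hy with h | h | h | h | h | h
    · rw [h]; exact List.mem_cons_self
    · exact List.mem_cons_of_mem _ (subB_spec subG _ (by simp [h]))
    · exact List.mem_cons_of_mem _ (subB_spec subG _ (by simp [h]))
    · exact List.mem_cons_of_mem _ (subB_spec subG _ (by simp [h]))
    · exact List.mem_cons_of_mem _ (subB_spec subG _ (by simp [h]))
    · exact List.mem_cons_of_mem _ (subB_spec subG _ (by simp [h]))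
  obtain ⟨k, hk, hky⟩ := reachG φ hsm hφ zCert (pγ :: todoG) pγ todoG rfl pγ_lt orbG_ok y.val hy'
  exact ⟨k, hk, by rw [hky, pt_of_val]⟩

include hsm in
theorem KGz_le : KG φ zGens ≤ stabilizer G (pt 416 0) :=
  KG_le_stab φ hsm (gensOK_of_cert zCert) (by norm_num) zFix0

include hsm hφ in
/-- the orbits of the point stabiliser -/
theorem orbits_H (hcard : Nat.card G = 251596800) :
    (∀ x : Fin 416, x ∈ orbit ↥(stabilizer G (pt 416 0)) (pt 416 pβ) ↔ x ∈ fs listD) ∧
      (∀ x : Fin 416, x ∈ orbit ↥(stabilizer G (pt 416 0)) (pt 416 pγ) ↔ x ∈ fs listG) := by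
  apply orbit_stabilizer_of_two_blocks (pt 416 0) (pt 416 pβ) (pt 416 pγ) (fs listD) (fs listG)
    (KG φ zGens) (KGz_le φ hsm) (pt_mem_fs listD_lt pβ_mem) (pt_mem_fs listG_lt pγ_mem)
    pt0_notMem_D pt0_notMem_G (disjoint_fs listD_lt listG_lt (disjB_spec dj_D_G)) cover_all
    (reachD φ hsm hφ) (reachGm φ hsm hφ)
  rw [card_listD, card_listG, card_stab φ hsm hφ hcard]
  decide

include hsm hφ in
/-- the point stabiliser is a maximal subgroup -/
theorem coatom_stab : IsCoatom (stabilizer G (pt 416 0)) := by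
  apply isCoatom_stabilizer_of_suborbits' (pt 416 0) (KG φ zGens) (KGz_le φ hsm)
    ![fs listD, fs listG] ![100, 315]
  · rw [Fin.forall_fin_two]
    exact ⟨card_listD, card_listG⟩
  · rw [Fin.forall_fin_two]
    exact ⟨by decide, by decide⟩
  · rw [Fin.forall_fin_two]
    exact ⟨pt0_notMem_D, pt0_notMem_G⟩
  · intro i j hij
    fin_cases i <;> fin_cases j
    · exact absurd rfl hij
    · exact disjoint_fs listD_lt listG_lt (disjB_spec dj_D_G)
    · exact (disjoint_fs listD_lt listG_lt (disjB_spec dj_D_G)).symm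
    · exact absurd rfl hij
  · intro x
    constructor
    · intro _
      rcases cover_all x with h | h | h
      · exact Or.inl h
      · exact Or.inr ⟨0, h⟩
      · exact Or.inr ⟨1, h⟩
    · intro _
      rw [orbit_eq_univ φ hsm hφ]
      exact Set.mem_univ x
  · rw [Fin.forall_fin_two]
    constructor
    · exact trans_of_reach (KG φ zGens) listD listD_lt pβ
        (fun z hz => reachD φ hsm hφ (pt 416 z) (pt_mem_fs listD_lt hz))
    · exact trans_of_reach (KG φ zGens) listG listG_lt pγ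
        (fun z hz => reachGm φ hsm hφ (pt 416 z) (pt_mem_fs listG_lt hz))
  · decide

end

end Cfsg.Agent.Lib.Helper27.G24
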