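import Cfsg.Agent.Lib.Helper27.G24Main3

/-!
# The two-point stabilisers are maximal in the point stabiliser (helper27, for S5746)
-/

set_option autoImplicit false

namespace Cfsg.Agent.Lib.Helper27.G24

open Cfsg.Lie Cfsg.Agent.Lib.Helper28.BSGS MulAction Cfsg.Agent.Lib.Helper2.PrimSuborb

theorem card_M0 : (fs orbM0).card = 36 := by
  rw [card_fs orbM0_lt (nodupB_sound _ nd_orbM0), lenM0]

theorem card_M1 : (fs orbM1).card = 63 := by
  rw [card_fs orbM1_lt (nodupB_sound _ nd_orbM1), lenM1]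

theorem card_N0 : (fs orbN0).card = 10 := by
  rw [card_fs orbN0_lt (nodupB_sound _ nd_orbN0), lenN0]

theorem card_N1 : (fs orbN1).card = 32 := by
  rw [card_fs orbN1_lt (nodupB_sound _ nd_orbN1), lenN1]

theorem card_N2 : (fs orbN2).card = 32 := by
  rw [card_fs orbN2_lt (nodupB_sound _ nd_orbN2), lenN2]

theorem card_N3 : (fs orbN3).card = 80 := by
  rw [card_fs orbN3_lt (nodupB_sound _ nd_orbN3), lenN3]

theorem card_N4 : (fs orbN4).card = 160 := by
  rw [card_fs orbN4_lt (nodupB_sound _ nd_orbN4), lenN4]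

section

variable {G : Type*} [Group G] [MulAction G (Fin 416)] (φ : G →* Equiv.Perm (Fin 416))
  (hsm : ∀ (g : G) (x : Fin 416), g • x = φ g x)
  (hφ : ∀ r, r < 12 → ∀ c : E4, rootPerm r c ∈ φ.range)

/-- the subgroup of the point stabiliser acting through the group generated by the tables -/
def KH (tabs : List (ℕ × ℕ)) : Subgroup ↥(stabilizer G (pt 416 0)) :=
  (KG φ tabs).subgroupOf (stabilizer G (pt 416 0))

include hsm in
theorem lift_reach {tabs : List (ℕ × ℕ)} (hg : gensOK 416 9 tabs = true)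
    (hfix : fixOK tabs 0 = true) {m z : Fin 416} (h : ∃ k ∈ KG φ tabs, k • m = z) :
    ∃ k ∈ KH φ tabs, k • m = z := by
  obtain ⟨k, hk, hkz⟩ := h
  have hkH : k ∈ stabilizer G (pt 416 0) := KG_le_stab φ hsm hg (by norm_num) hfix hk
  exact ⟨⟨k, hkH⟩, Subgroup.mem_subgroupOf.mpr hk, hkz⟩

include hsm in
theorem KH_le_stab {tabs : List (ℕ × ℕ)} (hg : gensOK 416 9 tabs = true) {p : ℕ} (hp : p < 416)
    (h : fixOK tabs p = true) :
    KH φ tabs ≤ stabilizer ↥(stabilizer G (pt 416 0)) (pt 416 p) := by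
  intro k hk
  rw [mem_stabilizer_iff]
  have := KG_le_stab φ hsm hg hp h (Subgroup.mem_subgroupOf.mp hk)
  exact mem_stabilizer_iff.mp this

include hsm hφ in
/-- transitivity of `KH` on an orbit list -/
theorem transH {tabs : List (ℕ × ℕ)} {words : List (List (ℕ × E4))} (h : certOK tabs words = true)
    (hfix : fixOK tabs 0 = true) (M : List ℕ) (hM : ∀ a ∈ M, a < 416) (m : ℕ) (M' : List ℕ)
    (hMm : M = m :: M') (ho : orbitOK 9 tabs [m] M' = true) :
    ∀ x ∈ fs M, ∀ y ∈ fs M, ∃ k ∈ KH φ tabs, k • x = y := by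
  have hm : m < 416 := hM m (by rw [hMm]; exact List.mem_cons_self)
  exact trans_of_reach (KH φ tabs) M hM m
    (fun z hz => lift_reach φ hsm (gensOK_of_cert h) hfix
      (reachG φ hsm hφ h M m M' hMm hm ho z hz))

include hsm hφ in
theorem coatom_β (hcard : Nat.card G = 251596800) :
    IsCoatom (stabilizer ↥(stabilizer G (pt 416 0)) (pt 416 pβ)) := by
  apply isCoatom_stabilizer_of_suborbits' (pt 416 pβ) (KH φ kGens)
    (KH_le_stab φ hsm (gensOK_of_cert kCert) pβ_lt kFixβ) ![fs orbM0, fs orbM1] ![36, 63]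
  · rw [Fin.forall_fin_two]
    exact ⟨card_M0, card_M1⟩
  · rw [Fin.forall_fin_two]
    exact ⟨by decide, by decide⟩
  · rw [Fin.forall_fin_two]
    constructor
    · show pt 416 pβ ∉ fs orbM0
      rw [mem_fs orbM0_lt, pt_val 416 pβ_lt]
      exact disjB_spec dj_β_M0 pβ (List.mem_singleton.mpr rfl)
    · show pt 416 pβ ∉ fs orbM1
      rw [mem_fs orbM1_lt, pt_val 416 pβ_lt]
      exact disjB_spec dj_β_M1 pβ (List.mem_singleton.mpr rfl)
  · intro i j hij
    fin_cases i <;> fin_cases j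
    · exact absurd rfl hij
    · exact disjoint_fs orbM0_lt orbM1_lt (disjB_spec dj_M0_M1)
    · exact (disjoint_fs orbM0_lt orbM1_lt (disjB_spec dj_M0_M1)).symm
    · exact absurd rfl hij
  · intro x
    rw [(orbits_H φ hsm hφ hcard).1 x, mem_fs listD_lt, mem_listD]
    constructor
    · rintro (h | h | h)
      · left
        apply Fin.ext
        rw [pt_val 416 pβ_lt, h]
      · exact Or.inr ⟨0, (mem_fs orbM0_lt x).mpr h⟩
      · exact Or.inr ⟨1, (mem_fs orbM1_lt x).mpr h⟩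
    · rintro (h | ⟨i, hi⟩)
      · left
        rw [h, pt_val 416 pβ_lt]
      · fin_cases i
        · exact Or.inr (Or.inl ((mem_fs orbM0_lt x).mp hi))
        · exact Or.inr (Or.inr ((mem_fs orbM1_lt x).mp hi))
  · rw [Fin.forall_fin_two]
    constructor
    · exact transH φ hsm hφ kCert kFix0 orbM0 orbM0_lt (orbM0.headD 0) orbM0.tail rfl orbM0_ok
    · exact transH φ hsm hφ kCert kFix0 orbM1 orbM1_lt (orbM1.headD 0) orbM1.tail rfl orbM1_ok
  · decide

include hsm hφ in
theorem coatom_γ (hcard : Nat.card G = 251596800) :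
    IsCoatom (stabilizer ↥(stabilizer G (pt 416 0)) (pt 416 pγ)) := by
  apply isCoatom_stabilizer_of_suborbits' (pt 416 pγ) (KH φ lGens)
    (KH_le_stab φ hsm (gensOK_of_cert lCert) pγ_lt lFixγ)
    ![fs orbN0, fs orbN1, fs orbN2, fs orbN3, fs orbN4] ![10, 32, 32, 80, 160]
  · intro i
    fin_cases i
    · exact card_N0
    · exact card_N1
    · exact card_N2
    · exact card_N3
    · exact card_N4
  · intro i
    fin_cases i <;> decide
  · intro i
    fin_cases i
    · show pt 416 pγ ∉ fs orbN0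
      rw [mem_fs orbN0_lt, pt_val 416 pγ_lt]
      exact disjB_spec dj_γ_N0 pγ (List.mem_singleton.mpr rfl)
    · show pt 416 pγ ∉ fs orbN1
      rw [mem_fs orbN1_lt, pt_val 416 pγ_lt]
      exact disjB_spec dj_γ_N1 pγ (List.mem_singleton.mpr rfl)
    · show pt 416 pγ ∉ fs orbN2
      rw [mem_fs orbN2_lt, pt_val 416 pγ_lt]
      exact disjB_spec dj_γ_N2 pγ (List.mem_singleton.mpr rfl)
    · show pt 416 pγ ∉ fs orbN3
      rw [mem_fs orbN3_lt, pt_val 416 pγ_lt]
      exact disjB_spec dj_γ_N3 pγ (List.mem_singleton.mpr rfl)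
    · show pt 416 pγ ∉ fs orbN4
      rw [mem_fs orbN4_lt, pt_val 416 pγ_lt]
      exact disjB_spec dj_γ_N4 pγ (List.mem_singleton.mpr rfl)
  · intro i j hij
    fin_cases i <;> fin_cases j
    · exact absurd rfl hij
    · exact disjoint_fs orbN0_lt orbN1_lt (disjB_spec dj_N0_N1)
    · exact disjoint_fs orbN0_lt orbN2_lt (disjB_spec dj_N0_N2)
    · exact disjoint_fs orbN0_lt orbN3_lt (disjB_spec dj_N0_N3)
    · exact disjoint_fs orbN0_lt orbN4_lt (disjB_spec dj_N0_N4)
    · exact (disjoint_fs orbN0_lt orbN1_lt (disjB_spec dj_N0_N1)).symm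
    · exact absurd rfl hij
    · exact disjoint_fs orbN1_lt orbN2_lt (disjB_spec dj_N1_N2)
    · exact disjoint_fs orbN1_lt orbN3_lt (disjB_spec dj_N1_N3)
    · exact disjoint_fs orbN1_lt orbN4_lt (disjB_spec dj_N1_N4)
    · exact (disjoint_fs orbN0_lt orbN2_lt (disjB_spec dj_N0_N2)).symm
    · exact (disjoint_fs orbN1_lt orbN2_lt (disjB_spec dj_N1_N2)).symm
    · exact absurd rfl hij
    · exact disjoint_fs orbN2_lt orbN3_lt (disjB_spec dj_N2_N3)
    · exact disjoint_fs orbN2_lt orbN4_lt (disjB_spec dj_N2_N4)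
    · exact (disjoint_fs orbN0_lt orbN3_lt (disjB_spec dj_N0_N3)).symm
    · exact (disjoint_fs orbN1_lt orbN3_lt (disjB_spec dj_N1_N3)).symm
    · exact (disjoint_fs orbN2_lt orbN3_lt (disjB_spec dj_N2_N3)).symm
    · exact absurd rfl hij
    · exact disjoint_fs orbN3_lt orbN4_lt (disjB_spec dj_N3_N4)
    · exact (disjoint_fs orbN0_lt orbN4_lt (disjB_spec dj_N0_N4)).symm
    · exact (disjoint_fs orbN1_lt orbN4_lt (disjB_spec dj_N1_N4)).symm
    · exact (disjoint_fs orbN2_lt orbN4_lt (disjB_spec dj_N2_N4)).symm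
    · exact (disjoint_fs orbN3_lt orbN4_lt (disjB_spec dj_N3_N4)).symm
    · exact absurd rfl hij
  · intro x
    rw [(orbits_H φ hsm hφ hcard).2 x, mem_fs listG_lt, mem_listG]
    constructor
    · rintro (h | h | h | h | h | h)
      · left
        apply Fin.ext
        rw [pt_val 416 pγ_lt, h]
      · exact Or.inr ⟨0, (mem_fs orbN0_lt x).mpr h⟩
      · exact Or.inr ⟨1, (mem_fs orbN1_lt x).mpr h⟩
      · exact Or.inr ⟨2, (mem_fs orbN2_lt x).mpr h⟩
      · exact Or.inr ⟨3, (mem_fs orbN3_lt x).mpr h⟩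
      · exact Or.inr ⟨4, (mem_fs orbN4_lt x).mpr h⟩
    · rintro (h | ⟨i, hi⟩)
      · left
        rw [h, pt_val 416 pγ_lt]
      · fin_cases i
        · exact Or.inr (Or.inl ((mem_fs orbN0_lt x).mp hi))
        · exact Or.inr (Or.inr (Or.inl ((mem_fs orbN1_lt x).mp hi)))
        · exact Or.inr (Or.inr (Or.inr (Or.inl ((mem_fs orbN2_lt x).mp hi))))
        · exact Or.inr (Or.inr (Or.inr (Or.inr (Or.inl ((mem_fs orbN3_lt x).mp hi)))))
        · exact Or.inr (Or.inr (Or.inr (Or.inr (Or.inr ((mem_fs orbN4_lt x).mp hi)))))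
  · intro i
    fin_cases i
    · exact transH φ hsm hφ lCert lFix0 orbN0 orbN0_lt (orbN0.headD 0) orbN0.tail rfl orbN0_ok
    · exact transH φ hsm hφ lCert lFix0 orbN1 orbN1_lt (orbN1.headD 0) orbN1.tail rfl orbN1_ok
    · exact transH φ hsm hφ lCert lFix0 orbN2 orbN2_lt (orbN2.headD 0) orbN2.tail rfl orbN2_ok
    · exact transH φ hsm hφ lCert lFix0 orbN3 orbN3_lt (orbN3.headD 0) orbN3.tail rfl orbN3_ok
    · exact transH φ hsm hφ lCert lFix0 orbN4 orbN4_lt (orbN4.headD 0) orbN4.tail rfl orbN4_ok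
  · decide

include hsm hφ in
/-- the action is extremely primitive -/
theorem extremely_primitive (hcard : Nat.card G = 251596800) :
    ∀ x : G, x ∉ stabilizer G (pt 416 0) →
      IsCoatom (((stabilizer G (pt 416 0)) ⊓
        (stabilizer G (pt 416 0)).map (MulAut.conj x).toMonoidHom).subgroupOf
          (stabilizer G (pt 416 0))) := by
  apply extremely_primitive_of_two_suborbits (pt 416 0) (pt 416 pβ) (pt 416 pγ) _
    (coatom_β φ hsm hφ hcard) (coatom_γ φ hsm hφ hcard)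
  intro x
  rcases cover_all x with h | h | h
  · exact Or.inl h
  · obtain ⟨k, hk, hkx⟩ := reachD φ hsm hφ x h
    exact Or.inr (Or.inl ⟨k, KGz_le φ hsm hk, hkx⟩)
  · obtain ⟨k, hk, hkx⟩ := reachGm φ hsm hφ x h
    exact Or.inr (Or.inr ⟨k, KGz_le φ hsm hk, hkx⟩)

end

end Cfsg.Agent.Lib.Helper27.G24
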