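import Cfsg.Agent.Lib.Helper27.G24Main4
import Cfsg.Agent.Lib.Helper1.J2UG
import Cfsg.Agent.Lib.Helper16.IcoAsm
import Cfsg.Agent.Lib.Helper11.IcoPermCert

/-!
# The point stabiliser of `G₂(4)` on `416` points is the icosian `J₂` (helper27, for S5746)
-/

set_option autoImplicit false

namespace Cfsg.Agent.Lib.Helper27.G24

open Cfsg.Lie Cfsg.Agent.Lib.Helper28.BSGS MulAction Cfsg.Agent.Lib.Helper2.PrimSuborb
  Cfsg.Agent.Lib.Helper1.J2U Cfsg.Agent.Lib.Helper16.IcoAsm Cfsg.Agent.Lib.Helper11.Ico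

section

variable {G : Type*} [Group G] [MulAction G (Fin 416)] (φ : G →* Equiv.Perm (Fin 416))
  (hsm : ∀ (g : G) (x : Fin 416), g • x = φ g x)
  (hφ : ∀ r, r < 12 → ∀ c : E4, rootPerm r c ∈ φ.range)

/-- the restriction of `φ` to the point stabiliser -/
def jH : ↥(stabilizer G (pt 416 0)) →* Equiv.Perm (Fin 416) :=
  φ.comp (stabilizer G (pt 416 0)).subtype

include hsm in
theorem jH_apply (h : ↥(stabilizer G (pt 416 0))) (a : Fin 416) : jH φ h a = h • a := by
  rw [Subgroup.smul_def, hsm]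
  rfl

include hsm hφ in
theorem lab_inv (hcard : Nat.card G = 251596800) (h : ↥(stabilizer G (pt 416 0))) (a : Fin 416)
    (ha : a.val ∈ lab) : (jH φ h a).val ∈ lab := by
  have h1 : a ∈ fs listG := (mem_fs listG_lt a).mpr (subB_spec lab_sub _ ha)
  rw [← (orbits_H φ hsm hφ hcard).2 a] at h1
  obtain ⟨k, hk⟩ := h1
  have h2 : jH φ h a ∈ orbit ↥(stabilizer G (pt 416 0)) (pt 416 pγ) := by
    refine ⟨h * k, ?_⟩
    show (h * k) • pt 416 pγ = jH φ h a
    rw [jH_apply φ hsm, mul_smul]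
    exact congrArg (fun y => h • y) hk
  rw [(orbits_H φ hsm hφ hcard).2, mem_fs listG_lt] at h2
  exact subB_spec sub_lab _ h2

/-- the restriction of the point stabiliser to the suborbit of length `315`, in the labelling `lab` -/
noncomputable def restr (hcard : Nat.card G = 251596800) :
    ↥(stabilizer G (pt 416 0)) →* Equiv.Perm (Fin 315) :=
  restrHom (jH φ) lab lab_length (nodupB_sound _ nd_lab) (ltB_spec lab_lt)
    (lab_inv φ hsm hφ hcard)

theorem zGens_length : zGens.length = 4 := by decide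

include hsm hφ in
theorem exists_z (k : ℕ) (hk : k < 4) : ∃ h : ↥(stabilizer G (pt 416 0)),
    ∀ a : Fin 416, (jH φ h a).val = look 9 (zGens.getD k (0, 0)).1 a.val := by
  have hmem : zGens.getD k (0, 0) ∈ zGens := getD_mem (by rw [zGens_length]; exact hk)
  obtain ⟨g, hg⟩ := mem_range_of_cert φ hφ zCert _ hmem
  have hgK : g ∈ KG φ zGens := by
    show φ g ∈ genGroup 416 9 zGens
    rw [hg]
    exact Subgroup.subset_closure (mem_semGens 416 9 hmem)
  refine ⟨⟨g, KGz_le φ hsm hgK⟩, ?_⟩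
  intro a
  show (φ g a).val = _
  rw [hg]
  exact permOf_apply (gensOK_spec 416 9 (gensOK_of_cert zCert) _ hmem) a

theorem restrOK_all (k : ℕ) (hk : k < 4) : restrOK k = true := by
  interval_cases k
  · exact restr0
  · exact restr1
  · exact restr2
  · exact restr3

include hsm hφ in
theorem gperm_mem_range (hcard : Nat.card G = 251596800) (k : ℕ) (hk : k < 4) :
    gperm 315 9 PD.gens k ∈ (restr φ hsm hφ hcard).range := by
  obtain ⟨h, hh⟩ := exists_z φ hsm hφ k hk
  refine ⟨h, ?_⟩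
  have hkl : k < PD.gens.length := by rw [PD.gens_length]; omega
  apply restrHom_eq
  intro i
  rw [hh]
  have hr := restrOK_all k hk
  unfold restrOK at hr
  rw [List.all_eq_true] at hr
  have h1 := beq_iff_eq.mp (hr i.val (List.mem_range.mpr i.isLt))
  have hi : i.val < lab.length := by rw [lab_length]; exact i.isLt
  rw [List.getD_eq_getElem _ _ hi] at h1
  have h2 : (gperm 315 9 PD.gens k i).val = look 9 (PD.gens.getD k (0, 0)).1 i.val :=
    gperm_apply PD.gens_ok hkl i
  have h3 : look 9 (PD.gens.getD k (0, 0)).1 i.val < lab.length := by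
    rw [← h2, lab_length]
    exact (gperm 315 9 PD.gens k i).isLt
  rw [List.getD_eq_getElem _ _ h3] at h1
  rw [h1]
  congr 1
  exact h2.symm

include hsm hφ in
/-- the point stabiliser is isomorphic to the certified permutation group of degree `315` -/
theorem stab_iso (hcard : Nat.card G = 251596800)
    (hW : ∀ k, 4 ≤ k → k < PD.gens.length → ∃ ws : List ℕ, (∀ i ∈ ws, i < 4 ∧ i < PD.gens.length) ∧
      wordEq 315 9 [gtab PD.gens k] (ws.map (gtab PD.gens)) = true) :
    Nonempty (↥(stabilizer G (pt 416 0)) ≃* ↥(genGroup 315 9 PD.gens)) := by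
  have hc := card_stab φ hsm hφ hcard
  haveI : Finite ↥(stabilizer G (pt 416 0)) := Nat.finite_of_card_ne_zero (by rw [hc]; norm_num)
  apply iso_of_hom_card (restr φ hsm hφ hcard) (genGroup 315 9 PD.gens)
  · apply genGroup_le_of_words PD.gens_ok _ 4 _ hW
    intro k hk _
    exact gperm_mem_range φ hsm hφ hcard k hk
  · rw [hc, PD.card_genGroup]

end

/-- **the abstract form of S5746** -/
theorem main_abstract {G : Type*} [Group G] (φ : G →* Equiv.Perm (Fin 416))
    (hφ : ∀ r, r < 12 → ∀ c : E4, rootPerm r c ∈ φ.range) (hcard : Nat.card G = 251596800)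
    (hW : ∀ k, 4 ≤ k → k < PD.gens.length → ∃ ws : List ℕ, (∀ i ∈ ws, i < 4 ∧ i < PD.gens.length) ∧
      wordEq 315 9 [gtab PD.gens k] (ws.map (gtab PD.gens)) = true)
    (hJ : Nonempty (Cfsg.Spor.J2 ≃* ↥(genGroup 315 9 PD.gens))) :
    ∃ H : Subgroup G, IsCoatom H ∧ Cfsg.Spor.IsoJ2 H ∧
      ∀ x : G, x ∉ H → IsCoatom ((H ⊓ H.map (MulAut.conj x).toMonoidHom).subgroupOf H) := by
  letI : MulAction G (Fin 416) := MulAction.compHom (Fin 416) φ
  have hsm : ∀ (g : G) (x : Fin 416), g • x = φ g x := fun _ _ => rfl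
  obtain ⟨e⟩ := stab_iso φ hsm hφ hcard hW
  obtain ⟨e'⟩ := hJ
  exact ⟨stabilizer G (pt 416 0), coatom_stab φ hsm hφ, ⟨e.trans e'.symm⟩,
    extremely_primitive φ hsm hφ hcard⟩

end Cfsg.Agent.Lib.Helper27.G24
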