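import Cfsg.Agent.Lib.Helper27.G24Rels

/-!
# Kernel checks of Steinberg's relations (R2), (R3) for the root `1` (helper27, for S5746; generated)
-/

set_option autoImplicit false
set_option maxRecDepth 100000

namespace Cfsg.Agent.Lib.Helper27.G24

open Cfsg.Lie

set_option maxHeartbeats 4000000 in
theorem r2OK_1_0 : r2OK 1 0 = true := by decide +kernel

set_option maxHeartbeats 4000000 in
theorem r2OK_1_2 : r2OK 1 2 = true := by decide +kernel

set_option maxHeartbeats 4000000 in
theorem r2OK_1_3 : r2OK 1 3 = true := by decide +kernel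

set_option maxHeartbeats 4000000 in
theorem r2OK_1_4 : r2OK 1 4 = true := by decide +kernel

set_option maxHeartbeats 4000000 in
theorem r2OK_1_5 : r2OK 1 5 = true := by decide +kernel

set_option maxHeartbeats 4000000 in
theorem r2OK_1_6 : r2OK 1 6 = true := by decide +kernel

set_option maxHeartbeats 4000000 in
theorem r2OK_1_7 : r2OK 1 7 = true := by decide +kernel

set_option maxHeartbeats 4000000 in
theorem r2OK_1_8 : r2OK 1 8 = true := by decide +kernel

set_option maxHeartbeats 4000000 in
theorem r2OK_1_9 : r2OK 1 9 = true := by decide +kernel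

set_option maxHeartbeats 4000000 in
theorem r2OK_1_11 : r2OK 1 11 = true := by decide +kernel

set_option maxHeartbeats 4000000 in
theorem r3OK_1 : r3OK 1 = true := by decide +kernel

theorem r2OK_row1 (s : ℕ) (hs : s < 12) (h1 : s ≠ 1) (h2 : s ≠ chevG2.neg 1) : r2OK 1 s = true := by
  interval_cases s
  · exact r2OK_1_0
  · exact absurd rfl h1
  · exact r2OK_1_2
  · exact r2OK_1_3
  · exact r2OK_1_4
  · exact r2OK_1_5
  · exact r2OK_1_6
  · exact r2OK_1_7
  · exact r2OK_1_8
  · exact r2OK_1_9
  · exact absurd rfl h2
  · exact r2OK_1_11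

end Cfsg.Agent.Lib.Helper27.G24
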