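import Cfsg.Agent.Lib.Helper27.G24Rels

/-!
# Kernel checks of Steinberg's relations (R2), (R3) for the root `3` (helper27, for S5746; generated)
-/

set_option autoImplicit false
set_option maxRecDepth 100000

namespace Cfsg.Agent.Lib.Helper27.G24

open Cfsg.Lie

set_option maxHeartbeats 4000000 in
theorem r2OK_3_0 : r2OK 3 0 = true := by decide +kernel

set_option maxHeartbeats 4000000 in
theorem r2OK_3_1 : r2OK 3 1 = true := by decide +kernel

set_option maxHeartbeats 4000000 in
theorem r2OK_3_2 : r2OK 3 2 = true := by decide +kernel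

set_option maxHeartbeats 4000000 in
theorem r2OK_3_4 : r2OK 3 4 = true := by decide +kernel

set_option maxHeartbeats 4000000 in
theorem r2OK_3_5 : r2OK 3 5 = true := by decide +kernel

set_option maxHeartbeats 4000000 in
theorem r2OK_3_6 : r2OK 3 6 = true := by decide +kernel

set_option maxHeartbeats 4000000 in
theorem r2OK_3_7 : r2OK 3 7 = true := by decide +kernel

set_option maxHeartbeats 4000000 in
theorem r2OK_3_9 : r2OK 3 9 = true := by decide +kernel

set_option maxHeartbeats 4000000 in
theorem r2OK_3_10 : r2OK 3 10 = true := by decide +kernel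

set_option maxHeartbeats 4000000 in
theorem r2OK_3_11 : r2OK 3 11 = true := by decide +kernel

set_option maxHeartbeats 4000000 in
theorem r3OK_3 : r3OK 3 = true := by decide +kernel

theorem r2OK_row3 (s : ℕ) (hs : s < 12) (h1 : s ≠ 3) (h2 : s ≠ chevG2.neg 3) : r2OK 3 s = true := by
  interval_cases s
  · exact r2OK_3_0
  · exact r2OK_3_1
  · exact r2OK_3_2
  · exact absurd rfl h1
  · exact r2OK_3_4
  · exact r2OK_3_5
  · exact r2OK_3_6
  · exact r2OK_3_7
  · exact absurd rfl h2
  · exact r2OK_3_9
  · exact r2OK_3_10
  · exact r2OK_3_11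

end Cfsg.Agent.Lib.Helper27.G24
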