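import Cfsg.Agent.Lib.Helper27.G24F4
import Cfsg.Agent.Lib.Helper27.G24Root
import Cfsg.Prelude.Def_ChevG2
import Cfsg.Prelude.Def_Steinberg

/-!
# Steinberg's relations for the root tables: the Boolean checks (helper27, for S5746)
-/

set_option autoImplicit false
set_option maxRecDepth 100000

namespace Cfsg.Agent.Lib.Helper27.G24

open Cfsg.Lie Cfsg.Agent.Lib.Helper28.BSGS

/-- the table of `x_r(t)` -/
def tb (r : ℕ) (t : E4) : ℕ := rootTabs.getD (4 * r + t.code) idTab

/-- the tables of a word -/
def tbw (w : List (ℕ × E4)) : List ℕ := w.map fun p => tb p.1 p.2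

/-- all tables are involutions -/
def tabsOK : Bool := (idTab :: rootTabs).all fun t => pairOK 416 9 t t

/-- the identity table is the identity -/
def idTabOK : Bool := (List.range 416).all fun a => look 9 idTab a == a

/-- (R1) -/
def r1OK : Bool :=
  (List.range 12).all fun r => E4.all.all fun a => E4.all.all fun b =>
    wordEq 416 9 [tb r a, tb r b] [tb r (a + b)]

/-- (R2) for a fixed pair `r`, `s` -/
def r2OK (r s : ℕ) : Bool :=
  E4.all.all fun t => E4.all.all fun u =>
    wordEq 416 9 [tb s u, tb r t, tb s u, tb r t] (tbw (chevG2.commWord E4 r s t u))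

/-- (R3) for a fixed `r` -/
def r3OK (r : ℕ) : Bool :=
  E4.all.all fun a => E4.all.all fun b =>
    (a == 0 || b == 0) ||
      wordEq 416 9 (tbw (chevG2.hWord r a ++ chevG2.hWord r b)) (tbw (chevG2.hWord r (a * b)))

set_option maxHeartbeats 4000000 in
theorem tabsOK_true : tabsOK = true := by decide +kernel

theorem idTabOK_true : idTabOK = true := by decide +kernel

set_option maxHeartbeats 4000000 in
theorem r1OK_true : r1OK = true := by decide +kernel

end Cfsg.Agent.Lib.Helper27.G24
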