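import Cfsg.Agent.Lib.Helper27.G24Lift
import Cfsg.Agent.Lib.Helper27.G24Rel00
import Cfsg.Agent.Lib.Helper27.G24Rel01
import Cfsg.Agent.Lib.Helper27.G24Rel02
import Cfsg.Agent.Lib.Helper27.G24Rel03
import Cfsg.Agent.Lib.Helper27.G24Rel04
import Cfsg.Agent.Lib.Helper27.G24Rel05
import Cfsg.Agent.Lib.Helper27.G24Rel06
import Cfsg.Agent.Lib.Helper27.G24Rel07
import Cfsg.Agent.Lib.Helper27.G24Rel08
import Cfsg.Agent.Lib.Helper27.G24Rel09
import Cfsg.Agent.Lib.Helper27.G24Rel10
import Cfsg.Agent.Lib.Helper27.G24Rel11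

/-!
# The root permutations satisfy Steinberg's relations (helper27, for S5746)
-/

set_option autoImplicit false
set_option maxRecDepth 100000

namespace Cfsg.Agent.Lib.Helper27.G24

open Cfsg.Lie Cfsg.Agent.Lib.Helper28.BSGS

/-- the permutation induced by `x_r(t)` -/
def rootPerm (r : ℕ) (t : E4) : Equiv.Perm (Fin 416) := permOf 416 9 (tb r t) (tb r t)

theorem tb_mem (r : ℕ) (t : E4) : tb r t ∈ idTab :: rootTabs := by
  unfold tb
  by_cases h : 4 * r + t.code < rootTabs.length
  · rw [List.getD_eq_getElem _ _ h]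
    exact List.mem_cons_of_mem _ (List.getElem_mem h)
  · rw [List.getD_eq_default _ _ (Nat.le_of_not_lt h)]
    exact List.mem_cons_self

theorem tb_ok (r : ℕ) (t : E4) : pairOK 416 9 (tb r t) (tb r t) = true := by
  have h := tabsOK_true
  unfold tabsOK at h
  rw [List.all_eq_true] at h
  exact h _ (tb_mem r t)

theorem rootPerm_apply (r : ℕ) (t : E4) (a : Fin 416) :
    (rootPerm r t a).val = look 9 (tb r t) a.val := permOf_apply (tb_ok r t) a

theorem rootPerm_inv_apply (r : ℕ) (t : E4) (a : Fin 416) :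
    ((rootPerm r t)⁻¹ a).val = look 9 (tb r t) a.val := permOf_inv_apply (tb_ok r t) a

theorem rootTabs_length : rootTabs.length = 48 := by decide

theorem nroots_eq : chevG2.nroots = 12 := rfl

theorem tb_of_le (r : ℕ) (t : E4) (h : 12 ≤ r) : tb r t = idTab := by
  unfold tb
  apply List.getD_eq_default
  rw [rootTabs_length]
  omega

theorem idTab_look (a : ℕ) (ha : a < 416) : look 9 idTab a = a := by
  have h := idTabOK_true
  unfold idTabOK at h
  rw [List.all_eq_true] at h
  exact beq_iff_eq.mp (h a (List.mem_range.mpr ha))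

theorem evalWd_acts (w : List (ℕ × E4)) : ActsByW 416 9 (evalWd chevG2 rootPerm w) (tbw w) := by
  induction w with
  | nil => exact actsByW_one 416 9
  | cons p w ih =>
    rw [evalWd_cons]
    show ActsByW 416 9 _ (tb p.1 p.2 :: tbw w)
    apply actsByW_cons _ ih
    intro a
    by_cases hp : p.1 < chevG2.nroots
    · rw [if_pos hp]
      exact rootPerm_apply p.1 p.2 a
    · rw [if_neg hp, tb_of_le p.1 p.2 (by rw [nroots_eq] at hp; omega), idTab_look a.val a.isLt]
      rfl

theorem r2OK_all (r s : ℕ) (hr : r < 12) (hs : s < 12) (h1 : s ≠ r) (h2 : s ≠ chevG2.neg r) :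
    r2OK r s = true := by
  interval_cases r
  · exact r2OK_row0 s hs h1 h2
  · exact r2OK_row1 s hs h1 h2
  · exact r2OK_row2 s hs h1 h2
  · exact r2OK_row3 s hs h1 h2
  · exact r2OK_row4 s hs h1 h2
  · exact r2OK_row5 s hs h1 h2
  · exact r2OK_row6 s hs h1 h2
  · exact r2OK_row7 s hs h1 h2
  · exact r2OK_row8 s hs h1 h2
  · exact r2OK_row9 s hs h1 h2
  · exact r2OK_row10 s hs h1 h2
  · exact r2OK_row11 s hs h1 h2

theorem r3OK_all (r : ℕ) (hr : r < 12) : r3OK r = true := by
  interval_cases r
  · exact r3OK_0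
  · exact r3OK_1
  · exact r3OK_2
  · exact r3OK_3
  · exact r3OK_4
  · exact r3OK_5
  · exact r3OK_6
  · exact r3OK_7
  · exact r3OK_8
  · exact r3OK_9
  · exact r3OK_10
  · exact r3OK_11

theorem satRels : SatRels chevG2 rootPerm where
  r1 := by
    intro r hr a b
    have h := r1OK_true
    unfold r1OK at h
    rw [List.all_eq_true] at h
    have h1 := h r (List.mem_range.mpr hr)
    rw [List.all_eq_true] at h1
    have h2 := h1 a (E4.mem_all a)
    rw [List.all_eq_true] at h2
    have h3 := h2 b (E4.mem_all b)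
    exact eq_of_wordEq 416 9
      (actsByW_cons (rootPerm_apply r a) (actsByW_single (rootPerm_apply r b)))
      (actsByW_single (rootPerm_apply r (a + b))) h3
  r2 := by
    intro r s hr hs hsr hsn t u
    have h1 := r2OK_all r s hr hs hsr hsn
    unfold r2OK at h1
    rw [List.all_eq_true] at h1
    have h2 := h1 t (E4.mem_all t)
    rw [List.all_eq_true] at h2
    have h3 := h2 u (E4.mem_all u)
    rw [mul_assoc, mul_assoc]
    exact eq_of_wordEq 416 9
      (actsByW_cons (rootPerm_inv_apply s u) (actsByW_cons (rootPerm_inv_apply r t)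
        (actsByW_cons (rootPerm_apply s u) (actsByW_single (rootPerm_apply r t)))))
      (evalWd_acts _) h3
  r3 := by
    intro r hr a b ha hb
    have h1 := r3OK_all r hr
    unfold r3OK at h1
    rw [List.all_eq_true] at h1
    have h2 := h1 a (E4.mem_all a)
    rw [List.all_eq_true] at h2
    have h3 := h2 b (E4.mem_all b)
    rw [Bool.or_eq_true, Bool.or_eq_true, beq_iff_eq, beq_iff_eq] at h3
    rcases h3 with (h3 | h3) | h3
    · exact absurd h3 ha
    · exact absurd h3 hb
    · rw [← evalWd_append]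
      exact eq_of_wordEq 416 9 (evalWd_acts _) (evalWd_acts _) h3

end Cfsg.Agent.Lib.Helper27.G24
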