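import Mathlib
import Cfsg.Agent.Lib.Helper1.Critical
import Cfsg.Agent.Lib.Helper1.ClassTwo
import Cfsg.Agent.Lib.Helper1.AutSmall

set_option autoImplicit false

/-! A characteristic subgroup of small exponent of a finite `p`-group on which `p'`-automorphisms act
faithfully: the elements of order dividing `p` (dividing `4` when `p = 2`) of a critical subgroup. -/

namespace Cfsg.Agent.Lib.Helper27.HF

open scoped commutatorElement

variable {R : Type*} [Group R]

/-- restriction of an automorphism to a characteristic subgroup -/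
def resChar (D : Subgroup R) [hD : D.Characteristic] (a : MulAut R) : MulAut D where
  toFun x := ⟨a x, by
    have := Subgroup.characteristic_iff_map_le.mp hD a
    exact this ⟨x, x.2, rfl⟩⟩
  invFun x := ⟨a⁻¹ x, by
    have := Subgroup.characteristic_iff_map_le.mp hD a⁻¹
    exact this ⟨x, x.2, rfl⟩⟩
  left_inv x := by
    apply Subtype.ext
    simp
  right_inv x := by
    apply Subtype.ext
    simp
  map_mul' x y := by
    apply Subtype.ext
    simp

@[simp] theorem resChar_apply (D : Subgroup R) [D.Characteristic] (a : MulAut R) (x : D) :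
    ((resChar D a x : D) : R) = a x := rfl

theorem resChar_pow (D : Subgroup R) [D.Characteristic] (a : MulAut R) (n : ℕ) (x : D) :
    (((resChar D a) ^ n) x : R) = (a ^ n) x := by
  induction n generalizing x with
  | zero => simp
  | succ n ih =>
    rw [pow_succ, pow_succ, MulAut.mul_apply, MulAut.mul_apply, ih]
    rfl

theorem orderOf_resChar_dvd (D : Subgroup R) [D.Characteristic] (a : MulAut R) :
    orderOf (resChar D a) ∣ orderOf a := by
  apply orderOf_dvd_of_pow_eq_one
  ext x
  rw [resChar_pow, pow_orderOf_eq_one]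
  rfl

/-- an automorphism `a` of coprime order of a `p`-group fixing all the elements `x⁻¹ a(x)` is trivial -/
theorem eq_one_of_comm_fixed {p : ℕ} (hR : IsPGroup p R)
    (a : MulAut R) (ha : (orderOf a).Coprime p) (hfix : ∀ x : R, a (x⁻¹ * a x) = x⁻¹ * a x) : a = 1 := by
  ext x
  set z : R := x⁻¹ * a x with hz
  have hzfix : a z = z := hfix x
  have hax : a x = x * z := by rw [hz, mul_inv_cancel_left]
  have hpow : ∀ k : ℕ, (a ^ k) x = x * z ^ k := by
    intro k
    induction k with
    | zero => simp
    | succ k ih =>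
      rw [pow_succ', MulAut.mul_apply, ih, map_mul, map_pow, hzfix, pow_succ', hax, mul_assoc]
  have h1 := hpow (orderOf a)
  rw [pow_orderOf_eq_one, MulAut.one_apply] at h1
  have h2 : z ^ orderOf a = 1 := by
    have : x * z ^ orderOf a = x * 1 := by rw [mul_one]; exact h1.symm
    exact mul_left_cancel this
  obtain ⟨k, hk⟩ := hR z
  have h3 : orderOf z ∣ p ^ k := orderOf_dvd_of_pow_eq_one hk
  have h4 : orderOf z ∣ orderOf a := orderOf_dvd_of_pow_eq_one h2
  have h5 : (orderOf z).Coprime (p ^ k) := Nat.Coprime.pow_right k (Nat.Coprime.coprime_dvd_left h4 ha)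
  have h6 : orderOf z = 1 := Nat.Coprime.eq_one_of_dvd h5 h3
  rw [orderOf_eq_one_iff] at h6
  rw [MulAut.one_apply, hax, h6, mul_one]

/-- an automorphism of coprime order which is trivial on a self-centralizing normal subgroup of a `p`-group
is trivial -/
theorem eq_one_of_fix_selfCentralizing {p : ℕ} (hR : IsPGroup p R)
    (D : Subgroup R) [hDn : D.Normal] (hCD : Subgroup.centralizer (D : Set R) ≤ D)
    (a : MulAut R) (ha : (orderOf a).Coprime p) (hfix : ∀ d ∈ D, a d = d) : a = 1 := by
  apply eq_one_of_comm_fixed hR a ha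
  intro x
  apply hfix
  apply hCD
  rw [Subgroup.mem_centralizer_iff]
  intro d hd
  have h1 : x * d * x⁻¹ ∈ D := hDn.conj_mem d hd x
  have h2 := hfix _ h1
  rw [map_mul, map_mul, hfix d hd, map_inv] at h2
  calc d * (x⁻¹ * a x) = x⁻¹ * (x * d * x⁻¹) * a x := by group
    _ = x⁻¹ * (a x * d * (a x)⁻¹) * a x := by rw [h2]
    _ = x⁻¹ * a x * d := by group

/-- **Small faithful characteristic subgroup**: a finite `p`-group `R` has a characteristic subgroup `U` all of
whose elements have order dividing `p` (dividing `4` if `p = 2`) such that every automorphism of `R` of order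
prime to `p` which is trivial on `U` is trivial. -/
theorem exists_small_faithful [Finite R] {p : ℕ} [Fact p.Prime] (hR : IsPGroup p R) :
    ∃ U : Subgroup R, U.Characteristic ∧ (∀ x ∈ U, x ^ p = 1 ∨ (p = 2 ∧ x ^ 4 = 1)) ∧
      ∀ a : MulAut R, (orderOf a).Coprime p → (∀ x ∈ U, a x = x) → a = 1 := by
  have hpp : p.Prime := Fact.out
  obtain ⟨D, hDchar, hΦ, -, hCD⟩ := Cfsg.Agent.Lib.Helper1.exists_critical_subgroup (P := R) hR
  have := hDchar
  have hDn : D.Normal := inferInstance
  have hDp : IsPGroup p ↥D := hR.to_subgroup D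
  obtain ⟨e, he⟩ : ∃ e : ℕ, e = if p = 2 then 4 else p := ⟨_, rfl⟩
  have hdvd : p ∣ e.choose 2 := by
    by_cases hp2 : p = 2
    · rw [he, if_pos hp2, hp2]
      decide
    · rw [he, if_neg hp2]
      apply hpp.dvd_choose_self (by norm_num)
      have := hpp.two_le
      omega
  -- commutators of `D` are central in `D`
  have hcentral : ∀ c ∈ frattini ↥D, ∀ z : ↥D, c * z = z * c := by
    intro c hc z
    have h2 : (c : R) ∈ Subgroup.centralizer (D : Set R) := hΦ ⟨c, hc, rfl⟩
    have h3 := (Subgroup.mem_centralizer_iff.mp h2) (z : R) z.2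
    exact Subtype.ext h3.symm
  have hcl : ∀ x y z : ↥D, ⁅x, y⁆ * z = z * ⁅x, y⁆ := fun x y z =>
    hcentral _ (Cfsg.Agent.Lib.Helper1.IsPGroup.commutator_le_frattini hDp
      (Subgroup.commutator_mem_commutator (Subgroup.mem_top x) (Subgroup.mem_top y))) z
  have hcp : ∀ x y : ↥D, ⁅y, x⁆ ^ p = 1 := by
    intro x y
    rw [← Cfsg.Agent.Lib.Helper1.commutatorElement_pow_left (hcl y x y) p]
    have h1 : y ^ p ∈ frattini ↥D := Cfsg.Agent.Lib.Helper1.IsPGroup.pow_mem_frattini hDp y
    have h2 := hcentral _ h1 x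
    rw [commutatorElement_def, h2]
    group
  have hmul : ∀ x y : ↥D, x ^ e = 1 → y ^ e = 1 → (x * y) ^ e = 1 := by
    intro x y hx hy
    rw [Cfsg.Agent.Lib.Helper1.mul_pow_of_commutator_central (hcl y x x) (hcl y x y) e, hx, hy, one_mul]
    obtain ⟨m, hm⟩ := hdvd
    rw [hm, pow_mul, hcp, one_pow, one_mul]
  let U : Subgroup R :=
    { carrier := {x | x ∈ D ∧ x ^ e = 1}
      one_mem' := ⟨D.one_mem, one_pow e⟩
      mul_mem' := by
        rintro a b ⟨ha, hae⟩ ⟨hb, hbe⟩
        refine ⟨D.mul_mem ha hb, ?_⟩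
        have h1 := hmul ⟨a, ha⟩ ⟨b, hb⟩ (Subtype.ext hae) (Subtype.ext hbe)
        exact congrArg Subtype.val h1
      inv_mem' := by
        rintro a ⟨ha, hae⟩
        exact ⟨D.inv_mem ha, by rw [inv_pow, hae, inv_one]⟩ }
  have hUmem : ∀ x : R, x ∈ U ↔ x ∈ D ∧ x ^ e = 1 := fun x => Iff.rfl
  refine ⟨U, ?_, ?_, ?_⟩
  · rw [Subgroup.characteristic_iff_map_le]
    intro φ
    rintro _ ⟨x, hx, rfl⟩
    have hx := (hUmem x).mp hx
    rw [hUmem]
    refine ⟨(Subgroup.characteristic_iff_map_le.mp hDchar φ) ⟨x, hx.1, rfl⟩, ?_⟩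
    show (φ.toMonoidHom x) ^ e = 1
    rw [← map_pow, hx.2, map_one]
  · intro x hx
    rw [hUmem] at hx
    by_cases hp2 : p = 2
    · right
      refine ⟨hp2, ?_⟩
      have := hx.2
      rwa [he, if_pos hp2] at this
    · left
      have := hx.2
      rwa [he, if_neg hp2] at this
  · intro a ha hfix
    have h1 : resChar D a = 1 := by
      apply Cfsg.Agent.Lib.Helper1.mulAut_eq_one_of_small hDp (resChar D a)
        (Nat.Coprime.coprime_dvd_left (orderOf_resChar_dvd D a) ha)
      intro x hx
      have hxU : (x : R) ∈ U := by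
        rw [hUmem]
        refine ⟨x.2, ?_⟩
        rcases hx with hx | ⟨hp2, hx⟩
        · have hx' : (x : R) ^ p = 1 := by
            have := congrArg Subtype.val hx
            simpa using this
          by_cases hp2 : p = 2
          · rw [he, if_pos hp2]
            rw [hp2] at hx'
            have : (x : R) ^ 4 = ((x : R) ^ 2) ^ 2 := by rw [← pow_mul]
            rw [this, hx', one_pow]
          · rw [he, if_neg hp2]
            exact hx'
        · rw [he, if_pos hp2]
          have := congrArg Subtype.val hx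
          simpa using this
      apply Subtype.ext
      rw [resChar_apply]
      exact hfix _ hxU
    have hfixD : ∀ d ∈ D, a d = d := by
      intro d hd
      have h2 := congrArg (fun f : MulAut ↥D => ((f ⟨d, hd⟩ : ↥D) : R)) h1
      simpa using h2
    exact eq_one_of_fix_selfCentralizing hR D hCD a ha hfixD

end Cfsg.Agent.Lib.Helper27.HF
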