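import Mathlib
import Cfsg.Agent.Lib.Helper27.HFA
import Cfsg.Agent.Lib.Helper27.BGHFusionA
import Cfsg.Agent.Lib.Helper27.FusionUCS
import Cfsg.Agent.Lib.Helper27.FusionNormalCrit
import Cfsg.Agent.Lib.Helper27.FusionTopNormal
import Cfsg.Agent.H26.Hyperfocal

set_option autoImplicit false

/-! If the normalizer of `S` controls the fusion of the cyclic subgroups of order `p` or `4` of the hyperfocal
subgroup, then `S` is normal in the saturated fusion system. -/

namespace Cfsg.Agent.Lib.Helper27.HF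

open Cfsg Cfsg.FusionSystem Cfsg.Agent.Lib.Helper27

variable {Ω : Type*} [Group Ω] {S : Subgroup Ω}

/-- the hypothesis: maps between cyclic subgroups of order `p` or `4` of `hyp(F)` extend to all of `S` -/
def SmallCtl (F : FusionSystem S) (p : ℕ) : Prop :=
  ∀ A B : Subgroup Ω, A ≤ F.hyperfocalSubgroup p → B ≤ F.hyperfocalSubgroup p → IsCyclic ↥A →
    (Nat.card ↥A = p ∨ Nat.card ↥A = 4) → IsCyclic ↥B → (Nat.card ↥B = p ∨ Nat.card ↥B = 4) →
    F.homSet A B ⊆ F.normalizerHom S A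

/-- an automorphism of the system maps a strongly closed subgroup into itself -/
theorem iso_mem_of_stronglyClosed {F : FusionSystem S} {T : Subgroup Ω} (hT : F.StronglyClosed T)
    {Q : Subgroup Ω} {α : Q ≃* Q} (hα : IsIso F α) (x : Q) (hx : (x : Ω) ∈ T) : ((α x : Q) : Ω) ∈ T := by
  have h1 := hom_restrict F (inf_le_left : Q ⊓ T ≤ Q) hα
  exact hT.2 (Q ⊓ T) inf_le_right _ h1 ⟨x, ⟨x.2, hx⟩⟩

section

variable [Finite S] {p : ℕ} [Fact p.Prime] {F : FusionSystem S}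

/-- a map of the system on a small cyclic subgroup of `hyp(F)` is induced by an automorphism of `S` -/
theorem exists_top_aut (hS : IsPGroup p S) (hF : F.IsSaturated p) (h : SmallCtl F p)
    {a : Ω} (ha : a ∈ F.hyperfocalSubgroup p) (hord : orderOf a = p ∨ orderOf a = 4)
    {φ : Subgroup.zpowers a →* Ω} (hφ : φ ∈ F.Hom (Subgroup.zpowers a)) :
    ∃ β : S ≃* S, IsIso F β ∧ ∀ haS : a ∈ S, ((β ⟨a, haS⟩ : S) : Ω) = φ ⟨a, Subgroup.mem_zpowers a⟩ := by
  have hH := BGH.hyperfocal_stronglyClosed hS hF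
  have hA : Subgroup.zpowers a ≤ F.hyperfocalSubgroup p := Subgroup.zpowers_le.mpr ha
  have hB : φ.range ≤ F.hyperfocalSubgroup p := by
    rintro _ ⟨x, rfl⟩
    exact hH.2 _ hA φ hφ x
  have hinj : Function.Injective φ := F.injective_of_mem hφ
  have hcardB : Nat.card φ.range = Nat.card (Subgroup.zpowers a) :=
    (Nat.card_congr (MonoidHom.ofInjective hinj).toEquiv).symm
  have hcardA : Nat.card (Subgroup.zpowers a) = orderOf a := Nat.card_zpowers a
  have hcycA : IsCyclic ↥(Subgroup.zpowers a) := inferInstance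
  have hcycB : IsCyclic ↥φ.range :=
    isCyclic_of_surjective φ.rangeRestrict φ.rangeRestrict_surjective
  have hmem : φ ∈ F.homSet (Subgroup.zpowers a) φ.range := ⟨hφ, fun x => ⟨x, rfl⟩⟩
  have h1 := h _ _ hA hB hcycA (by rw [hcardA]; exact hord) hcycB (by rw [hcardB, hcardA]; exact hord) hmem
  obtain ⟨-, -, -, ψ, hψ, hext, -⟩ := h1
  have hψS := hom_restrict F (le_sup_right : S ≤ Subgroup.zpowers a ⊔ S) hψ
  obtain ⟨β, hβ, hβψ⟩ := exists_aut_of_hom_top F hψS
  refine ⟨β, hβ, fun haS => ?_⟩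
  rw [hβψ, ← hext]
  rfl

/-- the terms of the upper central series of `S` are invariant under the automorphisms of the system, as
far as small elements of `hyp(F)` are concerned -/
theorem aut_mem_ucs (hS : IsPGroup p S) (hF : F.IsSaturated p) (h : SmallCtl F p)
    {Q : Subgroup Ω} (hQS : Q ≤ S) {α : Q ≃* Q} (hα : IsIso F α) (j : ℕ) (x : Q)
    (hxH : (x : Ω) ∈ F.hyperfocalSubgroup p) (hxo : orderOf (x : Ω) = p ∨ orderOf (x : Ω) = 4)
    (hx : (x : Ω) ∈ ucs S j) : ((α x : Q) : Ω) ∈ ucs S j := by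
  have hle : Subgroup.zpowers (x : Ω) ≤ Q := Subgroup.zpowers_le.mpr x.2
  have hφ := hom_restrict F hle hα
  obtain ⟨β, hβ, hβx⟩ := exists_top_aut hS hF h hxH hxo hφ
  have h1 := hβx (hQS x.2)
  have h2 : ((β ⟨(x : Ω), hQS x.2⟩ : S) : Ω) ∈ ucs S j := (ucs_aut_mem S j β ⟨(x : Ω), hQS x.2⟩).mpr hx
  rw [h1] at h2
  exact h2

end

/-- restriction of the automorphisms of the system on `Q` to `Q ∩ T`, for `T` strongly closed -/
def resAut {F : FusionSystem S} {T : Subgroup Ω} (hT : F.StronglyClosed T) {Q : Subgroup Ω} (hQS : Q ≤ S) :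
    F.autGroup Q →* MulAut ↥(Q ⊓ T) where
  toFun α :=
    { toFun := fun x => ⟨(((α : MulAut Q) ⟨x, x.2.1⟩ : Q) : Ω), ⟨Subtype.coe_prop _,
        iso_mem_of_stronglyClosed hT ((mem_autGroup_iff F hQS α).mp α.2) ⟨x, x.2.1⟩ x.2.2⟩⟩
      invFun := fun x => ⟨((((α⁻¹ : F.autGroup Q) : MulAut Q) ⟨x, x.2.1⟩ : Q) : Ω), ⟨Subtype.coe_prop _,
        iso_mem_of_stronglyClosed hT ((mem_autGroup_iff F hQS α⁻¹).mp (α⁻¹).2) ⟨x, x.2.1⟩ x.2.2⟩⟩
      left_inv := by
        intro x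
        apply Subtype.ext
        simp
      right_inv := by
        intro x
        apply Subtype.ext
        simp
      map_mul' := by
        intro x y
        apply Subtype.ext
        have h1 : (⟨((x * y : ↥(Q ⊓ T)) : Ω), (x * y).2.1⟩ : Q) = ⟨x, x.2.1⟩ * ⟨y, y.2.1⟩ := rfl
        show ((((α : MulAut Q) ⟨((x * y : ↥(Q ⊓ T)) : Ω), (x * y).2.1⟩ : Q)) : Ω) =
          (((α : MulAut Q) ⟨x, x.2.1⟩ : Q) : Ω) * (((α : MulAut Q) ⟨y, y.2.1⟩ : Q) : Ω)
        rw [h1, map_mul]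
        rfl }
  map_one' := by
    ext x
    rfl
  map_mul' := by
    intro α β
    ext x
    rfl

theorem resAut_apply {F : FusionSystem S} {T : Subgroup Ω} (hT : F.StronglyClosed T) {Q : Subgroup Ω}
    (hQS : Q ≤ S) (α : F.autGroup Q) (x : ↥(Q ⊓ T)) :
    ((resAut hT hQS α x : ↥(Q ⊓ T)) : Ω) = (((α : MulAut Q) ⟨x, x.2.1⟩ : Q) : Ω) := rfl

end Cfsg.Agent.Lib.Helper27.HF
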