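import Mathlib
import Cfsg.Agent.Lib.Helper27.HFB
import Cfsg.Agent.Lib.Helper27.FusionAlperin
import Cfsg.Agent.Lib.Helper1.Cores

set_option autoImplicit false

/-! The main step: under the hypothesis `SmallCtl`, a centric radical subgroup of a saturated fusion system is
all of `S`. -/

namespace Cfsg.Agent.Lib.Helper27.HF

open Cfsg Cfsg.FusionSystem Cfsg.Agent.Lib.Helper27

variable {Ω : Type*} [Group Ω] {S : Subgroup Ω}

theorem pow_apply_of_fixed' {G : Type*} [Group G] (γ : MulAut G) {x : G} (h : γ x = x) (j : ℕ) :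
    (γ ^ j) x = x := by
  induction j with
  | zero => rfl
  | succ j ih => rw [pow_succ, MulAut.mul_apply, h, ih]

variable [Finite S] {p : ℕ} [Fact p.Prime] {F : FusionSystem S}

/-- some `p`-power of an element of the chain stabilizer fixes the last term of the chain pointwise -/
theorem chainStabilizer_pow_fix (hS : IsPGroup p S) (F : FusionSystem S)
    {R : Subgroup Ω} (hRS : R ≤ S) (b : ℕ → Subgroup Ω) (m : ℕ)
    (hinv : ∀ j, ∀ α : F.autGroup R, ∀ x : R, (x : Ω) ∈ b j → ((((α : MulAut R) x : R)) : Ω) ∈ b j)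
    (hb0 : b 0 = ⊥) (γ : chainStabilizer F R b m hinv) :
    ∃ k : ℕ, ∀ x : R, (x : Ω) ∈ b m → (((γ ^ p ^ k : chainStabilizer F R b m hinv) :
      F.autGroup R) : MulAut R) x = x := by
  haveI : Finite R := Finite.of_injective (Subgroup.inclusion hRS) (Subgroup.inclusion_injective hRS)
  have hpR : IsPGroup p R := hS.of_injective (Subgroup.inclusion hRS) (Subgroup.inclusion_injective hRS)
  obtain ⟨a, ha⟩ := IsPGroup.iff_card.mp hpR
  have key : ∀ j ≤ m, ∃ k : ℕ, ∀ x : R, (x : Ω) ∈ b j → (((γ ^ p ^ k : chainStabilizer F R b m hinv) :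
      F.autGroup R) : MulAut R) x = x := by
    intro j
    induction j with
    | zero =>
      intro _
      refine ⟨0, fun x hx => ?_⟩
      rw [hb0, Subgroup.mem_bot] at hx
      have : x = 1 := Subtype.ext hx
      rw [this, map_one]
    | succ j ih =>
      intro hj
      obtain ⟨k, hk⟩ := ih (by omega)
      refine ⟨k + a, fun x hx => ?_⟩
      set δ : chainStabilizer F R b m hinv := γ ^ p ^ k with hδ
      have hy := δ.2 j (by omega) x hx
      have hδy := hk _ hy
      have hpow : ∀ t : ℕ, (((δ ^ t : chainStabilizer F R b m hinv) : F.autGroup R) : MulAut R) x =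
          x * (x⁻¹ * ((δ : F.autGroup R) : MulAut R) x) ^ t := by
        intro t
        induction t with
        | zero => simp
        | succ t iht =>
          rw [pow_succ']
          simp only [Subgroup.coe_mul, MulAut.mul_apply]
          rw [iht, map_mul, map_pow, hδy]
          rw [pow_succ' (x⁻¹ * ((δ : F.autGroup R) : MulAut R) x) t, ← mul_assoc, mul_inv_cancel_left]
      have h1 := hpow (p ^ a)
      have h2 : (x⁻¹ * ((δ : F.autGroup R) : MulAut R) x) ^ p ^ a = 1 := by
        rw [← ha]; exact pow_card_eq_one'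
      rw [h2, mul_one] at h1
      have h3 : γ ^ p ^ (k + a) = δ ^ p ^ a := by
        rw [hδ, ← pow_mul, ← pow_add]
      rw [h3]
      exact h1
  exact key m le_rfl

/-- **Main step**: under `SmallCtl`, no proper subgroup of `S` is centric and radical. -/
theorem no_proper_centric_radical (hS : IsPGroup p S) (hF : F.IsSaturated p) (h : SmallCtl F p)
    {Q : Subgroup Ω} (hlt : Q < S) (hc : F.IsCentric Q) (hr : F.IsRadical p Q) : False := by
  classical
  have hpp : p.Prime := Fact.out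
  have hQS : Q ≤ S := hlt.le
  have hH := BGH.hyperfocal_stronglyClosed hS hF
  haveI : Finite Q := Finite.of_injective (Subgroup.inclusion hQS) (Subgroup.inclusion_injective hQS)
  have hQp : IsPGroup p Q := hS.of_injective (Subgroup.inclusion hQS) (Subgroup.inclusion_injective hQS)
  have hRQ : Q ⊓ F.hyperfocalSubgroup p ≤ Q := inf_le_left
  haveI : Finite ↥(Q ⊓ F.hyperfocalSubgroup p) :=
    Finite.of_injective (Subgroup.inclusion hRQ) (Subgroup.inclusion_injective hRQ)
  have hRp : IsPGroup p ↥(Q ⊓ F.hyperfocalSubgroup p) :=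
    hQp.of_injective (Subgroup.inclusion hRQ) (Subgroup.inclusion_injective hRQ)
  obtain ⟨U₀, hU₀char, hU₀small, hU₀faith⟩ := exists_small_faithful hRp
  obtain ⟨U, hUdef⟩ : ∃ U : Subgroup Ω, U = U₀.map (Q ⊓ F.hyperfocalSubgroup p).subtype := ⟨_, rfl⟩
  have hUmem : ∀ y : Ω, y ∈ U ↔ ∃ u ∈ U₀, ((u : ↥(Q ⊓ F.hyperfocalSubgroup p)) : Ω) = y := by
    intro y
    rw [hUdef]
    rfl
  have hUQ : U ≤ Q := by
    intro y hy
    obtain ⟨u, -, rfl⟩ := (hUmem y).mp hy
    exact u.2.1
  have hUH : U ≤ F.hyperfocalSubgroup p := by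
    intro y hy
    obtain ⟨u, -, rfl⟩ := (hUmem y).mp hy
    exact u.2.2
  -- `U` is invariant under the automorphisms of the system
  have hUinv : ∀ α : F.autGroup Q, ∀ x : Q, (x : Ω) ∈ U → (((α : MulAut Q) x : Q) : Ω) ∈ U := by
    intro α x hx
    obtain ⟨u, hu, hux⟩ := (hUmem _).mp hx
    rw [hUmem]
    refine ⟨resAut hH hQS α u, ?_, ?_⟩
    · exact (Subgroup.characteristic_iff_map_le.mp hU₀char (resAut hH hQS α)) ⟨u, hu, rfl⟩
    · rw [resAut_apply]
      have : (⟨(u : Ω), u.2.1⟩ : Q) = x := Subtype.ext hux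
      rw [this]
  -- the nonidentity elements of `U` have order `p` or `4`
  have hUord : ∀ x ∈ U, x ≠ 1 → orderOf x = p ∨ orderOf x = 4 := by
    intro x hx hne
    obtain ⟨u, hu, rfl⟩ := (hUmem _).mp hx
    have hne1 : orderOf (u : Ω) ≠ 1 := by
      rw [Ne, orderOf_eq_one_iff]
      exact hne
    rcases hU₀small u hu with h1 | ⟨hp2, h1⟩
    · left
      have h2 : (u : Ω) ^ p = 1 := by
        have := congrArg Subtype.val h1
        simpa using this
      rcases (Nat.dvd_prime hpp).mp (orderOf_dvd_of_pow_eq_one h2) with h3 | h3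
      · exact (hne1 h3).elim
      · exact h3
    · have h2 : (u : Ω) ^ 4 = 1 := by
        have := congrArg Subtype.val h1
        simpa using this
      have h3 : orderOf (u : Ω) ∣ 2 ^ 2 := orderOf_dvd_of_pow_eq_one (by norm_num; exact h2)
      obtain ⟨k, hk, hk2⟩ := (Nat.dvd_prime_pow Nat.prime_two).mp h3
      interval_cases k
      · exact (hne1 (by simpa using hk2)).elim
      · left
        rw [hk2, hp2]
        norm_num
      · right
        rw [hk2]
        norm_num
  -- the chain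
  obtain ⟨b, hbdef⟩ : ∃ b : ℕ → Subgroup Ω, b = fun j => U ⊓ ucs S j := ⟨_, rfl⟩
  have hbmem : ∀ (j : ℕ) (y : Ω), y ∈ b j ↔ y ∈ U ∧ y ∈ ucs S j := by
    intro j y
    rw [hbdef]
    rfl
  have hinv : ∀ j, ∀ α : F.autGroup Q, ∀ x : Q, (x : Ω) ∈ b j → (((α : MulAut Q) x : Q) : Ω) ∈ b j := by
    intro j α x hx
    rw [hbmem] at hx ⊢
    refine ⟨hUinv α x hx.1, ?_⟩
    by_cases h1 : (x : Ω) = 1
    · have h2 : x = 1 := Subtype.ext h1
      rw [h2, map_one]
      exact Subgroup.one_mem _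
    · exact aut_mem_ucs hS hF h hQS ((mem_autGroup_iff F hQS α).mp α.2) j x (hUH hx.1)
        (hUord _ hx.1 h1) hx.2
  obtain ⟨n, hn⟩ := exists_ucs_eq hS
  have hb0 : b 0 = ⊥ := by
    ext y
    rw [hbmem, ucs_zero, Subgroup.mem_bot]
    constructor
    · rintro ⟨-, h2⟩
      exact h2
    · rintro rfl
      exact ⟨Subgroup.one_mem _, rfl⟩
  have hbn : ∀ y : Ω, y ∈ b n ↔ y ∈ U := by
    intro y
    rw [hbmem, hn]
    exact ⟨fun h1 => h1.1, fun h1 => ⟨h1, hQS (hUQ h1)⟩⟩
  have hKn : (chainStabilizer F Q b n hinv).Normal := chainStabilizer_normal F Q b n hinv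
  -- the `p'`-elements of the chain stabilizer are trivial
  have hKtriv : ∀ γ : chainStabilizer F Q b n hinv, (orderOf γ).Coprime p → γ = 1 := by
    intro γ hγ
    have hγ' : (orderOf (γ : F.autGroup Q)).Coprime p := by rwa [Subgroup.orderOf_coe]
    have hγ'' : (orderOf ((γ : F.autGroup Q) : MulAut Q)).Coprime p := by rwa [Subgroup.orderOf_coe]
    obtain ⟨k, hk⟩ := chainStabilizer_pow_fix hS F hQS b n hinv hb0 γ
    obtain ⟨t, ht⟩ := exists_pow_eq_self_of_coprime (x := γ) (n := p ^ k) (Nat.Coprime.pow_left k hγ.symm)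
    have hfixU : ∀ x : Q, (x : Ω) ∈ U → ((γ : F.autGroup Q) : MulAut Q) x = x := by
      intro x hx
      have h1 := hk x ((hbn _).mpr hx)
      have h2 : ((((γ ^ p ^ k) ^ t : chainStabilizer F Q b n hinv) : F.autGroup Q) : MulAut Q) x = x := by
        rw [Subgroup.coe_pow, Subgroup.coe_pow]
        exact pow_apply_of_fixed' _ h1 t
      rwa [ht] at h2
    have hres : resAut hH hQS (γ : F.autGroup Q) = 1 := by
      apply hU₀faith
      · exact Nat.Coprime.coprime_dvd_left (orderOf_map_dvd _ _) hγ'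
      · intro u hu
        apply Subtype.ext
        rw [resAut_apply]
        have h1 := hfixU ⟨u, u.2.1⟩ ((hUmem _).mpr ⟨u, hu, rfl⟩)
        rw [h1]
    have hfixR : ∀ x : Q, (x : Ω) ∈ F.hyperfocalSubgroup p → ((γ : F.autGroup Q) : MulAut Q) x = x := by
      intro x hx
      have h1 := congrArg (fun f : MulAut ↥(Q ⊓ F.hyperfocalSubgroup p) =>
        ((f ⟨x, ⟨x.2, hx⟩⟩ : ↥(Q ⊓ F.hyperfocalSubgroup p)) : Ω)) hres
      simp only [resAut_apply, MulAut.one_apply] at h1
      exact Subtype.ext h1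
    have hγres : (γ : F.autGroup Q) ∈ pResidual p (F.autGroup Q) := Subgroup.subset_closure hγ'
    have hone : ((γ : F.autGroup Q) : MulAut Q) = 1 := by
      apply eq_one_of_comm_fixed hQp _ hγ''
      intro x
      apply hfixR
      have h1 := Cfsg.Agent.H26.mem_hyperfocal F p hQS (γ : F.autGroup Q) hγres x
      simpa using h1
    exact Subtype.ext (Subtype.ext hone)
  have hKp : IsPGroup p (chainStabilizer F Q b n hinv) := by
    intro γ
    have hpos : orderOf γ ≠ 0 := (orderOf_pos γ).ne'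
    obtain ⟨k, m, hm, hkm⟩ := Nat.exists_eq_pow_mul_and_not_dvd hpos p hpp.ne_one
    refine ⟨k, ?_⟩
    apply hKtriv
    have h1 : (γ ^ p ^ k) ^ m = 1 := by rw [← pow_mul, ← hkm, pow_orderOf_eq_one]
    exact Nat.Coprime.coprime_dvd_left (orderOf_dvd_of_pow_eq_one h1)
      ((Nat.Prime.coprime_iff_not_dvd hpp).mpr hm).symm
  have hX := Cfsg.Agent.Lib.Helper1.le_pCore hKn hKp
  -- `N_S(Q) ≤ Q`
  obtain ⟨g, hgN, hgQ⟩ := exists_mem_normalizerIn_not_mem hS hlt
  apply hgQ
  have h1 : conjAutHom S Q ⟨g, hgN⟩ ∈ autInducedBy S Q := by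
    rw [← conjAutHom_range]; exact ⟨_, rfl⟩
  have h1A : conjAutHom S Q ⟨g, hgN⟩ ∈ F.autGroup Q := autInducedBy_le_autGroup F hQS h1
  have h2 : (⟨conjAutHom S Q ⟨g, hgN⟩, h1A⟩ : F.autGroup Q) ∈ chainStabilizer F Q b n hinv := by
    intro j hj x hx
    have hx1 := hinv (j + 1) ⟨_, h1A⟩ x hx
    rw [hbmem] at hx hx1 ⊢
    refine ⟨?_, ?_⟩
    · exact U.mul_mem (U.inv_mem hx.1) hx1.1
    · have h3 := ucs_comm_mem S j ((ucs S (j + 1)).inv_mem hx.2) hgN.1
      have h4 : ((x⁻¹ * ((⟨conjAutHom S Q ⟨g, hgN⟩, h1A⟩ : F.autGroup Q) : MulAut Q) x : Q) : Ω) =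
          (x : Ω)⁻¹ * g * ((x : Ω)⁻¹)⁻¹ * g⁻¹ := by
        rw [Subgroup.coe_mul, Subgroup.coe_inv]
        show (x : Ω)⁻¹ * ((conjAutHom S Q ⟨g, hgN⟩ x : Q) : Ω) = _
        rw [conjAutHom_apply]
        group
      rw [h4]
      exact h3
  apply mem_of_conjAutHom_mem_inn hc hgN
  rw [← hr.2]
  exact ⟨_, hX h2, rfl⟩

/-- If the normalizer of `S` controls the fusion of the small cyclic subgroups of the hyperfocal subgroup, then
`S` is normal in the system. -/
theorem isNormal_top_of_smallCtl (hS : IsPGroup p S) (hF : F.IsSaturated p) (h : SmallCtl F p) :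
    F.IsNormal S :=
  isNormal_top_of_no_proper_frc hS hF (fun _ hR _ hc hr => no_proper_centric_radical hS hF h hR hc hr)

end Cfsg.Agent.Lib.Helper27.HF
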