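import Mathlib
import Cfsg.Agent.Lib.Helper27.LG2FocalModel
import Cfsg.Agent.Lib.Helper27.CenterRefl
import Cfsg.Agent.S1993
import Cfsg.Agent.H5.KInf2

set_option autoImplicit false

/-! If a positive characteristic `p`-functor controls transfer in all saturated fusion systems, then
a saturated fusion system over `S ≠ 1` in which `Aut_F(S)` is a `p`-group has a proper focal
subgroup. Applied to the upper `K`-infinity functor for `p ≥ 5`. -/

namespace Cfsg.Agent.Lib.Helper27.LG2

open Cfsg Cfsg.FusionSystem Cfsg.Agent.Lib.Helper27 Cfsg.Agent.Lib.Helper27.LG Cfsg.Agent.H26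
open scoped commutatorElement

universe u

/-- All maps of the system defined on `S` are conjugations by elements of `S`. -/
def InnTop {Ω : Type*} [Group Ω] {S : Subgroup Ω} (F : FusionSystem S) : Prop :=
  ∀ (P : Subgroup Ω), S ≤ P → ∀ φ ∈ F.Hom P, ∃ s ∈ S, ∀ x : P, φ x = s * (x : Ω) * s⁻¹

theorem innTop_of_isPGroup {Ω : Type*} [Group Ω] {S : Subgroup Ω} [Finite S] {p : ℕ} [Fact p.Prime]
    (hS : IsPGroup p S) {F : FusionSystem S} (hF : F.IsSaturated p)
    (haut : IsPGroup p ↥(F.autGroup S)) : InnTop F := by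
  intro P hSP φ hφ
  obtain rfl : S = P := le_antisymm hSP (hom_le F hφ)
  obtain ⟨α, hα, hαx⟩ := exists_aut_of_hom_top F hφ
  have hfn : F.IsFullyNormalized S := by
    refine ⟨le_rfl, fun Q hQ => ?_⟩
    have hQS := isConj_le_right F hQ
    have : Q = S := by
      apply Subgroup.eq_of_le_of_card_ge hQS
      rw [card_eq_of_isConj' F hQ]
    rw [this]
  obtain ⟨c, hc⟩ := exists_conj_isPGroup_mem_autInducedBy hS hF hfn ⊤ (haut.to_subgroup ⊤)
  have haG : (α : MulAut S) ∈ F.autGroup S := (mem_autGroup_iff F le_rfl α).mpr hα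
  have h1 := hc (c⁻¹ * ⟨α, haG⟩ * c) (Subgroup.mem_top _)
  have h2 : c * (c⁻¹ * ⟨α, haG⟩ * c) * c⁻¹ = (⟨α, haG⟩ : F.autGroup S) := by group
  rw [h2, mem_autInducedBy_iff] at h1
  obtain ⟨g, hg, hgx⟩ := h1
  refine ⟨g, hg, fun x => ?_⟩
  rw [← hαx x]
  exact hgx x

theorem focal_le_top {Ω : Type*} [Group Ω] {S : Subgroup Ω} (F : FusionSystem S) :
    F.focalSubgroup ≤ S := by
  apply focal_le_of_good
  intro P φ hφ x
  exact S.mul_mem (S.inv_mem (hom_le F hφ x.2)) ((F.le_of_mem hφ).2 x)

variable {W : ∀ (Q : Type u) [Group Q], Subgroup Q} {p : ℕ} [Fact p.Prime]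

theorem focal_lt_aux (hW : Cfsg.IsCharPFunctor.{u} p W)
    (hfoc : ∀ (Ω : Type u) [Group Ω] (S : Subgroup Ω) [Finite S], IsPGroup p S →
      ∀ F : FusionSystem S, F.IsSaturated p →
        ∀ N : FusionSystem (normalizerIn S (wsub W S)), F.IsNormalizerSystem (wsub W S) N →
          N.focalSubgroup = F.focalSubgroup) :
    ∀ (n : ℕ) (Ω : Type u) [Group Ω] (S : Subgroup Ω) [Finite S],
      Nat.card S = n → IsPGroup p S → ∀ F : FusionSystem S, F.IsSaturated p → S ≠ ⊥ → InnTop F →
        F.focalSubgroup < S := by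
  intro n
  induction n using Nat.strong_induction_on with
  | _ n IH =>
  intro Ω _ S _ hn hS F hF hS1 hinn
  obtain ⟨V, hVdef⟩ : ∃ V : Subgroup Ω, V = wsub W S := ⟨_, rfl⟩
  have hWn : normalizerIn S V = S := by rw [hVdef]; exact normalizerIn_wsub hW S hS
  have hVS : V ≤ S := by rw [hVdef]; exact wsub_le W S
  have hV1 : V ≠ ⊥ := by rw [hVdef]; exact wsub_ne_bot hW S hS hS1
  obtain ⟨N, hN⟩ : ∃ N : FusionSystem (normalizerIn S V), F.IsNormalizerSystem V N :=
    ⟨nsys F V hVS, nsys_spec F V hVS⟩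
  have hfe : N.focalSubgroup = F.focalSubgroup := by
    subst hVdef
    exact hfoc Ω S hS F hF N hN
  rw [← hfe]
  haveI : Finite ↥V := Finite.of_injective (Subgroup.inclusion hVS) (Subgroup.inclusion_injective hVS)
  have hTS : normalizerIn S V ≤ S := inf_le_left
  haveI : Finite ↥(normalizerIn S V) :=
    Finite.of_injective (Subgroup.inclusion hTS) (Subgroup.inclusion_injective hTS)
  have hTp : IsPGroup p ↥(normalizerIn S V) :=
    hS.of_injective (Subgroup.inclusion hTS) (Subgroup.inclusion_injective hTS)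
  have hVfn : F.IsFullyNormalized V := isFullyNormalized_of_normal F hVS hWn
  have hNsat : N.IsSaturated p := normalizerSystem_saturated hS hF hVfn N hN
  have hNn : N.IsNormal V := normalizerSystem_isNormal hVS hN
  have hNF : ∀ P : Subgroup Ω, N.Hom P ⊆ F.Hom P := normalizerSystem_hom_subset hN
  have hfle : N.focalSubgroup ≤ S := (focal_le_top N).trans hTS
  have hinnN : InnTop N := by
    intro P hP φ hφ
    obtain ⟨s, hs, hsx⟩ := hinn P (by rw [← hWn]; exact hP) φ (hNF P hφ)
    exact ⟨s, by rw [hWn]; exact hs, hsx⟩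
  refine lt_of_le_of_ne hfle ?_
  intro hfeq
  by_cases hVeq : V = S
  · -- `V = S`: the focal subgroup is the commutator subgroup
    have h1 : N.focalSubgroup ≤ ⁅(S : Subgroup Ω), (S : Subgroup Ω)⁆ := by
      apply focal_le_of_good
      intro P φ hφ x
      rw [hN P] at hφ
      obtain ⟨h1, h2, h3, ψ, hψ, h4, h5⟩ := hφ
      have hle : S ≤ P ⊔ V := by rw [hVeq]; exact le_sup_right
      obtain ⟨s, hs, hsx⟩ := hinn (P ⊔ V) hle ψ hψ
      have h6 := hsx (Subgroup.inclusion le_sup_left x)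
      rw [h4 x] at h6
      rw [h6]
      have hxS : (x : Ω) ∈ S := hom_le F h1 x.2
      have h7 : (x : Ω)⁻¹ * (s * ((Subgroup.inclusion (le_sup_left : P ≤ P ⊔ V) x : ↥(P ⊔ V)) : Ω) * s⁻¹) =
          ⁅(x : Ω)⁻¹, s⁆ := by
        rw [commutatorElement_def]
        simp only [Subgroup.coe_inclusion, inv_inv, mul_assoc]
      rw [h7]
      exact Subgroup.commutator_mem_commutator (S.inv_mem hxS) hs
    have h2 : ⁅(S : Subgroup Ω), (S : Subgroup Ω)⁆ = S := by
      apply le_antisymm
      · rw [Subgroup.commutator_le]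
        intro a ha b hb
        rw [commutatorElement_def]
        exact S.mul_mem (S.mul_mem (S.mul_mem ha hb) (S.inv_mem ha)) (S.inv_mem hb)
      · intro s hs
        have hs' : s ∈ N.focalSubgroup := by rw [hfeq]; exact hs
        exact h1 hs'
    have h3 : commutator ↥S = ⊤ := by
      apply Subgroup.map_injective S.subtype_injective
      rw [Subgroup.map_subtype_commutator, h2, ← MonoidHom.range_eq_map, Subgroup.range_subtype]
    haveI : Nontrivial ↥S := (Subgroup.nontrivial_iff_ne_bot S).mpr hS1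
    haveI : Group.IsNilpotent ↥S := hS.isNilpotent
    exact (IsSolvable.commutator_lt_top_of_nontrivial ↥S).ne h3
  · -- `V < S`: pass to the factor system
    have hUsc : N.StronglyClosed V := normal_stronglyClosed hNn
    haveI : (V.subgroupOf (normalizerIn S V)).Normal :=
      Subgroup.normal_subgroupOf_of_le_normalizer inf_le_right
    obtain ⟨E', hfac⟩ := Cfsg.Agent.S5132.result p hTp N V hUsc
    have hsm := Cfsg.Agent.S5134.result p hTp N hNsat V hUsc _ E' hfac
    have hE'sat : E'.IsSaturated p := Cfsg.Agent.S5133.result p hTp N hNsat E' _ hsm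
    haveI : Finite ↥(⊤ : Subgroup (↥(normalizerIn S V) ⧸ V.subgroupOf (normalizerIn S V))) :=
      inferInstance
    have hp' : IsPGroup p ↥(⊤ : Subgroup (↥(normalizerIn S V) ⧸ V.subgroupOf (normalizerIn S V))) :=
      (hTp.to_quotient _).to_subgroup _
    have hcard' : Nat.card ↥(⊤ : Subgroup (↥(normalizerIn S V) ⧸ V.subgroupOf (normalizerIn S V))) < n := by
      rw [Subgroup.card_top, ← hn]
      have h3 := Subgroup.card_eq_card_quotient_mul_card_subgroup (V.subgroupOf (normalizerIn S V))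
      have h4 : Nat.card (V.subgroupOf (normalizerIn S V)) = Nat.card V :=
        Nat.card_congr (Subgroup.subgroupOfEquivOfLe (le_normalizerIn hVS)).toEquiv
      have h5 : 1 < Nat.card V := by
        rw [Subgroup.one_lt_card_iff_ne_bot]
        exact hV1
      have h6 : Nat.card ↥(normalizerIn S V) = Nat.card S := by rw [hWn]
      rw [h4, h6] at h3
      have h7 : 0 < Nat.card (↥(normalizerIn S V) ⧸ V.subgroupOf (normalizerIn S V)) := Nat.card_pos
      nlinarith
    obtain ⟨hUT, hker, hrange, hhom⟩ := id hfac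
    have htop' : (⊤ : Subgroup (↥(normalizerIn S V) ⧸ V.subgroupOf (normalizerIn S V))) ≠ ⊥ := by
      intro htop
      apply hVeq
      apply le_antisymm hVS
      intro s hs
      have hs' : s ∈ normalizerIn S V := by rw [hWn]; exact hs
      apply (hker ⟨s, hs'⟩).mp
      have h1 : QuotientGroup.mk' (V.subgroupOf (normalizerIn S V)) ⟨s, hs'⟩ ∈
          (⊤ : Subgroup (↥(normalizerIn S V) ⧸ V.subgroupOf (normalizerIn S V))) := Subgroup.mem_top _
      rw [htop] at h1
      exact Subgroup.mem_bot.mp h1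
    have hinnE : InnTop E' := by
      intro P' hP' φ' hφ'
      obtain ⟨-, φ, hφ, hP, hφS, hPP', hind⟩ := (hhom P' φ').mp hφ'
      have hle : normalizerIn S V ≤ preimageAlong (QuotientGroup.mk' (V.subgroupOf (normalizerIn S V))) P' := by
        intro x hx
        exact mem_preimageAlong.mpr ⟨hx, hP' (Subgroup.mem_top _)⟩
      obtain ⟨s, hs, hsx⟩ := hinnN _ hle φ hφ
      refine ⟨QuotientGroup.mk' (V.subgroupOf (normalizerIn S V)) ⟨s, hs⟩, Subgroup.mem_top _, fun x' => ?_⟩
      obtain ⟨y, hy⟩ := QuotientGroup.mk'_surjective (V.subgroupOf (normalizerIn S V)) (x' : _)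
      have hyP : (y : Ω) ∈ preimageAlong (QuotientGroup.mk' (V.subgroupOf (normalizerIn S V))) P' := hle y.2
      have h1 := hind ⟨y, hyP⟩
      have h2 : (⟨QuotientGroup.mk' (V.subgroupOf (normalizerIn S V))
          ⟨((⟨y, hyP⟩ : preimageAlong (QuotientGroup.mk' (V.subgroupOf (normalizerIn S V))) P') : Ω),
            hP hyP⟩, hPP' ⟨y, hyP⟩⟩ : ↥P') = x' := Subtype.ext hy
      rw [h2] at h1
      rw [h1]
      have h3 : (⟨φ ⟨y, hyP⟩, hφS ⟨y, hyP⟩⟩ : ↥(normalizerIn S V)) = ⟨s, hs⟩ * y * ⟨s, hs⟩⁻¹ :=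
        Subtype.ext (hsx ⟨y, hyP⟩)
      rw [h3, map_mul, map_mul, map_inv, hy]
    have hIH := IH _ hcard' _ ⊤ rfl hp' E' hE'sat htop' hinnE
    apply hIH.ne
    apply le_antisymm (focal_le_top E')
    intro x' _
    obtain ⟨y, hy⟩ := QuotientGroup.mk'_surjective (V.subgroupOf (normalizerIn S V)) x'
    have hyf : (y : Ω) ∈ N.focalSubgroup := by rw [hfeq]; exact hTS y.2
    have hM : N.focalSubgroup ≤
        preimageAlong (QuotientGroup.mk' (V.subgroupOf (normalizerIn S V))) E'.focalSubgroup := by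
      apply focal_le_of_good
      intro P φ hφ x
      exact mem_preimageAlong.mpr ⟨_, induced_focal hTp hNsat hUsc hfac hφ x⟩
    obtain ⟨hy1, hy2⟩ := mem_preimageAlong.mp (hM hyf)
    rw [← hy]
    exact hy2

/-- The upper `K`-infinity functor satisfies the hypothesis on models for `p ≥ 5`. -/
theorem modelFocal_kInfUpper (hp : 5 ≤ p) : ModelFocal.{u} p Cfsg.kInfUpper := by
  apply modelFocal_of_local (Cfsg.H5.KI.isCharPFunctor_kInfUpper p)
  intro G _ _ P hcen
  have h := (Cfsg.Agent.S1993.result P).1 hp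
  have hle : pCore p G ≤ (P : Subgroup G) := Cfsg.Agent.Lib.Helper16.pCore_le_sylow P
  have h' : (P : Subgroup G) ⊓ commutator G = (P : Subgroup G) ⊓
      (commutator ↥(Subgroup.normalizer ((wsub Cfsg.kInfUpper (P : Subgroup G) : Subgroup G) : Set G))).map
        (Subgroup.normalizer ((wsub Cfsg.kInfUpper (P : Subgroup G) : Subgroup G) : Set G)).subtype := by
    rw [Subgroup.map_subtype_commutator]
    exact h
  calc pCore p G ⊓ commutator G = pCore p G ⊓ ((P : Subgroup G) ⊓ commutator G) := by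
        rw [← inf_assoc, inf_eq_left.mpr hle]
    _ = pCore p G ⊓ ((P : Subgroup G) ⊓
      (commutator ↥(Subgroup.normalizer ((wsub Cfsg.kInfUpper (P : Subgroup G) : Subgroup G) : Set G))).map
        (Subgroup.normalizer ((wsub Cfsg.kInfUpper (P : Subgroup G) : Subgroup G) : Set G)).subtype) := by
        rw [h']
    _ = _ := by rw [← inf_assoc, inf_eq_left.mpr hle]

/-- For `p ≥ 5`, a saturated fusion system over `S ≠ 1` with `Aut_F(S)` a `p`-group has a proper
focal subgroup. -/
theorem focal_lt_of_five_le {Ω : Type u} [Group Ω] {S : Subgroup Ω} [Finite S] (hS : IsPGroup p S)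
    {F : FusionSystem S} (hF : F.IsSaturated p) (hp : 5 ≤ p) (hS1 : S ≠ ⊥)
    (haut : IsPGroup p ↥(F.autGroup S)) : F.focalSubgroup < S :=
  focal_lt_aux (Cfsg.H5.KI.isCharPFunctor_kInfUpper p)
    (fun Ω _ S _ hS F hF N hN =>
      focal_eq (Cfsg.H5.KI.isCharPFunctor_kInfUpper p) (modelFocal_kInfUpper hp) hS hF N hN)
    _ Ω S rfl hS F hF hS1 (innTop_of_isPGroup hS hF haut)

end Cfsg.Agent.Lib.Helper27.LG2
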