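import Mathlib
import Cfsg.Agent.S5421
import Cfsg.Agent.Lib.Helper9.AutIndex
import Cfsg.Agent.Lib.Helper9.Dih.Quotient
import Cfsg.Agent.Lib.Helper27.FusionSat

/-!
# Extraspecial 2-subgroups `Q` with `C_G(Q) = Z(Q) = ⟨z⟩` and `Q ⊴ C_G(z)`

Elementwise structure `ES2 Q z`; main results:
* `ES2.center_mem_conj`: if `z^g ∈ Q - Z` and the centralizers in `Q` of its elements are nonabelian
  (width at least two) then `z ∈ Q^g`.
* `relIndex_six`: the automizer of the four-group `⟨z, s⟩` has order six.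
-/

set_option autoImplicit false

namespace Cfsg.Agent.Lib.Helper27.LES

variable {G : Type*} [Group G]

theorem mem_map_conj {Q : Subgroup G} {g x : G} :
    x ∈ Q.map (MulAut.conj g).toMonoidHom ↔ g⁻¹ * x * g ∈ Q := by
  constructor
  · rintro ⟨y, hy, rfl⟩
    have : g⁻¹ * ((MulAut.conj g).toMonoidHom y) * g = y := by
      simp [MulAut.conj_apply, mul_assoc]
    rw [this]; exact hy
  · intro h
    refine ⟨g⁻¹ * x * g, h, ?_⟩
    simp [MulAut.conj_apply, mul_assoc]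

/-- the subgroup `{1, s}` for an element with `s * s = 1` -/
def pairSub (s : G) (hs : s * s = 1) : Subgroup G where
  carrier := {x | x = 1 ∨ x = s}
  one_mem' := Or.inl rfl
  mul_mem' := by
    rintro x y (rfl | rfl) (rfl | rfl)
    · left; simp
    · right; simp
    · right; simp
    · left; exact hs
  inv_mem' := by
    rintro x (rfl | rfl)
    · left; simp
    · right; exact inv_eq_of_mul_eq_one_right hs

theorem mem_pairSub {s : G} {hs : s * s = 1} {x : G} : x ∈ pairSub s hs ↔ x = 1 ∨ x = s := Iff.rfl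

/-- elementwise data: `Q` is an extraspecial 2-group with centre `{1, z}`, `C_G(Q) = {1, z}` and
`C_G(z)` normalizes `Q` -/
structure ES2 (Q : Subgroup G) (z : G) : Prop where
  zQ : z ∈ Q
  z1 : z ≠ 1
  zsq : z * z = 1
  comm : ∀ a ∈ Q, ∀ b ∈ Q, a * b * a⁻¹ * b⁻¹ = 1 ∨ a * b * a⁻¹ * b⁻¹ = z
  cen : ∀ c : G, (∀ a ∈ Q, a * c = c * a) → c = 1 ∨ c = z
  zc : ∀ a ∈ Q, a * z = z * a
  nor : ∀ c : G, c * z = z * c → ∀ a ∈ Q, c * a * c⁻¹ ∈ Q

namespace ES2

variable {Q : Subgroup G} {z : G}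

theorem inv_z (h : ES2 Q z) : z⁻¹ = z := inv_eq_of_mul_eq_one_right h.zsq

theorem pair_le (h : ES2 Q z) : pairSub z h.zsq ≤ Q := by
  rintro x (rfl | rfl)
  · exact Q.one_mem
  · exact h.zQ

theorem pair_comm (h : ES2 Q z) {e : G} (he : e ∈ pairSub z h.zsq) {a : G} (ha : a ∈ Q) :
    a * e = e * a := by
  rcases he with rfl | rfl
  · simp
  · exact h.zc a ha

theorem pair_sq (h : ES2 Q z) {e : G} (he : e ∈ pairSub z h.zsq) : e * e = 1 := by
  rcases he with rfl | rfl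
  · simp
  · exact h.zsq

theorem comm_mem (h : ES2 Q z) {a b : G} (ha : a ∈ Q) (hb : b ∈ Q) :
    a * b * a⁻¹ * b⁻¹ ∈ pairSub z h.zsq := h.comm a ha b hb

theorem conj_eq (h : ES2 Q z) {a b : G} (ha : a ∈ Q) (hb : b ∈ Q) :
    ∃ e ∈ pairSub z h.zsq, a * b * a⁻¹ = e * b :=
  ⟨a * b * a⁻¹ * b⁻¹, h.comm a ha b hb, by group⟩

theorem sq_mem (h : ES2 Q z) {a : G} (ha : a ∈ Q) : a * a ∈ pairSub z h.zsq := by
  rw [mem_pairSub]
  apply h.cen
  intro b hb
  obtain ⟨e, he, hbe⟩ := h.conj_eq hb ha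
  have hae : a * e = e * a := h.pair_comm he ha
  have h1 : b * (a * a) * b⁻¹ = a * a := by
    calc b * (a * a) * b⁻¹ = (b * a * b⁻¹) * (b * a * b⁻¹) := by group
      _ = (e * a) * (e * a) := by rw [hbe]
      _ = e * (a * e) * a := by group
      _ = e * (e * a) * a := by rw [hae]
      _ = (e * e) * (a * a) := by group
      _ = a * a := by rw [h.pair_sq he, one_mul]
  calc b * (a * a) = (b * (a * a) * b⁻¹) * b := by group
    _ = a * a * b := by rw [h1]

theorem exists_conj (h : ES2 Q z) {s : G} (hsQ : s ∈ Q) (hs1 : s ≠ 1) (hsz : s ≠ z) :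
    ∃ t ∈ Q, t * s * t⁻¹ = z * s := by
  by_contra hcon
  push Not at hcon
  have : s = 1 ∨ s = z := by
    apply h.cen
    intro a ha
    obtain ⟨e, he, hae⟩ := h.conj_eq ha hsQ
    rcases he with rfl | rfl
    · rw [one_mul] at hae
      calc a * s = (a * s * a⁻¹) * a := by group
        _ = s * a := by rw [hae]
    · exact absurd hae (hcon a ha)
  rcases this with h1 | h1
  · exact hs1 h1
  · exact hsz h1

/-- transport by conjugation -/
theorem conj (h : ES2 Q z) (g : G) :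
    ES2 (Q.map (MulAut.conj g).toMonoidHom) (g * z * g⁻¹) where
  zQ := by
    rw [mem_map_conj]
    have : g⁻¹ * (g * z * g⁻¹) * g = z := by group
    rw [this]; exact h.zQ
  z1 := by
    intro h1
    apply h.z1
    calc z = g⁻¹ * (g * z * g⁻¹) * g := by group
      _ = 1 := by rw [h1]; group
  zsq := by
    calc g * z * g⁻¹ * (g * z * g⁻¹) = g * (z * z) * g⁻¹ := by group
      _ = 1 := by rw [h.zsq]; group
  comm := by
    intro a ha b hb
    rw [mem_map_conj] at ha hb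
    have e : a * b * a⁻¹ * b⁻¹ = g * ((g⁻¹ * a * g) * (g⁻¹ * b * g) * (g⁻¹ * a * g)⁻¹ *
        (g⁻¹ * b * g)⁻¹) * g⁻¹ := by group
    rcases h.comm _ ha _ hb with h1 | h1
    · left; rw [e, h1]; group
    · right; rw [e, h1]
  cen := by
    intro c hc
    have h1 : ∀ a ∈ Q, a * (g⁻¹ * c * g) = (g⁻¹ * c * g) * a := by
      intro a ha
      have ha' : g * a * g⁻¹ ∈ Q.map (MulAut.conj g).toMonoidHom := by
        rw [mem_map_conj]
        have : g⁻¹ * (g * a * g⁻¹) * g = a := by group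
        rw [this]; exact ha
      have h2 := hc _ ha'
      calc a * (g⁻¹ * c * g) = g⁻¹ * ((g * a * g⁻¹) * c) * g := by group
        _ = g⁻¹ * (c * (g * a * g⁻¹)) * g := by rw [h2]
        _ = (g⁻¹ * c * g) * a := by group
    rcases h.cen _ h1 with h2 | h2
    · left
      calc c = g * (g⁻¹ * c * g) * g⁻¹ := by group
        _ = 1 := by rw [h2]; group
    · right
      calc c = g * (g⁻¹ * c * g) * g⁻¹ := by group
        _ = g * z * g⁻¹ := by rw [h2]
  zc := by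
    intro a ha
    rw [mem_map_conj] at ha
    have h1 := h.zc _ ha
    calc a * (g * z * g⁻¹) = g * ((g⁻¹ * a * g) * z) * g⁻¹ := by group
      _ = g * (z * (g⁻¹ * a * g)) * g⁻¹ := by rw [h1]
      _ = g * z * g⁻¹ * a := by group
  nor := by
    intro c hc a ha
    rw [mem_map_conj] at ha ⊢
    have h1 : (g⁻¹ * c * g) * z = z * (g⁻¹ * c * g) := by
      calc (g⁻¹ * c * g) * z = g⁻¹ * (c * (g * z * g⁻¹)) * g := by group
        _ = g⁻¹ * ((g * z * g⁻¹) * c) * g := by rw [hc]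
        _ = z * (g⁻¹ * c * g) := by group
    have h2 := h.nor _ h1 _ ha
    have e : g⁻¹ * (c * a * c⁻¹) * g = (g⁻¹ * c * g) * (g⁻¹ * a * g) * (g⁻¹ * c * g)⁻¹ := by group
    rw [e]; exact h2

/-- **Key lemma**: if `s = g z g⁻¹ ∈ Q`, `s ≠ z`, and centralizers in `Q` are nonabelian, then
`z ∈ g Q g⁻¹`. -/
theorem center_mem_conj (h : ES2 Q z)
    (hw : ∀ s ∈ Q, ∃ a ∈ Q, ∃ b ∈ Q, a * s = s * a ∧ b * s = s * b ∧ a * b ≠ b * a)
    (g : G) (hsQ' : g * z * g⁻¹ ∈ Q) (hsz' : g * z * g⁻¹ ≠ z) :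
    z ∈ Q.map (MulAut.conj g).toMonoidHom := by
  by_contra hzn'
  obtain ⟨s, hsdef⟩ : ∃ s, s = g * z * g⁻¹ := ⟨_, rfl⟩
  obtain ⟨Qs, hQs⟩ : ∃ Qs, Qs = Q.map (MulAut.conj g).toMonoidHom := ⟨_, rfl⟩
  have hs : ES2 Qs s := by rw [hQs, hsdef]; exact h.conj g
  have hsQ : s ∈ Q := by rw [hsdef]; exact hsQ'
  have hsz : s ≠ z := by rw [hsdef]; exact hsz'
  have hzn : z ∉ Qs := by rw [hQs]; exact hzn'
  have hs1 : s ≠ 1 := hs.z1
  have hss : s * s = 1 := hs.zsq
  have hsinv : s⁻¹ = s := hs.inv_z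
  have hzinv : z⁻¹ = z := h.inv_z
  have hzs : z * s = s * z := (h.zc s hsQ).symm
  have hsQs : s ∈ Qs := hs.zQ
  -- an element of `Q` moving `s`
  obtain ⟨t, htQ, hts⟩ := h.exists_conj hsQ hs1 hsz
  have hti : t⁻¹ * z = z * t⁻¹ := h.zc t⁻¹ (Q.inv_mem htQ)
  have hts' : t⁻¹ * s * t = z * s := by
    have h1 : t⁻¹ * (t * s * t⁻¹) * t = s := by group
    rw [hts] at h1
    have h3 : t⁻¹ * (z * s) * t = z * (t⁻¹ * s * t) := by
      calc t⁻¹ * (z * s) * t = (t⁻¹ * z) * s * t := by group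
        _ = (z * t⁻¹) * s * t := by rw [hti]
        _ = z * (t⁻¹ * s * t) := by group
    rw [h3] at h1
    calc t⁻¹ * s * t = z * (z * (t⁻¹ * s * t)) := by rw [← mul_assoc, h.zsq, one_mul]
      _ = z * s := by rw [h1]
  -- elements of `Q ∩ Qs` commute with `C_Q(s)`
  have hCU : ∀ d ∈ Q, d ∈ Qs → ∀ a ∈ Q, a * s = s * a → a * d = d * a := by
    intro d hdQ hdQs a haQ has
    have he : a * d * a⁻¹ * d⁻¹ ∈ Qs := Qs.mul_mem (hs.nor a has d hdQs) (Qs.inv_mem hdQs)
    rcases h.comm a haQ d hdQ with h1 | h1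
    · calc a * d = (a * d * a⁻¹ * d⁻¹) * (d * a) := by group
        _ = d * a := by rw [h1, one_mul]
    · rw [h1] at he; exact absurd he hzn
  have hB0 : ∀ d ∈ Q, d ∈ Qs → t * d = d * t → d = 1 := by
    intro d hdQ hdQs htd
    have hcen : ∀ y ∈ Q, y * d = d * y := by
      intro y hyQ
      obtain ⟨e, he, hye⟩ := h.conj_eq hyQ hsQ
      rcases he with he1 | he1
      · rw [he1, one_mul] at hye
        have hys : y * s = s * y := by
          calc y * s = (y * s * y⁻¹) * y := by group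
            _ = s * y := by rw [hye]
        exact hCU d hdQ hdQs y hyQ hys
      · rw [he1] at hye
        have h1 : (t⁻¹ * y) * s = s * (t⁻¹ * y) := by
          have h2 : (t⁻¹ * y) * s * (t⁻¹ * y)⁻¹ = s := by
            calc (t⁻¹ * y) * s * (t⁻¹ * y)⁻¹ = t⁻¹ * (y * s * y⁻¹) * t := by group
              _ = t⁻¹ * (z * s) * t := by rw [hye]
              _ = (t⁻¹ * z) * s * t := by group
              _ = (z * t⁻¹) * s * t := by rw [hti]
              _ = z * (t⁻¹ * s * t) := by group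
              _ = z * (z * s) := by rw [hts']
              _ = s := by rw [← mul_assoc, h.zsq, one_mul]
          calc (t⁻¹ * y) * s = ((t⁻¹ * y) * s * (t⁻¹ * y)⁻¹) * (t⁻¹ * y) := by group
            _ = s * (t⁻¹ * y) := by rw [h2]
        have h3 := hCU d hdQ hdQs (t⁻¹ * y) (Q.mul_mem (Q.inv_mem htQ) hyQ) h1
        calc y * d = t * ((t⁻¹ * y) * d) := by group
          _ = t * (d * (t⁻¹ * y)) := by rw [h3]
          _ = (t * d) * (t⁻¹ * y) := by group
          _ = (d * t) * (t⁻¹ * y) := by rw [htd]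
          _ = d * y := by group
    rcases h.cen d hcen with h1 | h1
    · exact h1
    · rw [h1] at hdQs; exact absurd hdQs hzn
  -- `Q ∩ Qs = {1, s}`
  have hB : ∀ d ∈ Q, d ∈ Qs → d ∈ pairSub s hss := by
    intro d hdQ hdQs
    obtain ⟨e, he, hte⟩ := h.conj_eq htQ hdQ
    rcases he with he1 | he1
    · left
      rw [he1, one_mul] at hte
      apply hB0 d hdQ hdQs
      calc t * d = (t * d * t⁻¹) * t := by group
        _ = d * t := by rw [hte]
    · right
      rw [he1] at hte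
      have h1 : t * (d * s) = (d * s) * t := by
        have h2 : t * (d * s) * t⁻¹ = d * s := by
          calc t * (d * s) * t⁻¹ = (t * d * t⁻¹) * (t * s * t⁻¹) := by group
            _ = (z * d) * (z * s) := by rw [hte, hts]
            _ = z * (d * z) * s := by group
            _ = z * (z * d) * s := by rw [h.zc d hdQ]
            _ = (z * z) * (d * s) := by group
            _ = d * s := by rw [h.zsq, one_mul]
        calc t * (d * s) = (t * (d * s) * t⁻¹) * t := by group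
          _ = (d * s) * t := by rw [h2]
      have h3 := hB0 (d * s) (Q.mul_mem hdQ hsQ) (Qs.mul_mem hdQs hsQs) h1
      calc d = (d * s) * s⁻¹ := by group
        _ = s := by rw [h3, one_mul, hsinv]
  -- `[C_Qs(z), C_Q(s)] ≤ {1, s}`
  have hC : ∀ w ∈ Qs, w * z = z * w → ∀ a ∈ Q, a * s = s * a →
      a * w * a⁻¹ * w⁻¹ ∈ pairSub s hss := by
    intro w hwQs hwz a haQ has
    have h1 : a * w * a⁻¹ * w⁻¹ ∈ Qs := Qs.mul_mem (hs.nor a has w hwQs) (Qs.inv_mem hwQs)
    have h2 : a * w * a⁻¹ * w⁻¹ ∈ Q := by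
      have h3 : w * a⁻¹ * w⁻¹ ∈ Q := h.nor w hwz a⁻¹ (Q.inv_mem haQ)
      have : a * w * a⁻¹ * w⁻¹ = a * (w * a⁻¹ * w⁻¹) := by group
      rw [this]; exact Q.mul_mem haQ h3
    exact hB _ h2 h1
  -- the claim: some element of `Qs` moves `z`
  have hclaim : ∃ x ∈ Qs, x * z * x⁻¹ = s * z := by
    by_contra H0
    push Not at H0
    have D1 : ∀ x ∈ Qs, x * z * x⁻¹ * z⁻¹ ∈ pairSub s hss → x * z = z * x := by
      intro x hx hmem
      rcases hmem with h1 | h1
      · calc x * z = (x * z * x⁻¹ * z⁻¹) * (z * x) := by group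
          _ = z * x := by rw [h1, one_mul]
      · exfalso
        apply H0 x hx
        calc x * z * x⁻¹ = (x * z * x⁻¹ * z⁻¹) * z := by group
          _ = s * z := by rw [h1]
    have hzz' : z⁻¹ * z⁻¹ = 1 := by rw [hzinv, h.zsq]
    have D2 : ∀ x ∈ Qs, ∃ c ∈ Qs, c * z = z * c ∧ z * x * z⁻¹ = x * c := by
      intro x hx
      have hzx : z * x * z⁻¹ ∈ Qs := hs.nor z hzs x hx
      obtain ⟨c, hcdef⟩ : ∃ c, c = x⁻¹ * (z * x * z⁻¹) := ⟨_, rfl⟩
      have hc : c ∈ Qs := by rw [hcdef]; exact Qs.mul_mem (Qs.inv_mem hx) hzx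
      have hxc : z * x * z⁻¹ = x * c := by rw [hcdef]; group
      refine ⟨c, hc, D1 c hc ?_, hxc⟩
      have e1 : z * c * z⁻¹ = c⁻¹ := by
        rw [hcdef]
        calc z * (x⁻¹ * (z * x * z⁻¹)) * z⁻¹ = z * x⁻¹ * z * x * (z⁻¹ * z⁻¹) := by group
          _ = z * x⁻¹ * z * x := by rw [hzz', mul_one]
          _ = z * x⁻¹ * z⁻¹ * x := by rw [hzinv]
          _ = (x⁻¹ * (z * x * z⁻¹))⁻¹ := by group
      have e : c * z * c⁻¹ * z⁻¹ = c * c := by
        calc c * z * c⁻¹ * z⁻¹ = c * (z * c * z⁻¹)⁻¹ := by group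
          _ = c * (c⁻¹)⁻¹ := by rw [e1]
          _ = c * c := by rw [inv_inv]
      rw [e]
      exact hs.sq_mem hc
    have D3 : ∀ a ∈ Q, a * s = s * a → ∀ x ∈ Qs,
        ∃ y ∈ Qs, y * z = z * y ∧ a * x * a⁻¹ = x * y := by
      intro a haQ has x hx
      obtain ⟨c, hcQs, hcz, hxc⟩ := D2 x hx
      have haz : a * z = z * a := h.zc a haQ
      obtain ⟨y, hydef⟩ : ∃ y, y = x⁻¹ * (a * x * a⁻¹) := ⟨_, rfl⟩
      have hy : y ∈ Qs := by
        rw [hydef]; exact Qs.mul_mem (Qs.inv_mem hx) (hs.nor a has x hx)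
      have hxy : a * x * a⁻¹ = x * y := by rw [hydef]; group
      refine ⟨y, hy, D1 y hy ?_, hxy⟩
      -- conjugate `y` by `z`
      have k1 : z * (a * x * a⁻¹) * z⁻¹ = a * (x * c) * a⁻¹ := by
        calc z * (a * x * a⁻¹) * z⁻¹ = (z * a) * x * (z * a)⁻¹ := by group
          _ = (a * z) * x * (a * z)⁻¹ := by rw [haz]
          _ = a * (z * x * z⁻¹) * a⁻¹ := by group
          _ = a * (x * c) * a⁻¹ := by rw [hxc]
      have k2 : z * y * z⁻¹ = c⁻¹ * y * (a * c * a⁻¹) := by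
        calc z * y * z⁻¹ = (z * x * z⁻¹)⁻¹ * (z * (a * x * a⁻¹) * z⁻¹) := by rw [hydef]; group
          _ = (x * c)⁻¹ * (a * (x * c) * a⁻¹) := by rw [hxc, k1]
          _ = c⁻¹ * (x⁻¹ * (a * x * a⁻¹)) * (a * c * a⁻¹) := by group
          _ = c⁻¹ * y * (a * c * a⁻¹) := by rw [← hydef]
      obtain ⟨e₁, he₁def⟩ : ∃ e₁, e₁ = a * c * a⁻¹ * c⁻¹ := ⟨_, rfl⟩
      have he₁ : e₁ ∈ pairSub s hss := by rw [he₁def]; exact hC c hcQs hcz a haQ has
      have hace : a * c * a⁻¹ = e₁ * c := by rw [he₁def]; group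
      obtain ⟨e₂, he₂def⟩ : ∃ e₂, e₂ = c⁻¹ * y * c⁻¹⁻¹ * y⁻¹ := ⟨_, rfl⟩
      have he₂ : e₂ ∈ pairSub s hss := by
        rw [he₂def]; exact hs.comm_mem (Qs.inv_mem hcQs) hy
      have hcyc : c⁻¹ * y * c = e₂ * y := by rw [he₂def]; group
      have hcomm1 : (c⁻¹ * y) * e₁ = e₁ * (c⁻¹ * y) :=
        hs.pair_comm he₁ (Qs.mul_mem (Qs.inv_mem hcQs) hy)
      have k3 : z * y * z⁻¹ = e₁ * e₂ * y := by
        calc z * y * z⁻¹ = c⁻¹ * y * (a * c * a⁻¹) := k2
          _ = (c⁻¹ * y) * e₁ * c := by rw [hace]; group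
          _ = e₁ * (c⁻¹ * y) * c := by rw [hcomm1]
          _ = e₁ * (c⁻¹ * y * c) := by group
          _ = e₁ * e₂ * y := by rw [hcyc]; group
      have k4 : y * z * y⁻¹ * z⁻¹ = (e₁ * e₂)⁻¹ := by
        calc y * z * y⁻¹ * z⁻¹ = y * (z * y * z⁻¹)⁻¹ := by group
          _ = y * (e₁ * e₂ * y)⁻¹ := by rw [k3]
          _ = (e₁ * e₂)⁻¹ := by group
      rw [k4]
      exact (pairSub s hss).inv_mem ((pairSub s hss).mul_mem he₁ he₂)
    -- two noncommuting elements of `C_Q(s)`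
    obtain ⟨a, haQ, b, hbQ, has, hbs, hab⟩ := hw s hsQ
    have hzab : a * b * a⁻¹ * b⁻¹ = z := by
      rcases h.comm a haQ b hbQ with h1 | h1
      · exfalso
        apply hab
        calc a * b = (a * b * a⁻¹ * b⁻¹) * (b * a) := by group
          _ = b * a := by rw [h1, one_mul]
      · exact h1
    have hallz : ∀ x ∈ Qs, x * z = z * x := by
      intro x hx
      have hbas : (b * a)⁻¹ * s = s * (b * a)⁻¹ := by
        have h1 : (b * a) * s = s * (b * a) := by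
          calc (b * a) * s = b * (a * s) := by group
            _ = b * (s * a) := by rw [has]
            _ = (b * s) * a := by group
            _ = (s * b) * a := by rw [hbs]
            _ = s * (b * a) := by group
        calc (b * a)⁻¹ * s = (b * a)⁻¹ * (s * (b * a)) * (b * a)⁻¹ := by group
          _ = (b * a)⁻¹ * ((b * a) * s) * (b * a)⁻¹ := by rw [h1]
          _ = s * (b * a)⁻¹ := by group
      obtain ⟨x₀, hx₀def⟩ : ∃ x₀, x₀ = (b * a)⁻¹ * x * ((b * a)⁻¹)⁻¹ := ⟨_, rfl⟩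
      have hx₀ : x₀ ∈ Qs := by rw [hx₀def]; exact hs.nor _ hbas x hx
      obtain ⟨ya, hyaQs, hyaz, hxa⟩ := D3 a haQ has x₀ hx₀
      obtain ⟨yb, hybQs, hybz, hxb⟩ := D3 b hbQ hbs x₀ hx₀
      obtain ⟨δ₁, hδ₁def⟩ : ∃ δ₁, δ₁ = a * yb * a⁻¹ * yb⁻¹ := ⟨_, rfl⟩
      have hδ₁ : δ₁ ∈ pairSub s hss := by rw [hδ₁def]; exact hC yb hybQs hybz a haQ has
      have hayb : a * yb * a⁻¹ = δ₁ * yb := by rw [hδ₁def]; group
      obtain ⟨δ₂, hδ₂def⟩ : ∃ δ₂, δ₂ = b * ya * b⁻¹ * ya⁻¹ := ⟨_, rfl⟩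
      have hδ₂ : δ₂ ∈ pairSub s hss := by rw [hδ₂def]; exact hC ya hyaQs hyaz b hbQ hbs
      have hbya : b * ya * b⁻¹ = δ₂ * ya := by rw [hδ₂def]; group
      obtain ⟨ε, hεdef⟩ : ∃ ε, ε = yb * ya * yb⁻¹ * ya⁻¹ := ⟨_, rfl⟩
      have hε : ε ∈ pairSub s hss := by rw [hεdef]; exact hs.comm_mem hybQs hyaQs
      -- `x` and `z x z⁻¹`
      have hx1 : x = x₀ * yb * (δ₂ * ya) := by
        calc x = b * (a * x₀ * a⁻¹) * b⁻¹ := by rw [hx₀def]; group
          _ = b * (x₀ * ya) * b⁻¹ := by rw [hxa]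
          _ = (b * x₀ * b⁻¹) * (b * ya * b⁻¹) := by group
          _ = x₀ * yb * (δ₂ * ya) := by rw [hxb, hbya]
      have hab' : a * b = z * (b * a) := by
        calc a * b = (a * b * a⁻¹ * b⁻¹) * (b * a) := by group
          _ = z * (b * a) := by rw [hzab]
      have hx2 : z * x * z⁻¹ = x₀ * ya * (δ₁ * yb) := by
        calc z * x * z⁻¹ = (z * (b * a)) * x₀ * (z * (b * a))⁻¹ := by rw [hx₀def]; group
          _ = (a * b) * x₀ * (a * b)⁻¹ := by rw [← hab']
          _ = a * (b * x₀ * b⁻¹) * a⁻¹ := by group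
          _ = a * (x₀ * yb) * a⁻¹ := by rw [hxb]
          _ = (a * x₀ * a⁻¹) * (a * yb * a⁻¹) := by group
          _ = x₀ * ya * (δ₁ * yb) := by rw [hxa, hayb]
      apply D1 x hx
      have c1 : (x₀ * yb) * δ₂ = δ₂ * (x₀ * yb) := hs.pair_comm hδ₂ (Qs.mul_mem hx₀ hybQs)
      have c2 : (x₀ * yb * ya * yb⁻¹) * δ₁⁻¹ = δ₁⁻¹ * (x₀ * yb * ya * yb⁻¹) :=
        hs.pair_comm ((pairSub s hss).inv_mem hδ₁)
          (Qs.mul_mem (Qs.mul_mem (Qs.mul_mem hx₀ hybQs) hyaQs) (Qs.inv_mem hybQs))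
      have c3 : x₀ * ε = ε * x₀ := hs.pair_comm hε hx₀
      have k : x * z * x⁻¹ * z⁻¹ = δ₂ * δ₁⁻¹ * ε := by
        calc x * z * x⁻¹ * z⁻¹ = x * (z * x * z⁻¹)⁻¹ := by group
          _ = (x₀ * yb * (δ₂ * ya)) * (x₀ * ya * (δ₁ * yb))⁻¹ := by rw [hx2, ← hx1]
          _ = ((x₀ * yb) * δ₂) * (ya * yb⁻¹) * δ₁⁻¹ * (ya⁻¹ * x₀⁻¹) := by group
          _ = (δ₂ * (x₀ * yb)) * (ya * yb⁻¹) * δ₁⁻¹ * (ya⁻¹ * x₀⁻¹) := by rw [c1]
          _ = δ₂ * ((x₀ * yb * ya * yb⁻¹) * δ₁⁻¹) * (ya⁻¹ * x₀⁻¹) := by group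
          _ = δ₂ * (δ₁⁻¹ * (x₀ * yb * ya * yb⁻¹)) * (ya⁻¹ * x₀⁻¹) := by rw [c2]
          _ = δ₂ * δ₁⁻¹ * ((x₀ * (yb * ya * yb⁻¹ * ya⁻¹)) * x₀⁻¹) := by group
          _ = δ₂ * δ₁⁻¹ * ((x₀ * ε) * x₀⁻¹) := by rw [← hεdef]
          _ = δ₂ * δ₁⁻¹ * ((ε * x₀) * x₀⁻¹) := by rw [c3]
          _ = δ₂ * δ₁⁻¹ * ε := by group
      rw [k]
      exact (pairSub s hss).mul_mem ((pairSub s hss).mul_mem hδ₂ ((pairSub s hss).inv_mem hδ₁)) hε
    rcases hs.cen z hallz with h1 | h1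
    · exact h.z1 h1
    · exact hsz h1.symm
  -- the swap
  obtain ⟨x, hxQs, hxz⟩ := hclaim
  have hxs : x * s = s * x := hs.zc x hxQs
  have hxs1 : x * s * x⁻¹ = s := by rw [hxs]; group
  have hxs2 : x⁻¹ * s * x = s := by
    calc x⁻¹ * s * x = x⁻¹ * (s * x) := by group
      _ = x⁻¹ * (x * s) := by rw [hxs]
      _ = s := by group
  have hswap : (x * t * x⁻¹) * s * (x * t * x⁻¹)⁻¹ = z := by
    calc (x * t * x⁻¹) * s * (x * t * x⁻¹)⁻¹ = x * (t * (x⁻¹ * s * x) * t⁻¹) * x⁻¹ := by group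
      _ = x * (t * s * t⁻¹) * x⁻¹ := by rw [hxs2]
      _ = x * (z * s) * x⁻¹ := by rw [hts]
      _ = (x * z * x⁻¹) * (x * s * x⁻¹) := by group
      _ = (s * z) * s := by rw [hxz, hxs1]
      _ = z := by rw [mul_assoc, hzs, ← mul_assoc, hss, one_mul]
  have hxz' : x⁻¹ * z * x = s * z := by
    have h1 : x⁻¹ * (x * z * x⁻¹) * x = z := by group
    rw [hxz] at h1
    have h2 : x⁻¹ * (s * z) * x = s * (x⁻¹ * z * x) := by
      calc x⁻¹ * (s * z) * x = (x⁻¹ * s * x) * (x⁻¹ * z * x) := by group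
        _ = s * (x⁻¹ * z * x) := by rw [hxs2]
    rw [h2] at h1
    calc x⁻¹ * z * x = s * (s * (x⁻¹ * z * x)) := by rw [← mul_assoc, hss, one_mul]
      _ = s * z := by rw [h1]
  have htz1 : t * z * t⁻¹ = z := by rw [h.zc t htQ]; group
  have hswap2 : (x * t * x⁻¹) * z * (x * t * x⁻¹)⁻¹ = s := by
    calc (x * t * x⁻¹) * z * (x * t * x⁻¹)⁻¹ = x * (t * (x⁻¹ * z * x) * t⁻¹) * x⁻¹ := by group
      _ = x * (t * (s * z) * t⁻¹) * x⁻¹ := by rw [hxz']
      _ = x * ((t * s * t⁻¹) * (t * z * t⁻¹)) * x⁻¹ := by group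
      _ = x * ((z * s) * z) * x⁻¹ := by rw [hts, htz1]
      _ = x * s * x⁻¹ := by
          rw [show (z * s) * z = s from by rw [mul_assoc, ← hzs, ← mul_assoc, h.zsq, one_mul]]
      _ = s := hxs1
  apply hzn
  rw [hQs, mem_map_conj]
  have hk : (g⁻¹ * (x * t * x⁻¹)) * z = z * (g⁻¹ * (x * t * x⁻¹)) := by
    have h1 : (g⁻¹ * (x * t * x⁻¹)) * z * (g⁻¹ * (x * t * x⁻¹))⁻¹ = z := by
      calc (g⁻¹ * (x * t * x⁻¹)) * z * (g⁻¹ * (x * t * x⁻¹))⁻¹
          = g⁻¹ * ((x * t * x⁻¹) * z * (x * t * x⁻¹)⁻¹) * g := by group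
        _ = g⁻¹ * s * g := by rw [hswap2]
        _ = z := by rw [hsdef]; group
    calc (g⁻¹ * (x * t * x⁻¹)) * z
        = ((g⁻¹ * (x * t * x⁻¹)) * z * (g⁻¹ * (x * t * x⁻¹))⁻¹) * (g⁻¹ * (x * t * x⁻¹)) := by group
      _ = z * (g⁻¹ * (x * t * x⁻¹)) := by rw [h1]
  have h2 := h.nor _ hk s hsQ
  have e : (g⁻¹ * (x * t * x⁻¹)) * s * (g⁻¹ * (x * t * x⁻¹))⁻¹ = g⁻¹ * z * g := by
    calc (g⁻¹ * (x * t * x⁻¹)) * s * (g⁻¹ * (x * t * x⁻¹))⁻¹
        = g⁻¹ * ((x * t * x⁻¹) * s * (x * t * x⁻¹)⁻¹) * g := by group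
      _ = g⁻¹ * z * g := by rw [hswap]
  rw [e] at h2
  exact h2

end ES2

/-! ### The automizer of a four-group -/

open Cfsg.Agent.S5421 (fourGroup mem_fourGroup)

theorem card_fourGroup {z s : G} (hz : z * z = 1) (hs : s * s = 1) (hc : z * s = s * z)
    (hz1 : z ≠ 1) (hs1 : s ≠ 1) (hzs : z ≠ s) : Nat.card (fourGroup z s hz hs hc) = 4 := by
  have hset : ((fourGroup z s hz hs hc : Subgroup G) : Set G) = {1, z, s, z * s} := by
    ext x
    rw [SetLike.mem_coe, mem_fourGroup]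
    simp only [Set.mem_insert_iff, Set.mem_singleton_iff]
  have hzs1 : z * s ≠ 1 := by
    intro h
    apply hzs
    calc z = (z * s) * s := by rw [mul_assoc, hs, mul_one]
      _ = s := by rw [h, one_mul]
  have h1 : z * s ≠ z := fun h => hs1 (mul_eq_left.mp h)
  have h2 : z * s ≠ s := fun h => hz1 (mul_eq_right.mp h)
  have e3 : ({s, z * s} : Set G).ncard = 2 := Set.ncard_pair (Ne.symm h2)
  have e2 : ({z, s, z * s} : Set G).ncard = 3 := by
    rw [Set.ncard_insert_of_notMem, e3]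
    simp only [Set.mem_insert_iff, Set.mem_singleton_iff, not_or]
    exact ⟨hzs, Ne.symm h1⟩
  have e1 : ({1, z, s, z * s} : Set G).ncard = 4 := by
    rw [Set.ncard_insert_of_notMem, e2]
    simp only [Set.mem_insert_iff, Set.mem_singleton_iff, not_or]
    exact ⟨Ne.symm hz1, Ne.symm hs1, Ne.symm hzs1⟩
  show Nat.card ↥((fourGroup z s hz hs hc : Subgroup G) : Set G) = 4
  rw [Nat.card_coe_set_eq, hset]
  exact e1

/-- an element outside `D` whose `p`-th power lies in `D` forces `p ∣ |N : D|` -/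
theorem prime_dvd_relIndex_of_mem [Finite G] (D N : Subgroup G) (hn : (D.subgroupOf N).Normal)
    {p : ℕ} (hp : p.Prime) {u : G} (huN : u ∈ N) (huD : u ∉ D) (hup : u ^ p ∈ D) :
    p ∣ D.relIndex N := by
  have := hn
  have : Fact p.Prime := ⟨hp⟩
  have h1 : orderOf (QuotientGroup.mk' (D.subgroupOf N) ⟨u, huN⟩) = p := by
    apply orderOf_eq_prime
    · rw [← map_pow, QuotientGroup.mk'_apply, QuotientGroup.eq_one_iff, Subgroup.mem_subgroupOf]
      simpa using hup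
    · rw [Ne, QuotientGroup.mk'_apply, QuotientGroup.eq_one_iff, Subgroup.mem_subgroupOf]
      exact huD
  rw [Subgroup.relIndex, Subgroup.index_eq_card, ← h1]
  exact orderOf_dvd_natCard _

/-- the automizer of the four-group `⟨z, s⟩` has order six when elements `x` (swapping `z` and
`s z`, fixing `s`) and `t` (swapping `s` and `z s`, fixing `z`) are available -/
theorem relIndex_six [Finite G] {z s x t : G} (hz : z * z = 1) (hs : s * s = 1)
    (hc : z * s = s * z) (hz1 : z ≠ 1) (hs1 : s ≠ 1) (hzs : z ≠ s)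
    (hxz : x * z * x⁻¹ = s * z) (hxs : x * s * x⁻¹ = s)
    (htz : t * z * t⁻¹ = z) (hts : t * s * t⁻¹ = z * s) (htt : t * t = 1 ∨ t * t = z) :
    (Subgroup.centralizer ((fourGroup z s hz hs hc : Subgroup G) : Set G)).relIndex
      (Subgroup.normalizer ((fourGroup z s hz hs hc : Subgroup G) : Set G)) = 6 := by
  have hcard := card_fourGroup hz hs hc hz1 hs1 hzs
  obtain ⟨V, hV⟩ : ∃ V, V = fourGroup z s hz hs hc := ⟨_, rfl⟩
  rw [← hV] at hcard ⊢
  have hmem : ∀ v, v ∈ V ↔ v = 1 ∨ v = z ∨ v = s ∨ v = z * s := by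
    intro v; rw [hV]; exact mem_fourGroup
  have hzV : z ∈ V := (hmem z).mpr (Or.inr (Or.inl rfl))
  have hsV : s ∈ V := (hmem s).mpr (Or.inr (Or.inr (Or.inl rfl)))
  have hzszs : (z * s) * (z * s) = 1 := by
    calc (z * s) * (z * s) = z * (s * z) * s := by group
      _ = z * (z * s) * s := by rw [← hc]
      _ = (z * z) * (s * s) := by group
      _ = 1 := by rw [hz, hs, one_mul]
  have hVK : IsKleinFour V := by
    apply Cfsg.Agent.Lib.Helper9.Dih.isKleinFour_of_card_of_sq hcard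
    rintro ⟨v, hv⟩
    apply Subtype.ext
    show v * v = 1
    rcases (hmem v).mp hv with h1 | h1 | h1 | h1
    · rw [h1, one_mul]
    · rw [h1]; exact hz
    · rw [h1]; exact hs
    · rw [h1]; exact hzszs
  have hnorm : ∀ u : G, u * z * u⁻¹ ∈ V → u * s * u⁻¹ ∈ V →
      u ∈ Subgroup.normalizer (V : Set G) := by
    intro u huz hus
    apply Cfsg.Agent.Lib.Helper27.mem_normalizer_of_conj_mem
    intro v hv
    rcases (hmem v).mp hv with h1 | h1 | h1 | h1
    · rw [h1, mul_one, mul_inv_cancel]; exact V.one_mem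
    · rw [h1]; exact huz
    · rw [h1]; exact hus
    · rw [h1]
      have : u * (z * s) * u⁻¹ = (u * z * u⁻¹) * (u * s * u⁻¹) := by group
      rw [this]; exact V.mul_mem huz hus
  have hxN : x ∈ Subgroup.normalizer (V : Set G) :=
    hnorm x (by rw [hxz]; exact V.mul_mem hsV hzV) (by rw [hxs]; exact hsV)
  have htN : t ∈ Subgroup.normalizer (V : Set G) :=
    hnorm t (by rw [htz]; exact hzV) (by rw [hts]; exact V.mul_mem hzV hsV)
  have hcenmem : ∀ u : G, u * z = z * u → u * s = s * u →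
      u ∈ Subgroup.centralizer (V : Set G) := by
    intro u huz hus
    rw [Subgroup.mem_centralizer_iff]
    intro v hv
    rcases (hmem v).mp hv with h1 | h1 | h1 | h1
    · rw [h1, one_mul, mul_one]
    · rw [h1]; exact huz.symm
    · rw [h1]; exact hus.symm
    · rw [h1]
      calc z * s * u = z * (s * u) := by group
        _ = z * (u * s) := by rw [hus]
        _ = (z * u) * s := by group
        _ = (u * z) * s := by rw [huz]
        _ = u * (z * s) := by group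
  have hnormal := Cfsg.Agent.Lib.Helper9.AutIndex.normal_centralizer_subgroupOf_normalizer V
  -- 2 divides
  have h2 : 2 ∣ (Subgroup.centralizer (V : Set G)).relIndex (Subgroup.normalizer (V : Set G)) := by
    apply Cfsg.Agent.Lib.Helper9.AutIndex.two_dvd_relIndex_of_mem _ _ hnormal htN
    · intro hcon
      have h3 := Subgroup.mem_centralizer_iff.mp hcon s hsV
      have h4 : t * s * t⁻¹ = s := by rw [← h3]; group
      rw [hts] at h4
      exact hz1 (mul_eq_right.mp h4)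
    · rcases htt with h3 | h3
      · rw [h3]; exact Subgroup.one_mem _
      · rw [h3]; exact hcenmem z rfl hc
  -- 3 divides
  have h3 : 3 ∣ (Subgroup.centralizer (V : Set G)).relIndex (Subgroup.normalizer (V : Set G)) := by
    have huz : (x * t) * z * (x * t)⁻¹ = s * z := by
      calc (x * t) * z * (x * t)⁻¹ = x * (t * z * t⁻¹) * x⁻¹ := by group
        _ = s * z := by rw [htz, hxz]
    have hszs : (s * z) * s = z := by rw [mul_assoc, hc, ← mul_assoc, hs, one_mul]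
    have hzsz : z * (s * z) = s := by rw [← mul_assoc, hc, mul_assoc, hz, mul_one]
    have hus : (x * t) * s * (x * t)⁻¹ = z := by
      calc (x * t) * s * (x * t)⁻¹ = x * (t * s * t⁻¹) * x⁻¹ := by group
        _ = x * (z * s) * x⁻¹ := by rw [hts]
        _ = (x * z * x⁻¹) * (x * s * x⁻¹) := by group
        _ = (s * z) * s := by rw [hxz, hxs]
        _ = z := hszs
    have husz : (x * t) * (s * z) * (x * t)⁻¹ = s := by
      calc (x * t) * (s * z) * (x * t)⁻¹
          = ((x * t) * s * (x * t)⁻¹) * ((x * t) * z * (x * t)⁻¹) := by group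
        _ = z * (s * z) := by rw [hus, huz]
        _ = s := hzsz
    have hu3z : (x * t) ^ 3 * z = z * (x * t) ^ 3 := by
      rw [pow_three']
      have h4 : ((x * t) * (x * t) * (x * t)) * z * ((x * t) * (x * t) * (x * t))⁻¹ = z := by
        calc ((x * t) * (x * t) * (x * t)) * z * ((x * t) * (x * t) * (x * t))⁻¹
            = (x * t) * ((x * t) * ((x * t) * z * (x * t)⁻¹) * (x * t)⁻¹) * (x * t)⁻¹ := by group
          _ = z := by rw [huz, husz, hus]
      calc ((x * t) * (x * t) * (x * t)) * z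
          = (((x * t) * (x * t) * (x * t)) * z * ((x * t) * (x * t) * (x * t))⁻¹) *
            ((x * t) * (x * t) * (x * t)) := by group
        _ = z * ((x * t) * (x * t) * (x * t)) := by rw [h4]
    have hu3s : (x * t) ^ 3 * s = s * (x * t) ^ 3 := by
      rw [pow_three']
      have h4 : ((x * t) * (x * t) * (x * t)) * s * ((x * t) * (x * t) * (x * t))⁻¹ = s := by
        calc ((x * t) * (x * t) * (x * t)) * s * ((x * t) * (x * t) * (x * t))⁻¹
            = (x * t) * ((x * t) * ((x * t) * s * (x * t)⁻¹) * (x * t)⁻¹) * (x * t)⁻¹ := by group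
          _ = s := by rw [hus, huz, husz]
      calc ((x * t) * (x * t) * (x * t)) * s
          = (((x * t) * (x * t) * (x * t)) * s * ((x * t) * (x * t) * (x * t))⁻¹) *
            ((x * t) * (x * t) * (x * t)) := by group
        _ = s * ((x * t) * (x * t) * (x * t)) := by rw [h4]
    apply prime_dvd_relIndex_of_mem _ _ hnormal Nat.prime_three
      ((Subgroup.normalizer (V : Set G)).mul_mem hxN htN)
    · intro hcon
      have h5 := Subgroup.mem_centralizer_iff.mp hcon z hzV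
      have h6 : (x * t) * z * (x * t)⁻¹ = z := by rw [← h5]; group
      rw [huz] at h6
      exact hs1 (mul_eq_right.mp h6)
    · exact hcenmem _ hu3z hu3s
  have h6 : 2 * 3 ∣
      (Subgroup.centralizer (V : Set G)).relIndex (Subgroup.normalizer (V : Set G)) :=
    Nat.Coprime.mul_dvd_of_dvd_of_dvd (by norm_num) h2 h3
  have hd := Cfsg.Agent.Lib.Helper9.AutIndex.relIndex_dvd_six_of_kleinFour V hVK
  exact Nat.dvd_antisymm hd h6

end Cfsg.Agent.Lib.Helper27.LES
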