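import Mathlib
import Cfsg.Prelude.Def_LocalStructure
import Cfsg.Agent.Lib.Helper9.Layer
import Cfsg.Agent.Lib.Helper9.AxB
import Cfsg.Agent.Lib.Helper17.PResidual
import Cfsg.Agent.Lib.Helper17.Basic
import Cfsg.Agent.Lib.Helper17.CharP
import Cfsg.Agent.Lib.Helper17.QuotientP
import Cfsg.Agent.Lib.Helper13.Residual
import Cfsg.Agent.Lib.Helper22.S2860A
import Cfsg.Agent.Lib.Helper12.S2860QG

open Cfsg
open scoped commutatorElement

namespace Cfsg.Agent.Lib.Helper27.LargeQS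

variable {X : Type*} [Group X]

/-- A join of a conjugation-closed family of subgroups is normal. -/
theorem iSup_normal_of_conj {ι : Sort*} (Qs : ι → Subgroup X)
    (hconj : ∀ (x : X) (i : ι), ∃ j, (Qs i).map (MulAut.conj x).toMonoidHom = Qs j) :
    (⨆ i, Qs i).Normal := by
  constructor
  intro n hn g
  have h1 : (⨆ i, Qs i).map (MulAut.conj g).toMonoidHom ≤ ⨆ i, Qs i := by
    rw [Subgroup.map_iSup]
    apply iSup_le
    intro i
    obtain ⟨j, hj⟩ := hconj g i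
    rw [hj]
    exact le_iSup Qs j
  exact h1 ⟨n, hn, rfl⟩

/-- `[A, ⨆ Qs i] ≤ D` for normal `D` as soon as every `[A, Qs i] ≤ D`. -/
theorem commutator_iSup_le {ι : Sort*} (A : Subgroup X) (Qs : ι → Subgroup X) (D : Subgroup X)
    [D.Normal] (h : ∀ i, ⁅A, Qs i⁆ ≤ D) : ⁅A, ⨆ i, Qs i⁆ ≤ D := by
  have hZ : (⨆ i, Qs i) ≤
      (Subgroup.centralizer ((A.map (QuotientGroup.mk' D) : Subgroup (X ⧸ D)) : Set (X ⧸ D))).comap
        (QuotientGroup.mk' D) := by
    apply iSup_le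
    intro i x hx
    rw [Subgroup.mem_comap, Subgroup.mem_centralizer_iff]
    rintro _ ⟨a, ha, rfl⟩
    have hc : ⁅a, x⁆ ∈ D := h i (Subgroup.commutator_mem_commutator ha hx)
    have h1 : (QuotientGroup.mk' D) ⁅a, x⁆ = 1 := by
      rw [QuotientGroup.mk'_apply, QuotientGroup.eq_one_iff]; exact hc
    rw [commutatorElement_def, map_mul, map_mul, map_mul, map_inv, map_inv] at h1
    have h2 := mul_inv_eq_one.1 h1
    -- a x a⁻¹ = x  in the quotient
    have h3 := mul_inv_eq_iff_eq_mul.1 h2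
    exact h3
  rw [Subgroup.commutator_le]
  intro a ha x hx
  have hx' := hZ hx
  rw [Subgroup.mem_comap, Subgroup.mem_centralizer_iff] at hx'
  have h1 := hx' _ ⟨a, ha, rfl⟩
  rw [← QuotientGroup.eq_one_iff, ← QuotientGroup.mk'_apply, commutatorElement_def, map_mul,
    map_mul, map_mul, map_inv, map_inv]
  rw [h1]
  group

/-- `[A, B]` is normalized by `A`. -/
theorem conj_mem_commutator (A B : Subgroup X) {a : X} (ha : a ∈ A) {z : X} (hz : z ∈ ⁅A, B⁆) :
    a * z * a⁻¹ ∈ ⁅A, B⁆ := by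
  rw [Subgroup.commutator_def] at hz ⊢
  induction hz using Subgroup.closure_induction with
  | mem y hy =>
    obtain ⟨a', ha', b, hb, rfl⟩ := hy
    have : a * ⁅a', b⁆ * a⁻¹ = ⁅a * a', b⁆ * ⁅a, b⁆⁻¹ := by
      simp only [commutatorElement_def]; group
    rw [this]
    apply Subgroup.mul_mem
    · exact Subgroup.subset_closure ⟨a * a', A.mul_mem ha ha', b, hb, rfl⟩
    · exact Subgroup.inv_mem _ (Subgroup.subset_closure ⟨a, ha, b, hb, rfl⟩)
  | one => simp
  | mul x y _ _ hx hy =>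
    have : a * (x * y) * a⁻¹ = (a * x * a⁻¹) * (a * y * a⁻¹) := by group
    rw [this]; exact Subgroup.mul_mem _ hx hy
  | inv x _ hx =>
    have : a * x⁻¹ * a⁻¹ = (a * x * a⁻¹)⁻¹ := by group
    rw [this]; exact Subgroup.inv_mem _ hx

/-- In a commutative group generated by its `p'`-elements, `p`-elements are trivial. -/
theorem eq_one_of_pResidual_eq_top {A : Type*} [CommGroup A] {p : ℕ} [hp : Fact p.Prime]
    (h : Cfsg.pResidual p A = ⊤) (a : A) (k : ℕ) (ha : a ^ p ^ k = 1) : a = 1 := by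
  have key : ∀ b ∈ Cfsg.pResidual p A, (orderOf b).Coprime p := by
    intro b hb
    unfold Cfsg.pResidual at hb
    induction hb using Subgroup.closure_induction with
    | mem y hy => exact hy
    | one => simp
    | mul x y _ _ hx hy =>
      have hd := (Commute.all x y).orderOf_mul_dvd_lcm
      exact Nat.Coprime.coprime_dvd_left (hd.trans (Nat.lcm_dvd_mul _ _)) (Nat.Coprime.mul_left hx hy)
    | inv x _ hx => rw [orderOf_inv]; exact hx
  have hc := key a (by rw [h]; exact Subgroup.mem_top a)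
  have hd : orderOf a ∣ p ^ k := orderOf_dvd_of_pow_eq_one ha
  have h1 : orderOf a = 1 := by
    exact Nat.Coprime.eq_one_of_dvd (Nat.Coprime.pow_right k hc) hd
  exact orderOf_eq_one_iff.1 h1


/-- `O^p(N)`, viewed in `X`, is normal in `X` for `N` normal. -/
theorem pResidual_map_normal' {p : ℕ} (N : Subgroup X) [hN : N.Normal] :
    ((pResidual p ↥N).map N.subtype).Normal := by
  rw [Cfsg.Agent.Lib.Helper17.map_subtype_pResidual]
  constructor
  intro n hn g
  induction hn using Subgroup.closure_induction with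
  | mem y hy =>
    apply Subgroup.subset_closure
    refine ⟨hN.conj_mem _ hy.1 g, ?_⟩
    have : orderOf (g * y * g⁻¹) = orderOf y := (MulAut.conj g).orderOf_eq y
    rw [this]; exact hy.2
  | one => simp
  | mul a b _ _ iha ihb =>
    have : g * (a * b) * g⁻¹ = (g * a * g⁻¹) * (g * b * g⁻¹) := by group
    rw [this]; exact Subgroup.mul_mem _ iha ihb
  | inv a _ iha =>
    have : g * a⁻¹ * g⁻¹ = (g * a * g⁻¹)⁻¹ := by group
    rw [this]; exact Subgroup.inv_mem _ iha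

/-! ### The abstract setting -/

open Cfsg.Agent.Lib.Helper22.S2860A Cfsg.Agent.Lib.Helper12.S2860QG

/-- The abstract hypotheses: `X` plays `E`, `C` plays `C_E(U)`, `Qs` the conjugates of `Q` in `E`. -/
structure Ctx (p : ℕ) (C : Subgroup X) [C.Normal] {ι : Type*} (Qs : ι → Subgroup X) : Prop where
  hred : pCore p (X ⧸ C) = ⊥
  hqs : IsQuasisimple ↥((pResidual p X ⊔ C).map (QuotientGroup.mk' C))
  hQp : ∀ i, IsPGroup p (Qs i)
  hconj : ∀ (x : X) (i : ι), ∃ j, (Qs i).map (MulAut.conj x).toMonoidHom = Qs j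
  hCn : ∀ i, C ≤ Subgroup.normalizer ((Qs i : Subgroup X) : Set X)
  hne : ∃ i, ¬ Qs i ≤ C

/-- the weak closure -/
def E0 {ι : Type*} (Qs : ι → Subgroup X) : Subgroup X := ⨆ i, Qs i

/-- `O^p` of the weak closure, in `X` -/
def RR (p : ℕ) {ι : Type*} (Qs : ι → Subgroup X) : Subgroup X :=
  (pResidual p ↥(E0 Qs)).map (E0 Qs).subtype

/-- the quasisimple section -/
def Kbar (p : ℕ) (C : Subgroup X) [C.Normal] : Subgroup (X ⧸ C) :=
  (pResidual p X ⊔ C).map (QuotientGroup.mk' C)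

section ctx

variable [Finite X] {p : ℕ} [hp : Fact p.Prime] {C : Subgroup X} [hCnorm : C.Normal]
  {ι : Type*} {Qs : ι → Subgroup X}

omit [Finite X] hp in
theorem Ctx.E0_normal (c : Ctx p C Qs) : (E0 Qs).Normal := iSup_normal_of_conj Qs c.hconj

omit [Finite X] hp in
theorem Ctx.RR_normal (c : Ctx p C Qs) : (RR p Qs).Normal := by
  haveI := c.E0_normal
  exact pResidual_map_normal' (E0 Qs)

omit [Finite X] hp hCnorm in
theorem RR_le_E0 : RR p Qs ≤ E0 Qs := Subgroup.map_subtype_le _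

omit [Finite X] hp hCnorm in
theorem RR_le_pResidual : RR p Qs ≤ pResidual p X := by
  unfold RR
  rw [Cfsg.Agent.Lib.Helper17.map_subtype_pResidual]
  unfold pResidual
  apply Subgroup.closure_mono
  rintro x ⟨-, hx⟩
  exact hx

omit [Finite X] hp in
theorem Kbar_normal : (Kbar p C).Normal := by
  haveI : (pResidual p X).Normal := Cfsg.Agent.Lib.Helper13.pResidual_normal p
  haveI : (pResidual p X ⊔ C).Normal := Subgroup.sup_normal _ _
  exact Subgroup.Normal.map inferInstance _ (QuotientGroup.mk'_surjective C)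

omit hCnorm in
theorem exists_pow_mem_RR (e : X) (he : e ∈ E0 Qs) : ∃ k : ℕ, e ^ p ^ k ∈ RR p Qs := by
  obtain ⟨k, hk⟩ := Cfsg.Agent.Lib.Helper17.exists_pow_mem_pResidual (G := ↥(E0 Qs)) (p := p) ⟨e, he⟩
  exact ⟨k, ⟨_, hk, rfl⟩⟩

theorem Kbar_hidx (x : X ⧸ C) : ∃ k : ℕ, x ^ p ^ k ∈ Kbar p C := by
  obtain ⟨x, rfl⟩ := QuotientGroup.mk'_surjective C x
  obtain ⟨k, hk⟩ := Cfsg.Agent.Lib.Helper17.exists_pow_mem_pResidual (G := X) (p := p) x
  refine ⟨k, ?_⟩
  rw [← map_pow]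
  exact ⟨_, (le_sup_left : pResidual p X ≤ pResidual p X ⊔ C) hk, rfl⟩

theorem Ctx.Kbar_le_map_E0 (c : Ctx p C Qs) : Kbar p C ≤ (E0 Qs).map (QuotientGroup.mk' C) := by
  haveI := c.E0_normal
  haveI : ((E0 Qs).map (QuotientGroup.mk' C)).Normal :=
    Subgroup.Normal.map inferInstance _ (QuotientGroup.mk'_surjective C)
  haveI : (Kbar p C).Normal := Kbar_normal
  rcases qs_normal_dichotomy (Kbar p C) c.hqs c.hred Kbar_hidx
    ((E0 Qs).map (QuotientGroup.mk' C)) with h | ⟨-, -, hcop⟩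
  · exact h
  · exfalso
    obtain ⟨i, hi⟩ := c.hne
    have hQi : IsPGroup p ((Qs i).map (QuotientGroup.mk' C)) := (c.hQp i).map _
    have hle : (Qs i).map (QuotientGroup.mk' C) ≤ (E0 Qs).map (QuotientGroup.mk' C) :=
      Subgroup.map_mono (le_iSup Qs i)
    have hne : (Qs i).map (QuotientGroup.mk' C) ≠ ⊥ := by
      intro hbot
      apply hi
      have := (Subgroup.map_eq_bot_iff _).1 hbot
      rwa [QuotientGroup.ker_mk'] at this
    have hdvd : p ∣ Nat.card ((Qs i).map (QuotientGroup.mk' C)) := by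
      rcases hQi.card_eq_or_dvd with h1 | h1
      · exfalso
        apply hne
        exact Subgroup.card_eq_one.1 h1
      · exact h1
    have hdvd2 := hdvd.trans (Subgroup.card_dvd_of_le hle)
    have := Nat.Coprime.eq_one_of_dvd hcop.symm hdvd2
    exact hp.out.ne_one this

theorem Ctx.map_RR (c : Ctx p C Qs) : (RR p Qs).map (QuotientGroup.mk' C) = Kbar p C := by
  apply le_antisymm
  · exact Subgroup.map_mono (RR_le_pResidual.trans le_sup_left)
  · -- `Kbar` is perfect and every element has a `p`-power in the image of `RR`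
    haveI := c.RR_normal
    haveI hRn : ((RR p Qs).map (QuotientGroup.mk' C)).Normal :=
      Subgroup.Normal.map inferInstance _ (QuotientGroup.mk'_surjective C)
    have hperf : commutator ↥(Kbar p C) = ⊤ := Cfsg.Agent.Lib.Helper9.qs_commutator_eq_top c.hqs
    have htop : pResidual p ↥(Kbar p C) = ⊤ :=
      Cfsg.Agent.Lib.Helper9.pResidual_eq_top_of_perfect p hperf
    have hle : pResidual p ↥(Kbar p C) ≤
        ((RR p Qs).map (QuotientGroup.mk' C)).subgroupOf (Kbar p C) := by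
      apply Cfsg.Agent.Lib.Helper17.pResidual_le_of_forall_pow_mem
      intro k
      obtain ⟨e, he, hek⟩ := c.Kbar_le_map_E0 k.2
      obtain ⟨j, hj⟩ := exists_pow_mem_RR (p := p) e he
      refine ⟨j, ?_⟩
      rw [Subgroup.mem_subgroupOf]
      show ((k : X ⧸ C)) ^ p ^ j ∈ _
      rw [← hek, ← map_pow]
      exact ⟨_, hj, rfl⟩
    rw [htop] at hle
    intro k hk
    have := hle (Subgroup.mem_top (⟨k, hk⟩ : ↥(Kbar p C)))
    exact this

theorem Ctx.sup_eq (c : Ctx p C Qs) : pResidual p X ⊔ C = RR p Qs ⊔ C := by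
  have h := c.map_RR
  unfold Kbar at h
  have h2 := (Subgroup.map_eq_map_iff (f := QuotientGroup.mk' C)).1 h
  rw [QuotientGroup.ker_mk'] at h2
  rw [h2, sup_assoc, sup_idem]


/-! ### `O^p(R) = R` and perfectness -/

omit [Finite X] hp hCnorm in
theorem pResidual_RR : (pResidual p ↥(RR p Qs)).map (RR p Qs).subtype = RR p Qs := by
  apply le_antisymm (Subgroup.map_subtype_le _)
  rw [Cfsg.Agent.Lib.Helper17.map_subtype_pResidual]
  have h1 : RR p Qs = Subgroup.closure {x : X | x ∈ E0 Qs ∧ (orderOf x).Coprime p} := by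
    unfold RR
    rw [Cfsg.Agent.Lib.Helper17.map_subtype_pResidual]
  conv_lhs => rw [h1]
  apply Subgroup.closure_mono
  rintro x ⟨hx, hc⟩
  refine ⟨?_, hc⟩
  rw [h1]
  exact Subgroup.subset_closure ⟨hx, hc⟩

omit [Finite X] hp hCnorm in
theorem pResidual_RR_eq_top : pResidual p ↥(RR p Qs) = ⊤ := by
  apply Subgroup.map_injective (RR p Qs).subtype_injective
  rw [pResidual_RR, ← MonoidHom.range_eq_map, Subgroup.range_subtype]

omit [Finite X] hCnorm in
/-- `p`-elements of `R` lie in `[R, R]`. -/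
theorem mem_commutator_RR_of_pElt {y : X} (hy : y ∈ RR p Qs) {k : ℕ} (hyk : y ^ p ^ k = 1) :
    y ∈ ⁅RR p Qs, RR p Qs⁆ := by
  have htop : pResidual p (Abelianization ↥(RR p Qs)) = ⊤ := by
    rw [eq_top_iff]
    have h1 := Cfsg.Agent.Lib.Helper17.map_pResidual_le (p := p)
      (Abelianization.of : ↥(RR p Qs) →* Abelianization ↥(RR p Qs))
    have hsurj : Function.Surjective
        (Abelianization.of : ↥(RR p Qs) →* Abelianization ↥(RR p Qs)) :=
      fun x => QuotientGroup.induction_on x (fun y => ⟨y, rfl⟩)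
    rw [pResidual_RR_eq_top, ← MonoidHom.range_eq_map,
      MonoidHom.range_eq_top.2 hsurj] at h1
    exact h1
  have h1 : (Abelianization.of (⟨y, hy⟩ : ↥(RR p Qs))) = 1 := by
    apply eq_one_of_pResidual_eq_top htop _ k
    rw [← map_pow]
    have : (⟨y, hy⟩ : ↥(RR p Qs)) ^ p ^ k = 1 := Subtype.ext (by simpa using hyk)
    rw [this, map_one]
  have h2 : (⟨y, hy⟩ : ↥(RR p Qs)) ∈ commutator ↥(RR p Qs) := by
    have := (QuotientGroup.eq_one_iff (N := commutator ↥(RR p Qs)) (⟨y, hy⟩ : ↥(RR p Qs))).1 h1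
    exact this
  have h3 : (commutator ↥(RR p Qs)).map (RR p Qs).subtype = ⁅RR p Qs, RR p Qs⁆ := by
    rw [commutator_def, Subgroup.map_commutator, ← MonoidHom.range_eq_map,
      Subgroup.range_subtype]
  rw [← h3]
  exact ⟨_, h2, rfl⟩

omit [Finite X] hp in
theorem Ctx.Kbar_perfect (c : Ctx p C Qs) : ⁅Kbar p C, Kbar p C⁆ = Kbar p C := by
  have hperf : commutator ↥(Kbar p C) = ⊤ := Cfsg.Agent.Lib.Helper9.qs_commutator_eq_top c.hqs
  have h3 : (commutator ↥(Kbar p C)).map (Kbar p C).subtype = ⁅Kbar p C, Kbar p C⁆ := by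
    rw [commutator_def, Subgroup.map_commutator, ← MonoidHom.range_eq_map,
      Subgroup.range_subtype]
  rw [← h3, hperf, ← MonoidHom.range_eq_map, Subgroup.range_subtype]

theorem Ctx.commutator_sup (c : Ctx p C Qs) : ⁅RR p Qs, RR p Qs⁆ ⊔ C = RR p Qs ⊔ C := by
  have h1 : (⁅RR p Qs, RR p Qs⁆).map (QuotientGroup.mk' C) =
      (RR p Qs).map (QuotientGroup.mk' C) := by
    rw [Subgroup.map_commutator, c.map_RR, c.Kbar_perfect]
  have h2 := (Subgroup.map_eq_map_iff (f := QuotientGroup.mk' C)).1 h1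
  rwa [QuotientGroup.ker_mk'] at h2

theorem Ctx.commutator_RR_Qs_le (c : Ctx p C Qs) (i : ι) :
    ⁅RR p Qs, Qs i⁆ ≤ ⁅RR p Qs, RR p Qs⁆ := by
  haveI := c.RR_normal
  haveI hDn : (⁅RR p Qs, RR p Qs⁆).Normal := Subgroup.commutator_normal _ _
  have hDR : ⁅RR p Qs, RR p Qs⁆ ≤ RR p Qs := Subgroup.commutator_le_left _ _
  rw [Subgroup.commutator_le]
  intro r hr x hx
  -- write `r = d * c'`
  have hr' : r ∈ ⁅RR p Qs, RR p Qs⁆ ⊔ C := by
    rw [c.commutator_sup]; exact (le_sup_left : RR p Qs ≤ RR p Qs ⊔ C) hr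
  rw [← SetLike.mem_coe, Subgroup.mul_normal] at hr'
  obtain ⟨d, hd, c', hc', rfl⟩ := hr'
  have hd' : d ∈ ⁅RR p Qs, RR p Qs⁆ := hd
  have hc'' : c' ∈ C := hc'
  have hcR : c' ∈ RR p Qs := by
    have : c' = d⁻¹ * (d * c') := by group
    rw [this]
    exact (RR p Qs).mul_mem ((RR p Qs).inv_mem (hDR hd')) hr
  have hid : ⁅d * c', x⁆ = d * ⁅c', x⁆ * d⁻¹ * ⁅d, x⁆ := by
    simp only [commutatorElement_def]; group
  rw [hid]
  apply Subgroup.mul_mem
  · apply hDn.conj_mem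
    -- `⁅c', x⁆` is a `p`-element of `R`
    have h1 : ⁅c', x⁆ ∈ Qs i := by
      have hn := c.hCn i hc''
      rw [Subgroup.mem_normalizer_iff] at hn
      have h2 : c' * x * c'⁻¹ ∈ Qs i := (hn x).1 hx
      have : ⁅c', x⁆ = (c' * x * c'⁻¹) * x⁻¹ := by simp only [commutatorElement_def]
      rw [this]
      exact (Qs i).mul_mem h2 ((Qs i).inv_mem hx)
    have h2 : ⁅c', x⁆ ∈ RR p Qs := by
      have : ⁅c', x⁆ = c' * (x * c'⁻¹ * x⁻¹) := by simp only [commutatorElement_def]; group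
      rw [this]
      exact (RR p Qs).mul_mem hcR (c.RR_normal.conj_mem _ ((RR p Qs).inv_mem hcR) x)
    obtain ⟨k, hk⟩ := Cfsg.Agent.Lib.Helper17.isPElt_of_mem (c.hQp i) h1
    exact mem_commutator_RR_of_pElt h2 hk
  · have : ⁅d, x⁆ = d * (x * d⁻¹ * x⁻¹) := by simp only [commutatorElement_def]; group
    rw [this]
    exact Subgroup.mul_mem _ hd' (hDn.conj_mem _ (Subgroup.inv_mem _ hd') x)


omit [Finite X] hp hCnorm in
theorem iSup_subgroupOf_E0 : (⨆ i, (Qs i).subgroupOf (E0 Qs)) = ⊤ := by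
  apply Subgroup.map_injective (E0 Qs).subtype_injective
  rw [Subgroup.map_iSup, ← MonoidHom.range_eq_map, Subgroup.range_subtype]
  have : ∀ i, ((Qs i).subgroupOf (E0 Qs)).map (E0 Qs).subtype = Qs i :=
    fun i => Subgroup.map_subgroupOf_eq_of_le (le_iSup Qs i)
  simp_rw [this]
  rfl

theorem Ctx.RR_perfect (c : Ctx p C Qs) : ⁅RR p Qs, RR p Qs⁆ = RR p Qs := by
  haveI := c.RR_normal
  apply le_antisymm (Subgroup.commutator_le_left _ _)
  haveI hDn : (⁅RR p Qs, RR p Qs⁆).Normal := Subgroup.commutator_normal _ _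
  have key := pResidual_le_of_commutator_le (p := p) (fun i => (Qs i).subgroupOf (E0 Qs))
    (fun i => (c.hQp i).comap_subtype) iSup_subgroupOf_E0
    ((⁅RR p Qs, RR p Qs⁆).subgroupOf (E0 Qs)) (by
      intro i
      rw [Subgroup.commutator_le]
      intro r hr x hx
      rw [Subgroup.mem_subgroupOf]
      have hcoe : ((⁅r, x⁆ : ↥(E0 Qs)) : X) = ⁅(r : X), (x : X)⁆ := by
        simp [commutatorElement_def]
      rw [hcoe]
      apply c.commutator_RR_Qs_le i
      exact Subgroup.commutator_mem_commutator ⟨r, hr, rfl⟩ hx)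
  rintro _ ⟨r, hr, rfl⟩
  exact key hr

omit [Finite X] hp in
/-- the restriction of the quotient map to `R` -/
theorem Ctx.ker_restrict (_c : Ctx p C Qs) :
    ((QuotientGroup.mk' C).comp (RR p Qs).subtype).ker = C.subgroupOf (RR p Qs) := by
  ext x
  rw [MonoidHom.mem_ker, Subgroup.mem_subgroupOf, MonoidHom.comp_apply,
    QuotientGroup.mk'_apply, QuotientGroup.eq_one_iff]
  rfl

theorem Ctx.qs_section (c : Ctx p C Qs) :
    IsQuasisimple (↥(RR p Qs) ⧸ C.subgroupOf (RR p Qs)) := by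
  let f : ↥(RR p Qs) →* X ⧸ C := (QuotientGroup.mk' C).comp (RR p Qs).subtype
  have hker : f.ker = C.subgroupOf (RR p Qs) := c.ker_restrict
  have hrange : f.range = Kbar p C := by
    rw [MonoidHom.range_eq_map]
    show (⊤ : Subgroup ↥(RR p Qs)).map ((QuotientGroup.mk' C).comp (RR p Qs).subtype) = _
    rw [← Subgroup.map_map, ← MonoidHom.range_eq_map, Subgroup.range_subtype, c.map_RR]
  have e1 : ↥(RR p Qs) ⧸ f.ker ≃* ↥f.range := QuotientGroup.quotientKerEquivRange f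
  have e2 : ↥f.range ≃* ↥(Kbar p C) := MulEquiv.subgroupCongr hrange
  have e3 : ↥(RR p Qs) ⧸ f.ker ≃* ↥(RR p Qs) ⧸ C.subgroupOf (RR p Qs) :=
    QuotientGroup.quotientMulEquivOfEq hker
  exact Cfsg.Agent.Lib.Helper9.qs_of_mulEquiv ((e2.symm.trans e1.symm).trans e3) c.hqs


/-! ### `R / O_p(R)` is quasisimple -/

/-- `O_p` of a normal subgroup is normal. -/
theorem pCoreOf_normal_of_normal (N : Subgroup X) [hN : N.Normal] : (pCoreOf p N).Normal := by
  have h := Cfsg.Agent.Lib.Helper17.normalizer_le_normalizer_pCoreOf (p := p) N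
  rw [Subgroup.normalizer_eq_top] at h
  exact Subgroup.normalizer_eq_top_iff.1 (top_le_iff.1 h)

theorem Ctx.le_C_of_normal_pGroup (c : Ctx p C Qs) (P : Subgroup X) [hPn : P.Normal]
    (hP : IsPGroup p P) : P ≤ C := by
  have h1 : P.map (QuotientGroup.mk' C) ≤ pCore p (X ⧸ C) :=
    Cfsg.Agent.Lib.Helper17.le_pCore
      (Subgroup.Normal.map hPn _ (QuotientGroup.mk'_surjective C)) (hP.map _)
  rw [c.hred] at h1
  have := (Subgroup.map_eq_bot_iff _).1 (le_bot_iff.1 h1)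
  rwa [QuotientGroup.ker_mk'] at this

theorem Ctx.pCoreOf_RR_le (c : Ctx p C Qs) : pCoreOf p (RR p Qs) ≤ C := by
  haveI := c.RR_normal
  haveI := pCoreOf_normal_of_normal (p := p) (RR p Qs)
  exact c.le_C_of_normal_pGroup _ (Cfsg.Agent.Lib.Helper17.pCoreOf_isPGroup _)

/-- `[C ∩ R, R] ≤ O_p(R)`. -/
theorem Ctx.commutator_inf_le (c : Ctx p C Qs) :
    ⁅C ⊓ RR p Qs, RR p Qs⁆ ≤ pCoreOf p (RR p Qs) := by
  haveI := c.RR_normal
  haveI hC0n : (C ⊓ RR p Qs).Normal := Subgroup.normal_inf_normal _ _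
  haveI hP0n := pCoreOf_normal_of_normal (p := p) (C ⊓ RR p Qs)
  -- `[C₀, Q_i] ≤ O_p(C₀)`
  have h1 : ∀ i, ⁅C ⊓ RR p Qs, Qs i⁆ ≤ pCoreOf p (C ⊓ RR p Qs) := by
    intro i
    have h2 : (C ⊓ RR p Qs) ⊓ Qs i ≤ pCoreOf p (C ⊓ RR p Qs) := by
      apply Cfsg.Agent.Lib.Helper17.le_pCoreOf inf_le_left
      · intro x hx
        rw [Subgroup.mem_normalizer_iff]
        intro y
        have hxn := c.hCn i hx.1
        rw [Subgroup.mem_normalizer_iff] at hxn
        constructor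
        · intro hy
          exact ⟨hC0n.conj_mem y hy.1 x, (hxn y).1 hy.2⟩
        · intro hy
          refine ⟨?_, (hxn y).2 hy.2⟩
          have := hC0n.conj_mem _ hy.1 x⁻¹
          simpa [mul_assoc] using this
      · exact (c.hQp i).to_le inf_le_right
    refine le_trans ?_ h2
    rw [Subgroup.commutator_le]
    intro c' hc' x hx
    refine ⟨?_, ?_⟩
    · have : ⁅c', x⁆ = c' * (x * c'⁻¹ * x⁻¹) := by simp only [commutatorElement_def]; group
      rw [this]
      exact Subgroup.mul_mem _ hc' (hC0n.conj_mem _ (Subgroup.inv_mem _ hc') x)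
    · have hn := c.hCn i hc'.1
      rw [Subgroup.mem_normalizer_iff] at hn
      have h2 : c' * x * c'⁻¹ ∈ Qs i := (hn x).1 hx
      have : ⁅c', x⁆ = (c' * x * c'⁻¹) * x⁻¹ := by simp only [commutatorElement_def]
      rw [this]
      exact (Qs i).mul_mem h2 ((Qs i).inv_mem hx)
  have h3 : ⁅C ⊓ RR p Qs, E0 Qs⁆ ≤ pCoreOf p (C ⊓ RR p Qs) :=
    commutator_iSup_le _ Qs _ h1
  have h4 : ⁅C ⊓ RR p Qs, RR p Qs⁆ ≤ pCoreOf p (C ⊓ RR p Qs) :=
    (Subgroup.commutator_mono le_rfl RR_le_E0).trans h3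
  refine h4.trans ?_
  apply Cfsg.Agent.Lib.Helper17.le_pCoreOf
  · exact (Cfsg.Agent.Lib.Helper17.pCoreOf_le _).trans inf_le_right
  · intro x _
    have : Subgroup.normalizer ((pCoreOf p (C ⊓ RR p Qs) : Subgroup X) : Set X) = ⊤ :=
      Subgroup.normalizer_eq_top _
    rw [this]; exact Subgroup.mem_top x
  · exact Cfsg.Agent.Lib.Helper17.pCoreOf_isPGroup _

theorem Ctx.perfect_top (c : Ctx p C Qs) :
    ⁅(⊤ : Subgroup ↥(RR p Qs)), (⊤ : Subgroup ↥(RR p Qs))⁆ = ⊤ := by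
  apply Subgroup.map_injective (RR p Qs).subtype_injective
  rw [Subgroup.map_commutator, ← MonoidHom.range_eq_map, Subgroup.range_subtype, c.RR_perfect]

theorem Ctx.qs_mod_pCore (c : Ctx p C Qs) : IsQuasisimple (↥(RR p Qs) ⧸ pCore p ↥(RR p Qs)) := by
  haveI : (pCore p ↥(RR p Qs)).Normal := Cfsg.Agent.Lib.Helper17.pCore_normal
  apply isQuasisimple_quotient_of_commutator_le (pCore p ↥(RR p Qs)) (C.subgroupOf (RR p Qs))
  · -- `O_p(R) ≤ C`
    intro x hx
    rw [Subgroup.mem_subgroupOf]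
    exact c.pCoreOf_RR_le ⟨x, hx, rfl⟩
  · exact c.perfect_top
  · exact c.qs_section
  · rw [Subgroup.commutator_le]
    intro c' hc' r _
    have hcoe : ((⁅c', r⁆ : ↥(RR p Qs)) : X) = ⁅(c' : X), (r : X)⁆ := by
      simp [commutatorElement_def]
    have hmem : ⁅(c' : X), (r : X)⁆ ∈ pCoreOf p (RR p Qs) := by
      apply c.commutator_inf_le
      exact Subgroup.commutator_mem_commutator ⟨hc', c'.2⟩ r.2
    obtain ⟨y, hy, hyx⟩ := hmem
    have : y = ⁅c', r⁆ := Subtype.ext (hyx.trans hcoe.symm)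
    rw [← this]
    exact hy


/-! ### `[R, Y] = R` -/

theorem Ctx.commutator_pGroup (c : Ctx p C Qs) (Y : Subgroup X) (hY : IsPGroup p Y)
    (hYC : ¬ Y ≤ C) : ⁅RR p Qs, Y⁆ = RR p Qs := by
  haveI := c.RR_normal
  haveI : (Kbar p C).Normal := Kbar_normal
  have hNR : ⁅RR p Qs, Y⁆ ≤ RR p Qs := Subgroup.commutator_le_left _ _
  apply le_antisymm hNR
  -- the image of `Y` is a nontrivial `p`-group
  have hYbar1 : Y.map (QuotientGroup.mk' C) ≠ ⊥ := by
    intro hbot
    apply hYC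
    have := (Subgroup.map_eq_bot_iff _).1 hbot
    rwa [QuotientGroup.ker_mk'] at this
  have hA2 := qs_commutator_pgroup (Kbar p C) c.hqs c.hred Kbar_hidx
    (Y.map (QuotientGroup.mk' C)) (hY.map _) hYbar1
  have hmap : (⁅RR p Qs, Y⁆).map (QuotientGroup.mk' C) = (RR p Qs).map (QuotientGroup.mk' C) := by
    rw [Subgroup.map_commutator, c.map_RR, hA2]
  have hsup := (Subgroup.map_eq_map_iff (f := QuotientGroup.mk' C)).1 hmap
  rw [QuotientGroup.ker_mk'] at hsup
  -- work inside `H = ↥R`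
  have hN'n : ((⁅RR p Qs, Y⁆).subgroupOf (RR p Qs)).Normal := by
    constructor
    intro n hn g
    rw [Subgroup.mem_subgroupOf] at hn ⊢
    have := conj_mem_commutator (RR p Qs) Y g.2 hn
    simpa using this
  haveI := hN'n
  have hPn : (pCore p ↥(RR p Qs)).Normal := Cfsg.Agent.Lib.Helper17.pCore_normal
  -- `⊤ = N' ⊔ C'`
  have htop : (⊤ : Subgroup ↥(RR p Qs)) =
      (⁅RR p Qs, Y⁆).subgroupOf (RR p Qs) ⊔ C.subgroupOf (RR p Qs) := by
    symm
    rw [eq_top_iff]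
    intro r _
    have hr' : (r : X) ∈ ⁅RR p Qs, Y⁆ ⊔ C := by
      rw [hsup]; exact (le_sup_left : RR p Qs ≤ RR p Qs ⊔ C) r.2
    rw [← SetLike.mem_coe, Subgroup.mul_normal] at hr'
    obtain ⟨n, hn, c', hc', hnc⟩ := hr'
    have hn' : n ∈ ⁅RR p Qs, Y⁆ := hn
    have hc'' : c' ∈ C := hc'
    have hcR : c' ∈ RR p Qs := by
      have : c' = n⁻¹ * (r : X) := by rw [← hnc]; group
      rw [this]
      exact (RR p Qs).mul_mem ((RR p Qs).inv_mem (hNR hn')) r.2
    have : r = (⟨n, hNR hn'⟩ : ↥(RR p Qs)) * ⟨c', hcR⟩ := Subtype.ext hnc.symm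
    rw [this]
    exact Subgroup.mul_mem _ (Subgroup.mem_sup_left (Subgroup.mem_subgroupOf.2 hn'))
      (Subgroup.mem_sup_right (Subgroup.mem_subgroupOf.2 hc''))
  -- the quotient `H/N'` is a `p`-group
  have hcomm : ⁅C.subgroupOf (RR p Qs), (⊤ : Subgroup ↥(RR p Qs))⁆ ≤ pCore p ↥(RR p Qs) := by
    rw [Subgroup.commutator_le]
    intro c' hc' r _
    have hcoe : ((⁅c', r⁆ : ↥(RR p Qs)) : X) = ⁅(c' : X), (r : X)⁆ := by
      simp [commutatorElement_def]
    have hmem : ⁅(c' : X), (r : X)⁆ ∈ pCoreOf p (RR p Qs) := by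
      apply c.commutator_inf_le
      exact Subgroup.commutator_mem_commutator ⟨hc', c'.2⟩ r.2
    obtain ⟨y, hy, hyx⟩ := hmem
    have : y = ⁅c', r⁆ := Subtype.ext (hyx.trans hcoe.symm)
    rw [← this]
    exact hy
  have hquot : IsPGroup p (↥(RR p Qs) ⧸ (⁅RR p Qs, Y⁆).subgroupOf (RR p Qs)) := by
    have hsurj := QuotientGroup.mk'_surjective ((⁅RR p Qs, Y⁆).subgroupOf (RR p Qs))
    have h1 : (⊤ : Subgroup (↥(RR p Qs) ⧸ (⁅RR p Qs, Y⁆).subgroupOf (RR p Qs))) ≤
        (pCore p ↥(RR p Qs)).map (QuotientGroup.mk' ((⁅RR p Qs, Y⁆).subgroupOf (RR p Qs))) := by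
      have h2 : (⁅(⊤ : Subgroup ↥(RR p Qs)), (⊤ : Subgroup ↥(RR p Qs))⁆).map
          (QuotientGroup.mk' ((⁅RR p Qs, Y⁆).subgroupOf (RR p Qs))) = ⊤ := by
        rw [c.perfect_top, ← MonoidHom.range_eq_map]
        exact MonoidHom.range_eq_top.2 hsurj
      rw [← h2]
      conv_lhs => rw [htop]
      rw [Subgroup.map_commutator, Subgroup.map_sup]
      have h3 : ((⁅RR p Qs, Y⁆).subgroupOf (RR p Qs)).map
          (QuotientGroup.mk' ((⁅RR p Qs, Y⁆).subgroupOf (RR p Qs))) = ⊥ := by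
        rw [Subgroup.map_eq_bot_iff, QuotientGroup.ker_mk']
      rw [h3, bot_sup_eq, ← Subgroup.map_commutator]
      exact Subgroup.map_mono ((Subgroup.commutator_mono le_rfl le_top).trans hcomm)
    have hP : IsPGroup p ((pCore p ↥(RR p Qs)).map
        (QuotientGroup.mk' ((⁅RR p Qs, Y⁆).subgroupOf (RR p Qs)))) :=
      (Cfsg.Agent.Lib.Helper17.pCore_isPGroup (G := ↥(RR p Qs)) (p := p)).map _
    intro g
    obtain ⟨k, hk⟩ := hP ⟨g, h1 (Subgroup.mem_top g)⟩
    exact ⟨k, by simpa using congrArg Subtype.val hk⟩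
  have hle := Cfsg.Agent.Lib.Helper17.pResidual_le_of_quotient_isPGroup (p := p)
    (N := (⁅RR p Qs, Y⁆).subgroupOf (RR p Qs)) hquot
  rw [pResidual_RR_eq_top] at hle
  intro r hr
  exact hle (Subgroup.mem_top (⟨r, hr⟩ : ↥(RR p Qs)))

/-- Summary of the abstract result. -/
theorem Ctx.main (c : Ctx p C Qs) :
    pResidual p X ⊔ C = RR p Qs ⊔ C ∧ ⁅RR p Qs, RR p Qs⁆ = RR p Qs ∧
    (pResidual p ↥(RR p Qs)).map (RR p Qs).subtype = RR p Qs ∧
    IsQuasisimple (↥(RR p Qs) ⧸ C.subgroupOf (RR p Qs)) ∧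
    IsQuasisimple (↥(RR p Qs) ⧸ pCore p ↥(RR p Qs)) ∧
    ∀ Y : Subgroup X, IsPGroup p Y → ¬ Y ≤ C → ⁅RR p Qs, Y⁆ = RR p Qs :=
  ⟨c.sup_eq, c.RR_perfect, pResidual_RR, c.qs_section, c.qs_mod_pCore, c.commutator_pGroup⟩

end ctx

end Cfsg.Agent.Lib.Helper27.LargeQS
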