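import Mathlib
import Cfsg.Prelude.Def_LocalStructure
import Cfsg.Agent.Lib.Helper27.LargeQS
import Cfsg.Agent.Lib.Helper17.Large2

open Cfsg
open scoped commutatorElement

namespace Cfsg.Agent.Lib.Helper27.LargeQS

variable {G : Type*} [Group G]

/-- conjugates of `Q` inside `E`, as subgroups of `↥E` -/
def QsOf (Q E : Subgroup G) :
    {g : G // Q.map (MulAut.conj g).toMonoidHom ≤ E} → Subgroup ↥E :=
  fun g => (Q.map (MulAut.conj (g : G)).toMonoidHom).subgroupOf E

theorem subgroupOf_le_normalizer_subgroupOf' {L N Y : Subgroup G}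
    (hN : N ≤ Subgroup.normalizer (Y : Set G)) :
    N.subgroupOf L ≤ Subgroup.normalizer ((Y.subgroupOf L : Subgroup ↥L) : Set ↥L) := by
  intro n hn
  have hn' : (n : G) ∈ Subgroup.normalizer (Y : Set G) := hN hn
  rw [Subgroup.mem_normalizer_iff] at hn' ⊢
  intro h
  have := hn' (h : G)
  simpa [Subgroup.mem_subgroupOf] using this

theorem pCore_map_le' {A B : Type*} [Group A] [Group B] {p : ℕ} (e : A ≃* B) :
    (pCore p A).map e.toMonoidHom ≤ pCore p B := by
  rw [Subgroup.map_le_iff_le_comap]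
  unfold pCore
  apply sSup_le
  rintro N ⟨hN, hp⟩
  rw [← Subgroup.map_le_iff_le_comap]
  apply le_sSup (s := {N : Subgroup B | N.Normal ∧ IsPGroup p N})
  exact ⟨hN.map _ e.surjective, hp.map _⟩

theorem pCore_map_equiv' {A B : Type*} [Group A] [Group B] {p : ℕ} (e : A ≃* B) :
    (pCore p A).map e.toMonoidHom = pCore p B := by
  apply le_antisymm (pCore_map_le' e)
  intro x hx
  have h1 := pCore_map_le' (p := p) e.symm ⟨x, hx, rfl⟩
  exact ⟨e.symm x, h1, by simp⟩

theorem map_E0_QsOf (Q E : Subgroup G) :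
    (E0 (QsOf Q E)).map E.subtype = Cfsg.weakClosure Q E := by
  unfold E0 Cfsg.weakClosure QsOf
  rw [Subgroup.map_iSup]
  apply iSup_congr
  intro g
  exact Subgroup.map_subgroupOf_eq_of_le g.2

theorem map_RR_QsOf {p : ℕ} (Q E : Subgroup G) :
    (RR p (QsOf Q E)).map E.subtype =
      (pResidual p ↥(Cfsg.weakClosure Q E)).map (Cfsg.weakClosure Q E).subtype := by
  unfold RR
  rw [Cfsg.Agent.Lib.Helper17.map_subtype_pResidual, Cfsg.Agent.Lib.Helper17.map_subtype_pResidual,
    MonoidHom.map_closure]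
  congr 1
  ext y
  constructor
  · rintro ⟨x, ⟨hx, hc⟩, rfl⟩
    refine ⟨?_, ?_⟩
    · rw [← map_E0_QsOf]; exact ⟨x, hx, rfl⟩
    · rw [Subgroup.subtype_apply, Subgroup.orderOf_coe]; exact hc
  · rintro ⟨hy, hc⟩
    rw [← map_E0_QsOf] at hy
    obtain ⟨x, hx, rfl⟩ := hy
    refine ⟨x, ⟨hx, ?_⟩, rfl⟩
    rw [Subgroup.subtype_apply, Subgroup.orderOf_coe] at hc
    exact hc

theorem ctx_of_large [Finite G] {p : ℕ} [Fact p.Prime] (Q : Subgroup G) (hQp : IsPGroup p ↥Q)
    (hQ : Cfsg.IsLarge Q) (U : Subgroup G)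
    (hU : Cfsg.IsElementaryAbelian p U) (hU1 : U ≠ ⊥) (E : Subgroup G) (hQE : Q ≤ E)
    (hEU : E ≤ Subgroup.normalizer ((U : Subgroup G) : Set G))
    (hQn : ¬ E ≤ Subgroup.normalizer ((Q : Subgroup G) : Set G))
    [hn : ((Subgroup.centralizer ((U : Subgroup G) : Set G)).subgroupOf E).Normal]
    (hred : Cfsg.pCore p (↥E ⧸ (Subgroup.centralizer ((U : Subgroup G) : Set G)).subgroupOf E) = ⊥)
    (hqs : Cfsg.IsQuasisimple ↥(((Cfsg.pResidual p ↥E) ⊔
      (Subgroup.centralizer ((U : Subgroup G) : Set G)).subgroupOf E).map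
        (QuotientGroup.mk' ((Subgroup.centralizer ((U : Subgroup G) : Set G)).subgroupOf E)))) :
    Ctx p ((Subgroup.centralizer ((U : Subgroup G) : Set G)).subgroupOf E) (QsOf Q E) where
  hred := hred
  hqs := hqs
  hQp := fun g => (hQp.map _).comap_subtype
  hconj := by
    intro x g
    have hle : Q.map (MulAut.conj ((x : G) * (g : G))).toMonoidHom ≤ E := by
      rintro _ ⟨q, hq, rfl⟩
      have h1 : (g : G) * q * (g : G)⁻¹ ∈ E := g.2 ⟨q, hq, rfl⟩
      have : (MulAut.conj ((x : G) * (g : G))).toMonoidHom q =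
          (x : G) * ((g : G) * q * (g : G)⁻¹) * (x : G)⁻¹ := by
        simp [MulAut.conj_apply, mul_assoc]
      rw [this]
      exact E.mul_mem (E.mul_mem x.2 h1) (E.inv_mem x.2)
    refine ⟨⟨(x : G) * (g : G), hle⟩, ?_⟩
    unfold QsOf
    apply le_antisymm
    · rintro y ⟨z, hz, rfl⟩
      have hz2 : (z : G) ∈ Q.map (MulAut.conj (g : G)).toMonoidHom := Subgroup.mem_subgroupOf.1 hz
      apply Subgroup.mem_subgroupOf.2
      obtain ⟨q, hq, hqz⟩ := hz2
      refine ⟨q, hq, ?_⟩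
      have hz' : (z : G) = (g : G) * q * (g : G)⁻¹ := by
        rw [← hqz]; simp [MulAut.conj_apply]
      simp [MulAut.conj_apply, hz', mul_assoc]
    · intro y hy
      have hy2 : (y : G) ∈ Q.map (MulAut.conj ((x : G) * (g : G))).toMonoidHom :=
        Subgroup.mem_subgroupOf.1 hy
      obtain ⟨q, hq, hqy⟩ := hy2
      have h1 : (g : G) * q * (g : G)⁻¹ ∈ E := g.2 ⟨q, hq, rfl⟩
      refine ⟨⟨(g : G) * q * (g : G)⁻¹, h1⟩, ?_, ?_⟩
      · apply Subgroup.mem_subgroupOf.2
        exact ⟨q, hq, by simp [MulAut.conj_apply]⟩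
      · apply Subtype.ext
        rw [← hqy]
        simp [MulAut.conj_apply, mul_assoc]
  hCn := by
    intro g
    have hUp : IsPGroup p U := by
      intro u
      refine ⟨1, ?_⟩
      apply Subtype.ext
      rw [pow_one]
      simpa using hU.2 u.1 u.2
    have hL := (Cfsg.Agent.Lib.Helper17.IsLarge.map_conj hQ (g : G))
    have h1 := (Cfsg.Agent.Lib.Helper17.IsLarge.centralizer_le_normalizer (p := p) hL (hQp.map _)
      hUp hU1 (g.2.trans hEU)).1
    exact subgroupOf_le_normalizer_subgroupOf' h1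
  hne := by
    have h1 : Q.map (MulAut.conj (1 : G)).toMonoidHom = Q := by
      ext y
      constructor
      · rintro ⟨q, hq, rfl⟩
        simpa using hq
      · intro hy
        exact ⟨y, hy, by simp⟩
    refine ⟨⟨1, by rw [h1]; exact hQE⟩, ?_⟩
    intro hle
    apply hQn
    have hUQ : U ≤ Subgroup.centralizer (Q : Set G) := by
      intro u hu
      rw [Subgroup.mem_centralizer_iff]
      intro q hq
      have hq' : (⟨q, hQE hq⟩ : ↥E) ∈ QsOf Q E ⟨1, by rw [h1]; exact hQE⟩ := by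
        unfold QsOf
        rw [Subgroup.mem_subgroupOf]
        show q ∈ Q.map (MulAut.conj (1 : G)).toMonoidHom
        rw [h1]; exact hq
      have := hle hq'
      rw [Subgroup.mem_subgroupOf, Subgroup.mem_centralizer_iff] at this
      exact (this u hu).symm
    exact hEU.trans (hQ.2 U hUQ hU1)

end Cfsg.Agent.Lib.Helper27.LargeQS
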