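import Mathlib
import Cfsg.Prelude.Def_LocalStructure
import Cfsg.Agent.Lib.Helper27.LargeQS2

open Cfsg
open scoped commutatorElement

namespace Cfsg.Agent.Lib.Helper27.LargeQS

variable {G : Type*} [Group G]

/-- the iso `R' ≃ Er` for `R' ≤ ↥E` with image `Er` -/
noncomputable def transEquiv {E : Subgroup G} (R' : Subgroup ↥E) (Er : Subgroup G)
    (h : R'.map E.subtype = Er) : ↥R' ≃* ↥Er :=
  (Subgroup.equivMapOfInjective R' E.subtype E.subtype_injective).trans (MulEquiv.subgroupCongr h)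

theorem transEquiv_coe {E : Subgroup G} (R' : Subgroup ↥E) (Er : Subgroup G)
    (h : R'.map E.subtype = Er) (x : ↥R') : ((transEquiv R' Er h x : ↥Er) : G) = ((x : ↥E) : G) := by
  subst h
  rfl

theorem pResidual_map_idem {p : ℕ} (W : Subgroup G) (R : Subgroup G)
    (hR : R = (pResidual p ↥W).map W.subtype) :
    (pResidual p ↥R).map R.subtype = R := by
  apply le_antisymm (Subgroup.map_subtype_le _)
  rw [Cfsg.Agent.Lib.Helper17.map_subtype_pResidual]
  have h1 : R = Subgroup.closure {x : G | x ∈ W ∧ (orderOf x).Coprime p} := by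
    rw [hR, Cfsg.Agent.Lib.Helper17.map_subtype_pResidual]
  conv_lhs => rw [h1]
  apply Subgroup.closure_mono
  rintro x ⟨hx, hc⟩
  refine ⟨?_, hc⟩
  rw [h1]
  exact Subgroup.subset_closure ⟨hx, hc⟩

theorem large_qs_section [Finite G] {p : ℕ} [Fact p.Prime] (Q : Subgroup G) (hQp : IsPGroup p ↥Q)
    (hQ : Cfsg.IsLarge Q) (U : Subgroup G)
    (hU : Cfsg.IsElementaryAbelian p U) (hU1 : U ≠ ⊥) (E : Subgroup G) (hQE : Q ≤ E)
    (hEU : E ≤ Subgroup.normalizer ((U : Subgroup G) : Set G))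
    (hQn : ¬ E ≤ Subgroup.normalizer ((Q : Subgroup G) : Set G))
    [hn : ((Subgroup.centralizer ((U : Subgroup G) : Set G)).subgroupOf E).Normal]
    (hred : Cfsg.pCore p (↥E ⧸ (Subgroup.centralizer ((U : Subgroup G) : Set G)).subgroupOf E) = ⊥)
    (hqs : Cfsg.IsQuasisimple ↥(((Cfsg.pResidual p ↥E) ⊔
      (Subgroup.centralizer ((U : Subgroup G) : Set G)).subgroupOf E).map
        (QuotientGroup.mk' ((Subgroup.centralizer ((U : Subgroup G) : Set G)).subgroupOf E))))
    (Er : Subgroup G)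
    (hEr : Er = ((Cfsg.pResidual p ↥(Cfsg.weakClosure Q E)).map ((Cfsg.weakClosure Q E)).subtype))
    [hn2 : ((Subgroup.centralizer ((U : Subgroup G) : Set G)).subgroupOf Er).Normal] :
    ((Cfsg.pResidual p ↥E).map (E).subtype) ⊔ (E ⊓ Subgroup.centralizer ((U : Subgroup G) : Set G))
      = Er ⊔ (E ⊓ Subgroup.centralizer ((U : Subgroup G) : Set G)) ∧
    ⁅Er, Er⁆ = Er ∧ ((Cfsg.pResidual p ↥Er).map (Er).subtype) = Er ∧
    Cfsg.IsQuasisimple (↥Er ⧸ (Subgroup.centralizer ((U : Subgroup G) : Set G)).subgroupOf Er) ∧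
    Cfsg.IsQuasisimple (↥Er ⧸ Cfsg.pCore p ↥Er) ∧
    ∀ Y : Subgroup G, Y ≤ E → IsPGroup p ↥Y →
      ¬ Y ≤ Subgroup.centralizer ((U : Subgroup G) : Set G) → ⁅Er, Y⁆ = Er := by
  have c := ctx_of_large Q hQp hQ U hU hU1 E hQE hEU hQn hred hqs
  obtain ⟨m1, m2, -, m4, m5, m6⟩ := c.main
  have hmap : (RR p (QsOf Q E)).map E.subtype = Er := by rw [map_RR_QsOf, hEr]
  have hCmap : ((Subgroup.centralizer ((U : Subgroup G) : Set G)).subgroupOf E).map E.subtype =
      E ⊓ Subgroup.centralizer ((U : Subgroup G) : Set G) := by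
    rw [Subgroup.subgroupOf_map_subtype, inf_comm]
  refine ⟨?_, ?_, ?_, ?_, ?_, ?_⟩
  · have := congrArg (Subgroup.map E.subtype) m1
    rw [Subgroup.map_sup, Subgroup.map_sup, hCmap, hmap] at this
    exact this
  · have := congrArg (Subgroup.map E.subtype) m2
    rw [Subgroup.map_commutator, hmap] at this
    exact this
  · exact pResidual_map_idem (Cfsg.weakClosure Q E) Er hEr
  · haveI : (((Subgroup.centralizer ((U : Subgroup G) : Set G)).subgroupOf E).subgroupOf
        (RR p (QsOf Q E))).Normal := inferInstance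
    refine Cfsg.Agent.Lib.Helper9.qs_of_mulEquiv (QuotientGroup.congr _ _
      (transEquiv (RR p (QsOf Q E)) Er hmap) ?_) m4
    ext y
    constructor
    · rintro ⟨x, hx, rfl⟩
      have hx' : ((x : ↥E) : G) ∈ Subgroup.centralizer ((U : Subgroup G) : Set G) :=
        Subgroup.mem_subgroupOf.1 (Subgroup.mem_subgroupOf.1 hx)
      apply Subgroup.mem_subgroupOf.2
      show ((transEquiv (RR p (QsOf Q E)) Er hmap x : ↥Er) : G) ∈ _
      rw [transEquiv_coe]
      exact hx'
    · intro hy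
      have hy' : (y : G) ∈ Subgroup.centralizer ((U : Subgroup G) : Set G) :=
        Subgroup.mem_subgroupOf.1 hy
      refine ⟨(transEquiv (RR p (QsOf Q E)) Er hmap).symm y, ?_,
        (transEquiv (RR p (QsOf Q E)) Er hmap).apply_symm_apply y⟩
      apply Subgroup.mem_subgroupOf.2
      apply Subgroup.mem_subgroupOf.2
      have := transEquiv_coe (RR p (QsOf Q E)) Er hmap
        ((transEquiv (RR p (QsOf Q E)) Er hmap).symm y)
      rw [MulEquiv.apply_symm_apply] at this
      rw [← this]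
      exact hy'
  · refine Cfsg.Agent.Lib.Helper9.qs_of_mulEquiv (QuotientGroup.congr _ _
      (transEquiv (RR p (QsOf Q E)) Er hmap) ?_) m5
    exact pCore_map_equiv' _
  · intro Y hYE hYp hYC
    have h6 := m6 (Y.subgroupOf E) hYp.comap_subtype (by
      intro hle
      apply hYC
      intro y hy
      have : (⟨y, hYE hy⟩ : ↥E) ∈ Y.subgroupOf E := Subgroup.mem_subgroupOf.2 hy
      exact Subgroup.mem_subgroupOf.1 (hle this))
    have := congrArg (Subgroup.map E.subtype) h6
    rw [Subgroup.map_commutator, hmap, Subgroup.map_subgroupOf_eq_of_le hYE] at this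
    exact this

end Cfsg.Agent.Lib.Helper27.LargeQS
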