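import Mathlib

/-!
# Automorphisms of order `p` of `C_{p^k} × C_{p^k}`, `p ≥ 5`, `k ≥ 2`

Such an automorphism acts trivially modulo `p`.  The core is an argument in the endomorphism ring
using the binomial theorem.
-/

set_option autoImplicit false

namespace Cfsg.Agent.Lib.Helper27.LOP

section abstract

variable {V : Type*} [AddCommGroup V]

/-- the endomorphism `f` has image in `m V` -/
def DivBy (m : ℕ) (f : AddMonoid.End V) : Prop := ∀ v : V, ∃ w : V, f v = m • w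

theorem divBy_zero (m : ℕ) : DivBy m (0 : AddMonoid.End V) :=
  fun v => ⟨0, by rw [AddMonoid.End.zero_apply, smul_zero]⟩

theorem divBy_add {m : ℕ} {f g : AddMonoid.End V} (hf : DivBy m f) (hg : DivBy m g) :
    DivBy m (f + g) := by
  intro v
  obtain ⟨w, hw⟩ := hf v
  obtain ⟨w', hw'⟩ := hg v
  refine ⟨w + w', ?_⟩
  show f v + g v = m • (w + w')
  rw [hw, hw', smul_add]

theorem divBy_neg {m : ℕ} {f : AddMonoid.End V} (hf : DivBy m f) : DivBy m (-f) := by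
  intro v
  obtain ⟨w, hw⟩ := hf v
  refine ⟨-w, ?_⟩
  show -(f v) = m • -w
  rw [hw, smul_neg]

theorem divBy_mul_left {m : ℕ} {f : AddMonoid.End V} (g : AddMonoid.End V) (hf : DivBy m f) :
    DivBy m (g * f) := by
  intro v
  obtain ⟨w, hw⟩ := hf v
  refine ⟨g w, ?_⟩
  show g (f v) = m • g w
  rw [hw, map_nsmul]

theorem divBy_mul {m n : ℕ} {f g : AddMonoid.End V} (hf : DivBy m f) (hg : DivBy n g) :
    DivBy (m * n) (f * g) := by
  intro v
  obtain ⟨w, hw⟩ := hg v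
  obtain ⟨w', hw'⟩ := hf w
  refine ⟨w', ?_⟩
  show f (g v) = (m * n) • w'
  rw [hw, map_nsmul, hw', smul_smul, mul_comm]

theorem divBy_mul_cast (f : AddMonoid.End V) (c : ℕ) : DivBy c (f * (c : AddMonoid.End V)) := by
  intro v
  refine ⟨f v, ?_⟩
  show f ((c : AddMonoid.End V) v) = c • f v
  rw [AddMonoid.End.natCast_apply, map_nsmul]

theorem divBy_mul_cast' {m : ℕ} {f : AddMonoid.End V} (hf : DivBy m f) (c : ℕ) :
    DivBy (m * c) (f * (c : AddMonoid.End V)) := by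
  intro v
  obtain ⟨w, hw⟩ := hf v
  refine ⟨w, ?_⟩
  show f ((c : AddMonoid.End V) v) = (m * c) • w
  rw [AddMonoid.End.natCast_apply, map_nsmul, hw, smul_smul, mul_comm]

theorem divBy_of_mul {a b : ℕ} {f : AddMonoid.End V} (hf : DivBy (a * b) f) : DivBy a f := by
  intro v
  obtain ⟨w, hw⟩ := hf v
  exact ⟨b • w, by rw [hw, smul_smul]⟩

theorem divBy_sum {m : ℕ} {ι : Type*} (s : Finset ι) (f : ι → AddMonoid.End V)
    (h : ∀ i ∈ s, DivBy m (f i)) : DivBy m (∑ i ∈ s, f i) :=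
  Finset.sum_induction f (DivBy m) (fun _ _ => divBy_add) (divBy_zero m) h

theorem expand (N : AddMonoid.End V) (q : ℕ) :
    (N + 1) ^ (q + 1) = (∑ m ∈ Finset.range q,
      N ^ (m + 1) * (((q + 1).choose (m + 1) : ℕ) : AddMonoid.End V)) + 1 + N ^ (q + 1) := by
  rw [(Commute.one_right N).add_pow (q + 1), Finset.sum_range_succ, Finset.sum_range_succ']
  simp only [one_pow, mul_one, pow_zero, Nat.choose_zero_right, Nat.cast_one, Nat.choose_self]

/-- `(φ - 1) ^ p` is divisible by `p` when `φ ^ p = 1` -/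
theorem divBy_pow_p {p : ℕ} (hp : p.Prime) (φ : AddMonoid.End V) (hφ : φ ^ p = 1) :
    DivBy p ((φ - 1) ^ p) := by
  obtain ⟨q, rfl⟩ : ∃ q, p = q + 1 := ⟨p - 1, by have := hp.pos; omega⟩
  obtain ⟨N, hN⟩ : ∃ N, N = φ - 1 := ⟨_, rfl⟩
  have hφN : N + 1 = φ := by rw [hN]; exact sub_add_cancel φ 1
  rw [← hN]
  have h1 := expand N q
  rw [hφN, hφ] at h1
  obtain ⟨Sm, hSm⟩ : ∃ Sm, Sm = ∑ m ∈ Finset.range q,
      N ^ (m + 1) * (((q + 1).choose (m + 1) : ℕ) : AddMonoid.End V) := ⟨_, rfl⟩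
  rw [← hSm] at h1
  have h2 : N ^ (q + 1) = -Sm := by
    calc N ^ (q + 1) = (Sm + 1 + N ^ (q + 1)) - 1 - Sm := by abel
      _ = 1 - 1 - Sm := by rw [← h1]
      _ = -Sm := by abel
  rw [h2]
  apply divBy_neg
  rw [hSm]
  apply divBy_sum
  intro m hm
  rw [Finset.mem_range] at hm
  obtain ⟨c, hc⟩ := hp.dvd_choose_self (Nat.succ_ne_zero m) (by omega : m + 1 < q + 1)
  rw [hc]
  exact divBy_of_mul (divBy_mul_cast _ _)

/-- the key step: if `(φ-1)²` is divisible by `p`, `φ ^ p = 1` and `p ≥ 5`, then `φ - 1` is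
divisible by `p`, provided `p v ∈ p² V` implies `v ∈ p V`. -/
theorem divBy_of_sq {p : ℕ} (hp : p.Prime) (hp5 : 5 ≤ p) (φ : AddMonoid.End V) (hφ : φ ^ p = 1)
    (hN2 : DivBy p ((φ - 1) * (φ - 1)))
    (hdiv : ∀ v w : V, p • v = (p * p) • w → ∃ z, v = p • z) : DivBy p (φ - 1) := by
  obtain ⟨r, rfl⟩ : ∃ r, p = r + 1 + 1 + 1 + 1 := ⟨p - 4, by omega⟩
  obtain ⟨N, hN⟩ : ∃ N, N = φ - 1 := ⟨_, rfl⟩
  have hφN : N + 1 = φ := by rw [hN]; exact sub_add_cancel φ 1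
  rw [← hN] at hN2 ⊢
  have h1 := expand N (r + 1 + 1 + 1)
  rw [hφN, hφ, Finset.sum_range_succ'] at h1
  obtain ⟨Sm, hSm⟩ : ∃ Sm, Sm = ∑ m ∈ Finset.range (r + 1 + 1),
      N ^ (m + 1 + 1) * (((r + 1 + 1 + 1 + 1).choose (m + 1 + 1) : ℕ) : AddMonoid.End V) :=
    ⟨_, rfl⟩
  rw [← hSm] at h1
  have hT1 : N ^ (0 + 1) * (((r + 1 + 1 + 1 + 1).choose (0 + 1) : ℕ) : AddMonoid.End V) =
      N * ((r + 1 + 1 + 1 + 1 : ℕ) : AddMonoid.End V) := by
    rw [zero_add, pow_one, Nat.choose_one_right]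
  rw [hT1] at h1
  obtain ⟨T1, hT1'⟩ : ∃ T1, T1 = N * ((r + 1 + 1 + 1 + 1 : ℕ) : AddMonoid.End V) := ⟨_, rfl⟩
  rw [← hT1'] at h1
  have h2 : T1 = -(Sm + N ^ (r + 1 + 1 + 1 + 1)) := by
    calc T1 = (Sm + T1 + 1 + N ^ (r + 1 + 1 + 1 + 1)) - 1 -
          (Sm + N ^ (r + 1 + 1 + 1 + 1)) := by abel
      _ = 1 - 1 - (Sm + N ^ (r + 1 + 1 + 1 + 1)) := by rw [← h1]
      _ = -(Sm + N ^ (r + 1 + 1 + 1 + 1)) := by abel
  have hSmD : DivBy ((r + 1 + 1 + 1 + 1) * (r + 1 + 1 + 1 + 1)) Sm := by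
    rw [hSm]
    apply divBy_sum
    intro m hm
    rw [Finset.mem_range] at hm
    have hdvd : (r + 1 + 1 + 1 + 1) ∣ (r + 1 + 1 + 1 + 1).choose (m + 1 + 1) :=
      hp.dvd_choose_self (k := m + 1 + 1) (by omega) (by omega)
    obtain ⟨c, hc⟩ := hdvd
    rw [hc]
    have e1 : N ^ (m + 1 + 1) = N ^ m * (N * N) := by
      rw [pow_succ, pow_succ, mul_assoc]
    have h3 : DivBy (r + 1 + 1 + 1 + 1) (N ^ (m + 1 + 1)) := by
      rw [e1]; exact divBy_mul_left _ hN2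
    have h4 := divBy_mul_cast' h3 ((r + 1 + 1 + 1 + 1) * c)
    rw [← mul_assoc] at h4
    exact divBy_of_mul h4
  have hTD : DivBy ((r + 1 + 1 + 1 + 1) * (r + 1 + 1 + 1 + 1)) (N ^ (r + 1 + 1 + 1 + 1)) := by
    have e1 : N ^ (r + 1 + 1 + 1 + 1) = N ^ r * ((N * N) * (N * N)) := by
      rw [pow_succ, pow_succ, pow_succ, pow_succ]
      simp only [mul_assoc]
    rw [e1]
    exact divBy_mul_left _ (divBy_mul hN2 hN2)
  have h5 : DivBy ((r + 1 + 1 + 1 + 1) * (r + 1 + 1 + 1 + 1)) T1 := by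
    rw [h2]; exact divBy_neg (divBy_add hSmD hTD)
  intro v
  obtain ⟨w, hw⟩ := h5 v
  have h6 : T1 v = (r + 1 + 1 + 1 + 1) • N v := by
    rw [hT1']
    show N (((r + 1 + 1 + 1 + 1 : ℕ) : AddMonoid.End V) v) = (r + 1 + 1 + 1 + 1) • N v
    rw [AddMonoid.End.natCast_apply, map_nsmul]
  rw [h6] at hw
  exact hdiv (N v) w hw

/-- the subgroup of `v` with `N ^ j v ∈ p V` -/
def Kj (p : ℕ) (N : AddMonoid.End V) (j : ℕ) : AddSubgroup V where
  carrier := {v | ∃ w, (N ^ j) v = p • w}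
  zero_mem' := ⟨0, by rw [map_zero, smul_zero]⟩
  add_mem' := by
    rintro a b ⟨w, hw⟩ ⟨w', hw'⟩
    exact ⟨w + w', by rw [map_add, hw, hw', smul_add]⟩
  neg_mem' := by
    rintro a ⟨w, hw⟩
    exact ⟨-w, by rw [map_neg, hw, smul_neg]⟩

theorem mem_Kj {p : ℕ} {N : AddMonoid.End V} {j : ℕ} {v : V} :
    v ∈ Kj p N j ↔ ∃ w, (N ^ j) v = p • w := Iff.rfl

theorem mem_Kj_succ {p : ℕ} {N : AddMonoid.End V} {j : ℕ} {v : V} :
    v ∈ Kj p N (j + 1) ↔ N v ∈ Kj p N j := by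
  rw [mem_Kj, mem_Kj, pow_succ]
  rfl

theorem Kj_le_succ (p : ℕ) (N : AddMonoid.End V) (j : ℕ) : Kj p N j ≤ Kj p N (j + 1) := by
  intro v hv
  obtain ⟨w, hw⟩ := mem_Kj.mp hv
  refine mem_Kj.mpr ⟨N w, ?_⟩
  rw [pow_succ']
  show N ((N ^ j) v) = p • N w
  rw [hw, map_nsmul]

theorem Kj_stab {p : ℕ} {N : AddMonoid.End V} {j : ℕ} (h : Kj p N (j + 1) = Kj p N j) :
    ∀ i, Kj p N (j + i) = Kj p N j := by
  intro i
  induction i with
  | zero => rfl
  | succ i ih =>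
    ext v
    rw [← add_assoc, mem_Kj_succ, ih, ← mem_Kj_succ, h]

theorem card_step_add [Finite V] {p n : ℕ} (hp : p.Prime) (hV : Nat.card V = p ^ n)
    {A B : AddSubgroup V} (hle : A ≤ B) (hne : A ≠ B) : p * Nat.card A ≤ Nat.card B := by
  have hA : Nat.card A ∣ p ^ n := hV ▸ AddSubgroup.card_addSubgroup_dvd_card A
  have hB : Nat.card B ∣ p ^ n := hV ▸ AddSubgroup.card_addSubgroup_dvd_card B
  obtain ⟨a, -, ha⟩ := (Nat.dvd_prime_pow hp).mp hA
  obtain ⟨b, -, hb⟩ := (Nat.dvd_prime_pow hp).mp hB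
  have hlt : a < b := by
    rcases Nat.lt_or_ge a b with h | h
    · exact h
    · exfalso
      apply hne
      apply AddSubgroup.eq_of_le_of_card_ge hle
      rw [ha, hb]
      exact Nat.pow_le_pow_right hp.pos h
  rw [ha, hb, ← pow_succ']
  exact Nat.pow_le_pow_right hp.pos hlt

/-- `(φ-1)²` is divisible by `p` when `φ ^ p = 1` and `|V : pV| ≤ p²` -/
theorem sq_divBy [Finite V] {p n : ℕ} (hp : p.Prime) (hV : Nat.card V = p ^ n)
    (φ : AddMonoid.End V) (hφ : φ ^ p = 1)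
    (hidx : Nat.card V ≤ p ^ 2 * Nat.card (Kj p (φ - 1) 0)) :
    DivBy p ((φ - 1) * (φ - 1)) := by
  have hNp : DivBy p ((φ - 1) ^ p) := divBy_pow_p hp φ hφ
  obtain ⟨N, hN⟩ : ∃ N, N = φ - 1 := ⟨_, rfl⟩
  rw [← hN] at hidx hNp ⊢
  have htop : Kj p N p = ⊤ := by
    rw [eq_top_iff]
    intro v _
    exact mem_Kj.mpr (hNp v)
  have h2 : Kj p N 2 = ⊤ := by
    by_contra hne
    have h01 : Kj p N 0 ≠ Kj p N 1 := by
      intro h
      have hs := Kj_stab (p := p) (N := N) (j := 0) h.symm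
      have e2 := hs 2
      have ep := hs p
      rw [Nat.zero_add] at e2 ep
      apply hne
      rw [e2, ← ep]
      exact htop
    have h12 : Kj p N 1 ≠ Kj p N 2 := by
      intro h
      have hs := Kj_stab (p := p) (N := N) (j := 1) h.symm
      have e2 := hs 1
      have ep := hs (p - 1)
      have hp1 : 1 + (p - 1) = p := by have := hp.pos; omega
      rw [hp1] at ep
      apply hne
      have e2' : Kj p N 2 = Kj p N 1 := e2
      rw [e2', ← ep]
      exact htop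
    have c1 := card_step_add hp hV (Kj_le_succ p N 0) h01
    have c2 := card_step_add hp hV (Kj_le_succ p N 1) h12
    apply hne
    apply (AddSubgroup.card_eq_iff_eq_top (Kj p N 2)).mp
    apply le_antisymm (AddSubgroup.card_le_card_addGroup (Kj p N 2))
    calc Nat.card V ≤ p ^ 2 * Nat.card (Kj p N 0) := hidx
      _ = p * (p * Nat.card (Kj p N 0)) := by ring
      _ ≤ p * Nat.card (Kj p N (0 + 1)) := Nat.mul_le_mul_left _ c1
      _ ≤ Nat.card (Kj p N (1 + 1)) := c2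
  intro v
  have hv : v ∈ Kj p N 2 := by rw [h2]; exact AddSubgroup.mem_top v
  obtain ⟨w, hw⟩ := mem_Kj.mp hv
  rw [pow_two] at hw
  exact ⟨w, hw⟩

end abstract

section concrete

theorem zmod_decomp (q p : ℕ) [NeZero q] (hp : 0 < p) (a : ZMod q) :
    ∃ (i : ℕ) (c : ZMod q), i < p ∧ a = (i : ZMod q) + p • c := by
  refine ⟨a.val % p, ((a.val / p : ℕ) : ZMod q), Nat.mod_lt _ hp, ?_⟩
  have h := ZMod.natCast_zmod_val a
  have h2 := Nat.mod_add_div a.val p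
  rw [nsmul_eq_mul, ← Nat.cast_mul, ← Nat.cast_add, h2, h]

theorem index_le_sq (q p : ℕ) [NeZero q] (hp : 0 < p) (K : AddSubgroup (ZMod q × ZMod q))
    (hK : ∀ w : ZMod q × ZMod q, p • w ∈ K) : K.index ≤ p ^ 2 := by
  rw [AddSubgroup.index_eq_card]
  obtain ⟨f, hf⟩ : ∃ f : Fin p × Fin p → (ZMod q × ZMod q) ⧸ K, f = fun ij =>
    QuotientAddGroup.mk (((ij.1.val : ℕ) : ZMod q), ((ij.2.val : ℕ) : ZMod q)) := ⟨_, rfl⟩
  have hsurj : Function.Surjective f := by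
    intro x
    obtain ⟨⟨a, b⟩, rfl⟩ := QuotientAddGroup.mk_surjective x
    obtain ⟨i, c, hi, rfl⟩ := zmod_decomp q p hp a
    obtain ⟨j, d, hj, rfl⟩ := zmod_decomp q p hp b
    refine ⟨(⟨i, hi⟩, ⟨j, hj⟩), ?_⟩
    rw [hf]
    show (QuotientAddGroup.mk ((i : ZMod q), (j : ZMod q)) : (ZMod q × ZMod q) ⧸ K) =
      QuotientAddGroup.mk ((i : ZMod q) + p • c, (j : ZMod q) + p • d)
    rw [QuotientAddGroup.eq]
    have e : -((i : ZMod q), (j : ZMod q)) + ((i : ZMod q) + p • c, (j : ZMod q) + p • d) =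
        p • (c, d) := by
      ext <;> simp
    rw [e]
    exact hK _
  have h1 := Nat.card_le_card_of_surjective f hsurj
  rw [Nat.card_prod, Nat.card_fin] at h1
  rw [pow_two]
  exact h1

theorem zmod_div (p k : ℕ) (hp : p.Prime) (hk : 2 ≤ k) (a b : ZMod (p ^ k))
    (h : p • a = (p * p) • b) : ∃ c : ZMod (p ^ k), a = p • c := by
  haveI : NeZero (p ^ k) := ⟨pow_ne_zero k hp.ne_zero⟩
  obtain ⟨i, c, hi, rfl⟩ := zmod_decomp (p ^ k) p hp.pos a
  have h1 : ((p * i : ℕ) : ZMod (p ^ k)) = ((p * p * (b - c).val : ℕ) : ZMod (p ^ k)) := by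
    push_cast
    rw [ZMod.natCast_zmod_val]
    simp only [nsmul_eq_mul] at h
    push_cast at h
    linear_combination h
  have h2 := (ZMod.natCast_eq_natCast_iff _ _ _).mp h1
  have hdvd : p * p ∣ p ^ k := by
    rw [← pow_two]; exact pow_dvd_pow p hk
  have h3 : p * i ≡ p * p * (b - c).val [MOD p * p] := Nat.ModEq.of_dvd hdvd h2
  have h4 : p * p * (b - c).val ≡ 0 [MOD p * p] :=
    (Nat.modEq_zero_iff_dvd).mpr (Dvd.intro _ rfl)
  have h5 : p * p ∣ p * i := (Nat.modEq_zero_iff_dvd).mp (h3.trans h4)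
  have h6 : p ∣ i := Nat.dvd_of_mul_dvd_mul_left hp.pos h5
  have h7 : i = 0 := Nat.eq_zero_of_dvd_of_lt h6 hi
  exact ⟨c, by rw [h7, Nat.cast_zero, zero_add]⟩

end concrete

/-- an automorphism of order dividing `p ≥ 5` of `C_{p^k} × C_{p^k}`, `k ≥ 2`, is trivial
modulo `p`-th powers -/
theorem claim2 {X : Type*} [Group X] {p k : ℕ} (hp : p.Prime) (hp5 : 5 ≤ p) (hk : 2 ≤ k)
    (e : X ≃* Multiplicative (ZMod (p ^ k) × ZMod (p ^ k))) (u : MulAut X) (hu : u ^ p = 1) :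
    ∀ x : X, ∃ w : X, x⁻¹ * u x = w ^ p := by
  haveI : NeZero (p ^ k) := ⟨pow_ne_zero k hp.ne_zero⟩
  obtain ⟨φ, hφdef⟩ : ∃ φ : AddMonoid.End (ZMod (p ^ k) × ZMod (p ^ k)),
      ∀ v, φ v = Multiplicative.toAdd (e (u (e.symm (Multiplicative.ofAdd v)))) := by
    refine ⟨AddMonoidHom.mk'
      (fun v => Multiplicative.toAdd (e (u (e.symm (Multiplicative.ofAdd v))))) ?_, fun v => rfl⟩
    intro a b
    show Multiplicative.toAdd (e (u (e.symm (Multiplicative.ofAdd (a + b))))) =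
      Multiplicative.toAdd (e (u (e.symm (Multiplicative.ofAdd a)))) +
        Multiplicative.toAdd (e (u (e.symm (Multiplicative.ofAdd b))))
    rw [ofAdd_add, map_mul, map_mul, map_mul, toAdd_mul]
  have hφj : ∀ j : ℕ, ∀ v,
      (φ ^ j) v = Multiplicative.toAdd (e ((u ^ j) (e.symm (Multiplicative.ofAdd v)))) := by
    intro j
    induction j with
    | zero =>
      intro v
      rw [pow_zero, pow_zero, AddMonoid.End.one_apply, MulAut.one_apply, MulEquiv.apply_symm_apply,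
        toAdd_ofAdd]
    | succ j ih =>
      intro v
      rw [pow_succ, pow_succ, MulAut.mul_apply]
      show (φ ^ j) (φ v) = _
      rw [ih, hφdef, ofAdd_toAdd, MulEquiv.symm_apply_apply]
  have hφp : φ ^ p = 1 := by
    refine DFunLike.ext _ _ (fun v => ?_)
    rw [hφj, hu, MulAut.one_apply, MulEquiv.apply_symm_apply, toAdd_ofAdd, AddMonoid.End.one_apply]
  have hV : Nat.card (ZMod (p ^ k) × ZMod (p ^ k)) = p ^ (2 * k) := by
    rw [Nat.card_prod, Nat.card_zmod, ← pow_add, two_mul]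
  have hidx : Nat.card (ZMod (p ^ k) × ZMod (p ^ k)) ≤ p ^ 2 * Nat.card (Kj p (φ - 1) 0) := by
    have hi := index_le_sq (p ^ k) p hp.pos (Kj p (φ - 1) 0)
      (fun w => mem_Kj.mpr ⟨w, by rw [pow_zero, AddMonoid.End.one_apply]⟩)
    rw [← AddSubgroup.card_mul_index (Kj p (φ - 1) 0), mul_comm]
    exact Nat.mul_le_mul_right _ hi
  have hN2 := sq_divBy hp hV φ hφp hidx
  have hdiv : ∀ v w : ZMod (p ^ k) × ZMod (p ^ k), p • v = (p * p) • w → ∃ z, v = p • z := by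
    intro v w h
    have h1 : p • v.1 = (p * p) • w.1 := by
      have := congrArg Prod.fst h
      rwa [Prod.smul_fst, Prod.smul_fst] at this
    have h2 : p • v.2 = (p * p) • w.2 := by
      have := congrArg Prod.snd h
      rwa [Prod.smul_snd, Prod.smul_snd] at this
    obtain ⟨c1, hc1⟩ := zmod_div p k hp hk _ _ h1
    obtain ⟨c2, hc2⟩ := zmod_div p k hp hk _ _ h2
    refine ⟨(c1, c2), ?_⟩
    ext
    · rw [Prod.smul_fst]; exact hc1
    · rw [Prod.smul_snd]; exact hc2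
  have hD := divBy_of_sq hp hp5 φ hφp hN2 hdiv
  intro x
  obtain ⟨z, hz⟩ := hD (Multiplicative.toAdd (e x))
  refine ⟨e.symm (Multiplicative.ofAdd z), ?_⟩
  apply e.injective
  rw [map_mul, map_inv, map_pow, MulEquiv.apply_symm_apply]
  have hz' : Multiplicative.toAdd (e (u x)) - Multiplicative.toAdd (e x) = p • z := by
    have h1 : (φ - 1) (Multiplicative.toAdd (e x)) =
        φ (Multiplicative.toAdd (e x)) - Multiplicative.toAdd (e x) := rfl
    rw [h1, hφdef, ofAdd_toAdd, MulEquiv.symm_apply_apply] at hz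
    exact hz
  apply Multiplicative.toAdd.injective
  rw [toAdd_mul, toAdd_inv, toAdd_pow, toAdd_ofAdd, ← hz']
  abel

end Cfsg.Agent.Lib.Helper27.LOP
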