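import Cfsg.Agent.Lib.Helper27.TreeDefs

/-!
# Lower bounds for the order of a group of tables by word-traced Schreier trees

`genGroup n w gens` is generated by table pairs.  A certificate for `N ≤ |genGroup n w gens|` is a chain of levels
`(b, S, E)`: a base point, words `S` in the letters of `gens` (`2 i` = generator `i`, `2 i + 1` = its inverse; the
head is the leftmost factor) that fix all previous base points, and a Schreier tree `E` of the orbit of `b`: entries
`(x, y, k)` say that the new point `x` is the image of the point `y`, visited before, under the word number `k` of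
`S`.  Points are traced through the tables of `gens`: no further table is needed.  The product of the orbit lengths
is a lower bound for the order (`Helper22.SuzOut.count_chain_le`).
-/

set_option autoImplicit false

namespace Cfsg.Agent.Lib.Helper27.LowGen

open Cfsg.Agent.Lib.Helper28.BSGS Cfsg.Agent.Lib.Helper22.SuzOut

/-- the letters of a word are in range -/
def okW (gens : List (ℕ × ℕ)) (cs : List ℕ) : Bool := cs.all (fun c => Nat.blt (c / 2) gens.length)

theorem okW_spec {gens : List (ℕ × ℕ)} {cs : List ℕ} (h : okW gens cs = true) :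
    ∀ c ∈ cs, c / 2 < gens.length :=
  fun c hc => Nat.blt_eq.mp (List.all_eq_true.mp h c hc)

section
variable (n w : ℕ) [NeZero n] (gens : List (ℕ × ℕ))

/-- `y` is the image of the base point `b` under an element of the group that fixes the points `prev` -/
def Good (prev : List ℕ) (b y : ℕ) : Prop :=
  y < n ∧ ∃ u ∈ genGroup n w gens, (u (pt n b)).val = y ∧ ∀ p ∈ prev, u (pt n p) = pt n p

/-- the word `s` fixes the points `prev` -/
def GoodGen (prev : List ℕ) (s : List ℕ) : Prop :=
  okW gens s = true ∧ ∀ p ∈ prev, evalF w gens s p = p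

theorem goodGen_nil (prev : List ℕ) : GoodGen w gens prev [] :=
  ⟨rfl, fun _ _ => rfl⟩

variable {n w gens}

theorem good_step (hg : gensOK n w gens = true) {prev : List ℕ} {b y x : ℕ} {s : List ℕ}
    (hprev : ∀ p ∈ prev, p < n) (hy : Good n w gens prev b y) (hs : GoodGen w gens prev s)
    (hx : evalF w gens s y = x) : Good n w gens prev b x := by
  obtain ⟨_, u, hu, hub, hfix⟩ := hy
  obtain ⟨hs1, hs3⟩ := hs
  have hsp := pathPerm_spec n w gens hg s (okW_spec hs1)
  have hval : (pathPerm n w gens s (u (pt n b))).val = x := by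
    rw [(hsp _).1, hub, hx]
  refine ⟨?_, pathPerm n w gens s * u,
    (genGroup n w gens).mul_mem (pathPerm_mem n w gens s (okW_spec hs1)) hu, ?_, ?_⟩
  · rw [← hval]; exact (pathPerm n w gens s (u (pt n b))).isLt
  · rw [Equiv.Perm.mul_apply]; exact hval
  · intro p hp
    rw [Equiv.Perm.mul_apply, hfix p hp]
    apply Fin.ext
    rw [(hsp _).1, pt_val n (hprev p hp)]
    exact hs3 p hp

end

/-- the walk along the Schreier tree: `vis` is the bit set of the visited points -/
noncomputable def walk (n w : ℕ) (gens : List (ℕ × ℕ)) (S : List (List ℕ)) (E : List (ℕ × ℕ × ℕ)) :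
    ℕ → Bool :=
  List.rec (motive := fun _ => ℕ → Bool) (fun _ => true)
    (fun e _ ih vis => Nat.blt e.1 n && Nat.testBit vis e.2.1 && !(Nat.testBit vis e.1) &&
      Nat.beq (evalF w gens (S.getD e.2.2 []) e.2.1) e.1 && ih (vis ||| 2 ^ e.1)) E

theorem walk_cons (n w : ℕ) (gens : List (ℕ × ℕ)) (S : List (List ℕ)) (e : ℕ × ℕ × ℕ)
    (E : List (ℕ × ℕ × ℕ)) (vis : ℕ) :
    walk n w gens S (e :: E) vis = (Nat.blt e.1 n && Nat.testBit vis e.2.1 && !(Nat.testBit vis e.1) &&
      Nat.beq (evalF w gens (S.getD e.2.2 []) e.2.1) e.1 && walk n w gens S E (vis ||| 2 ^ e.1)) := rfl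

theorem goodGen_getD {w : ℕ} {gens : List (ℕ × ℕ)} {prev : List ℕ} {S : List (List ℕ)}
    (hS : ∀ r ∈ S, GoodGen w gens prev r) (k : ℕ) : GoodGen w gens prev (S.getD k []) := by
  by_cases hk : k < S.length
  · rw [List.getD_eq_getElem _ _ hk]
    exact hS _ (List.getElem_mem hk)
  · rw [List.getD_eq_default _ _ (Nat.le_of_not_lt hk)]
    exact goodGen_nil w gens prev

theorem walk_spec {n w : ℕ} [NeZero n] {gens : List (ℕ × ℕ)} (hg : gensOK n w gens = true)
    {prev : List ℕ} {b : ℕ} {S : List (List ℕ)} (hprev : ∀ p ∈ prev, p < n)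
    (hS : ∀ r ∈ S, GoodGen w gens prev r) :
    ∀ (E : List (ℕ × ℕ × ℕ)) (vis : ℕ), walk n w gens S E vis = true →
      (∀ y, Nat.testBit vis y = true → Good n w gens prev b y) →
      (∀ e ∈ E, Good n w gens prev b e.1) ∧ (E.map (fun e => e.1)).Nodup ∧
        ∀ e ∈ E, Nat.testBit vis e.1 = false := by
  intro E
  induction E with
  | nil =>
    intro vis _ _
    exact ⟨fun e he => absurd he List.not_mem_nil, List.nodup_nil, fun e he => absurd he List.not_mem_nil⟩
  | cons e E ih =>
    intro vis h hvis
    rw [walk_cons, Bool.and_eq_true, Bool.and_eq_true, Bool.and_eq_true, Bool.and_eq_true] at h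
    obtain ⟨⟨⟨⟨_, h2⟩, h3⟩, h4⟩, h5⟩ := h
    have h3' : Nat.testBit vis e.1 = false := by
      cases hb : Nat.testBit vis e.1
      · rfl
      · rw [hb] at h3; exact absurd h3 (by decide)
    have hx : Good n w gens prev b e.1 :=
      good_step hg hprev (hvis _ h2) (goodGen_getD hS e.2.2) (Nat.eq_of_beq_eq_true h4)
    have hvis' : ∀ y, Nat.testBit (vis ||| 2 ^ e.1) y = true → Good n w gens prev b y := by
      intro y hy
      rw [Nat.testBit_or, Bool.or_eq_true] at hy
      rcases hy with hy | hy
      · exact hvis y hy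
      · rw [Nat.testBit_two_pow] at hy
        have : e.1 = y := of_decide_eq_true hy
        rw [← this]; exact hx
    obtain ⟨i1, i2, i3⟩ := ih (vis ||| 2 ^ e.1) h5 hvis'
    refine ⟨?_, ?_, ?_⟩
    · intro e' he'
      rcases List.mem_cons.mp he' with rfl | he'
      · exact hx
      · exact i1 e' he'
    · rw [List.map_cons, List.nodup_cons]
      refine ⟨?_, i2⟩
      intro hmem
      obtain ⟨e', he', hee⟩ := List.mem_map.mp hmem
      have h6 := i3 e' he'
      rw [hee, Nat.testBit_or, Nat.testBit_two_pow_self, Bool.or_true] at h6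
      exact absurd h6 (by decide)
    · intro e' he'
      rcases List.mem_cons.mp he' with rfl | he'
      · exact h3'
      · have h6 := i3 e' he'
        rw [Nat.testBit_or, Bool.or_eq_false_iff] at h6
        exact h6.1

/-- a level: base point, words in the letters of the generators, Schreier tree -/
abbrev Lv := ℕ × List (List ℕ) × List (ℕ × ℕ × ℕ)

/-- the check of one level -/
noncomputable def lvlOK (n w : ℕ) (gens : List (ℕ × ℕ)) (prev : List ℕ) (lv : Lv) : Bool :=
  Nat.blt lv.1 n &&
  lv.2.1.all (fun r => okW gens r && prev.all (fun p => Nat.beq (evalF w gens r p) p)) &&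
  walk n w gens lv.2.1 lv.2.2 (2 ^ lv.1)

/-- the points of the orbit of a level -/
def orbL (lv : Lv) : List ℕ := lv.1 :: lv.2.2.map (fun e => e.1)

theorem lvlOK_spec {n w : ℕ} [NeZero n] {gens : List (ℕ × ℕ)} (hg : gensOK n w gens = true)
    {prev : List ℕ} (hprev : ∀ p ∈ prev, p < n) {lv : Lv} (h : lvlOK n w gens prev lv = true) :
    lv.1 < n ∧ (orbL lv).Nodup ∧ ∀ y ∈ orbL lv, Good n w gens prev lv.1 y := by
  unfold lvlOK at h
  rw [Bool.and_eq_true, Bool.and_eq_true] at h
  obtain ⟨⟨h1, h2⟩, h3⟩ := h
  have hb : lv.1 < n := Nat.blt_eq.mp h1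
  have hS : ∀ r ∈ lv.2.1, GoodGen w gens prev r := by
    intro r hr
    have hr' := List.all_eq_true.mp h2 r hr
    rw [Bool.and_eq_true] at hr'
    exact ⟨hr'.1, fun p hp => Nat.eq_of_beq_eq_true (List.all_eq_true.mp hr'.2 p hp)⟩
  have hgb : Good n w gens prev lv.1 lv.1 :=
    ⟨hb, 1, (genGroup n w gens).one_mem, by rw [Equiv.Perm.one_apply]; exact pt_val n hb,
      fun p _ => Equiv.Perm.one_apply _⟩
  have hvis : ∀ y, Nat.testBit (2 ^ lv.1) y = true → Good n w gens prev lv.1 y := by
    intro y hy
    rw [Nat.testBit_two_pow] at hy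
    have : lv.1 = y := of_decide_eq_true hy
    rw [← this]; exact hgb
  obtain ⟨i1, i2, i3⟩ := walk_spec (b := lv.1) hg hprev hS lv.2.2 (2 ^ lv.1) h3 hvis
  refine ⟨hb, ?_, ?_⟩
  · unfold orbL
    rw [List.nodup_cons]
    refine ⟨?_, i2⟩
    intro hmem
    obtain ⟨e', he', hee⟩ := List.mem_map.mp hmem
    have h6 := i3 e' he'
    rw [hee, Nat.testBit_two_pow_self] at h6
    exact absurd h6 (by decide)
  · intro y hy
    unfold orbL at hy
    rcases List.mem_cons.mp hy with rfl | hy
    · exact hgb
    · obtain ⟨e', he', rfl⟩ := List.mem_map.mp hy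
      exact i1 e' he'

/-- the check of a chain: `prev` = the previous base points -/
noncomputable def chainOK (n w : ℕ) (gens : List (ℕ × ℕ)) : List ℕ → List Lv → Bool
  | _, [] => true
  | prev, lv :: rest => lvlOK n w gens prev lv && chainOK n w gens (lv.1 :: prev) rest

theorem chainOK_nil (n w : ℕ) (gens : List (ℕ × ℕ)) (prev : List ℕ) :
    chainOK n w gens prev [] = true := rfl

theorem chainOK_cons {n w : ℕ} {gens : List (ℕ × ℕ)} {prev : List ℕ} {lv : Lv} {rest : List Lv}
    (h1 : lvlOK n w gens prev lv = true) (h2 : chainOK n w gens (lv.1 :: prev) rest = true) :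
    chainOK n w gens prev (lv :: rest) = true := by
  show (lvlOK n w gens prev lv && chainOK n w gens (lv.1 :: prev) rest) = true
  rw [h1, h2]
  rfl

/-- the product of the orbit lengths -/
def size : List Lv → ℕ
  | [] => 1
  | lv :: rest => (lv.2.2.length + 1) * size rest

/-- the semantic level -/
noncomputable def semL (n w : ℕ) [NeZero n] (gens : List (ℕ × ℕ)) (prev : List ℕ) (lv : Lv) :
    SLevel (Equiv.Perm (Fin n)) (Fin n) where
  b := pt n lv.1
  O := (orbL lv).map (pt n)
  u := fun x => Classical.epsilon fun u => u ∈ genGroup n w gens ∧ u (pt n lv.1) = x ∧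
    ∀ p ∈ prev, u (pt n p) = pt n p
  S' := []

/-- the semantic chain -/
noncomputable def semLs (n w : ℕ) [NeZero n] (gens : List (ℕ × ℕ)) :
    List ℕ → List Lv → List (SLevel (Equiv.Perm (Fin n)) (Fin n))
  | _, [] => []
  | prev, lv :: rest => semL n w gens prev lv :: semLs n w gens (lv.1 :: prev) rest

theorem chainSize_semLs (n w : ℕ) [NeZero n] (gens : List (ℕ × ℕ)) :
    ∀ (levels : List Lv) (prev : List ℕ), chainSize (semLs n w gens prev levels) = size levels := by
  intro levels
  induction levels with
  | nil => intro _; rfl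
  | cons lv rest ih =>
    intro prev
    show ((orbL lv).map (pt n)).length * chainSize (semLs n w gens (lv.1 :: prev) rest) =
      (lv.2.2.length + 1) * size rest
    rw [ih, List.length_map]
    unfold orbL
    rw [List.length_cons, List.length_map]

theorem countChain_L {n w : ℕ} [NeZero n] {gens : List (ℕ × ℕ)} (hg : gensOK n w gens = true) :
    ∀ (levels : List Lv) (prev : List ℕ), (∀ p ∈ prev, p < n) →
      chainOK n w gens prev levels = true →
      CountChain (genGroup n w gens) (prev.map (pt n)) (semLs n w gens prev levels) := by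
  intro levels
  induction levels with
  | nil => intro _ _ _; trivial
  | cons lv rest ih =>
    intro prev hprev h
    have h' : (lvlOK n w gens prev lv && chainOK n w gens (lv.1 :: prev) rest) = true := h
    rw [Bool.and_eq_true] at h'
    obtain ⟨hb, hnd, hgood⟩ := lvlOK_spec hg hprev h'.1
    have hlt : ∀ y ∈ orbL lv, y < n := fun y hy => (hgood y hy).1
    refine ⟨?_, ?_, ?_⟩
    · show ((orbL lv).map (pt n)).Nodup
      apply List.Nodup.map_on _ hnd
      intro x hx y hy hxy
      have := congrArg Fin.val hxy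
      rwa [pt_val n (hlt x hx), pt_val n (hlt y hy)] at this
    · intro x hx
      have hx' : x ∈ (orbL lv).map (pt n) := hx
      obtain ⟨y, hy, rfl⟩ := List.mem_map.mp hx'
      obtain ⟨hy1, u, hu, hub, hfix⟩ := hgood y hy
      have hex : ∃ u, u ∈ genGroup n w gens ∧ u (pt n lv.1) = pt n y ∧
          ∀ p ∈ prev, u (pt n p) = pt n p :=
        ⟨u, hu, Fin.ext (by rw [hub, pt_val n hy1]), hfix⟩
      obtain ⟨c1, c2, c3⟩ := Classical.epsilon_spec hex
      show Classical.epsilon (fun u => u ∈ genGroup n w gens ∧ u (pt n lv.1) = pt n y ∧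
          ∀ p ∈ prev, u (pt n p) = pt n p) ∈ genGroup n w gens ∧
        Classical.epsilon (fun u => u ∈ genGroup n w gens ∧ u (pt n lv.1) = pt n y ∧
          ∀ p ∈ prev, u (pt n p) = pt n p) • pt n lv.1 = pt n y ∧
        ∀ p ∈ prev.map (pt n), Classical.epsilon (fun u => u ∈ genGroup n w gens ∧
          u (pt n lv.1) = pt n y ∧ ∀ p ∈ prev, u (pt n p) = pt n p) • p = p
      refine ⟨c1, c2, ?_⟩
      intro p hp
      obtain ⟨q, hq, rfl⟩ := List.mem_map.mp hp
      exact c3 q hq
    · have hprev' : ∀ p ∈ lv.1 :: prev, p < n := by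
        intro p hp
        rcases List.mem_cons.mp hp with rfl | hp
        · exact hb
        · exact hprev p hp
      exact ih (lv.1 :: prev) hprev' h'.2

/-- THE LOWER BOUND: the product of the orbit lengths of a valid chain -/
theorem card_ge (n w : ℕ) [NeZero n] (gens : List (ℕ × ℕ)) (hg : gensOK n w gens = true)
    (levels : List Lv) (h : chainOK n w gens [] levels = true) :
    size levels ≤ Nat.card (genGroup n w gens) := by
  have hcc : CountChain (genGroup n w gens) ([] : List (Fin n)) (semLs n w gens [] levels) :=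
    countChain_L hg levels [] (fun p hp => absurd hp List.not_mem_nil) h
  have hle := count_chain_le (genGroup n w gens) _ hcc
  rw [chainSize_semLs] at hle
  exact hle

end Cfsg.Agent.Lib.Helper27.LowGen
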