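import Mathlib
import Cfsg.Agent.Lib.Helper16.PCore
import Cfsg.Agent.Lib.Helper17.PResidual
import Cfsg.Agent.Lib.Helper13.Residual

set_option autoImplicit false

/-! Normal subsystems of constrained group fusion systems: pure group theory. -/

namespace Cfsg.Agent.Lib.Helper27.NC

open Cfsg

variable {G : Type*} [Group G]

theorem conj_pow_eq {g x z : G} (hz : Commute g z) (h : g * x * g⁻¹ = x * z) (j : ℕ) :
    g ^ j * x * (g ^ j)⁻¹ = x * z ^ j := by
  induction j with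
  | zero => simp
  | succ j ih =>
    have h1 : g ^ (j + 1) * x * (g ^ (j + 1))⁻¹ = g * (g ^ j * x * (g ^ j)⁻¹) * g⁻¹ := by
      rw [pow_succ']; group
    rw [h1, ih]
    have h2 : g * (x * z ^ j) * g⁻¹ = (g * x * g⁻¹) * (g * z ^ j * g⁻¹) := by group
    rw [h2, h]
    have h3 : g * z ^ j * g⁻¹ = z ^ j := by
      have := (hz.pow_right j).eq
      rw [this, mul_inv_cancel_right]
    rw [h3, pow_succ', mul_assoc]

theorem eq_one_of_pow_coprime {z : G} {m k p : ℕ} (hm : z ^ m = 1) (hk : z ^ p ^ k = 1)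
    (hc : m.Coprime p) : z = 1 := by
  have h3 : orderOf z ∣ Nat.gcd m (p ^ k) :=
    Nat.dvd_gcd (orderOf_dvd_of_pow_eq_one hm) (orderOf_dvd_of_pow_eq_one hk)
  have h4 : Nat.gcd m (p ^ k) = 1 := Nat.Coprime.pow_right k hc
  rw [h4, Nat.dvd_one, orderOf_eq_one_iff] at h3
  exact h3

/-- A `p'`-element (modulo a normal subgroup `N`) which is congruent modulo `N` to a `p`-element
(modulo `N`) lies in `N`. -/
theorem mem_of_coprime_orders (N : Subgroup G) [N.Normal] {η b : G} (hηb : b * η ∈ N) {n k p : ℕ}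
    (hη : η ^ n ∈ N) (hb : b ^ p ^ k ∈ N) (hnk : n.Coprime p) : η ∈ N := by
  have h1 : (QuotientGroup.mk' N) η = ((QuotientGroup.mk' N) b)⁻¹ := by
    rw [eq_inv_iff_mul_eq_one, ← map_mul]
    have h2 : η * b ∈ N := by
      have := (inferInstance : N.Normal).conj_mem _ hηb b⁻¹
      simpa [mul_assoc] using this
    exact (QuotientGroup.eq_one_iff _).mpr h2
  have h3 : ((QuotientGroup.mk' N) η) ^ n = 1 := by
    rw [← map_pow]
    exact (QuotientGroup.eq_one_iff _).mpr hη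
  have h4 : ((QuotientGroup.mk' N) η) ^ p ^ k = 1 := by
    rw [h1, inv_pow, ← map_pow, inv_eq_one]
    exact (QuotientGroup.eq_one_iff _).mpr hb
  have h5 := eq_one_of_pow_coprime h3 h4 hnk
  exact (QuotientGroup.eq_one_iff _).mp h5

/-- The elements of `G` acting trivially on `Q / T0`. -/
def cenMod (Q T0 : Subgroup G) [T0.Normal] : Subgroup G :=
  (Subgroup.centralizer ((Q.map (QuotientGroup.mk' T0) : Subgroup (G ⧸ T0)) : Set (G ⧸ T0))).comap
    (QuotientGroup.mk' T0)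

theorem mem_cenMod_iff {Q T0 : Subgroup G} [hn : T0.Normal] {g : G} :
    g ∈ cenMod Q T0 ↔ ∀ q ∈ Q, q⁻¹ * (g * q * g⁻¹) ∈ T0 := by
  unfold cenMod
  rw [Subgroup.mem_comap, Subgroup.mem_centralizer_iff]
  constructor
  · intro h q hq
    have h1 := h ((QuotientGroup.mk' T0) q) (Subgroup.mem_map_of_mem _ hq)
    rw [← map_mul, ← map_mul] at h1
    have h2 : (q * g)⁻¹ * (g * q) ∈ T0 := QuotientGroup.eq.mp h1
    have h3 := hn.conj_mem _ h2 g
    have h4 : g * ((q * g)⁻¹ * (g * q)) * g⁻¹ = q⁻¹ * (g * q * g⁻¹) := by group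
    rw [h4] at h3
    exact h3
  · rintro h _ ⟨q, hq, rfl⟩
    rw [← map_mul, ← map_mul]
    apply QuotientGroup.eq.mpr
    have h2 := h q hq
    have h3 := hn.conj_mem _ h2 g⁻¹
    have h4 : g⁻¹ * (q⁻¹ * (g * q * g⁻¹)) * g⁻¹⁻¹ = (q * g)⁻¹ * (g * q) := by group
    rw [h4] at h3
    exact h3

instance cenMod_normal (Q T0 : Subgroup G) [T0.Normal] [hQ : Q.Normal] : (cenMod Q T0).Normal := by
  unfold cenMod
  haveI : (Q.map (QuotientGroup.mk' T0)).Normal :=
    hQ.map _ (QuotientGroup.mk'_surjective T0)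
  exact Subgroup.Normal.comap inferInstance _

/-- The elements of `G` acting trivially on `Q / T0` and on `T0`. -/
def kerMod (Q T0 : Subgroup G) [T0.Normal] : Subgroup G :=
  cenMod Q T0 ⊓ Subgroup.centralizer (T0 : Set G)

instance kerMod_normal (Q T0 : Subgroup G) [T0.Normal] [Q.Normal] : (kerMod Q T0).Normal := by
  unfold kerMod
  infer_instance

theorem mem_kerMod_iff {Q T0 : Subgroup G} [T0.Normal] {g : G} :
    g ∈ kerMod Q T0 ↔ (∀ q ∈ Q, q⁻¹ * (g * q * g⁻¹) ∈ T0) ∧ ∀ x ∈ T0, x * g = g * x := by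
  unfold kerMod
  rw [Subgroup.mem_inf, mem_cenMod_iff, Subgroup.mem_centralizer_iff]
  rfl

variable [Finite G] {p : ℕ} [hp : Fact p.Prime]

theorem isPGroup_kerMod {Q T0 : Subgroup G} [T0.Normal] (hQp : IsPGroup p Q) (hT0Q : T0 ≤ Q)
    (hQc : Subgroup.centralizer (Q : Set G) ≤ Q) : IsPGroup p (kerMod Q T0) := by
  rintro ⟨g, hg⟩
  have ho : orderOf g ≠ 0 := (orderOf_pos g).ne'
  obtain ⟨a, m, hm, hom⟩ := Nat.exists_eq_pow_mul_and_not_dvd ho p hp.out.ne_one
  have hmcop : m.Coprime p := ((Nat.Prime.coprime_iff_not_dvd hp.out).mpr hm).symm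
  refine ⟨a, ?_⟩
  apply Subtype.ext
  show g ^ p ^ a = 1
  set g' := g ^ p ^ a with hg'
  have hg'K : g' ∈ kerMod Q T0 := Subgroup.pow_mem _ hg _
  have hg'm : g' ^ m = 1 := by
    rw [hg', ← pow_mul, ← hom, pow_orderOf_eq_one]
  obtain ⟨h1, h2⟩ := mem_kerMod_iff.mp hg'K
  have hcen : g' ∈ Subgroup.centralizer (Q : Set G) := by
    rw [Subgroup.mem_centralizer_iff]
    intro q hq
    have hz := h1 q hq
    set z := q⁻¹ * (g' * q * g'⁻¹) with hzdef
    have hcomm : Commute g' z := (h2 z hz).symm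
    have hconj : g' * q * g'⁻¹ = q * z := by rw [hzdef]; group
    have h3 := conj_pow_eq hcomm hconj m
    rw [hg'm] at h3
    have h4 : z ^ m = 1 := by
      have : q = q * z ^ m := by simpa using h3
      exact (mul_eq_left.mp this.symm)
    obtain ⟨k, hk⟩ := hQp ⟨z, hT0Q hz⟩
    have hk' : z ^ p ^ k = 1 := by
      have := congrArg Subtype.val hk
      simpa using this
    have hz1 : z = 1 := eq_one_of_pow_coprime h4 hk' hmcop
    rw [hz1, mul_one] at hconj
    calc q * g' = (g' * q * g'⁻¹) * g' := by rw [hconj]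
      _ = g' * q := by group
  have hg'Q : g' ∈ Q := hQc hcen
  obtain ⟨k, hk⟩ := hQp ⟨g', hg'Q⟩
  have hk' : g' ^ p ^ k = 1 := by
    have := congrArg Subtype.val hk
    simpa using this
  exact eq_one_of_pow_coprime hg'm hk' hmcop

/-- In a finite group with a normal Sylow `p`-subgroup, every `p`-element lies in it. -/
theorem mem_of_normal_sylow {A : Type*} [Group A] [Finite A] (P : Sylow p A) [hn : (P : Subgroup A).Normal]
    {x : A} {k : ℕ} (hx : x ^ p ^ k = 1) : x ∈ (P : Subgroup A) := by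
  have hz : IsPGroup p (Subgroup.zpowers x) := by
    rintro ⟨y, hy⟩
    obtain ⟨j, rfl⟩ := Subgroup.mem_zpowers_iff.mp hy
    refine ⟨k, Subtype.ext ?_⟩
    show (x ^ j) ^ p ^ k = 1
    rw [← zpow_natCast, ← zpow_mul, mul_comm, zpow_mul, zpow_natCast, hx, one_zpow]
  obtain ⟨P', hP'⟩ := hz.exists_le_sylow
  obtain ⟨g, hg⟩ := MulAction.exists_smul_eq A P' P
  have h1 : x ∈ (P' : Subgroup A) := hP' (Subgroup.mem_zpowers x)
  have h2 : g * x * g⁻¹ ∈ ((g • P' : Sylow p A) : Subgroup A) := by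
    rw [Sylow.coe_subgroup_smul]
    exact Subgroup.smul_mem_pointwise_smul _ (MulAut.conj g) _ h1
  rw [hg] at h2
  have h3 := hn.conj_mem _ h2 g⁻¹
  simpa [mul_assoc] using h3

end Cfsg.Agent.Lib.Helper27.NC
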