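import Cfsg.Agent.Lib.Helper27.NCA
import Cfsg.Agent.Lib.Helper27.EnvC
import Cfsg.Agent.H26.SubgroupNormal
import Cfsg.Agent.H26.HyperfocalGroup2
import Cfsg.Agent.H26.GroupFusionSat

set_option autoImplicit false

/-! Normal subsystems of constrained group fusion systems: the group-level context and the subgroup `H`. -/

namespace Cfsg.Agent.Lib.Helper27.NC

open Cfsg Cfsg.FusionSystem Cfsg.Agent.Lib.Helper27 Cfsg.Agent.H26 Cfsg.Agent.Lib.Helper16

variable {G : Type*} [Group G] [Finite G] {p : ℕ} [hp : Fact p.Prime]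

/-- The group-level context: `T ≤ S` strongly closed, `G` of characteristic `p`. -/
structure Ctx (p : ℕ) [Fact p.Prime] (S : Sylow p G) (T : Subgroup G) : Prop where
  hTS : T ≤ S
  sc : ∀ (g : G) (x : G), x ∈ T → g * x * g⁻¹ ∈ (S : Subgroup G) → g * x * g⁻¹ ∈ T
  hG : Subgroup.centralizer ((pCore p G : Subgroup G) : Set G) ≤ pCore p G

namespace Ctx

variable {S : Sylow p G} {T : Subgroup G}

theorem Q_le_S (_c : Ctx p S T) : pCore p G ≤ (S : Subgroup G) := pCore_le_sylow S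

theorem T0_normal (c : Ctx p S T) : (T ⊓ pCore p G).Normal := by
  refine ⟨fun x hx g => ⟨?_, (Cfsg.pCore_normal p G).conj_mem x hx.2 g⟩⟩
  exact c.sc g x hx.1 (c.Q_le_S ((Cfsg.pCore_normal p G).conj_mem x hx.2 g))

theorem conj_mem_T (c : Ctx p S T) {s x : G} (hs : s ∈ (S : Subgroup G)) (hx : x ∈ T) :
    s * x * s⁻¹ ∈ T :=
  c.sc s x hx (Subgroup.mul_mem _ (Subgroup.mul_mem _ hs (c.hTS hx)) (Subgroup.inv_mem _ hs))

theorem T_le_cenMod (c : Ctx p S T) [(T ⊓ pCore p G).Normal] :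
    T ≤ cenMod (pCore p G) (T ⊓ pCore p G) := by
  intro t ht
  rw [mem_cenMod_iff]
  intro q hq
  refine ⟨?_, ?_⟩
  · -- q⁻¹ (t q t⁻¹) = (q⁻¹ t q) t⁻¹
    have h1 : q⁻¹ * (t * q * t⁻¹) = (q⁻¹ * t * q⁻¹⁻¹) * t⁻¹ := by group
    rw [h1]
    exact T.mul_mem (c.conj_mem_T (Subgroup.inv_mem _ (c.Q_le_S hq)) ht) (T.inv_mem ht)
  · exact Subgroup.mul_mem _ (Subgroup.inv_mem _ hq) ((Cfsg.pCore_normal p G).conj_mem q hq t)

theorem kerMod_le (c : Ctx p S T) [(T ⊓ pCore p G).Normal] :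
    kerMod (pCore p G) (T ⊓ pCore p G) ≤ pCore p G := by
  refine le_pCore _ inferInstance ?_
  exact isPGroup_kerMod pCore_isPGroup inf_le_right c.hG

theorem mem_T0_of_centralizes (c : Ctx p S T) [(T ⊓ pCore p G).Normal] {t : G} (ht : t ∈ T)
    (h : ∀ x ∈ T ⊓ pCore p G, x * t = t * x) : t ∈ T ⊓ pCore p G := by
  refine ⟨ht, c.kerMod_le ?_⟩
  exact ⟨c.T_le_cenMod ht, Subgroup.mem_centralizer_iff.mpr h⟩

end Ctx

variable {S : Sylow p G} {T : Subgroup G}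

/-- The context coming from a normal subsystem. -/
theorem ctx_of_normal {E : FusionSystem T} (hE : E.IsNormalIn (groupFusionSystem (S : Subgroup G)) p)
    (hG : Subgroup.centralizer ((pCore p G : Subgroup G) : Set G) ≤ pCore p G) : Ctx p S T := by
  have hT := hE.1.2.2.2.1
  refine ⟨hT.1, fun g x hx hgx => ?_, hG⟩
  have hR : Subgroup.zpowers x ≤ T := by
    rw [Subgroup.zpowers_le]; exact hx
  have hmem : conjHom (Subgroup.zpowers x) g ∈ (groupFusionSystem (S : Subgroup G)).Hom (Subgroup.zpowers x) := by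
    refine ⟨hR.trans hT.1, ?_, g, fun y => rfl⟩
    rintro ⟨y, hy⟩
    obtain ⟨j, rfl⟩ := Subgroup.mem_zpowers_iff.mp hy
    show g * x ^ j * g⁻¹ ∈ (S : Subgroup G)
    have : g * x ^ j * g⁻¹ = (g * x * g⁻¹) ^ j := by
      rw [conj_zpow]
    rw [this]
    exact Subgroup.zpow_mem _ hgx j
  exact hT.2 _ hR _ hmem ⟨x, Subgroup.mem_zpowers x⟩


/-! ### The subgroups `H1`, `H2` attached to a subsystem -/

/-- The elements of `G` inducing automorphisms of `E` on `T ∩ O_p(G)`. -/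
def H1 (p : ℕ) (E : FusionSystem T) [(T ⊓ pCore p G).Normal] : Subgroup G :=
  (E.autGroup (T ⊓ pCore p G)).comap (MulAut.conjNormal (H := T ⊓ pCore p G))

/-- The elements of `H1` acting trivially on `O_p(G) / (T ∩ O_p(G))`. -/
def H2 (p : ℕ) (E : FusionSystem T) [(T ⊓ pCore p G).Normal] : Subgroup G :=
  H1 p E ⊓ cenMod (pCore p G) (T ⊓ pCore p G)

theorem mem_H1_iff {E : FusionSystem T} [(T ⊓ pCore p G).Normal] {g : G} :
    g ∈ H1 p E ↔ (MulAut.conjNormal g : MulAut ↥(T ⊓ pCore p G)) ∈ E.autGroup (T ⊓ pCore p G) :=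
  Iff.rfl

omit [Finite G] hp in
theorem conjNormal_coe {N : Subgroup G} [N.Normal] (g : G) (x : N) :
    ((MulAut.conjNormal g x : N) : G) = g * x * g⁻¹ := MulAut.conjNormal_apply g x

theorem conjNormal_mem_F (c : Ctx p S T) [(T ⊓ pCore p G).Normal] (g : G) :
    (MulAut.conjNormal g : MulAut ↥(T ⊓ pCore p G)) ∈
      (groupFusionSystem (S : Subgroup G)).autGroup (T ⊓ pCore p G) := by
  have hT0S : T ⊓ pCore p G ≤ (S : Subgroup G) := inf_le_left.trans c.hTS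
  rw [mem_autGroup_iff _ hT0S]
  refine ⟨hT0S, fun x => ?_, g, fun x => ?_⟩
  · exact hT0S (MulAut.conjNormal g x).2
  · exact conjNormal_coe g x

section WithE

variable {E : FusionSystem T} (hE : E.IsNormalIn (groupFusionSystem (S : Subgroup G)) p)

include hE

theorem strongInv_of_normal : StrongInv E (groupFusionSystem (S : Subgroup G)) :=
  (isInvariantIn_iff_strongInv S.isPGroup' hE.1.2.1 hE.1.2.2.1 hE.1.2.2.2.1).mp hE.1.2.2

theorem H1_normal (c : Ctx p S T) [(T ⊓ pCore p G).Normal] : (H1 p E).Normal := by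
  refine ⟨fun h hh g => ?_⟩
  rw [mem_H1_iff] at hh ⊢
  rw [map_mul, map_mul, map_inv]
  exact (strongInv_of_normal hE).conj_mem c.hTS inf_le_left (conjNormal_mem_F c g) hh

theorem H2_normal (c : Ctx p S T) [(T ⊓ pCore p G).Normal] : (H2 p E).Normal := by
  haveI := H1_normal hE c
  unfold H2
  infer_instance

omit hE in
theorem T_le_H1 [(T ⊓ pCore p G).Normal] : T ≤ H1 p E := by
  intro t ht
  rw [mem_H1_iff, mem_autGroup_iff E inf_le_left]
  have h1 := E.conj_mem (P := T ⊓ pCore p G) inf_le_left ht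
  have h2 : (T ⊓ pCore p G).subtype.comp
      ((MulAut.conjNormal t : MulAut ↥(T ⊓ pCore p G)) : ↥(T ⊓ pCore p G) ≃* ↥(T ⊓ pCore p G)).toMonoidHom =
      conjHom (T ⊓ pCore p G) t := by
    ext x
    exact conjNormal_coe t x
  unfold IsIso
  rw [h2]
  exact h1

omit hE in
theorem T_le_H2 (c : Ctx p S T) [(T ⊓ pCore p G).Normal] : T ≤ H2 p E :=
  le_inf T_le_H1 c.T_le_cenMod

theorem weaklyClosed_T0 [hn : (T ⊓ pCore p G).Normal] : E.WeaklyClosed (T ⊓ pCore p G) := by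
  refine ⟨inf_le_left, fun φ hφ => ?_⟩
  obtain ⟨-, -, g, hg⟩ := hE.1.2.2.1 _ hφ
  ext y
  constructor
  · rintro ⟨x, rfl⟩
    rw [hg]
    exact hn.conj_mem _ x.2 g
  · intro hy
    have h1 : g⁻¹ * y * g⁻¹⁻¹ ∈ T ⊓ pCore p G := hn.conj_mem _ hy g⁻¹
    refine ⟨⟨_, h1⟩, ?_⟩
    rw [hg]
    show g * (g⁻¹ * y * g⁻¹⁻¹) * g⁻¹ = y
    group

/-- A `p`-element of `S ∩ H2` is a product of an element of `T` and an element of the kernel. -/
theorem exists_T_mul_kerMod (c : Ctx p S T) [(T ⊓ pCore p G).Normal] {s : G}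
    (hsS : s ∈ (S : Subgroup G)) (hsH : s ∈ H2 p E) :
    ∃ t ∈ T, t⁻¹ * s ∈ kerMod (pCore p G) (T ⊓ pCore p G) := by
  obtain ⟨-, R, hR⟩ := weaklyClosed_isFullyAutomized hE.1.1 (weaklyClosed_T0 hE)
  let ψ : ↥((S : Subgroup G) ⊓ H2 p E) →* E.autGroup (T ⊓ pCore p G) :=
    ((MulAut.conjNormal (H := T ⊓ pCore p G)).comp (Subgroup.subtype _)).codRestrict
      (E.autGroup (T ⊓ pCore p G)) (fun s => s.2.2.1)
  have hAp : IsPGroup p ψ.range :=
    IsPGroup.of_surjective (S.isPGroup'.to_le inf_le_left) ψ.rangeRestrict ψ.rangeRestrict_surjective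
  have hRA : (R : Subgroup (E.autGroup (T ⊓ pCore p G))) ≤ ψ.range := by
    intro α hα
    rw [hR, Subgroup.mem_subgroupOf, mem_autInducedBy_iff] at hα
    obtain ⟨t, ht, h⟩ := hα
    refine ⟨⟨t, c.hTS ht, T_le_H2 c ht⟩, ?_⟩
    apply Subtype.ext
    apply MulEquiv.ext
    intro x
    apply Subtype.ext
    show ((MulAut.conjNormal t x : ↥(T ⊓ pCore p G)) : G) = _
    rw [conjNormal_coe, h]
  have hAR := R.is_maximal' hAp hRA
  have hs : ψ ⟨s, hsS, hsH⟩ ∈ (R : Subgroup (E.autGroup (T ⊓ pCore p G))) := by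
    rw [← hAR]; exact ⟨_, rfl⟩
  rw [hR, Subgroup.mem_subgroupOf, mem_autInducedBy_iff] at hs
  obtain ⟨t, ht, h⟩ := hs
  refine ⟨t, ht, ?_⟩
  refine ⟨Subgroup.mul_mem _ (Subgroup.inv_mem _ (c.T_le_cenMod ht)) hsH.2, ?_⟩
  show t⁻¹ * s ∈ Subgroup.centralizer ((T ⊓ pCore p G : Subgroup G) : Set G)
  rw [Subgroup.mem_centralizer_iff]
  intro x hx
  have h1 := h ⟨x, hx⟩
  have h2 : s * x * s⁻¹ = t * x * t⁻¹ := by
    have : ((ψ ⟨s, hsS, hsH⟩ : MulAut ↥(T ⊓ pCore p G)) ⟨x, hx⟩ : G) = s * x * s⁻¹ :=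
      conjNormal_coe s ⟨x, hx⟩
    rw [← this]
    exact h1
  calc x * (t⁻¹ * s) = t⁻¹ * (t * x * t⁻¹) * s := by group
    _ = t⁻¹ * (s * x * s⁻¹) * s := by rw [h2]
    _ = t⁻¹ * s * x := by group

end WithE

end Cfsg.Agent.Lib.Helper27.NC
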