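import Cfsg.Agent.Lib.Helper27.NCB

set_option autoImplicit false

/-! Normal subsystems of constrained group fusion systems: the subgroup `H = O^p(H2) T`. -/

namespace Cfsg.Agent.Lib.Helper27.NC

open Cfsg Cfsg.FusionSystem Cfsg.Agent.Lib.Helper27 Cfsg.Agent.H26 Cfsg.Agent.Lib.Helper16
open Cfsg.Agent.Lib.Helper17

variable {G : Type*} [Group G] [Finite G] {p : ℕ} [hp : Fact p.Prime]
variable {S : Sylow p G} {T : Subgroup G}

omit [Finite G] hp in
/-- `O^p(N)`, viewed in `G`, is normal in `G` for `N` normal. -/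
theorem pResidual_map_normal (N : Subgroup G) [hN : N.Normal] :
    ((pResidual p ↥N).map N.subtype).Normal := by
  rw [map_subtype_pResidual]
  constructor
  intro n hn g
  induction hn using Subgroup.closure_induction with
  | mem y hy =>
    apply Subgroup.subset_closure
    refine ⟨hN.conj_mem _ hy.1 g, ?_⟩
    have : orderOf (g * y * g⁻¹) = orderOf y := (MulAut.conj g).orderOf_eq y
    rw [this]; exact hy.2
  | one => simp
  | mul a b _ _ iha ihb =>
    have : g * (a * b) * g⁻¹ = (g * a * g⁻¹) * (g * b * g⁻¹) := by group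
    rw [this]; exact Subgroup.mul_mem _ iha ihb
  | inv a _ iha =>
    have : g * a⁻¹ * g⁻¹ = (g * a * g⁻¹)⁻¹ := by group
    rw [this]; exact Subgroup.inv_mem _ iha

omit [Finite G] hp in
theorem mem_pResidual_map_of_coprime {N : Subgroup G} {g : G} (hgN : g ∈ N)
    (hg : (orderOf g).Coprime p) : g ∈ (pResidual p ↥N).map N.subtype := by
  rw [map_subtype_pResidual]
  exact Subgroup.subset_closure ⟨hgN, hg⟩

theorem mem_sylowInf_iff {N : Subgroup G} [N.Normal] {x : ↥N} :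
    x ∈ ((sylowInf S N : Sylow p ↥N) : Subgroup ↥N) ↔ (x : G) ∈ (S : Subgroup G) := by
  rw [coe_sylowInf, Subgroup.mem_subgroupOf]

section WithE

variable {E : FusionSystem T} (hE : E.IsNormalIn (groupFusionSystem (S : Subgroup G)) p)

include hE

/-- The key computation: commutators of `S ∩ H2` with `H2` landing in `S` lie in `T`. -/
theorem comm_mem_T (c : Ctx p S T) [(T ⊓ pCore p G).Normal] {x g : G}
    (hxS : x ∈ (S : Subgroup G)) (hxH : x ∈ H2 p E) (hg : g ∈ H2 p E)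
    (hgx : g * x * g⁻¹ ∈ (S : Subgroup G)) : x⁻¹ * (g * x * g⁻¹) ∈ T := by
  obtain ⟨t, ht, hk⟩ := exists_T_mul_kerMod hE c hxS hxH
  set k := t⁻¹ * x with hkdef
  have hkQ : k ∈ pCore p G := c.kerMod_le hk
  have hkS : k ∈ (S : Subgroup G) := c.Q_le_S hkQ
  have hz : k⁻¹ * (g * k * g⁻¹) ∈ T ⊓ pCore p G := mem_cenMod_iff.mp hg.2 k hkQ
  have hgkS : g * k * g⁻¹ ∈ (S : Subgroup G) := c.Q_le_S ((Cfsg.pCore_normal p G).conj_mem k hkQ g)
  have hgt : g * t * g⁻¹ ∈ T := by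
    refine c.sc g t ht ?_
    have : g * t * g⁻¹ = (g * x * g⁻¹) * (g * k * g⁻¹)⁻¹ := by rw [hkdef]; group
    rw [this]
    exact Subgroup.mul_mem _ hgx (Subgroup.inv_mem _ hgkS)
  have hw : t⁻¹ * (g * t * g⁻¹) ∈ T := T.mul_mem (T.inv_mem ht) hgt
  have hw' : k⁻¹ * (t⁻¹ * (g * t * g⁻¹)) * k⁻¹⁻¹ ∈ T := c.conj_mem_T (Subgroup.inv_mem _ hkS) hw
  have heq : x⁻¹ * (g * x * g⁻¹) =
      (k⁻¹ * (t⁻¹ * (g * t * g⁻¹)) * k⁻¹⁻¹) * (k⁻¹ * (g * k * g⁻¹)) := by
    have hx : x = t * k := by rw [hkdef]; group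
    rw [hx]; group
  rw [heq]
  exact T.mul_mem hw' hz.1

/-- Hyperfocal subgroup theorem applied to `H2`: `S ∩ O^p(H2) ≤ T`. -/
theorem mem_T_of_mem_pResidual (c : Ctx p S T) [(T ⊓ pCore p G).Normal] {y : G}
    (hyS : y ∈ (S : Subgroup G)) (hy : y ∈ (pResidual p ↥(H2 p E)).map (H2 p E).subtype) : y ∈ T := by
  haveI := H2_normal hE c
  obtain ⟨y', hy', rfl⟩ := hy
  have h1 := inf_pResidual_le_hyperfocal (sylowInf S (H2 p E))
  have hmem : y' ∈ ((sylowInf S (H2 p E) : Sylow p ↥(H2 p E)) : Subgroup ↥(H2 p E)) ⊓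
      pResidual p ↥(H2 p E) := by
    exact ⟨mem_sylowInf_iff.mpr hyS, hy'⟩
  have h2 := h1 hmem
  have hle : (groupFusionSystem ((sylowInf S (H2 p E) : Sylow p ↥(H2 p E)) :
      Subgroup ↥(H2 p E))).hyperfocalSubgroup p ≤ T.subgroupOf (H2 p E) := by
    unfold hyperfocalSubgroup
    rw [Subgroup.closure_le]
    rintro z ⟨P, α, x, hP, -, rfl⟩
    have hα := (mem_autGroup_iff _ hP (α : MulAut P)).mp α.2
    obtain ⟨-, -, g, hg⟩ := hα
    have hg' : (((α : MulAut P) x : P) : ↥(H2 p E)) = g * x * g⁻¹ := hg x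
    rw [SetLike.mem_coe, Subgroup.mem_subgroupOf]
    have hxS : ((x : ↥(H2 p E)) : G) ∈ (S : Subgroup G) := mem_sylowInf_iff.mp (hP x.2)
    have hgxS : (g : G) * ((x : ↥(H2 p E)) : G) * (g : G)⁻¹ ∈ (S : Subgroup G) := by
      have h3 := mem_sylowInf_iff.mp (hP ((α : MulAut P) x).2)
      rw [hg'] at h3
      exact h3
    have := comm_mem_T hE c hxS (x : ↥(H2 p E)).2 g.2 hgxS
    rw [hg']
    exact this
  exact Subgroup.mem_subgroupOf.mp (hle h2)

end WithE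

/-- The subgroup `H = O^p(H2) T`. -/
def Hs (p : ℕ) (E : FusionSystem T) [(T ⊓ pCore p G).Normal] : Subgroup G :=
  (pResidual p ↥(H2 p E)).map (H2 p E).subtype ⊔ T

section WithE2

variable {E : FusionSystem T} (hE : E.IsNormalIn (groupFusionSystem (S : Subgroup G)) p)

omit [Finite G] hp in
theorem T_le_Hs [(T ⊓ pCore p G).Normal] : T ≤ Hs p E := le_sup_right

theorem Hs_le_H2 (c : Ctx p S T) [(T ⊓ pCore p G).Normal] : Hs p E ≤ H2 p E :=
  sup_le (Subgroup.map_subtype_le _) (T_le_H2 c)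

omit [Finite G] hp in
theorem mem_Hs_of_coprime [(T ⊓ pCore p G).Normal] {g : G} (hg : g ∈ H2 p E)
    (hgo : (orderOf g).Coprime p) : g ∈ Hs p E :=
  le_sup_left (a := (pResidual p ↥(H2 p E)).map (H2 p E).subtype) (mem_pResidual_map_of_coprime hg hgo)

include hE

theorem mem_Hs_iff (c : Ctx p S T) [(T ⊓ pCore p G).Normal] {h : G} :
    h ∈ Hs p E ↔ ∃ r ∈ (pResidual p ↥(H2 p E)).map (H2 p E).subtype, ∃ t ∈ T, h = r * t := by
  haveI := H2_normal hE c
  haveI := pResidual_map_normal (p := p) (H2 p E)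
  unfold Hs
  rw [Subgroup.mem_sup_of_normal_left]
  constructor
  · rintro ⟨r, hr, t, ht, rfl⟩
    exact ⟨r, hr, t, ht, rfl⟩
  · rintro ⟨r, hr, t, ht, rfl⟩
    exact ⟨r, hr, t, ht, rfl⟩

theorem Hs_inf_S (c : Ctx p S T) [(T ⊓ pCore p G).Normal] : (S : Subgroup G) ⊓ Hs p E = T := by
  apply le_antisymm
  · rintro h ⟨hS, hH⟩
    obtain ⟨r, hr, t, ht, rfl⟩ := (mem_Hs_iff hE c).mp hH
    have hrS : r ∈ (S : Subgroup G) := by
      have : r = (r * t) * t⁻¹ := by group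
      rw [this]
      exact Subgroup.mul_mem _ hS (Subgroup.inv_mem _ (c.hTS ht))
    exact T.mul_mem (mem_T_of_mem_pResidual hE c hrS hr) ht
  · exact le_inf c.hTS T_le_Hs

theorem Hs_normal (c : Ctx p S T) [(T ⊓ pCore p G).Normal] : (Hs p E).Normal := by
  haveI hH2n := H2_normal hE c
  haveI hRn := pResidual_map_normal (p := p) (H2 p E)
  -- conjugates of elements of `T` lie in `Hs`
  have key : ∀ g : G, ∀ t ∈ T, g * t * g⁻¹ ∈ Hs p E := by
    intro g t ht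
    -- the conjugate of `T` by `g` is a `p`-subgroup of `H2`
    have hXle : T.map (MulAut.conj g).toMonoidHom ≤ H2 p E := by
      rintro _ ⟨x, hx, rfl⟩
      exact hH2n.conj_mem _ (T_le_H2 c hx) g
    have hXp : IsPGroup p (T.map (MulAut.conj g).toMonoidHom) :=
      (S.isPGroup'.to_le c.hTS).map _
    obtain ⟨n, hn, hnX⟩ := exists_conj_mem_sylow_of_le_normal (H2 p E) S _ hXle hXp
    have h1 : n * (g * t * g⁻¹) * n⁻¹ ∈ (S : Subgroup G) := hnX _ ⟨t, ht, rfl⟩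
    have h2 : (n * g) * t * (n * g)⁻¹ ∈ T := by
      refine c.sc (n * g) t ht ?_
      have : (n * g) * t * (n * g)⁻¹ = n * (g * t * g⁻¹) * n⁻¹ := by group
      rw [this]; exact h1
    set t' := (n * g) * t * (n * g)⁻¹ with ht'
    have h3 : g * t * g⁻¹ = n⁻¹ * t' * n⁻¹⁻¹ := by rw [ht']; group
    -- decompose `n⁻¹` as a product of an element of `S ∩ H2` and an element of `O^p(H2)`
    have hidx : ¬ p ∣ ((sylowInf S (H2 p E) : Sylow p ↥(H2 p E)) : Subgroup ↥(H2 p E)).index :=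
      (sylowInf S (H2 p E)).not_dvd_index
    obtain ⟨m, hm, u, hu, hmu⟩ := Cfsg.Agent.Lib.Helper13.exists_mul_of_sylow_pResidual p
      ((sylowInf S (H2 p E) : Sylow p ↥(H2 p E)) : Subgroup ↥(H2 p E)) hidx
      (⟨n⁻¹, Subgroup.inv_mem _ hn⟩ : ↥(H2 p E))
    have hmS : (m : G) ∈ (S : Subgroup G) := mem_sylowInf_iff.mp hm
    have huR : (u : G) ∈ (pResidual p ↥(H2 p E)).map (H2 p E).subtype := ⟨u, hu, rfl⟩
    have hn' : n⁻¹ = (m : G) * (u : G) := congrArg Subtype.val hmu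
    rw [h3, hn']
    -- `u t' u⁻¹ = (u t' u⁻¹ t'⁻¹) t'`
    have h4 : (u : G) * t' * (u : G)⁻¹ ∈ Hs p E := by
      have : (u : G) * t' * (u : G)⁻¹ = ((u : G) * (t' * (u : G)⁻¹ * t'⁻¹)) * t' := by group
      rw [this]
      refine Subgroup.mul_mem _ (le_sup_left (b := T) ?_) (T_le_Hs h2)
      exact Subgroup.mul_mem _ huR (hRn.conj_mem _ (Subgroup.inv_mem _ huR) t')
    obtain ⟨r, hr, t'', ht'', h5⟩ := (mem_Hs_iff hE c).mp h4
    have h6 : (m : G) * (u : G) * t' * ((m : G) * (u : G))⁻¹ =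
        ((m : G) * r * (m : G)⁻¹) * ((m : G) * t'' * (m : G)⁻¹) := by
      have : (m : G) * (u : G) * t' * ((m : G) * (u : G))⁻¹ =
          (m : G) * ((u : G) * t' * (u : G)⁻¹) * (m : G)⁻¹ := by group
      rw [this, h5]; group
    rw [h6]
    exact Subgroup.mul_mem _ (le_sup_left (b := T) (hRn.conj_mem _ hr _))
      (T_le_Hs (c.conj_mem_T hmS ht''))
  constructor
  intro h hh g
  obtain ⟨r, hr, t, ht, rfl⟩ := (mem_Hs_iff hE c).mp hh
  have : g * (r * t) * g⁻¹ = (g * r * g⁻¹) * (g * t * g⁻¹) := by group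
  rw [this]
  exact Subgroup.mul_mem _ (le_sup_left (b := T) (hRn.conj_mem _ hr g)) (key g t ht)

theorem Hs_sylow (c : Ctx p S T) [(T ⊓ pCore p G).Normal] :
    ∃ R : Sylow p ↥(Hs p E), (R : Subgroup ↥(Hs p E)) = T.subgroupOf (Hs p E) := by
  haveI := Hs_normal hE c
  refine ⟨sylowInf S (Hs p E), ?_⟩
  rw [coe_sylowInf]
  ext x
  rw [Subgroup.mem_subgroupOf, Subgroup.mem_subgroupOf]
  constructor
  · intro hx
    have : (x : G) ∈ (S : Subgroup G) ⊓ Hs p E := ⟨hx, x.2⟩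
    rw [Hs_inf_S hE c] at this
    exact this
  · intro hx
    exact c.hTS hx

end WithE2

end Cfsg.Agent.Lib.Helper27.NC
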