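import Cfsg.Agent.Lib.Helper27.NCC
import Cfsg.Agent.Lib.Helper27.FusionInduced
import Cfsg.Agent.H26.Hyperfocal

set_option autoImplicit false

/-! Normal subsystems of constrained group fusion systems: `F_T(H) ⊆ E`. -/

namespace Cfsg.Agent.Lib.Helper27.NC

open Cfsg Cfsg.FusionSystem Cfsg.Agent.Lib.Helper27 Cfsg.Agent.H26 Cfsg.Agent.Lib.Helper16
open Cfsg.Agent.Lib.Helper17

variable {G : Type*} [Group G] [Finite G] {p : ℕ} [hp : Fact p.Prime]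
variable {S : Sylow p G} {T : Subgroup G}

section WithE

variable {E : FusionSystem T} (hE : E.IsNormalIn (groupFusionSystem (S : Subgroup G)) p)

include hE

/-- A `p'`-element of `H1` normalizing `R ≤ T` induces an `E`-automorphism of `R`. -/
theorem coprime_conj_mem (c : Ctx p S T) [hn : (T ⊓ pCore p G).Normal] {R : Subgroup G} (hRT : R ≤ T)
    {h : G} (hh : h ∈ H1 p E) (hho : (orderOf h).Coprime p) (hhR : ∀ x ∈ R, h * x * h⁻¹ ∈ R) :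
    conjHom R h ∈ E.Hom R := by
  have hEF := hE.1.2.2.1
  have hR'T : R ⊔ (T ⊓ pCore p G) ≤ T := sup_le hRT inf_le_left
  have hR'S : R ⊔ (T ⊓ pCore p G) ≤ (S : Subgroup G) := hR'T.trans c.hTS
  have hhR' : ∀ y ∈ R ⊔ (T ⊓ pCore p G), h * y * h⁻¹ ∈ R ⊔ (T ⊓ pCore p G) := by
    intro y hy
    obtain ⟨r, hr, z, hz, rfl⟩ := Subgroup.mem_sup_of_normal_right.mp hy
    have : h * (r * z) * h⁻¹ = (h * r * h⁻¹) * (h * z * h⁻¹) := by group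
    rw [this]
    exact Subgroup.mul_mem _ (Subgroup.mem_sup_left (hhR r hr))
      (Subgroup.mem_sup_right (hn.conj_mem z hz h))
  have hhN : h ∈ Subgroup.normalizer ((R ⊔ (T ⊓ pCore p G) : Subgroup G) : Set G) :=
    mem_normalizer_of_conj_mem hhR'
  have hhR'inv : ∀ y ∈ R ⊔ (T ⊓ pCore p G), h⁻¹ * y * h ∈ R ⊔ (T ⊓ pCore p G) := by
    intro y hy
    have := (Subgroup.mem_normalizer_iff.mp (Subgroup.inv_mem _ hhN) y).mp hy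
    simpa using this
  -- the automorphism of `T0` and its extension in `E`
  have hα₀ : IsIso E ((MulAut.conjNormal h : MulAut ↥(T ⊓ pCore p G)) :
      ↥(T ⊓ pCore p G) ≃* ↥(T ⊓ pCore p G)) := (mem_autGroup_iff E inf_le_left _).mp hh
  have hrec := weaklyClosed_isReceptive hE.1.1 (weaklyClosed_T0 hE)
  obtain ⟨ψ, hψ, hψα⟩ := receptive_exists_extension hrec hα₀
  have hle : R ⊔ (T ⊓ pCore p G) ≤ extender T (T ⊓ pCore p G)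
      ((T ⊓ pCore p G).subtype.comp ((MulAut.conjNormal h : MulAut ↥(T ⊓ pCore p G)) :
        ↥(T ⊓ pCore p G) ≃* ↥(T ⊓ pCore p G)).toMonoidHom) := by
    intro y hy
    rw [mem_extender_iff]
    refine ⟨hR'T hy, ?_, h * y * h⁻¹, hR'T (hhR' y hy), fun x hx => ?_⟩
    · rw [Subgroup.mem_normalizer_iff]
      intro x
      refine ⟨fun hx => hn.conj_mem x hx y, fun hx => ?_⟩
      have := hn.conj_mem _ hx y⁻¹
      simpa [mul_assoc] using this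
    · show ((MulAut.conjNormal h ⟨y * x * y⁻¹, hx⟩ : ↥(T ⊓ pCore p G)) : G) =
        h * y * h⁻¹ * ((MulAut.conjNormal h x : ↥(T ⊓ pCore p G)) : G) * (h * y * h⁻¹)⁻¹
      rw [conjNormal_coe, conjNormal_coe]
      group
  have hε := hom_restrict E hle hψ
  obtain ⟨-, -, g, hg⟩ := hEF _ hε
  have hεT : ∀ y : ↥(R ⊔ (T ⊓ pCore p G)), (ψ.comp (Subgroup.inclusion hle)) y ∈ T :=
    (E.le_of_mem hε).2
  -- `g` and `h` agree on `T0`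
  have hgT0 : ∀ x ∈ T ⊓ pCore p G, g * x * g⁻¹ = h * x * h⁻¹ := by
    intro x hx
    have h1 := hg ⟨x, Subgroup.mem_sup_right hx⟩
    have h2 := hψα x hx (hle (Subgroup.mem_sup_right hx))
    rw [← h1]
    show ψ ⟨x, _⟩ = _
    rw [h2]
    exact conjNormal_coe h ⟨x, hx⟩
  -- `k' = g h⁻¹` centralizes `T0`
  have hk'C : ∀ x ∈ T ⊓ pCore p G, (g * h⁻¹) * x * (g * h⁻¹)⁻¹ = x := by
    intro x hx
    have h1 : h⁻¹ * x * h⁻¹⁻¹ ∈ T ⊓ pCore p G := hn.conj_mem x hx h⁻¹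
    have h2 := hgT0 _ h1
    calc (g * h⁻¹) * x * (g * h⁻¹)⁻¹ = g * (h⁻¹ * x * h⁻¹⁻¹) * g⁻¹ := by group
      _ = h * (h⁻¹ * x * h⁻¹⁻¹) * h⁻¹ := h2
      _ = x := by group
  have hk'C' : ∀ x ∈ T ⊓ pCore p G, (g * h⁻¹)⁻¹ * x * (g * h⁻¹) = x := by
    intro x hx
    have := hk'C x hx
    calc (g * h⁻¹)⁻¹ * x * (g * h⁻¹) = (g * h⁻¹)⁻¹ * ((g * h⁻¹) * x * (g * h⁻¹)⁻¹) * (g * h⁻¹) := by
          rw [this]
      _ = x := by group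
  -- commutators with `k'` landing in `T` lie in `T0`
  have claim2 : ∀ y ∈ R ⊔ (T ⊓ pCore p G), (g * h⁻¹) * y * (g * h⁻¹)⁻¹ ∈ T →
      y⁻¹ * ((g * h⁻¹) * y * (g * h⁻¹)⁻¹) ∈ T ⊓ pCore p G := by
    intro y hy hyT
    refine c.mem_T0_of_centralizes (T.mul_mem (T.inv_mem (hR'T hy)) hyT) (fun x hx => ?_)
    have h1 := hk'C' x hx
    have h2 := hk'C _ (hn.conj_mem x hx y)
    calc x * (y⁻¹ * ((g * h⁻¹) * y * (g * h⁻¹)⁻¹))
        = y⁻¹ * (y * x * y⁻¹) * ((g * h⁻¹) * y * (g * h⁻¹)⁻¹) := by group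
      _ = y⁻¹ * ((g * h⁻¹) * (y * x * y⁻¹) * (g * h⁻¹)⁻¹) * ((g * h⁻¹) * y * (g * h⁻¹)⁻¹) := by
          rw [h2]
      _ = y⁻¹ * (g * h⁻¹) * y * (x * (g * h⁻¹)⁻¹) := by group
      _ = y⁻¹ * (g * h⁻¹) * y * ((g * h⁻¹)⁻¹ * x) := by
          have h3 : x * (g * h⁻¹)⁻¹ = (g * h⁻¹)⁻¹ * x := by
            calc x * (g * h⁻¹)⁻¹ = ((g * h⁻¹)⁻¹ * x * (g * h⁻¹)) * (g * h⁻¹)⁻¹ := by rw [h1]
              _ = (g * h⁻¹)⁻¹ * x := by group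
          rw [h3]
      _ = y⁻¹ * ((g * h⁻¹) * y * (g * h⁻¹)⁻¹) * x := by group
  have claim3 : ∀ y ∈ R ⊔ (T ⊓ pCore p G),
      y⁻¹ * ((g * h⁻¹) * y * (g * h⁻¹)⁻¹) ∈ T ⊓ pCore p G := by
    intro y hy
    refine claim2 y hy ?_
    have h1 := hεT ⟨h⁻¹ * y * h, hhR'inv y hy⟩
    have h2 := hg ⟨h⁻¹ * y * h, hhR'inv y hy⟩
    rw [h2] at h1
    have h3 : g * (h⁻¹ * y * h) * g⁻¹ = (g * h⁻¹) * y * (g * h⁻¹)⁻¹ := by group
    rw [← h3]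
    exact h1
  have claim4 : ∀ y ∈ R ⊔ (T ⊓ pCore p G), (g * h⁻¹) * y * (g * h⁻¹)⁻¹ ∈ R ⊔ (T ⊓ pCore p G) := by
    intro y hy
    have h1 := claim3 y hy
    have h2 : (g * h⁻¹) * y * (g * h⁻¹)⁻¹ = y * (y⁻¹ * ((g * h⁻¹) * y * (g * h⁻¹)⁻¹)) := by group
    rw [h2]
    exact Subgroup.mul_mem _ hy (Subgroup.mem_sup_right h1)
  -- the ambient group: the normalizer of `R'`
  have hk'N : g * h⁻¹ ∈ normalizerIn (⊤ : Subgroup G) (R ⊔ (T ⊓ pCore p G)) :=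
    ⟨trivial, mem_normalizer_of_conj_mem claim4⟩
  have hhN' : h ∈ normalizerIn (⊤ : Subgroup G) (R ⊔ (T ⊓ pCore p G)) := ⟨trivial, hhN⟩
  have hθF : ∀ a : ↥(normalizerIn (⊤ : Subgroup G) (R ⊔ (T ⊓ pCore p G))),
      conjAutHom ⊤ (R ⊔ (T ⊓ pCore p G)) a ∈
        (groupFusionSystem (S : Subgroup G)).autGroup (R ⊔ (T ⊓ pCore p G)) := by
    intro a
    rw [mem_autGroup_iff _ hR'S]
    exact ⟨hR'S, fun x => hR'S (conjAutHom ⊤ _ a x).2, (a : G), fun x => conjAutHom_apply _ _ a x⟩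
  haveI hNn : ((E.autGroup (R ⊔ (T ⊓ pCore p G))).comap
      (conjAutHom ⊤ (R ⊔ (T ⊓ pCore p G)))).Normal := by
    refine ⟨fun n hn' a => ?_⟩
    rw [Subgroup.mem_comap] at hn' ⊢
    rw [map_mul, map_mul, map_inv]
    exact (strongInv_of_normal hE).conj_mem c.hTS hR'T (hθF a) hn'
  -- the three hypotheses
  have h1 : (⟨g * h⁻¹, hk'N⟩ : ↥(normalizerIn (⊤ : Subgroup G) (R ⊔ (T ⊓ pCore p G)))) * ⟨h, hhN'⟩ ∈
      (E.autGroup (R ⊔ (T ⊓ pCore p G))).comap (conjAutHom ⊤ (R ⊔ (T ⊓ pCore p G))) := by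
    rw [Subgroup.mem_comap, mem_autGroup_iff E hR'T]
    unfold IsIso
    have : (R ⊔ (T ⊓ pCore p G)).subtype.comp
        ((conjAutHom ⊤ (R ⊔ (T ⊓ pCore p G)) (⟨g * h⁻¹, hk'N⟩ * ⟨h, hhN'⟩) :
          MulAut ↥(R ⊔ (T ⊓ pCore p G))) : ↥(R ⊔ (T ⊓ pCore p G)) ≃* ↥(R ⊔ (T ⊓ pCore p G))).toMonoidHom =
        ψ.comp (Subgroup.inclusion hle) := by
      ext y
      rw [hg y]
      show ((conjAutHom ⊤ (R ⊔ (T ⊓ pCore p G)) (⟨g * h⁻¹, hk'N⟩ * ⟨h, hhN'⟩) y :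
        ↥(R ⊔ (T ⊓ pCore p G))) : G) = _
      rw [conjAutHom_apply]
      show (g * h⁻¹ * h) * (y : G) * (g * h⁻¹ * h)⁻¹ = _
      group
    rw [this]
    exact hε
  have h2 : (⟨h, hhN'⟩ : ↥(normalizerIn (⊤ : Subgroup G) (R ⊔ (T ⊓ pCore p G)))) ^ orderOf h ∈
      (E.autGroup (R ⊔ (T ⊓ pCore p G))).comap (conjAutHom ⊤ (R ⊔ (T ⊓ pCore p G))) := by
    have : (⟨h, hhN'⟩ : ↥(normalizerIn (⊤ : Subgroup G) (R ⊔ (T ⊓ pCore p G)))) ^ orderOf h = 1 := by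
      apply Subtype.ext
      show h ^ orderOf h = 1
      exact pow_orderOf_eq_one h
    rw [this]
    exact Subgroup.one_mem _
  obtain ⟨k, hk⟩ := (S.isPGroup'.to_le (inf_le_left.trans c.hTS) :
    IsPGroup p ↥(T ⊓ pCore p G)).exists_card_eq
  have h3 : (⟨g * h⁻¹, hk'N⟩ : ↥(normalizerIn (⊤ : Subgroup G) (R ⊔ (T ⊓ pCore p G)))) ^ p ^ k ∈
      (E.autGroup (R ⊔ (T ⊓ pCore p G))).comap (conjAutHom ⊤ (R ⊔ (T ⊓ pCore p G))) := by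
    rw [Subgroup.mem_comap]
    have : conjAutHom ⊤ (R ⊔ (T ⊓ pCore p G)) (⟨g * h⁻¹, hk'N⟩ ^ p ^ k) = 1 := by
      apply MulEquiv.ext
      intro y
      apply Subtype.ext
      rw [conjAutHom_apply]
      show (g * h⁻¹) ^ p ^ k * (y : G) * ((g * h⁻¹) ^ p ^ k)⁻¹ = y
      have hz := claim3 y y.2
      have hcomm : Commute (g * h⁻¹) ((y : G)⁻¹ * ((g * h⁻¹) * y * (g * h⁻¹)⁻¹)) := by
        have := hk'C _ hz
        unfold Commute SemiconjBy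
        calc (g * h⁻¹) * ((y : G)⁻¹ * ((g * h⁻¹) * y * (g * h⁻¹)⁻¹))
            = ((g * h⁻¹) * ((y : G)⁻¹ * ((g * h⁻¹) * y * (g * h⁻¹)⁻¹)) * (g * h⁻¹)⁻¹) * (g * h⁻¹) := by
              group
          _ = ((y : G)⁻¹ * ((g * h⁻¹) * y * (g * h⁻¹)⁻¹)) * (g * h⁻¹) := by rw [this]
      have hconj : (g * h⁻¹) * (y : G) * (g * h⁻¹)⁻¹ =
          (y : G) * ((y : G)⁻¹ * ((g * h⁻¹) * y * (g * h⁻¹)⁻¹)) := by group
      rw [conj_pow_eq hcomm hconj (p ^ k)]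
      have hz1 : ((y : G)⁻¹ * ((g * h⁻¹) * y * (g * h⁻¹)⁻¹)) ^ p ^ k = 1 := by
        have h4 : (⟨_, hz⟩ : ↥(T ⊓ pCore p G)) ^ Nat.card ↥(T ⊓ pCore p G) = 1 := pow_card_eq_one'
        rw [hk] at h4
        exact congrArg Subtype.val h4
      rw [hz1, mul_one]
    rw [this]
    exact Subgroup.one_mem _
  have h4 := mem_of_coprime_orders _ h1 h2 h3 hho
  rw [Subgroup.mem_comap, mem_autGroup_iff E hR'T] at h4
  have h5 := hom_restrict E (le_sup_left : R ≤ R ⊔ (T ⊓ pCore p G)) h4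
  have h6 : ((R ⊔ (T ⊓ pCore p G)).subtype.comp
      ((conjAutHom ⊤ (R ⊔ (T ⊓ pCore p G)) ⟨h, hhN'⟩ : MulAut ↥(R ⊔ (T ⊓ pCore p G))) :
        ↥(R ⊔ (T ⊓ pCore p G)) ≃* ↥(R ⊔ (T ⊓ pCore p G))).toMonoidHom).comp
      (Subgroup.inclusion (le_sup_left : R ≤ R ⊔ (T ⊓ pCore p G))) = conjHom R h := by
    ext y
    rfl
  rw [h6] at h5
  exact h5

end WithE

end Cfsg.Agent.Lib.Helper27.NC
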