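import Cfsg.Agent.Lib.Helper27.NCD

set_option autoImplicit false

/-! Normal subsystems of constrained group fusion systems: `F_T(H) = E`. -/

namespace Cfsg.Agent.Lib.Helper27.NC

open Cfsg Cfsg.FusionSystem Cfsg.Agent.Lib.Helper27 Cfsg.Agent.H26 Cfsg.Agent.Lib.Helper16
open Cfsg.Agent.Lib.Helper17

variable {G : Type*} [Group G] [Finite G] {p : ℕ} [hp : Fact p.Prime]
variable {S : Sylow p G} {T : Subgroup G}

section WithE

variable {E : FusionSystem T} (hE : E.IsNormalIn (groupFusionSystem (S : Subgroup G)) p)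

include hE

theorem Es_normal (c : Ctx p S T) [(T ⊓ pCore p G).Normal] :
    (fusionSystemOfSubgroup (Hs p E) T T_le_Hs).IsNormalIn (groupFusionSystem (S : Subgroup G)) p := by
  haveI := Hs_normal hE c
  have h := fusionSystemOfSubgroup_isNormalIn S (Hs p E)
  refine isNormalIn_congr (Hs_inf_S hE c) _ _ (fun P => ?_) h
  ext φ
  show (P ≤ (S : Subgroup G) ⊓ Hs p E ∧ (∀ x : P, φ x ∈ (S : Subgroup G) ⊓ Hs p E) ∧
      ∃ g ∈ Hs p E, ∀ x : P, φ x = g * (x : G) * g⁻¹) ↔
    (P ≤ T ∧ (∀ x : P, φ x ∈ T) ∧ ∃ g ∈ Hs p E, ∀ x : P, φ x = g * (x : G) * g⁻¹)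
  rw [Hs_inf_S hE c]

/-- A saturated system on `T` whose automorphisms are induced by elements of `Hs` lies in `E`. -/
theorem le_of_conj (c : Ctx p S T) [(T ⊓ pCore p G).Normal] (E' : FusionSystem T)
    (hE'sat : E'.IsSaturated p)
    (hconj : ∀ R : Subgroup G, R ≤ T → ∀ α : MulAut R, α ∈ E'.autGroup R →
      ∃ h ∈ Hs p E, ∀ x : R, ((α x : R) : G) = h * x * h⁻¹) :
    ∀ P : Subgroup G, E'.Hom P ⊆ E.Hom P := by
  have hTp : IsPGroup p T := S.isPGroup'.to_le c.hTS
  have key : ∀ R : Subgroup G, R ≤ T → E'.IsFullyNormalized R →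
      ∀ α : R ≃* R, IsIso E' α → IsIso E α := by
    intro R hRT hfn α hα
    obtain ⟨⟨-, Rs, hRs⟩, -, -⟩ := fa_receptive_of_fullyNormalized hTp hE'sat hfn
    have hαmem : (α : MulAut R) ∈ E'.autGroup R := (mem_autGroup_iff _ hRT α).mpr hα
    haveI : Finite (MulAut R) := inferInstance
    have hidx : ¬ p ∣ (Rs : Subgroup ↥(E'.autGroup R)).index := Rs.not_dvd_index
    obtain ⟨m, hm, u, hu, hmu⟩ := Cfsg.Agent.Lib.Helper13.exists_mul_of_sylow_pResidual p
      (Rs : Subgroup ↥(E'.autGroup R)) hidx (⟨α, hαmem⟩ : ↥(E'.autGroup R))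
    have hmE : (m : MulAut R) ∈ E.autGroup R := by
      rw [hRs, Subgroup.mem_subgroupOf] at hm
      exact autInducedBy_le_autGroup E hRT hm
    have huE : ∀ u ∈ pResidual p ↥(E'.autGroup R), (u : MulAut R) ∈ E.autGroup R := by
      intro u hu
      unfold pResidual at hu
      induction hu using Subgroup.closure_induction with
      | mem η hη =>
        rw [Set.mem_ofPred_eq] at hη
        obtain ⟨h₀, hh₀H, hh₀'⟩ := hconj R hRT (η : MulAut R) η.2
        obtain ⟨k, hk1, hk2⟩ := exists_pow_coprime p h₀ η hη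
        have hpow : ∀ n : ℕ, ∀ x : R, ((((η : MulAut R) ^ n) x : R) : G) = h₀ ^ n * x * (h₀ ^ n)⁻¹ := by
          intro n
          induction n with
          | zero => intro x; simp
          | succ n ih =>
            intro x
            rw [pow_succ, MulAut.mul_apply, ih, hh₀', pow_succ]
            group
        have hk1' : (η : MulAut R) ^ k = (η : MulAut R) := by
          have := congrArg (fun z : ↥(E'.autGroup R) => (z : MulAut R)) hk1
          simpa using this
        have hhR : ∀ x ∈ R, h₀ ^ k * x * (h₀ ^ k)⁻¹ ∈ R := by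
          intro x hx
          rw [← hpow k ⟨x, hx⟩]
          exact (((η : MulAut R) ^ k) ⟨x, hx⟩).2
        have hhH1 : h₀ ^ k ∈ H1 p E := (Hs_le_H2 c (Subgroup.pow_mem _ hh₀H k)).1
        have h1 := coprime_conj_mem hE c hRT hhH1 hk2 hhR
        rw [mem_autGroup_iff E hRT]
        unfold IsIso
        have h2 : R.subtype.comp ((η : MulAut R) : R ≃* R).toMonoidHom = conjHom R (h₀ ^ k) := by
          ext x
          show (((η : MulAut R) x : R) : G) = h₀ ^ k * x * (h₀ ^ k)⁻¹
          rw [← hpow k x, hk1']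
        rw [h2]
        exact h1
      | one => exact Subgroup.one_mem _
      | mul a b _ _ ha hb => exact Subgroup.mul_mem _ ha hb
      | inv a _ ha => exact Subgroup.inv_mem _ ha
    have h3 : (α : MulAut R) = (m : MulAut R) * (u : MulAut R) := by
      have := congrArg (fun z : ↥(E'.autGroup R) => (z : MulAut R)) hmu
      simpa using this
    have h4 : (α : MulAut R) ∈ E.autGroup R := by
      rw [h3]
      exact Subgroup.mul_mem _ hmE (huE u hu)
    exact (mem_autGroup_iff E hRT α).mp h4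
  exact alperin hTp hE'sat E
    (fun α hα => key T le_rfl (isFullyNormalized_top _) α hα)
    (fun R hR hfn _ _ α hα => key R hR.le hfn α hα)

/-- `F_T(H) ⊆ E`. -/
theorem Es_le (c : Ctx p S T) [(T ⊓ pCore p G).Normal] :
    ∀ P : Subgroup G, (fusionSystemOfSubgroup (Hs p E) T T_le_Hs).Hom P ⊆ E.Hom P := by
  refine le_of_conj hE c _ (Es_normal hE c).1.1 (fun R hRT α hα => ?_)
  have hαiso := (mem_autGroup_iff _ hRT α).mp hα
  obtain ⟨-, -, h₀, hh₀H, hh₀⟩ := hαiso
  exact ⟨h₀, hh₀H, fun x => hh₀ x⟩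

end WithE

end Cfsg.Agent.Lib.Helper27.NC
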