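import Cfsg.Agent.Lib.Helper27.NCE

set_option autoImplicit false

/-! Normal subsystems of constrained group fusion systems: `E ⊆ F_T(H)` and existence. -/

namespace Cfsg.Agent.Lib.Helper27.NC

open Cfsg Cfsg.FusionSystem Cfsg.Agent.Lib.Helper27 Cfsg.Agent.H26 Cfsg.Agent.Lib.Helper16
open Cfsg.Agent.Lib.Helper17

variable {G : Type*} [Group G] [Finite G] {p : ℕ} [hp : Fact p.Prime]
variable {S : Sylow p G} {T : Subgroup G}

omit [Finite G] hp in
/-- Powers of an element satisfying the extension condition satisfy it. -/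
theorem pow_cond {T C : Subgroup G} {g : G} (hgN : g ∈ Subgroup.normalizer (T : Set G))
    (hc : ∀ c ∈ C, c⁻¹ * (g * c * g⁻¹) ∈ T ⊓ Subgroup.centralizer (T : Set G)) (n : ℕ) :
    ∀ c ∈ C, c⁻¹ * (g ^ n * c * (g ^ n)⁻¹) ∈ T ⊓ Subgroup.centralizer (T : Set G) := by
  have hZ : ∀ z ∈ T ⊓ Subgroup.centralizer (T : Set G),
      g * z * g⁻¹ ∈ T ⊓ Subgroup.centralizer (T : Set G) := by
    intro z hz
    refine ⟨(Subgroup.mem_normalizer_iff.mp hgN z).mp hz.1, ?_⟩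
    show g * z * g⁻¹ ∈ Subgroup.centralizer (T : Set G)
    rw [Subgroup.mem_centralizer_iff]
    intro t ht
    have ht' : g⁻¹ * t * g⁻¹⁻¹ ∈ T := (Subgroup.mem_normalizer_iff.mp (Subgroup.inv_mem _ hgN) t).mp ht
    have h1 := (Subgroup.mem_centralizer_iff.mp hz.2) _ ht'
    calc t * (g * z * g⁻¹) = g * ((g⁻¹ * t * g⁻¹⁻¹) * z) * g⁻¹ := by group
      _ = g * (z * (g⁻¹ * t * g⁻¹⁻¹)) * g⁻¹ := by rw [h1]
      _ = g * z * g⁻¹ * t := by group
  induction n with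
  | zero =>
    intro c _
    simp
  | succ n ih =>
    intro c hcC
    have h1 := ih c hcC
    have h2 := hc c hcC
    have h3 := hZ _ h1
    have : c⁻¹ * (g ^ (n + 1) * c * (g ^ (n + 1))⁻¹) =
        (c⁻¹ * (g * c * g⁻¹)) * (g * (c⁻¹ * (g ^ n * c * (g ^ n)⁻¹)) * g⁻¹) := by
      rw [pow_succ']; group
    rw [this]
    exact Subgroup.mul_mem _ h2 h3

section WithE

variable {E : FusionSystem T} (hE : E.IsNormalIn (groupFusionSystem (S : Subgroup G)) p)

include hE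

/-- A `p'`-element of `N_G(T)` inducing an `E`-automorphism on `T` and satisfying the extension
condition acts trivially on `O_p(G) / (T ∩ O_p(G))`. -/
theorem mem_cenMod_of_cond (c : Ctx p S T) [hn : (T ⊓ pCore p G).Normal] {g : G}
    (hgo : (orderOf g).Coprime p) (hgN : g ∈ Subgroup.normalizer (T : Set G))
    (η : MulAut T) (hη : η ∈ E.autGroup T) (hgη : ∀ x : T, ((η x : T) : G) = g * x * g⁻¹)
    (hc : ∀ x ∈ centralizerIn (S : Subgroup G) T,
      x⁻¹ * (g * x * g⁻¹) ∈ T ⊓ Subgroup.centralizer (T : Set G)) :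
    g ∈ cenMod (pCore p G) (T ⊓ pCore p G) := by
  have hTp : IsPGroup p T := S.isPGroup'.to_le c.hTS
  rw [mem_cenMod_iff]
  intro q hq
  have hqS : q ∈ (S : Subgroup G) := c.Q_le_S hq
  set y := q⁻¹ * (g * q * g⁻¹) with hy
  have hyQ : y ∈ pCore p G :=
    Subgroup.mul_mem _ (Subgroup.inv_mem _ hq) ((Cfsg.pCore_normal p G).conj_mem q hq g)
  have hyS : y ∈ (S : Subgroup G) := c.Q_le_S hyQ
  -- normalizer facts
  have hSN : ∀ s ∈ (S : Subgroup G), s ∈ normalizerIn (S : Subgroup G) T := by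
    intro s hs
    exact ⟨hs, mem_normalizer_of_conj_mem (fun x hx => c.conj_mem_T hs hx)⟩
  -- the automorphisms
  have hγF : conjAutHom (S : Subgroup G) T ⟨q, hSN q hqS⟩ ∈
      (groupFusionSystem (S : Subgroup G)).autGroup T := by
    refine autInducedBy_le_autGroup _ c.hTS ?_
    rw [← conjAutHom_range]
    exact ⟨_, rfl⟩
  have hδE : conjAutHom (S : Subgroup G) T ⟨y, hSN y hyS⟩ ∈ E.autGroup T := by
    have h1 := (strongInv_of_normal hE).conj_mem c.hTS le_rfl (Subgroup.inv_mem _ hγF) hη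
    have h2 := Subgroup.mul_mem _ h1 (Subgroup.inv_mem _ hη)
    have h3 : conjAutHom (S : Subgroup G) T ⟨y, hSN y hyS⟩ =
        (conjAutHom (S : Subgroup G) T ⟨q, hSN q hqS⟩)⁻¹ * η *
          (conjAutHom (S : Subgroup G) T ⟨q, hSN q hqS⟩)⁻¹⁻¹ * η⁻¹ := by
      apply MulEquiv.ext
      intro x
      apply Subtype.ext
      rw [conjAutHom_apply, inv_inv]
      simp only [MulAut.mul_apply]
      -- compute from the inside
      have e1 : ((η⁻¹ x : T) : G) = g⁻¹ * x * g := by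
        have := hgη (η⁻¹ x)
        rw [MulAut.apply_inv_self] at this
        rw [this]; group
      have e2 : ∀ z : T, (((conjAutHom (S : Subgroup G) T ⟨q, hSN q hqS⟩)⁻¹ z : T) : G) =
          q⁻¹ * z * q := by
        intro z
        have := conjAutHom_apply (S : Subgroup G) T ⟨q, hSN q hqS⟩
          ((conjAutHom (S : Subgroup G) T ⟨q, hSN q hqS⟩)⁻¹ z)
        rw [MulAut.apply_inv_self] at this
        rw [this]
        show _ = q⁻¹ * (q * _ * q⁻¹) * q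
        group
      rw [e2, hgη, conjAutHom_apply, e1]
      show y * (x : G) * y⁻¹ = _
      rw [hy]
      group
    rw [h3]
    exact h2
  -- `T` fully automized in `E`
  obtain ⟨⟨-, Rs, hRs⟩, -, -⟩ := fa_receptive_of_fullyNormalized hTp hE.1.1 (isFullyNormalized_top E)
  haveI : Finite (MulAut T) := inferInstance
  haveI hRsn : (Rs : Subgroup ↥(E.autGroup T)).Normal := by
    refine ⟨fun n hn' a => ?_⟩
    rw [hRs, Subgroup.mem_subgroupOf, mem_autInducedBy_iff] at hn' ⊢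
    obtain ⟨t, ht, h⟩ := hn'
    refine ⟨((a : MulAut T) ⟨t, ht⟩ : T), ((a : MulAut T) ⟨t, ht⟩ : T).2, fun x => ?_⟩
    have h1 : (n : MulAut T) ((a : MulAut T)⁻¹ x) = ⟨t, ht⟩ * ((a : MulAut T)⁻¹ x) * ⟨t, ht⟩⁻¹ := by
      apply Subtype.ext
      rw [h]
      rfl
    show (((a : MulAut T) ((n : MulAut T) ((a : MulAut T)⁻¹ x)) : T) : G) = _
    rw [h1, map_mul, map_mul, map_inv, MulAut.apply_inv_self]
    rfl
  obtain ⟨j, hj⟩ := (pCore_isPGroup (G := G) (p := p)) ⟨y, hyQ⟩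
  have hyj : y ^ p ^ j = 1 := by
    have := congrArg Subtype.val hj
    simpa using this
  have hδpow : (⟨conjAutHom (S : Subgroup G) T ⟨y, hSN y hyS⟩, hδE⟩ : ↥(E.autGroup T)) ^ p ^ j = 1 := by
    apply Subtype.ext
    show (conjAutHom (S : Subgroup G) T ⟨y, hSN y hyS⟩) ^ p ^ j = 1
    rw [← map_pow]
    have : (⟨y, hSN y hyS⟩ : ↥(normalizerIn (S : Subgroup G) T)) ^ p ^ j = 1 := by
      apply Subtype.ext
      show y ^ p ^ j = 1
      exact hyj
    rw [this, map_one]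
  have hδR := mem_of_normal_sylow Rs hδpow
  rw [hRs, Subgroup.mem_subgroupOf, mem_autInducedBy_iff] at hδR
  obtain ⟨t, ht, hty⟩ := hδR
  have hty' : ∀ x ∈ T, y * x * y⁻¹ = t * x * t⁻¹ := by
    intro x hx
    have := hty ⟨x, hx⟩
    rw [← this]
    exact (conjAutHom_apply (S : Subgroup G) T ⟨y, hSN y hyS⟩ ⟨x, hx⟩).symm
  -- `c₀ = t⁻¹ y` centralizes `T`
  have hc₀ : t⁻¹ * y ∈ centralizerIn (S : Subgroup G) T := by
    refine ⟨Subgroup.mul_mem _ (Subgroup.inv_mem _ (c.hTS ht)) hyS, ?_⟩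
    show t⁻¹ * y ∈ Subgroup.centralizer (T : Set G)
    rw [Subgroup.mem_centralizer_iff]
    intro x hx
    have := hty' x hx
    calc x * (t⁻¹ * y) = t⁻¹ * (t * x * t⁻¹) * y := by group
      _ = t⁻¹ * (y * x * y⁻¹) * y := by rw [this]
      _ = t⁻¹ * y * x := by group
  have hz := hc _ hc₀
  have hgt : g * t * g⁻¹ ∈ T := (Subgroup.mem_normalizer_iff.mp hgN t).mp ht
  have hw : t⁻¹ * (g * t * g⁻¹) ∈ T := T.mul_mem (T.inv_mem ht) hgt
  have hyT0 : y⁻¹ * (g * y * g⁻¹) ∈ T ⊓ pCore p G := by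
    refine ⟨?_, Subgroup.mul_mem _ (Subgroup.inv_mem _ hyQ) ((Cfsg.pCore_normal p G).conj_mem y hyQ g)⟩
    have hcomm := (Subgroup.mem_centralizer_iff.mp hc₀.2) _ hw
    have : y⁻¹ * (g * y * g⁻¹) =
        ((t⁻¹ * y)⁻¹ * ((t⁻¹ * (g * t * g⁻¹)) * (t⁻¹ * y))) *
          ((t⁻¹ * y)⁻¹ * (g * (t⁻¹ * y) * g⁻¹)) := by group
    rw [this, hcomm]
    have h5 : (t⁻¹ * y)⁻¹ * ((t⁻¹ * y) * (t⁻¹ * (g * t * g⁻¹))) = t⁻¹ * (g * t * g⁻¹) := by group
    rw [h5]
    exact T.mul_mem hw hz.1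
  -- pass to the quotient by `T0`
  have hconj : (QuotientGroup.mk' (T ⊓ pCore p G)) g * (QuotientGroup.mk' (T ⊓ pCore p G)) q *
      ((QuotientGroup.mk' (T ⊓ pCore p G)) g)⁻¹ =
      (QuotientGroup.mk' (T ⊓ pCore p G)) q * (QuotientGroup.mk' (T ⊓ pCore p G)) y := by
    rw [← map_inv, ← map_mul, ← map_mul, ← map_mul]
    congr 1
    rw [hy]; group
  have hcomm : Commute ((QuotientGroup.mk' (T ⊓ pCore p G)) g) ((QuotientGroup.mk' (T ⊓ pCore p G)) y) := by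
    unfold Commute SemiconjBy
    rw [← map_mul, ← map_mul]
    apply QuotientGroup.eq.mpr
    have h1 := Subgroup.inv_mem _ (hn.conj_mem _ hyT0 g⁻¹)
    have h2 : (g⁻¹ * (y⁻¹ * (g * y * g⁻¹)) * g⁻¹⁻¹)⁻¹ = (g * y)⁻¹ * (y * g) := by group
    rw [h2] at h1
    exact h1
  have h6 := conj_pow_eq hcomm hconj (orderOf g)
  rw [← map_pow, pow_orderOf_eq_one, map_one, one_mul, inv_one, mul_one] at h6
  have h7 : ((QuotientGroup.mk' (T ⊓ pCore p G)) y) ^ orderOf g = 1 := mul_eq_left.mp h6.symm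
  have h8 : ((QuotientGroup.mk' (T ⊓ pCore p G)) y) ^ p ^ j = 1 := by
    rw [← map_pow, hyj, map_one]
  have h9 := eq_one_of_pow_coprime h7 h8 hgo
  exact (QuotientGroup.eq_one_iff _).mp h9

end WithE

end Cfsg.Agent.Lib.Helper27.NC
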