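import Cfsg.Agent.Lib.Helper27.NCF

set_option autoImplicit false

/-! Normal subsystems of constrained group fusion systems: existence of the normal subgroup. -/

namespace Cfsg.Agent.Lib.Helper27.NC

open Cfsg Cfsg.FusionSystem Cfsg.Agent.Lib.Helper27 Cfsg.Agent.H26 Cfsg.Agent.Lib.Helper16
open Cfsg.Agent.Lib.Helper17

variable {G : Type*} [Group G] [Finite G] {p : ℕ} [hp : Fact p.Prime]
variable {S : Sylow p G} {T : Subgroup G}

section WithE

variable {E : FusionSystem T} (hE : E.IsNormalIn (groupFusionSystem (S : Subgroup G)) p)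

include hE

/-- `Aut_E(T) ≤ Aut_H(T)`. -/
theorem autT_le (c : Ctx p S T) [hn : (T ⊓ pCore p G).Normal] :
    E.autGroup T ≤ (fusionSystemOfSubgroup (Hs p E) T T_le_Hs).autGroup T := by
  have hTp : IsPGroup p T := S.isPGroup'.to_le c.hTS
  intro α hα
  obtain ⟨⟨-, Rs, hRs⟩, -, -⟩ := fa_receptive_of_fullyNormalized hTp hE.1.1 (isFullyNormalized_top E)
  haveI : Finite (MulAut T) := inferInstance
  have hidx : ¬ p ∣ (Rs : Subgroup ↥(E.autGroup T)).index := Rs.not_dvd_index
  obtain ⟨m, hm, u, hu, hmu⟩ := Cfsg.Agent.Lib.Helper13.exists_mul_of_sylow_pResidual p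
    (Rs : Subgroup ↥(E.autGroup T)) hidx (⟨α, hα⟩ : ↥(E.autGroup T))
  have hmE : (m : MulAut T) ∈ (fusionSystemOfSubgroup (Hs p E) T T_le_Hs).autGroup T := by
    rw [hRs, Subgroup.mem_subgroupOf] at hm
    exact autInducedBy_le_autGroup _ le_rfl hm
  have huE : ∀ u ∈ pResidual p ↥(E.autGroup T),
      (u : MulAut T) ∈ (fusionSystemOfSubgroup (Hs p E) T T_le_Hs).autGroup T := by
    intro u hu
    unfold pResidual at hu
    induction hu using Subgroup.closure_induction with
    | mem η hη =>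
      rw [Set.mem_ofPred_eq] at hη
      obtain ⟨β, hβ, hβη, hβc⟩ := hE.2 (η : MulAut T) η.2
      have hR₁S : T ⊔ centralizerIn (S : Subgroup G) T ≤ (S : Subgroup G) :=
        sup_le c.hTS (centralizerIn_le_S _ _)
      have hβiso := (mem_autGroup_iff _ hR₁S β).mp hβ
      obtain ⟨-, -, g₀, hg₀⟩ := hβiso
      have hg₀' : ∀ y : ↥(T ⊔ centralizerIn (S : Subgroup G) T), ((β y : ↥(T ⊔ centralizerIn (S : Subgroup G) T)) : G) =
          g₀ * y * g₀⁻¹ := fun y => hg₀ y
      have hη₀ : ∀ x : T, (((η : MulAut T) x : T) : G) = g₀ * x * g₀⁻¹ := by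
        intro x
        rw [← hβη x, hg₀']
        rfl
      have hg₀N : g₀ ∈ Subgroup.normalizer (T : Set G) := by
        refine mem_normalizer_of_conj_mem (fun x hx => ?_)
        rw [← hη₀ ⟨x, hx⟩]
        exact ((η : MulAut T) ⟨x, hx⟩).2
      have hg₀c : ∀ x ∈ centralizerIn (S : Subgroup G) T,
          x⁻¹ * (g₀ * x * g₀⁻¹) ∈ T ⊓ Subgroup.centralizer (T : Set G) := by
        intro x hx
        have := hβc ⟨x, Subgroup.mem_sup_right hx⟩ hx
        rw [hg₀'] at this
        exact this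
      obtain ⟨k, hk1, hk2⟩ := exists_pow_coprime p g₀ η hη
      have hpow : ∀ n : ℕ, ∀ x : T, ((((η : MulAut T) ^ n) x : T) : G) = g₀ ^ n * x * (g₀ ^ n)⁻¹ := by
        intro n
        induction n with
        | zero => intro x; simp
        | succ n ih =>
          intro x
          rw [pow_succ, MulAut.mul_apply, ih, hη₀, pow_succ]
          group
      have hk1' : (η : MulAut T) ^ k = (η : MulAut T) := by
        have := congrArg (fun z : ↥(E.autGroup T) => (z : MulAut T)) hk1
        simpa using this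
      have hgη : ∀ x : T, (((η : MulAut T) x : T) : G) = g₀ ^ k * x * (g₀ ^ k)⁻¹ := by
        intro x
        rw [← hpow k x, hk1']
      have hgN : g₀ ^ k ∈ Subgroup.normalizer (T : Set G) := Subgroup.pow_mem _ hg₀N k
      have hgc := pow_cond hg₀N hg₀c k
      have hcen := mem_cenMod_of_cond hE c hk2 hgN (η : MulAut T) η.2 hgη hgc
      -- `g ∈ H1`
      have hH1 : g₀ ^ k ∈ H1 p E := by
        rw [mem_H1_iff, mem_autGroup_iff E inf_le_left]
        have hηiso := (mem_autGroup_iff E le_rfl (η : MulAut T)).mp η.2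
        have h1 := hom_restrict E (inf_le_left : T ⊓ pCore p G ≤ T) hηiso
        unfold IsIso
        have h2 : (T ⊓ pCore p G).subtype.comp
            ((MulAut.conjNormal (g₀ ^ k) : MulAut ↥(T ⊓ pCore p G)) :
              ↥(T ⊓ pCore p G) ≃* ↥(T ⊓ pCore p G)).toMonoidHom =
            (T.subtype.comp ((η : MulAut T) : T ≃* T).toMonoidHom).comp
              (Subgroup.inclusion (inf_le_left : T ⊓ pCore p G ≤ T)) := by
          ext x
          show ((MulAut.conjNormal (g₀ ^ k) x : ↥(T ⊓ pCore p G)) : G) =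
            (((η : MulAut T) (Subgroup.inclusion inf_le_left x) : T) : G)
          rw [conjNormal_coe, hgη]
          rfl
        rw [h2]
        exact h1
      have hHs : g₀ ^ k ∈ Hs p E := mem_Hs_of_coprime ⟨hH1, hcen⟩ hk2
      rw [mem_autGroup_iff _ le_rfl]
      exact ⟨le_rfl, fun x => ((η : MulAut T) x).2, g₀ ^ k, hHs, fun x => hgη x⟩
    | one => exact Subgroup.one_mem _
    | mul a b _ _ ha hb => exact Subgroup.mul_mem _ ha hb
    | inv a _ ha => exact Subgroup.inv_mem _ ha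
  have h3 : α = (m : MulAut T) * (u : MulAut T) := by
    have := congrArg (fun z : ↥(E.autGroup T) => (z : MulAut T)) hmu
    simpa using this
  rw [h3]
  exact Subgroup.mul_mem _ hmE (huE u hu)

/-- `E ⊆ F_T(H)`. -/
theorem le_Es (c : Ctx p S T) [(T ⊓ pCore p G).Normal] :
    ∀ P : Subgroup G, E.Hom P ⊆ (fusionSystemOfSubgroup (Hs p E) T T_le_Hs).Hom P := by
  have hE'n := Es_normal hE c
  have hinv : (fusionSystemOfSubgroup (Hs p E) T T_le_Hs).IsInvariantIn E :=
    Cfsg.Agent.Lib.Helper27.Env.isInvariantIn_of_le S.isPGroup' hE.1.2.1 hE.1.1 hE.1.2.2.1 (Es_le hE c) hE'n.1.2.2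
  intro P φ hφ
  have hP : P ≤ T := (E.le_of_mem hφ).1
  obtain ⟨α, hα, φ₀, hφ₀, h⟩ := hinv.2.2.2 P hP φ hφ
  have hα' := autT_le hE c hα
  have hαiso := (mem_autGroup_iff _ le_rfl α).mp hα'
  have hφ₀T : ∀ x : P, φ₀ x ∈ T := ((fusionSystemOfSubgroup (Hs p E) T T_le_Hs).le_of_mem hφ₀).2
  have h1 := (fusionSystemOfSubgroup (Hs p E) T T_le_Hs).comp_mem hφ₀ hαiso hφ₀T
  have h2 : (T.subtype.comp (α : T ≃* T).toMonoidHom).comp (φ₀.codRestrict T hφ₀T) = φ := by
    ext x
    exact (h x (hφ₀T x)).symm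
  rw [h2] at h1
  exact h1

/-- Existence of the normal subgroup realizing `E`. -/
theorem exists_normal_subgroup
    (hG : Subgroup.centralizer ((pCore p G : Subgroup G) : Set G) ≤ pCore p G) :
    ∃ H : Subgroup G, ∃ hTH : T ≤ H, H.Normal ∧
      (∃ R : Sylow p H, (R : Subgroup H) = T.subgroupOf H) ∧
      ∀ P : Subgroup G, E.Hom P = (fusionSystemOfSubgroup H T hTH).Hom P := by
  have c := ctx_of_normal hE hG
  haveI := c.T0_normal
  exact ⟨Hs p E, T_le_Hs, Hs_normal hE c, Hs_sylow hE c,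
    fun P => Set.Subset.antisymm (le_Es hE c P) (Es_le hE c P)⟩

end WithE

end Cfsg.Agent.Lib.Helper27.NC
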