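import Cfsg.Agent.Lib.Helper27.NCG

set_option autoImplicit false

/-! Normal subsystems of constrained group fusion systems: uniqueness of the normal subgroup. -/

namespace Cfsg.Agent.Lib.Helper27.NC

open Cfsg Cfsg.FusionSystem Cfsg.Agent.Lib.Helper27 Cfsg.Agent.H26 Cfsg.Agent.Lib.Helper16
open Cfsg.Agent.Lib.Helper17

variable {G : Type*} [Group G] [Finite G] {p : ℕ} [hp : Fact p.Prime]
variable {S : Sylow p G} {T : Subgroup G}

/-- A normal subgroup with Sylow subgroup `T` meets `O_p(G)` inside `T`. -/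
theorem inf_pCore_le {H' : Subgroup G} [hH' : H'.Normal]
    (hS' : ∃ R : Sylow p H', (R : Subgroup H') = T.subgroupOf H') : H' ⊓ pCore p G ≤ T := by
  obtain ⟨R, hR⟩ := hS'
  intro x hx
  haveI : (H' ⊓ pCore p G).Normal := inferInstance
  have hNn : ((H' ⊓ pCore p G).subgroupOf H').Normal := inferInstance
  have hNp : IsPGroup p ((H' ⊓ pCore p G).subgroupOf H') :=
    ((pCore_isPGroup (G := G) (p := p)).to_le inf_le_right).comap_subtype
  have h1 := (le_pCore _ hNn hNp).trans (pCore_le_sylow R)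
  have h2 : (⟨x, hx.1⟩ : ↥H') ∈ (R : Subgroup ↥H') := h1 (Subgroup.mem_subgroupOf.mpr hx)
  rw [hR, Subgroup.mem_subgroupOf] at h2
  exact h2

section WithE

variable {E : FusionSystem T} (hE : E.IsNormalIn (groupFusionSystem (S : Subgroup G)) p)

include hE

theorem unique_le (hG : Subgroup.centralizer ((pCore p G : Subgroup G) : Set G) ≤ pCore p G)
    {H' H'' : Subgroup G} (hT' : T ≤ H') [hH'n : H'.Normal]
    (hS' : ∃ R : Sylow p H', (R : Subgroup H') = T.subgroupOf H')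
    (hE' : ∀ P : Subgroup G, E.Hom P = (fusionSystemOfSubgroup H' T hT').Hom P)
    (hT'' : T ≤ H'') [hH''n : H''.Normal]
    (hS'' : ∃ R : Sylow p H'', (R : Subgroup H'') = T.subgroupOf H'')
    (hE'' : ∀ P : Subgroup G, E.Hom P = (fusionSystemOfSubgroup H'' T hT'').Hom P) : H' ≤ H'' := by
  have c := ctx_of_normal hE hG
  haveI hn := c.T0_normal
  -- both subgroups act trivially on `Q / T0`
  have hcen : ∀ (K : Subgroup G) [K.Normal], (∃ R : Sylow p K, (R : Subgroup K) = T.subgroupOf K) →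
      K ≤ cenMod (pCore p G) (T ⊓ pCore p G) := by
    intro K hKn hSK h hh
    rw [mem_cenMod_iff]
    intro q hq
    have hQ : q⁻¹ * (h * q * h⁻¹) ∈ pCore p G :=
      Subgroup.mul_mem _ (Subgroup.inv_mem _ hq) ((Cfsg.pCore_normal p G).conj_mem q hq h)
    have hK : q⁻¹ * (h * q * h⁻¹) ∈ K := by
      have : q⁻¹ * (h * q * h⁻¹) = (q⁻¹ * h * q⁻¹⁻¹) * h⁻¹ := by group
      rw [this]
      exact Subgroup.mul_mem _ (hKn.conj_mem h hh q⁻¹) (Subgroup.inv_mem _ hh)
    exact ⟨inf_pCore_le hSK ⟨hK, hQ⟩, hQ⟩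
  -- `p'`-elements of `H'` lie in `H''`
  have key : ∀ h' ∈ H', (orderOf h').Coprime p → h' ∈ H'' := by
    intro h' hh' ho
    have h1 : (T ⊓ pCore p G).subtype.comp
        ((MulAut.conjNormal h' : MulAut ↥(T ⊓ pCore p G)) :
          ↥(T ⊓ pCore p G) ≃* ↥(T ⊓ pCore p G)).toMonoidHom ∈ E.Hom (T ⊓ pCore p G) := by
      rw [hE']
      exact ⟨inf_le_left, fun x => (MulAut.conjNormal h' x).2.1, h', hh', fun x => conjNormal_coe h' x⟩
    rw [hE''] at h1
    obtain ⟨-, -, h'', hh'', hx⟩ := h1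
    have hx' : ∀ x ∈ T ⊓ pCore p G, h' * x * h'⁻¹ = h'' * x * h''⁻¹ := by
      intro x hxT0
      rw [← hx ⟨x, hxT0⟩]
      exact (conjNormal_coe h' ⟨x, hxT0⟩).symm
    have hk : h''⁻¹ * h' ∈ kerMod (pCore p G) (T ⊓ pCore p G) := by
      refine ⟨Subgroup.mul_mem _ (Subgroup.inv_mem _ (hcen H'' hS'' hh'')) (hcen H' hS' hh'), ?_⟩
      show h''⁻¹ * h' ∈ Subgroup.centralizer ((T ⊓ pCore p G : Subgroup G) : Set G)
      rw [Subgroup.mem_centralizer_iff]
      intro x hxT0
      have := hx' x hxT0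
      calc x * (h''⁻¹ * h') = h''⁻¹ * (h'' * x * h''⁻¹) * h' := by group
        _ = h''⁻¹ * (h' * x * h'⁻¹) * h' := by rw [this]
        _ = h''⁻¹ * h' * x := by group
    obtain ⟨j, hj⟩ := (pCore_isPGroup (G := G) (p := p)) ⟨_, c.kerMod_le hk⟩
    have hkj : (h''⁻¹ * h') ^ p ^ j = 1 := by
      have := congrArg Subtype.val hj
      simpa using this
    refine mem_of_coprime_orders H'' (b := h' * (h''⁻¹ * h')⁻¹ * h'⁻¹) (η := h') ?_
      (n := orderOf h') (k := j) ?_ ?_ ho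
    · have : h' * (h''⁻¹ * h')⁻¹ * h'⁻¹ * h' = h'' := by group
      rw [this]
      exact hh''
    · rw [pow_orderOf_eq_one]
      exact Subgroup.one_mem _
    · rw [conj_pow, inv_pow, hkj]
      simp
  -- `H' = O^p(H') T`
  obtain ⟨R, hR⟩ := hS'
  intro h hh
  have hidx : ¬ p ∣ (R : Subgroup ↥H').index := R.not_dvd_index
  obtain ⟨m, hm, u, hu, hmu⟩ := Cfsg.Agent.Lib.Helper13.exists_mul_of_sylow_pResidual p
    (R : Subgroup ↥H') hidx (⟨h, hh⟩ : ↥H')
  have hmT : (m : G) ∈ H'' := by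
    rw [hR, Subgroup.mem_subgroupOf] at hm
    exact hT'' hm
  have huE : ∀ u ∈ pResidual p ↥H', (u : G) ∈ H'' := by
    intro u hu
    unfold pResidual at hu
    induction hu using Subgroup.closure_induction with
    | mem η hη =>
      rw [Set.mem_ofPred_eq] at hη
      refine key _ η.2 ?_
      rw [Subgroup.orderOf_coe]
      exact hη
    | one => exact Subgroup.one_mem _
    | mul a b _ _ ha hb => exact Subgroup.mul_mem _ ha hb
    | inv a _ ha => exact Subgroup.inv_mem _ ha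
  have : h = (m : G) * (u : G) := congrArg Subtype.val hmu
  rw [this]
  exact Subgroup.mul_mem _ hmT (huE u hu)

/-- **Normal subsystems of constrained group fusion systems** (Aschbacher): if `C_G(O_p(G)) ≤ O_p(G)`
and `E` is a normal subsystem of `F_S(G)` over `T`, there is a unique normal subgroup `H` of `G` with
Sylow subgroup `T` and `E = F_T(H)`. -/
theorem normal_subgroup_of_normal_subsystem
    (hG : Subgroup.centralizer ((pCore p G : Subgroup G) : Set G) ≤ pCore p G) :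
    ∃ H : Subgroup G, (∃ hTH : T ≤ H, H.Normal ∧
        (∃ R : Sylow p H, (R : Subgroup H) = T.subgroupOf H) ∧
        ∀ P : Subgroup G, E.Hom P = (fusionSystemOfSubgroup H T hTH).Hom P) ∧
      ∀ H' : Subgroup G, (∃ hTH' : T ≤ H', H'.Normal ∧
        (∃ R : Sylow p H', (R : Subgroup H') = T.subgroupOf H') ∧
        ∀ P : Subgroup G, E.Hom P = (fusionSystemOfSubgroup H' T hTH').Hom P) → H' = H := by
  obtain ⟨H, hTH, hHn, hHS, hHE⟩ := exists_normal_subgroup hE hG
  refine ⟨H, ⟨hTH, hHn, hHS, hHE⟩, ?_⟩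
  rintro H' ⟨hTH', hH'n, hH'S, hH'E⟩
  exact le_antisymm (unique_le hE hG hTH' hH'S hH'E hTH hHS hHE)
    (unique_le hE hG hTH hHS hHE hTH' hH'S hH'E)

end WithE

end Cfsg.Agent.Lib.Helper27.NC
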