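import Mathlib
import Cfsg.Prelude.Def_KGroupFacts

/-!
# Counting `Out G` through a transversal subgroup of `MulAut G` (helper27, for helper8 FO-C)

If `A₀ ≤ MulAut G` meets every coset of `Inn G` (`h1`), and `A₀ ∩ Inn G` is exactly the
faithful image of a subgroup `H ≤ G` under conjugation (`h2`, `h3`, `h4`), then
`|Out G| * |H| = |A₀|`.
-/

namespace Cfsg.Agent.Lib.Helper27.OutCount

/-- The composite `A₀ → MulAut G → Out G`. -/
noncomputable def toOut {G : Type*} [Group G] (A₀ : Subgroup (MulAut G)) :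
    A₀ →* Cfsg.Out G :=
  (QuotientGroup.mk' (Cfsg.Inn G)).comp A₀.subtype

theorem toOut_surjective {G : Type*} [Group G] (A₀ : Subgroup (MulAut G))
    (h1 : ∀ θ : MulAut G, ∃ x : G, MulAut.conj x * θ ∈ A₀) :
    Function.Surjective (toOut A₀) := by
  intro q
  induction q using QuotientGroup.induction_on with
  | H θ =>
    obtain ⟨x, hx⟩ := h1 θ
    refine ⟨⟨MulAut.conj x * θ, hx⟩, ?_⟩
    show (QuotientGroup.mk' (Cfsg.Inn G)) (MulAut.conj x * θ) = _
    rw [map_mul]
    have : (QuotientGroup.mk' (Cfsg.Inn G)) (MulAut.conj x) = 1 := by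
      rw [QuotientGroup.mk'_apply, QuotientGroup.eq_one_iff]
      exact ⟨x, rfl⟩
    rw [this, one_mul]
    rfl

theorem mem_ker_toOut {G : Type*} [Group G] (A₀ : Subgroup (MulAut G)) (a : A₀) :
    a ∈ (toOut A₀).ker ↔ ∃ x : G, MulAut.conj x = (a : MulAut G) := by
  rw [MonoidHom.mem_ker]
  show (QuotientGroup.mk' (Cfsg.Inn G)) (a : MulAut G) = 1 ↔ _
  rw [QuotientGroup.mk'_apply, QuotientGroup.eq_one_iff]
  exact Iff.rfl

theorem card_out_mul {G : Type*} [Group G] [Finite G] (A₀ : Subgroup (MulAut G))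
    (H : Subgroup G)
    (h1 : ∀ θ : MulAut G, ∃ x : G, MulAut.conj x * θ ∈ A₀)
    (h2 : ∀ x : G, MulAut.conj x ∈ A₀ → x ∈ H)
    (h3 : ∀ x ∈ H, MulAut.conj x ∈ A₀)
    (h4 : ∀ x ∈ H, MulAut.conj x = 1 → x = 1) :
    Nat.card (Cfsg.Out G) * Nat.card H = Nat.card A₀ := by
  classical
  -- the kernel of `toOut` is in bijection with `H`
  have hker : Nat.card (toOut A₀).ker = Nat.card H := by
    symm
    refine Nat.card_eq_of_bijective
      (fun x : H => (⟨⟨MulAut.conj (x : G), h3 x x.2⟩,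
        (mem_ker_toOut A₀ _).2 ⟨x, rfl⟩⟩ : (toOut A₀).ker)) ⟨?_, ?_⟩
    · intro x y hxy
      have hxy' : MulAut.conj (x : G) = MulAut.conj (y : G) := by
        have := congrArg (fun k : (toOut A₀).ker => ((k : A₀) : MulAut G)) hxy
        simpa using this
      have hmem : (x : G) * (y : G)⁻¹ ∈ H := H.mul_mem x.2 (H.inv_mem y.2)
      have hone : MulAut.conj ((x : G) * (y : G)⁻¹) = 1 := by
        rw [map_mul, map_inv, hxy', mul_inv_cancel]
      have := h4 _ hmem hone
      apply Subtype.ext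
      exact mul_inv_eq_one.mp this
    · rintro ⟨a, ha⟩
      obtain ⟨x, hx⟩ := (mem_ker_toOut A₀ a).1 ha
      have hxH : x ∈ H := h2 x (by rw [hx]; exact a.2)
      refine ⟨⟨x, hxH⟩, ?_⟩
      apply Subtype.ext
      apply Subtype.ext
      exact hx
  have hquot : Nat.card (A₀ ⧸ (toOut A₀).ker) = Nat.card (Cfsg.Out G) :=
    Nat.card_congr
      (QuotientGroup.quotientKerEquivOfSurjective (toOut A₀) (toOut_surjective A₀ h1)).toEquiv
  have := Subgroup.card_eq_card_quotient_mul_card_subgroup (toOut A₀).ker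
  rw [this, hquot, hker]

end Cfsg.Agent.Lib.Helper27.OutCount
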