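import Mathlib
import Cfsg.Agent.Lib.Helper27.OrderPCube

/-!
# Groups of order `p⁴`: characteristic chains

`CharChain4 p P`: a chain `⊥ = c 0 ≤ c 1 ≤ c 2 ≤ c 3 ≤ c 4 = ⊤` of subgroups of `P`, invariant under all
automorphisms of `P`, with `|c (j+1)| = p |c j|`. Such a chain is built from three characteristic
subgroups, or lifted from a chain of the quotient by a characteristic subgroup of order `p`.
-/

set_option autoImplicit false

namespace Cfsg.Agent.Lib.Helper27.P4

open Cfsg Cfsg.Agent.Lib.Helper27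
open scoped commutatorElement

variable {P : Type*} [Group P]

/-- a chain of characteristic subgroups of orders `1, p, p², p³, p⁴` -/
def CharChain4 (p : ℕ) (P : Type*) [Group P] : Prop :=
  ∃ c : ℕ → Subgroup P, c 0 = ⊥ ∧ c 4 = ⊤ ∧ (∀ j, ∀ α : P ≃* P, ∀ x ∈ c j, α x ∈ c j) ∧
    ∀ j < 4, c j ≤ c (j + 1) ∧ Nat.card (c (j + 1)) = p * Nat.card (c j)

theorem charChain4_of {p : ℕ} (hcard : Nat.card P = p ^ 4) (C1 C2 C3 : Subgroup P)
    (h1 : Nat.card C1 = p) (h2 : Nat.card C2 = p ^ 2) (h3 : Nat.card C3 = p ^ 3)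
    (h12 : C1 ≤ C2) (h23 : C2 ≤ C3)
    (hc1 : ∀ α : P ≃* P, ∀ x ∈ C1, α x ∈ C1) (hc2 : ∀ α : P ≃* P, ∀ x ∈ C2, α x ∈ C2)
    (hc3 : ∀ α : P ≃* P, ∀ x ∈ C3, α x ∈ C3) : CharChain4 p P := by
  refine ⟨fun j => match j with
    | 0 => ⊥
    | 1 => C1
    | 2 => C2
    | 3 => C3
    | _ => ⊤, rfl, rfl, ?_, ?_⟩
  · intro j α x hx
    rcases j with _ | _ | _ | _ | n
    · have hx' : x ∈ (⊥ : Subgroup P) := hx
      rw [Subgroup.mem_bot] at hx'
      show α x ∈ (⊥ : Subgroup P)
      rw [hx', map_one]; exact Subgroup.one_mem _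
    · exact hc1 α x hx
    · exact hc2 α x hx
    · exact hc3 α x hx
    · exact Subgroup.mem_top _
  · intro j hj
    rcases j with _ | _ | _ | _ | n
    · refine ⟨bot_le, ?_⟩
      show Nat.card C1 = p * Nat.card (⊥ : Subgroup P)
      rw [Subgroup.card_bot, mul_one, h1]
    · refine ⟨h12, ?_⟩
      show Nat.card C2 = p * Nat.card C1
      rw [h1, h2]; ring
    · refine ⟨h23, ?_⟩
      show Nat.card C3 = p * Nat.card C2
      rw [h2, h3]; ring
    · refine ⟨le_top, ?_⟩
      show Nat.card (⊤ : Subgroup P) = p * Nat.card C3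
      rw [Subgroup.card_top, hcard, h3]; ring
    · omega

/-- the order of the preimage of a subgroup of a quotient -/
theorem card_comap_mk' [Finite P] (N : Subgroup P) [N.Normal] (K : Subgroup (P ⧸ N)) :
    Nat.card (K.comap (QuotientGroup.mk' N)) = Nat.card N * Nat.card K := by
  have h1 : (K.comap (QuotientGroup.mk' N)).index = K.index :=
    Subgroup.index_comap_of_surjective K (QuotientGroup.mk'_surjective N)
  have h2 := Subgroup.card_mul_index (K.comap (QuotientGroup.mk' N))
  have h3 := Subgroup.card_mul_index K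
  have h4 := Subgroup.card_eq_card_quotient_mul_card_subgroup N
  have hpos : 0 < K.index := Nat.pos_of_ne_zero Subgroup.index_ne_zero_of_finite
  have h5 : Nat.card (K.comap (QuotientGroup.mk' N)) * K.index =
      (Nat.card N * Nat.card K) * K.index := by
    rw [← h1, h2, h4, ← h3, h1]; ring
  exact Nat.eq_of_mul_eq_mul_right hpos h5

/-- lifting a chain from the quotient by a characteristic subgroup of order `p` -/
theorem charChain4_of_quotient [Finite P] {p : ℕ} (N : Subgroup P) [N.Normal]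
    (hN : Nat.card N = p) (hNchar : ∀ α : P ≃* P, ∀ x ∈ N, α x ∈ N) (h : CharChain p (P ⧸ N)) :
    CharChain4 p P := by
  obtain ⟨c, hc0, hc3, hchar, hstep⟩ := h
  have hmap : ∀ α : P ≃* P, N.map α.toMonoidHom = N := by
    intro α
    apply le_antisymm
    · rintro _ ⟨x, hx, rfl⟩
      exact hNchar α x hx
    · intro x hx
      exact ⟨α.symm x, hNchar α.symm x hx, by simp⟩
  refine ⟨fun j => match j with
    | 0 => ⊥
    | (j + 1) => (c j).comap (QuotientGroup.mk' N), rfl, ?_, ?_, ?_⟩
  · show (c 3).comap (QuotientGroup.mk' N) = ⊤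
    rw [hc3, Subgroup.comap_top]
  · intro j α x hx
    rcases j with _ | j
    · have hx' : x ∈ (⊥ : Subgroup P) := hx
      rw [Subgroup.mem_bot] at hx'
      show α x ∈ (⊥ : Subgroup P)
      rw [hx', map_one]; exact Subgroup.one_mem _
    · have hx' : (x : P ⧸ N) ∈ c j := hx
      show ((α x : P) : P ⧸ N) ∈ c j
      have h1 := hchar j (QuotientGroup.congr N N α (hmap α)) _ hx'
      exact h1
  · intro j hj
    rcases j with _ | j
    · refine ⟨bot_le, ?_⟩
      show Nat.card ((c 0).comap (QuotientGroup.mk' N)) = p * Nat.card (⊥ : Subgroup P)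
      rw [card_comap_mk', hc0, Subgroup.card_bot, Subgroup.card_bot, hN]
    · have hj' : j < 3 := by omega
      obtain ⟨hle, hcd⟩ := hstep j hj'
      refine ⟨Subgroup.comap_mono hle, ?_⟩
      show Nat.card ((c (j + 1)).comap (QuotientGroup.mk' N)) =
        p * Nat.card ((c j).comap (QuotientGroup.mk' N))
      rw [card_comap_mk', card_comap_mk', hcd]
      ring

/-- two groups with bijective coordinates obeying the same multiplication rule are isomorphic -/
theorem nonempty_mulEquiv_of_coord {G G' A : Type*} [Group G] [Group G'] [Finite A]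
    (κ : A → G) (κ' : A → G') (m : A → A → A) (hκ : Function.Bijective κ)
    (hκ' : Function.Bijective κ') (hm : ∀ u v, κ u * κ v = κ (m u v))
    (hm' : ∀ u v, κ' u * κ' v = κ' (m u v)) : Nonempty (G ≃* G') := by
  let e : G ≃ G' := (Equiv.ofBijective κ hκ).symm.trans (Equiv.ofBijective κ' hκ')
  refine ⟨MulEquiv.mk' e ?_⟩
  intro g h
  obtain ⟨u, rfl⟩ := hκ.2 g
  obtain ⟨v, rfl⟩ := hκ.2 h
  have he : ∀ w, e (κ w) = κ' w := by
    intro w
    show (Equiv.ofBijective κ' hκ') ((Equiv.ofBijective κ hκ).symm (κ w)) = κ' w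
    have : (Equiv.ofBijective κ hκ).symm (κ w) = w :=
      (Equiv.ofBijective κ hκ).symm_apply_apply w
    rw [this]
    rfl
  rw [hm, he, he, he, hm']

end Cfsg.Agent.Lib.Helper27.P4
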