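import Mathlib
import Cfsg.Agent.Lib.Helper27.P4A
import Cfsg.Agent.Lib.Helper1.Frattini
import Cfsg.Agent.Lib.Helper1.Nilpotent

/-!
# Groups of order `p⁴`: chains for two-generator nonabelian groups
-/

set_option autoImplicit false

namespace Cfsg.Agent.Lib.Helper27.P4

open Cfsg Cfsg.Agent.Lib.Helper27
open scoped commutatorElement

variable {P : Type*} [Group P]

theorem char_mem (K : Subgroup P) [hK : K.Characteristic] (α : P ≃* P) {x : P} (hx : x ∈ K) :
    α x ∈ K := by
  have h := Subgroup.characteristic_iff_le_comap.mp hK α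
  exact h hx

theorem centralizer_char (K : Subgroup P) (hK : ∀ α : P ≃* P, ∀ x ∈ K, α x ∈ K) (α : P ≃* P)
    {x : P} (hx : x ∈ Subgroup.centralizer (K : Set P)) :
    α x ∈ Subgroup.centralizer (K : Set P) := by
  rw [Subgroup.mem_centralizer_iff] at hx ⊢
  intro k hk
  have h1 := hx (α.symm k) (hK α.symm k hk)
  have h2 := congrArg α h1
  rwa [map_mul, map_mul, MulEquiv.apply_symm_apply] at h2

/-- two-generator groups of order `p⁴` with derived subgroup of order `p` -/
theorem chain_of_card_commutator_eq [Finite P] {p : ℕ} [Fact p.Prime] (hcard : Nat.card P = p ^ 4)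
    (hD : Nat.card (commutator P) = p) (hΦ : Nat.card (frattini P) = p ^ 2) : CharChain4 p P := by
  have hp : p.Prime := Fact.out
  have hQcard : Nat.card (P ⧸ commutator P) = p ^ 3 := by
    have h1 := Subgroup.card_eq_card_quotient_mul_card_subgroup (commutator P)
    rw [hcard, hD] at h1
    have h2 : Nat.card (P ⧸ commutator P) * p = p ^ 3 * p := by rw [← h1]; ring
    exact Nat.eq_of_mul_eq_mul_right hp.pos h2
  have hQcomm' : ∀ x y : Abelianization P, x * y = y * x := fun x y => mul_comm x y
  have hQcomm : ∀ x y : P ⧸ commutator P, x * y = y * x := hQcomm'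
  rcases abelian_cube hQcard hQcomm with h | h
  · exfalso
    have hle : frattini P ≤ commutator P :=
      Cfsg.Agent.Lib.Helper1.frattini_le_of_commutator_le_of_pow_mem (p := p) (commutator P) le_rfl
        (fun x => by
          have h1 := h (x : P ⧸ commutator P)
          rw [← QuotientGroup.mk_pow, QuotientGroup.eq_one_iff] at h1
          exact h1)
    have h2 := Subgroup.card_le_of_le hle
    rw [hΦ, hD] at h2
    have h3 : p < p ^ 2 := by
      calc p = p ^ 1 := (pow_one p).symm
        _ < p ^ 2 := Nat.pow_lt_pow_right hp.one_lt (by norm_num)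
    omega
  · exact charChain4_of_quotient (commutator P) hD (fun α x hx => char_mem (commutator P) α hx) h

/-- the commutator with a fixed element all of whose commutators are central, as a homomorphism -/
def commHomAt (a : P) (h : ∀ g : P, ⁅a, g⁆ ∈ Subgroup.center P) : P →* Subgroup.center P where
  toFun g := ⟨⁅a, g⁆, h g⟩
  map_one' := by apply Subtype.ext; simp
  map_mul' g k := by
    apply Subtype.ext
    show ⁅a, g * k⁆ = ⁅a, g⁆ * ⁅a, k⁆
    rw [Cfsg.Agent.Lib.Helper1.commutatorElement_mul_right_eq]
    congr 1
    have := (Subgroup.mem_center_iff.mp (h k)) g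
    rw [this, mul_inv_cancel_right]

theorem commHomAt_eq_one_iff (a : P) (h : ∀ g : P, ⁅a, g⁆ ∈ Subgroup.center P) (g : P) :
    commHomAt a h g = 1 ↔ a * g = g * a := by
  have h0 : commHomAt a h g = 1 ↔ ⁅a, g⁆ = 1 :=
    ⟨fun h => congrArg Subtype.val h, fun h => Subtype.ext h⟩
  rw [h0, commutatorElement_eq_one_iff_mul_comm]

/-- groups of order `p⁴` with derived subgroup of order `p²` (maximal class) -/
theorem chain_of_card_commutator_sq [Finite P] {p : ℕ} [Fact p.Prime] (hcard : Nat.card P = p ^ 4)
    (hD : Nat.card (commutator P) = p ^ 2) : CharChain4 p P := by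
  have hp : p.Prime := Fact.out
  have hP : IsPGroup p P := IsPGroup.of_card hcard
  haveI hnil : Group.IsNilpotent P := hP.isNilpotent
  haveI hnt : Nontrivial P := by
    rw [← Finite.one_lt_card_iff_nontrivial, hcard]
    exact Nat.one_lt_pow (by norm_num) hp.one_lt
  -- the class is three
  have hle3 : Group.nilpotencyClass P ≤ 3 := by
    have := Cfsg.Agent.Lib.Helper1.nilpotencyClass_le_of_card_pow (p := p) 4 P hcard
    simpa using this
  have h3 : (⊤ : Subgroup P).lowerCentralSeries 3 = ⊥ :=
    Subgroup.lowerCentralSeries_eq_bot_iff_nilpotencyClass_le.mpr hle3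
  have h3' : (⊤ : Subgroup P).lowerCentralSeries 3 = ⁅⁅commutator P, (⊤ : Subgroup P)⁆, (⊤ : Subgroup P)⁆ :=
    rfl
  have hγ : ⁅commutator P, (⊤ : Subgroup P)⁆ ≤ Subgroup.center P := by
    rw [h3', Subgroup.commutator_eq_bot_iff_le_centralizer, Subgroup.coe_top,
      Subgroup.centralizer_univ] at h3
    exact h3
  have hcl : ∀ d ∈ commutator P, ∀ g : P, ⁅d, g⁆ ∈ Subgroup.center P := fun d hd g =>
    hγ (Subgroup.commutator_mem_commutator hd (Subgroup.mem_top g))
  have hidx : (commutator P).index = p ^ 2 := by
    have h1 := Subgroup.card_mul_index (commutator P)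
    rw [hD, hcard] at h1
    have h2 : p ^ 2 * (commutator P).index = p ^ 2 * p ^ 2 := by rw [h1]; ring
    exact Nat.eq_of_mul_eq_mul_left (pow_pos hp.pos 2) h2
  have hclass : Group.nilpotencyClass P = 3 :=
    (Cfsg.Agent.Lib.Helper1.OrderP4.index_commutator_iff_class hcard).mp hidx
  have hDZ : ¬ commutator P ≤ Subgroup.center P := by
    intro h
    have := Cfsg.Agent.Lib.Helper1.OrderP4.class_le_two_of_commutator_le_center h
    omega
  -- the centre has order `p`
  have hZ : Nat.card (Subgroup.center P) = p := by
    have h1 : (Subgroup.center P).index ∣ p ^ 4 := hcard ▸ Subgroup.index_dvd_card _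
    obtain ⟨m, hm, hm'⟩ := (Nat.dvd_prime_pow hp).mp h1
    have hmul := Subgroup.card_mul_index (Subgroup.center P)
    rw [hm', hcard] at hmul
    interval_cases m
    · exfalso
      rw [pow_zero] at hm'
      have : Subgroup.center P = ⊤ := Subgroup.index_eq_one.mp hm'
      apply hDZ
      rw [this]
      exact le_top
    · exfalso
      rw [pow_one] at hm'
      exact Cfsg.Agent.Lib.Helper1.OrderP4.center_index_ne_prime hp hm'
    · exfalso
      have := Cfsg.Agent.Lib.Helper1.OrderP4.card_commutator_of_index_center hP hm'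
      rw [hD] at this
      have h3 : p < p ^ 2 := by
        calc p = p ^ 1 := (pow_one p).symm
          _ < p ^ 2 := Nat.pow_lt_pow_right hp.one_lt (by norm_num)
      omega
    · have h2 : Nat.card (Subgroup.center P) * p ^ 3 = p * p ^ 3 := by rw [hmul]; ring
      exact Nat.eq_of_mul_eq_mul_right (pow_pos hp.pos 3) h2
    · exfalso
      have h2 : Nat.card (Subgroup.center P) * p ^ 4 = 1 * p ^ 4 := by rw [hmul]; ring
      have h3 : Nat.card (Subgroup.center P) = 1 := Nat.eq_of_mul_eq_mul_right (pow_pos hp.pos 4) h2
      have h4 := hP.bot_lt_center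
      rw [Subgroup.card_eq_one.mp h3] at h4
      exact lt_irrefl _ h4
  -- the centre lies in the derived subgroup
  have hDne : commutator P ≠ ⊥ := by
    intro h
    apply hDZ
    rw [h]
    exact bot_le
  have hZD : Subgroup.center P ≤ commutator P := by
    have h1 := Cfsg.Agent.Lib.Helper1.inf_center_ne_bot_of_normal (commutator P) hDne
    have h2 : commutator P ⊓ Subgroup.center P = Subgroup.center P := by
      apply Subgroup.eq_of_le_of_card_ge inf_le_right
      rw [hZ]
      have h3 : Nat.card ↥(commutator P ⊓ Subgroup.center P) ∣ p := by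
        rw [← hZ]
        exact Subgroup.card_dvd_of_le inf_le_right
      rcases (Nat.dvd_prime hp).mp h3 with h4 | h4
      · exact absurd (Subgroup.card_eq_one.mp h4) h1
      · exact h4.ge
    rw [← h2]
    exact inf_le_left
  -- the derived subgroup is abelian
  have hDcomm : ∀ a ∈ commutator P, ∀ b ∈ commutator P, a * b = b * a := by
    intro a ha b hb
    have := (IsPGroup.isMulCommutative_of_card_eq_prime_sq hD).is_comm.comm (⟨a, ha⟩ : commutator P) ⟨b, hb⟩
    exact congrArg Subtype.val this
  have hDC : commutator P ≤ Subgroup.centralizer ((commutator P : Subgroup P) : Set P) := by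
    intro a ha
    rw [Subgroup.mem_centralizer_iff]
    intro b hb
    exact hDcomm b hb a ha
  -- the centralizer of the derived subgroup has order `p³`
  obtain ⟨d₀, hd₀D, hd₀Z⟩ := SetLike.not_le_iff_exists.mp hDZ
  have hker : (commHomAt d₀ (hcl d₀ hd₀D)).ker ≤ Subgroup.centralizer ((commutator P : Subgroup P) : Set P) := by
    intro g hg
    rw [MonoidHom.mem_ker, commHomAt_eq_one_iff] at hg
    have hDeq : commutator P ≤ Subgroup.center P ⊔ Subgroup.zpowers d₀ := by
      have hle : Subgroup.center P ⊔ Subgroup.zpowers d₀ ≤ commutator P :=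
        sup_le hZD (Subgroup.zpowers_le.mpr hd₀D)
      have h1 : Nat.card ↥(Subgroup.center P ⊔ Subgroup.zpowers d₀) ∣ p ^ 2 := by
        rw [← hD]
        exact Subgroup.card_dvd_of_le hle
      obtain ⟨m, hm, hm'⟩ := (Nat.dvd_prime_pow hp).mp h1
      have h2 : Nat.card (Subgroup.center P) < Nat.card ↥(Subgroup.center P ⊔ Subgroup.zpowers d₀) := by
        apply lt_of_le_of_ne (Subgroup.card_le_of_le le_sup_left)
        intro heq
        have := Subgroup.eq_of_le_of_card_ge (le_sup_left : Subgroup.center P ≤
          Subgroup.center P ⊔ Subgroup.zpowers d₀) heq.ge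
        apply hd₀Z
        rw [this]
        exact Subgroup.mem_sup_right (Subgroup.mem_zpowers d₀)
      rw [hZ, hm'] at h2
      have hm2 : m = 2 := by
        interval_cases m
        · rw [pow_zero] at h2
          have := hp.one_lt
          omega
        · rw [pow_one] at h2
          omega
        · rfl
      rw [hm2, ← hD] at hm'
      exact (Subgroup.eq_of_le_of_card_ge hle hm'.ge).ge
    have h1 : commutator P ≤ Subgroup.centralizer {g} := by
      refine hDeq.trans (sup_le ?_ ?_)
      · intro z hz
        rw [Subgroup.mem_centralizer_singleton_iff]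
        exact ((Subgroup.mem_center_iff.mp hz) g).symm
      · rw [Subgroup.zpowers_le, Subgroup.mem_centralizer_singleton_iff]
        exact hg
    rw [Subgroup.mem_centralizer_iff]
    intro d hd
    have := h1 hd
    rw [Subgroup.mem_centralizer_singleton_iff] at this
    exact this
  have hkercard : p ^ 3 ≤ Nat.card (commHomAt d₀ (hcl d₀ hd₀D)).ker := by
    have h1 := Subgroup.card_eq_card_quotient_mul_card_subgroup (commHomAt d₀ (hcl d₀ hd₀D)).ker
    have h2 : Nat.card (P ⧸ (commHomAt d₀ (hcl d₀ hd₀D)).ker) =
        Nat.card (commHomAt d₀ (hcl d₀ hd₀D)).range :=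
      Nat.card_congr (QuotientGroup.quotientKerEquivRange _).toEquiv
    have h3 : Nat.card (commHomAt d₀ (hcl d₀ hd₀D)).range ≤ p := by
      rw [← hZ]
      exact Subgroup.card_le_card_group _
    rw [h2, hcard] at h1
    by_contra hlt
    push Not at hlt
    have h4 : Nat.card (commHomAt d₀ (hcl d₀ hd₀D)).range *
        Nat.card (commHomAt d₀ (hcl d₀ hd₀D)).ker < p * p ^ 3 := by
      calc _ ≤ p * Nat.card (commHomAt d₀ (hcl d₀ hd₀D)).ker := Nat.mul_le_mul_right _ h3
        _ < p * p ^ 3 := Nat.mul_lt_mul_of_pos_left hlt hp.pos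
    rw [← h1] at h4
    have : p * p ^ 3 = p ^ 4 := by ring
    omega
  have hM : Nat.card (Subgroup.centralizer ((commutator P : Subgroup P) : Set P)) = p ^ 3 := by
    have h1 : Nat.card (Subgroup.centralizer ((commutator P : Subgroup P) : Set P)) ∣ p ^ 4 :=
      hcard ▸ Subgroup.card_subgroup_dvd_card _
    obtain ⟨m, hm, hm'⟩ := (Nat.dvd_prime_pow hp).mp h1
    have h2 := hkercard.trans (Subgroup.card_le_of_le hker)
    rw [hm'] at h2
    have hm3 : 3 ≤ m := by
      by_contra hlt
      push Not at hlt
      have := Nat.pow_lt_pow_right hp.one_lt hlt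
      omega
    rcases (by omega : m = 3 ∨ m = 4) with h | h
    · rw [hm', h]
    · exfalso
      rw [h, ← hcard] at hm'
      have htop := (Subgroup.card_eq_iff_eq_top _).mp hm'
      apply hDZ
      intro d hd
      rw [Subgroup.mem_center_iff]
      intro g
      have hg : g ∈ Subgroup.centralizer ((commutator P : Subgroup P) : Set P) := by
        rw [htop]; exact Subgroup.mem_top g
      exact (Subgroup.mem_centralizer_iff.mp hg d hd).symm
  exact charChain4_of hcard (Subgroup.center P) (commutator P)
    (Subgroup.centralizer ((commutator P : Subgroup P) : Set P)) hZ hD hM hZD hDC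
    (fun α x hx => center_char α x hx) (fun α x hx => char_mem (commutator P) α hx)
    (fun α x hx => centralizer_char (commutator P) (fun β y hy => char_mem (commutator P) β hy) α hx)

end Cfsg.Agent.Lib.Helper27.P4
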