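import Mathlib
import Cfsg.Agent.Lib.Helper27.P4B
import Cfsg.Agent.Lib.Helper1.Extraspecial

/-!
# Groups of order `p⁴`: three-generator nonabelian groups, basics and the case `p` odd of exponent `p²`
-/

set_option autoImplicit false

namespace Cfsg.Agent.Lib.Helper27.P4

open Cfsg Cfsg.Agent.Lib.Helper27
open scoped commutatorElement

variable {P : Type*} [Group P]

/-- nonabelian groups of order `p⁴` with Frattini subgroup of order `p` -/
theorem d3_basic [Finite P] {p : ℕ} [Fact p.Prime] (hcard : Nat.card P = p ^ 4)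
    (hnc : ¬ ∀ x y : P, x * y = y * x) (hΦ : Nat.card (frattini P) = p) :
    commutator P = frattini P ∧ Nat.card (Subgroup.center P) = p ^ 2 ∧
      commutator P ≤ Subgroup.center P := by
  have hp : p.Prime := Fact.out
  have hP : IsPGroup p P := IsPGroup.of_card hcard
  have hle := Cfsg.Agent.Lib.Helper1.IsPGroup.commutator_le_frattini hP
  have hne : commutator P ≠ ⊥ := by
    intro h
    apply hnc
    rw [commutator_eq_bot_iff_center_eq_top] at h
    exact Cfsg.Agent.Lib.Helper1.OrderP4.comm_of_center_eq_top h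
  have hD : Nat.card (commutator P) = p := by
    have h1 : Nat.card (commutator P) ∣ p := by
      rw [← hΦ]
      exact Subgroup.card_dvd_of_le hle
    rcases (Nat.dvd_prime hp).mp h1 with h | h
    · exact absurd (Subgroup.card_eq_one.mp h) hne
    · exact h
  have heq : commutator P = frattini P := Subgroup.eq_of_le_of_card_ge hle (by rw [hΦ, hD])
  have hidx := Cfsg.Agent.Lib.Helper1.OrderP4.index_center_of_card_commutator hcard hD
  have hZ : Nat.card (Subgroup.center P) = p ^ 2 := by
    have h1 := Subgroup.card_mul_index (Subgroup.center P)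
    rw [hidx, hcard] at h1
    have h2 : Nat.card (Subgroup.center P) * p ^ 2 = p ^ 2 * p ^ 2 := by rw [h1]; ring
    exact Nat.eq_of_mul_eq_mul_right (pow_pos hp.pos 2) h2
  exact ⟨heq, hZ, Cfsg.Agent.Lib.Helper1.le_center_of_normal_of_card_prime hP _ hD⟩

/-- a noncyclic group of order `p²` has exponent `p` -/
theorem pow_eq_one_of_not_cyclic {Z : Type*} [Group Z] [Finite Z] {p : ℕ} [Fact p.Prime]
    (hZ : Nat.card Z = p ^ 2) (hnc : ¬ IsCyclic Z) (z : Z) : z ^ p = 1 := by
  have hp : p.Prime := Fact.out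
  have h1 : orderOf z ∣ p ^ 2 := hZ ▸ orderOf_dvd_natCard z
  obtain ⟨m, hm, hm'⟩ := (Nat.dvd_prime_pow hp).mp h1
  interval_cases m
  · rw [pow_zero, orderOf_eq_one_iff] at hm'
    rw [hm', one_pow]
  · rw [pow_one] at hm'
    rw [← hm']
    exact pow_orderOf_eq_one z
  · exfalso
    apply hnc
    exact isCyclic_of_orderOf_eq_card z (by rw [hm', hZ])

/-- the `p`-th power map of a group of class two with derived subgroup of exponent `p`, `p` odd -/
def powHomOfClassTwo {p : ℕ} [Fact p.Prime] (hp2 : p ≠ 2) (hDZ : commutator P ≤ Subgroup.center P)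
    (hexp : ∀ c ∈ commutator P, c ^ p = 1) : P →* P where
  toFun x := x ^ p
  map_one' := one_pow p
  map_mul' x y := by
    have hp : p.Prime := Fact.out
    have hc : ⁅y, x⁆ ∈ commutator P :=
      Subgroup.commutator_mem_commutator (Subgroup.mem_top y) (Subgroup.mem_top x)
    have hcZ := hDZ hc
    have h1 := Cfsg.Agent.Lib.Helper1.mul_pow_of_commutator_central (x := x) (y := y)
      ((Subgroup.mem_center_iff.mp hcZ x).symm) ((Subgroup.mem_center_iff.mp hcZ y).symm) p
    have h2 : p ∣ p.choose 2 :=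
      hp.dvd_choose_self (by norm_num) (lt_of_le_of_ne hp.two_le (Ne.symm hp2))
    obtain ⟨k, hk⟩ := h2
    rw [h1, hk, pow_mul, hexp _ hc, one_pow, mul_one]

/-- `p` odd: class two, centre of order `p²` and exponent `p`, some element of order `p²` -/
theorem chain_of_exponent_sq [Finite P] {p : ℕ} [Fact p.Prime] (hp2 : p ≠ 2)
    (hcard : Nat.card P = p ^ 4) (hΦ : Nat.card (frattini P) = p)
    (hD : commutator P = frattini P) (hDZ : commutator P ≤ Subgroup.center P)
    (hZ : Nat.card (Subgroup.center P) = p ^ 2) (hZexp : ∀ z ∈ Subgroup.center P, z ^ p = 1)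
    (hne : ∃ x : P, x ^ p ≠ 1) : CharChain4 p P := by
  have hp : p.Prime := Fact.out
  have hP : IsPGroup p P := IsPGroup.of_card hcard
  have hDcard : Nat.card (commutator P) = p := by rw [hD, hΦ]
  have hexp : ∀ c ∈ commutator P, c ^ p = 1 := fun c hc => hZexp c (hDZ hc)
  obtain ⟨ψ, hψ⟩ : ∃ ψ : P →* P, ∀ x, ψ x = x ^ p := ⟨powHomOfClassTwo hp2 hDZ hexp, fun x => rfl⟩
  have hrange : ψ.range ≤ frattini P := by
    rintro _ ⟨x, rfl⟩
    rw [hψ]
    exact Cfsg.Agent.Lib.Helper1.IsPGroup.pow_mem_frattini hP x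
  have hrcard : Nat.card ψ.range = p := by
    have h1 : Nat.card ψ.range ∣ p := by
      rw [← hΦ]
      exact Subgroup.card_dvd_of_le hrange
    rcases (Nat.dvd_prime hp).mp h1 with h | h
    · exfalso
      obtain ⟨x, hx⟩ := hne
      have h2 := Subgroup.card_eq_one.mp h
      have h3 : ψ x ∈ ψ.range := ⟨x, rfl⟩
      rw [h2, Subgroup.mem_bot, hψ] at h3
      exact hx h3
    · exact h
  have hkcard : Nat.card ψ.ker = p ^ 3 := by
    have h1 := Subgroup.card_eq_card_quotient_mul_card_subgroup ψ.ker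
    have h2 : Nat.card (P ⧸ ψ.ker) = Nat.card ψ.range :=
      Nat.card_congr (QuotientGroup.quotientKerEquivRange _).toEquiv
    rw [h2, hrcard, hcard] at h1
    have h3 : p * Nat.card ψ.ker = p * p ^ 3 := by rw [← h1]; ring
    exact Nat.eq_of_mul_eq_mul_left hp.pos h3
  have hZker : Subgroup.center P ≤ ψ.ker := by
    intro z hz
    rw [MonoidHom.mem_ker, hψ]
    exact hZexp z hz
  refine charChain4_of hcard (commutator P) (Subgroup.center P) ψ.ker hDcard hZ hkcard hDZ hZker
    (fun α x hx => char_mem (commutator P) α hx) (fun α x hx => center_char α x hx) ?_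
  intro α x hx
  rw [MonoidHom.mem_ker, hψ] at hx ⊢
  rw [← map_pow, hx, map_one]

end Cfsg.Agent.Lib.Helper27.P4
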