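import Mathlib
import Cfsg.Agent.Lib.Helper27.P4C
import Cfsg.Agent.Lib.Helper27.EssentialChain
import Cfsg.Agent.Lib.Helper3.QuatHom

/-!
# Groups of order `16` with Frattini subgroup of order `2` and noncyclic centre
-/

set_option autoImplicit false

namespace Cfsg.Agent.Lib.Helper27.P4

open Cfsg Cfsg.Agent.Lib.Helper27
open scoped commutatorElement

variable {P : Type*} [Group P]

/-- a subgroup of index two in another: every element lies in it up to a fixed outside element -/
theorem mem_or_mul_mem [Finite P] {A B : Subgroup P} (hAB : A ≤ B)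
    (hcard : Nat.card B = 2 * Nat.card A) {b : P} (hbB : b ∈ B) (hbA : b ∉ A) {a : P} (ha : a ∈ B) :
    a ∈ A ∨ a * b ∈ A := by
  have hidx : (A.subgroupOf B).index = 2 := relIndex_eq_of_card_eq_mul hAB hcard
  by_cases haA : a ∈ A
  · exact Or.inl haA
  right
  have h1 : (⟨a, ha⟩ : B) * ⟨b, hbB⟩ ∈ A.subgroupOf B :=
    (Subgroup.mul_mem_iff_of_index_two hidx).mpr
      ⟨fun h => absurd (Subgroup.mem_subgroupOf.mp h) haA,
        fun h => absurd (Subgroup.mem_subgroupOf.mp h) hbA⟩
  exact Subgroup.mem_subgroupOf.mp h1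

/-- the homomorphism from the cyclic group of order two given by an involution -/
def invHom (w : P) (hw : w ^ 2 = 1) : Multiplicative (ZMod 2) →* P where
  toFun k := w ^ (Multiplicative.toAdd k).val
  map_one' := by
    show w ^ (0 : ZMod 2).val = 1
    rw [ZMod.val_zero, pow_zero]
  map_mul' k l := by
    show w ^ (Multiplicative.toAdd k + Multiplicative.toAdd l).val =
      w ^ (Multiplicative.toAdd k).val * w ^ (Multiplicative.toAdd l).val
    rw [← pow_add, ZMod.val_add, ← pow_eq_pow_mod _ hw]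

theorem invHom_one (w : P) (hw : w ^ 2 = 1) : invHom w hw (Multiplicative.ofAdd 1) = w := by
  show w ^ (1 : ZMod 2).val = w
  have : (1 : ZMod 2).val = 1 := rfl
  rw [this, pow_one]

/-- the case `p = 2` of three-generator nonabelian groups of order `p⁴` with noncyclic centre -/
theorem chain_or_quaternion [Finite P] (hcard : Nat.card P = 2 ^ 4)
    (hΦ : Nat.card (frattini P) = 2) (hD : commutator P = frattini P)
    (hDZ : commutator P ≤ Subgroup.center P) (hZ : Nat.card (Subgroup.center P) = 2 ^ 2)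
    (hZexp : ∀ z ∈ Subgroup.center P, z ^ 2 = 1) :
    CharChain4 2 P ∨ Nonempty (P ≃* QuaternionGroup 2 × Multiplicative (ZMod 2)) := by
  haveI : Fact (Nat.Prime 2) := ⟨Nat.prime_two⟩
  have hP : IsPGroup 2 P := IsPGroup.of_card hcard
  obtain ⟨Z, hZdef⟩ : ∃ Z : Subgroup P, Z = Subgroup.center P := ⟨_, rfl⟩
  obtain ⟨Φ, hΦdef⟩ : ∃ Φ : Subgroup P, Φ = frattini P := ⟨_, rfl⟩
  have hΦ2 : Nat.card Φ = 2 := by rw [hΦdef]; exact hΦ
  have hZ4 : Nat.card Z = 4 := by rw [hZdef, hZ]; norm_num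
  have hΦZ : Φ ≤ Z := by rw [hΦdef, hZdef, ← hD]; exact hDZ
  have hsq : ∀ u : P, u ^ 2 ∈ Φ := by
    intro u
    rw [hΦdef]
    exact Cfsg.Agent.Lib.Helper1.IsPGroup.pow_mem_frattini hP u
  have hcm : ∀ u v : P, ⁅u, v⁆ ∈ Φ := by
    intro u v
    rw [hΦdef, ← hD, commutator_def]
    exact Subgroup.commutator_mem_commutator (Subgroup.mem_top u) (Subgroup.mem_top v)
  have hZcomm : ∀ w ∈ Z, ∀ g : P, g * w = w * g := by
    intro w hw g
    rw [hZdef] at hw
    exact Subgroup.mem_center_iff.mp hw g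
  have hZsq : ∀ w ∈ Z, w ^ 2 = 1 := by
    intro w hw
    rw [hZdef] at hw
    exact hZexp w hw
  -- the involution generating `Φ`
  obtain ⟨c, hcΦ, hc1⟩ : ∃ c ∈ Φ, c ≠ 1 := by
    rcases Subgroup.bot_or_exists_ne_one Φ with h | h
    · rw [h, Subgroup.card_bot] at hΦ2; omega
    · exact h
  have hΦall : ∀ w ∈ Φ, w = 1 ∨ w = c := by
    intro w hw
    obtain ⟨y₀, -, huniq⟩ := (Nat.card_eq_two_iff' (1 : Φ)).mp hΦ2
    by_cases hw1 : w = 1
    · exact Or.inl hw1
    right
    have h1 : (⟨w, hw⟩ : Φ) = y₀ := huniq _ (fun h => hw1 (congrArg Subtype.val h))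
    have h2 : (⟨c, hcΦ⟩ : Φ) = y₀ := huniq _ (fun h => hc1 (congrArg Subtype.val h))
    exact congrArg Subtype.val (h1.trans h2.symm)
  have hcZ : c ∈ Z := hΦZ hcΦ
  have hcc : c ^ 2 = 1 := hZsq c hcZ
  -- an element of order 4
  obtain ⟨x, hx2⟩ : ∃ x : P, x ^ 2 ≠ 1 := by
    by_contra hcon
    push Not at hcon
    have hinv : ∀ a : P, a⁻¹ = a := fun a =>
      inv_eq_of_mul_eq_one_right (by rw [← pow_two]; exact hcon a)
    have hcomm : ∀ a b : P, a * b = b * a := by
      intro a b
      have h1 : (a * b)⁻¹ = a * b := hinv _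
      rw [mul_inv_rev, hinv, hinv] at h1
      exact h1.symm
    have htop : Subgroup.center P = ⊤ := by
      rw [Subgroup.eq_top_iff']
      intro g
      rw [Subgroup.mem_center_iff]
      intro h; exact hcomm h g
    rw [hZdef, htop, Subgroup.card_top, hcard] at hZ4
    omega
  have hxc : x ^ 2 = c := by
    rcases hΦall _ (hsq x) with h | h
    · exact absurd h hx2
    · exact h
  have hx4 : x ^ 4 = 1 := by
    have : x ^ 4 = (x ^ 2) ^ 2 := by rw [← pow_mul]
    rw [this, hxc, hcc]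
  have hxinv : x⁻¹ = x ^ 3 := by
    apply inv_eq_of_mul_eq_one_right
    rw [← pow_succ', hx4]
  have hxnZ : x ∉ Z := fun h => hx2 (hZsq x h)
  -- the centralizer of `x`
  obtain ⟨C, hCdef⟩ : ∃ C : Subgroup P, C = Subgroup.centralizer {x} := ⟨_, rfl⟩
  have hCmem : ∀ g : P, g ∈ C ↔ g * x = x * g := by
    intro g
    rw [hCdef, Subgroup.mem_centralizer_singleton_iff]
  have hxC : x ∈ C := (hCmem x).mpr rfl
  have hZC : Z ≤ C := fun w hw => (hCmem w).mpr ((hZcomm w hw x).symm)
  have hcomm_of : ∀ u : P, ⁅u, x⁆ = 1 → u ∈ C := by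
    intro u h
    rw [hCmem]
    exact commutatorElement_eq_one_iff_mul_comm.mp h
  have hcomm_c : ∀ u : P, u ∉ C → ⁅u, x⁆ = c := by
    intro u hu
    rcases hΦall _ (hcm u x) with h | h
    · exact absurd (hcomm_of u h) hu
    · exact h
  -- elements outside `C` invert `x`
  have N1 : ∀ y : P, y ∉ C → y * x * y⁻¹ = x⁻¹ := by
    intro y hy
    have h := hcomm_c y hy
    rw [commutatorElement_def] at h
    calc y * x * y⁻¹ = (y * x * y⁻¹ * x⁻¹) * x := by group
      _ = c * x := by rw [h]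
      _ = x ^ 3 := by rw [← hxc, ← pow_succ]
      _ = x⁻¹ := hxinv.symm
  obtain ⟨y₁, hy₁⟩ : ∃ y : P, y ∉ C := by
    by_contra hcon
    push Not at hcon
    apply hxnZ
    rw [hZdef, Subgroup.mem_center_iff]
    intro g
    exact (hCmem g).mp (hcon g)
  have hCidx : C.index = 2 := by
    rw [Subgroup.index_eq_two_iff]
    refine ⟨y₁, fun b => ?_⟩
    have hmul : ∀ u v : P, ⁅u * v, x⁆ = ⁅u, x⁆ * ⁅v, x⁆ := by
      intro u v
      have hcen := hZcomm _ (hΦZ (hcm v x))
      rw [commutatorElement_def, commutatorElement_def, commutatorElement_def]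
      calc u * v * x * (u * v)⁻¹ * x⁻¹ = u * (v * x * v⁻¹ * x⁻¹) * x * u⁻¹ * x⁻¹ := by group
        _ = (v * x * v⁻¹ * x⁻¹) * u * x * u⁻¹ * x⁻¹ := by
          rw [← commutatorElement_def, hcen u]
        _ = u * x * u⁻¹ * x⁻¹ * (v * x * v⁻¹ * x⁻¹) := by
          rw [← commutatorElement_def]
          have := hcen (u * x * u⁻¹ * x⁻¹)
          rw [this]; group
    by_cases hb : b ∈ C
    · right
      refine ⟨hb, fun h => ?_⟩
      exact hy₁ ((Subgroup.mul_mem_cancel_left C hb).mp h)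
    · left
      refine ⟨?_, hb⟩
      apply hcomm_of
      rw [hmul, hcomm_c b hb, hcomm_c y₁ hy₁, ← pow_two, hcc]
  have hC8 : Nat.card C = 8 := by
    have h1 := Subgroup.card_mul_index C
    rw [hCidx, hcard] at h1
    omega
  have hCel : ∀ a ∈ C, a ∈ Z ∨ a * x ∈ Z := fun a ha =>
    mem_or_mul_mem hZC (by rw [hC8, hZ4]) hxC hxnZ ha
  have hsqC : ∀ a ∈ C, a ∉ Z → a ^ 2 = c := by
    intro a ha haZ
    rcases hCel a ha with h | h
    · exact absurd h haZ
    · have h1 := hZsq _ h
      have h2 : (a * x) ^ 2 = a ^ 2 * x ^ 2 := by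
        rw [pow_two, pow_two, pow_two]
        calc a * x * (a * x) = a * (x * a) * x := by group
          _ = a * (a * x) * x := by rw [← (hCmem a).mp ha]
          _ = a * a * (x * x) := by group
      rw [h2, hxc] at h1
      calc a ^ 2 = a ^ 2 * c * c := by rw [mul_assoc, ← pow_two, hcc, mul_one]
        _ = c := by rw [h1, one_mul]
  have N2 : ∀ y : P, y ∉ C → ∀ a ∈ C, y * a * y⁻¹ = a⁻¹ := by
    intro y hy a ha
    rcases hCel a ha with h | h
    · have h1 := hZcomm a h y
      have h2 : a⁻¹ = a := inv_eq_of_mul_eq_one_right (by rw [← pow_two]; exact hZsq a h)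
      rw [h2, h1, mul_inv_cancel_right]
    · have h1 := hZcomm _ h y
      have h2 : (a * x)⁻¹ = a * x := inv_eq_of_mul_eq_one_right (by rw [← pow_two]; exact hZsq _ h)
      have h3 : y * (a * x) * y⁻¹ = a * x := by rw [h1, mul_inv_cancel_right]
      have h4 : y * a * y⁻¹ = (y * (a * x) * y⁻¹) * (y * x * y⁻¹)⁻¹ := by group
      rw [h4, h3, N1 y hy, inv_inv]
      have hax := (hCmem a).mp ha
      calc a * x * x = (a * x) * (a * x) * a⁻¹ := by rw [mul_assoc (a * x), hax]; group
        _ = a⁻¹ := by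
          rw [← pow_two, hZsq _ h, one_mul]
  have hΦchar : ∀ α : P ≃* P, ∀ w ∈ Φ, α w ∈ Φ := by
    intro α w hw
    rw [hΦdef] at hw ⊢
    exact char_mem (frattini P) α hw
  have hZchar : ∀ α : P ≃* P, ∀ w ∈ Z, α w ∈ Z := by
    intro α w hw
    rw [hZdef] at hw ⊢
    exact center_char α w hw
  by_cases hinv : ∃ y : P, y ∉ Z ∧ y ^ 2 = 1
  · -- `C` is characteristic
    left
    obtain ⟨y, hyZ, hy2⟩ := hinv
    have hyC : y ∉ C := by
      intro hy
      have := hsqC y hy hyZ
      rw [hy2] at this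
      exact hc1 this.symm
    have hCall : ∀ u : P, u ^ 2 ≠ 1 → u ∈ C := by
      intro u hu
      by_contra huC
      apply hu
      have h1 : u * y ∈ C :=
        (Subgroup.mul_mem_iff_of_index_two hCidx).mpr ⟨fun h => absurd h huC, fun h => absurd h hyC⟩
      have h2 := N2 y hyC _ h1
      have h3 : u = (u * y) * y := by
        rw [mul_assoc, ← pow_two, hy2, mul_one]
      calc u ^ 2 = u * u := pow_two u
        _ = (u * y) * y * ((u * y) * y) := by rw [← h3]
        _ = (u * y) * (y * (u * y) * y⁻¹) * (y * y) := by group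
        _ = (u * y) * (u * y)⁻¹ * (y * y) := by rw [h2]
        _ = 1 := by rw [mul_inv_cancel, one_mul, ← pow_two, hy2]
    have hCchar : ∀ α : P ≃* P, ∀ a ∈ C, α a ∈ C := by
      intro α a ha
      have hαx : α x ∈ C := by
        apply hCall
        intro h
        apply hx2
        apply α.injective
        rw [map_pow, h, map_one]
      rcases hCel a ha with h | h
      · exact hZC (hZchar α a h)
      · have h1 := hZC (hZchar α _ h)
        rw [map_mul] at h1
        exact (Subgroup.mul_mem_cancel_right C hαx).mp h1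
    exact charChain4_of hcard Φ Z C hΦ2 (by rw [hZ4]; norm_num) (by rw [hC8]; norm_num) hΦZ hZC
      hΦchar hZchar hCchar
  · -- quaternion case
    right
    push Not at hinv
    have hyZ : y₁ ∉ Z := fun h => hy₁ (hZC h)
    have hy2 : y₁ ^ 2 = x ^ 2 := by
      rcases hΦall _ (hsq y₁) with h | h
      · exact absurd h (hinv y₁ hyZ)
      · rw [h, hxc]
    obtain ⟨f, hfa, hfx⟩ : ∃ f : QuaternionGroup 2 →* P,
        f (QuaternionGroup.a 1) = x ∧ f (QuaternionGroup.xa 0) = y₁ :=
      ⟨Cfsg.Agent.Lib.Helper3.QuatHom.quatHom x y₁ hx4 hy2 (N1 y₁ hy₁),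
        Cfsg.Agent.Lib.Helper3.QuatHom.quatHom_a_one x y₁ hx4 hy2 (N1 y₁ hy₁),
        Cfsg.Agent.Lib.Helper3.QuatHom.quatHom_xa_zero x y₁ hx4 hy2 (N1 y₁ hy₁)⟩
    obtain ⟨w, hwZ, hwΦ⟩ : ∃ w ∈ Z, w ∉ Φ := by
      by_contra hcon
      push Not at hcon
      have h1 : Z ≤ Φ := hcon
      have h2 := Subgroup.card_le_of_le h1
      omega
    obtain ⟨g, hg⟩ : ∃ g : Multiplicative (ZMod 2) →* P, g (Multiplicative.ofAdd 1) = w :=
      ⟨invHom w (hZsq w hwZ), invHom_one w (hZsq w hwZ)⟩
    have hgZ : ∀ k, g k ∈ Z := by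
      intro k
      have h1 : k = Multiplicative.ofAdd 1 ^ (Multiplicative.toAdd k).val := by
        rw [← ofAdd_nsmul]
        simp
      rw [h1, map_pow, hg]
      exact Z.pow_mem hwZ _
    obtain ⟨F, hF⟩ : ∃ F : QuaternionGroup 2 × Multiplicative (ZMod 2) →* P,
        ∀ q k, F (q, k) = f q * g k :=
      ⟨MonoidHom.noncommCoprod f g (fun q k => (hZcomm _ (hgZ k) (f q))),
        fun q k => MonoidHom.noncommCoprod_apply' _ _ _ _ |>.trans (by
          exact (hZcomm _ (hgZ k) (f q)).symm)⟩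
    have hxR : x ∈ F.range := ⟨(QuaternionGroup.a 1, 1), by rw [hF, hfa, map_one, mul_one]⟩
    have hyR : y₁ ∈ F.range := ⟨(QuaternionGroup.xa 0, 1), by rw [hF, hfx, map_one, mul_one]⟩
    have hwR : w ∈ F.range := ⟨(1, Multiplicative.ofAdd 1), by rw [hF, hg, map_one, one_mul]⟩
    have hΦR : Φ ≤ F.range := by
      intro u hu
      rcases hΦall u hu with h | h
      · rw [h]; exact Subgroup.one_mem _
      · rw [h, ← hxc]; exact Subgroup.pow_mem _ hxR 2
    have hZR : Z ≤ F.range := by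
      intro u hu
      rcases mem_or_mul_mem hΦZ (by rw [hZ4, hΦ2]) hwZ hwΦ hu with h | h
      · exact hΦR h
      · exact (Subgroup.mul_mem_cancel_right _ hwR).mp (hΦR h)
    have hCR : C ≤ F.range := by
      intro u hu
      rcases hCel u hu with h | h
      · exact hZR h
      · exact (Subgroup.mul_mem_cancel_right _ hxR).mp (hZR h)
    have hsurj : Function.Surjective F := by
      intro u
      by_cases hu : u ∈ C
      · exact hCR hu
      · have h1 : u * y₁ ∈ C :=
          (Subgroup.mul_mem_iff_of_index_two hCidx).mpr ⟨fun h => absurd h hu, fun h => absurd h hy₁⟩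
        exact (Subgroup.mul_mem_cancel_right _ hyR).mp (hCR h1)
    have hcardQ : Nat.card (QuaternionGroup 2 × Multiplicative (ZMod 2)) = 16 := by
      rw [Nat.card_prod, Nat.card_eq_fintype_card, QuaternionGroup.card]
      have : Nat.card (Multiplicative (ZMod 2)) = 2 := by
        rw [Nat.card_eq_fintype_card]
        exact ZMod.card 2
      rw [this]
    have hbij : Function.Bijective F :=
      hsurj.bijective_of_nat_card_le (by rw [hcardQ, hcard]; norm_num)
    exact ⟨(MulEquiv.ofBijective F hbij).symm⟩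

end Cfsg.Agent.Lib.Helper27.P4
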