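import Mathlib
import Cfsg.Agent.Lib.Helper27.P4D
import Cfsg.Agent.Lib.Helper16.Heis

/-!
# Groups of order `p⁴` of exponent `p` and class two with derived subgroup of order `p`
-/

set_option autoImplicit false

namespace Cfsg.Agent.Lib.Helper27.P4

open Cfsg Cfsg.Agent.Lib.Helper27
open scoped commutatorElement

variable {P : Type*} [Group P]

theorem zp_add {p : ℕ} [Fact p.Prime] {x : P} (hx : x ^ p = 1) (c d : ZMod p) :
    x ^ (c + d).val = x ^ c.val * x ^ d.val := by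
  rw [ZMod.val_add, ← pow_add, ← pow_eq_pow_mod _ hx]

theorem zp_mul {p : ℕ} [Fact p.Prime] {x : P} (hx : x ^ p = 1) (c d : ZMod p) :
    x ^ (c * d).val = (x ^ c.val) ^ d.val := by
  rw [ZMod.val_mul, ← pow_mul, ← pow_eq_pow_mod _ hx]

theorem zp_natCast {p : ℕ} [Fact p.Prime] {x : P} (hx : x ^ p = 1) (n : ℕ) :
    x ^ ((n : ZMod p)).val = x ^ n := by
  rw [ZMod.val_natCast, ← pow_eq_pow_mod _ hx]

theorem zp_eq_zero_of_mem {p : ℕ} [Fact p.Prime] {x : P} (hx : x ^ p = 1) (L : Subgroup P)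
    (hxL : x ∉ L) (c : ZMod p) (h : x ^ c.val ∈ L) : c = 0 := by
  by_contra hc
  apply hxL
  have h1 : x = (x ^ c.val) ^ (c⁻¹).val := by
    rw [← zp_mul hx, mul_inv_cancel₀ hc, ZMod.val_one, pow_one]
  rw [h1]
  exact L.pow_mem h _

theorem zp_sub {p : ℕ} [Fact p.Prime] {x : P} (hx : x ^ p = 1) (c d : ZMod p) :
    x ^ (c - d).val = x ^ c.val * (x ^ d.val)⁻¹ := by
  apply eq_mul_inv_of_mul_eq
  rw [← zp_add hx, sub_add_cancel]

theorem zp_inj {p : ℕ} [Fact p.Prime] {x : P} (hx : x ^ p = 1) (hx1 : x ≠ 1) {c d : ZMod p}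
    (h : x ^ c.val = x ^ d.val) : c = d := by
  apply sub_eq_zero.mp
  apply zp_eq_zero_of_mem hx ⊥ (by rw [Subgroup.mem_bot]; exact hx1)
  rw [zp_sub hx, h, mul_inv_cancel]
  exact Subgroup.one_mem _

theorem swap_pow_one {X Y c : P} (hc : ∀ g : P, c * g = g * c) (h : X * Y = Y * X * c) (j : ℕ) :
    X * Y ^ j = Y ^ j * X * c ^ j := by
  induction j with
  | zero => simp
  | succ j ih =>
    have hcj : c ^ j * Y = Y * c ^ j := (Commute.pow_left (hc Y) j).eq
    calc X * Y ^ (j + 1) = (X * Y ^ j) * Y := by rw [pow_succ, mul_assoc]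
      _ = Y ^ j * X * c ^ j * Y := by rw [ih]
      _ = Y ^ j * X * (c ^ j * Y) := by rw [mul_assoc]
      _ = Y ^ j * (X * Y) * c ^ j := by rw [hcj]; simp only [mul_assoc]
      _ = Y ^ j * (Y * X * c) * c ^ j := by rw [h]
      _ = Y ^ (j + 1) * X * c ^ (j + 1) := by rw [pow_succ, pow_succ']; simp only [mul_assoc]

theorem swap_pow {X Y c : P} (hc : ∀ g : P, c * g = g * c) (h : X * Y = Y * X * c) (i j : ℕ) :
    X ^ i * Y ^ j = Y ^ j * X ^ i * c ^ (i * j) := by
  induction i with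
  | zero => simp
  | succ i ih =>
    have hcX : c ^ (i * j) * X = X * c ^ (i * j) := (Commute.pow_left (hc X) _).eq
    calc X ^ (i + 1) * Y ^ j = X * (X ^ i * Y ^ j) := by rw [pow_succ', mul_assoc]
      _ = X * (Y ^ j * X ^ i * c ^ (i * j)) := by rw [ih]
      _ = (X * Y ^ j) * X ^ i * c ^ (i * j) := by simp only [mul_assoc]
      _ = Y ^ j * X * c ^ j * X ^ i * c ^ (i * j) := by rw [swap_pow_one hc h]
      _ = Y ^ j * X * (c ^ j * X ^ i) * c ^ (i * j) := by simp only [mul_assoc]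
      _ = Y ^ j * X * (X ^ i * c ^ j) * c ^ (i * j) := by
        rw [(Commute.pow_pow (hc X) j i).eq]
      _ = Y ^ j * (X * X ^ i) * (c ^ j * c ^ (i * j)) := by simp only [mul_assoc]
      _ = Y ^ j * X ^ (i + 1) * c ^ ((i + 1) * j) := by
        rw [← pow_succ', ← pow_add]
        congr 2
        ring

/-- the coordinate rule for groups of class two -/
theorem coord_rule {p : ℕ} [Fact p.Prime] {X Y c w : P} (hc : ∀ g : P, c * g = g * c)
    (hw : ∀ g : P, w * g = g * w) (h : X * Y = Y * X * c) (hX : X ^ p = 1) (hY : Y ^ p = 1)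
    (hcp : c ^ p = 1) (hwp : w ^ p = 1) (a x y k a' x' y' k' : ZMod p) :
    (Y ^ y.val * X ^ a.val * c ^ x.val * w ^ k.val) *
      (Y ^ y'.val * X ^ a'.val * c ^ x'.val * w ^ k'.val) =
    Y ^ (y + y').val * X ^ (a + a').val * c ^ (x + x' + a * y').val * w ^ (k + k').val := by
  have hcc : ∀ (n : ℕ) (g : P), c ^ n * g = g * c ^ n := fun n g => (Commute.pow_left (hc g) n).eq
  have hww : ∀ (n : ℕ) (g : P), w ^ n * g = g * w ^ n := fun n g => (Commute.pow_left (hw g) n).eq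
  rw [zp_add hY, zp_add hX, zp_add hcp, zp_add hcp, zp_add hwp, zp_mul hcp, ← pow_mul]
  have h1 := swap_pow hc h a.val y'.val
  calc (Y ^ y.val * X ^ a.val * c ^ x.val * w ^ k.val) *
        (Y ^ y'.val * X ^ a'.val * c ^ x'.val * w ^ k'.val)
      = Y ^ y.val * X ^ a.val * (c ^ x.val * (w ^ k.val *
          (Y ^ y'.val * X ^ a'.val))) * c ^ x'.val * w ^ k'.val := by simp only [mul_assoc]
    _ = Y ^ y.val * X ^ a.val * ((Y ^ y'.val * X ^ a'.val) * c ^ x.val * w ^ k.val)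
          * c ^ x'.val * w ^ k'.val := by
        rw [hww, ← mul_assoc (c ^ x.val), hcc]
    _ = Y ^ y.val * (X ^ a.val * Y ^ y'.val) * X ^ a'.val * c ^ x.val * (w ^ k.val
          * c ^ x'.val) * w ^ k'.val := by simp only [mul_assoc]
    _ = Y ^ y.val * (Y ^ y'.val * X ^ a.val * c ^ (a.val * y'.val)) * X ^ a'.val * c ^ x.val *
          (c ^ x'.val * w ^ k.val) * w ^ k'.val := by rw [h1, hww]
    _ = Y ^ y.val * Y ^ y'.val * X ^ a.val * (c ^ (a.val * y'.val) * (X ^ a'.val * c ^ x.val *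
          c ^ x'.val)) * w ^ k.val * w ^ k'.val := by simp only [mul_assoc]
    _ = Y ^ y.val * Y ^ y'.val * X ^ a.val * ((X ^ a'.val * c ^ x.val *
          c ^ x'.val) * c ^ (a.val * y'.val)) * w ^ k.val * w ^ k'.val := by rw [hcc]
    _ = _ := by simp only [mul_assoc]

/-- groups of order `p⁴` and exponent `p` with derived subgroup of order `p` inside the centre of
order `p²` are the product of the Heisenberg group with a group of order `p` -/
theorem iso_heis_prod [Finite P] {p : ℕ} [Fact p.Prime] (hcard : Nat.card P = p ^ 4)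
    (hexp : ∀ g : P, g ^ p = 1) (hDZ : commutator P ≤ Subgroup.center P)
    (hD : Nat.card (commutator P) = p) (hZ : Nat.card (Subgroup.center P) = p ^ 2) :
    Nonempty (P ≃* ↥(Cfsg.Agent.Lib.Helper16.affS (ZMod p)) × Multiplicative (ZMod p)) := by
  have hp : p.Prime := Fact.out
  haveI : NeZero p := ⟨hp.ne_zero⟩
  -- two noncommuting elements
  obtain ⟨X, Y, hXY⟩ : ∃ X Y : P, X * Y ≠ Y * X := by
    by_contra hcon
    push Not at hcon
    have htop : Subgroup.center P = ⊤ := by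
      rw [Subgroup.eq_top_iff']
      intro g
      rw [Subgroup.mem_center_iff]
      intro h; exact hcon h g
    rw [htop, Subgroup.card_top, hcard] at hZ
    have := Nat.pow_right_injective hp.two_le hZ
    omega
  obtain ⟨c, hcdef⟩ : ∃ c : P, c = ⁅X⁻¹, Y⁻¹⁆ := ⟨_, rfl⟩
  have hcD : c ∈ commutator P := by
    rw [hcdef, commutator_def]
    exact Subgroup.commutator_mem_commutator (Subgroup.mem_top _) (Subgroup.mem_top _)
  have hc : ∀ g : P, c * g = g * c := fun g => ((Subgroup.mem_center_iff.mp (hDZ hcD)) g).symm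
  have hrel : X * Y = Y * X * c := by
    rw [hcdef, commutatorElement_def]; group
  have hc1 : c ≠ 1 := by
    intro h
    apply hXY
    rw [hrel, h, mul_one]
  obtain ⟨w, hwZ, hwD⟩ : ∃ w ∈ Subgroup.center P, w ∉ commutator P := by
    by_contra hcon
    push Not at hcon
    have h1 : Subgroup.center P ≤ commutator P := hcon
    have h2 := Subgroup.card_le_of_le h1
    rw [hZ, hD] at h2
    have h3 : p < p ^ 2 := by
      calc p = p ^ 1 := (pow_one p).symm
        _ < p ^ 2 := Nat.pow_lt_pow_right hp.one_lt (by norm_num)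
    omega
  have hw : ∀ g : P, w * g = g * w := fun g => ((Subgroup.mem_center_iff.mp hwZ) g).symm
  -- commutator homomorphisms
  have hcen : ∀ u g : P, ⁅u, g⁆ ∈ Subgroup.center P := fun u g =>
    hDZ (by rw [commutator_def]
            exact Subgroup.commutator_mem_commutator (Subgroup.mem_top _) (Subgroup.mem_top _))
  obtain ⟨χX, hχX⟩ : ∃ χ : P →* Subgroup.center P, ∀ g, χ g = 1 ↔ X * g = g * X :=
    ⟨commHomAt X (hcen X), commHomAt_eq_one_iff X (hcen X)⟩
  obtain ⟨χY, hχY⟩ : ∃ χ : P →* Subgroup.center P, ∀ g, χ g = 1 ↔ Y * g = g * Y :=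
    ⟨commHomAt Y (hcen Y), commHomAt_eq_one_iff Y (hcen Y)⟩
  have hχp : ∀ (χ : P →* Subgroup.center P) (g : P), (χ g) ^ p = 1 := by
    intro χ g
    rw [← map_pow, hexp, map_one]
  obtain ⟨κ, hκ⟩ : ∃ κ : ZMod p × ZMod p × ZMod p × ZMod p → P, ∀ a x y k,
      κ (a, x, y, k) = Y ^ y.val * X ^ a.val * c ^ x.val * w ^ k.val :=
    ⟨fun u => Y ^ u.2.2.1.val * X ^ u.1.val * c ^ u.2.1.val * w ^ u.2.2.2.val, fun a x y k => rfl⟩
  have hχXκ : ∀ a x y k, χX (κ (a, x, y, k)) = (χX Y) ^ y.val := by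
    intro a x y k
    rw [hκ, map_mul, map_mul, map_mul, map_pow, map_pow, map_pow, map_pow,
      (hχX X).mpr rfl, (hχX c).mpr (hc X).symm, (hχX w).mpr (hw X).symm]
    simp
  have hχYκ : ∀ a x y k, χY (κ (a, x, y, k)) = (χY X) ^ a.val := by
    intro a x y k
    rw [hκ, map_mul, map_mul, map_mul, map_pow, map_pow, map_pow, map_pow,
      (hχY Y).mpr rfl, (hχY c).mpr (hc Y).symm, (hχY w).mpr (hw Y).symm]
    simp
  have hκinj : Function.Injective κ := by
    rintro ⟨a, x, y, k⟩ ⟨a', x', y', k'⟩ h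
    have hy : y = y' := by
      have h1 := congrArg χX h
      rw [hχXκ, hχXκ] at h1
      exact zp_inj (hχp χX Y) (fun h2 => hXY ((hχX Y).mp h2)) h1
    have ha : a = a' := by
      have h1 := congrArg χY h
      rw [hχYκ, hχYκ] at h1
      exact zp_inj (hχp χY X) (fun h2 => hXY ((hχY X).mp h2).symm) h1
    subst hy ha
    rw [hκ, hκ, mul_assoc, mul_assoc (Y ^ y.val * X ^ a.val)] at h
    have h1 : c ^ x.val * w ^ k.val = c ^ x'.val * w ^ k'.val := mul_left_cancel h
    have hk : k = k' := by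
      apply sub_eq_zero.mp
      apply zp_eq_zero_of_mem (hexp w) (commutator P) hwD
      rw [zp_sub (hexp w)]
      have h2 : w ^ k.val * (w ^ k'.val)⁻¹ = (c ^ x.val)⁻¹ * c ^ x'.val := by
        rw [mul_inv_eq_iff_eq_mul, mul_assoc, ← h1]; group
      rw [h2]
      exact Subgroup.mul_mem _ (Subgroup.inv_mem _ (Subgroup.pow_mem _ hcD _))
        (Subgroup.pow_mem _ hcD _)
    subst hk
    have hx : x = x' := zp_inj (hexp c) hc1 (mul_right_cancel h1)
    subst hx
    rfl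
  have hcardA : Nat.card (ZMod p × ZMod p × ZMod p × ZMod p) = p ^ 4 := by
    rw [Nat.card_prod, Nat.card_prod, Nat.card_prod, Nat.card_zmod]; ring
  have hκbij : Function.Bijective κ :=
    hκinj.bijective_of_nat_card_le (by rw [hcardA, hcard])
  obtain ⟨C⟩ : Nonempty (Cfsg.Agent.Lib.Helper16.HeisCoord (ZMod p)
      ↥(Cfsg.Agent.Lib.Helper16.affS (ZMod p))) := ⟨Cfsg.Agent.Lib.Helper16.heisCoord (ZMod p)⟩
  refine nonempty_mulEquiv_of_coord κ
    (fun u => (C.h u.1 u.2.1 u.2.2.1, Multiplicative.ofAdd u.2.2.2))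
    (fun u v => (u.1 + v.1, u.2.1 + v.2.1 + u.1 * v.2.2.1, u.2.2.1 + v.2.2.1, u.2.2.2 + v.2.2.2))
    hκbij ⟨?_, ?_⟩ ?_ ?_
  · rintro ⟨a, x, y, k⟩ ⟨a', x', y', k'⟩ h
    have h1 := congrArg Prod.fst h
    have h2 := congrArg Prod.snd h
    obtain ⟨e1, e2, e3⟩ := C.h_inj _ _ _ _ _ _ h1
    have e4 : k = k' := Multiplicative.ofAdd.injective h2
    simp only at e1 e2 e3
    rw [e1, e2, e3, e4]
  · rintro ⟨g, k⟩
    obtain ⟨a, x, y, hg⟩ := C.h_surj g
    exact ⟨(a, x, y, Multiplicative.toAdd k), by rw [hg]; rfl⟩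
  · rintro ⟨a, x, y, k⟩ ⟨a', x', y', k'⟩
    show κ (a, x, y, k) * κ (a', x', y', k') = κ (a + a', x + x' + a * y', y + y', k + k')
    rw [hκ, hκ, hκ]
    exact coord_rule hc hw hrel (hexp X) (hexp Y) (hexp c) (hexp w) a x y k a' x' y' k'
  · rintro ⟨a, x, y, k⟩ ⟨a', x', y', k'⟩
    exact Prod.ext (C.h_mul a x y a' x' y') rfl

end Cfsg.Agent.Lib.Helper27.P4
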