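import Mathlib
import Cfsg.Agent.Lib.Helper27.P4E
import Cfsg.Agent.Lib.Helper27.AbelianTwoGen

/-!
# Abelian groups of order `p⁴` with Frattini subgroup of order `p`
-/

set_option autoImplicit false

namespace Cfsg.Agent.Lib.Helper27.P4

open Cfsg Cfsg.Agent.Lib.Helper27
open scoped commutatorElement

variable {P : Type*} [Group P]

theorem zn_add {n : ℕ} [NeZero n] {x : P} (hx : x ^ n = 1) (c d : ZMod n) :
    x ^ (c + d).val = x ^ c.val * x ^ d.val := by
  rw [ZMod.val_add, ← pow_add, ← pow_eq_pow_mod _ hx]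

/-- the homomorphism `k ↦ a ^ k` from the cyclic group of order `n` -/
def cycHom {n : ℕ} [NeZero n] (a : P) (ha : a ^ n = 1) : Multiplicative (ZMod n) →* P where
  toFun k := a ^ (Multiplicative.toAdd k).val
  map_one' := by
    show a ^ (0 : ZMod n).val = 1
    rw [ZMod.val_zero, pow_zero]
  map_mul' k l := by
    show a ^ (Multiplicative.toAdd k + Multiplicative.toAdd l).val =
      a ^ (Multiplicative.toAdd k).val * a ^ (Multiplicative.toAdd l).val
    exact zn_add ha _ _

/-- the homomorphism `(i, j, k) ↦ a ^ i * b ^ j * d ^ k` -/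
def tripleHom (hc : ∀ x y : P, x * y = y * x) {n1 n2 n3 : ℕ} [NeZero n1] [NeZero n2] [NeZero n3]
    (a b d : P) (ha : a ^ n1 = 1) (hb : b ^ n2 = 1) (hd : d ^ n3 = 1) :
    Multiplicative (ZMod n1 × ZMod n2 × ZMod n3) →* P where
  toFun v := a ^ (Multiplicative.toAdd v).1.val * b ^ (Multiplicative.toAdd v).2.1.val *
    d ^ (Multiplicative.toAdd v).2.2.val
  map_one' := by
    show a ^ (0 : ZMod n1).val * b ^ (0 : ZMod n2).val * d ^ (0 : ZMod n3).val = 1
    rw [ZMod.val_zero, ZMod.val_zero, ZMod.val_zero, pow_zero, pow_zero, pow_zero, mul_one, mul_one]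
  map_mul' v w := by
    show a ^ ((Multiplicative.toAdd v).1 + (Multiplicative.toAdd w).1).val *
        b ^ ((Multiplicative.toAdd v).2.1 + (Multiplicative.toAdd w).2.1).val *
        d ^ ((Multiplicative.toAdd v).2.2 + (Multiplicative.toAdd w).2.2).val = _
    rw [zn_add ha, zn_add hb, zn_add hd]
    have e1 : ∀ s t u w s' t' : P, (s * s') * (t * t') * (u * w) = (s * t * u) * (s' * t' * w) := by
      intro s t u w s' t'
      calc (s * s') * (t * t') * (u * w) = s * (s' * t) * t' * (u * w) := by simp only [mul_assoc]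
        _ = s * (t * s') * t' * (u * w) := by rw [hc s' t]
        _ = s * t * ((s' * t') * u) * w := by simp only [mul_assoc]
        _ = s * t * (u * (s' * t')) * w := by rw [hc (s' * t') u]
        _ = _ := by simp only [mul_assoc]
    exact e1 _ _ _ _ _ _

theorem tripleHom_apply (hc : ∀ x y : P, x * y = y * x) {n1 n2 n3 : ℕ} [NeZero n1] [NeZero n2]
    [NeZero n3] (a b d : P) (ha : a ^ n1 = 1) (hb : b ^ n2 = 1) (hd : d ^ n3 = 1)
    (i : ZMod n1) (j : ZMod n2) (k : ZMod n3) :
    tripleHom hc a b d ha hb hd (Multiplicative.ofAdd (i, j, k)) = a ^ i.val * b ^ j.val * d ^ k.val :=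
  rfl

/-- abelian groups of order `p⁴` whose Frattini subgroup has order `p` -/
theorem abelian_frattini_prime [Finite P] {p : ℕ} [Fact p.Prime] (hc : ∀ x y : P, x * y = y * x)
    (hcard : Nat.card P = p ^ 4) (hΦ : Nat.card (frattini P) = p) :
    Nonempty (P ≃* Multiplicative (ZMod (p ^ 2) × ZMod p × ZMod p)) := by
  have hp : p.Prime := Fact.out
  haveI : NeZero p := ⟨hp.ne_zero⟩
  haveI : NeZero (p ^ 2) := ⟨pow_ne_zero 2 hp.ne_zero⟩
  have hP : IsPGroup p P := IsPGroup.of_card hcard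
  have hp12 : p < p ^ 2 := by
    calc p = p ^ 1 := (pow_one p).symm
      _ < p ^ 2 := Nat.pow_lt_pow_right hp.one_lt (by norm_num)
  have hp23 : p ^ 2 < p ^ 3 := Nat.pow_lt_pow_right hp.one_lt (by norm_num)
  obtain ⟨ψ, hψ⟩ : ∃ ψ : P →* P, ∀ g, ψ g = g ^ p := ⟨ATG.powHom hc p, fun g => rfl⟩
  have hrange : ψ.range ≤ frattini P := by
    rintro _ ⟨g, rfl⟩
    rw [hψ]
    exact Cfsg.Agent.Lib.Helper1.IsPGroup.pow_mem_frattini hP g
  -- an element of order `p²`
  obtain ⟨x, hx⟩ : ∃ x : P, x ^ p ≠ 1 := by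
    by_contra hcon
    push Not at hcon
    have hle : frattini P ≤ ⊥ := by
      apply Cfsg.Agent.Lib.Helper1.frattini_le_of_commutator_le_of_pow_mem (p := p)
      · rw [commutator_def, Subgroup.commutator_le]
        intro g₁ _ g₂ _
        rw [commutatorElement_def, hc g₁ g₂, mul_inv_cancel_right, mul_inv_cancel]
        exact Subgroup.one_mem _
      · intro g
        rw [hcon g]
        exact Subgroup.one_mem _
    have h1 := Subgroup.card_le_of_le hle
    rw [hΦ, Subgroup.card_bot] at h1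
    have := hp.one_lt
    omega
  obtain ⟨c, hcdef⟩ : ∃ c : P, c = x ^ p := ⟨_, rfl⟩
  have hcΦ : c ∈ frattini P := by rw [hcdef]; exact Cfsg.Agent.Lib.Helper1.IsPGroup.pow_mem_frattini hP x
  have hc1 : c ≠ 1 := by rw [hcdef]; exact hx
  have hcp : c ^ p = 1 := by
    have h1 : (⟨c, hcΦ⟩ : frattini P) ^ p = 1 := by rw [← hΦ]; exact pow_card_eq_one'
    exact congrArg Subtype.val h1
  have hxpp : x ^ (p ^ 2) = 1 := by rw [pow_two, pow_mul, ← hcdef, hcp]
  have hcord : orderOf c = p := orderOf_eq_prime hcp hc1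
  -- the kernel of the power map
  have hrcard : Nat.card ψ.range = p := by
    have h1 : Nat.card ψ.range ∣ p := by
      rw [← hΦ]
      exact Subgroup.card_dvd_of_le hrange
    rcases (Nat.dvd_prime hp).mp h1 with h | h
    · exfalso
      have h2 := Subgroup.card_eq_one.mp h
      have h3 : ψ x ∈ ψ.range := ⟨x, rfl⟩
      rw [h2, Subgroup.mem_bot, hψ] at h3
      exact hx h3
    · exact h
  have hkcard : Nat.card ψ.ker = p ^ 3 := by
    have h1 := Subgroup.card_eq_card_quotient_mul_card_subgroup ψ.ker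
    have h2 : Nat.card (P ⧸ ψ.ker) = Nat.card ψ.range :=
      Nat.card_congr (QuotientGroup.quotientKerEquivRange _).toEquiv
    rw [h2, hrcard, hcard] at h1
    have h3 : p * Nat.card ψ.ker = p * p ^ 3 := by rw [← h1]; ring
    exact Nat.eq_of_mul_eq_mul_left hp.pos h3
  have hker : ∀ g, g ∈ ψ.ker ↔ g ^ p = 1 := by
    intro g
    rw [MonoidHom.mem_ker, hψ]
  -- second generator
  obtain ⟨y, hyk, hyc⟩ : ∃ y ∈ ψ.ker, y ∉ Subgroup.zpowers c := by
    by_contra hcon
    push Not at hcon
    have h1 : ψ.ker ≤ Subgroup.zpowers c := hcon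
    have h2 := Subgroup.card_le_of_le h1
    rw [hkcard, Nat.card_zpowers, hcord] at h2
    omega
  have hyp : y ^ p = 1 := (hker y).mp hyk
  -- third generator
  obtain ⟨T₂, hT₂⟩ : ∃ T₂ : Multiplicative (ZMod p) × Multiplicative (ZMod p) →* P,
      ∀ i j : ZMod p, T₂ (Multiplicative.ofAdd i, Multiplicative.ofAdd j) = c ^ i.val * y ^ j.val :=
    ⟨MonoidHom.noncommCoprod (cycHom c hcp) (cycHom y hyp) (fun _ _ => hc _ _),
      fun i j => rfl⟩
  have hT₂card : Nat.card T₂.range ≤ p ^ 2 := by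
    have h1 := Nat.le_of_dvd Nat.card_pos (Subgroup.card_range_dvd T₂)
    have h2 : Nat.card (Multiplicative (ZMod p) × Multiplicative (ZMod p)) = p ^ 2 := by
      rw [Nat.card_prod]
      have : Nat.card (Multiplicative (ZMod p)) = p := Nat.card_zmod p
      rw [this, pow_two]
    rw [h2] at h1
    exact h1
  obtain ⟨z, hzk, hzT⟩ : ∃ z ∈ ψ.ker, z ∉ T₂.range := by
    by_contra hcon
    push Not at hcon
    have h1 : ψ.ker ≤ T₂.range := hcon
    have h2 := Subgroup.card_le_of_le h1
    rw [hkcard] at h2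
    omega
  have hzp : z ^ p = 1 := (hker z).mp hzk
  -- the isomorphism
  obtain ⟨T, hT⟩ : ∃ T : Multiplicative (ZMod (p ^ 2) × ZMod p × ZMod p) →* P,
      ∀ (i : ZMod (p ^ 2)) (j k : ZMod p),
        T (Multiplicative.ofAdd (i, j, k)) = x ^ i.val * y ^ j.val * z ^ k.val :=
    ⟨tripleHom hc x y z hxpp hyp hzp, fun i j k => rfl⟩
  have hinj : Function.Injective T := by
    rw [injective_iff_map_eq_one]
    intro v hv
    obtain ⟨⟨i, j, k⟩, rfl⟩ := Multiplicative.ofAdd.surjective v
    rw [hT] at hv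
    -- `p ∣ i`
    have h1 : c ^ i.val = 1 := by
      have h2 := congrArg ψ hv
      rw [map_mul, map_mul, map_pow, map_pow, map_pow, hψ, hψ, hψ, hyp, hzp, map_one, one_pow,
        one_pow, mul_one, mul_one, ← hcdef] at h2
      exact h2
    have h3 : p ∣ i.val := by
      have h4 := orderOf_dvd_of_pow_eq_one h1
      rw [hcord] at h4
      exact h4
    obtain ⟨t, ht⟩ := h3
    have htp : t < p := by
      have h4 : i.val < p ^ 2 := ZMod.val_lt i
      rw [ht, pow_two] at h4
      exact Nat.lt_of_mul_lt_mul_left h4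
    have h5 : x ^ i.val = c ^ t := by rw [ht, pow_mul, ← hcdef]
    rw [h5] at hv
    have hk : k = 0 := by
      apply zp_eq_zero_of_mem hzp T₂.range hzT
      have h6 : z ^ k.val = (c ^ t * y ^ j.val)⁻¹ := eq_inv_of_mul_eq_one_right hv
      rw [h6]
      apply Subgroup.inv_mem
      refine ⟨(Multiplicative.ofAdd (t : ZMod p), Multiplicative.ofAdd j), ?_⟩
      rw [hT₂, zp_natCast hcp]
    rw [hk, ZMod.val_zero, pow_zero, mul_one] at hv
    have hj : j = 0 := by
      apply zp_eq_zero_of_mem hyp (Subgroup.zpowers c) hyc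
      have h6 : y ^ j.val = (c ^ t)⁻¹ := eq_inv_of_mul_eq_one_right hv
      rw [h6]
      exact Subgroup.inv_mem _ (Subgroup.pow_mem _ (Subgroup.mem_zpowers c) _)
    rw [hj, ZMod.val_zero, pow_zero, mul_one] at hv
    have ht0 : t = 0 := by
      have h6 : p ∣ t := by
        have h7 := orderOf_dvd_of_pow_eq_one hv
        rw [hcord] at h7
        exact h7
      exact Nat.eq_zero_of_dvd_of_lt h6 htp
    have hi : i = 0 := by
      rw [ht0, mul_zero] at ht
      exact (ZMod.val_eq_zero i).mp ht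
    rw [hi, hj, hk]
    rfl
  have hcardM : Nat.card (Multiplicative (ZMod (p ^ 2) × ZMod p × ZMod p)) = p ^ 4 := by
    have : Nat.card (Multiplicative (ZMod (p ^ 2) × ZMod p × ZMod p)) =
        Nat.card (ZMod (p ^ 2) × ZMod p × ZMod p) := rfl
    rw [this, Nat.card_prod, Nat.card_prod, Nat.card_zmod, Nat.card_zmod]; ring
  have hbij : Function.Bijective T :=
    hinj.bijective_of_nat_card_le (by rw [hcardM, hcard])
  exact ⟨(MulEquiv.ofBijective T hbij).symm⟩

end Cfsg.Agent.Lib.Helper27.P4
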