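import Mathlib
import Cfsg.Agent.Lib.Helper27.P4F

/-!
# Groups of order `p⁴`: a characteristic chain or one of the listed structures
-/

set_option autoImplicit false

namespace Cfsg.Agent.Lib.Helper27.P4

open Cfsg Cfsg.Agent.Lib.Helper27
open scoped commutatorElement

variable {P : Type*} [Group P]

/-- the Frattini quotient of a nonabelian `p`-group has order at least `p²` -/
theorem sq_dvd_index_frattini [Finite P] {p : ℕ} [Fact p.Prime] (hP : IsPGroup p P)
    (hnc : ¬ ∀ a b : P, a * b = b * a) : p ^ 2 ∣ (frattini P).index := by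
  have hp : p.Prime := Fact.out
  obtain ⟨n, hn⟩ := hP.exists_card_eq
  have h1 : (frattini P).index ∣ p ^ n := hn ▸ Subgroup.index_dvd_card _
  obtain ⟨m, hm, hm'⟩ := (Nat.dvd_prime_pow hp).mp h1
  rcases Nat.lt_or_ge m 2 with hm2 | hm2
  · exfalso
    apply hnc
    have hcyc : ∃ x : P, Subgroup.zpowers x = ⊤ := by
      interval_cases m
      · rw [pow_zero] at hm'
        have h2 : frattini P = ⊤ := Subgroup.index_eq_one.mp hm'
        have h3 : (⊥ : Subgroup P) = ⊤ := frattini_nongenerating (by rw [h2, bot_sup_eq])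
        refine ⟨1, ?_⟩
        rw [Subgroup.zpowers_one_eq_bot, h3]
      · rw [pow_one] at hm'
        have hco : IsCoatom (frattini P) :=
          Cfsg.Agent.Lib.Helper1.isCoatom_of_index_prime (hm' ▸ hp)
        obtain ⟨x, hx⟩ : ∃ x : P, x ∉ frattini P := by
          by_contra h
          push Not at h
          exact hco.1 (eq_top_iff.mpr fun x _ => h x)
        refine ⟨x, frattini_nongenerating ?_⟩
        by_contra hne
        have h2 : frattini P < Subgroup.zpowers x ⊔ frattini P := by
          apply lt_of_le_of_ne le_sup_right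
          intro heq
          apply hx
          rw [heq]
          exact Subgroup.mem_sup_left (Subgroup.mem_zpowers x)
        exact hne (hco.2 _ h2)
    obtain ⟨x, hx⟩ := hcyc
    intro a b
    obtain ⟨i, rfl⟩ := Subgroup.mem_zpowers_iff.mp (hx ▸ Subgroup.mem_top a)
    obtain ⟨j, rfl⟩ := Subgroup.mem_zpowers_iff.mp (hx ▸ Subgroup.mem_top b)
    rw [← zpow_add, ← zpow_add, add_comm]
  · rw [hm']; exact pow_dvd_pow p hm2

theorem card_of_index_pow [Finite P] {p : ℕ} [Fact p.Prime] (hcard : Nat.card P = p ^ 4)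
    (K : Subgroup P) {m : ℕ} (hm : m ≤ 4) (h : K.index = p ^ m) : Nat.card K = p ^ (4 - m) := by
  have hp : p.Prime := Fact.out
  have h1 := Subgroup.card_mul_index K
  rw [h, hcard] at h1
  have h2 : Nat.card K * p ^ m = p ^ (4 - m) * p ^ m := by
    rw [h1, ← pow_add]
    congr 1
    omega
  exact Nat.eq_of_mul_eq_mul_right (pow_pos hp.pos m) h2

/-- groups of order `p⁴` -/
theorem classify [Finite P] {p : ℕ} [Fact p.Prime] (hcard : Nat.card P = p ^ 4) :
    CharChain4 p P ∨
    ((∀ x y : P, x * y = y * x) ∧ (frattini P).index ≤ p ^ 2) ∨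
    ((∀ x y : P, x * y = y * x) ∧ ∀ x : P, x ^ p = 1) ∨
    Nonempty (P ≃* Multiplicative (ZMod (p ^ 2) × ZMod p × ZMod p)) ∨
    (p ≠ 2 ∧ Nonempty (P ≃* ↥(Cfsg.Agent.Lib.Helper16.affS (ZMod p)) × Multiplicative (ZMod p))) ∨
    (p = 2 ∧ Nonempty (P ≃* QuaternionGroup 2 × Multiplicative (ZMod 2))) ∨
    ((¬ ∀ x y : P, x * y = y * x) ∧ (∀ x : P, x ^ (p ^ 2) = 1) ∧
      IsCyclic (Subgroup.center P) ∧ Nat.card (Subgroup.center P) = p ^ 2) := by
  have hp : p.Prime := Fact.out
  have hP : IsPGroup p P := IsPGroup.of_card hcard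
  have hp12 : p < p ^ 2 := by
    calc p = p ^ 1 := (pow_one p).symm
      _ < p ^ 2 := Nat.pow_lt_pow_right hp.one_lt (by norm_num)
  have hΦidx : (frattini P).index ∣ p ^ 4 := hcard ▸ Subgroup.index_dvd_card _
  obtain ⟨m, hm4, hm⟩ := (Nat.dvd_prime_pow hp).mp hΦidx
  have hΦcard := card_of_index_pow hcard (frattini P) hm4 hm
  by_cases hcomm : ∀ x y : P, x * y = y * x
  · -- abelian groups
    by_cases hrk : (frattini P).index ≤ p ^ 2
    · exact Or.inr (Or.inl ⟨hcomm, hrk⟩)
    · push Not at hrk
      rw [hm] at hrk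
      have hm2 : 2 < m := (Nat.pow_lt_pow_iff_right hp.one_lt).mp hrk
      rcases (by omega : m = 3 ∨ m = 4) with h | h
      · rw [h] at hΦcard
        exact Or.inr (Or.inr (Or.inr (Or.inl
          (abelian_frattini_prime hcomm hcard (by rw [hΦcard]; norm_num)))))
      · rw [h] at hΦcard
        refine Or.inr (Or.inr (Or.inl ⟨hcomm, fun x => ?_⟩))
        have h1 := Cfsg.Agent.Lib.Helper1.IsPGroup.pow_mem_frattini hP x
        have h2 : frattini P = ⊥ := Subgroup.card_eq_one.mp (by rw [hΦcard]; norm_num)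
        rw [h2, Subgroup.mem_bot] at h1
        exact h1
  · -- nonabelian groups
    have hsqD := Cfsg.Agent.Lib.Helper1.OrderP4.sq_dvd_index_commutator hP hcomm
    have hsqΦ := sq_dvd_index_frattini hP hcomm
    have hDidx : (commutator P).index ∣ p ^ 4 := hcard ▸ Subgroup.index_dvd_card _
    obtain ⟨k, hk4, hk⟩ := (Nat.dvd_prime_pow hp).mp hDidx
    have hDcard := card_of_index_pow hcard (commutator P) hk4 hk
    have hk2 : 2 ≤ k := by
      rw [hk] at hsqD
      exact (Nat.pow_dvd_pow_iff_le_right hp.one_lt).mp hsqD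
    have hm2 : 2 ≤ m := by
      rw [hm] at hsqΦ
      exact (Nat.pow_dvd_pow_iff_le_right hp.one_lt).mp hsqΦ
    have hDne : commutator P ≠ ⊥ := by
      intro h
      apply hcomm
      rw [commutator_eq_bot_iff_center_eq_top] at h
      exact Cfsg.Agent.Lib.Helper1.OrderP4.comm_of_center_eq_top h
    have hk3 : k ≤ 3 := by
      by_contra hlt
      have hk' : k = 4 := by omega
      rw [hk'] at hDcard
      exact hDne (Subgroup.card_eq_one.mp (by rw [hDcard]; norm_num))
    have hDΦ := Cfsg.Agent.Lib.Helper1.IsPGroup.commutator_le_frattini hP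
    have hkm : m ≤ k := by
      have h1 := Subgroup.index_dvd_of_le hDΦ
      rw [hm, hk] at h1
      exact (Nat.pow_dvd_pow_iff_le_right hp.one_lt).mp h1
    rcases (by omega : k = 2 ∨ k = 3) with hk' | hk'
    · -- derived subgroup of order `p²`
      rw [hk'] at hDcard
      exact Or.inl (chain_of_card_commutator_sq hcard (by rw [hDcard]))
    · rw [hk'] at hDcard
      have hD : Nat.card (commutator P) = p := by rw [hDcard]; norm_num
      rcases (by omega : m = 2 ∨ m = 3) with hm' | hm'
      · rw [hm'] at hΦcard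
        exact Or.inl (chain_of_card_commutator_eq hcard hD (by rw [hΦcard]))
      · rw [hm'] at hΦcard
        have hΦ : Nat.card (frattini P) = p := by rw [hΦcard]; norm_num
        obtain ⟨hDeq, hZ, hDZ⟩ := d3_basic hcard hcomm hΦ
        by_cases hcyc : IsCyclic (Subgroup.center P)
        · -- cyclic centre
          refine Or.inr (Or.inr (Or.inr (Or.inr (Or.inr (Or.inr ⟨hcomm, fun x => ?_, hcyc, hZ⟩)))))
          have h1 := Cfsg.Agent.Lib.Helper1.IsPGroup.pow_mem_frattini hP x
          have h2 : (⟨x ^ p, h1⟩ : frattini P) ^ p = 1 := by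
            have h4 : (⟨x ^ p, h1⟩ : frattini P) ^ Nat.card (frattini P) = 1 := pow_card_eq_one'
            rw [hΦ] at h4
            exact h4
          have h3 := congrArg Subtype.val h2
          rw [pow_two, pow_mul]
          exact h3
        · have hZexp : ∀ z ∈ Subgroup.center P, z ^ p = 1 := by
            intro z hz
            have := pow_eq_one_of_not_cyclic hZ hcyc (⟨z, hz⟩ : Subgroup.center P)
            exact congrArg Subtype.val this
          by_cases hp2 : p = 2
          · subst hp2
            rcases chain_or_quaternion hcard hΦ hDeq hDZ hZ hZexp with h | h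
            · exact Or.inl h
            · exact Or.inr (Or.inr (Or.inr (Or.inr (Or.inr (Or.inl ⟨rfl, h⟩)))))
          · by_cases hexp : ∀ x : P, x ^ p = 1
            · exact Or.inr (Or.inr (Or.inr (Or.inr (Or.inl
                ⟨hp2, iso_heis_prod hcard hexp hDZ hD hZ⟩))))
            · push Not at hexp
              exact Or.inl (chain_of_exponent_sq hp2 hcard hΦ hDeq hDZ hZ hZexp hexp)

end Cfsg.Agent.Lib.Helper27.P4
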