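import Mathlib
import Cfsg.Prelude.Def_Blocks
import Cfsg.Prelude.Def_BlockLocal
import Cfsg.Prelude.Def_BlockRank
import Cfsg.Prelude.Def_BrauerPairs
import Cfsg.Agent.Lib.Helper25.MajorFiveH
import Cfsg.Agent.Lib.Helper25.CharBasic
import Cfsg.Agent.Lib.Helper7.HeightZero

/-!
# S4640 farm (helper24), leaf [E] `exists_pregular_ne_zero_of_major` — SPARE (helper27)

Non-vanishing of a member of `B` on the `p`-section of `u` for a major subsection `(u, f)`:
Brauer's (5H) (`Helper25.MajorFiveH.major_five_h_general`) with a height-zero partner.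
-/

set_option autoImplicit false

namespace Cfsg.Agent.Lib.Helper24.PIdx.Helper27

open Cfsg
open scoped ComplexConjugate

variable {G : Type*} [Group G] [Fintype G] {p : ℕ} [Fact p.Prime] {M : Ideal Cfsg.AlgInt}

/-- [E] (spare) nonvanishing on the section of a major subsection -/
theorem exists_pregular_ne_zero_of_major_spare (hM : Cfsg.IsPModular p M)
    (B : Set (Cfsg.IrrCharacter G)) (u : G) (hu : ∃ k : ℕ, orderOf u = p ^ k)
    (H : Subgroup G) (hH : H = Subgroup.centralizer ({u} : Set G))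
    (f : Set (Cfsg.IrrCharacter H)) (hind : Cfsg.IsInducedBlock M H f B)
    (hdef : Cfsg.blockDefect p f = Cfsg.blockDefect p B)
    (χ : Cfsg.IrrCharacter G) (hχ : χ ∈ B) :
    ∃ s : G, s * u = u * s ∧ Cfsg.IsPRegular p s ∧ (χ : G → ℂ) (u * s) ≠ 0 := by
  classical
  haveI : Fintype H := Fintype.ofFinite _
  haveI : Fintype (Cfsg.IrrCharacter H) := Fintype.ofFinite _
  have hB : Cfsg.IsPBlock M B := hind.2.1
  obtain ⟨ψ₀, hψ₀B, hψ₀⟩ := Cfsg.Agent.Lib.Helper7.exists_height_zero hM B hB
  have h5 := (Cfsg.Agent.Lib.Helper25.MajorFiveH.major_five_h_general hM u hu H hH B f hind hdef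
    χ ψ₀ hχ hψ₀B hψ₀).1
  by_contra hcon
  simp only [not_exists, not_and, not_not] at hcon
  apply h5
  have hzero : Cfsg.pRegularPart p (fun c : H => (χ : G → ℂ) (u * (c : G))) = 0 := by
    funext c
    unfold Cfsg.pRegularPart
    simp only [Pi.zero_apply]
    split_ifs with hc
    · have hcu : (c : G) * u = u * (c : G) := by
        have hcH : (c : G) ∈ Subgroup.centralizer ({u} : Set G) := hH ▸ c.2
        rw [Subgroup.mem_centralizer_singleton_iff] at hcH
        exact hcH
      have hreg : Cfsg.IsPRegular p (c : G) := by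
        unfold Cfsg.IsPRegular at hc ⊢
        rwa [Subgroup.orderOf_coe]
      exact hcon (c : G) hcu hreg
    · rfl
  rw [hzero]
  have h0 : ∀ ξ : Cfsg.IrrCharacter H, Cfsg.classInner (0 : H → ℂ) (ξ : H → ℂ) = 0 := by
    intro ξ
    unfold Cfsg.classInner
    simp
  simp [h0]

end Cfsg.Agent.Lib.Helper24.PIdx.Helper27
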