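import Cfsg.Agent.Lib.Helper8.ChevTd0

/-!
# S2128 FO-F (architect helper8, served by helper27): field automorphisms of `²F₄(q)`
-/

set_option autoImplicit false

namespace Cfsg.Agent.Lib.Helper8.Chev

open Cfsg.Lie Matrix

namespace RF

variable {K : Type*} [Field K] [Fintype K] [CharP K 2] {m : ℕ}
  {σ : GL chevF4.Idx K → GL chevF4.Idx K}

theorem mapW_f4PairWord (α : K →+* K) (e r rbar : ℕ) (t : K) :
    mapW α (f4PairWord e r rbar t) = f4PairWord e r rbar (α t) := by
  unfold mapW f4PairWord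
  simp only [List.map_cons, List.map_nil, map_pow]

theorem mapW_b2ClassWord (α : K →+* K) (e a b ab aab : ℕ) (t u : K) :
    mapW α (b2ClassWord e a b ab aab t u) = b2ClassWord e a b ab aab (α t) (α u) := by
  unfold mapW b2ClassWord
  simp only [List.map_cons, List.map_nil, map_pow, map_add]

theorem bc_XA (m : ℕ) (α : K →+* K) (t : K) : bc chevF4 α (XA m t) = XA m (α t) := by
  apply Units.ext
  rw [bc_wordMat α (coe_XA m t), coe_XA, mapW_f4PairWord]

theorem bc_XAm (m : ℕ) (α : K →+* K) (t : K) : bc chevF4 α (XAm m t) = XAm m (α t) := by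
  apply Units.ext
  rw [bc_wordMat α (coe_XAm m t), coe_XAm, mapW_f4PairWord]

theorem bc_XR (m : ℕ) (α : K →+* K) (t u : K) : bc chevF4 α (XR m t u) = XR m (α t) (α u) := by
  apply Units.ext
  rw [bc_wordMat α (coe_XR m t u), coe_XR, mapW_b2ClassWord]

theorem bc_XRm (m : ℕ) (α : K →+* K) (t u : K) :
    bc chevF4 α (XRm m t u) = XRm m (α t) (α u) := by
  apply Units.ext
  rw [bc_wordMat α (coe_XRm m t u), coe_XRm, mapW_b2ClassWord]

theorem bc_mem_negX (α : K →+* K) {g : GL chevF4.Idx K} (hg : g ∈ chevF4.negUnipotent K) :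
    bc chevF4 α g ∈ chevF4.negUnipotent K := by
  have hle : chevF4.negUnipotent K ≤ (chevF4.negUnipotent K).comap (bc chevF4 α) := by
    unfold ChevalleyDatum.negUnipotent
    rw [Subgroup.closure_le]
    rintro x ⟨r, t, hr, hx⟩
    rw [SetLike.mem_coe, Subgroup.mem_comap]
    exact Subgroup.subset_closure ⟨r, α t, hr, bc_x α hx⟩
  exact hle hg

/-- the entrywise map of a field endomorphism maps `²F₄(q)` into itself -/
theorem bc_mem_twistedF4 (m : ℕ) (α : K →+* K) {g : GL chevF4.Idx K}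
    (hg : g ∈ twistedF4 K (2 ^ m)) : bc chevF4 α g ∈ twistedF4 K (2 ^ m) := by
  have hle : twistedF4 K (2 ^ m) ≤ (twistedF4 K (2 ^ m)).comap (bc chevF4 α) := by
    conv_lhs => rw [twistedF4_eq_closure m]
    rw [Subgroup.closure_le]
    rintro x (⟨t, rfl | rfl⟩ | ⟨t, u, rfl | rfl⟩)
    · rw [SetLike.mem_coe, Subgroup.mem_comap, bc_XA]
      exact XA_mem m _
    · rw [SetLike.mem_coe, Subgroup.mem_comap, bc_XAm]
      exact XAm_mem m _
    · rw [SetLike.mem_coe, Subgroup.mem_comap, bc_XR]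
      exact XR_mem m _ _
    · rw [SetLike.mem_coe, Subgroup.mem_comap, bc_XRm]
      exact XRm_mem m _ _
  exact hle hg

theorem exists_fieldAut_F4 (m : ℕ) (α : K ≃+* K) :
    ∃ ψ : MulAut ↥(twistedF4 K (2 ^ m)), ∀ g : ↥(twistedF4 K (2 ^ m)),
      ((ψ g : ↥(twistedF4 K (2 ^ m))) : GL chevF4.Idx K) =
        bc chevF4 (α : K →+* K) (g : GL chevF4.Idx K) := by
  have hcomp1 : ∀ g : GL chevF4.Idx K,
      bc chevF4 (α.symm : K →+* K) (bc chevF4 (α : K →+* K) g) = g := by
    intro g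
    rw [bc_comp]
    apply Units.ext
    rw [coe_bc]
    ext i j
    simp
  have hcomp2 : ∀ g : GL chevF4.Idx K,
      bc chevF4 (α : K →+* K) (bc chevF4 (α.symm : K →+* K) g) = g := by
    intro g
    rw [bc_comp]
    apply Units.ext
    rw [coe_bc]
    ext i j
    simp
  let ψ : MulAut ↥(twistedF4 K (2 ^ m)) :=
    { toFun := fun g => ⟨bc chevF4 (α : K →+* K) g.1, bc_mem_twistedF4 m _ g.2⟩
      invFun := fun g => ⟨bc chevF4 (α.symm : K →+* K) g.1, bc_mem_twistedF4 m _ g.2⟩
      left_inv := fun g => Subtype.ext (hcomp1 g.1)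
      right_inv := fun g => Subtype.ext (hcomp2 g.1)
      map_mul' := fun g h => Subtype.ext (by
        show bc chevF4 (α : K →+* K) (g.1 * h.1) =
          bc chevF4 (α : K →+* K) g.1 * bc chevF4 (α : K →+* K) h.1
        rw [map_mul]) }
  exact ⟨ψ, fun _ => rfl⟩

end RF

end Cfsg.Agent.Lib.Helper8.Chev
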