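import Cfsg.Agent.Lib.Helper8.ChevTd0

/-!
# S2128 FO-S (architect helper8, served by helper27): `U¹` is a Sylow `2`-subgroup of `²F₄(q)`
(cardinality form)
-/

set_option autoImplicit false

namespace Cfsg.Agent.Lib.Helper8.Chev

open Cfsg.Lie Matrix

namespace RF

variable {K : Type*} [Field K] [Fintype K] [CharP K 2] {m : ℕ}
  {σ : GL chevF4.Idx K → GL chevF4.Idx K}

/-- `2 ^ v₂(2^a * M) = 2^a` for odd `M` -/
theorem two_pow_factorization_mul_odd (a M : ℕ) (hM : ¬ 2 ∣ M) :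
    2 ^ (2 ^ a * M).factorization 2 = 2 ^ a := by
  have hM0 : M ≠ 0 := by
    rintro rfl
    exact hM (dvd_zero 2)
  have h1 : (2 ^ a) ≠ 0 := pow_ne_zero _ (by norm_num)
  rw [Nat.factorization_mul h1 hM0, Finsupp.add_apply, Nat.factorization_pow,
    Finsupp.smul_apply, Nat.prime_two.factorization_self,
    Nat.factorization_eq_zero_of_not_dvd hM, smul_eq_mul, mul_one, add_zero]

theorem twF4_sylow_card (hK : Fintype.card K = 2 ^ (2 * m + 1))
    (X : XEnd chevF4 K σ barF4 rhoF4 (expF4 m)) :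
    Nat.card ↥((chevF4.posUnipotent K ⊓ twistedF4 K (2 ^ m)).subgroupOf (twistedF4 K (2 ^ m))) =
      2 ^ (Nat.card ↥(twistedF4 K (2 ^ m))).factorization 2 := by
  have hcardU : Nat.card ↥((chevF4.posUnipotent K ⊓ twistedF4 K (2 ^ m)).subgroupOf
      (twistedF4 K (2 ^ m))) = (2 ^ (2 * m + 1)) ^ 12 := by
    rw [← card_pos_F4 hK X]
    exact Nat.card_congr (Subgroup.subgroupOfEquivOfLe inf_le_right).toEquiv
  rw [hcardU, card_twistedF4 hK X]
  generalize hq : 2 ^ (2 * m + 1) = q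
  have hq2 : 2 ∣ q := by
    rw [← hq]
    exact dvd_pow_self 2 (by omega)
  have hq1 : 1 ≤ q := by rw [← hq]; exact Nat.one_le_two_pow
  have hpq : ∀ n : ℕ, 0 < n → 2 ∣ q ^ n := fun n hn => dvd_pow hq2 hn.ne'
  have h1 : ∀ n : ℕ, 1 ≤ q ^ n := fun n => Nat.one_le_pow _ _ hq1
  have hpred : ∀ a : ℕ, 2 ∣ a → 1 ≤ a → ¬ 2 ∣ a - 1 := by
    intro a ha ha1 h
    omega
  have hsucc : ∀ a : ℕ, 2 ∣ a → ¬ 2 ∣ a + 1 := by
    intro a ha h
    omega
  have hM : ¬ 2 ∣ (q - 1) * (q ^ 3 + 1) * (q ^ 4 - 1) * (q ^ 6 + 1) := by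
    intro h
    rcases (Nat.Prime.dvd_mul Nat.prime_two).1 h with h | h
    · rcases (Nat.Prime.dvd_mul Nat.prime_two).1 h with h | h
      · rcases (Nat.Prime.dvd_mul Nat.prime_two).1 h with h | h
        · exact hpred q hq2 hq1 h
        · exact hsucc _ (hpq 3 (by norm_num)) h
      · exact hpred _ (hpq 4 (by norm_num)) (h1 4) h
    · exact hsucc _ (hpq 6 (by norm_num)) h
  have e : q ^ 12 * (q - 1) * (q ^ 3 + 1) * (q ^ 4 - 1) * (q ^ 6 + 1)
      = q ^ 12 * ((q - 1) * (q ^ 3 + 1) * (q ^ 4 - 1) * (q ^ 6 + 1)) := by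
    simp only [mul_assoc]
  rw [e]
  have e2 : q ^ 12 = 2 ^ ((2 * m + 1) * 12) := by rw [← hq, ← pow_mul]
  rw [e2]
  exact (two_pow_factorization_mul_odd _ _ hM).symm

end RF

end Cfsg.Agent.Lib.Helper8.Chev
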