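import Mathlib
import Cfsg.Agent.Lib.Helper29.S2222Defs

/-!
# S2222 farm-out FO-4 (architect helper29, served by helper27):
a subgroup commuting with all edges of `S` has at most `2 ^ #edges` elements.
-/

set_option autoImplicit false

namespace Cfsg.Agent.Lib.Helper27.S2222FO4

open Equiv Cfsg.Agent.Lib.Helper29.S2222

universe u

variable {α : Type u} [DecidableEq α] [Finite α]

/-- an element commuting with the transposition `swap x y` fixes or swaps `x`, `y`. -/
theorem fix_or_swap_of_commute {k : Perm α} {x y : α} (hxy : x ≠ y)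
    (h : k * swap x y = swap x y * k) :
    (k x = x ∧ k y = y) ∨ (k x = y ∧ k y = x) := by
  have h1 : swap (k x) (k y) = swap x y := by
    rw [swap_apply_apply, h, mul_assoc, mul_inv_cancel, mul_one]
  have h2 : k y = swap x y (k x) := by
    have := congrArg (fun σ : Perm α => σ (k x)) h1
    simpa using this
  by_cases hx : k x = x
  · left
    refine ⟨hx, ?_⟩
    rw [h2, hx, swap_apply_left]
  · by_cases hy : k x = y
    · right
      refine ⟨hy, ?_⟩
      rw [h2, hy, swap_apply_right]
    · exfalso
      rw [swap_apply_of_ne_of_ne hx hy] at h2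
      exact hxy (k.injective h2).symm

theorem card_le_of_commute_edges (S : Subgroup (Perm α)) (hS : IsPGroup 2 S)
    (hcov : ∀ x y : α, (∀ z, z ≠ x → swap x z ∉ S) → (∀ z, z ≠ y → swap y z ∉ S) → x = y)
    (K : Subgroup (Perm α)) (hK : ∀ k ∈ K, ∀ τ : Edge S, k * τ.1 = τ.1 * k) :
    Nat.card K ≤ 2 ^ Nat.card (Edge S) := by
  classical
  have key : ∀ k ∈ K, ∀ x y : α, x ≠ y → swap x y ∈ S →
      (k x = x ∧ k y = y) ∨ (k x = y ∧ k y = x) := by
    intro k hk x y hxy hmem
    exact fix_or_swap_of_commute hxy (hK k hk ⟨swap x y, hmem, ⟨x, y, hxy, rfl⟩⟩)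
  -- uncovered points are fixed by K
  have hunc : ∀ k ∈ K, ∀ x : α, (∀ z, z ≠ x → swap x z ∉ S) → k x = x := by
    intro k hk x hx
    have hkx : ∀ z, z ≠ k x → swap (k x) z ∉ S := by
      intro z hz hmem
      have hk' : k⁻¹ ∈ K := K.inv_mem hk
      rcases key k⁻¹ hk' (k x) z (Ne.symm hz) hmem with ⟨h1, -⟩ | ⟨h1, -⟩
      · have h1' : k x = x := by simpa using h1.symm
        rw [h1'] at hmem hz
        exact hx z hz hmem
      · have h1' : z = x := by simpa using h1.symm
        rw [h1'] at hmem hz
        rw [swap_comm] at hmem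
        exact hx (k x) (Ne.symm hz) hmem
    exact (hcov x (k x) hx hkx).symm
  let f : K → (Edge S → Bool) := fun k τ => decide (∃ w, τ.1 w ≠ w ∧ k.1 w ≠ w)
  have hf : Function.Injective f := by
    intro k k' hkk
    apply Subtype.ext
    apply Perm.ext
    intro x
    by_cases hx : ∃ z, z ≠ x ∧ swap x z ∈ S
    · obtain ⟨z, hzx, hmem⟩ := hx
      have hxz : x ≠ z := Ne.symm hzx
      let τ : Edge S := ⟨swap x z, hmem, ⟨x, z, hxz, rfl⟩⟩
      have hτ : f k τ = f k' τ := congrFun hkk τ
      have hmoved : ∀ w, swap x z w ≠ w → w = x ∨ w = z := by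
        intro w hw
        by_contra hcon
        push Not at hcon
        exact hw (swap_apply_of_ne_of_ne hcon.1 hcon.2)
      have hval : ∀ j : K, (j.1 x = x ∧ j.1 z = z) ∨ (j.1 x = z ∧ j.1 z = x) →
          (f j τ = true ↔ j.1 x = z) := by
        intro j hj
        simp only [f, decide_eq_true_eq]
        constructor
        · rintro ⟨w, hw1, hw2⟩
          rcases hj with ⟨h1, h2⟩ | ⟨h1, h2⟩
          · exfalso
            rcases hmoved w hw1 with rfl | rfl
            · exact hw2 h1
            · exact hw2 h2
          · exact h1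
        · intro h1
          refine ⟨x, ?_, ?_⟩
          · show swap x z x ≠ x
            rw [swap_apply_left]; exact hzx
          · rw [h1]; exact hzx
      have hk1 := key k.1 k.2 x z hxz hmem
      have hk2 := key k'.1 k'.2 x z hxz hmem
      have e1 := hval k hk1
      have e2 := hval k' hk2
      rcases hk1 with ⟨h1, -⟩ | ⟨h1, -⟩
      · rcases hk2 with ⟨h2, -⟩ | ⟨h2, -⟩
        · rw [h1, h2]
        · exfalso
          have : f k τ = true := by rw [hτ]; exact e2.mpr h2
          have := e1.mp this
          rw [h1] at this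
          exact hxz this
      · rcases hk2 with ⟨h2, -⟩ | ⟨h2, -⟩
        · exfalso
          have : f k' τ = true := by rw [← hτ]; exact e1.mpr h1
          have := e2.mp this
          rw [h2] at this
          exact hxz this
        · rw [h1, h2]
    · push Not at hx
      have hx' : ∀ z, z ≠ x → swap x z ∉ S := hx
      rw [hunc k.1 k.2 x hx', hunc k'.1 k'.2 x hx']
  have := Nat.card_le_card_of_injective f hf
  rwa [Nat.card_fun, Nat.card_eq_fintype_card (α := Bool), Fintype.card_bool] at this

end Cfsg.Agent.Lib.Helper27.S2222FO4
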