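import Mathlib
import Cfsg.Agent.Lib.Helper23.PronormalExt

/-!
# S2222 farm-out FO-7 (architect helper29, served by helper27):
subgroups of prime index are pronormal; odd-index subgroups of `A₅` are pronormal.
-/

set_option autoImplicit false

namespace Cfsg.Agent.Lib.Helper27.S2222FO7

open Cfsg.Agent.Lib.Helper21 Cfsg.Agent.Lib.Helper23.PronormalExt

theorem isPronormal_top {G : Type*} [Group G] : Cfsg.IsPronormal (⊤ : Subgroup G) := by
  intro g
  refine ⟨1, Subgroup.one_mem _, ?_⟩
  have h1 : ∀ a : G, (⊤ : Subgroup G).map (MulAut.conj a).toMonoidHom = ⊤ := by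
    intro a
    rw [← MonoidHom.range_eq_map]
    exact MonoidHom.range_eq_top.mpr (MulAut.conj a).surjective
  rw [h1, h1]

/-- a subgroup of prime index is maximal, hence pronormal. -/
theorem isPronormal_of_prime_index {G : Type*} [Group G] [Finite G] (H : Subgroup G)
    (h : H.index.Prime) : Cfsg.IsPronormal H := by
  intro g
  by_cases hg : H.map (MulAut.conj g).toMonoidHom = H
  · refine ⟨1, Subgroup.one_mem _, ?_⟩
    rw [hg]
    have : H.map (MulAut.conj (1 : G)).toMonoidHom = cj 1 H := rfl
    rw [this, cj_one]
  · have hle : H ≤ H ⊔ H.map (MulAut.conj g).toMonoidHom := le_sup_left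
    have hmul := Subgroup.relIndex_mul_index hle
    -- index of the join divides the prime index of H
    have hdvd : (H ⊔ H.map (MulAut.conj g).toMonoidHom).index ∣ H.index :=
      Dvd.intro_left _ hmul
    rcases (Nat.dvd_prime h).mp hdvd with h1 | hp
    · have htop : H ⊔ H.map (MulAut.conj g).toMonoidHom = ⊤ := Subgroup.index_eq_one.mp h1
      exact ⟨g, by rw [htop]; exact Subgroup.mem_top g, rfl⟩
    · exfalso
      rw [hp] at hmul
      have hpos : 0 < H.index := h.pos
      have hrel : H.relIndex (H ⊔ H.map (MulAut.conj g).toMonoidHom) = 1 := by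
        have : H.relIndex (H ⊔ H.map (MulAut.conj g).toMonoidHom) * H.index = 1 * H.index := by
          rw [one_mul]; exact hmul
        exact Nat.eq_of_mul_eq_mul_right hpos this
      have hle2 : H ⊔ H.map (MulAut.conj g).toMonoidHom ≤ H := Subgroup.relIndex_eq_one.mp hrel
      have hle3 : H.map (MulAut.conj g).toMonoidHom ≤ H := le_trans le_sup_right hle2
      have hcard : Nat.card (H.map (MulAut.conj g).toMonoidHom) = Nat.card H :=
        Subgroup.card_map_of_injective (MulAut.conj g).injective
      exact hg (Subgroup.eq_of_le_of_card_ge hle3 (le_of_eq hcard.symm))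

theorem card_A5 : Nat.card (alternatingGroup (Fin 5)) = 60 := by
  rw [nat_card_alternatingGroup]
  simp [Nat.factorial]

theorem a5_case (H : Subgroup (alternatingGroup (Fin 5))) (hH : Odd H.index) :
    Cfsg.IsPronormal H := by
  have hmul : Nat.card H * H.index = 60 := by
    rw [Subgroup.card_mul_index, card_A5]
  have hdvd : H.index ∣ 60 := Dvd.intro_left _ hmul
  have hle : H.index ≤ 60 := Nat.le_of_dvd (by norm_num) hdvd
  have hcases : H.index = 1 ∨ H.index = 3 ∨ H.index = 5 ∨ H.index = 15 := by
    obtain ⟨k, hk⟩ := hH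
    have : H.index ∈ (Nat.divisors 60) := Nat.mem_divisors.mpr ⟨hdvd, by norm_num⟩
    have hdiv : Nat.divisors 60 = {1, 2, 3, 4, 5, 6, 10, 12, 15, 20, 30, 60} := by decide
    rw [hdiv] at this
    simp only [Finset.mem_insert, Finset.mem_singleton] at this
    omega
  rcases hcases with h1 | h3 | h5 | h15
  · rw [Subgroup.index_eq_one] at h1
    rw [h1]
    exact isPronormal_top
  · exact isPronormal_of_prime_index H (by rw [h3]; norm_num)
  · exact isPronormal_of_prime_index H (by rw [h5]; norm_num)
  · have hc : Nat.card H = 4 := by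
      rw [h15] at hmul
      omega
    haveI : Fact (Nat.Prime 2) := ⟨Nat.prime_two⟩
    have hfac : (Nat.card (alternatingGroup (Fin 5))).factorization 2 = 2 := by
      rw [card_A5]
      have : (60 : ℕ) = 2 ^ 2 * 15 := by norm_num
      rw [this, Nat.factorization_mul (by norm_num) (by norm_num), Nat.factorization_pow]
      simp [Nat.Prime.factorization_self Nat.prime_two]
      rw [Nat.factorization_eq_zero_of_not_dvd (by norm_num)]
    have hcard : Nat.card H = 2 ^ (Nat.card (alternatingGroup (Fin 5))).factorization 2 := by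
      rw [hfac, hc]; norm_num
    have hsyl := sylow_isPronormal (Sylow.ofCard H hcard)
    rwa [Sylow.coe_ofCard] at hsyl

end Cfsg.Agent.Lib.Helper27.S2222FO7
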