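import Cfsg.Agent.Lib.Helper8.ChevHi6

/-!
# S2244 FO-1 (for helper26): torus separation witnesses -- the checker and its specification.
-/

set_option autoImplicit false

namespace Cfsg.Agent.Lib.Helper27.S2244FO1

open Cfsg Cfsg.Lie Matrix Cfsg.Agent.Lib.Helper8.Chev

/-- the check of one row of witnesses: `row[i]` is the witness for `(k, k + 1 + i)` -/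
noncomputable def sepRow (D : ChevalleyDatum) (okv : ℕ → ℕ → ℤ → Bool) (k : ℕ) (row : List ℕ) :
    Bool :=
  forallLtF (fun i => withNat (nthF 0 row i) fun p => withNat (k + 1 + i) fun s =>
    Nat.blt p D.nroots && (decide (acoF D p k = 0) && okv k s (acoF D p s))) (D.nroots - 1 - k)

/-- the check of a table of witnesses: `W[j]` is the row of `k = nroots / 2 + j` -/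
noncomputable def sepOK (D : ChevalleyDatum) (okv : ℕ → ℕ → ℤ → Bool) (W : List (List ℕ)) : Bool :=
  forallLtF (fun j => withNat (D.nroots / 2 + j) fun k => sepRow D okv k (nthF [] W j))
    (D.nroots - D.nroots / 2)

theorem sepOK_spec {D : ChevalleyDatum} {okv : ℕ → ℕ → ℤ → Bool} {W : List (List ℕ)}
    (h : sepOK D okv W = true) {k s : ℕ} (hk : D.nroots / 2 ≤ k) (hks : k < s)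
    (hs : s < D.nroots) :
    ∃ p, p < D.nroots ∧ acoF D p k = 0 ∧ okv k s (acoF D p s) = true := by
  unfold sepOK at h
  rw [forallLtF_eq_true] at h
  have h1 := h (k - D.nroots / 2) (by omega)
  rw [withNat_eq, show D.nroots / 2 + (k - D.nroots / 2) = k by omega] at h1
  unfold sepRow at h1
  rw [forallLtF_eq_true] at h1
  have h2 := h1 (s - k - 1) (by omega)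
  rw [withNat_eq, withNat_eq, show k + 1 + (s - k - 1) = s by omega, Bool.and_eq_true,
    Bool.and_eq_true, Nat.blt_eq, decide_eq_true_eq] at h2
  exact ⟨_, h2.1, h2.2.1, h2.2.2⟩

/-- values `±1` only -/
def okv1 : ℕ → ℕ → ℤ → Bool := fun _ _ v => decide (v = 1) || decide (v = -1)

/-- values `±1`, `±2` -/
def okv2 : ℕ → ℕ → ℤ → Bool := fun _ _ v =>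
  decide (v = 1) || decide (v = -1) || (decide (v = 2) || decide (v = -2))

/-- values `±1`, `±2`, and `±3` for the three long-root pairs of `G₂` -/
def okv3 : ℕ → ℕ → ℤ → Bool := fun k s v =>
  decide (v = 1) || decide (v = -1) || (decide (v = 2) || decide (v = -2)) ||
    ((decide (v = 3) || decide (v = -3)) &&
      ((Nat.beq k 6 && Nat.beq s 10) || (Nat.beq k 6 && Nat.beq s 11) ||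
        (Nat.beq k 10 && Nat.beq s 11)))

theorem okv1_spec {k s : ℕ} {v : ℤ} (h : okv1 k s v = true) : v = 1 ∨ v = -1 := by
  simpa [okv1] using h

theorem okv2_spec {k s : ℕ} {v : ℤ} (h : okv2 k s v = true) :
    (v = 1 ∨ v = -1) ∨ (v = 2 ∨ v = -2) := by
  simpa [okv2] using h

theorem okv3_spec {k s : ℕ} {v : ℤ} (h : okv3 k s v = true) :
    ((v = 1 ∨ v = -1) ∨ (v = 2 ∨ v = -2)) ∨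
      ((v = 3 ∨ v = -3) ∧ ((k = 6 ∧ s = 10) ∨ (k = 6 ∧ s = 11) ∨ (k = 10 ∧ s = 11))) := by
  simp [okv3] at h
  tauto

/-- the witness table of type `G2` -/
def sepW_G2 : List (List ℕ) :=
  [[2, 2, 2, 2, 2], [0, 0, 0, 0], [1, 1, 1], [5, 5], [3], []]

/-- the witness table of type `B2` -/
def sepW_B2 : List (List ℕ) :=
  [[0, 0, 0], [1, 1], [2], []]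

/-- the witness table of type `D4` -/
def sepW_D4 : List (List ℕ) :=
  [[10, 0, 0, 0, 0, 5, 0, 0, 0, 0, 0], [0, 0, 0, 0, 5, 0, 0, 0, 0, 0], [2, 2, 6, 2, 2, 3, 2, 2, 2], [7, 1, 1, 4, 1, 1, 1, 1], [1, 1, 4, 1, 1, 1, 1], [2, 2, 3, 2, 2, 2], [0, 0, 0, 0, 0], [1, 1, 1, 1], [2, 2, 2], [3, 3], [4], []]

/-- the witness table of type `F4` -/
def sepW_F4 : List (List ℕ) :=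
  [[2, 2, 2, 7, 7, 2, 2, 7, 3, 2, 3, 3, 2, 2, 3, 2, 2, 2, 3, 2, 2, 2, 2], [0, 7, 7, 0, 7, 0, 0, 3, 3, 3, 0, 3, 0, 0, 0, 3, 0, 0, 0, 0, 0, 0], [7, 1, 7, 1, 7, 1, 3, 3, 1, 3, 1, 3, 1, 1, 1, 3, 1, 1, 1, 1, 1], [1, 0, 1, 0, 0, 3, 3, 1, 0, 1, 0, 0, 0, 1, 0, 0, 0, 0, 0, 1], [0, 2, 0, 0, 3, 2, 3, 0, 2, 0, 0, 0, 2, 0, 0, 0, 0, 0, 2], [1, 2, 1, 3, 2, 1, 3, 1, 2, 1, 1, 1, 2, 1, 1, 1, 2, 1], [0, 0, 3, 3, 3, 0, 3, 0, 0, 0, 3, 0, 0, 0, 0, 0, 0], [1, 3, 3, 1, 3, 1, 3, 1, 1, 1, 3, 1, 1, 1, 1, 1], [3, 2, 3, 3, 2, 2, 3, 2, 2, 2, 3, 2, 2, 2, 2], [2, 1, 0, 1, 0, 0, 0, 1, 0, 0, 0, 0, 0, 1], [1, 0, 1, 0, 0, 0, 1, 0, 0, 0, 0, 0, 1], [0, 2, 0, 0, 0, 2, 0, 0, 0, 0, 0, 2], [1, 2, 1, 1, 1, 2, 1, 1, 1, 2, 1], [0,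 0, 0, 4, 0, 0, 0, 0, 0, 4], [1, 1, 1, 4, 1, 1, 1, 4, 1], [2, 2, 2, 5, 2, 5, 2, 2], [4, 4, 5, 4, 5, 4, 4], [0, 0, 0, 0, 0, 0], [1, 1, 1, 1, 1], [2, 2, 2, 2], [16, 15, 15], [4, 4], [5], []]

/-- the witness table of type `E6` -/
def sepW_E6 : List (List ℕ) :=
  [[2, 2, 1, 1, 1, 2, 1, 1, 1, 0, 0, 0, 0, 0, 0, 0, 0, 0, 0, 5, 2, 1, 1, 1, 0, 0, 0, 0, 0, 0, 0, 0, 0, 0, 1], [4, 1, 1, 1, 4, 1, 1, 1, 0, 0, 0, 0, 0, 0, 0, 0, 0, 0, 7, 4, 1, 1, 1, 0, 0, 0, 0, 0, 0, 0, 0, 0, 0, 1], [1, 1, 1, 3, 1, 1, 1, 0, 0, 0, 0, 0, 0, 0, 0, 0, 0, 6, 3, 1, 1, 1, 0, 0, 0, 0, 0, 0, 0, 0, 0, 0, 1], [3, 4, 3, 3, 4, 3, 0, 0, 0, 0, 0, 0, 0, 0, 0, 0, 5, 3, 3, 4, 3, 0, 0, 0, 0, 0, 0, 0, 0, 0, 0, 3], [4, 2, 4, 2, 2, 0, 0, 0,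 0, 0, 0, 0, 0, 0, 0, 6, 2, 4, 2, 2, 0, 0, 0, 0, 0, 0, 0, 0, 0, 0, 2], [2, 3, 2, 2, 0, 0, 0, 0, 0, 0, 0, 0, 0, 0, 7, 2, 3, 2, 2, 0, 0, 0, 0, 0, 0, 0, 0, 0, 0, 2], [1, 1, 1, 0, 0, 0, 0, 0, 0, 0, 0, 0, 0, 8, 8, 1, 1, 1, 0, 0, 0, 0, 0, 0, 0, 0, 0, 0, 1], [2, 2, 0, 0, 0, 0, 0, 0, 0, 0, 0, 0, 6, 2, 6, 2, 2, 0, 0, 0, 0, 0, 0, 0, 0, 0, 0, 2], [3, 0, 0, 0, 0, 0, 0, 0, 0, 0, 0, 5, 3, 3, 5, 3, 0, 0, 0, 0, 0, 0, 0, 0, 0, 0, 3], [0, 0, 0, 0, 0, 0, 0, 0, 0, 0, 5, 4, 4, 4, 5, 0, 0, 0, 0, 0, 0, 0, 0, 0, 0, 4], [2, 3, 4, 3, 2, 2, 4, 3, 2, 5, 2, 3, 2, 2, 3, 2, 2, 4, 3, 2, 2, 2, 3, 2, 2], [3, 4, 3, 4, 3, 1, 1, 1, 5, 3, 1, 1, 1, 3, 4, 3, 1, 1, 1, 1, 1, 1, 3, 1], [4, 4, 2, 2, 1, 1, 1, 6, 2, 1, 1, 1, 4, 2, 2,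 1, 1, 1, 1, 1, 1, 2, 1], [3, 2, 2, 1, 1, 1, 7, 2, 1, 1, 1, 3, 2, 2, 1, 1, 1, 1, 1, 1, 2, 1], [2, 2, 1, 1, 1, 6, 2, 1, 1, 1, 6, 2, 2, 1, 1, 1, 1, 1, 1, 2, 1], [3, 1, 1, 1, 5, 3, 1, 1, 1, 3, 5, 3, 1, 1, 1, 1, 1, 1, 3, 1], [1, 1, 1, 5, 4, 1, 1, 1, 4, 4, 5, 1, 1, 1, 1, 1, 1, 4, 1], [3, 2, 5, 2, 3, 2, 2, 3, 2, 2, 5, 3, 2, 2, 2, 3, 2, 2], [2, 5, 2, 4, 2, 2, 4, 2, 2, 4, 5, 2, 2, 2, 4, 2, 2], [6, 3, 3, 4, 3, 3, 4, 3, 4, 3, 6, 3, 4, 3, 3, 3], [2, 1, 1, 1, 0, 0, 0, 0, 0, 0, 0, 0, 0, 0, 1], [1, 1, 1, 0, 0, 0, 0, 0, 0, 0, 0, 0, 0, 1], [2, 2, 0, 0, 0, 0, 0, 0, 0, 0, 0, 0, 2], [3, 0, 0, 0, 0, 0, 0, 0, 0, 0, 0, 3], [0, 0, 0, 0, 0, 0, 0, 0, 0, 0, 4], [2, 2, 1, 1, 1, 1, 1, 1, 2, 1], [3, 1, 1, 1, 1, 1, 1,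 3, 1], [1, 1, 1, 1, 1, 1, 4, 1], [3, 2, 2, 2, 3, 2, 2], [2, 2, 2, 4, 2, 2], [3, 4, 3, 3, 3], [6, 5, 5, 5], [5, 5, 5], [6, 6], [8], []]

/-- the witness table of type `E7` -/
def sepW_E7 : List (List ℕ) :=
  [[4, 4, 3, 3, 3, 2, 2, 2, 2, 1, 1, 1, 1, 1, 3, 2, 2, 2, 2, 1, 1, 1, 1, 1, 1, 1, 1, 1, 1, 0, 0, 0, 0, 0, 0, 0, 0, 0, 0, 0, 0, 0, 0, 0, 0, 0, 0, 0, 0, 0, 0, 0, 0, 0, 0, 0, 0, 0, 0, 0, 0, 1], [6, 3, 3, 3, 2, 2, 2, 2, 1, 1, 1, 1, 1, 3, 2, 2, 2, 2, 1, 1, 1, 1, 1, 1, 1, 1, 1, 1, 0, 0, 0, 0, 0, 0, 0, 0, 0, 0, 0, 0, 0, 0, 0, 0, 0, 0, 0, 0, 0, 0, 0, 0, 0, 0, 0, 0, 0, 0, 0, 0, 1], [3, 3, 3, 2, 2, 2, 2, 1, 1, 1, 1, 1, 3, 2, 2, 2, 2, 1, 1, 1, 1, 1, 1, 1, 1, 1, 1, 0, 0, 0, 0, 0, 0, 0, 0, 0, 0, 0,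 0, 0, 0, 0, 0, 0, 0, 0, 0, 0, 0, 0, 0, 0, 0, 0, 0, 0, 0, 0, 0, 1], [5, 6, 2, 2, 2, 2, 1, 1, 1, 1, 1, 5, 2, 2, 2, 2, 1, 1, 1, 1, 1, 1, 1, 1, 1, 1, 0, 0, 0, 0, 0, 0, 0, 0, 0, 0, 0, 0, 0, 0, 0, 0, 0, 0, 0, 0, 0, 0, 0, 0, 0, 0, 0, 0, 0, 0, 0, 0, 1], [6, 2, 2, 2, 2, 1, 1, 1, 1, 1, 4, 2, 2, 2, 2, 1, 1, 1, 1, 1, 1, 1, 1, 1, 1, 0, 0, 0, 0, 0, 0, 0, 0, 0, 0, 0, 0, 0, 0, 0, 0, 0, 0, 0, 0, 0, 0, 0, 0, 0, 0, 0, 0, 0, 0, 0, 0, 1], [2, 2, 2, 2, 1, 1, 1, 1, 1, 4, 2, 2, 2, 2, 1, 1, 1, 1, 1, 1, 1, 1, 1, 1, 0, 0, 0, 0, 0, 0, 0, 0, 0, 0, 0, 0, 0, 0, 0, 0, 0, 0, 0, 0, 0, 0, 0, 0, 0, 0, 0, 0, 0, 0, 0, 0, 1], [4, 5, 6, 1, 1, 1, 1, 1, 4, 4, 5, 4, 4, 1, 1, 1, 1, 1, 1, 1, 1, 1, 1, 0, 0, 0, 0, 0, 0, 0, 0, 0, 0,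 0, 0, 0, 0, 0, 0, 0, 0, 0, 0, 0, 0, 0, 0, 0, 0, 0, 0, 0, 0, 0, 0, 1], [5, 6, 1, 1, 1, 1, 1, 3, 5, 3, 3, 3, 1, 1, 1, 1, 1, 1, 1, 1, 1, 1, 0, 0, 0, 0, 0, 0, 0, 0, 0, 0, 0, 0, 0, 0, 0, 0, 0, 0, 0, 0, 0, 0, 0, 0, 0, 0, 0, 0, 0, 0, 0, 0, 1], [6, 1, 1, 1, 1, 1, 3, 4, 3, 3, 3, 1, 1, 1, 1, 1, 1, 1, 1, 1, 1, 0, 0, 0, 0, 0, 0, 0, 0, 0, 0, 0, 0, 0, 0, 0, 0, 0, 0, 0, 0, 0, 0, 0, 0, 0, 0, 0, 0, 0, 0, 0, 0, 1], [1, 1, 1, 1, 1, 3, 4, 3, 3, 3, 1, 1, 1, 1, 1, 1, 1, 1, 1, 1, 0, 0, 0, 0, 0, 0, 0, 0, 0, 0, 0, 0, 0, 0, 0, 0, 0, 0, 0, 0, 0, 0, 0, 0, 0, 0, 0, 0, 0, 0, 0, 0, 1], [3, 4, 5, 6, 3, 4, 3, 3, 3, 4, 3, 3, 3, 5, 4, 4, 3, 3, 3, 0, 0, 0, 0, 0, 0, 0, 0, 0, 0, 0, 0, 0, 0, 0, 0, 0, 0, 0, 0, 0, 0, 0, 0, 0,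 0, 0, 0, 0, 0, 0, 0, 3], [4, 5, 6, 4, 2, 2, 2, 2, 4, 5, 4, 4, 2, 2, 2, 2, 2, 2, 0, 0, 0, 0, 0, 0, 0, 0, 0, 0, 0, 0, 0, 0, 0, 0, 0, 0, 0, 0, 0, 0, 0, 0, 0, 0, 0, 0, 0, 0, 0, 0, 2], [5, 6, 3, 2, 2, 2, 2, 5, 3, 3, 3, 2, 2, 2, 2, 2, 2, 0, 0, 0, 0, 0, 0, 0, 0, 0, 0, 0, 0, 0, 0, 0, 0, 0, 0, 0, 0, 0, 0, 0, 0, 0, 0, 0, 0, 0, 0, 0, 0, 2], [6, 3, 2, 2, 2, 2, 4, 3, 3, 3, 2, 2, 2, 2, 2, 2, 0, 0, 0, 0, 0, 0, 0, 0, 0, 0, 0, 0, 0, 0, 0, 0, 0, 0, 0, 0, 0, 0, 0, 0, 0, 0, 0, 0, 0, 0, 0, 0, 2], [3, 2, 2, 2, 2, 4, 3, 3, 3, 2, 2, 2, 2, 2, 2, 0, 0, 0, 0, 0, 0, 0, 0, 0, 0, 0, 0, 0, 0, 0, 0, 0, 0, 0, 0, 0, 0, 0, 0, 0, 0, 0, 0, 0, 0, 0, 0, 2], [2, 2, 2, 2, 1, 1, 1, 1, 1, 1, 1, 1, 1, 1, 0, 0, 0, 0, 0, 0, 0, 0, 0,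 0, 0, 0, 0, 0, 0, 0, 0, 0, 0, 0, 0, 0, 0, 0, 0, 0, 0, 0, 0, 0, 0, 0, 1], [3, 3, 3, 1, 1, 1, 1, 1, 1, 1, 1, 1, 1, 0, 0, 0, 0, 0, 0, 0, 0, 0, 0, 0, 0, 0, 0, 0, 0, 0, 0, 0, 0, 0, 0, 0, 0, 0, 0, 0, 0, 0, 0, 0, 0, 1], [4, 4, 1, 1, 1, 1, 1, 1, 1, 1, 1, 1, 0, 0, 0, 0, 0, 0, 0, 0, 0, 0, 0, 0, 0, 0, 0, 0, 0, 0, 0, 0, 0, 0, 0, 0, 0, 0, 0, 0, 0, 0, 0, 0, 1], [5, 1, 1, 1, 1, 1, 1, 1, 1, 1, 1, 0, 0, 0, 0, 0, 0, 0, 0, 0, 0, 0, 0, 0, 0, 0, 0, 0, 0, 0, 0, 0, 0, 0, 0, 0, 0, 0, 0, 0, 0, 0, 0, 1], [1, 1, 1, 1, 1, 1, 1, 1, 1, 1, 0, 0, 0, 0, 0, 0, 0, 0, 0, 0, 0, 0, 0, 0, 0, 0, 0, 0, 0, 0, 0, 0, 0, 0, 0, 0, 0, 0, 0, 0, 0, 0, 1], [3, 3, 3, 2, 2, 2, 2, 2, 2, 0, 0, 0, 0, 0, 0, 0, 0, 0, 0, 0, 0, 0, 0, 0, 0, 0, 0,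 0, 0, 0, 0, 0, 0, 0, 0, 0, 0, 0, 0, 0, 0, 2], [4, 4, 2, 2, 2, 2, 2, 2, 0, 0, 0, 0, 0, 0, 0, 0, 0, 0, 0, 0, 0, 0, 0, 0, 0, 0, 0, 0, 0, 0, 0, 0, 0, 0, 0, 0, 0, 0, 0, 0, 2], [5, 2, 2, 2, 2, 2, 2, 0, 0, 0, 0, 0, 0, 0, 0, 0, 0, 0, 0, 0, 0, 0, 0, 0, 0, 0, 0, 0, 0, 0, 0, 0, 0, 0, 0, 0, 0, 0, 0, 2], [2, 2, 2, 2, 2, 2, 0, 0, 0, 0, 0, 0, 0, 0, 0, 0, 0, 0, 0, 0, 0, 0, 0, 0, 0, 0, 0, 0, 0, 0, 0, 0, 0, 0, 0, 0, 0, 0, 2], [4, 4, 3, 3, 3, 0, 0, 0, 0, 0, 0, 0, 0, 0, 0, 0, 0, 0, 0, 0, 0, 0, 0, 0, 0, 0, 0, 0, 0, 0, 0, 0, 0, 0, 0, 0, 0, 3], [5, 3, 3, 3, 0, 0, 0, 0, 0, 0, 0, 0, 0, 0, 0, 0, 0, 0, 0, 0, 0, 0, 0, 0, 0, 0, 0, 0, 0, 0, 0, 0, 0, 0, 0, 0, 3], [3, 3, 3, 0, 0, 0, 0, 0, 0, 0, 0, 0, 0, 0, 0, 0, 0, 0,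 0, 0, 0, 0, 0, 0, 0, 0, 0, 0, 0, 0, 0, 0, 0, 0, 0, 3], [5, 4, 0, 0, 0, 0, 0, 0, 0, 0, 0, 0, 0, 0, 0, 0, 0, 0, 0, 0, 0, 0, 0, 0, 0, 0, 0, 0, 0, 0, 0, 0, 0, 0, 4], [4, 0, 0, 0, 0, 0, 0, 0, 0, 0, 0, 0, 0, 0, 0, 0, 0, 0, 0, 0, 0, 0, 0, 0, 0, 0, 0, 0, 0, 0, 0, 0, 0, 4], [0, 0, 0, 0, 0, 0, 0, 0, 0, 0, 0, 0, 0, 0, 0, 0, 0, 0, 0, 0, 0, 0, 0, 0, 0, 0, 0, 0, 0, 0, 0, 0, 5], [2, 3, 4, 5, 6, 4, 3, 3, 3, 2, 2, 2, 2, 2, 2, 5, 4, 4, 3, 3, 3, 2, 2, 2, 2, 2, 2, 2, 2, 3, 2, 2], [3, 4, 5, 6, 4, 3, 3, 3, 5, 4, 4, 3, 3, 3, 1, 1, 1, 1, 1, 1, 1, 1, 1, 1, 1, 1, 1, 1, 1, 3, 1], [4, 5, 6, 4, 5, 4, 4, 2, 2, 2, 2, 2, 2, 1, 1, 1, 1, 1, 1, 1, 1, 1, 1, 1, 1, 1, 1, 1, 2, 1], [5, 6, 5, 3, 3, 3, 2, 2, 2, 2, 2, 2, 1, 1,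 1, 1, 1, 1, 1, 1, 1, 1, 1, 1, 1, 1, 1, 2, 1], [6, 4, 3, 3, 3, 2, 2, 2, 2, 2, 2, 1, 1, 1, 1, 1, 1, 1, 1, 1, 1, 1, 1, 1, 1, 1, 2, 1], [4, 3, 3, 3, 2, 2, 2, 2, 2, 2, 1, 1, 1, 1, 1, 1, 1, 1, 1, 1, 1, 1, 1, 1, 1, 2, 1], [3, 3, 3, 2, 2, 2, 2, 2, 2, 1, 1, 1, 1, 1, 1, 1, 1, 1, 1, 1, 1, 1, 1, 1, 2, 1], [4, 4, 2, 2, 2, 2, 2, 2, 1, 1, 1, 1, 1, 1, 1, 1, 1, 1, 1, 1, 1, 1, 1, 2, 1], [5, 2, 2, 2, 2, 2, 2, 1, 1, 1, 1, 1, 1, 1, 1, 1, 1, 1, 1, 1, 1, 1, 2, 1], [2, 2, 2, 2, 2, 2, 1, 1, 1, 1, 1, 1, 1, 1, 1, 1, 1, 1, 1, 1, 1, 2, 1], [4, 4, 3, 3, 3, 1, 1, 1, 1, 1, 1, 1, 1, 1, 1, 1, 1, 1, 1, 1, 3, 1], [5, 3, 3, 3, 1, 1, 1, 1, 1, 1, 1, 1, 1, 1, 1, 1, 1, 1, 1, 3, 1], [3, 3, 3, 1, 1, 1, 1, 1, 1, 1, 1, 1, 1, 1, 1,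 1, 1, 1, 3, 1], [5, 4, 1, 1, 1, 1, 1, 1, 1, 1, 1, 1, 1, 1, 1, 1, 1, 4, 1], [4, 1, 1, 1, 1, 1, 1, 1, 1, 1, 1, 1, 1, 1, 1, 1, 4, 1], [1, 1, 1, 1, 1, 1, 1, 1, 1, 1, 1, 1, 1, 1, 1, 5, 1], [4, 4, 3, 3, 3, 2, 2, 2, 2, 2, 2, 2, 2, 3, 2, 2], [5, 3, 3, 3, 2, 2, 2, 2, 2, 2, 2, 2, 3, 2, 2], [3, 3, 3, 2, 2, 2, 2, 2, 2, 2, 2, 3, 2, 2], [5, 4, 2, 2, 2, 2, 2, 2, 2, 2, 4, 2, 2], [4, 2, 2, 2, 2, 2, 2, 2, 2, 4, 2, 2], [2, 2, 2, 2, 2, 2, 2, 2, 5, 2, 2], [5, 4, 3, 3, 3, 3, 4, 3, 3, 3], [4, 3, 3, 3, 3, 4, 3, 3, 3], [3, 3, 3, 3, 5, 3, 3, 3], [4, 4, 5, 4, 4, 4, 4], [9, 8, 7, 7, 7, 7], [8, 7, 7, 7, 7], [7, 7, 7, 7], [8, 8, 8], [11, 11], [17], []]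

theorem sepOK_G2 : sepOK chevG2 okv3 sepW_G2 = true := by decide +kernel
theorem sepOK_B2 : sepOK chevB2 okv2 sepW_B2 = true := by decide +kernel
theorem sepOK_D4 : sepOK chevD4 okv2 sepW_D4 = true := by decide +kernel
theorem sepOK_F4 : sepOK chevF4 okv2 sepW_F4 = true := by decide +kernel
theorem sepOK_E6 : sepOK chevE6 okv1 sepW_E6 = true := by decide +kernel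

set_option maxRecDepth 100000 in
theorem sepOK_E7 : sepOK chevE7 okv1 sepW_E7 = true := by decide +kernel

end Cfsg.Agent.Lib.Helper27.S2244FO1
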