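import Cfsg.Agent.Lib.Helper27.S4018C

/-!
# S4018-C, variant with the value of `c` exposed (helper29's request, msg 1993)
-/

set_option autoImplicit false
open scoped ComplexConjugate
open Cfsg

namespace Cfsg.Agent.Lib.Helper27.S4018C

open Cfsg.Agent.Lib.Helper2 Cfsg.Agent.Lib.Helper7 Cfsg.Agent.Lib.Helper25

/-- S4018-C with the extra conjunct `∑ g : C, χ g = 2 m c`. -/
theorem char_identity' {G : Type*} [Group G] [Fintype G] [DecidableEq G] (C : Subgroup G)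
    [Fintype C] (v : G)
    (m K : ℕ) (hm : 0 < m) (hv : orderOf v = 2) (hTI : Cfsg.IsTISubset (C : Set G))
    (hNcard : Nat.card (Subgroup.normalizer (C : Set G)) = 4 * m) (hCcard : Nat.card C = 2 * m)
    (hCv : Nat.card (Subgroup.centralizer ({v} : Set G)) = 4 * m) (hG : Nat.card G = 4 * m * K)
    (hpair1 : Nat.card {p : G × G // IsConj v p.1 ∧ IsConj v p.2 ∧ p.1 * p.2 = 1} = K)
    (hpairC : ∀ w ∈ C, w ≠ 1 →
      Nat.card {p : G × G // IsConj v p.1 ∧ IsConj v p.2 ∧ p.1 * p.2 = w} = 2 * m)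
    (hpair0 : ∀ w : G, w ≠ 1 → (∀ h : G, h⁻¹ * w * h ∉ C) →
      Nat.card {p : G × G // IsConj v p.1 ∧ IsConj v p.2 ∧ p.1 * p.2 = w} = 0)
    (χ : G → ℂ) (hχ : Cfsg.IsIrrCharacter G χ) :
    ∃ (d : ℕ) (s : ℤ) (c : ℕ), 0 < d ∧ d ∣ Nat.card G ∧ χ 1 = (d : ℂ) ∧ χ v = (s : ℂ) ∧
      (∑ g : C, χ (g : G)) = (2 * (m : ℂ) * (c : ℂ)) ∧
      (K : ℤ) * s ^ 2 = (d : ℤ) ^ 2 + 2 * m * d * (2 * m * c - d) := by
  classical
  have hχc := isCharacter_of_irr hχ
  obtain ⟨d, hd0, hdvd, hd⟩ := exists_degree hχ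
  obtain ⟨s, hs⟩ := exists_int_value_involution hχc v hv
  obtain ⟨c, hc⟩ := exists_nat_sum_subgroup hχc C
  have hc' : (∑ g : C, χ (g : G)) = (2 * (m : ℂ) * (c : ℂ)) := by
    rw [hc, hCcard]; push_cast; ring
  refine ⟨d, s, c, hd0, hdvd, hd, hs, hc', ?_⟩
  have hA := classInner_pairCount2 v v hχ
  have hfun : pairCount2 v v = fun w => ((4 * m : ℕ) : ℂ) ^ 2 *
      ((K : ℂ) * (if w = 1 then 1 else 0) + ((2 * m : ℕ) : ℂ) * Phi C w) :=
    funext (pairCount2_eq C v m K hTI hCv hpair1 hpairC hpair0)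
  have hB : Cfsg.classInner (pairCount2 v v) χ = ((4 * m : ℕ) : ℂ) ^ 2 *
      ((K : ℂ) * ((Nat.card G : ℂ)⁻¹ * d) + ((2 * m : ℕ) : ℂ) * Cfsg.classInner (Phi C) χ) := by
    rw [hfun, classInner_def, classInner_def]
    have : ∀ w : G, ((4 * m : ℕ) : ℂ) ^ 2 *
        ((K : ℂ) * (if w = 1 then 1 else 0) + ((2 * m : ℕ) : ℂ) * Phi C w) * conj (χ w)
        = ((4 * m : ℕ) : ℂ) ^ 2 * (K : ℂ) * (if w = 1 then conj (χ w) else 0)
          + ((4 * m : ℕ) : ℂ) ^ 2 * ((2 * m : ℕ) : ℂ) * (Phi C w * conj (χ w)) := by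
      intro w
      by_cases hw : w = 1
      · simp only [hw, if_true]; ring
      · simp only [hw, if_false]; ring
    simp_rw [this]
    rw [Finset.sum_add_distrib, ← Finset.mul_sum, ← Finset.mul_sum, Finset.sum_ite_eq']
    simp only [Finset.mem_univ, if_true, hd, Complex.conj_natCast]
    ring
  rw [hB, classInner_Phi C hχc d c hd hc, hNcard, hCcard, hG, hd, hs] at hA
  have hm' : (m : ℂ) ≠ 0 := by exact_mod_cast hm.ne'
  have hd' : (d : ℂ) ≠ 0 := by exact_mod_cast hd0.ne'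
  have hK0 : 0 < K := by
    rcases Nat.eq_zero_or_pos K with h | h
    · rw [h, mul_zero] at hG
      exact absurd hG Nat.card_pos.ne'
    · exact h
  have hK' : (K : ℂ) ≠ 0 := by exact_mod_cast hK0.ne'
  have key : (K : ℂ) * (s : ℂ) ^ 2 = (d : ℂ) ^ 2 + 2 * m * d * (2 * m * c - d) := by
    simp only [map_div₀, map_mul, Complex.conj_natCast, map_intCast] at hA
    push_cast at hA
    field_simp at hA
    linear_combination (-1 : ℂ) * hA
  exact_mod_cast key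

end Cfsg.Agent.Lib.Helper27.S4018C
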