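import Mathlib
import Cfsg.Prelude.Def_Characters
import Cfsg.Agent.Lib.Helper11.S4706Defs

/-!
# S4706 FO-1 (for helper11): the counting identity for the alternating square of a
permutation character.
-/

set_option autoImplicit false

namespace Cfsg.Agent.Lib.Helper27.S4706FO

open Cfsg Cfsg.Agent.Lib.Helper11.S4706
open scoped ComplexConjugate

section Alt

variable {G : Type*} [Group G] [Fintype G] {Ω : Type*} [Fintype Ω] [DecidableEq Ω] [MulAction G Ω]

theorem fx_eq_card (g : G) :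
    fx G Ω g = ((Finset.univ : Finset Ω).filter (fun a => g • a = a)).card := by
  classical
  unfold fx
  have : Nat.card (MulAction.fixedBy Ω g) = Nat.card {a : Ω // g • a = a} := rfl
  rw [this, Nat.card_eq_fintype_card, Fintype.card_subtype]

/-- the number of ordered pairs of distinct fixed points -/
theorem card_fixpairs (g : G) :
    ((Finset.univ : Finset (Ω × Ω)).filter
        (fun ab => ab.1 ≠ ab.2 ∧ g • ab.1 = ab.1 ∧ g • ab.2 = ab.2)).card + fx G Ω g =
      fx G Ω g ^ 2 := by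
  classical
  rw [fx_eq_card]
  set Fx := (Finset.univ : Finset Ω).filter (fun a => g • a = a) with hFx
  have h1 : (Fx ×ˢ Fx).card = Fx.card ^ 2 := by rw [Finset.card_product, sq]
  rw [← h1]
  have h2 : Fx.card = ((Fx ×ˢ Fx).filter (fun ab => ab.1 = ab.2)).card := by
    apply Finset.card_bij (fun a _ => (a, a))
    · intro a ha
      rw [Finset.mem_filter, Finset.mem_product]
      exact ⟨⟨ha, ha⟩, rfl⟩
    · intro a _ b _ h
      exact (Prod.mk.inj h).1
    · rintro ⟨a, b⟩ hab
      simp only [Finset.mem_filter, Finset.mem_product] at hab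
      refine ⟨a, hab.1.1, ?_⟩
      rw [Prod.mk.injEq]
      exact ⟨rfl, hab.2⟩
  have h3 : (Finset.univ : Finset (Ω × Ω)).filter
      (fun ab => ab.1 ≠ ab.2 ∧ g • ab.1 = ab.1 ∧ g • ab.2 = ab.2) =
      (Fx ×ˢ Fx).filter (fun ab => ¬ ab.1 = ab.2) := by
    ext ⟨a, b⟩
    simp only [hFx, Finset.mem_filter, Finset.mem_univ, true_and, Finset.mem_product, ne_eq]
    tauto
  rw [h3]
  conv_lhs => rw [h2]
  rw [add_comm]
  exact Finset.card_filter_add_card_filter_not (fun ab : Ω × Ω => ab.1 = ab.2)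

/-- the number of ordered pairs swapped by `g` -/
theorem card_swappairs (g : G) :
    ((Finset.univ : Finset (Ω × Ω)).filter
        (fun ab => ab.1 ≠ ab.2 ∧ g • ab.1 = ab.2 ∧ g • ab.2 = ab.1)).card + fx G Ω g =
      fx G Ω (g ^ 2) := by
  classical
  rw [fx_eq_card, fx_eq_card]
  set Fx := (Finset.univ : Finset Ω).filter (fun a => g • a = a) with hFx
  set Fx2 := (Finset.univ : Finset Ω).filter (fun a => g ^ 2 • a = a) with hFx2
  have h1 : ((Finset.univ : Finset (Ω × Ω)).filter
        (fun ab => ab.1 ≠ ab.2 ∧ g • ab.1 = ab.2 ∧ g • ab.2 = ab.1)).card =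
      (Fx2.filter (fun a => ¬ g • a = a)).card := by
    apply Finset.card_bij (fun ab _ => ab.1)
    · rintro ⟨a, b⟩ hab
      simp only [Finset.mem_filter, Finset.mem_univ, true_and, ne_eq] at hab
      simp only [hFx2, Finset.mem_filter, Finset.mem_univ, true_and]
      refine ⟨?_, ?_⟩
      · rw [sq, mul_smul, hab.2.1, hab.2.2]
      · rw [hab.2.1]; exact fun h => hab.1 h.symm
    · rintro ⟨a, b⟩ hab ⟨a', b'⟩ hab' h
      simp only [Finset.mem_filter, Finset.mem_univ, true_and, ne_eq] at hab hab'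
      simp only at h
      subst h
      rw [Prod.mk.injEq]
      exact ⟨rfl, hab.2.1.symm.trans hab'.2.1⟩
    · intro a ha
      simp only [hFx2, Finset.mem_filter, Finset.mem_univ, true_and] at ha
      refine ⟨(a, g • a), ?_, rfl⟩
      rw [Finset.mem_filter]
      refine ⟨Finset.mem_univ _, fun h => ha.2 h.symm, rfl, ?_⟩
      show g • g • a = a
      rw [← mul_smul, ← sq]; exact ha.1
  have h2 : Fx = Fx2.filter (fun a => g • a = a) := by
    ext a
    simp only [hFx, hFx2, Finset.mem_filter, Finset.mem_univ, true_and]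
    constructor
    · intro h
      exact ⟨by rw [sq, mul_smul, h, h], h⟩
    · exact fun h => h.2
  rw [h1]
  conv_lhs => rw [h2]
  rw [add_comm]
  exact Finset.card_filter_add_card_filter_not (fun a : Ω => g • a = a)

/-- `altSq g` as a signed count of ordered pairs -/
theorem altSq_eq_count (g : G) :
    altSq G Ω g = (1 / 2 : ℂ) *
      ∑ ab ∈ (Finset.univ : Finset (Ω × Ω)).filter (fun ab => ab.1 ≠ ab.2),
        ((if g • ab.1 = ab.1 ∧ g • ab.2 = ab.2 then (1 : ℂ) else 0) -
          (if g • ab.1 = ab.2 ∧ g • ab.2 = ab.1 then (1 : ℂ) else 0)) := by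
  classical
  have h1 := card_fixpairs (Ω := Ω) g
  have h2 := card_swappairs (Ω := Ω) g
  rw [Finset.sum_sub_distrib, ← Finset.sum_filter, ← Finset.sum_filter, Finset.filter_filter,
    Finset.filter_filter, Finset.sum_const, Finset.sum_const, nsmul_eq_mul, nsmul_eq_mul,
    mul_one, mul_one]
  unfold altSq
  have h1' : (((Finset.univ : Finset (Ω × Ω)).filter
        (fun ab => ab.1 ≠ ab.2 ∧ g • ab.1 = ab.1 ∧ g • ab.2 = ab.2)).card : ℂ) =
      (fx G Ω g : ℂ) ^ 2 - (fx G Ω g : ℂ) := by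
    rw [eq_sub_iff_add_eq]; exact_mod_cast h1
  have h2' : (((Finset.univ : Finset (Ω × Ω)).filter
        (fun ab => ab.1 ≠ ab.2 ∧ g • ab.1 = ab.2 ∧ g • ab.2 = ab.1)).card : ℂ) =
      (fx G Ω (g ^ 2) : ℂ) - (fx G Ω g : ℂ) := by
    rw [eq_sub_iff_add_eq]; exact_mod_cast h2
  rw [h1', h2']
  ring

/-- **FO-1** (counting identity). -/
theorem altSq_sum_mul (F : G → ℂ) :
    ∑ g : G, altSq G Ω g * F g
      = (1 / 2 : ℂ) * ∑ ab ∈ (Finset.univ : Finset (Ω × Ω)).filter (fun ab => ab.1 ≠ ab.2),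
          ((∑ g ∈ Finset.univ.filter (fun g : G => g • ab.1 = ab.1 ∧ g • ab.2 = ab.2), F g)
            - ∑ g ∈ Finset.univ.filter (fun g : G => g • ab.1 = ab.2 ∧ g • ab.2 = ab.1), F g) := by
  classical
  simp only [altSq_eq_count (Ω := Ω), mul_assoc, Finset.sum_mul]
  rw [← Finset.mul_sum, Finset.sum_comm]
  congr 1
  apply Finset.sum_congr rfl
  intro ab _
  rw [Finset.sum_filter, Finset.sum_filter, ← Finset.sum_sub_distrib]
  apply Finset.sum_congr rfl
  intro g _
  by_cases h1 : g • ab.1 = ab.1 ∧ g • ab.2 = ab.2 <;>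
  by_cases h2 : g • ab.1 = ab.2 ∧ g • ab.2 = ab.1
  · rw [if_pos h1, if_pos h2, if_pos h1, if_pos h2]; ring
  · rw [if_pos h1, if_neg h2, if_pos h1, if_neg h2]; ring
  · rw [if_neg h1, if_pos h2, if_neg h1, if_pos h2]; ring
  · rw [if_neg h1, if_neg h2, if_neg h1, if_neg h2]; ring

end Alt

end Cfsg.Agent.Lib.Helper27.S4706FO
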