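import Mathlib
import Cfsg.Prelude.Def_Characters
import Cfsg.Agent.Lib.Helper11.S4706Defs
import Cfsg.Agent.Lib.Helper27.S4706FO1
import Cfsg.Agent.Lib.Helper2.Linear

/-!
# S4706 FO-2 (for helper11): `[Alt² π, χ] ≥ 0` for every irreducible `χ`.
-/

set_option autoImplicit false

namespace Cfsg.Agent.Lib.Helper27.S4706FO

open Cfsg Cfsg.Agent.Lib.Helper11.S4706
open scoped ComplexConjugate

section Alt

variable {G : Type*} [Group G] {Ω : Type*} [MulAction G Ω]

/-- the setwise stabiliser of `{a, b}` -/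
def pairStab (G : Type*) [Group G] {Ω : Type*} [MulAction G Ω] (a b : Ω) : Subgroup G where
  carrier := {g | (g • a = a ∧ g • b = b) ∨ (g • a = b ∧ g • b = a)}
  one_mem' := Or.inl ⟨one_smul _ _, one_smul _ _⟩
  mul_mem' := by
    rintro g h (⟨g1, g2⟩ | ⟨g1, g2⟩) (⟨h1, h2⟩ | ⟨h1, h2⟩)
    · exact Or.inl ⟨by rw [mul_smul, h1, g1], by rw [mul_smul, h2, g2]⟩
    · exact Or.inr ⟨by rw [mul_smul, h1, g2], by rw [mul_smul, h2, g1]⟩
    · exact Or.inr ⟨by rw [mul_smul, h1, g1], by rw [mul_smul, h2, g2]⟩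
    · exact Or.inl ⟨by rw [mul_smul, h1, g2], by rw [mul_smul, h2, g1]⟩
  inv_mem' := by
    rintro g (⟨g1, g2⟩ | ⟨g1, g2⟩)
    · exact Or.inl ⟨by rw [inv_smul_eq_iff, g1], by rw [inv_smul_eq_iff, g2]⟩
    · exact Or.inr ⟨by rw [inv_smul_eq_iff, g2], by rw [inv_smul_eq_iff, g1]⟩

theorem mem_pairStab {a b : Ω} {g : G} :
    g ∈ pairStab G a b ↔ (g • a = a ∧ g • b = b) ∨ (g • a = b ∧ g • b = a) := Iff.rfl

open Classical in
/-- the sign character of the setwise stabiliser of `{a, b}` -/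
noncomputable def pairSign (G : Type*) [Group G] {Ω : Type*} [MulAction G Ω] (a b : Ω) :
    pairStab G a b →* ℂˣ where
  toFun k := if (k : G) • a = a then 1 else -1
  map_one' := by simp
  map_mul' := by
    rintro ⟨g, hg⟩ ⟨h, hh⟩
    show (if (g * h) • a = a then (1 : ℂˣ) else -1) =
      (if g • a = a then 1 else -1) * (if h • a = a then 1 else -1)
    rcases hg with ⟨g1, g2⟩ | ⟨g1, g2⟩ <;> rcases hh with ⟨h1, h2⟩ | ⟨h1, h2⟩
    · rw [mul_smul, h1, g1]; simp
    · rw [mul_smul, h1, g2, g1]; simp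
    · rw [mul_smul, h1, g1]; simp
    · rw [mul_smul, h1, g2, g1]
      by_cases hba : b = a
      · simp [hba]
      · simp [hba]

open Classical in
theorem pairSign_of_fix {a b : Ω} (k : pairStab G a b) (h : (k : G) • a = a) :
    pairSign G a b k = 1 := by
  show (if (k : G) • a = a then (1 : ℂˣ) else -1) = 1
  rw [if_pos h]

open Classical in
theorem pairSign_of_not_fix {a b : Ω} (k : pairStab G a b) (h : ¬ (k : G) • a = a) :
    pairSign G a b k = -1 := by
  show (if (k : G) • a = a then (1 : ℂˣ) else -1) = -1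
  rw [if_neg h]

variable [Fintype G] [DecidableEq Ω]

/-- the inner term `T_ab` as a sum over the setwise stabiliser -/
theorem T_eq_sum_pairStab {a b : Ω} (hab : a ≠ b) (F : G → ℂ) [Fintype (pairStab G a b)] :
    (∑ g ∈ Finset.univ.filter (fun g : G => g • a = a ∧ g • b = b), F g) -
        ∑ g ∈ Finset.univ.filter (fun g : G => g • a = b ∧ g • b = a), F g =
      ∑ k : pairStab G a b, ((pairSign G a b k : ℂˣ) : ℂ) * F k := by
  classical
  have h1 : ∑ k : pairStab G a b, ((pairSign G a b k : ℂˣ) : ℂ) * F k =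
      ∑ g ∈ Finset.univ.filter (fun g : G => g ∈ pairStab G a b),
        (((if g • a = a then (1 : ℂˣ) else -1 : ℂˣ) : ℂ)) * F g := by
    rw [Finset.sum_subtype (Finset.univ.filter (fun g : G => g ∈ pairStab G a b))
      (p := fun g => g ∈ pairStab G a b) (by intro g; simp)]
    apply Finset.sum_congr rfl
    intro k _
    by_cases hk : (k : G) • a = a
    · rw [pairSign_of_fix k hk, if_pos hk]
    · rw [pairSign_of_not_fix k hk, if_neg hk]
  rw [h1]
  have h2 : Finset.univ.filter (fun g : G => g ∈ pairStab G a b) =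
      Finset.univ.filter (fun g : G => g • a = a ∧ g • b = b) ∪
        Finset.univ.filter (fun g : G => g • a = b ∧ g • b = a) := by
    ext g
    simp only [Finset.mem_filter, Finset.mem_univ, true_and, Finset.mem_union, mem_pairStab]
  have hdisj : Disjoint (Finset.univ.filter (fun g : G => g • a = a ∧ g • b = b))
      (Finset.univ.filter (fun g : G => g • a = b ∧ g • b = a)) := by
    rw [Finset.disjoint_filter]
    intro g _ h1 h2
    exact hab (h1.1.symm.trans h2.1)
  rw [h2, Finset.sum_union hdisj, sub_eq_add_neg, ← Finset.sum_neg_distrib]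
  congr 1
  · apply Finset.sum_congr rfl
    intro g hg
    rw [Finset.mem_filter] at hg
    rw [if_pos hg.2.1]
    simp
  · apply Finset.sum_congr rfl
    intro g hg
    rw [Finset.mem_filter] at hg
    rw [if_neg (fun h => hab (h.symm.trans hg.2.1))]
    simp

variable [Fintype Ω]

/-- **FO-2** (positivity). -/
theorem altSq_inner_nonneg (χ : G → ℂ) (hχ : IsIrrCharacter G χ) :
    ∃ r : ℝ, 0 ≤ r ∧ classInner (altSq G Ω) χ = (r : ℂ) := by
  classical
  have hχc : IsCharacter G χ := Cfsg.Agent.Lib.Helper2.IsIrrCharacter.isCharacter hχ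
  -- the multiplicities
  have hn : ∀ ab : Ω × Ω, ∃ n : ℕ,
      classInner (fun k : pairStab G ab.1 ab.2 => ((pairSign G ab.1 ab.2 k : ℂˣ) : ℂ))
        (fun k : pairStab G ab.1 ab.2 => χ k) = (n : ℂ) := by
    intro ab
    exact Cfsg.Agent.Lib.Helper2.classInner_isCharacter_nat
      (Cfsg.Agent.Lib.Helper2.IsIrrCharacter.isCharacter
        (Cfsg.Agent.Lib.Helper2.isIrrCharacter_of_monoidHom (pairSign G ab.1 ab.2)))
      (Cfsg.Agent.Lib.Helper2.IsCharacter.restrict hχc (pairStab G ab.1 ab.2))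
  choose n hn using hn
  set P := (Finset.univ : Finset (Ω × Ω)).filter (fun ab => ab.1 ≠ ab.2) with hP
  refine ⟨(Fintype.card G : ℝ)⁻¹ * ((1 / 2 : ℝ) *
    ∑ ab ∈ P, (Nat.card (pairStab G ab.1 ab.2) : ℝ) * (n ab : ℝ)), ?_, ?_⟩
  · apply mul_nonneg (inv_nonneg.2 (Nat.cast_nonneg _))
    apply mul_nonneg (by norm_num)
    apply Finset.sum_nonneg
    intro ab _
    exact mul_nonneg (Nat.cast_nonneg _) (Nat.cast_nonneg _)
  · unfold classInner
    rw [altSq_sum_mul (Ω := Ω) (fun g => conj (χ g)), Nat.card_eq_fintype_card]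
    push_cast
    congr 2
    apply Finset.sum_congr rfl
    intro ab hab
    rw [Finset.mem_filter] at hab
    rw [T_eq_sum_pairStab hab.2 (fun g => conj (χ g)), ← hn ab]
    unfold classInner
    have hpos : ((Nat.card (pairStab G ab.1 ab.2) : ℕ) : ℂ) ≠ 0 := by
      exact_mod_cast Nat.card_pos.ne'
    rw [← mul_assoc, mul_inv_cancel₀ hpos, one_mul]

end Alt

end Cfsg.Agent.Lib.Helper27.S4706FO
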