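import Mathlib
import Cfsg.Prelude.Def_Characters
import Cfsg.Agent.Lib.Helper11.S4706Defs
import Cfsg.Agent.Lib.Helper27.S4706FO1

/-!
# S4706 FO-3 (for helper11): `[Alt² π, 1] = 0` and `[Alt² π, π] ≥ 1`.
-/

set_option autoImplicit false

namespace Cfsg.Agent.Lib.Helper27.S4706FO

open Cfsg Cfsg.Agent.Lib.Helper11.S4706
open scoped ComplexConjugate

section Alt

variable {G : Type*} [Group G] [Fintype G] {Ω : Type*} [Fintype Ω] [DecidableEq Ω] [MulAction G Ω]

/-- left multiplication by a swap of `a`, `b` exchanges the pointwise stabiliser of `a, b` and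
the set of swaps -/
theorem card_fix_eq_card_swap {a b : Ω} {s : G} (hsa : s • a = b) (hsb : s • b = a)
    (q : G → Prop) [DecidablePred q] (hq : ∀ g, q (s * g) ↔ q g) :
    ((Finset.univ : Finset G).filter (fun g => (g • a = a ∧ g • b = b) ∧ q g)).card =
      ((Finset.univ : Finset G).filter (fun g => (g • a = b ∧ g • b = a) ∧ q g)).card := by
  classical
  have hia : s⁻¹ • b = a := by rw [← hsa, inv_smul_smul]
  have hib : s⁻¹ • a = b := by rw [← hsb, inv_smul_smul]
  apply Finset.card_bij (fun g _ => s * g)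
  · intro g hg
    rw [Finset.mem_filter] at hg ⊢
    obtain ⟨_, ⟨h1, h2⟩, h3⟩ := hg
    refine ⟨Finset.mem_univ _, ⟨?_, ?_⟩, (hq g).2 h3⟩
    · rw [mul_smul, h1, hsa]
    · rw [mul_smul, h2, hsb]
  · intro g _ g' _ h
    exact mul_left_cancel h
  · intro g hg
    rw [Finset.mem_filter] at hg
    obtain ⟨_, ⟨h1, h2⟩, h3⟩ := hg
    refine ⟨s⁻¹ * g, ?_, mul_inv_cancel_left s g⟩
    rw [Finset.mem_filter]
    refine ⟨Finset.mem_univ _, ⟨?_, ?_⟩, ?_⟩
    · rw [mul_smul, h1, hia]
    · rw [mul_smul, h2, hib]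
    · rw [← hq, mul_inv_cancel_left]; exact h3

/-- **FO-3a**. -/
theorem altSq_inner_one (hswap : ∀ a b : Ω, a ≠ b → ∃ g : G, g • a = b ∧ g • b = a) :
    classInner (altSq G Ω) (fun _ => (1 : ℂ)) = 0 := by
  classical
  unfold classInner
  have h0 : ∑ g : G, altSq G Ω g * conj ((fun _ => (1 : ℂ)) g) =
      ∑ g : G, altSq G Ω g * (fun _ => (1 : ℂ)) g := by
    apply Finset.sum_congr rfl
    intro g _
    simp
  rw [h0, altSq_sum_mul (Ω := Ω) (fun _ => (1 : ℂ))]
  have h1 : ∀ ab ∈ (Finset.univ : Finset (Ω × Ω)).filter (fun ab => ab.1 ≠ ab.2),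
      ((∑ g ∈ Finset.univ.filter (fun g : G => g • ab.1 = ab.1 ∧ g • ab.2 = ab.2), (1 : ℂ))
        - ∑ g ∈ Finset.univ.filter (fun g : G => g • ab.1 = ab.2 ∧ g • ab.2 = ab.1), (1 : ℂ))
        = 0 := by
    intro ab hab
    rw [Finset.mem_filter] at hab
    obtain ⟨s, hsa, hsb⟩ := hswap ab.1 ab.2 hab.2
    have := card_fix_eq_card_swap (G := G) hsa hsb (fun _ => True) (fun _ => Iff.rfl)
    simp only [and_true] at this
    rw [Finset.sum_const, Finset.sum_const, this, sub_self]
  rw [Finset.sum_eq_zero h1, mul_zero, mul_zero]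

/-- the sum of the orders of the two-point stabilisers over all ordered pairs of distinct points,
for a group that is transitive on these pairs -/
theorem sum_card_stab_pairs (hΩ : 2 ≤ Fintype.card Ω)
    (h2 : ∀ a b c d : Ω, a ≠ b → c ≠ d → ∃ g : G, g • a = c ∧ g • b = d) :
    ∑ ab ∈ (Finset.univ : Finset (Ω × Ω)).filter (fun ab => ab.1 ≠ ab.2),
      ((Finset.univ : Finset G).filter (fun g => g • ab.1 = ab.1 ∧ g • ab.2 = ab.2)).card =
      Fintype.card G := by
  classical
  obtain ⟨a0, b0, hab0⟩ := Fintype.exists_pair_of_one_lt_card (α := Ω) (by omega)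
  -- the fibres of `g ↦ (g a0, g b0)`
  have hfib : ∀ ab ∈ (Finset.univ : Finset (Ω × Ω)).filter (fun ab => ab.1 ≠ ab.2),
      ((Finset.univ : Finset G).filter (fun g => g • ab.1 = ab.1 ∧ g • ab.2 = ab.2)).card =
      ((Finset.univ : Finset G).filter (fun g => (g • a0, g • b0) = ab)).card := by
    intro ab hab
    rw [Finset.mem_filter] at hab
    obtain ⟨h, hha, hhb⟩ := h2 a0 b0 ab.1 ab.2 hab0 hab.2
    apply Finset.card_bij (fun g _ => g * h)
    · intro g hg
      rw [Finset.mem_filter] at hg ⊢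
      refine ⟨Finset.mem_univ _, ?_⟩
      rw [mul_smul, mul_smul, hha, hhb, hg.2.1, hg.2.2]
    · intro g _ g' _ e
      exact mul_right_cancel e
    · intro g hg
      rw [Finset.mem_filter] at hg
      have e := hg.2
      have e1 : g • a0 = ab.1 := congrArg Prod.fst e
      have e2 : g • b0 = ab.2 := congrArg Prod.snd e
      refine ⟨g * h⁻¹, ?_, inv_mul_cancel_right g h⟩
      rw [Finset.mem_filter]
      refine ⟨Finset.mem_univ _, ?_, ?_⟩
      · rw [mul_smul, ← hha, inv_smul_smul, e1, hha]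
      · rw [mul_smul, ← hhb, inv_smul_smul, e2, hhb]
  rw [Finset.sum_congr rfl hfib, ← Finset.card_univ (α := G)]
  symm
  apply Finset.card_eq_sum_card_fiberwise
  intro g _
  rw [Finset.mem_coe, Finset.mem_filter]
  refine ⟨Finset.mem_univ _, ?_⟩
  show g • a0 ≠ g • b0
  exact fun h => hab0 (MulAction.injective g h)

/-- the integer `T_ab` for the permutation character is at least `2 |G_ab|` -/
theorem two_mul_card_le_T {a b : Ω} (hab : a ≠ b) :
    2 * (((Finset.univ : Finset G).filter (fun g => g • a = a ∧ g • b = b)).card : ℤ) ≤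
      (∑ g ∈ Finset.univ.filter (fun g : G => g • a = a ∧ g • b = b), (fx G Ω g : ℤ)) -
        ∑ g ∈ Finset.univ.filter (fun g : G => g • a = b ∧ g • b = a), (fx G Ω g : ℤ) := by
  classical
  -- rewrite `fx` as a sum over points and swap the sums
  have hfx : ∀ g : G, (fx G Ω g : ℤ) = ∑ x : Ω, (if g • x = x then (1 : ℤ) else 0) := by
    intro g
    rw [fx_eq_card, Finset.card_filter]
    push_cast
    rfl
  simp only [hfx]
  rw [Finset.sum_comm, Finset.sum_comm (s := Finset.univ.filter (fun g : G => g • a = b ∧ g • b = a)),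
    ← Finset.sum_sub_distrib]
  -- the terms
  set D : Ω → ℤ := fun x =>
    (∑ g ∈ Finset.univ.filter (fun g : G => g • a = a ∧ g • b = b),
        (if g • x = x then (1 : ℤ) else 0)) -
      ∑ g ∈ Finset.univ.filter (fun g : G => g • a = b ∧ g • b = a),
        (if g • x = x then (1 : ℤ) else 0) with hD
  have hDnn : ∀ x, 0 ≤ D x := by
    intro x
    simp only [hD]
    rw [← Finset.sum_filter, ← Finset.sum_filter, Finset.filter_filter, Finset.filter_filter,
      Finset.sum_const, Finset.sum_const, nsmul_eq_mul, nsmul_eq_mul, mul_one, mul_one]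
    by_cases hex : ∃ s : G, (s • a = b ∧ s • b = a) ∧ s • x = x
    · obtain ⟨s, ⟨hsa, hsb⟩, hsx⟩ := hex
      have := card_fix_eq_card_swap (G := G) hsa hsb (fun g => g • x = x) (fun g => by
        constructor
        · intro h
          have : s⁻¹ • (s * g) • x = s⁻¹ • x := by rw [h]
          rw [mul_smul, inv_smul_smul] at this
          rw [this, ← hsx, inv_smul_smul, hsx]
        · intro h
          rw [mul_smul, h, hsx])
      rw [this, sub_self]
    · have : (Finset.univ : Finset G).filter (fun g => (g • a = b ∧ g • b = a) ∧ g • x = x) = ∅ := by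
        rw [Finset.filter_eq_empty_iff]
        intro g _ hg
        exact hex ⟨g, hg⟩
      rw [this, Finset.card_empty]
      simp
  have hDa : D a = (((Finset.univ : Finset G).filter (fun g => g • a = a ∧ g • b = b)).card : ℤ) := by
    simp only [hD]
    rw [← Finset.sum_filter, ← Finset.sum_filter, Finset.filter_filter, Finset.filter_filter,
      Finset.sum_const, Finset.sum_const, nsmul_eq_mul, nsmul_eq_mul, mul_one, mul_one]
    have h1 : (Finset.univ : Finset G).filter (fun g => (g • a = b ∧ g • b = a) ∧ g • a = a) = ∅ := by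
      rw [Finset.filter_eq_empty_iff]
      intro g _ hg
      exact hab (hg.2.symm.trans hg.1.1)
    have h2 : (Finset.univ : Finset G).filter (fun g => (g • a = a ∧ g • b = b) ∧ g • a = a) =
        (Finset.univ : Finset G).filter (fun g => g • a = a ∧ g • b = b) := by
      apply Finset.filter_congr
      intro g _
      tauto
    rw [h1, h2, Finset.card_empty]
    simp
  have hDb : D b = (((Finset.univ : Finset G).filter (fun g => g • a = a ∧ g • b = b)).card : ℤ) := by
    simp only [hD]
    rw [← Finset.sum_filter, ← Finset.sum_filter, Finset.filter_filter, Finset.filter_filter,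
      Finset.sum_const, Finset.sum_const, nsmul_eq_mul, nsmul_eq_mul, mul_one, mul_one]
    have h1 : (Finset.univ : Finset G).filter (fun g => (g • a = b ∧ g • b = a) ∧ g • b = b) = ∅ := by
      rw [Finset.filter_eq_empty_iff]
      intro g _ hg
      exact hab (hg.1.2.symm.trans hg.2)
    have h2 : (Finset.univ : Finset G).filter (fun g => (g • a = a ∧ g • b = b) ∧ g • b = b) =
        (Finset.univ : Finset G).filter (fun g => g • a = a ∧ g • b = b) := by
      apply Finset.filter_congr
      intro g _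
      tauto
    rw [h1, h2, Finset.card_empty]
    simp
  have hsub : ({a, b} : Finset Ω) ⊆ Finset.univ := Finset.subset_univ _
  have hle : ∑ x ∈ ({a, b} : Finset Ω), D x ≤ ∑ x : Ω, D x :=
    Finset.sum_le_sum_of_subset_of_nonneg hsub (fun x _ _ => hDnn x)
  rw [Finset.sum_pair hab, hDa, hDb] at hle
  calc 2 * (((Finset.univ : Finset G).filter (fun g => g • a = a ∧ g • b = b)).card : ℤ)
      = _ + _ := two_mul _
    _ ≤ ∑ x : Ω, D x := hle

/-- **FO-3b**. -/
theorem altSq_inner_pch (hΩ : 2 ≤ Fintype.card Ω)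
    (h2 : ∀ a b c d : Ω, a ≠ b → c ≠ d → ∃ g : G, g • a = c ∧ g • b = d) :
    ∃ r : ℝ, 1 ≤ r ∧ classInner (altSq G Ω) (pch G Ω) = (r : ℂ) := by
  classical
  set P := (Finset.univ : Finset (Ω × Ω)).filter (fun ab => ab.1 ≠ ab.2) with hP
  set T : Ω × Ω → ℤ := fun ab =>
    (∑ g ∈ Finset.univ.filter (fun g : G => g • ab.1 = ab.1 ∧ g • ab.2 = ab.2), (fx G Ω g : ℤ)) -
      ∑ g ∈ Finset.univ.filter (fun g : G => g • ab.1 = ab.2 ∧ g • ab.2 = ab.1), (fx G Ω g : ℤ)
    with hT
  have hGpos : (0 : ℝ) < Fintype.card G := by exact_mod_cast Fintype.card_pos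
  refine ⟨(Fintype.card G : ℝ)⁻¹ * ((1 / 2 : ℝ) * ∑ ab ∈ P, (T ab : ℝ)), ?_, ?_⟩
  · have hsum : (2 * Fintype.card G : ℤ) ≤ ∑ ab ∈ P, T ab := by
      have := sum_card_stab_pairs (G := G) hΩ h2
      calc (2 * Fintype.card G : ℤ)
          = ∑ ab ∈ P, 2 * (((Finset.univ : Finset G).filter
              (fun g => g • ab.1 = ab.1 ∧ g • ab.2 = ab.2)).card : ℤ) := by
            rw [← Finset.mul_sum, ← this]; push_cast; rfl
        _ ≤ ∑ ab ∈ P, T ab := by
            apply Finset.sum_le_sum
            intro ab hab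
            rw [hP, Finset.mem_filter] at hab
            exact two_mul_card_le_T (G := G) hab.2
    have hsum' : (2 * Fintype.card G : ℝ) ≤ ∑ ab ∈ P, (T ab : ℝ) := by exact_mod_cast hsum
    rw [le_inv_mul_iff₀ hGpos]
    linarith
  · unfold classInner
    have h0 : ∑ g : G, altSq G Ω g * conj (pch G Ω g) = ∑ g : G, altSq G Ω g * pch G Ω g := by
      apply Finset.sum_congr rfl
      intro g _
      unfold pch
      rw [Complex.conj_natCast]
    rw [h0, altSq_sum_mul (Ω := Ω) (pch G Ω), Nat.card_eq_fintype_card]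
    push_cast
    congr 2
    apply Finset.sum_congr rfl
    intro ab _
    simp only [hT, pch]
    push_cast
    rfl

end Alt

end Cfsg.Agent.Lib.Helper27.S4706FO
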