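import Mathlib
import Cfsg.Agent.Lib.Helper28.SpSubfDefs

/-!
# S5650 FO-SYL (helper27): the Sylow trick

For two symplectic transvections `T(v,1)`, `T(w,1)` of a finite subgroup `M ≤ Sp` with
`B(v,w) ≠ 0` there is `δ ∈ M` with `δ v = c w`, `c ≠ 0`, fixing `{v,w}^⊥` pointwise.
-/

set_option autoImplicit false

namespace Cfsg.Agent.Lib.Helper27.S5650FOSYL

open Matrix Cfsg.Agent.Lib.Helper6 Cfsg.Agent.Lib.Helper13 Cfsg.Agent.Lib.Helper28.SpSubf

variable {F : Type*} [Field F] {m : ℕ}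

local notation "ff" => Cfsg.sympForm m F
local notation "ι" => (Fin m ⊕ Fin m)

/-- the property of elements of `⟨T(v,1), T(w,1)⟩` -/
def QQ (v w : ι → F) (g : GL ι F) : Prop :=
  (∀ x : ι → F, ∃ a b : F, (g : Matrix ι ι F) *ᵥ x = x + a • v + b • w) ∧
  (∀ x : ι → F, ff x v = 0 → ff x w = 0 → (g : Matrix ι ι F) *ᵥ x = x)

theorem QQ_one (v w : ι → F) : QQ v w (1 : GL ι F) := by
  refine ⟨fun x => ⟨0, 0, ?_⟩, fun x _ _ => ?_⟩
  · rw [Units.val_one, one_mulVec, zero_smul, zero_smul, add_zero, add_zero]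
  · rw [Units.val_one, one_mulVec]

theorem QQ_mul (v w : ι → F) {g h : GL ι F} (hg : QQ v w g) (hh : QQ v w h) :
    QQ v w (g * h) := by
  refine ⟨fun x => ?_, fun x hxv hxw => ?_⟩
  · obtain ⟨a, b, hab⟩ := hh.1 x
    obtain ⟨a₁, b₁, h₁⟩ := hg.1 x
    obtain ⟨a₂, b₂, h₂⟩ := hg.1 v
    obtain ⟨a₃, b₃, h₃⟩ := hg.1 w
    refine ⟨a₁ + a * (1 + a₂) + b * a₃, b₁ + a * b₂ + b * (1 + b₃), ?_⟩
    rw [Units.val_mul, ← mulVec_mulVec, hab, mulVec_add, mulVec_add, mulVec_smul, mulVec_smul,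
      h₁, h₂, h₃]
    module
  · rw [Units.val_mul, ← mulVec_mulVec, hh.2 x hxv hxw, hg.2 x hxv hxw]

theorem QQ_inv (v w : ι → F) {g : GL ι F} (hg : QQ v w g) : QQ v w g⁻¹ := by
  refine ⟨fun x => ?_, fun x hxv hxw => ?_⟩
  · obtain ⟨a, b, hab⟩ := hg.1 (((g⁻¹ : GL ι F) : Matrix ι ι F) *ᵥ x)
    rw [mulVec_inv_mulVec] at hab
    refine ⟨-a, -b, ?_⟩
    have h2 : ((g⁻¹ : GL ι F) : Matrix ι ι F) *ᵥ x = x - a • v - b • w := by
      rw [sub_sub, eq_sub_iff_add_eq, ← add_assoc]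
      exact hab.symm
    rw [h2]
    module
  · have h := hg.2 x hxv hxw
    conv_lhs => rw [← h]
    rw [inv_mulVec_mulVec]

theorem QQ_transv_left (v w : ι → F) (c : F) : QQ v w (sympTransvGL v c) := by
  refine ⟨fun x => ⟨c * ff x v, 0, ?_⟩, fun x hxv _ => ?_⟩
  · rw [sympTransvGL_mulVec, zero_smul, add_zero]
  · rw [sympTransvGL_mulVec, hxv, mul_zero, zero_smul, add_zero]

theorem QQ_transv_right (v w : ι → F) (c : F) : QQ v w (sympTransvGL w c) := by
  refine ⟨fun x => ⟨0, c * ff x w, ?_⟩, fun x _ hxw => ?_⟩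
  · rw [sympTransvGL_mulVec, zero_smul, add_zero]
  · rw [sympTransvGL_mulVec, hxw, mul_zero, zero_smul, add_zero]

theorem QQ_of_mem_closure (v w : ι → F) {g : GL ι F}
    (hg : g ∈ Subgroup.closure ({sympTransvGL v 1, sympTransvGL w 1} : Set (GL ι F))) :
    QQ v w g := by
  induction hg using Subgroup.closure_induction with
  | mem x hx =>
    rcases hx with rfl | rfl
    · exact QQ_transv_left v w 1
    · exact QQ_transv_right v w 1
  | one => exact QQ_one v w
  | mul x y _ _ hx hy => exact QQ_mul v w hx hy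
  | inv x _ hx => exact QQ_inv v w hx

/-- the nilpotent part of `T(w,1) T(u,1)` moves the pair `(B(x,u), B(x,w))` injectively if
`B(w,u) ≠ 0` -/
theorem N_mulVec (u w x : ι → F) :
    (((sympTransvGL w 1 * sympTransvGL u 1 : GL ι F) : Matrix ι ι F) - 1) *ᵥ x =
      ff x u • u + (ff x w + ff x u * ff u w) • w := by
  rw [sub_mulVec, one_mulVec, Units.val_mul, ← mulVec_mulVec, sympTransvGL_mulVec,
    sympTransvGL_mulVec, sympForm_add_left, sympForm_smul_left]
  module

theorem N_pow_ne (u w : ι → F) (hγ : ff w u ≠ 0) (k : ℕ) :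
    ff (((((sympTransvGL w 1 * sympTransvGL u 1 : GL ι F) : Matrix ι ι F) - 1) ^ k) *ᵥ w) u ≠ 0 ∨
    ff (((((sympTransvGL w 1 * sympTransvGL u 1 : GL ι F) : Matrix ι ι F) - 1) ^ k) *ᵥ w) w ≠ 0 := by
  induction k with
  | zero =>
    left
    rw [pow_zero, one_mulVec]
    exact hγ
  | succ k ih =>
    rw [pow_succ', ← mulVec_mulVec, N_mulVec]
    set y := ((((sympTransvGL w 1 * sympTransvGL u 1 : GL ι F) : Matrix ι ι F) - 1) ^ k) *ᵥ w
      with hy
    have huw : ff u w = - ff w u := sympForm_swap u w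
    by_contra hcon
    push Not at hcon
    obtain ⟨h1, h2⟩ := hcon
    rw [sympForm_add_left, sympForm_smul_left, sympForm_smul_left, sympForm_self, mul_zero,
      zero_add] at h1
    rw [sympForm_add_left, sympForm_smul_left, sympForm_smul_left, sympForm_self, mul_zero,
      add_zero] at h2
    have hs : ff y u = 0 := by
      rcases mul_eq_zero.mp h2 with h | h
      · exact h
      · rw [huw, neg_eq_zero] at h
        exact absurd h hγ
    rw [hs, zero_mul, add_zero] at h1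
    have ht : ff y w = 0 := by
      rcases mul_eq_zero.mp h1 with h | h
      · exact h
      · exact absurd h hγ
    rcases ih with h | h
    · exact h hs
    · exact h ht

theorem exists_sylow_conj [Finite F] (M : Subgroup (GL (Fin m ⊕ Fin m) F))
    (hMS : M ≤ Cfsg.spGL m F) (v w : Fin m ⊕ Fin m → F)
    (hv : sympTransvGL v 1 ∈ M) (hw : sympTransvGL w 1 ∈ M) (hvw : ff v w ≠ 0) :
    ∃ δ ∈ M, ∃ c : F, c ≠ 0 ∧
      (δ : Matrix (Fin m ⊕ Fin m) (Fin m ⊕ Fin m) F) *ᵥ v = c • w ∧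
      ∀ x, ff x v = 0 → ff x w = 0 →
        (δ : Matrix (Fin m ⊕ Fin m) (Fin m ⊕ Fin m) F) *ᵥ x = x := by
  classical
  haveI : Fintype F := Fintype.ofFinite F
  set p := ringChar F with hp
  haveI hcp : CharP F p := ringChar.charP F
  have hpp : p.Prime := CharP.char_is_prime F p
  have : Fact p.Prime := ⟨hpp⟩
  have hv0 : v ≠ 0 := by
    rintro rfl
    apply hvw
    have := sympForm_smul_left (m := m) (0 : F) (0 : ι → F) w
    rwa [zero_smul, zero_mul] at this
  haveI : Nonempty ι := by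
    by_contra hne
    rw [not_nonempty_iff] at hne
    exact hv0 (Subsingleton.elim _ _)
  set G₀ : Subgroup (GL ι F) :=
    Subgroup.closure ({sympTransvGL v 1, sympTransvGL w 1} : Set (GL ι F)) with hG₀
  have hG₀M : G₀ ≤ M := by
    rw [hG₀, Subgroup.closure_le]
    rintro x (rfl | rfl)
    · exact hv
    · exact hw
  have hav : sympTransvGL v 1 ∈ G₀ := Subgroup.subset_closure (by simp)
  have haw : sympTransvGL w 1 ∈ G₀ := Subgroup.subset_closure (by simp)
  -- p-th powers of transvections are trivial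
  have hpow : ∀ (z : ι → F) (n : ℕ), sympTransvGL z 1 ^ n = sympTransvGL z (n : F) := by
    intro z n
    induction n with
    | zero => rw [pow_zero, Nat.cast_zero, sympTransvGL_zero]
    | succ n ih => rw [pow_succ, ih, sympTransvGL_mul, Nat.cast_succ]
  have hpowp : ∀ z : ι → F, sympTransvGL z 1 ^ p = 1 := by
    intro z
    rw [hpow, CharP.cast_eq_zero, sympTransvGL_zero]
  set a : G₀ := ⟨sympTransvGL v 1, hav⟩ with ha
  set b : G₀ := ⟨sympTransvGL w 1, haw⟩ with hb
  have hap : a ^ p = 1 := Subtype.ext (by simpa using hpowp v)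
  have hbp : b ^ p = 1 := Subtype.ext (by simpa using hpowp w)
  have hPG : ∀ t : G₀, t ^ p = 1 → IsPGroup p (Subgroup.zpowers t) := by
    intro t ht
    rintro ⟨g, hg⟩
    obtain ⟨n, rfl⟩ := Subgroup.mem_zpowers_iff.mp hg
    refine ⟨1, Subtype.ext ?_⟩
    simp only [pow_one, Subgroup.coe_pow, Subgroup.coe_one]
    rw [← zpow_natCast, ← _root_.zpow_mul, mul_comm, _root_.zpow_mul, zpow_natCast, ht, _root_.one_zpow]
  obtain ⟨Pv, hPv⟩ := (hPG a hap).exists_le_sylow
  obtain ⟨Pw, hPw⟩ := (hPG b hbp).exists_le_sylow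
  obtain ⟨g, hg⟩ := MulAction.exists_smul_eq G₀ Pv Pw
  have haPv : a ∈ (Pv : Subgroup G₀) := hPv (Subgroup.mem_zpowers a)
  have hbPw : b ∈ (Pw : Subgroup G₀) := hPw (Subgroup.mem_zpowers b)
  have hgaPw : g * a * g⁻¹ ∈ (Pw : Subgroup G₀) := by
    rw [← hg, Sylow.coe_subgroup_smul]
    have := Subgroup.smul_mem_pointwise_smul a (MulAut.conj g) (Pv : Subgroup G₀) haPv
    simpa [MulAut.smul_def] using this
  have hcPw : b * (g * a * g⁻¹) ∈ (Pw : Subgroup G₀) := (Pw : Subgroup G₀).mul_mem hbPw hgaPw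
  obtain ⟨k, hk⟩ := Pw.isPGroup' ⟨_, hcPw⟩
  -- translate to matrices
  set δ : GL ι F := (g : GL ι F) with hδ
  have hδG₀ : δ ∈ G₀ := g.2
  have hδS : δ ∈ Cfsg.spGL m F := hMS (hG₀M hδG₀)
  set u : ι → F := (δ : Matrix ι ι F) *ᵥ v with hu
  have hconj : δ * sympTransvGL v 1 * δ⁻¹ = sympTransvGL u 1 := conj_sympTransvGL δ hδS v 1
  have hk' : (sympTransvGL w 1 * sympTransvGL u 1 : GL ι F) ^ (p ^ k) = 1 := by
    have := congrArg (fun t : (Pw : Subgroup G₀) => ((t : G₀) : GL ι F)) hk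
    simp only [Subgroup.coe_pow, Subgroup.coe_mul, Subgroup.coe_one, Subgroup.coe_inv] at this
    rw [← hconj]
    exact this
  have hQ : QQ v w δ := QQ_of_mem_closure v w hδG₀
  obtain ⟨a', b', hab⟩ := hQ.1 v
  -- B(w, u) = 0
  have hγ : ff w u = 0 := by
    by_contra hγ
    have hN : ((((sympTransvGL w 1 * sympTransvGL u 1 : GL ι F) : Matrix ι ι F) - 1) ^ (p ^ k)) = 0 := by
      rw [sub_pow_char_pow_of_commute p k (Commute.one_right _), one_pow, ← Units.val_pow_eq_pow_val,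
        hk', Units.val_one, sub_self]
    have := N_pow_ne u w hγ (p ^ k)
    rw [hN, zero_mulVec] at this
    have h0 : ∀ z : ι → F, ff (0 : ι → F) z = 0 := by
      intro z
      have := sympForm_smul_left (m := m) (0 : F) (0 : ι → F) z
      rwa [zero_smul, zero_mul] at this
    rcases this with h | h
    · exact h (h0 u)
    · exact h (h0 w)
  have hwv : ff w v ≠ 0 := by
    rw [sympForm_swap]
    exact neg_ne_zero.mpr hvw
  have hu' : u = (1 + a') • v + b' • w := by
    rw [hu, hab]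
    module
  have ha0 : 1 + a' = 0 := by
    rw [hu', sympForm_add_right, sympForm_smul_right, sympForm_smul_right, sympForm_self,
      mul_zero, add_zero] at hγ
    rcases mul_eq_zero.mp hγ with h | h
    · exact h
    · exact absurd h hwv
  refine ⟨δ, hG₀M hδG₀, b', ?_, ?_, hQ.2⟩
  · rintro rfl
    rw [ha0, zero_smul, zero_smul, add_zero] at hu'
    apply hv0
    have := inv_mulVec_mulVec δ v
    rw [← hu, hu', mulVec_zero] at this
    exact this.symm
  · rw [← hu, hu', ha0, zero_smul, zero_add]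

end Cfsg.Agent.Lib.Helper27.S5650FOSYL
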