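import Mathlib
import Cfsg.Agent.Lib.Helper7.SpExtDefs
import Cfsg.Agent.Lib.Helper7.SpExtRel
import Cfsg.Agent.Lib.Helper7.SpExtBas

/-!
# S5664 FO-22a (architect helper7, served by helper27): the relation `T_x T_y ∈ H` over `F₂`

`Rel f H x y` is reflexive, symmetric, transitive, `H`-invariant, and `x ~ c∙x` for `c ∈ L = F₄`,
`c ≠ 0` (the product `T_x T_{c∙x}` is an `L`-transvection).
-/

set_option autoImplicit false
set_option linter.unusedSectionVars false
set_option linter.unusedVariables false

namespace Cfsg.Agent.Lib.Helper27.S5664FO22a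

open Matrix Module Cfsg.Agent.Lib.Helper7.SpExt

variable {F : Type*} [Field F] [Fintype F] {L : Type*} [Field L] [Algebra F L] {ι : Type} [Fintype ι]
  [DecidableEq ι] {ρ : L →ₐ[F] Matrix ι ι F} {f : (ι → F) →ₗ[F] (ι → F) →ₗ[F] F} {τ : L →ₗ[F] F}
  {B : (ι → F) →ₗ[F] (ι → F) →ₗ[F] L} {r : ℕ}

/-- characteristic two -/
theorem two_eq_zero (hq : Fintype.card F = 2) : (2 : F) = 0 := by
  have := Nat.cast_card_eq_zero F
  rw [hq] at this
  exact_mod_cast this

theorem add_self (hq : Fintype.card F = 2) (a : F) : a + a = 0 := by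
  linear_combination a * two_eq_zero hq

theorem two_eq_zero_L (hq : Fintype.card F = 2) : (2 : L) = 0 := by
  have h : (algebraMap F L) 2 = (algebraMap F L) 0 := congrArg _ (two_eq_zero hq)
  rwa [map_ofNat, map_zero] at h

/-- the `F`-transvection `v ↦ v + c f(v,u) u` exists -/
theorem exists_tv (S : SpStr ρ f τ B) (u : ι → F) (c : F) : ∃ g : GL ι F, IsTv f u c g := by
  have hfu : f u u = 0 := f_alt S u
  obtain ⟨g, hg, -⟩ := exists_gl
    (LinearMap.id + (LinearMap.toSpanSingleton F (ι → F) u) ∘ₗ (c • (f.flip u)))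
    (LinearMap.id - (LinearMap.toSpanSingleton F (ι → F) u) ∘ₗ (c • (f.flip u)))
    (by
      intro v
      simp only [LinearMap.add_apply, LinearMap.sub_apply, LinearMap.id_apply,
        LinearMap.comp_apply, LinearMap.smul_apply, LinearMap.flip_apply,
        LinearMap.toSpanSingleton_apply, map_sub, map_smul, LinearMap.sub_apply,
        LinearMap.smul_apply, hfu, smul_eq_mul]
      module)
    (by
      intro v
      simp only [LinearMap.add_apply, LinearMap.sub_apply, LinearMap.id_apply,
        LinearMap.comp_apply, LinearMap.smul_apply, LinearMap.flip_apply,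
        LinearMap.toSpanSingleton_apply, map_add, map_smul, LinearMap.add_apply,
        LinearMap.smul_apply, hfu, smul_eq_mul]
      module)
  refine ⟨g, fun v => ?_⟩
  rw [hg]
  simp only [LinearMap.add_apply, LinearMap.id_apply, LinearMap.comp_apply, LinearMap.smul_apply,
    LinearMap.flip_apply, LinearMap.toSpanSingleton_apply, smul_eq_mul]

/-- over `F₂` a transvection `T_x` is an involution -/
theorem tv_mul_self (S : SpStr ρ f τ B) (hq : Fintype.card F = 2) {x : ι → F} {g g' : GL ι F}
    (hg : IsTv f x 1 g) (hg' : IsTv f x 1 g') : g * g' = 1 := by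
  apply gl_ext
  intro v
  rw [act_mul, hg' v, hg, act_one, map_add, map_smul, LinearMap.add_apply, LinearMap.smul_apply,
    f_alt S x]
  have h2 := add_self hq (f v x)
  simp only [one_mul, smul_eq_mul, mul_zero, add_zero]
  rw [add_assoc, ← add_smul, h2, zero_smul, add_zero]

theorem rel_refl (S : SpStr ρ f τ B) (hq : Fintype.card F = 2) (H : Subgroup (GL ι F))
    (x : ι → F) : Rel f H x x := by
  intro g g' hg hg'
  rw [tv_mul_self S hq hg hg']
  exact H.one_mem

theorem rel_symm (S : SpStr ρ f τ B) (hq : Fintype.card F = 2) (H : Subgroup (GL ι F))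
    {x y : ι → F} (h : Rel f H x y) : Rel f H y x := by
  intro g g' hg hg'
  have h1 := h g' g hg' hg
  have e1 : g'⁻¹ = g' := inv_eq_of_mul_eq_one_right (tv_mul_self S hq hg' hg')
  have e2 : g⁻¹ = g := inv_eq_of_mul_eq_one_right (tv_mul_self S hq hg hg)
  have h2 := H.inv_mem h1
  rwa [_root_.mul_inv_rev, e1, e2] at h2

theorem rel_trans (S : SpStr ρ f τ B) (hq : Fintype.card F = 2) (H : Subgroup (GL ι F))
    {x y z : ι → F} (h : Rel f H x y) (h' : Rel f H y z) : Rel f H x z := by
  intro g g'' hg hg''
  obtain ⟨g', hg'⟩ := exists_tv S y 1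
  have h1 := h g g' hg hg'
  have h2 := h' g' g'' hg' hg''
  have h3 := H.mul_mem h1 h2
  have e : g * g' * (g' * g'') = g * g'' := by
    rw [mul_assoc, ← mul_assoc g', tv_mul_self S hq hg' hg', one_mul]
  rwa [e] at h3

theorem rel_map (S : SpStr ρ f τ B) (H : Subgroup (GL ι F)) (hH : H ≤ isom f) {k : GL ι F}
    (hk : k ∈ H) {x y : ι → F} (h : Rel f H x y) : Rel f H (act k x) (act k y) := by
  intro g g' hg hg'
  have hkI := hH hk
  have key : ∀ (u : ι → F) (g : GL ι F), IsTv f (act k u) 1 g → IsTv f u 1 (k⁻¹ * g * k) := by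
    intro u g hg v
    rw [act_mul, act_mul, hg, act_add, act_smul, act_inv_act, act_inv_act, hkI]
  have h1 := h _ _ (key x g hg) (key y g' hg')
  have e : k⁻¹ * g * k * (k⁻¹ * g' * k) = k⁻¹ * (g * g') * k := by group
  rw [e] at h1
  have h2 := H.mul_mem (H.mul_mem hk h1) (H.inv_mem hk)
  have e2 : k * (k⁻¹ * (g * g') * k) * k⁻¹ = g * g' := by group
  rwa [e2] at h2

/-- the `L`-transvection `v ↦ v + (a B(v,u))∙u` exists and lies in `SpL` -/
theorem exists_root' (S : SpStr ρ f τ B) (u : ι → F) (a : L) :
    ∃ g : GL ι F, IsRoot ρ B u a g ∧ g ∈ SpL ρ B := by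
  have hBu : ∀ s : L, B (ρ s *ᵥ u) u = 0 := by
    intro s
    rw [S.lin, S.alt, mul_zero]
  obtain ⟨g, hg, -⟩ := exists_gl
    (LinearMap.id + (orb ρ u) ∘ₗ (LinearMap.mulLeft F a) ∘ₗ (B.flip u))
    (LinearMap.id - (orb ρ u) ∘ₗ (LinearMap.mulLeft F a) ∘ₗ (B.flip u))
    (by
      intro v
      simp only [LinearMap.add_apply, LinearMap.sub_apply, LinearMap.id_apply,
        LinearMap.comp_apply, LinearMap.flip_apply, LinearMap.mulLeft_apply, orb_apply, map_sub,
        LinearMap.sub_apply, hBu, mul_zero, sub_zero, map_zero, zero_mulVec]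
      abel)
    (by
      intro v
      simp only [LinearMap.add_apply, LinearMap.sub_apply, LinearMap.id_apply,
        LinearMap.comp_apply, LinearMap.flip_apply, LinearMap.mulLeft_apply, orb_apply, map_add,
        LinearMap.add_apply, hBu, mul_zero, add_zero, map_zero, zero_mulVec]
      abel)
  have hroot : IsRoot ρ B u a g := by
    intro v
    rw [hg]
    simp only [LinearMap.add_apply, LinearMap.id_apply, LinearMap.comp_apply,
      LinearMap.flip_apply, LinearMap.mulLeft_apply, orb_apply]
  refine ⟨g, hroot, ?_, ?_⟩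
  · intro c v
    rw [hroot, hroot, S.lin, mulVec_add, ← rho_mul_mulVec]
    congr 3
    ring
  · intro v w
    rw [hroot, hroot, map_add, map_add, LinearMap.add_apply, LinearMap.add_apply, S.lin, S.lin,
      B_lin_right S, B_lin_right S, S.alt, B_skew S u w]
    ring

/-- in `F₄` a nonzero element is `1` or a root of `X² + X + 1` -/
theorem sq_eq_add_one (hrk : finrank F L = 2) (hq : Fintype.card F = 2) (c : L) (hc : c ≠ 0)
    (hc1 : c ≠ 1) : c * c = c + 1 := by
  haveI : Module.Finite F L := Module.finite_of_finrank_pos (by rw [hrk]; norm_num)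
  haveI : Fintype L := Module.fintypeOfFintype (Module.finBasis F L)
  have hcard : Fintype.card L = 4 := by
    rw [Module.card_eq_pow_finrank (K := F) (V := L), hrk, hq]
    norm_num
  have h3 := FiniteField.pow_card_sub_one_eq_one c hc
  rw [hcard] at h3
  have h2L : (2 : L) = 0 := two_eq_zero_L hq
  have h4 : (c - 1) * (c * c + c + 1) = 0 := by
    have : (c - 1) * (c * c + c + 1) = c ^ (4 - 1) - 1 := by ring
    rw [this, h3, sub_self]
  rcases mul_eq_zero.mp h4 with h | h
  · exact absurd (sub_eq_zero.mp h) hc1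
  · linear_combination h - (c + 1) * h2L

theorem rel_smul (S : SpStr ρ f τ B) (hrk : finrank F L = 2) (hq : Fintype.card F = 2)
    (H : Subgroup (GL ι F)) (hSpL : SpL ρ B ≤ H) (x : ι → F) (c : L) (hc : c ≠ 0) :
    Rel f H x (ρ c *ᵥ x) := by
  by_cases hc1 : c = 1
  · rw [hc1, rho_one_mulVec]
    exact rel_refl S hq H x
  have hcc := sq_eq_add_one hrk hq c hc hc1
  intro g g' hg hg'
  apply hSpL
  -- the parameter
  obtain ⟨a, ha⟩ : ∃ a : L, a = τ 1 • (1 : L) + τ c • c := ⟨_, rfl⟩
  obtain ⟨g₀, hg₀, hg₀S⟩ := exists_root' S x a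
  have hNF : ∀ t : F, t = 0 ∨ t = 1 := by
    intro t
    by_cases h0 : t = 0
    · left; exact h0
    · right
      have := FiniteField.pow_card_sub_one_eq_one t h0
      rw [hq] at this
      simpa using this
  -- `1, c` span `L`
  have hli : LinearIndependent F ![(1 : L), c] := by
    rw [LinearIndependent.pair_iff]
    intro s t hst
    rcases hNF t with ht | ht
    · subst ht
      rw [zero_smul, add_zero] at hst
      refine ⟨?_, rfl⟩
      rcases hNF s with hs | hs
      · exact hs
      · subst hs
        rw [one_smul] at hst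
        exact absurd hst one_ne_zero
    · subst ht
      exfalso
      rw [one_smul] at hst
      rcases hNF s with hs | hs
      · subst hs
        rw [zero_smul, zero_add] at hst
        exact hc hst
      · subst hs
        rw [one_smul] at hst
        apply hc1
        have h2L : (2 : L) = 0 := two_eq_zero_L hq
        linear_combination hst - h2L
  haveI : Module.Finite F L := Module.finite_of_finrank_pos (by rw [hrk]; norm_num)
  have hspan : Submodule.span F (Set.range ![(1 : L), c]) = ⊤ := by
    apply hli.span_eq_top_of_card_eq_finrank'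
    rw [hrk, Fintype.card_fin]
  -- the two linear maps agree
  have hv1 : τ 1 • (1 : L) + τ (c * 1) • c = a * 1 := by
    rw [mul_one, mul_one, ha]
  have hvc : τ c • (1 : L) + τ (c * c) • c = a * c := by
    have h5 : τ c • c + τ c • c = 0 := by
      rw [← add_smul, add_self hq, zero_smul]
    rw [hcc, map_add, ha, add_mul, smul_mul_assoc, smul_mul_assoc, one_mul, hcc, add_smul,
      smul_add]
    abel
  have hmaps : ∀ β : L, τ β • (1 : L) + τ (c * β) • c = a * β := by
    have hext : (LinearMap.toSpanSingleton F L 1 ∘ₗ τ +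
        LinearMap.toSpanSingleton F L c ∘ₗ (τ ∘ₗ LinearMap.mulLeft F c)) = LinearMap.mulLeft F a := by
      apply LinearMap.ext_on_range hspan
      intro i
      fin_cases i
      · simpa only [Fin.zero_eta, Fin.isValue, cons_val_zero, LinearMap.add_apply,
          LinearMap.comp_apply, LinearMap.toSpanSingleton_apply, LinearMap.mulLeft_apply] using hv1
      · simpa only [Fin.mk_one, Fin.isValue, cons_val_one, cons_val_fin_one, LinearMap.add_apply,
          LinearMap.comp_apply, LinearMap.toSpanSingleton_apply, LinearMap.mulLeft_apply] using hvc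
    intro β
    have := congrArg (fun φ : L →ₗ[F] L => φ β) hext
    simpa only [LinearMap.add_apply, LinearMap.comp_apply, LinearMap.toSpanSingleton_apply,
      LinearMap.mulLeft_apply] using this
  have e : g * g' = g₀ := by
    apply gl_ext
    intro v
    rw [act_mul, hg' v, hg, hg₀ v, map_add, map_smul, LinearMap.add_apply, LinearMap.smul_apply,
      f_rho_left S c x x, S.alt, mul_zero, map_zero, ← hmaps (B v x), rho_add_mulVec,
      rho_smul_mulVec, rho_smul_mulVec, rho_one_mulVec, S.tr v x, f_rho_right S c v x]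
    simp only [one_mul, smul_eq_mul, mul_zero, add_zero]
    abel
  rw [e]
  exact hg₀S

end Cfsg.Agent.Lib.Helper27.S5664FO22a
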