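import Mathlib
import Cfsg.Agent.Lib.Helper27.S5664FO22a

/-!
# S5664 FO-22b (architect helper7, served by helper27): over `F₂`, `L = F₄`, the class of `v₁` for
the relation `T_x T_y ∈ H` is everything.
-/

set_option autoImplicit false
set_option linter.unusedSectionVars false
set_option linter.unusedVariables false

namespace Cfsg.Agent.Lib.Helper27.S5664FO22b

open Matrix Module Cfsg.Agent.Lib.Helper7.SpExt Cfsg.Agent.Lib.Helper27.S5664FO22a

variable {F : Type*} [Field F] [Fintype F] {L : Type*} [Field L] [Algebra F L] {ι : Type} [Fintype ι]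
  [DecidableEq ι] {ρ : L →ₐ[F] Matrix ι ι F} {f : (ι → F) →ₗ[F] (ι → F) →ₗ[F] F} {τ : L →ₗ[F] F}
  {B : (ι → F) →ₗ[F] (ι → F) →ₗ[F] L} {r : ℕ}

/-- if `B(v,w) ≠ 0` an `L`-transvection maps `v` to `w`, fixing the perp of `w - v` -/
theorem root_map (S : SpStr ρ f τ B) (v w : ι → F) (hvw : B v w ≠ 0) :
    ∃ h ∈ SpL ρ B, act h v = w ∧ ∀ z, B z (w - v) = 0 → act h z = z := by
  obtain ⟨h, hroot, hS⟩ := exists_root' S (w - v) (B v w)⁻¹
  refine ⟨h, hS, ?_, ?_⟩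
  · rw [hroot, map_sub, S.alt, sub_zero, inv_mul_cancel₀ hvw, rho_one_mulVec]
    abel
  · intro z hz
    rw [hroot, hz, mul_zero, rho_zero_mulVec, add_zero]

/-- a vector not perpendicular to two given nonzero vectors -/
theorem exists_not_perp (S : SpStr ρ f τ B) {v w : ι → F} (hv : v ≠ 0) (hw : w ≠ 0) :
    ∃ z, B z v ≠ 0 ∧ B z w ≠ 0 := by
  obtain ⟨w₁, hw₁⟩ := B_nondeg S hv
  obtain ⟨w₂, hw₂⟩ := B_nondeg S hw
  have h1 : B w₁ v = -1 := by rw [B_skew S, hw₁]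
  have h2 : B w₂ w = -1 := by rw [B_skew S, hw₂]
  have hne : (-1 : L) ≠ 0 := neg_ne_zero.mpr one_ne_zero
  by_cases ha : B w₁ w = 0
  · by_cases hb : B w₂ v = 0
    · refine ⟨w₁ + w₂, ?_, ?_⟩
      · rw [map_add, LinearMap.add_apply, h1, hb, add_zero]
        exact hne
      · rw [map_add, LinearMap.add_apply, ha, h2, zero_add]
        exact hne
    · exact ⟨w₂, hb, by rw [h2]; exact hne⟩
  · exact ⟨w₁, by rw [h1]; exact hne, ha⟩

/-- `SpL` is transitive on nonzero vectors -/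
theorem exists_SpL_map' (S : SpStr ρ f τ B) {v w : ι → F} (hv : v ≠ 0) (hw : w ≠ 0) :
    ∃ h ∈ SpL ρ B, act h v = w := by
  by_cases hvw : B v w = 0
  · obtain ⟨z, hzv, hzw⟩ := exists_not_perp S hv hw
    have hvz : B v z ≠ 0 := by rw [B_skew S]; exact neg_ne_zero.mpr hzv
    obtain ⟨h₁, hh₁, e₁, -⟩ := root_map S v z hvz
    obtain ⟨h₂, hh₂, e₂, -⟩ := root_map S z w hzw
    exact ⟨h₂ * h₁, (SpL ρ B).mul_mem hh₂ hh₁, by rw [act_mul, e₁, e₂]⟩
  · obtain ⟨h, hh, e, -⟩ := root_map S v w hvw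
    exact ⟨h, hh, e⟩

theorem rel_all (S : SpStr ρ f τ B) (hrk : finrank F L = 2) (hq : Fintype.card F = 2)
    (H : Subgroup (GL ι F)) (hSpL : SpL ρ B ≤ H) (hH : H ≤ isom f)
    (v₁ v₀ : ι → F) (g₀ : GL ι F) (hc : Config ρ f H 2 v₁ v₀ g₀) :
    ∀ x y : ι → F, x ≠ 0 → y ≠ 0 → Rel f H x y := by
  obtain ⟨hg₀, hv₁, hv₀, hfr, x₀, hx₀, y₀, hy₀, hxy⟩ := hc
  -- (c) a common nonzero vector
  have hpos : 0 < finrank F ↥(pt ρ v₁ ⊓ Img ρ g₀ v₀) := by omega
  obtain ⟨⟨p, hp⟩, hp0⟩ := Module.finrank_pos_iff_exists_ne_zero.mp hpos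
  have hp0' : p ≠ 0 := fun h => hp0 (Subtype.ext h)
  obtain ⟨hpP, hpI⟩ := Submodule.mem_inf.mp hp
  obtain ⟨a, ha⟩ := (mem_pt ρ v₁ p).mp hpP
  obtain ⟨b, hb⟩ := (mem_Img ρ g₀ v₀ p).mp hpI
  have ha0 : a ≠ 0 := by
    rintro rfl
    rw [rho_zero_mulVec] at ha
    exact hp0' ha.symm
  have hb0 : b ≠ 0 := by
    rintro rfl
    rw [rho_zero_mulVec, act_zero] at hb
    exact hp0' hb.symm
  have hv₁p : Rel f H v₁ p := by
    rw [← ha]
    exact rel_smul S hrk hq H hSpL v₁ a ha0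
  -- every nonzero vector of `P'` is related to `v₁`
  have hP' : ∀ w ∈ Img ρ g₀ v₀, w ≠ 0 → Rel f H v₁ w := by
    intro w hw hw0
    obtain ⟨b', hb'⟩ := (mem_Img ρ g₀ v₀ w).mp hw
    have hb'0 : b' ≠ 0 := by
      rintro rfl
      rw [rho_zero_mulVec, act_zero] at hb'
      exact hw0 hb'.symm
    have h1 : Rel f H (ρ b *ᵥ v₀) (ρ (b' * b⁻¹) *ᵥ (ρ b *ᵥ v₀)) :=
      rel_smul S hrk hq H hSpL _ _ (mul_ne_zero hb'0 (inv_ne_zero hb0))
    rw [← rho_mul_mulVec, mul_assoc, inv_mul_cancel₀ hb0, mul_one] at h1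
    have h2 := rel_map S H hH hg₀ h1
    rw [hb, hb'] at h2
    exact rel_trans S hq H hv₁p h2
  -- a vector of `P'` not perpendicular to `v₁`
  obtain ⟨a₀, ha₀⟩ := (mem_pt ρ v₁ x₀).mp hx₀
  have hy₀0 : y₀ ≠ 0 := by
    rintro rfl
    apply hxy
    rw [map_zero]
  have hβ : B y₀ v₁ ≠ 0 := by
    intro h0
    apply hxy
    rw [← ha₀, f_rho_left S, B_skew S, h0, neg_zero, mul_zero, map_zero]
  have hwC : Rel f H v₁ y₀ := hP' y₀ hy₀ hy₀0
  -- (d) case 1
  have case1 : ∀ w w' : ι → F, Rel f H v₁ w → B w' v₁ = B w v₁ → B w (w' - w) ≠ 0 →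
      Rel f H v₁ w' := by
    intro w w' hw hww' hne
    have hne' : B w w' ≠ 0 := by
      rw [map_sub, S.alt, sub_zero] at hne
      exact hne
    obtain ⟨t, ht, e1, e2⟩ := root_map S w w' hne'
    have hfix : act t v₁ = v₁ := by
      apply e2
      rw [map_sub, B_skew S v₁ w', B_skew S v₁ w, hww']
      ring
    have h1 := rel_map S H hH (hSpL ht) hw
    rwa [hfix, e1] at h1
  have stepD : ∀ w w' : ι → F, Rel f H v₁ w → B w v₁ ≠ 0 → B w' v₁ = B w v₁ →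
      Rel f H v₁ w' := by
    intro w w' hw hwβ hww'
    by_cases hne : B w (w' - w) = 0
    · -- first move `w` to `w + v₁`
      obtain ⟨t₁, hroot, ht₁⟩ := exists_root' S v₁ (B w v₁)⁻¹
      have e1 : act t₁ w = w + v₁ := by
        rw [hroot, inv_mul_cancel₀ hwβ, rho_one_mulVec]
      have e2 : act t₁ v₁ = v₁ := by
        rw [hroot, S.alt, mul_zero, rho_zero_mulVec, add_zero]
      have h1 := rel_map S H hH (hSpL ht₁) hw
      rw [e2, e1] at h1
      apply case1 (w + v₁) w' h1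
      · rw [map_add, LinearMap.add_apply, S.alt, add_zero]
        exact hww'
      · have h3 : B w v₁ = -B v₁ w := B_skew S w v₁
        have h4 : B v₁ w' = -B w' v₁ := B_skew S v₁ w'
        have h5 : B w (w' - w) = B w w' := by rw [map_sub, S.alt, sub_zero]
        rw [h5] at hne
        have h6 : B (w + v₁) (w' - (w + v₁)) = -B w v₁ := by
          simp only [map_add, map_sub, LinearMap.add_apply, LinearMap.sub_apply, S.alt, hne, h4,
            hww']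
          rw [h3]
          ring
        rw [h6]
        exact neg_ne_zero.mpr hwβ
    · exact case1 w w' hw hww' hne
  -- (d) all vectors not perpendicular to `v₁`
  have stepE : ∀ w' : ι → F, B w' v₁ ≠ 0 → Rel f H v₁ w' := by
    intro w' hw'
    obtain ⟨c, hcdef⟩ : ∃ c : L, c = B y₀ v₁ * (B w' v₁)⁻¹ := ⟨_, rfl⟩
    have hc0 : c ≠ 0 := by
      rw [hcdef]
      exact mul_ne_zero hβ (inv_ne_zero hw')
    have h1 : B (ρ c *ᵥ w') v₁ = B y₀ v₁ := by
      rw [S.lin, hcdef, mul_assoc, inv_mul_cancel₀ hw', mul_one]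
    have h2 := stepD y₀ (ρ c *ᵥ w') hwC hβ h1
    have h3 : Rel f H (ρ c *ᵥ w') (ρ c⁻¹ *ᵥ (ρ c *ᵥ w')) :=
      rel_smul S hrk hq H hSpL _ _ (inv_ne_zero hc0)
    rw [← rho_mul_mulVec, inv_mul_cancel₀ hc0, rho_one_mulVec] at h3
    exact rel_trans S hq H h2 h3
  -- (e) spreading
  have stepF : ∀ x : ι → F, x ≠ 0 → Rel f H v₁ x → ∀ w' : ι → F, B w' x ≠ 0 →
      Rel f H v₁ w' := by
    intro x hx0 hx w' hw'
    obtain ⟨h, hh, e⟩ := exists_SpL_map' S hv₁ hx0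
    have hhi : h⁻¹ ∈ SpL ρ B := (SpL ρ B).inv_mem hh
    have h1 : B (act h⁻¹ w') v₁ ≠ 0 := by
      have h2 := hh.2 (act h⁻¹ w') v₁
      rw [act_act_inv, e] at h2
      rw [← h2]
      exact hw'
    have h3 := stepE _ h1
    have h4 := rel_map S H hH (hSpL hh) h3
    rw [e, act_act_inv] at h4
    exact rel_trans S hq H hx h4
  have stepG : ∀ y : ι → F, y ≠ 0 → Rel f H v₁ y := by
    intro y hy
    obtain ⟨z, hzv, hzy⟩ := exists_not_perp S hv₁ hy
    have hz0 : z ≠ 0 := by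
      rintro rfl
      apply hzv
      rw [map_zero, LinearMap.zero_apply]
    have hz := stepE z hzv
    apply stepF z hz0 hz y
    rw [B_skew S]
    exact neg_ne_zero.mpr hzy
  intro x y hx hy
  exact rel_trans S hq H (rel_symm S hq H (stepG x hx)) (stepG y hy)

end Cfsg.Agent.Lib.Helper27.S5664FO22b
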