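import Mathlib
import Cfsg.Agent.Lib.Helper13.UOmDefs
import Cfsg.Agent.Lib.Helper13.SpTsPair
import Cfsg.Agent.Lib.Helper22.S5650FOCFG
import Cfsg.Agent.Lib.Helper3.S5700FOIII

/-!
# S5665: unitary structures on the symplectic space (definitions)

`θ` is a matrix with `θ² = d` (a nonsquare), skew-adjoint for the alternating form `ff = sympForm`.
Then `K = F[θ]` is a quadratic field, `NQ θ x = ff (θ x) x` is a nondegenerate quadratic form and
`UStr (NQ θ) θ 0 (-d)` holds (helper13's `UOmDefs`), so that the whole `OND`/`UOmDefs` geometry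
(`Kl θ x`, `KPerp (NQ θ) θ x`, `exists_singular_not_mem`, ...) is available.
The group side: `utvS θ d u t = T(θu,t) T(u,-td)` (unitary transvection, `NQ θ u = 0`) and
`urefl θ y = (T(y,1/n) T(θy,1/n) T(y,1/n))²`, `n = NQ θ y ≠ 0` (`-1` on the `K`-line of `y`, `1` on
its perp).
-/

set_option autoImplicit false
set_option linter.unusedSectionVars false
set_option linter.unusedVariables false

namespace Cfsg.Agent.Lib.Helper27.SpU

open Matrix Module QuadraticMap Cfsg.Agent.Lib.Helper6 Cfsg.Agent.Lib.Helper13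
open Cfsg.Agent.Lib.Helper13.OND Cfsg.Agent.Lib.Helper13.STP Cfsg.Agent.Lib.Helper22.S5650

universe u
variable {m : ℕ} {F : Type u} [Field F]

local notation "ff" => Cfsg.sympForm m F

/-- a skew-adjoint square root of a nonsquare `d` -/
structure SUStr (θ : Matrix (Fin m ⊕ Fin m) (Fin m ⊕ Fin m) F) (d : F) : Prop where
  adj : ∀ u v : Fin m ⊕ Fin m → F, ff (θ *ᵥ u) v = - ff u (θ *ᵥ v)
  sq : θ * θ = d • (1 : Matrix (Fin m ⊕ Fin m) (Fin m ⊕ Fin m) F)
  irr : ∀ a : F, a ^ 2 ≠ d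
  two : (2 : F) ≠ 0

/-- the quadratic form `x ↦ ff (θ x) x` -/
noncomputable def NQ (θ : Matrix (Fin m ⊕ Fin m) (Fin m ⊕ Fin m) F) :
    QuadraticForm F (Fin m ⊕ Fin m → F) :=
  LinearMap.BilinMap.toQuadraticMap
    (LinearMap.BilinForm.comp (Cfsg.Agent.Lib.Helper15.stdSymp m F) (Matrix.toLin' θ) LinearMap.id)

theorem NQ_apply (θ : Matrix (Fin m ⊕ Fin m) (Fin m ⊕ Fin m) F) (x : Fin m ⊕ Fin m → F) :
    NQ θ x = ff (θ *ᵥ x) x := by
  unfold NQ
  simp [LinearMap.BilinMap.toQuadraticMap_apply]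

variable {θ : Matrix (Fin m ⊕ Fin m) (Fin m ⊕ Fin m) F} {d : F}

theorem SUStr.dd (hS : SUStr θ d) (x : Fin m ⊕ Fin m → F) : θ *ᵥ (θ *ᵥ x) = d • x := by
  rw [mulVec_mulVec, hS.sq, smul_mulVec, one_mulVec]

theorem SUStr.d_ne (hS : SUStr θ d) : d ≠ 0 := by
  intro h
  apply hS.irr 0
  rw [h]
  ring

theorem SUStr.ff_tt (hS : SUStr θ d) (u v : Fin m ⊕ Fin m → F) :
    ff (θ *ᵥ u) (θ *ᵥ v) = - (d * ff u v) := by
  rw [hS.adj, hS.dd, sympForm_smul_right]

theorem SUStr.adj' (hS : SUStr θ d) (u v : Fin m ⊕ Fin m → F) :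
    ff u (θ *ᵥ v) = - ff (θ *ᵥ u) v := by
  rw [hS.adj, neg_neg]

/-- `ff (θ x) y` is symmetric -/
theorem SUStr.symm (hS : SUStr θ d) (u v : Fin m ⊕ Fin m → F) :
    ff (θ *ᵥ u) v = ff (θ *ᵥ v) u := by
  rw [hS.adj, sympForm_swap, neg_neg]

theorem SUStr.polar_eq (hS : SUStr θ d) (x y : Fin m ⊕ Fin m → F) :
    polar (⇑(NQ θ)) x y = 2 * ff (θ *ᵥ x) y := by
  unfold QuadraticMap.polar
  rw [NQ_apply, NQ_apply, NQ_apply, mulVec_add, sympForm_add_left, sympForm_add_right,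
    sympForm_add_right, hS.symm y x]
  ring

/-- the alternating form in terms of the polar form of `NQ θ` -/
theorem SUStr.ff_eq (hS : SUStr θ d) (x y : Fin m ⊕ Fin m → F) :
    ff x y = (2 * d)⁻¹ * polar (⇑(NQ θ)) (θ *ᵥ x) y := by
  rw [hS.polar_eq, hS.dd, sympForm_smul_left]
  have h2 := hS.two
  have hd := hS.d_ne
  field_simp

/-- **the bridge**: `NQ θ` with `θ` is a unitary structure in the sense of `UOmDefs` -/
theorem SUStr.ustr (hS : SUStr θ d) : UStr (NQ θ) θ 0 (-d) where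
  adj := by
    intro u v
    rw [hS.polar_eq, hS.polar_eq, hS.polar_eq, hS.dd, sympForm_smul_left, hS.ff_tt]
    ring
  sq := by
    rw [hS.sq]
    simp
  sc := by
    intro v
    rw [NQ_apply, NQ_apply, hS.dd, sympForm_smul_left, hS.adj' v v]
    ring
  pol := by
    intro v
    rw [hS.polar_eq, hS.ff_tt, sympForm_self]
    ring
  irr := by
    intro a h
    apply hS.irr a
    linear_combination h

theorem SUStr.nondeg (hS : SUStr θ d) : (polarBilin (NQ θ)).Nondegenerate := by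
  have key : ∀ x : Fin m ⊕ Fin m → F, (∀ y, polar (⇑(NQ θ)) x y = 0) → x = 0 := by
    intro x hx
    have h1 : θ *ᵥ x = 0 := by
      apply Cfsg.Agent.Lib.Helper15.stdSymp_nondeg
      intro y
      rw [Cfsg.Agent.Lib.Helper15.stdSymp_apply]
      have := hx y
      rw [hS.polar_eq] at this
      exact (mul_eq_zero.mp this).resolve_left hS.two
    have h2 := hS.dd x
    rw [h1, mulVec_zero] at h2
    exact (smul_eq_zero.mp h2.symm).resolve_left hS.d_ne
  constructor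
  · intro x hx
    exact key x (fun y => by simpa using hx y)
  · intro y hy
    exact key y (fun x => by
      have := hy x
      rw [polarBilin_apply_apply] at this
      rw [polar_comm]
      exact this)

/-! ### the group elements -/

/-- the unitary transvection `T(θu,t) T(u,-td)` -/
def utvS (θ : Matrix (Fin m ⊕ Fin m) (Fin m ⊕ Fin m) F) (d : F) (u : Fin m ⊕ Fin m → F) (t : F) :
    GL (Fin m ⊕ Fin m) F :=
  sympTransvGL (θ *ᵥ u) t * sympTransvGL u (-(t * d))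

theorem utvS_mem (θ : Matrix (Fin m ⊕ Fin m) (Fin m ⊕ Fin m) F) (d : F)
    (u : Fin m ⊕ Fin m → F) (t : F) : utvS θ d u t ∈ Cfsg.spGL m F :=
  (Cfsg.spGL m F).mul_mem (sympTransvGL_mem _ _) (sympTransvGL_mem _ _)

theorem act_utvS (hS : SUStr θ d) (u : Fin m ⊕ Fin m → F) (hu : ff (θ *ᵥ u) u = 0) (t : F)
    (v : Fin m ⊕ Fin m → F) :
    act (utvS θ d u t) v = v + (t * ff v (θ *ᵥ u)) • (θ *ᵥ u) - (t * d * ff v u) • u := by
  have h1 : ff u (θ *ᵥ u) = 0 := by rw [sympForm_swap, hu, neg_zero]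
  unfold utvS
  rw [act_mul, act_transv, act_transv]
  simp only [sympForm_add_left, sympForm_smul_left, h1]
  module

/-- the unitary transvections commute with `θ` -/
theorem utvS_comm (hS : SUStr θ d) (u : Fin m ⊕ Fin m → F) (hu : ff (θ *ᵥ u) u = 0) (t : F) :
    ((utvS θ d u t : GL (Fin m ⊕ Fin m) F) : Matrix (Fin m ⊕ Fin m) (Fin m ⊕ Fin m) F) * θ =
      θ * ((utvS θ d u t : GL (Fin m ⊕ Fin m) F) : Matrix (Fin m ⊕ Fin m) (Fin m ⊕ Fin m) F) := by
  apply matrix_ext_mulVec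
  intro v
  rw [← mulVec_mulVec, ← mulVec_mulVec]
  change act (utvS θ d u t) (θ *ᵥ v) = θ *ᵥ act (utvS θ d u t) v
  rw [act_utvS hS u hu, act_utvS hS u hu, mulVec_sub, mulVec_add, mulVec_smul, mulVec_smul, hS.dd,
    hS.ff_tt, hS.adj v u]
  module

/-- `-1` on the `K`-line of `y`, `1` on its perpendicular (for `n = ff (θ y) y ≠ 0`) -/
noncomputable def urefl (θ : Matrix (Fin m ⊕ Fin m) (Fin m ⊕ Fin m) F) (y : Fin m ⊕ Fin m → F) :
    GL (Fin m ⊕ Fin m) F :=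
  (sympTransvGL y (ff (θ *ᵥ y) y)⁻¹ * sympTransvGL (θ *ᵥ y) (ff (θ *ᵥ y) y)⁻¹ *
    sympTransvGL y (ff (θ *ᵥ y) y)⁻¹) ^ 2

theorem urefl_mem (θ : Matrix (Fin m ⊕ Fin m) (Fin m ⊕ Fin m) F) (y : Fin m ⊕ Fin m → F) :
    urefl θ y ∈ Cfsg.spGL m F :=
  (Cfsg.spGL m F).pow_mem ((Cfsg.spGL m F).mul_mem ((Cfsg.spGL m F).mul_mem
    (sympTransvGL_mem _ _) (sympTransvGL_mem _ _)) (sympTransvGL_mem _ _)) 2

theorem act_www (y z : Fin m ⊕ Fin m → F) (t n : F) (htn : t * n = 1) (h1 : ff y z = -n)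
    (v : Fin m ⊕ Fin m → F) :
    act (sympTransvGL y t * sympTransvGL z t * sympTransvGL y t) v =
      v + (t * (ff v y + ff v z)) • y + (t * (ff v z - ff v y)) • z := by
  have h1' : ff z y = n := by rw [sympForm_swap, h1, neg_neg]
  have h2 : ff z z = 0 := sympForm_self _
  have h3 : ff y y = 0 := sympForm_self _
  rw [act_mul, act_mul]
  simp only [act_transv, sympForm_add_left, sympForm_smul_left, h1, h1', h3]
  linear_combination (norm := module)
    ((t * ff v z - t * ff v y * (t * n + 1)) * htn) • y + ((-(t * ff v y)) * htn) • z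

theorem act_urefl (hS : SUStr θ d) (y : Fin m ⊕ Fin m → F) (hy : ff (θ *ᵥ y) y ≠ 0)
    (v : Fin m ⊕ Fin m → F) :
    act (urefl θ y) v = v + (2 * (ff (θ *ᵥ y) y)⁻¹ * ff v (θ *ᵥ y)) • y -
      (2 * (ff (θ *ᵥ y) y)⁻¹ * ff v y) • (θ *ᵥ y) := by
  obtain ⟨n, hn⟩ : ∃ n, n = ff (θ *ᵥ y) y := ⟨_, rfl⟩
  obtain ⟨t, ht⟩ : ∃ t, t = n⁻¹ := ⟨_, rfl⟩
  have hn0 : n ≠ 0 := by rw [hn]; exact hy
  have htn : t * n = 1 := by rw [ht, inv_mul_cancel₀ hn0]
  have h1 : ff y (θ *ᵥ y) = -n := by rw [sympForm_swap, hn]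
  have h1' : ff (θ *ᵥ y) y = n := hn.symm
  have h2 : ff (θ *ᵥ y) (θ *ᵥ y) = 0 := sympForm_self _
  have h3 : ff y y = 0 := sympForm_self _
  unfold urefl
  rw [← hn, ← ht, pow_two, act_mul, act_www y (θ *ᵥ y) t n htn h1, act_www y (θ *ᵥ y) t n htn h1]
  simp only [sympForm_add_left, sympForm_smul_left, h1, h1', h2, h3]
  linear_combination (norm := module)
    ((-(2 * t * ff v y)) * htn) • y + ((-(2 * t * ff v (θ *ᵥ y))) * htn) • (θ *ᵥ y)

/-- `urefl` commutes with `θ` -/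
theorem urefl_comm (hS : SUStr θ d) (y : Fin m ⊕ Fin m → F) (hy : ff (θ *ᵥ y) y ≠ 0) :
    ((urefl θ y : GL (Fin m ⊕ Fin m) F) : Matrix (Fin m ⊕ Fin m) (Fin m ⊕ Fin m) F) * θ =
      θ * ((urefl θ y : GL (Fin m ⊕ Fin m) F) : Matrix (Fin m ⊕ Fin m) (Fin m ⊕ Fin m) F) := by
  apply matrix_ext_mulVec
  intro v
  rw [← mulVec_mulVec, ← mulVec_mulVec]
  change act (urefl θ y) (θ *ᵥ v) = θ *ᵥ act (urefl θ y) v
  rw [act_urefl hS y hy, act_urefl hS y hy, mulVec_sub, mulVec_add, mulVec_smul, mulVec_smul,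
    hS.dd, hS.ff_tt, hS.adj v y]
  module

/-- the action of a Heisenberg element -/
theorem act_hs (p x : Fin m ⊕ Fin m → F) (c : F) (hpx : ff p x = 0) (v : Fin m ⊕ Fin m → F) :
    act (hs p x c) v = v + ff v p • x + ff v x • p + (c * ff v p) • p :=
  hs_mulVec p x c hpx v

/-- what is known about the overgroup `M` -/
structure MHyp (θ : Matrix (Fin m ⊕ Fin m) (Fin m ⊕ Fin m) F) (d : F)
    (M : Subgroup (GL (Fin m ⊕ Fin m) F)) : Prop where
  le : M ≤ Cfsg.spGL m F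
  utv : ∀ u : Fin m ⊕ Fin m → F, ff (θ *ᵥ u) u = 0 → ∀ t : F, utvS θ d u t ∈ M
  refl : ∀ y : Fin m ⊕ Fin m → F, ff (θ *ᵥ y) y ≠ 0 → urefl θ y ∈ M

/-! ### small API -/

theorem SUStr.NQ_theta (hS : SUStr θ d) (x : Fin m ⊕ Fin m → F) :
    NQ θ (θ *ᵥ x) = -d * NQ θ x := hS.ustr.sc x

/-- the perp of the `K`-line in terms of the alternating form -/
theorem SUStr.mem_KPerp_iff (hS : SUStr θ d) {x w : Fin m ⊕ Fin m → F} :
    w ∈ KPerp (NQ θ) θ x ↔ ff x w = 0 ∧ ff (θ *ᵥ x) w = 0 := by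
  rw [mem_KPerp, hS.polar_eq, hS.polar_eq, hS.dd, sympForm_smul_left]
  have h2 := hS.two
  have hd := hS.d_ne
  constructor
  · rintro ⟨h1, h3⟩
    refine ⟨?_, (mul_eq_zero.mp h1).resolve_left h2⟩
    exact (mul_eq_zero.mp ((mul_eq_zero.mp h3).resolve_left h2)).resolve_left hd
  · rintro ⟨h1, h3⟩
    rw [h1, h3]
    simp

/-- `ff (μ u) (μ v) = N(μ) ff u v` for `μ = a + b θ` -/
theorem SUStr.ff_comb (hS : SUStr θ d) (a b : F) (u v : Fin m ⊕ Fin m → F) :
    ff (a • u + b • (θ *ᵥ u)) (a • v + b • (θ *ᵥ v)) = (a ^ 2 - d * b ^ 2) * ff u v := by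
  simp only [sympForm_add_left, sympForm_add_right, sympForm_smul_left, sympForm_smul_right,
    hS.ff_tt, hS.adj u v]
  ring

theorem card_iota (m : ℕ) : Fintype.card (Fin m ⊕ Fin m) = m + m := by
  rw [Fintype.card_sum, Fintype.card_fin]


end Cfsg.Agent.Lib.Helper27.SpU
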