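import Mathlib
import Cfsg.Agent.Lib.Helper27.SpUDefs

/-!
# S5665 FO-STRUCT: the hypotheses of the statement give `SUStr θ d`

`K` a quadratic field subalgebra closed under adjoints for `sympForm` but not self-adjoint, `q` odd:
pick `δ ∈ K` not self-adjoint, `δ'` its adjoint in `K`, `θ := δ - δ'` is skew-adjoint and nonzero,
hence not a scalar, so `K = F + F θ`; `θ²` is self-adjoint, hence a scalar `d`, a nonsquare since `K`
is a field.
-/

set_option autoImplicit false
set_option linter.unusedSectionVars false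
set_option linter.unusedVariables false

namespace Cfsg.Agent.Lib.Helper27.S5665FOSTRUCT

open Matrix Module Cfsg.Agent.Lib.Helper6 Cfsg.Agent.Lib.Helper13
open Cfsg.Agent.Lib.Helper27.SpU

universe u

theorem exists_sustr {F : Type u} [Field F] [Fintype F] (m : ℕ) (hodd : Odd (Fintype.card F))
    (K : Subalgebra F (Matrix (Fin m ⊕ Fin m) (Fin m ⊕ Fin m) F))
    (hK : Cfsg.Geo.IsFieldSubalgebra 2 K)
    (hac : Cfsg.Geo.IsAdjointClosedFor (Cfsg.sympForm m F) K)
    (hnsa : ¬ Cfsg.Geo.IsSelfAdjointFor (Cfsg.sympForm m F) K) :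
    ∃ (θ : Matrix (Fin m ⊕ Fin m) (Fin m ⊕ Fin m) F) (d : F), SUStr θ d ∧
      ∀ k : Matrix (Fin m ⊕ Fin m) (Fin m ⊕ Fin m) F, k ∈ K ↔
        ∃ a b : F, k = a • (1 : Matrix (Fin m ⊕ Fin m) (Fin m ⊕ Fin m) F) + b • θ := by
  have h2 : (2 : F) ≠ 0 := Cfsg.Agent.Lib.Helper6.two_ne_zero_of_odd_card hodd
  unfold Cfsg.Geo.IsSelfAdjointFor at hnsa
  push Not at hnsa
  obtain ⟨δ, hδ, u₀, v₀, hne⟩ := hnsa
  obtain ⟨δ', hδ', hadj⟩ := hac δ hδ
  -- the adjoint of `δ'` is `δ`
  have hadj' : ∀ u v, Cfsg.sympForm m F (δ' *ᵥ u) v = Cfsg.sympForm m F u (δ *ᵥ v) := by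
    intro u v
    rw [sympForm_swap, ← hadj, sympForm_swap, neg_neg]
  obtain ⟨θ, hθdef⟩ : ∃ θ, θ = δ - δ' := ⟨_, rfl⟩
  have hθK : θ ∈ K := by rw [hθdef]; exact K.sub_mem hδ hδ'
  have hskew : ∀ u v, Cfsg.sympForm m F (θ *ᵥ u) v = - Cfsg.sympForm m F u (θ *ᵥ v) := by
    intro u v
    rw [hθdef, sub_mulVec, sub_mulVec, sympForm_sub_left, sympForm_sub_right, hadj, hadj']
    ring
  -- `θ` is not zero
  have hθ0 : θ ≠ 0 := by
    intro h0
    apply hne
    have : δ = δ' := by rw [hθdef] at h0; exact sub_eq_zero.mp h0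
    rw [hadj, ← this]
  -- some value `ff (θ v) x` is nonzero
  obtain ⟨v₁, x₁, hvx⟩ : ∃ v₁ x₁, Cfsg.sympForm m F (θ *ᵥ v₁) x₁ ≠ 0 := by
    by_contra hcon
    push Not at hcon
    apply hθ0
    apply matrix_ext_mulVec
    intro v
    rw [zero_mulVec]
    by_contra hv
    obtain ⟨x, hx⟩ := Cfsg.Agent.Lib.Helper2.exists_sympForm_ne_zero hv
    apply hx
    rw [sympForm_swap, hcon, neg_zero]
  -- `θ` is not a scalar
  have hnotscalar : ∀ s : F, θ ≠ s • (1 : Matrix (Fin m ⊕ Fin m) (Fin m ⊕ Fin m) F) := by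
    intro s hs
    apply hvx
    have h1 := hskew v₁ x₁
    rw [hs, smul_mulVec, smul_mulVec, one_mulVec, one_mulVec, sympForm_smul_left,
      sympForm_smul_right] at h1
    rw [hs, smul_mulVec, one_mulVec, sympForm_smul_left]
    have h3 : (2 : F) * (s * Cfsg.sympForm m F v₁ x₁) = 0 := by linear_combination h1
    exact (mul_eq_zero.mp h3).resolve_left h2
  -- `K = F + F θ`
  have hKθ : ∀ k : Matrix (Fin m ⊕ Fin m) (Fin m ⊕ Fin m) F, k ∈ K ↔
      ∃ a b : F, k = a • (1 : Matrix (Fin m ⊕ Fin m) (Fin m ⊕ Fin m) F) + b • θ := by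
    intro k
    constructor
    · intro hk
      haveI : Module.Finite F ↥K := Module.finite_of_finrank_pos (by rw [hK.finrank_eq]; norm_num)
      set w : Fin 3 → ↥K := ![⟨1, K.one_mem⟩, ⟨θ, hθK⟩, ⟨k, hk⟩] with hw
      have hdep : ¬ LinearIndependent F w := by
        intro hli
        have := hli.fintype_card_le_finrank
        rw [hK.finrank_eq, Fintype.card_fin] at this
        omega
      obtain ⟨g, hg, i, hi⟩ := Fintype.not_linearIndependent_iff.mp hdep
      have hg' : g 0 • (1 : Matrix (Fin m ⊕ Fin m) (Fin m ⊕ Fin m) F) + g 1 • θ + g 2 • k = 0 := by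
        have := congrArg (fun z : ↥K => (z : Matrix (Fin m ⊕ Fin m) (Fin m ⊕ Fin m) F)) hg
        simpa [Fin.sum_univ_three, hw] using this
      by_cases h2' : g 2 = 0
      · exfalso
        rw [h2', zero_smul, add_zero] at hg'
        by_cases h1 : g 1 = 0
        · rw [h1, zero_smul, add_zero] at hg'
          have h0 : g 0 ≠ 0 := by
            fin_cases i
            · exact hi
            · exact absurd h1 hi
            · exact absurd h2' hi
          have hone : (1 : Matrix (Fin m ⊕ Fin m) (Fin m ⊕ Fin m) F) = 0 :=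
            (smul_eq_zero.mp hg').resolve_left h0
          apply hnotscalar 0
          rw [zero_smul, ← Matrix.mul_one θ, hone, Matrix.mul_zero]
        · apply hnotscalar (-(g 0) / g 1)
          have : g 1 • θ = (-(g 0)) • (1 : Matrix (Fin m ⊕ Fin m) (Fin m ⊕ Fin m) F) := by
            rw [neg_smul, eq_neg_iff_add_eq_zero, add_comm]
            exact hg'
          rw [div_eq_inv_mul, ← smul_smul, ← this, smul_smul, inv_mul_cancel₀ h1, one_smul]
      · refine ⟨-(g 0) / g 2, -(g 1) / g 2, ?_⟩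
        have : g 2 • k = (-(g 0)) • (1 : Matrix (Fin m ⊕ Fin m) (Fin m ⊕ Fin m) F) +
            (-(g 1)) • θ := by
          rw [neg_smul, neg_smul, ← neg_add, eq_neg_iff_add_eq_zero, add_comm]
          exact hg'
        have h3 : k = (g 2)⁻¹ • (g 2 • k) := by
          rw [smul_smul, inv_mul_cancel₀ h2', one_smul]
        rw [h3, this, smul_add, smul_smul, smul_smul, div_eq_inv_mul, div_eq_inv_mul]
    · rintro ⟨a, b, rfl⟩
      exact K.add_mem (K.smul_mem K.one_mem a) (K.smul_mem hθK b)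
  -- `θ²` is a scalar
  obtain ⟨d, e, hde⟩ := (hKθ (θ * θ)).mp (K.mul_mem hθK hθK)
  have he : e = 0 := by
    have h1 : Cfsg.sympForm m F ((θ * θ) *ᵥ v₁) x₁ = Cfsg.sympForm m F v₁ ((θ * θ) *ᵥ x₁) := by
      rw [← mulVec_mulVec, ← mulVec_mulVec, hskew, hskew, neg_neg]
    rw [hde, add_mulVec, add_mulVec, smul_mulVec, smul_mulVec, smul_mulVec, smul_mulVec,
      one_mulVec, one_mulVec, sympForm_add_left, sympForm_add_right, sympForm_smul_left,
      sympForm_smul_left, sympForm_smul_right, sympForm_smul_right] at h1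
    have h5 := hskew v₁ x₁
    have h3 : (2 : F) * (e * Cfsg.sympForm m F (θ *ᵥ v₁) x₁) = 0 := by
      linear_combination h1 + e * h5
    exact (mul_eq_zero.mp ((mul_eq_zero.mp h3).resolve_left h2)).resolve_right hvx
  rw [he, zero_smul, add_zero] at hde
  refine ⟨θ, d, ⟨hskew, hde, ?_, h2⟩, hKθ⟩
  -- `d` is not a square
  intro a ha
  have hz : (θ - a • (1 : Matrix (Fin m ⊕ Fin m) (Fin m ⊕ Fin m) F)) *
      (θ + a • (1 : Matrix (Fin m ⊕ Fin m) (Fin m ⊕ Fin m) F)) = 0 := by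
    have h4 : (θ - a • (1 : Matrix (Fin m ⊕ Fin m) (Fin m ⊕ Fin m) F)) *
        (θ + a • (1 : Matrix (Fin m ⊕ Fin m) (Fin m ⊕ Fin m) F)) =
        θ * θ - (a ^ 2) • (1 : Matrix (Fin m ⊕ Fin m) (Fin m ⊕ Fin m) F) := by
      simp only [Matrix.sub_mul, Matrix.mul_add, Matrix.mul_smul, Matrix.smul_mul,
        Matrix.mul_one, Matrix.one_mul]
      module
    rw [h4, hde, ha, sub_self]
  by_cases h0 : θ - a • (1 : Matrix (Fin m ⊕ Fin m) (Fin m ⊕ Fin m) F) = 0
  · exact hnotscalar a (sub_eq_zero.mp h0)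
  · have hmem : θ - a • (1 : Matrix (Fin m ⊕ Fin m) (Fin m ⊕ Fin m) F) ∈ K :=
      K.sub_mem hθK (K.smul_mem K.one_mem a)
    obtain ⟨y, hy, hxy⟩ := hK.inv _ hmem h0
    have hyx : y * (θ - a • (1 : Matrix (Fin m ⊕ Fin m) (Fin m ⊕ Fin m) F)) = 1 := by
      rw [← hK.comm _ hmem y hy]
      exact hxy
    have h4 : θ + a • (1 : Matrix (Fin m ⊕ Fin m) (Fin m ⊕ Fin m) F) = 0 := by
      have := congrArg (fun z => y * z) hz
      simp only [Matrix.mul_zero] at this
      rw [← Matrix.mul_assoc, hyx, Matrix.one_mul] at this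
      exact this
    apply hnotscalar (-a)
    rw [neg_smul]
    exact eq_neg_of_add_eq_zero_left h4

end Cfsg.Agent.Lib.Helper27.S5665FOSTRUCT
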