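import Mathlib
import Cfsg.Agent.Lib.Helper28.SpSubfDefs
import Cfsg.Agent.Lib.Helper27.S5650FOSYL

/-!
# S5665 FO-SYL (architect helper28, served by helper27): the Sylow trick for double transvections

`α = T(a,1) T(b,λ)`, `β = T(z,1) T(w,μ)` in a finite `M ≤ Sp`, with `b, w` perpendicular to
`a, b, z, w` and `B(z,a) ≠ 0`: some `δ ∈ M` has `δ a = c z` (`c ≠ 0`) and `δ b = b`.
-/

set_option autoImplicit false
set_option linter.unusedSectionVars false
set_option linter.unusedVariables false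

namespace Cfsg.Agent.Lib.Helper27.S5665FOSYL

open Matrix Cfsg.Agent.Lib.Helper6 Cfsg.Agent.Lib.Helper13 Cfsg.Agent.Lib.Helper28.SpSubf
open Cfsg.Agent.Lib.Helper27.S5650FOSYL

universe u
variable {F : Type u} [Field F] {m : ℕ}

local notation "ff" => Cfsg.sympForm m F
local notation "ι" => (Fin m ⊕ Fin m)

/-- two transvections with orthogonal centres commute -/
theorem transv_comm {v w : ι → F} (hvw : ff v w = 0) (c e : F) :
    sympTransvGL v c * sympTransvGL w e = sympTransvGL w e * sympTransvGL v c := by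
  have hwv : ff w v = 0 := by rw [sympForm_swap, hvw, neg_zero]
  apply gl_ext
  intro x
  rw [Units.val_mul, Units.val_mul, ← mulVec_mulVec, ← mulVec_mulVec, sympTransvGL_mulVec,
    sympTransvGL_mulVec, sympTransvGL_mulVec, sympTransvGL_mulVec, sympForm_add_left,
    sympForm_add_left, sympForm_smul_left, sympForm_smul_left, hvw, hwv]
  module

theorem transv_pow (v : ι → F) (c : F) (n : ℕ) :
    sympTransvGL v c ^ n = sympTransvGL v ((n : F) * c) := by
  induction n with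
  | zero => rw [pow_zero, Nat.cast_zero, zero_mul, sympTransvGL_zero]
  | succ n ih =>
    rw [pow_succ, ih, sympTransvGL_mul, Nat.cast_succ]
    congr 1
    ring

/-- the invariant of the elements of `⟨α, β⟩` -/
def PP (a b z w : ι → F) (g : GL ι F) : Prop :=
  g ∈ Cfsg.spGL m F ∧ (g : Matrix ι ι F) *ᵥ b = b ∧ (g : Matrix ι ι F) *ᵥ w = w ∧
    ∀ x : ι → F, ff x b = 0 → ff x w = 0 →
      ∃ c₁ c₂ : F, (g : Matrix ι ι F) *ᵥ x = x + c₁ • a + c₂ • z

section
variable {a b z w : Fin m ⊕ Fin m → F}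

theorem PP_one : PP a b z w (1 : GL ι F) := by
  refine ⟨(Cfsg.spGL m F).one_mem, ?_, ?_, fun x _ _ => ⟨0, 0, ?_⟩⟩
  · rw [Units.val_one, one_mulVec]
  · rw [Units.val_one, one_mulVec]
  · rw [Units.val_one, one_mulVec, zero_smul, zero_smul, add_zero, add_zero]

theorem PP_mul (hab : ff a b = 0) (hzb : ff z b = 0) (hwa : ff w a = 0) (hzw : ff z w = 0)
    {g h : GL ι F} (hg : PP a b z w g) (hh : PP a b z w h) : PP a b z w (g * h) := by
  have haw : ff a w = 0 := by rw [sympForm_swap, hwa, neg_zero]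
  refine ⟨(Cfsg.spGL m F).mul_mem hg.1 hh.1, ?_, ?_, fun x hxb hxw => ?_⟩
  · rw [Units.val_mul, ← mulVec_mulVec, hh.2.1, hg.2.1]
  · rw [Units.val_mul, ← mulVec_mulVec, hh.2.2.1, hg.2.2.1]
  · obtain ⟨c₁, c₂, hc⟩ := hh.2.2.2 x hxb hxw
    have h1 : ff (x + c₁ • a + c₂ • z) b = 0 := by
      rw [sympForm_add_left, sympForm_add_left, sympForm_smul_left, sympForm_smul_left, hxb, hab,
        hzb]
      ring
    have h2 : ff (x + c₁ • a + c₂ • z) w = 0 := by
      rw [sympForm_add_left, sympForm_add_left, sympForm_smul_left, sympForm_smul_left, hxw, haw,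
        hzw]
      ring
    obtain ⟨e₁, e₂, he⟩ := hg.2.2.2 _ h1 h2
    refine ⟨c₁ + e₁, c₂ + e₂, ?_⟩
    rw [Units.val_mul, ← mulVec_mulVec, hc, he]
    module

theorem PP_inv {g : GL ι F} (hg : PP a b z w g) : PP a b z w g⁻¹ := by
  have hgi : g⁻¹ ∈ Cfsg.spGL m F := (Cfsg.spGL m F).inv_mem hg.1
  have hb : ((g⁻¹ : GL ι F) : Matrix ι ι F) *ᵥ b = b := by
    conv_lhs => rw [← hg.2.1]
    rw [inv_mulVec_mulVec]
  have hw : ((g⁻¹ : GL ι F) : Matrix ι ι F) *ᵥ w = w := by
    conv_lhs => rw [← hg.2.2.1]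
    rw [inv_mulVec_mulVec]
  refine ⟨hgi, hb, hw, fun x hxb hxw => ?_⟩
  have h1 : ff (((g⁻¹ : GL ι F) : Matrix ι ι F) *ᵥ x) b = 0 := by
    have h5 : ff (((g⁻¹ : GL ι F) : Matrix ι ι F) *ᵥ x)
        (((g⁻¹ : GL ι F) : Matrix ι ι F) *ᵥ b) = ff x b := hgi x b
    rw [hb] at h5
    exact h5.trans hxb
  have h2 : ff (((g⁻¹ : GL ι F) : Matrix ι ι F) *ᵥ x) w = 0 := by
    have h5 : ff (((g⁻¹ : GL ι F) : Matrix ι ι F) *ᵥ x)
        (((g⁻¹ : GL ι F) : Matrix ι ι F) *ᵥ w) = ff x w := hgi x w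
    rw [hw] at h5
    exact h5.trans hxw
  obtain ⟨c₁, c₂, hc⟩ := hg.2.2.2 _ h1 h2
  rw [mulVec_inv_mulVec] at hc
  refine ⟨-c₁, -c₂, ?_⟩
  have h3 : ((g⁻¹ : GL ι F) : Matrix ι ι F) *ᵥ x = x - c₁ • a - c₂ • z := by
    rw [sub_sub, eq_sub_iff_add_eq, ← add_assoc]
    exact hc.symm
  rw [h3]
  module

/-- a transvection whose centre `v ∈ {a, z}`-like is perpendicular to `b`, `w` -/
theorem PP_transv_a (hab : ff a b = 0) (hwa : ff w a = 0) (c : F) :
    PP a b z w (sympTransvGL a c) := by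
  have hba : ff b a = 0 := by rw [sympForm_swap, hab, neg_zero]
  refine ⟨sympTransvGL_mem a c, ?_, ?_, fun x _ _ => ⟨c * ff x a, 0, ?_⟩⟩
  · rw [sympTransvGL_mulVec, hba, mul_zero, zero_smul, add_zero]
  · rw [sympTransvGL_mulVec, hwa, mul_zero, zero_smul, add_zero]
  · rw [sympTransvGL_mulVec, zero_smul, add_zero]

theorem PP_transv_z (hzb : ff z b = 0) (hzw : ff z w = 0) (c : F) :
    PP a b z w (sympTransvGL z c) := by
  have hbz : ff b z = 0 := by rw [sympForm_swap, hzb, neg_zero]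
  have hwz : ff w z = 0 := by rw [sympForm_swap, hzw, neg_zero]
  refine ⟨sympTransvGL_mem z c, ?_, ?_, fun x _ _ => ⟨0, c * ff x z, ?_⟩⟩
  · rw [sympTransvGL_mulVec, hbz, mul_zero, zero_smul, add_zero]
  · rw [sympTransvGL_mulVec, hwz, mul_zero, zero_smul, add_zero]
  · rw [sympTransvGL_mulVec, zero_smul, add_zero]

theorem PP_transv_b (hwb : ff w b = 0) (c : F) : PP a b z w (sympTransvGL b c) := by
  refine ⟨sympTransvGL_mem b c, ?_, ?_, fun x hxb _ => ⟨0, 0, ?_⟩⟩
  · rw [sympTransvGL_mulVec, sympForm_self, mul_zero, zero_smul, add_zero]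
  · rw [sympTransvGL_mulVec, hwb, mul_zero, zero_smul, add_zero]
  · rw [sympTransvGL_mulVec, hxb, mul_zero, zero_smul, zero_smul, zero_smul, add_zero, add_zero]

theorem PP_transv_w (hwb : ff w b = 0) (c : F) : PP a b z w (sympTransvGL w c) := by
  have hbw : ff b w = 0 := by rw [sympForm_swap, hwb, neg_zero]
  refine ⟨sympTransvGL_mem w c, ?_, ?_, fun x _ hxw => ⟨0, 0, ?_⟩⟩
  · rw [sympTransvGL_mulVec, hbw, mul_zero, zero_smul, add_zero]
  · rw [sympTransvGL_mulVec, sympForm_self, mul_zero, zero_smul, add_zero]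
  · rw [sympTransvGL_mulVec, hxw, mul_zero, zero_smul, zero_smul, zero_smul, add_zero, add_zero]

end

theorem exists_sylow_conj2 [Fintype F] {M : Subgroup (GL (Fin m ⊕ Fin m) F)}
    (hMS : M ≤ Cfsg.spGL m F) (a b z w : ι → F) (lam mu : F)
    (hab : ff a b = 0) (hzw : ff z w = 0) (hzb : ff z b = 0) (hwa : ff w a = 0)
    (hwb : ff w b = 0) (hza : ff z a ≠ 0)
    (hE : sympTransvGL a 1 * sympTransvGL b lam ∈ M)
    (hT : sympTransvGL z 1 * sympTransvGL w mu ∈ M) :
    ∃ δ ∈ M, ∃ c : F, c ≠ 0 ∧ (δ : Matrix ι ι F) *ᵥ a = c • z ∧ (δ : Matrix ι ι F) *ᵥ b = b := by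
  classical
  set p := ringChar F with hp
  haveI hcp : CharP F p := ringChar.charP F
  have hpp : p.Prime := CharP.char_is_prime F p
  have : Fact p.Prime := ⟨hpp⟩
  have ha0 : a ≠ 0 := by
    rintro rfl
    apply hza
    have := sympForm_smul_right (m := m) (0 : F) z (0 : ι → F)
    rwa [zero_smul, zero_mul] at this
  haveI : Nonempty ι := by
    by_contra hne
    rw [not_nonempty_iff] at hne
    exact ha0 (Subsingleton.elim _ _)
  have hbw : ff b w = 0 := by rw [sympForm_swap, hwb, neg_zero]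
  obtain ⟨α, hα⟩ : ∃ α, α = sympTransvGL a 1 * sympTransvGL b lam := ⟨_, rfl⟩
  obtain ⟨β, hβ⟩ : ∃ β, β = sympTransvGL z 1 * sympTransvGL w mu := ⟨_, rfl⟩
  set G₀ : Subgroup (GL ι F) := Subgroup.closure ({α, β} : Set (GL ι F)) with hG₀
  have hG₀M : G₀ ≤ M := by
    rw [hG₀, Subgroup.closure_le]
    rintro x (rfl | rfl)
    · rw [hα]; exact hE
    · rw [hβ]; exact hT
  have hαG : α ∈ G₀ := Subgroup.subset_closure (by simp)
  have hβG : β ∈ G₀ := Subgroup.subset_closure (by simp)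
  -- the invariant
  have hPP : ∀ g ∈ G₀, PP a b z w g := by
    intro g hg
    induction hg using Subgroup.closure_induction with
    | mem x hx =>
      rcases hx with rfl | rfl
      · rw [hα]
        exact PP_mul hab hzb hwa hzw (PP_transv_a hab hwa 1) (PP_transv_b hwb lam)
      · rw [hβ]
        exact PP_mul hab hzb hwa hzw (PP_transv_z hzb hzw 1) (PP_transv_w hwb mu)
    | one => exact PP_one
    | mul x y _ _ hx hy => exact PP_mul hab hzb hwa hzw hx hy
    | inv x _ hx => exact PP_inv hx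
  -- `p`-th powers
  have hpowp : ∀ (v v' : ι → F) (c c' : F), ff v v' = 0 →
      (sympTransvGL v c * sympTransvGL v' c') ^ p = 1 := by
    intro v v' c c' hvv'
    have hc : Commute (sympTransvGL v c) (sympTransvGL v' c') := transv_comm hvv' c c'
    rw [hc.mul_pow, transv_pow, transv_pow, CharP.cast_eq_zero, zero_mul, zero_mul,
      sympTransvGL_zero, sympTransvGL_zero, one_mul]
  set A : G₀ := ⟨α, hαG⟩ with hA
  set B : G₀ := ⟨β, hβG⟩ with hB
  have hAp : A ^ p = 1 := Subtype.ext (by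
    simp only [Subgroup.coe_pow, Subgroup.coe_one, hA]
    rw [hα]
    exact hpowp a b 1 lam hab)
  have hBp : B ^ p = 1 := Subtype.ext (by
    simp only [Subgroup.coe_pow, Subgroup.coe_one, hB]
    rw [hβ]
    exact hpowp z w 1 mu hzw)
  have hPG : ∀ t : G₀, t ^ p = 1 → IsPGroup p (Subgroup.zpowers t) := by
    intro t ht
    rintro ⟨g, hg⟩
    obtain ⟨n, rfl⟩ := Subgroup.mem_zpowers_iff.mp hg
    refine ⟨1, Subtype.ext ?_⟩
    simp only [pow_one, Subgroup.coe_pow, Subgroup.coe_one]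
    rw [← zpow_natCast, ← _root_.zpow_mul, mul_comm, _root_.zpow_mul, zpow_natCast, ht,
      _root_.one_zpow]
  obtain ⟨Pv, hPv⟩ := (hPG A hAp).exists_le_sylow
  obtain ⟨Pw, hPw⟩ := (hPG B hBp).exists_le_sylow
  obtain ⟨g, hg⟩ := MulAction.exists_smul_eq G₀ Pv Pw
  have hAPv : A ∈ (Pv : Subgroup G₀) := hPv (Subgroup.mem_zpowers A)
  have hBPw : B ∈ (Pw : Subgroup G₀) := hPw (Subgroup.mem_zpowers B)
  have hgAPw : g * A * g⁻¹ ∈ (Pw : Subgroup G₀) := by
    rw [← hg, Sylow.coe_subgroup_smul]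
    have := Subgroup.smul_mem_pointwise_smul A (MulAut.conj g) (Pv : Subgroup G₀) hAPv
    simpa [MulAut.smul_def] using this
  have hcPw : B * (g * A * g⁻¹) ∈ (Pw : Subgroup G₀) := (Pw : Subgroup G₀).mul_mem hBPw hgAPw
  obtain ⟨k, hk⟩ := Pw.isPGroup' ⟨_, hcPw⟩
  -- translate to matrices
  set δ : GL ι F := (g : GL ι F) with hδ
  have hδG₀ : δ ∈ G₀ := g.2
  obtain ⟨hδS, hδb, hδw, hδx⟩ := hPP δ hδG₀
  have haw : ff a w = 0 := by rw [sympForm_swap, hwa, neg_zero]
  obtain ⟨c₁, c₂, hc⟩ := hδx a hab haw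
  obtain ⟨u, hu⟩ : ∃ u, u = (δ : Matrix ι ι F) *ᵥ a := ⟨_, rfl⟩
  have hu' : u = (1 + c₁) • a + c₂ • z := by
    rw [hu, hc]
    module
  have hconj : δ * α * δ⁻¹ = sympTransvGL u 1 * sympTransvGL b lam := by
    rw [hα, hu]
    conv_rhs => rw [← conj_sympTransvGL δ hδS a 1]
    conv_rhs => rhs; rw [← hδb, ← conj_sympTransvGL δ hδS b lam]
    group
  have hk' : (β * (sympTransvGL u 1 * sympTransvGL b lam) : GL ι F) ^ (p ^ k) = 1 := by
    have := congrArg (fun t : (Pw : Subgroup G₀) => ((t : G₀) : GL ι F)) hk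
    simp only [Subgroup.coe_pow, Subgroup.coe_mul, Subgroup.coe_one, Subgroup.coe_inv] at this
    rw [← hconj]
    exact this
  -- orthogonality relations of `u`
  have huw : ff u w = 0 := by
    rw [hu', sympForm_add_left, sympForm_smul_left, sympForm_smul_left, haw, hzw]
    ring
  have hub : ff u b = 0 := by
    rw [hu', sympForm_add_left, sympForm_smul_left, sympForm_smul_left, hab, hzb]
    ring
  have hwu : ff w u = 0 := by rw [sympForm_swap, huw, neg_zero]
  -- split into commuting parts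
  obtain ⟨X, hX⟩ : ∃ X, X = sympTransvGL z 1 * sympTransvGL u 1 := ⟨_, rfl⟩
  obtain ⟨Y, hY⟩ : ∃ Y, Y = sympTransvGL w mu * sympTransvGL b lam := ⟨_, rfl⟩
  have hsplit : β * (sympTransvGL u 1 * sympTransvGL b lam) = X * Y := by
    rw [hβ, hX, hY, mul_assoc, ← mul_assoc (sympTransvGL w mu), transv_comm hwu, mul_assoc,
      ← mul_assoc (sympTransvGL z 1)]
  have hXY : Commute X Y := by
    have h1 : Commute (sympTransvGL z 1) (sympTransvGL w mu) := transv_comm hzw 1 mu
    have h2 : Commute (sympTransvGL z 1) (sympTransvGL b lam) := transv_comm hzb 1 lam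
    have h3 : Commute (sympTransvGL u 1) (sympTransvGL w mu) := transv_comm huw 1 mu
    have h4 : Commute (sympTransvGL u 1) (sympTransvGL b lam) := transv_comm hub 1 lam
    rw [hX, hY]
    exact (h1.mul_right h2).mul_left (h3.mul_right h4)
  have hYp : Y ^ p = 1 := by
    rw [hY]
    exact hpowp w b mu lam hwb
  have hXp : X ^ (p ^ (k + 1)) = 1 := by
    have h1 : (X * Y) ^ (p ^ (k + 1)) = 1 := by
      rw [← hsplit, pow_succ, pow_mul, hk', one_pow]
    have h2 : Y ^ (p ^ (k + 1)) = 1 := by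
      rw [pow_succ', pow_mul, hYp, one_pow]
    rw [hXY.mul_pow, h2, mul_one] at h1
    exact h1
  -- `B(z, u) = 0`
  have hγ : ff z u = 0 := by
    by_contra hγ
    have hN : ((((sympTransvGL z 1 * sympTransvGL u 1 : GL ι F) : Matrix ι ι F) - 1) ^
        (p ^ (k + 1))) = 0 := by
      rw [sub_pow_char_pow_of_commute p (k + 1) (Commute.one_right _), one_pow,
        ← Units.val_pow_eq_pow_val, ← hX, hXp, Units.val_one, sub_self]
    have := N_pow_ne u z hγ (p ^ (k + 1))
    rw [hN, zero_mulVec] at this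
    have h0 : ∀ y : ι → F, ff (0 : ι → F) y = 0 := by
      intro y
      have := sympForm_smul_left (m := m) (0 : F) (0 : ι → F) y
      rwa [zero_smul, zero_mul] at this
    rcases this with h | h
    · exact h (h0 u)
    · exact h (h0 z)
  have hc1 : 1 + c₁ = 0 := by
    rw [hu', sympForm_add_right, sympForm_smul_right, sympForm_smul_right, sympForm_self,
      mul_zero, add_zero] at hγ
    rcases mul_eq_zero.mp hγ with h | h
    · exact h
    · exact absurd h hza
  refine ⟨δ, hG₀M hδG₀, c₂, ?_, ?_, hδb⟩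
  · rintro rfl
    rw [hc1, zero_smul, zero_smul, add_zero] at hu'
    apply ha0
    have := inv_mulVec_mulVec δ a
    rw [← hu, hu', mulVec_zero] at this
    exact this.symm
  · rw [← hu, hu', hc1, zero_smul, zero_add]

end Cfsg.Agent.Lib.Helper27.S5665FOSYL
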