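import Mathlib
import Cfsg.Agent.Lib.Helper13.UOmDefs

/-!
# S5700 FO-NORM (architect helper13, served by helper27)

An element conjugating `δ` into `K = F[δ]` normalises `K`.
-/

set_option autoImplicit false
set_option linter.unusedSectionVars false
set_option linter.unusedVariables false

namespace Cfsg.Agent.Lib.Helper27.S5700FONORM

open Matrix Module QuadraticMap Cfsg.Agent.Lib.Helper6 Cfsg.Agent.Lib.Helper13
open Cfsg.Agent.Lib.Helper13.OND

universe u
variable {F : Type u} [Field F] [Fintype F] {ι : Type} [Fintype ι] [DecidableEq ι]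
variable {Q : QuadraticForm F (ι → F)} {δ : Matrix ι ι F} {τ ν : F} {M : Subgroup (GL ι F)}

theorem mem_normalizer_of_conj (hU : UStr Q δ τ ν) (K : Subalgebra F (Matrix ι ι F))
    (hKδ : ∀ k : Matrix ι ι F, k ∈ K ↔ ∃ a b : F, k = a • (1 : Matrix ι ι F) + b • δ)
    (g : GL ι F) (a b : F)
    (h : (g : Matrix ι ι F) * δ * ((g⁻¹ : GL ι F) : Matrix ι ι F) = a • (1 : Matrix ι ι F) + b • δ) :
    g ∈ Cfsg.Geo.subalgebraNormalizer K := by
  change ∀ k : Matrix ι ι F, k ∈ K ↔
    (g : Matrix ι ι F) * k * ((g⁻¹ : GL ι F) : Matrix ι ι F) ∈ K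
  have hG : (g : Matrix ι ι F) * ((g⁻¹ : GL ι F) : Matrix ι ι F) = 1 := by
    rw [← Units.val_mul, mul_inv_cancel, Units.val_one]
  have hGi : ((g⁻¹ : GL ι F) : Matrix ι ι F) * (g : Matrix ι ι F) = 1 := by
    rw [← Units.val_mul, inv_mul_cancel, Units.val_one]
  intro k
  rw [hKδ, hKδ]
  constructor
  · rintro ⟨x, y, rfl⟩
    refine ⟨x + y * a, y * b, ?_⟩
    rw [Matrix.mul_add, Matrix.add_mul, Matrix.mul_smul, Matrix.smul_mul, Matrix.mul_one, hG,
      Matrix.mul_smul, Matrix.smul_mul, h]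
    module
  · rintro ⟨x, y, hxy⟩
    -- `k = g⁻¹ (x + y δ) g`
    have hk : k = x • (1 : Matrix ι ι F) +
        y • (((g⁻¹ : GL ι F) : Matrix ι ι F) * δ * (g : Matrix ι ι F)) := by
      have h1 : ((g⁻¹ : GL ι F) : Matrix ι ι F) *
          ((g : Matrix ι ι F) * k * ((g⁻¹ : GL ι F) : Matrix ι ι F)) * (g : Matrix ι ι F) = k := by
        rw [Matrix.mul_assoc, Matrix.mul_assoc, hGi, Matrix.mul_one, ← Matrix.mul_assoc, hGi,
          Matrix.one_mul]
      rw [← h1, hxy, Matrix.mul_add, Matrix.add_mul, Matrix.mul_smul, Matrix.smul_mul,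
        Matrix.mul_one, hGi, Matrix.mul_smul, Matrix.smul_mul]
    have hδ : δ = a • (1 : Matrix ι ι F) +
        b • (((g⁻¹ : GL ι F) : Matrix ι ι F) * δ * (g : Matrix ι ι F)) := by
      have h1 : ((g⁻¹ : GL ι F) : Matrix ι ι F) *
          ((g : Matrix ι ι F) * δ * ((g⁻¹ : GL ι F) : Matrix ι ι F)) * (g : Matrix ι ι F) = δ := by
        rw [Matrix.mul_assoc, Matrix.mul_assoc, hGi, Matrix.mul_one, ← Matrix.mul_assoc, hGi,
          Matrix.one_mul]
      conv_lhs => rw [← h1, h]
      rw [Matrix.mul_add, Matrix.add_mul, Matrix.mul_smul, Matrix.smul_mul,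
        Matrix.mul_one, hGi, Matrix.mul_smul, Matrix.smul_mul]
    by_cases hb : b = 0
    · -- then `δ` is scalar, impossible unless the matrix ring is trivial
      rw [hb, zero_smul, add_zero] at hδ
      have hsq := hU.sq
      rw [hδ] at hsq
      have h2 : (a ^ 2 - τ * a + ν) • (1 : Matrix ι ι F) = 0 := by
        have h3 : (a • (1 : Matrix ι ι F)) * (a • (1 : Matrix ι ι F)) =
            (a * a) • (1 : Matrix ι ι F) := by
          rw [Matrix.smul_mul, Matrix.mul_smul, Matrix.mul_one, smul_smul]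
        rw [h3] at hsq
        have : (a ^ 2 - τ * a + ν) • (1 : Matrix ι ι F) =
            (a * a) • (1 : Matrix ι ι F) - (τ • a • (1 : Matrix ι ι F) - ν • 1) := by
          module
        rw [this, hsq, sub_self]
      have h1 : (1 : Matrix ι ι F) = 0 := (smul_eq_zero.mp h2).resolve_left (hU.irr a)
      refine ⟨0, 0, ?_⟩
      rw [zero_smul, zero_smul, add_zero, ← Matrix.mul_one k, h1, Matrix.mul_zero]
    · have hD : ((g⁻¹ : GL ι F) : Matrix ι ι F) * δ * (g : Matrix ι ι F) =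
          b⁻¹ • (δ - a • (1 : Matrix ι ι F)) := by
        have : δ - a • (1 : Matrix ι ι F) =
            b • (((g⁻¹ : GL ι F) : Matrix ι ι F) * δ * (g : Matrix ι ι F)) := by
          rw [sub_eq_iff_eq_add']
          exact hδ
        rw [this, smul_smul, inv_mul_cancel₀ hb, one_smul]
      refine ⟨x - y * b⁻¹ * a, y * b⁻¹, ?_⟩
      rw [hk, hD]
      module

end Cfsg.Agent.Lib.Helper27.S5700FONORM
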