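import Mathlib

set_option autoImplicit false

namespace Cfsg.Agent.Lib.Helper27.SC3PC1b

open MvPolynomial

section poly

variable {K V : Type*} [Field K] [AddCommGroup V] [Module K V] {d : ℕ}

/-- the homogeneous quadratic polynomial of a bilinear map with respect to a basis -/
noncomputable def bilinPoly (b : Module.Basis (Fin d) K V) (A : LinearMap.BilinMap K V K) :
    MvPolynomial (Fin d) K :=
  ∑ i, ∑ j, C (A (b i) (b j)) * X i * X j

theorem eval_bilinPoly (b : Module.Basis (Fin d) K V) (A : LinearMap.BilinMap K V K) (x : Fin d → K) :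
    eval x (bilinPoly b A) = A (∑ i, x i • b i) (∑ i, x i • b i) := by
  unfold bilinPoly
  have h1 : A (∑ i, x i • b i) (∑ i, x i • b i) = ∑ i, ∑ j, x i * (x j * A (b i) (b j)) := by
    simp only [map_sum, LinearMap.sum_apply, map_smul, LinearMap.smul_apply, smul_eq_mul,
      Finset.mul_sum]
    rw [Finset.sum_comm]
    refine Finset.sum_congr rfl fun i _ => ?_
    refine Finset.sum_congr rfl fun j _ => ?_
    ring
  rw [h1]
  simp only [map_sum, map_mul, eval_C, eval_X]
  refine Finset.sum_congr rfl fun i _ => ?_
  refine Finset.sum_congr rfl fun j _ => ?_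
  ring

theorem totalDegree_bilinPoly_le (b : Module.Basis (Fin d) K V) (A : LinearMap.BilinMap K V K) :
    (bilinPoly b A).totalDegree ≤ 2 := by
  unfold bilinPoly
  refine (totalDegree_finsetSum_le fun i _ => ?_)
  refine (totalDegree_finsetSum_le fun j _ => ?_)
  refine (totalDegree_mul _ _).trans ?_
  have h1 : (C (A (b i) (b j)) * X i : MvPolynomial (Fin d) K).totalDegree ≤ 1 := by
    refine (totalDegree_mul _ _).trans ?_
    rw [totalDegree_C, totalDegree_X, zero_add]
  have h2 : (X j : MvPolynomial (Fin d) K).totalDegree = 1 := totalDegree_X j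
  omega

end poly

/-- Chevalley–Warning for a family of quadratic maps on a vector space over a finite field: if the
dimension exceeds twice the number of forms, there is a nonzero common zero. -/
theorem exists_ne_zero_common_zero {K V ι : Type*} [Field K] [Finite K] [AddCommGroup V] [Module K V]
    [Module.Finite K V] [Fintype ι] (Q : ι → QuadraticMap K V K)
    (h : 2 * Fintype.card ι < Module.finrank K V) : ∃ v : V, v ≠ 0 ∧ ∀ i, Q i v = 0 := by
  classical
  let _ : Fintype K := Fintype.ofFinite K
  obtain ⟨p, hp⟩ := CharP.exists K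
  have := hp
  have : Fact p.Prime := ⟨CharP.char_is_prime K p⟩
  set d := Module.finrank K V with hd
  let b : Module.Basis (Fin d) K V := Module.finBasis K V
  let f : ι → MvPolynomial (Fin d) K := fun i => bilinPoly b ((Q i).toBilin b)
  have hdeg : (∑ i, (f i).totalDegree) < Fintype.card (Fin d) := by
    rw [Fintype.card_fin]
    refine lt_of_le_of_lt ?_ h
    calc (∑ i, (f i).totalDegree) ≤ ∑ _i : ι, 2 :=
          Finset.sum_le_sum fun i _ => totalDegree_bilinPoly_le b _
      _ = 2 * Fintype.card ι := by simp [mul_comm]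
  have hdvd := char_dvd_card_solutions_of_fintype_sum_lt p hdeg
  have hev : ∀ (x : Fin d → K) (i : ι), eval x (f i) = Q i (∑ j, x j • b j) := by
    intro x i
    rw [eval_bilinPoly]
    have := congrArg (fun q : QuadraticMap K V K => q (∑ j, x j • b j))
      (QuadraticMap.toQuadraticMap_toBilin (Q i) b)
    simpa using this
  -- zero is a solution
  have hzero : ∀ i, eval (0 : Fin d → K) (f i) = 0 := by
    intro i
    rw [hev]
    simp
  have hcard : 2 ≤ Fintype.card { x : Fin d → K // ∀ i, eval x (f i) = 0 } := by
    have hpos : 0 < Fintype.card { x : Fin d → K // ∀ i, eval x (f i) = 0 } :=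
      Fintype.card_pos_iff.mpr ⟨⟨0, hzero⟩⟩
    have := Nat.le_of_dvd hpos hdvd
    exact le_trans (Fact.out : p.Prime).two_le this
  obtain ⟨⟨x, hx⟩, hne⟩ : ∃ y : { x : Fin d → K // ∀ i, eval x (f i) = 0 }, y ≠ ⟨0, hzero⟩ := by
    by_contra hcon
    push Not at hcon
    have : Fintype.card { x : Fin d → K // ∀ i, eval x (f i) = 0 } ≤ 1 :=
      Fintype.card_le_one_iff.mpr fun a c => (hcon a).trans (hcon c).symm
    omega
  refine ⟨∑ j, x j • b j, ?_, fun i => by rw [← hev]; exact hx i⟩
  intro h0
  apply hne
  apply Subtype.ext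
  show x = 0
  have := b.equivFun.symm.injective (a₁ := x) (a₂ := 0)
  apply this
  rw [Module.Basis.equivFun_symm_apply, Module.Basis.equivFun_symm_apply]
  simpa using h0


section F2

variable {V W : Type*} [AddCommGroup V] [Module (ZMod 2) V] [AddCommGroup W] [Module (ZMod 2) W]

/-- a coordinate of a `W`-valued quadratic function (with biadditive polar form) as a `QuadraticMap`
over `ZMod 2` -/
noncomputable def coordQuad (lam : W →ₗ[ZMod 2] ZMod 2) (q : V → W) (B : V → V → W)
    (hq : ∀ x y, q (x + y) = q x + q y + B x y)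
    (hBl : ∀ x y z, B (x + y) z = B x z + B y z) (hBr : ∀ x y z, B x (y + z) = B x y + B x z) :
    QuadraticMap (ZMod 2) V (ZMod 2) where
  toFun v := lam (q v)
  toFun_smul a v := by
    have hB0 : B 0 0 = 0 := by
      have := hBl 0 0 0
      rw [add_zero] at this
      exact left_eq_add.mp this
    have hq0 : q 0 = 0 := by
      have := hq 0 0
      rw [add_zero, hB0, add_zero] at this
      exact left_eq_add.mp this
    have ha : a = 0 ∨ a = 1 := by
      fin_cases a
      · left; rfl
      · right; rfl
    rcases ha with rfl | rfl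
    · simp [hq0]
    · simp
  exists_companion' := by
    refine ⟨LinearMap.mk₂ (ZMod 2) (fun x y => lam (B x y)) ?_ ?_ ?_ ?_, ?_⟩
    · intro x y z
      simp only [hBl, map_add]
    · intro c x y
      let g : V →+ ZMod 2 := AddMonoidHom.mk' (fun x => lam (B x y)) (by
        intro u w
        simp only [hBl, map_add])
      exact ZMod.map_smul g c x
    · intro x y z
      simp only [hBr, map_add]
    · intro c x y
      let g : V →+ ZMod 2 := AddMonoidHom.mk' (fun y => lam (B x y)) (by
        intro u w
        simp only [hBr, map_add])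
      exact ZMod.map_smul g c y
    · intro x y
      simp only [hq, map_add]
      rfl

theorem coordQuad_apply (lam : W →ₗ[ZMod 2] ZMod 2) (q : V → W) (B : V → V → W)
    (hq : ∀ x y, q (x + y) = q x + q y + B x y)
    (hBl : ∀ x y z, B (x + y) z = B x z + B y z) (hBr : ∀ x y z, B x (y + z) = B x y + B x z) (v : V) :
    coordQuad lam q B hq hBl hBr v = lam (q v) := rfl

theorem finrank_le_of_anisotropic [Module.Finite (ZMod 2) V] [Module.Finite (ZMod 2) W]
    (q : V → W) (B : V → V → W)
    (hq : ∀ x y, q (x + y) = q x + q y + B x y)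
    (hBl : ∀ x y z, B (x + y) z = B x z + B y z) (hBr : ∀ x y z, B x (y + z) = B x y + B x z)
    (hani : ∀ v, q v = 0 → v = 0) :
    Module.finrank (ZMod 2) V ≤ 2 * Module.finrank (ZMod 2) W := by
  by_contra hlt
  push Not at hlt
  let bW : Module.Basis (Fin (Module.finrank (ZMod 2) W)) (ZMod 2) W := Module.finBasis (ZMod 2) W
  have h : 2 * Fintype.card (Fin (Module.finrank (ZMod 2) W)) < Module.finrank (ZMod 2) V := by
    rw [Fintype.card_fin]; exact hlt
  obtain ⟨v, hv0, hv⟩ := exists_ne_zero_common_zero
    (fun i => coordQuad (bW.coord i) q B hq hBl hBr) h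
  apply hv0
  apply hani
  apply bW.ext_elem
  intro i
  have := hv i
  rw [coordQuad_apply, Module.Basis.coord_apply] at this
  rw [this]
  simp

end F2

/-- **Chevalley–Warning bound for anisotropic quadratic maps of elementary abelian 2-groups**:
if `q : V → W` is a function between finite elementary abelian 2-groups (written additively) whose
polar form `B x y = q (x + y) - q x - q y` is biadditive and `q v = 0` only for `v = 0`, then
`|V| ≤ |W|^2`. -/
theorem card_le_sq_of_anisotropic {V W : Type*} [AddCommGroup V] [Finite V] [AddCommGroup W] [Finite W]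
    (hV : ∀ v : V, 2 • v = 0) (hW : ∀ w : W, 2 • w = 0)
    (q : V → W) (B : V → V → W)
    (hq : ∀ x y, q (x + y) = q x + q y + B x y)
    (hBl : ∀ x y z, B (x + y) z = B x z + B y z) (hBr : ∀ x y z, B x (y + z) = B x y + B x z)
    (hani : ∀ v, q v = 0 → v = 0) : Nat.card V ≤ Nat.card W ^ 2 := by
  let _ : Module (ZMod 2) V := AddCommGroup.zmodModule hV
  let _ : Module (ZMod 2) W := AddCommGroup.zmodModule hW
  have : Module.Finite (ZMod 2) V := Module.Finite.of_finite
  have : Module.Finite (ZMod 2) W := Module.Finite.of_finite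
  have h := finrank_le_of_anisotropic q B hq hBl hBr hani
  rw [Module.natCard_eq_pow_finrank (K := ZMod 2) (V := V),
    Module.natCard_eq_pow_finrank (K := ZMod 2) (V := W), ← pow_mul]
  have h2 : Nat.card (ZMod 2) = 2 := by simp
  rw [h2]
  exact Nat.pow_le_pow_right (by norm_num) (by rw [mul_comm]; exact h)

end Cfsg.Agent.Lib.Helper27.SC3PC1b
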