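import Mathlib
import Cfsg.Prelude.Def_Solvable
import Cfsg.Agent.H5.Cores

/-!
# S4538-[P1], generic middle step (helper27)

`D ≤ U`, `U` a finite `p`-group normalized by `N(D)`, and `O_p(N(D)) = D`  ⇒  `D = U`
(normalizer condition in the `p`-group `U`).
-/

set_option autoImplicit false

namespace Cfsg.Agent.Lib.Helper24.SLB.Helper27

open Subgroup

/-- Generic: a radical `p`-subgroup `D` (i.e. `O_p(N(D)) = D`) contained in a `p`-subgroup `U`
that is normalized by `N(D)` equals `U`. -/
theorem eq_of_pCore_normalizer_eq {G : Type*} [Group G] [Finite G] (p : ℕ) [Fact p.Prime]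
    (D U : Subgroup G) (hU : IsPGroup p U) (hDU : D ≤ U)
    (hN : ∀ g ∈ Subgroup.normalizer (D : Set G), ∀ u ∈ U, g * u * g⁻¹ ∈ U)
    (hcore : (Cfsg.pCore p (Subgroup.normalizer (D : Set G))).map
      (Subgroup.normalizer (D : Set G)).subtype = D) :
    D = U := by
  classical
  by_contra hne
  have hlt : D < U := lt_of_le_of_ne hDU hne
  -- normalizer condition inside the p-group `U`
  have : Group.IsNilpotent U := hU.isNilpotent
  have hnc : NormalizerCondition U := Group.normalizerCondition_of_isNilpotent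
  have hlt' : D.subgroupOf U < ⊤ := by
    rw [lt_top_iff_ne_top]
    intro h
    rw [subgroupOf_eq_top] at h
    exact hne (le_antisymm hDU h)
  have h1 := hnc (D.subgroupOf U) hlt'
  -- an element `u ∈ U`, `u ∈ N(D)`, `u ∉ D`
  obtain ⟨u, huN, huD⟩ := SetLike.exists_of_lt h1
  have hu_norm : (u : G) ∈ Subgroup.normalizer (D : Set G) := by
    rw [Subgroup.mem_normalizer_iff]
    intro h
    constructor
    · intro hh
      by_cases hhU : h ∈ U
      · have := (Subgroup.mem_normalizer_iff.mp huN ⟨h, hhU⟩)
        simp only [mem_subgroupOf] at this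
        simpa using this.mp hh
      · exact absurd (hDU hh) hhU
    · intro hh
      have hhU : h ∈ U := by
        have h2 : (u : G) * h * (u : G)⁻¹ ∈ U := hDU hh
        have : h = (u : G)⁻¹ * ((u : G) * h * (u : G)⁻¹) * (u : G) := by group
        rw [this]
        exact U.mul_mem (U.mul_mem (U.inv_mem u.2) h2) u.2
      have := (Subgroup.mem_normalizer_iff.mp huN ⟨h, hhU⟩)
      simp only [mem_subgroupOf] at this
      simpa using this.mpr hh
  have huD' : (u : G) ∉ D := by
    intro h
    exact huD (by simpa [mem_subgroupOf] using h)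
  -- `Q := U ⊓ N(D)` as a subgroup of `N(D)` is a normal `p`-subgroup
  set N : Subgroup G := Subgroup.normalizer (D : Set G) with hNdef
  have hQn : (U.subgroupOf N).Normal := by
    constructor
    intro x hx g
    rw [mem_subgroupOf] at hx ⊢
    simpa using hN g g.2 x hx
  have hQp : IsPGroup p (U.subgroupOf N) := hU.comap_subtype
  have hle : U.subgroupOf N ≤ Cfsg.pCore p N := Cfsg.H5.le_pCore hQn hQp
  have hmem : (⟨(u : G), hu_norm⟩ : N) ∈ U.subgroupOf N := by
    rw [mem_subgroupOf]
    exact u.2
  have h3 : (u : G) ∈ (Cfsg.pCore p N).map N.subtype :=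
    ⟨⟨(u : G), hu_norm⟩, hle hmem, rfl⟩
  rw [hcore] at h3
  exact huD' h3

end Cfsg.Agent.Lib.Helper24.SLB.Helper27
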