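import Mathlib
import Cfsg.Prelude.Def_Solvable
import Cfsg.Agent.S2391
import Cfsg.Agent.Lib.Helper4.SLBFlag
import Cfsg.Agent.Lib.Helper6.SLBP1Fin
import Cfsg.Agent.Lib.Helper27.SLBP1Mid

/-!
# S4538-[P1] SPARE (helper27): `pregular_centralizer_central_spare`

Assembly of the Borel–Tits flag (S2391), helper4's flag nilpotency lemmas, the generic middle step
`eq_of_pCore_normalizer_eq` and helper6's last step `mem_center_of_commute_transvections`.
-/

set_option autoImplicit false

namespace Cfsg.Agent.Lib.Helper24.SLB.Helper27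

open Matrix

variable {n : ℕ} {F : Type*} [Field F]

/-- `A` moves every member of the flag into the previous one, modulo the identity. -/
def FlagUnip {k : ℕ} (V : Fin (k + 2) → Submodule F (Fin n → F))
    (A : Matrix (Fin n) (Fin n) F) : Prop :=
  ∀ i : Fin (k + 1), ∀ v ∈ V i.succ, A *ᵥ v - v ∈ V i.castSucc

theorem flagUnip_one {k : ℕ} (V : Fin (k + 2) → Submodule F (Fin n → F)) :
    FlagUnip V (1 : Matrix (Fin n) (Fin n) F) := by
  intro i v _
  rw [one_mulVec, sub_self]
  exact Submodule.zero_mem _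

/-- a flag-unipotent matrix stabilizes every member of the flag -/
theorem flagUnip_stab {k : ℕ} (V : Fin (k + 2) → Submodule F (Fin n → F)) (hmono : Monotone V)
    (hV0 : V 0 = ⊥) {A : Matrix (Fin n) (Fin n) F} (hA : FlagUnip V A) :
    ∀ j : Fin (k + 2), ∀ v ∈ V j, A *ᵥ v ∈ V j := by
  intro j
  refine Fin.cases ?_ (fun i => ?_) j
  · intro v hv
    rw [hV0, Submodule.mem_bot] at hv
    subst hv
    rw [mulVec_zero]
    exact Submodule.zero_mem _
  · intro v hv
    have h1 := hA i v hv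
    have h2 : V i.castSucc ≤ V i.succ := hmono (Fin.castSucc_lt_succ (i := i)).le
    have : A *ᵥ v = (A *ᵥ v - v) + v := by abel
    rw [this]
    exact Submodule.add_mem _ (h2 h1) hv

theorem flagUnip_mul {k : ℕ} (V : Fin (k + 2) → Submodule F (Fin n → F)) (hmono : Monotone V)
    (hV0 : V 0 = ⊥) {A B : Matrix (Fin n) (Fin n) F} (hA : FlagUnip V A) (hB : FlagUnip V B) :
    FlagUnip V (A * B) := by
  intro i v hv
  have h1 := hB i v hv
  have h2 := flagUnip_stab V hmono hV0 hA i.castSucc _ h1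
  have h3 := hA i v hv
  have : (A * B) *ᵥ v - v = A *ᵥ (B *ᵥ v - v) + (A *ᵥ v - v) := by
    rw [mulVec_sub, ← mulVec_mulVec]
    abel
  rw [this]
  exact Submodule.add_mem _ h2 h3

theorem flagUnip_pow {k : ℕ} (V : Fin (k + 2) → Submodule F (Fin n → F)) (hmono : Monotone V)
    (hV0 : V 0 = ⊥) {A : Matrix (Fin n) (Fin n) F} (hA : FlagUnip V A) (m : ℕ) :
    FlagUnip V (A ^ m) := by
  induction m with
  | zero => rw [pow_zero]; exact flagUnip_one V
  | succ m ih => rw [pow_succ]; exact flagUnip_mul V hmono hV0 ih hA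

variable [Fintype F]

/-- the flag-unipotent subgroup of `SL_n(F)` -/
def flagU {k : ℕ} (V : Fin (k + 2) → Submodule F (Fin n → F)) (hmono : Monotone V)
    (hV0 : V 0 = ⊥) : Subgroup (SpecialLinearGroup (Fin n) F) where
  carrier := {g | FlagUnip V (g : Matrix (Fin n) (Fin n) F)}
  one_mem' := by
    show FlagUnip V ((1 : SpecialLinearGroup (Fin n) F) : Matrix (Fin n) (Fin n) F)
    rw [Matrix.SpecialLinearGroup.coe_one]
    exact flagUnip_one V
  mul_mem' := by
    intro a b ha hb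
    show FlagUnip V ((a * b : SpecialLinearGroup (Fin n) F) : Matrix (Fin n) (Fin n) F)
    rw [Matrix.SpecialLinearGroup.coe_mul]
    exact flagUnip_mul V hmono hV0 ha hb
  inv_mem' := by
    intro a ha
    show FlagUnip V ((a⁻¹ : SpecialLinearGroup (Fin n) F) : Matrix (Fin n) (Fin n) F)
    have h1 : a⁻¹ = a ^ (orderOf a - 1) := by
      apply inv_eq_of_mul_eq_one_right
      rw [← pow_succ', Nat.sub_add_cancel (orderOf_pos a), pow_orderOf_eq_one]
    rw [h1, Matrix.SpecialLinearGroup.coe_pow]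
    exact flagUnip_pow V hmono hV0 ha _

theorem mem_flagU {k : ℕ} (V : Fin (k + 2) → Submodule F (Fin n → F)) (hmono : Monotone V)
    (hV0 : V 0 = ⊥) (g : SpecialLinearGroup (Fin n) F) :
    g ∈ flagU V hmono hV0 ↔ FlagUnip V (g : Matrix (Fin n) (Fin n) F) := Iff.rfl

theorem flagU_isPGroup (p : ℕ) [Fact p.Prime] [CharP F p] {k : ℕ}
    (V : Fin (k + 2) → Submodule F (Fin n → F)) (hmono : Monotone V)
    (hV0 : V 0 = ⊥) (hVt : V (Fin.last (k + 1)) = ⊤) : IsPGroup p (flagU V hmono hV0) := by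
  intro g
  refine ⟨k + 1, ?_⟩
  have hg : FlagUnip V ((g : SpecialLinearGroup (Fin n) F) : Matrix (Fin n) (Fin n) F) := g.2
  have hN : ∀ i : Fin (k + 1), ∀ v ∈ V i.succ,
      (((g : SpecialLinearGroup (Fin n) F) : Matrix (Fin n) (Fin n) F) - 1) *ᵥ v ∈ V i.castSucc := by
    intro i v hv
    rw [sub_mulVec, one_mulVec]
    exact hg i v hv
  have h0 := Helper4B.pow_eq_zero_of_flag V hV0 hVt _ hN
  have h1 := Helper4B.pow_p_pow_eq_one p _ (k + 1) h0
  apply Subtype.ext
  apply Subtype.ext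
  rw [Subgroup.coe_pow, Matrix.SpecialLinearGroup.coe_pow]
  simpa using h1

/-- the transvection `1 + v φᵀ` as an element of `SL_n(F)` (when `φ ⬝ᵥ v = 0`) -/
def transv (v φ : Fin n → F) (h : φ ⬝ᵥ v = 0) : SpecialLinearGroup (Fin n) F :=
  ⟨1 + vecMulVec v φ, by
    rw [vecMulVec_eq (Fin 1), det_one_add_replicateCol_mul_replicateRow, h, add_zero]⟩

omit [Fintype F] in
theorem coe_transv (v φ : Fin n → F) (h : φ ⬝ᵥ v = 0) :
    ((transv v φ h : SpecialLinearGroup (Fin n) F) : Matrix (Fin n) (Fin n) F) =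
      1 + vecMulVec v φ := rfl

theorem transv_mem_flagU {k : ℕ} (V : Fin (k + 2) → Submodule F (Fin n → F))
    (hmono : Monotone V) (hV0 : V 0 = ⊥) (v φ : Fin n → F)
    (hv : v ∈ V (Fin.succ 0)) (hφ : ∀ w ∈ V (Fin.succ 0), φ ⬝ᵥ w = 0) :
    transv v φ (hφ v hv) ∈ flagU V hmono hV0 := by
  rw [mem_flagU, coe_transv]
  intro i x hx
  have hcalc : (1 + vecMulVec v φ) *ᵥ x - x = (φ ⬝ᵥ x) • v := by
    rw [add_mulVec, one_mulVec, vecMulVec_mulVec, add_sub_cancel_left, op_smul_eq_smul]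
  rw [hcalc]
  revert hx
  refine Fin.cases ?_ (fun j => ?_) i
  · -- i = 0
    intro hx
    rw [hφ x hx, zero_smul]
    exact Submodule.zero_mem _
  · intro _
    have hle : V (Fin.succ 0) ≤ V (Fin.castSucc (Fin.succ j)) := by
      apply hmono
      rw [Fin.le_def]
      simp
    exact Submodule.smul_mem _ _ (hle hv)

/-- **[P1] spare**: a nontrivial radical `p`-subgroup `D` of `SL_n(F)` has all `p`-regular
elements of its centralizer central. -/
theorem pregular_centralizer_central_spare (p : ℕ) [Fact p.Prime] [CharP F p]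
    (D : Subgroup (SpecialLinearGroup (Fin n) F)) (hD : IsPGroup p D) (hne : D ≠ ⊥)
    (hcore : (Cfsg.pCore p (Subgroup.normalizer (D : Set (SpecialLinearGroup (Fin n) F)))).map
      (Subgroup.normalizer (D : Set (SpecialLinearGroup (Fin n) F))).subtype = D) :
    ∀ g ∈ Subgroup.centralizer (D : Set (SpecialLinearGroup (Fin n) F)), ¬ p ∣ orderOf g →
      g ∈ Subgroup.center (SpecialLinearGroup (Fin n) F) := by
  classical
  obtain ⟨k, V, hk, hstrict, hV0, hVt, hnorm, hunip⟩ := Cfsg.Agent.S2391.result p n D hD hne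
  have hmono : Monotone V := hstrict.monotone
  -- `D ≤ Ũ`
  have hDU : D ≤ flagU V hmono hV0 := by
    intro u hu
    rw [mem_flagU]
    exact hunip u hu
  -- `N(D)` stabilizes the flag in both directions
  have hstab : ∀ g ∈ Subgroup.normalizer (D : Set (SpecialLinearGroup (Fin n) F)),
      ∀ i, ∀ v ∈ V i, (g : Matrix (Fin n) (Fin n) F) *ᵥ v ∈ V i := by
    intro g hg i v hv
    have := hnorm g hg i
    rw [← this]
    exact ⟨v, hv, rfl⟩
  have hstab' : ∀ g ∈ Subgroup.normalizer (D : Set (SpecialLinearGroup (Fin n) F)),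
      ∀ i, ∀ v ∈ V i, ((g⁻¹ : SpecialLinearGroup (Fin n) F) : Matrix (Fin n) (Fin n) F) *ᵥ v
        ∈ V i := by
    intro g hg i v hv
    exact hstab g⁻¹ (Subgroup.inv_mem _ hg) i v hv
  -- `N(D)` normalizes `Ũ`
  have hN : ∀ g ∈ Subgroup.normalizer (D : Set (SpecialLinearGroup (Fin n) F)),
      ∀ u ∈ flagU V hmono hV0, g * u * g⁻¹ ∈ flagU V hmono hV0 := by
    intro g hg u hu
    rw [mem_flagU] at hu ⊢
    intro i v hv
    have h1 := hstab' g hg i.succ v hv
    have h2 := hu i _ h1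
    have h3 := hstab g hg i.castSucc _ h2
    have hgg : (g : Matrix (Fin n) (Fin n) F) * ((g⁻¹ : SpecialLinearGroup (Fin n) F) :
        Matrix (Fin n) (Fin n) F) = 1 := by
      rw [← Matrix.SpecialLinearGroup.coe_mul, mul_inv_cancel, Matrix.SpecialLinearGroup.coe_one]
    have : ((g * u * g⁻¹ : SpecialLinearGroup (Fin n) F) : Matrix (Fin n) (Fin n) F) *ᵥ v - v
        = (g : Matrix (Fin n) (Fin n) F) *ᵥ ((u : Matrix (Fin n) (Fin n) F) *ᵥ
            (((g⁻¹ : SpecialLinearGroup (Fin n) F) : Matrix (Fin n) (Fin n) F) *ᵥ v) -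
            ((g⁻¹ : SpecialLinearGroup (Fin n) F) : Matrix (Fin n) (Fin n) F) *ᵥ v) := by
      rw [mulVec_sub, mulVec_mulVec, mulVec_mulVec, mulVec_mulVec, hgg, one_mulVec,
        Matrix.SpecialLinearGroup.coe_mul, Matrix.SpecialLinearGroup.coe_mul, Matrix.mul_assoc]
    rw [this]
    exact h3
  -- `D = Ũ`
  have hDeq : D = flagU V hmono hV0 :=
    eq_of_pCore_normalizer_eq p D (flagU V hmono hV0) (flagU_isPGroup p V hmono hV0 hVt) hDU hN
      hcore
  -- the subspace `W = V 1`
  set W : Submodule F (Fin n → F) := V (Fin.succ 0) with hW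
  have hW0 : W ≠ ⊥ := by
    have : V 0 < V (Fin.succ 0) := hstrict (Fin.succ_pos 0)
    rw [hV0] at this
    exact (bot_lt_iff_ne_bot.mp this)
  have hW1 : W ≠ ⊤ := by
    have hlt : (Fin.succ 0 : Fin (k + 2)) < Fin.last (k + 1) := by
      rw [Fin.lt_def]
      simp
      omega
    have : V (Fin.succ 0) < V (Fin.last (k + 1)) := hstrict hlt
    rw [hVt] at this
    exact (lt_top_iff_ne_top.mp this)
  intro g hg hpg
  apply Helper6.mem_center_of_commute_transvections p W hW0 hW1 g hpg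
  intro v hv φ hφ
  have hmem : transv v φ (hφ v hv) ∈ D := by
    rw [hDeq]
    exact transv_mem_flagU V hmono hV0 v φ hv hφ
  have hc := (Subgroup.mem_centralizer_iff.mp hg) _ hmem
  have hc' := congrArg (fun x : SpecialLinearGroup (Fin n) F => (x : Matrix (Fin n) (Fin n) F)) hc
  simp only [Matrix.SpecialLinearGroup.coe_mul, coe_transv] at hc'
  exact hc'.symm

end Cfsg.Agent.Lib.Helper24.SLB.Helper27
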