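import Cfsg.Prelude.Def_FusionSystem
import Cfsg.Prelude.Def_KGroupFacts

set_option autoImplicit false
open Cfsg

namespace Cfsg.Agent.Lib.Helper27

/-- If `E` is invariant in `F`, both over the same `S`, and `Aut_F(S) = Inn(S)`, then `E = F`. -/
theorem hom_eq_of_invariant_of_top_inner {Ω : Type*} [Group Ω] {S : Subgroup Ω}
    (F E : Cfsg.FusionSystem S) (htop : F.autGroup S = Cfsg.Inn ↥S)
    (hE : E.IsInvariantIn F) (P : Subgroup Ω) : E.Hom P = F.Hom P := by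
  obtain ⟨hsub, -, -, hfrat⟩ := hE
  apply Set.Subset.antisymm (hsub P)
  intro φ hφ
  have hPS : P ≤ S := (F.le_of_mem hφ).1
  obtain ⟨α, hα, φ₀, hφ₀, h⟩ := hfrat P hPS φ hφ
  rw [htop] at hα
  obtain ⟨s, rfl⟩ := hα
  have hφ₀S : ∀ x : P, φ₀ x ∈ S := (E.le_of_mem hφ₀).2
  have hconj : conjHom S (s : Ω) ∈ E.Hom S := E.conj_mem le_rfl s.2
  have hcomp := E.comp_mem hφ₀ hconj hφ₀S
  have : φ = (conjHom S (s : Ω)).comp (φ₀.codRestrict S hφ₀S) := by
    ext x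
    rw [h x (hφ₀S x)]
    rfl
  rw [this]
  exact hcomp

end Cfsg.Agent.Lib.Helper27
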