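import Mathlib
import Cfsg.Agent.H26.Solvable
import Cfsg.Agent.H26.Invariant

set_option autoImplicit false

/-! Chains of strongly closed subgroups with abelian quotients, as an inductive predicate. -/

namespace Cfsg.Agent.Lib.Helper27.SolvN

open Cfsg Cfsg.FusionSystem Cfsg.Agent.H26 Cfsg.Agent.Lib.Helper27
open scoped commutatorElement

variable {Ω : Type*} [Group Ω] {S : Subgroup Ω}

/-- `AbChain F R V`: there is a chain of subgroups strongly closed in `F` from `R` up to `V` in which
the commutator subgroup of each term lies in the previous one. -/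
inductive AbChain (F : FusionSystem S) (R : Subgroup Ω) : Subgroup Ω → Prop
  | refl : F.StronglyClosed R → AbChain F R R
  | step {V W : Subgroup Ω} : AbChain F R V → F.StronglyClosed W → ⁅W, W⁆ ≤ V → AbChain F R W

theorem AbChain.sc_right {F : FusionSystem S} {R V : Subgroup Ω} (h : AbChain F R V) :
    F.StronglyClosed V := by
  cases h with
  | refl h => exact h
  | step _ h _ => exact h

theorem AbChain.trans {F : FusionSystem S} {R V W : Subgroup Ω} (h₁ : AbChain F R V)
    (h₂ : AbChain F V W) : AbChain F R W := by
  induction h₂ with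
  | refl _ => exact h₁
  | step _ hsc hc ih => exact AbChain.step ih hsc hc

theorem AbChain.of_fin {F : FusionSystem S} {n : ℕ} (T : Fin (n + 1) → Subgroup Ω)
    (hsc : ∀ i, F.StronglyClosed (T i))
    (hc : ∀ i : Fin n, ⁅T i.succ, T i.succ⁆ ≤ T (Fin.castSucc i)) :
    AbChain F (T 0) (T (Fin.last n)) := by
  have key : ∀ i : Fin (n + 1), AbChain F (T 0) (T i) := by
    intro i
    induction i using Fin.induction with
    | zero => exact AbChain.refl (hsc 0)
    | succ j ih => exact AbChain.step ih (hsc _) (hc j)
  exact key _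

theorem AbChain.to_fin {F : FusionSystem S} {R V : Subgroup Ω} (h : AbChain F R V) :
    ∃ (n : ℕ) (T : Fin (n + 1) → Subgroup Ω), T 0 = R ∧ T (Fin.last n) = V ∧
      (∀ i, F.StronglyClosed (T i)) ∧ ∀ i : Fin n, ⁅T i.succ, T i.succ⁆ ≤ T (Fin.castSucc i) := by
  induction h with
  | refl hR => exact ⟨0, fun _ => R, rfl, rfl, fun _ => hR, fun i => i.elim0⟩
  | @step V W _ hW hc ih =>
    obtain ⟨n, T, h0, hlast, hsc, hcc⟩ := ih
    refine ⟨n + 1, Fin.snoc (α := fun _ => Subgroup Ω) T W, ?_, ?_, ?_, ?_⟩
    · have : (0 : Fin (n + 2)) = Fin.castSucc (0 : Fin (n + 1)) := rfl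
      rw [this, Fin.snoc_castSucc]
      exact h0
    · exact Fin.snoc_last (α := fun _ => Subgroup Ω) W T
    · intro i
      induction i using Fin.lastCases with
      | last => rw [Fin.snoc_last]; exact hW
      | cast j => rw [Fin.snoc_castSucc]; exact hsc j
    · intro i
      induction i using Fin.lastCases with
      | last =>
        have h1 : (Fin.last n).succ = Fin.last (n + 1) := rfl
        rw [h1, Fin.snoc_last, Fin.snoc_castSucc, hlast]
        exact hc
      | cast j =>
        have h1 : (Fin.castSucc j).succ = Fin.castSucc j.succ := rfl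
        rw [h1, Fin.snoc_castSucc, Fin.snoc_castSucc]
        exact hcc j

end Cfsg.Agent.Lib.Helper27.SolvN
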