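import Mathlib
import Cfsg.Agent.Lib.Helper27.SolvNormalA
import Cfsg.Agent.H26.PrimeIndex
import Cfsg.Agent.H26.TrE

set_option autoImplicit false

/-! Transporting abelian chains of strongly closed subgroups: to a subsystem, to a factor system and back,
and the canonical derived series of a normal subsystem. -/

namespace Cfsg.Agent.Lib.Helper27.SolvN

open Cfsg Cfsg.FusionSystem Cfsg.Agent.H26 Cfsg.Agent.Lib.Helper27
open scoped commutatorElement

variable {Ω : Type*} [Group Ω] {S : Subgroup Ω} {T : Subgroup Ω}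

theorem sc_inf {F : FusionSystem S} {E : FusionSystem T} (hEF : E.IsSubsystemOf F) {V : Subgroup Ω}
    (hV : F.StronglyClosed V) : E.StronglyClosed (V ⊓ T) := by
  refine ⟨inf_le_right, fun R hR φ hφ x => ?_⟩
  exact ⟨hV.2 R (hR.trans inf_le_left) φ (hEF R hφ) x, (E.le_of_mem hφ).2 x⟩

theorem abChain_inf {F : FusionSystem S} {E : FusionSystem T} (hEF : E.IsSubsystemOf F)
    {R V : Subgroup Ω} (h : AbChain F R V) : AbChain E (R ⊓ T) (V ⊓ T) := by
  induction h with
  | refl hR => exact AbChain.refl (sc_inf hEF hR)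
  | @step V W _ hW hc ih =>
    refine AbChain.step ih (sc_inf hEF hW) ?_
    apply le_inf
    · exact (Subgroup.commutator_mono inf_le_left inf_le_left).trans hc
    · exact (Subgroup.commutator_mono inf_le_right inf_le_right).trans
        (Subgroup.commutator_le_self T)

variable {Ω' : Type*} [Group Ω'] {S' : Subgroup Ω'}

theorem comm_imageAlong_le {θ : S →* Ω'} {V W : Subgroup Ω} (hc : ⁅W, W⁆ ≤ V) :
    ⁅imageAlong θ W, imageAlong θ W⁆ ≤ imageAlong θ V := by
  unfold imageAlong
  rw [← Subgroup.map_commutator]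
  apply Subgroup.map_mono
  rw [Subgroup.commutator_le]
  intro a ha b hb
  rw [Subgroup.mem_subgroupOf] at ha hb ⊢
  exact hc (Subgroup.commutator_mem_commutator ha hb)

theorem abChain_image [Finite S] {p : ℕ} [Fact p.Prime] (hS : IsPGroup p S) {F : FusionSystem S}
    (hF : F.IsSaturated p) {R₀ : Subgroup Ω} (hR₀ : F.StronglyClosed R₀) {θ : S →* Ω'}
    {D : FusionSystem S'} (hD : F.IsFactorSystem R₀ θ D) {R V : Subgroup Ω} (h : AbChain F R V) :
    AbChain D (imageAlong θ R) (imageAlong θ V) := by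
  induction h with
  | refl hR => exact AbChain.refl (image_stronglyClosed hS hF hR₀ hD hR)
  | @step V W _ hW hc ih =>
    exact AbChain.step ih (image_stronglyClosed hS hF hR₀ hD hW) (comm_imageAlong_le hc)

theorem comm_preimageAlong_le {θ : S →* Ω'} {V' W' : Subgroup Ω'} (hc : ⁅W', W'⁆ ≤ V') :
    ⁅preimageAlong θ W', preimageAlong θ W'⁆ ≤ preimageAlong θ V' := by
  rw [Subgroup.commutator_le]
  intro a ha b hb
  obtain ⟨haS, ha'⟩ := mem_preimageAlong.mp ha
  obtain ⟨hbS, hb'⟩ := mem_preimageAlong.mp hb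
  have hab : ⁅a, b⁆ ∈ S := by
    rw [commutatorElement_def]
    exact S.mul_mem (S.mul_mem (S.mul_mem haS hbS) (S.inv_mem haS)) (S.inv_mem hbS)
  refine mem_preimageAlong.mpr ⟨hab, ?_⟩
  have h1 : (⟨⁅a, b⁆, hab⟩ : S) = ⁅(⟨a, haS⟩ : S), (⟨b, hbS⟩ : S)⁆ := Subtype.ext rfl
  rw [h1, map_commutatorElement]
  exact hc (Subgroup.commutator_mem_commutator ha' hb')

theorem abChain_preimage {F : FusionSystem S} {D : FusionSystem S'} {θ : S →* Ω'}
    (hmor : F.IsMorphism D θ) {R' V' : Subgroup Ω'} (h : AbChain D R' V') :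
    AbChain F (preimageAlong θ R') (preimageAlong θ V') := by
  induction h with
  | refl hR => exact AbChain.refl (preimage_stronglyClosed hmor hR)
  | @step V W _ hW hc ih =>
    exact AbChain.step ih (preimage_stronglyClosed hmor hW) (comm_preimageAlong_le hc)

/-! ### The canonical derived series -/

/-- The smallest subgroup strongly closed in `E` containing the commutator subgroup of `V`. -/
def derivedE (E : FusionSystem T) (V : Subgroup Ω) : Subgroup Ω :=
  sInf {W | E.StronglyClosed W ∧ ⁅V, V⁆ ≤ W}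

theorem derivedE_le_of {E : FusionSystem T} {V W : Subgroup Ω} (hW : E.StronglyClosed W)
    (hc : ⁅V, V⁆ ≤ W) : derivedE E V ≤ W :=
  sInf_le ⟨hW, hc⟩

theorem comm_le_derivedE (E : FusionSystem T) (V : Subgroup Ω) : ⁅V, V⁆ ≤ derivedE E V :=
  le_sInf fun _ hW => hW.2

theorem derivedE_mono (E : FusionSystem T) {V V' : Subgroup Ω} (h : V ≤ V') :
    derivedE E V ≤ derivedE E V' :=
  sInf_le_sInf fun _ hW => ⟨hW.1, (Subgroup.commutator_mono h h).trans hW.2⟩

theorem derivedE_le_top (E : FusionSystem T) {V : Subgroup Ω} (hV : V ≤ T) : derivedE E V ≤ T :=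
  derivedE_le_of (stronglyClosed_self E)
    ((Subgroup.commutator_mono hV hV).trans (Subgroup.commutator_le_self T))

theorem derivedE_sc (E : FusionSystem T) {V : Subgroup Ω} (hV : V ≤ T) :
    E.StronglyClosed (derivedE E V) := by
  refine ⟨derivedE_le_top E hV, fun R hR φ hφ x => ?_⟩
  unfold derivedE
  rw [Subgroup.mem_sInf]
  intro W hW
  exact hW.1.2 R (hR.trans (sInf_le hW)) φ hφ x

theorem derivedE_le_self (E : FusionSystem T) {V : Subgroup Ω} (hV : E.StronglyClosed V) :
    derivedE E V ≤ V :=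
  derivedE_le_of hV (Subgroup.commutator_le_self V)

theorem exists_iterate_le {E : FusionSystem T} {R V : Subgroup Ω} (h : AbChain E R V) :
    ∃ k : ℕ, (derivedE E)^[k] V ≤ R := by
  induction h with
  | refl _ => exact ⟨0, le_rfl⟩
  | @step V W hRV hW hc ih =>
    obtain ⟨k, hk⟩ := ih
    refine ⟨k + 1, ?_⟩
    rw [Function.iterate_succ_apply]
    have hmono : Monotone (derivedE E)^[k] := Monotone.iterate (fun _ _ h => derivedE_mono E h) k
    exact (hmono (derivedE_le_of hRV.sc_right hc)).trans hk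

end Cfsg.Agent.Lib.Helper27.SolvN
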