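import Mathlib
import Cfsg.Agent.Lib.Helper27.SolvNormalB

set_option autoImplicit false

/-! The canonical derived series of an invariant subsystem consists of subgroups strongly closed in the
ambient system. -/

namespace Cfsg.Agent.Lib.Helper27.SolvN

open Cfsg Cfsg.FusionSystem Cfsg.Agent.H26 Cfsg.Agent.Lib.Helper27
open scoped commutatorElement

variable {Ω : Type*} [Group Ω] {S : Subgroup Ω} {T : Subgroup Ω}

/-- The preimage of `W` under the automorphism `α` of `T`, as a subgroup of the ambient group. -/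
def pullAut (α : MulAut T) (W : Subgroup Ω) : Subgroup Ω :=
  ((W.subgroupOf T).comap (α : T ≃* T).toMonoidHom).map T.subtype

theorem mem_pullAut {α : MulAut T} {W : Subgroup Ω} {z : Ω} :
    z ∈ pullAut α W ↔ ∃ h : z ∈ T, ((α ⟨z, h⟩ : T) : Ω) ∈ W := by
  constructor
  · rintro ⟨t, ht, rfl⟩
    exact ⟨t.2, Subgroup.mem_subgroupOf.mp ht⟩
  · rintro ⟨h, hz⟩
    exact ⟨⟨z, h⟩, Subgroup.mem_subgroupOf.mpr hz, rfl⟩

theorem pullAut_sc {F : FusionSystem S} {E : FusionSystem T} (hInv : InvCond E F) {α : MulAut T}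
    (hα : α ∈ F.autGroup T) {W : Subgroup Ω} (hW : E.StronglyClosed W) :
    E.StronglyClosed (pullAut α W) := by
  have hle : pullAut α W ≤ T := fun z hz => (mem_pullAut.mp hz).1
  refine ⟨hle, fun R hR ψ hψ x => ?_⟩
  have hRT : R ≤ T := hR.trans hle
  obtain ⟨χ, hχ, hχe⟩ := hInv R hRT ψ hψ α hα
  have hψT : ψ x ∈ T := (E.le_of_mem hψ).2 x
  refine mem_pullAut.mpr ⟨hψT, ?_⟩
  have hαx : ((α ⟨x, hRT x.2⟩ : T) : Ω) ∈ (R.subgroupOf T).map (T.subtype.comp (α : T ≃* T).toMonoidHom) :=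
    (mem_autImage hRT).mpr ⟨x, rfl⟩
  rw [← hχe x hψT hαx]
  apply hW.2 _ _ χ hχ
  intro z hz
  obtain ⟨y, rfl⟩ := (mem_autImage hRT).mp hz
  obtain ⟨h, hy⟩ := mem_pullAut.mp (hR y.2)
  exact hy

theorem comm_le_pullAut {F : FusionSystem S} (hTS : T ≤ S) {α : MulAut T} (hα : α ∈ F.autGroup T)
    {V W : Subgroup Ω} (hVT : V ≤ T) (hV : F.StronglyClosed V) (hc : ⁅V, V⁆ ≤ W) :
    ⁅V, V⁆ ≤ pullAut α W := by
  have hαiso : IsIso F (α : T ≃* T) := (mem_autGroup_iff F hTS α).mp hα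
  have hres := hom_restrict F hVT hαiso
  have hαV : ∀ a (ha : a ∈ V), ((α ⟨a, hVT ha⟩ : T) : Ω) ∈ V := by
    intro a ha
    exact hV.2 V le_rfl _ hres ⟨a, ha⟩
  rw [Subgroup.commutator_le]
  intro a ha b hb
  have habT : ⁅a, b⁆ ∈ T := by
    rw [commutatorElement_def]
    exact T.mul_mem (T.mul_mem (T.mul_mem (hVT ha) (hVT hb)) (T.inv_mem (hVT ha))) (T.inv_mem (hVT hb))
  refine mem_pullAut.mpr ⟨habT, ?_⟩
  have h1 : (⟨⁅a, b⁆, habT⟩ : T) = ⁅(⟨a, hVT ha⟩ : T), (⟨b, hVT hb⟩ : T)⁆ := Subtype.ext rfl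
  rw [h1, map_commutatorElement]
  exact hc (Subgroup.commutator_mem_commutator (hαV a ha) (hαV b hb))

/-- For an invariant subsystem `E` of `F` over `T` and `V ≤ T` strongly closed in `F`, the smallest
subgroup strongly closed in `E` containing `[V,V]` is strongly closed in `F`. -/
theorem derivedE_scF {F : FusionSystem S} {E : FusionSystem T} (hE : E.IsInvariantIn F)
    {V : Subgroup Ω} (hVT : V ≤ T) (hV : F.StronglyClosed V) : F.StronglyClosed (derivedE E V) := by
  obtain ⟨hEF, hTsc, hInv, hFrat⟩ := hE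
  have hTS : T ≤ S := hTsc.1
  have hK := derivedE_sc E hVT
  have hKT : derivedE E V ≤ T := hK.1
  have hinvar : ∀ α ∈ F.autGroup T, ∀ y (hy : y ∈ derivedE E V),
      ((α ⟨y, hKT hy⟩ : T) : Ω) ∈ derivedE E V := by
    intro α hα y hy
    unfold derivedE
    rw [Subgroup.mem_sInf]
    intro W hW
    have h1 : derivedE E V ≤ pullAut α W :=
      derivedE_le_of (pullAut_sc hInv hα hW.1) (comm_le_pullAut hTS hα hVT hV hW.2)
    obtain ⟨_, h2⟩ := mem_pullAut.mp (h1 hy)
    exact h2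
  refine ⟨hKT.trans hTS, fun R hR φ hφ x => ?_⟩
  obtain ⟨α, hα, φ₀, hφ₀, e⟩ := hFrat R (hR.trans hKT) φ hφ
  have h0 : φ₀ x ∈ derivedE E V := hK.2 R hR φ₀ hφ₀ x
  rw [e x (hKT h0)]
  exact hinvar α hα _ h0

theorem iterate_scF {F : FusionSystem S} {E : FusionSystem T} (hE : E.IsInvariantIn F) (k : ℕ) :
    (derivedE E)^[k] T ≤ T ∧ F.StronglyClosed ((derivedE E)^[k] T) := by
  induction k with
  | zero => exact ⟨le_rfl, hE.2.1⟩
  | succ k ih =>
    rw [Function.iterate_succ_apply']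
    exact ⟨derivedE_le_top E ih.1, derivedE_scF hE ih.1 ih.2⟩

theorem abChain_iterate {F : FusionSystem S} {E : FusionSystem T} (hE : E.IsInvariantIn F) (k : ℕ) :
    AbChain F ((derivedE E)^[k] T) T := by
  induction k with
  | zero => exact AbChain.refl hE.2.1
  | succ k ih =>
    refine AbChain.trans ?_ ih
    refine AbChain.step (AbChain.refl (iterate_scF hE (k + 1)).2) (iterate_scF hE k).2 ?_
    rw [Function.iterate_succ_apply']
    exact comm_le_derivedE E _

/-- A chain for the invariant subsystem `E` over `T` yields a chain for `F` from `⊥` to `T`. -/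
theorem abChain_of_invariant {F : FusionSystem S} {E : FusionSystem T} (hE : E.IsInvariantIn F)
    (h : AbChain E ⊥ T) : AbChain F ⊥ T := by
  obtain ⟨k, hk⟩ := exists_iterate_le h
  have h1 := abChain_iterate hE k
  rw [le_bot_iff.mp hk] at h1
  exact h1

end Cfsg.Agent.Lib.Helper27.SolvN
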