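import Mathlib
import Cfsg.Prelude.Def_GeometricClasses
import Cfsg.Agent.Lib.Helper27.SpCorMain
import Cfsg.Agent.Lib.Helper27.SpCorC6X
import Cfsg.Agent.Lib.Helper13.SpCorP6
import Cfsg.Agent.Lib.Helper13.SpCorP7
import Cfsg.Agent.Lib.Helper6.SpCorTensPlus

/-!
# Corollaries of the symplectic hub S5662: the row `Sp_8` (S5823) (helper27)
-/

set_option autoImplicit false
set_option linter.unusedSectionVars false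
set_option linter.unusedVariables false

namespace Cfsg.Agent.Lib.Helper27.SpCor8

open Matrix Module Cfsg Cfsg.Geo
open Cfsg.Agent.Lib.Helper27.SpCorMain
open Cfsg.Agent.Lib.Helper27.SpCorBasic (not_maximal_of_between)

variable {F : Type*} [Field F] [Fintype F]

/-- S5823 (`Sp_8`) from the hub, modulo P7 and the `Sp_2 ⊗ O_4^+` piece -/
theorem cases8_of (hub : Hub 4 F)
    (hP7 : ∀ (R : Subgroup (GL (Fin 4 ⊕ Fin 4) F)) (k : ℕ), IsSymplecticTypeGroup 2 R →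
      ActsAbsolutelyIrreducibly (matrixSet R) → Odd (Fintype.card F) → Nat.card R = 2 ^ (1 + 2 * k) →
      Nat.card (Subgroup.center R) = 2 → ¬ Cfsg.spGL 4 F ≤ subgroupNormalizer R)
    (hB : Odd (Fintype.card F) → ∀ (e : (Fin 4 ⊕ Fin 4) ≃ Fin 2 × Fin 4) (P : GL (Fin 4 ⊕ Fin 4) F)
      (f₁ : (Fin 2 → F) → (Fin 2 → F) → F) (f₂ : (Fin 4 → F) → (Fin 4 → F) → F), IsSymplecticForm f₁ →
      IsSymmetricForm f₂ → IsPlusTypeOn (fun v : Fin 4 → F => f₂ v v) ⊤ →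
      IsTensorFormStructure id (Cfsg.sympForm 4 F) f₁ f₂ e P →
      ∃ K : Subgroup (GL (Fin 4 ⊕ Fin 4) F), tensorProductSubgroup 2 4 e P ⊓ Cfsg.spGL 4 F < K ∧ K < Cfsg.spGL 4 F)
    (H : Subgroup (Matrix.GeneralLinearGroup (Fin 4 ⊕ Fin 4) F))
    (hH : Cfsg.Geo.IsMaximalIn (Cfsg.spGL 4 F) H) :

    (∃ W : Submodule F (Fin 4 ⊕ Fin 4 → F), W ≠ ⊥ ∧ Cfsg.Geo.IsTotallySingularFor (Cfsg.sympForm 4 F) W ∧ H = Cfsg.Geo.subspaceStabilizer W ⊓ Cfsg.spGL 4 F) ∨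
    (∃ W : Submodule F (Fin 4 ⊕ Fin 4 → F), W ≠ ⊥ ∧ Cfsg.Geo.IsNondegenerateOn (Cfsg.sympForm 4 F) W ∧ Module.finrank F W < 4 ∧ H = Cfsg.Geo.subspaceStabilizer W ⊓ Cfsg.spGL 4 F) ∨
    (3 ≤ Fintype.card F ∧ ∃ D : Fin 4 → Submodule F (Fin 4 ⊕ Fin 4 → F), Cfsg.Geo.IsNondegenerateMDecomposition (Cfsg.sympForm 4 F) 2 D ∧ H = Cfsg.Geo.decompositionStabilizer D ⊓ Cfsg.spGL 4 F) ∨
    (∃ D : Fin 2 → Submodule F (Fin 4 ⊕ Fin 4 → F), Cfsg.Geo.IsNondegenerateMDecomposition (Cfsg.sympForm 4 F) 4 D ∧ H = Cfsg.Geo.decompositionStabilizer D ⊓ Cfsg.spGL 4 F) ∨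
    (Odd (Fintype.card F) ∧ ∃ D : Fin 2 → Submodule F (Fin 4 ⊕ Fin 4 → F), Cfsg.Geo.IsMDecomposition 4 D ∧ (∀ i, Cfsg.Geo.IsTotallySingularFor (Cfsg.sympForm 4 F) (D i)) ∧ H = Cfsg.Geo.decompositionStabilizer D ⊓ Cfsg.spGL 4 F) ∨
    (∃ K : Subalgebra F (Matrix (Fin 4 ⊕ Fin 4) (Fin 4 ⊕ Fin 4) F), Cfsg.Geo.IsFieldSubalgebra 2 K ∧ Cfsg.Geo.IsSelfAdjointFor (Cfsg.sympForm 4 F) K ∧ (∀ k ∈ K, ∀ v : (Fin 4 ⊕ Fin 4 → F), (Cfsg.sympForm 4 F) (Matrix.mulVec k v) v = 0) ∧ H = Cfsg.Geo.subalgebraNormalizer K ⊓ Cfsg.spGL 4 F) ∨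
    (Odd (Fintype.card F) ∧ ∃ K : Subalgebra F (Matrix (Fin 4 ⊕ Fin 4) (Fin 4 ⊕ Fin 4) F), Cfsg.Geo.IsFieldSubalgebra 2 K ∧ Cfsg.Geo.IsAdjointClosedFor (Cfsg.sympForm 4 F) K ∧ ¬ Cfsg.Geo.IsSelfAdjointFor (Cfsg.sympForm 4 F) K ∧ H = Cfsg.Geo.subalgebraNormalizer K ⊓ Cfsg.spGL 4 F) ∨
    (Odd (Fintype.card F) ∧ ∃ (e : (Fin 4 ⊕ Fin 4) ≃ Fin 2 × Fin 4) (P : Matrix.GeneralLinearGroup (Fin 4 ⊕ Fin 4) F) (f₁ : (Fin 2 → F) → (Fin 2 → F) → F) (f₂ : (Fin 4 → F) → (Fin 4 → F) → F), Cfsg.Geo.IsSymplecticForm f₁ ∧ Cfsg.Geo.IsSymmetricForm f₂ ∧ ¬ Cfsg.Geo.IsPlusTypeOn (fun v : Fin 4 → F => f₂ v v) ⊤ ∧ Cfsg.Geo.IsTensorFormStructure id (Cfsg.sympForm 4 F) f₁ f₂ e P ∧ H = Cfsg.Geo.tensorProductSubgroup 2 4 e P ⊓ Cfsg.spGL 4 F) ∨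
    (∃ (F₀ : Subfield F) (r : ℕ) (P : Matrix.GeneralLinearGroup (Fin 4 ⊕ Fin 4) F) (ζ : F), r.Prime ∧ Fintype.card F = Nat.card F₀ ^ r ∧ ζ ≠ 0 ∧ Cfsg.Geo.IsFormRationalStructure (Cfsg.sympForm 4 F) F₀ ζ P ∧ H = Cfsg.Geo.subfieldSubgroup F₀ P ⊓ Cfsg.spGL 4 F) ∨
    (∃ (p : ℕ) (R : Subgroup (Matrix.GeneralLinearGroup (Fin 4 ⊕ Fin 4) F)), p.Prime ∧ Odd p ∧ Fintype.card F = p ∧ Cfsg.Geo.IsSymplecticTypeGroup 2 R ∧ Cfsg.Geo.ActsAbsolutelyIrreducibly (Cfsg.Geo.matrixSet R) ∧ R ≤ Cfsg.Geo.similarityGroup (Cfsg.sympForm 4 F) ∧ Nat.card R = 128 ∧ Nat.card (Subgroup.center R) = 2 ∧ Cfsg.Geo.IsOfMinusType 3 R ∧ H = Cfsg.Geo.subgroupNormalizer R ⊓ Cfsg.spGL 4 F) ∨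
    (Odd (Fintype.card F) ∧ 5 ≤ Fintype.card F ∧ ∃ (e : (Fin 4 ⊕ Fin 4) ≃ (Fin 3 → Fin 2)) (P : Matrix.GeneralLinearGroup (Fin 4 ⊕ Fin 4) F) (f₁ : (Fin 2 → F) → (Fin 2 → F) → F), Cfsg.Geo.IsSymplecticForm f₁ ∧ Cfsg.Geo.IsTensorPowerFormStructure id (Cfsg.sympForm 4 F) f₁ e P ∧ H = Cfsg.Geo.tensorWreathSubgroup 2 3 e P ⊓ Cfsg.spGL 4 F) ∨
    (¬ Odd (Fintype.card F) ∧ ∃ Q : (Fin 4 ⊕ Fin 4 → F) → F, Cfsg.Geo.IsNondegenerateQuadraticForm Q ∧ (∀ u v : (Fin 4 ⊕ Fin 4 → F), QuadraticMap.polar Q u v = (Cfsg.sympForm 4 F) u v) ∧ H = Cfsg.Geo.quadSimilarityGroup Q ⊓ Cfsg.spGL 4 F) ∨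
    Cfsg.Geo.InSymplecticResidualClass H := by
  rcases member_of_max_aux (by norm_num) hub H hH hP7
      (fun k t e P hk ht => Cfsg.Agent.Lib.Helper13.SpCorP6.not_sp_le_tensorWreathSubgroup k t hk (by omega) e P)
      with hM | hres
  swap
  · exact Or.inr (Or.inr (Or.inr (Or.inr (Or.inr (Or.inr (Or.inr (Or.inr (Or.inr (Or.inr (Or.inr (Or.inr
      hres)))))))))))
  rcases hM with (⟨W, h0, hW, hMe⟩ | ⟨W, h0, hW, hlt, hMe⟩ | ⟨t, k, D, hD, hMe⟩ | ⟨D, hodd, hD, hts, hMe⟩ |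
      ⟨F₀, r, P, ζ, hr, hcard, hζ, hP, hMe⟩ | ⟨R, p, k, hR, hirr, hsim, hp, hpo, hFp, hRc, hcen, hmin, hMe⟩ |
      ⟨Q, heven, hQ, hpol, hMe⟩) | ⟨r, K, hr, hK, hsa, halt, hMe⟩ | ⟨K, hodd, hK, hac, hnsa, hMe⟩ |
      ⟨n₁, n₂, e, P, f₁, f₂, hodd, hn₂, hf₁, hf₂, hT, hMe⟩ | ⟨k, t, e, P, f₁, hodd, hto, ht, hex, hf₁, hT, hMe⟩
  · exact Or.inl ⟨W, h0, hW, hMe⟩
  · exact Or.inr (Or.inl ⟨W, h0, hW, hlt, hMe⟩)
  · -- decompositions: `(k,t) ∈ {(2,4), (4,2)}`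
    obtain ⟨h1, ⟨j, hj⟩, h2⟩ := dec_arith D hD
    have hj4 : t * j = 4 := by nlinarith
    have hjle : j ≤ 2 := by nlinarith
    have hj0 : 0 < j := by
      have := hD.decomp.pos
      omega
    interval_cases j
    · have hk : k = 2 := by omega
      subst hk
      have ht : t = 4 := by omega
      subst ht
      by_cases hq : 3 ≤ Fintype.card F
      · exact Or.inr (Or.inr (Or.inl ⟨hq, D, hD, hMe⟩))
      · exfalso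
        have hq2 := card_eq_two_of_lt_three hq
        exact not_maximal_of_between H hH
          (hMe ▸ Cfsg.Agent.Lib.Helper13.sp_decomp_not_maximal (by norm_num) hq2 D hD)
    · have hk : k = 4 := by omega
      subst hk
      have ht : t = 2 := by omega
      subst ht
      exact Or.inr (Or.inr (Or.inr (Or.inl ⟨D, hD, hMe⟩)))
  · exact Or.inr (Or.inr (Or.inr (Or.inr (Or.inl ⟨hodd, D, hD, hts, hMe⟩))))
  · exact Or.inr (Or.inr (Or.inr (Or.inr (Or.inr (Or.inr (Or.inr (Or.inr (Or.inl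
      ⟨F₀, r, P, ζ, hr, hcard, hζ, hP, hMe⟩))))))))
  · -- class 6: `k = 3`
    have hoddF : Odd (Fintype.card F) := by rw [hFp]; exact hpo
    have hk8 := Cfsg.Agent.Lib.Helper27.SpCorC6X.card_eq_pow_of_c6_exact R k hR hirr hoddF hRc hcen
    have hk : k = 3 := by
      have h8 : (2 : ℕ) ^ k = 2 ^ 3 := by rw [← hk8]; norm_num
      exact Nat.pow_right_injective (le_refl 2) h8
    subst hk
    exact Or.inr (Or.inr (Or.inr (Or.inr (Or.inr (Or.inr (Or.inr (Or.inr (Or.inr (Or.inl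
      ⟨p, R, hp, hpo, hFp, hR, hirr, hsim, by rw [hRc]; norm_num, hcen, hmin, hMe⟩)))))))))
  · exact Or.inr (Or.inr (Or.inr (Or.inr (Or.inr (Or.inr (Or.inr (Or.inr (Or.inr (Or.inr (Or.inr (Or.inl
      ⟨heven, Q, hQ, hpol, hMe⟩)))))))))))
  · -- self-adjoint field: `r ∣ 4`
    have hr4 : r ∣ 4 := dvd_of_selfAdjoint_field r K hK hsa halt
    have hr2 : r = 2 := by
      have hle : r ≤ 4 := Nat.le_of_dvd (by norm_num) hr4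
      have h2 := hr.two_le
      interval_cases r
      · rfl
      · omega
      · exact absurd hr (by decide)
    subst hr2
    exact Or.inr (Or.inr (Or.inr (Or.inr (Or.inr (Or.inl ⟨K, hK, hsa, halt, hMe⟩)))))
  · exact Or.inr (Or.inr (Or.inr (Or.inr (Or.inr (Or.inr (Or.inl ⟨hodd, K, hK, hac, hnsa, hMe⟩))))))
  · -- tensor: `(n₁,n₂) = (2,4)`
    obtain ⟨h1, ⟨j, hj⟩⟩ := tens_arith e f₁ hf₁
    have hj4 : j * n₂ = 4 := by nlinarith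
    have hj1 : j = 1 := by
      rcases Nat.eq_zero_or_pos j with h | h
      · subst h
        simp at hj4
      · have : j * 3 ≤ 4 := le_trans (Nat.mul_le_mul_left j hn₂) hj4.le
        omega
    subst hj1
    have hn1 : n₁ = 2 := by omega
    subst hn1
    have hn2 : n₂ = 4 := by omega
    subst hn2
    by_cases hplus : IsPlusTypeOn (fun v : Fin 4 → F => f₂ v v) ⊤
    · exfalso
      exact not_maximal_of_between H hH (hMe ▸ hB hodd e P f₁ f₂ hf₁ hf₂ hplus hT)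
    · exact Or.inr (Or.inr (Or.inr (Or.inr (Or.inr (Or.inr (Or.inr (Or.inl
        ⟨hodd, e, P, f₁, f₂, hf₁, hf₂, hplus, hT, hMe⟩)))))))
  · -- tensor wreath: `(k,t) = (2,3)`
    have hc := Fintype.card_congr e
    rw [Fintype.card_sum, Fintype.card_fin, Fintype.card_fun, Fintype.card_fin, Fintype.card_fin] at hc
    have hk2 : 2 ≤ k := by
      rcases Nat.lt_or_ge k 2 with h | h
      · interval_cases k
        · rw [zero_pow (by omega)] at hc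
          omega
        · rw [one_pow] at hc
          omega
      · exact h
    have ht3 : t = 3 := by
      rcases Nat.lt_or_ge t 4 with h | h
      · omega
      · exfalso
        have h1 : 2 ^ 4 ≤ k ^ 4 := Nat.pow_le_pow_left hk2 4
        have h2 : k ^ 4 ≤ k ^ t := Nat.pow_le_pow_right (by omega) h
        omega
    subst ht3
    have hk : k = 2 := by
      rcases Nat.lt_or_ge k 3 with h | h
      · omega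
      · exfalso
        have h1 : 3 ^ 3 ≤ k ^ 3 := Nat.pow_le_pow_left h 3
        omega
    subst hk
    have h5 : 5 ≤ Fintype.card F := by
      have h3 : Fintype.card F ≠ 3 := fun h => hex ⟨h, rfl⟩
      have := Fintype.one_lt_card (α := F)
      obtain ⟨j, hj⟩ := hodd
      omega
    exact Or.inr (Or.inr (Or.inr (Or.inr (Or.inr (Or.inr (Or.inr (Or.inr (Or.inr (Or.inr (Or.inl
      ⟨hodd, h5, e, P, f₁, hf₁, hT, hMe⟩))))))))))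


/-- S5823 (`Sp_8`) from the hub: verbatim conclusion of the row -/
theorem cases8 (hub : Hub 4 F)
    (H : Subgroup (Matrix.GeneralLinearGroup (Fin 4 ⊕ Fin 4) F))
    (hH : Cfsg.Geo.IsMaximalIn (Cfsg.spGL 4 F) H) :

    (∃ W : Submodule F (Fin 4 ⊕ Fin 4 → F), W ≠ ⊥ ∧ Cfsg.Geo.IsTotallySingularFor (Cfsg.sympForm 4 F) W ∧ H = Cfsg.Geo.subspaceStabilizer W ⊓ Cfsg.spGL 4 F) ∨
    (∃ W : Submodule F (Fin 4 ⊕ Fin 4 → F), W ≠ ⊥ ∧ Cfsg.Geo.IsNondegenerateOn (Cfsg.sympForm 4 F) W ∧ Module.finrank F W < 4 ∧ H = Cfsg.Geo.subspaceStabilizer W ⊓ Cfsg.spGL 4 F) ∨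
    (3 ≤ Fintype.card F ∧ ∃ D : Fin 4 → Submodule F (Fin 4 ⊕ Fin 4 → F), Cfsg.Geo.IsNondegenerateMDecomposition (Cfsg.sympForm 4 F) 2 D ∧ H = Cfsg.Geo.decompositionStabilizer D ⊓ Cfsg.spGL 4 F) ∨
    (∃ D : Fin 2 → Submodule F (Fin 4 ⊕ Fin 4 → F), Cfsg.Geo.IsNondegenerateMDecomposition (Cfsg.sympForm 4 F) 4 D ∧ H = Cfsg.Geo.decompositionStabilizer D ⊓ Cfsg.spGL 4 F) ∨
    (Odd (Fintype.card F) ∧ ∃ D : Fin 2 → Submodule F (Fin 4 ⊕ Fin 4 → F), Cfsg.Geo.IsMDecomposition 4 D ∧ (∀ i, Cfsg.Geo.IsTotallySingularFor (Cfsg.sympForm 4 F) (D i)) ∧ H = Cfsg.Geo.decompositionStabilizer D ⊓ Cfsg.spGL 4 F) ∨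
    (∃ K : Subalgebra F (Matrix (Fin 4 ⊕ Fin 4) (Fin 4 ⊕ Fin 4) F), Cfsg.Geo.IsFieldSubalgebra 2 K ∧ Cfsg.Geo.IsSelfAdjointFor (Cfsg.sympForm 4 F) K ∧ (∀ k ∈ K, ∀ v : (Fin 4 ⊕ Fin 4 → F), (Cfsg.sympForm 4 F) (Matrix.mulVec k v) v = 0) ∧ H = Cfsg.Geo.subalgebraNormalizer K ⊓ Cfsg.spGL 4 F) ∨
    (Odd (Fintype.card F) ∧ ∃ K : Subalgebra F (Matrix (Fin 4 ⊕ Fin 4) (Fin 4 ⊕ Fin 4) F), Cfsg.Geo.IsFieldSubalgebra 2 K ∧ Cfsg.Geo.IsAdjointClosedFor (Cfsg.sympForm 4 F) K ∧ ¬ Cfsg.Geo.IsSelfAdjointFor (Cfsg.sympForm 4 F) K ∧ H = Cfsg.Geo.subalgebraNormalizer K ⊓ Cfsg.spGL 4 F) ∨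
    (Odd (Fintype.card F) ∧ ∃ (e : (Fin 4 ⊕ Fin 4) ≃ Fin 2 × Fin 4) (P : Matrix.GeneralLinearGroup (Fin 4 ⊕ Fin 4) F) (f₁ : (Fin 2 → F) → (Fin 2 → F) → F) (f₂ : (Fin 4 → F) → (Fin 4 → F) → F), Cfsg.Geo.IsSymplecticForm f₁ ∧ Cfsg.Geo.IsSymmetricForm f₂ ∧ ¬ Cfsg.Geo.IsPlusTypeOn (fun v : Fin 4 → F => f₂ v v) ⊤ ∧ Cfsg.Geo.IsTensorFormStructure id (Cfsg.sympForm 4 F) f₁ f₂ e P ∧ H = Cfsg.Geo.tensorProductSubgroup 2 4 e P ⊓ Cfsg.spGL 4 F) ∨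
    (∃ (F₀ : Subfield F) (r : ℕ) (P : Matrix.GeneralLinearGroup (Fin 4 ⊕ Fin 4) F) (ζ : F), r.Prime ∧ Fintype.card F = Nat.card F₀ ^ r ∧ ζ ≠ 0 ∧ Cfsg.Geo.IsFormRationalStructure (Cfsg.sympForm 4 F) F₀ ζ P ∧ H = Cfsg.Geo.subfieldSubgroup F₀ P ⊓ Cfsg.spGL 4 F) ∨
    (∃ (p : ℕ) (R : Subgroup (Matrix.GeneralLinearGroup (Fin 4 ⊕ Fin 4) F)), p.Prime ∧ Odd p ∧ Fintype.card F = p ∧ Cfsg.Geo.IsSymplecticTypeGroup 2 R ∧ Cfsg.Geo.ActsAbsolutelyIrreducibly (Cfsg.Geo.matrixSet R) ∧ R ≤ Cfsg.Geo.similarityGroup (Cfsg.sympForm 4 F) ∧ Nat.card R = 128 ∧ Nat.card (Subgroup.center R) = 2 ∧ Cfsg.Geo.IsOfMinusType 3 R ∧ H = Cfsg.Geo.subgroupNormalizer R ⊓ Cfsg.spGL 4 F) ∨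
    (Odd (Fintype.card F) ∧ 5 ≤ Fintype.card F ∧ ∃ (e : (Fin 4 ⊕ Fin 4) ≃ (Fin 3 → Fin 2)) (P : Matrix.GeneralLinearGroup (Fin 4 ⊕ Fin 4) F) (f₁ : (Fin 2 → F) → (Fin 2 → F) → F), Cfsg.Geo.IsSymplecticForm f₁ ∧ Cfsg.Geo.IsTensorPowerFormStructure id (Cfsg.sympForm 4 F) f₁ e P ∧ H = Cfsg.Geo.tensorWreathSubgroup 2 3 e P ⊓ Cfsg.spGL 4 F) ∨
    (¬ Odd (Fintype.card F) ∧ ∃ Q : (Fin 4 ⊕ Fin 4 → F) → F, Cfsg.Geo.IsNondegenerateQuadraticForm Q ∧ (∀ u v : (Fin 4 ⊕ Fin 4 → F), QuadraticMap.polar Q u v = (Cfsg.sympForm 4 F) u v) ∧ H = Cfsg.Geo.quadSimilarityGroup Q ⊓ Cfsg.spGL 4 F) ∨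
    Cfsg.Geo.InSymplecticResidualClass H :=
  cases8_of hub
    (fun R k hR hirr hodd hcard _ =>
      Cfsg.Agent.Lib.Helper13.SpCorP7.not_sp_le_subgroupNormalizer (by norm_num) R k hR hirr hodd hcard)
    (fun hodd e P f₁ f₂ hf₁ hf₂ hplus hT =>
      Cfsg.Agent.Lib.Helper6.SpCorTensPlus.tensor_plus_not_maximal hodd e P f₁ f₂ hf₁ hf₂ hplus hT)
    H hH

end Cfsg.Agent.Lib.Helper27.SpCor8
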