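import Cfsg.Agent.Lib.Helper27.StCCTab

/-!
# Steinberg's Theorem 10 (S2398/S2100 farm), Part A, piece [A-T] (helper14's skeleton)
-/

set_option autoImplicit false

namespace Cfsg.Agent.Lib.Helper14.StCC.A

open Cfsg.Lie Cfsg.Agent.Lib.Helper8.Chev Cfsg.Agent.Lib.Helper14.StCC

set_option maxRecDepth 100000 in
/-- [A-T] table: every root has a coweight of value 1, except the long roots of `B₂` (value 2),
which are sums `r = a + b` of two orthogonal short roots with structure constant `±2`. -/
theorem exists_wt {D : ChevalleyDatum}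
    (hD : D ∈ [chevG2, chevB2, chevD4, chevF4, chevE6, chevE7, chevE8])
    {r : ℕ} (hr : r < D.nroots) :
    (∃ m : ℕ → ℤ, wt D m r = 1) ∨
    ((∃ m : ℕ → ℤ, wt D m r = 2) ∧ ∃ a b : ℕ, a < D.nroots ∧ b < D.nroots ∧ b ≠ a ∧ b ≠ D.neg a ∧
      r ≠ a ∧ r ≠ D.neg a ∧ r ≠ b ∧ r ≠ D.neg b ∧ D.commTerms a r = [] ∧ D.commTerms b r = [] ∧
      ∃ C : ℤ, (C = 2 ∨ C = -2) ∧ D.commTerms a b = [(r, C, 1, 1)]) := by
  by_cases h : D = chevB2 ∧ r ∈ Helper27.b2Long
  · obtain ⟨rfl, hr2⟩ := h
    refine Or.inr ⟨Helper27.exists_wt_two_B2 hr2, ?_⟩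
    simp only [Helper27.b2Long, List.mem_cons, List.mem_nil_iff, or_false] at hr2
    rcases hr2 with rfl | rfl | rfl | rfl
    · exact ⟨1, 2, by decide, by decide, by decide, by decide, by decide, by decide, by decide,
        by decide, by decide +kernel, by decide +kernel, 2, Or.inl rfl, by decide +kernel⟩
    · exact ⟨1, 5, by decide, by decide, by decide, by decide, by decide, by decide, by decide,
        by decide, by decide +kernel, by decide +kernel, -2, Or.inr rfl, by decide +kernel⟩
    · exact ⟨2, 6, by decide, by decide, by decide, by decide, by decide, by decide, by decide,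
        by decide, by decide +kernel, by decide +kernel, -2, Or.inr rfl, by decide +kernel⟩
    · exact ⟨5, 6, by decide, by decide, by decide, by decide, by decide, by decide, by decide,
        by decide, by decide +kernel, by decide +kernel, 2, Or.inl rfl, by decide +kernel⟩
  · exact Or.inl (Helper27.exists_wt_one hD hr (fun h1 h2 => h ⟨h1, h2⟩))

end Cfsg.Agent.Lib.Helper14.StCC.A
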