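import Mathlib

set_option autoImplicit false

/-! Common eigenvectors for commuting automorphisms of exponent dividing `p - 1` acting on elementary
abelian `p`-groups, and invariant chains with cyclic steps in finite `p`-groups. -/

namespace Cfsg.Agent.Lib.Helper27.SS

open Polynomial

theorem splits_X_pow_pred_sub_one (p : ℕ) [Fact p.Prime] :
    Splits (X ^ (p - 1) - 1 : (ZMod p)[X]) := by
  have hp : p.Prime := Fact.out
  have h1 : Splits (X ^ p - X : (ZMod p)[X]) := by
    rw [splits_iff_card_roots]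
    have h2 := FiniteField.roots_X_pow_card_sub_X (ZMod p)
    rw [ZMod.card] at h2
    rw [h2, ← Finset.card_def, Finset.card_univ, ZMod.card]
    exact (FiniteField.X_pow_card_sub_X_natDegree_eq (ZMod p) hp.one_lt).symm
  have h4 : (X ^ p - X : (ZMod p)[X]) = X * (X ^ (p - 1) - 1) := by
    have h5 : (X : (ZMod p)[X]) ^ p = X ^ (p - 1) * X := by
      rw [← pow_succ, Nat.sub_add_cancel hp.one_lt.le]
    rw [h5]
    ring
  rw [h4] at h1
  exact splits_X_mul.mp h1

theorem single_eig {p : ℕ} [Fact p.Prime] {M : Type*} [AddCommGroup M] [Module (ZMod p) M] [Finite M]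
    [Nontrivial M] (f : Module.End (ZMod p) M) (hf : f ^ (p - 1) = 1) :
    ∃ v : M, v ≠ 0 ∧ ∃ μ : ZMod p, f v = μ • v := by
  have hp : p.Prime := Fact.out
  haveI : Module.Finite (ZMod p) M := Module.Finite.of_finite
  have hdvd : minpoly (ZMod p) f ∣ (X ^ (p - 1) - 1 : (ZMod p)[X]) := by
    apply minpoly.dvd
    simp [hf]
  have hne : (X ^ (p - 1) - 1 : (ZMod p)[X]) ≠ 0 := by
    have h := X_pow_sub_C_ne_zero (R := ZMod p) (n := p - 1) (by have := hp.one_lt; omega) 1
    simpa using h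
  have hs : Splits (minpoly (ZMod p) f) := (splits_X_pow_pred_sub_one p).of_dvd hne hdvd
  have hint : IsIntegral (ZMod p) f := Algebra.IsIntegral.isIntegral f
  have hdeg : (minpoly (ZMod p) f).degree ≠ 0 := (minpoly.degree_pos hint).ne'
  obtain ⟨μ, hμ⟩ := hs.exists_eval_eq_zero hdeg
  have hev : f.HasEigenvalue μ := Module.End.hasEigenvalue_of_isRoot hμ
  obtain ⟨v, hv⟩ := hev.exists_hasEigenvector
  exact ⟨v, hv.2, μ, hv.apply_eq_smul⟩

theorem single_eig_add {p : ℕ} [Fact p.Prime] {M : Type*} [AddCommGroup M] [Finite M] [Nontrivial M]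
    (hexp : ∀ v : M, p • v = 0) (a : M →+ M) (ha : ∀ v, a^[p - 1] v = v) :
    ∃ v : M, v ≠ 0 ∧ ∃ k : ℕ, a v = k • v := by
  have hp : p.Prime := Fact.out
  haveI : NeZero p := ⟨hp.ne_zero⟩
  letI : Module (ZMod p) M := AddCommGroup.zmodModule (n := p) hexp
  let f : Module.End (ZMod p) M := a.toZModLinearMap p
  have hiter : ∀ (n : ℕ) (x : M), (f ^ n) x = a^[n] x := by
    intro n
    induction n with
    | zero => intro x; simp
    | succ n ih =>
      intro x
      rw [pow_succ', Module.End.mul_apply, ih, Function.iterate_succ_apply']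
      rfl
  have hf : f ^ (p - 1) = 1 := by
    ext x
    rw [hiter, ha]
    rfl
  obtain ⟨v, hv, μ, h⟩ := single_eig f hf
  refine ⟨v, hv, μ.val, ?_⟩
  have h2 : μ • v = μ.val • v := by
    conv_lhs => rw [← ZMod.natCast_zmod_val μ]
    exact Nat.cast_smul_eq_nsmul (ZMod p) μ.val v
  rw [h2] at h
  exact h

theorem single_eig_mul {p : ℕ} [Fact p.Prime] {V : Type*} [CommGroup V] [Finite V] [Nontrivial V]
    (hexp : ∀ v : V, v ^ p = 1) (a : V →* V) (ha : ∀ v, a^[p - 1] v = v) :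
    ∃ v : V, v ≠ 1 ∧ ∃ k : ℕ, a v = v ^ k := by
  have hiter : ∀ (n : ℕ) (x : Additive V),
      (MonoidHom.toAdditive a)^[n] x = Additive.ofMul (a^[n] (Additive.toMul x)) := by
    intro n
    induction n with
    | zero => intro x; rfl
    | succ n ih =>
      intro x
      rw [Function.iterate_succ_apply', ih, Function.iterate_succ_apply']
      rfl
  obtain ⟨v, hv, k, h⟩ := single_eig_add (p := p) (M := Additive V)
    (fun x => by
      show Additive.ofMul ((Additive.toMul x) ^ p) = 0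
      rw [hexp]; rfl)
    (MonoidHom.toAdditive a)
    (fun x => by rw [hiter, ha]; rfl)
  refine ⟨Additive.toMul v, ?_, k, ?_⟩
  · intro h1
    apply hv
    have : v = Additive.ofMul (Additive.toMul v) := rfl
    rw [this, h1]; rfl
  · have h4 := congrArg Additive.toMul h
    simpa using h4

/-- A family of pairwise commuting automorphisms of exponent dividing `p - 1`, leaving invariant a
nontrivial commutative subgroup `W` of exponent `p`, has a common eigenvector in `W`. -/
theorem common_eig {p : ℕ} [Fact p.Prime] {Γ : Type*} [Group Γ] [Finite Γ] (W : Subgroup Γ)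
    (hcomm : ∀ x ∈ W, ∀ y ∈ W, x * y = y * x) (hexp : ∀ x ∈ W, x ^ p = 1) (hW : W ≠ ⊥)
    (A : Set (Γ ≃* Γ)) (hinv : ∀ a ∈ A, ∀ x ∈ W, a x ∈ W)
    (hc : ∀ a ∈ A, ∀ b ∈ A, ∀ x ∈ W, a (b x) = b (a x))
    (hpow : ∀ a ∈ A, ∀ x ∈ W, (⇑a)^[p - 1] x = x) :
    ∃ w ∈ W, w ≠ 1 ∧ ∀ a ∈ A, ∃ k : ℕ, a w = w ^ k := by
  classical
  let 𝒰 : Set (Subgroup Γ) := {U | U ≤ W ∧ U ≠ ⊥ ∧ ∀ a ∈ A, ∀ x ∈ U, a x ∈ U}
  have hWU : W ∈ 𝒰 := ⟨le_rfl, hW, hinv⟩
  obtain ⟨U, hU, hmin⟩ := (Set.toFinite 𝒰).exists_minimal ⟨W, hWU⟩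
  obtain ⟨hUW, hUne, hUinv⟩ := hU
  have key : ∀ a ∈ A, ∃ k : ℕ, ∀ y ∈ U, a y = y ^ k := by
    intro a ha
    letI : CommGroup ↥U := { (inferInstance : Group ↥U) with
      mul_comm := fun x y => Subtype.ext (hcomm x (hUW x.2) y (hUW y.2)) }
    haveI : Nontrivial ↥U := (Subgroup.nontrivial_iff_ne_bot U).mpr hUne
    let a' : ↥U →* ↥U := (a.toMonoidHom.comp U.subtype).codRestrict U (fun x => hUinv a ha x x.2)
    have hiter : ∀ (n : ℕ) (x : ↥U), ((a'^[n] x : ↥U) : Γ) = (⇑a)^[n] (x : Γ) := by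
      intro n
      induction n with
      | zero => intro x; rfl
      | succ n ih =>
        intro x
        rw [Function.iterate_succ_apply', Function.iterate_succ_apply', ← ih]
        rfl
    obtain ⟨u, hu, k, huk⟩ := single_eig_mul (p := p) (V := ↥U)
      (fun v => Subtype.ext (by simpa using hexp v (hUW v.2))) a'
      (fun v => Subtype.ext (by rw [hiter]; exact hpow a ha v (hUW v.2)))
    refine ⟨k, ?_⟩
    have huk' : a (u : Γ) = (u : Γ) ^ k := by
      have := congrArg (fun z : ↥U => (z : Γ)) huk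
      simpa [a'] using this
    let E : Subgroup Γ :=
      { carrier := {y | y ∈ U ∧ a y = y ^ k}
        one_mem' := ⟨U.one_mem, by simp⟩
        mul_mem' := by
          rintro y z ⟨hy, hy'⟩ ⟨hz, hz'⟩
          refine ⟨U.mul_mem hy hz, ?_⟩
          have hcm : Commute y z := hcomm y (hUW hy) z (hUW hz)
          rw [map_mul, hy', hz', hcm.mul_pow]
        inv_mem' := by
          rintro y ⟨hy, hy'⟩
          refine ⟨U.inv_mem hy, ?_⟩
          rw [map_inv, hy', inv_pow] }
    have hEU : E ≤ U := fun y hy => hy.1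
    have hE : E ∈ 𝒰 := by
      refine ⟨hEU.trans hUW, ?_, ?_⟩
      · intro hbot
        have : (u : Γ) ∈ E := ⟨u.2, huk'⟩
        rw [hbot, Subgroup.mem_bot] at this
        exact hu (Subtype.ext this)
      · rintro b hb y ⟨hy, hy'⟩
        refine ⟨hUinv b hb y hy, ?_⟩
        rw [hc a ha b hb y (hUW hy), hy', map_pow]
    have hEq : E = U := le_antisymm hEU (hmin hE hEU)
    intro y hy
    rw [← hEq] at hy
    exact hy.2
  obtain ⟨w, hwU, hw1⟩ : ∃ w ∈ U, w ≠ 1 := by
    by_contra hcon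
    push Not at hcon
    apply hUne
    rw [Subgroup.eq_bot_iff_forall]
    exact hcon
  refine ⟨w, hUW hwU, hw1, fun a ha => ?_⟩
  obtain ⟨k, hk⟩ := key a ha
  exact ⟨k, hk w hwU⟩

section Chain

variable {p : ℕ} [Fact p.Prime] {T : Type*} [Group T] [Finite T]

/-- One step of an invariant chain: above a proper normal invariant subgroup `N` of the `p`-group `T`
there is a normal invariant subgroup `N ⊔ ⟨x⟩` with `x ∉ N`. -/
theorem exists_step (hT : IsPGroup p T) (A : Set (T ≃* T))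
    (hc : ∀ a ∈ A, ∀ b ∈ A, ∀ x, a (b x) = b (a x)) (hpow : ∀ a ∈ A, ∀ x, (⇑a)^[p - 1] x = x)
    (N : Subgroup T) [hNn : N.Normal] (hN : N ≠ ⊤) (hNinv : ∀ a ∈ A, ∀ x ∈ N, a x ∈ N) :
    ∃ x : T, x ∉ N ∧ (N ⊔ Subgroup.zpowers x).Normal ∧
      ∀ a ∈ A, ∀ y ∈ N ⊔ Subgroup.zpowers x, a y ∈ N ⊔ Subgroup.zpowers x := by
  classical
  have hp : p.Prime := Fact.out
  have hmap : ∀ a ∈ A, N.map ((a : T ≃* T) : T →* T) = N := by
    intro a ha
    apply Subgroup.eq_of_le_of_card_ge
    · rintro _ ⟨x, hx, rfl⟩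
      exact hNinv a ha x hx
    · rw [Subgroup.card_map_of_injective (f := ((a : T ≃* T) : T →* T)) a.injective]
  have hΓ : IsPGroup p (T ⧸ N) := hT.to_quotient N
  haveI : Nontrivial (T ⧸ N) := by
    rw [← not_subsingleton_iff_nontrivial]
    intro h
    exact hN (QuotientGroup.subgroup_eq_top_of_subsingleton N h)
  haveI : Nontrivial (Subgroup.center (T ⧸ N)) := hΓ.center_nontrivial
  have hdvd : p ∣ Nat.card (Subgroup.center (T ⧸ N)) := by
    have hZ : IsPGroup p (Subgroup.center (T ⧸ N)) := hΓ.to_subgroup _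
    obtain ⟨n, hn0, hn⟩ := (hZ.nontrivial_iff_card).mp inferInstance
    rw [hn]; exact dvd_pow_self p hn0.ne'
  obtain ⟨z, hz⟩ := exists_prime_orderOf_dvd_card' p hdvd
  let W : Subgroup (T ⧸ N) :=
    { carrier := {y | y ∈ Subgroup.center (T ⧸ N) ∧ y ^ p = 1}
      one_mem' := ⟨Subgroup.one_mem _, one_pow _⟩
      mul_mem' := by
        rintro y y' ⟨hy, hy'⟩ ⟨hz, hz'⟩
        refine ⟨Subgroup.mul_mem _ hy hz, ?_⟩
        have hcm : Commute y y' := Subgroup.mem_center_iff.mp hz y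
        rw [hcm.mul_pow, hy', hz', one_mul]
      inv_mem' := by
        rintro y ⟨hy, hy'⟩
        exact ⟨Subgroup.inv_mem _ hy, by rw [inv_pow, hy', inv_one]⟩ }
  have hzW : (z : T ⧸ N) ∈ W := by
    refine ⟨z.2, ?_⟩
    have h1 : z ^ p = 1 := by rw [← hz]; exact pow_orderOf_eq_one z
    have := congrArg (fun y : Subgroup.center (T ⧸ N) => (y : T ⧸ N)) h1
    simpa using this
  have hz1 : (z : T ⧸ N) ≠ 1 := by
    intro h
    have h1 : z = 1 := Subtype.ext h
    rw [h1, orderOf_one] at hz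
    exact hp.one_lt.ne hz
  have hW : W ≠ ⊥ := by
    intro h
    rw [h, Subgroup.mem_bot] at hzW
    exact hz1 hzW
  let B : Set ((T ⧸ N) ≃* (T ⧸ N)) :=
    {e | ∃ a, ∃ ha : a ∈ A, e = QuotientGroup.congr N N a (hmap a ha)}
  have hBmk : ∀ a (ha : a ∈ A) (t : T),
      QuotientGroup.congr N N a (hmap a ha) (QuotientGroup.mk t) = QuotientGroup.mk (a t) :=
    fun a ha t => rfl
  obtain ⟨w, hwW, hw1, hwA⟩ := common_eig (p := p) W
    (fun x hx y hy => Subgroup.mem_center_iff.mp hy.1 x)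
    (fun x hx => hx.2) hW B
    (by
      rintro _ ⟨a, ha, rfl⟩ x ⟨hx, hx'⟩
      refine ⟨?_, by rw [← map_pow, hx', map_one]⟩
      rw [Subgroup.mem_center_iff]
      intro g
      obtain ⟨g', rfl⟩ := (QuotientGroup.congr N N a (hmap a ha)).surjective g
      rw [← map_mul, ← map_mul, Subgroup.mem_center_iff.mp hx g'])
    (by
      rintro _ ⟨a, ha, rfl⟩ _ ⟨b, hb, rfl⟩ x _
      obtain ⟨t, rfl⟩ := QuotientGroup.mk_surjective x
      rw [hBmk b hb t, hBmk a ha (b t), hBmk a ha t, hBmk b hb (a t), hc a ha b hb t])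
    (by
      rintro _ ⟨a, ha, rfl⟩ x _
      obtain ⟨t, rfl⟩ := QuotientGroup.mk_surjective x
      have hiter : ∀ n : ℕ, (⇑(QuotientGroup.congr N N a (hmap a ha)))^[n] (QuotientGroup.mk t) =
          QuotientGroup.mk ((⇑a)^[n] t) := by
        intro n
        induction n with
        | zero => rfl
        | succ n ih =>
          rw [Function.iterate_succ_apply', ih, hBmk a ha, Function.iterate_succ_apply']
      rw [hiter, hpow a ha])
  obtain ⟨x, rfl⟩ := QuotientGroup.mk_surjective w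
  have hxN : x ∉ N := fun h => hw1 ((QuotientGroup.eq_one_iff x).mpr h)
  have hEq : N ⊔ Subgroup.zpowers x =
      (Subgroup.zpowers (QuotientGroup.mk x : T ⧸ N)).comap (QuotientGroup.mk' N) := by
    apply le_antisymm
    · apply sup_le
      · intro n hn
        rw [Subgroup.mem_comap]
        have : QuotientGroup.mk' N n = 1 := (QuotientGroup.eq_one_iff n).mpr hn
        rw [this]; exact Subgroup.one_mem _
      · rw [Subgroup.zpowers_le, Subgroup.mem_comap]
        exact Subgroup.mem_zpowers _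
    · intro y hy
      rw [Subgroup.mem_comap, Subgroup.mem_zpowers_iff] at hy
      obtain ⟨i, hi⟩ := hy
      have h1 : (QuotientGroup.mk (x ^ i) : T ⧸ N) = QuotientGroup.mk y := by
        rw [QuotientGroup.mk_zpow]; exact hi
      rw [QuotientGroup.eq] at h1
      have h2 : y = x ^ i * ((x ^ i)⁻¹ * y) := by group
      rw [h2]
      exact Subgroup.mul_mem _ (Subgroup.mem_sup_right (Subgroup.zpow_mem _ (Subgroup.mem_zpowers x) i))
        (Subgroup.mem_sup_left h1)
  have hnorm : (Subgroup.zpowers (QuotientGroup.mk x : T ⧸ N)).Normal := by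
    constructor
    intro y hy g
    have hyc : y ∈ Subgroup.center (T ⧸ N) := by
      rw [Subgroup.mem_zpowers_iff] at hy
      obtain ⟨i, rfl⟩ := hy
      exact Subgroup.zpow_mem _ hwW.1 i
    have : g * y * g⁻¹ = y := by
      rw [Subgroup.mem_center_iff.mp hyc g, mul_inv_cancel_right]
    rw [this]; exact hy
  refine ⟨x, hxN, ?_, ?_⟩
  · rw [hEq]
    exact hnorm.comap _
  · intro a ha y hy
    rw [hEq, Subgroup.mem_comap] at hy ⊢
    rw [Subgroup.mem_zpowers_iff] at hy
    obtain ⟨i, hi⟩ := hy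
    obtain ⟨k, hk⟩ := hwA _ ⟨a, ha, rfl⟩
    have h1 : (QuotientGroup.mk' N) (a y) = QuotientGroup.congr N N a (hmap a ha) (QuotientGroup.mk y) := rfl
    have h2 : (QuotientGroup.mk y : T ⧸ N) = (QuotientGroup.mk x) ^ i := hi.symm
    rw [h1, h2, map_zpow, hk]
    exact Subgroup.zpow_mem _ (Subgroup.pow_mem _ (Subgroup.mem_zpowers _) k) i

/-- An invariant chain with cyclic steps from a normal invariant subgroup `N` up to `⊤`. -/
theorem exists_chain (hT : IsPGroup p T) (A : Set (T ≃* T))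
    (hc : ∀ a ∈ A, ∀ b ∈ A, ∀ x, a (b x) = b (a x)) (hpow : ∀ a ∈ A, ∀ x, (⇑a)^[p - 1] x = x)
    (N : Subgroup T) (hNn : N.Normal) (hNinv : ∀ a ∈ A, ∀ x ∈ N, a x ∈ N) :
    ∃ (m : ℕ) (c : Fin (m + 1) → Subgroup T), c 0 = N ∧ c (Fin.last m) = ⊤ ∧
      (∀ i, (c i).Normal ∧ ∀ a ∈ A, ∀ y ∈ c i, a y ∈ c i) ∧
      ∀ i : Fin m, c i.castSucc ≤ c i.succ ∧ ∃ x : T, c i.succ = c i.castSucc ⊔ Subgroup.zpowers x := by
  induction h : Nat.card T - Nat.card N using Nat.strong_induction_on generalizing N with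
  | _ n ih =>
    by_cases hN : N = ⊤
    · refine ⟨0, fun _ => N, rfl, hN, fun _ => ⟨hNn, hNinv⟩, fun i => i.elim0⟩
    · haveI := hNn
      obtain ⟨x, hxN, hnorm, hinv⟩ := exists_step hT A hc hpow N hN hNinv
      have hlt : N < N ⊔ Subgroup.zpowers x := by
        refine lt_of_le_of_ne le_sup_left (fun heq => hxN ?_)
        rw [heq]
        exact Subgroup.mem_sup_right (Subgroup.mem_zpowers x)
      have hcard : Nat.card N < Nat.card ↥(N ⊔ Subgroup.zpowers x) := by
        exact Set.ncard_lt_ncard (s := (N : Set T)) (t := ((N ⊔ Subgroup.zpowers x : Subgroup T) : Set T))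
          (by exact_mod_cast hlt) (Set.toFinite _)
      have hle : Nat.card ↥(N ⊔ Subgroup.zpowers x) ≤ Nat.card T := Subgroup.card_le_card_group _
      obtain ⟨m, c, hc0, hcl, hci, hcs⟩ := ih (Nat.card T - Nat.card ↥(N ⊔ Subgroup.zpowers x))
        (by omega) (N ⊔ Subgroup.zpowers x) hnorm hinv rfl
      refine ⟨m + 1, Fin.cons N c, ?_, ?_, ?_, ?_⟩
      · rfl
      · rw [← Fin.succ_last, Fin.cons_succ]; exact hcl
      · intro i
        refine Fin.cases ?_ (fun j => ?_) i
        · exact ⟨hNn, hNinv⟩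
        · rw [Fin.cons_succ]; exact hci j
      · intro i
        refine Fin.cases ?_ (fun j => ?_) i
        · rw [Fin.castSucc_zero, Fin.cons_zero, Fin.cons_succ, hc0]
          exact ⟨le_sup_left, x, rfl⟩
        · rw [← Fin.succ_castSucc, Fin.cons_succ, Fin.cons_succ]
          exact hcs j

end Chain

end Cfsg.Agent.Lib.Helper27.SS
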