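import Mathlib
import Cfsg.Prelude.Def_FusionSystem
import Cfsg.Agent.Lib.Helper27.SupersolEig
import Cfsg.Agent.Lib.Helper27.SupersolChain
import Cfsg.Agent.Lib.Helper27.FusionSemidirectGen
import Cfsg.Agent.Lib.Helper27.FusionAbelian
import Cfsg.Agent.Lib.Helper27.FusionNormal

set_option autoImplicit false

/-! Supersoluble type: a finite `p`-group `S` all of whose saturated fusion systems have a strongly
closed chain with cyclic steps is resistant with `p'`-subgroups of `Aut(S)` abelian of exponent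
dividing `p - 1`, and conversely. -/

namespace Cfsg.Agent.Lib.Helper27

open Cfsg Cfsg.FusionSystem

variable {Ω : Type*} [Group Ω] {S : Subgroup Ω}

theorem finite_mulAut (T : Type*) [Group T] [Finite T] : Finite (MulAut T) :=
  Finite.of_injective (fun e : MulAut T => (e : T → T)) (fun _ _ h => MulEquiv.ext (fun x => congrFun h x))

/-- From the `Fin`-indexed chain of the statement to `ChainData`. -/
theorem chainData_of_fin {F : FusionSystem S} {m : ℕ} {c : Fin (m + 1) → Subgroup Ω}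
    (hc0 : c 0 = ⊥) (hcm : c (Fin.last m) = S) (hsc : ∀ i, F.StronglyClosed (c i))
    (hstep : ∀ i : Fin m, c i.castSucc ≤ c i.succ ∧
      ∃ x ∈ S, c i.succ = c i.castSucc ⊔ Subgroup.zpowers x) :
    ∃ c' : ℕ → Subgroup Ω, ChainData F c' m ∧ c' 0 = ⊥ ∧ c' m = S := by
  refine ⟨fun j => if h : j ≤ m then c ⟨j, Nat.lt_succ_of_le h⟩ else S, ⟨?_, ?_⟩, ?_, ?_⟩
  · intro j
    by_cases h : j ≤ m
    · simp only [h, dite_true]; exact hsc _
    · simp only [h, dite_false]
      exact ⟨le_rfl, fun R _ φ hφ x => (F.le_of_mem hφ).2 x⟩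
  · intro j hj
    have h1 : j ≤ m := hj.le
    have h2 : j + 1 ≤ m := hj
    simp only [h1, h2, dite_true]
    exact hstep ⟨j, hj⟩
  · simp only [Nat.zero_le, dite_true]
    exact hc0
  · simp only [le_refl, dite_true]
    exact hcm

theorem autInducedBy_top_normal (S : Subgroup Ω) : (autInducedBy S S).Normal := by
  constructor
  intro α hα β
  rw [mem_autInducedBy_iff] at hα ⊢
  obtain ⟨g, hg, h⟩ := hα
  refine ⟨((β ⟨g, hg⟩ : S) : Ω), (β ⟨g, hg⟩).2, fun x => ?_⟩
  have h1 : α (β⁻¹ x) = ⟨g, hg⟩ * β⁻¹ x * (⟨g, hg⟩ : S)⁻¹ := Subtype.ext (by rw [h]; simp)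
  show (((β * α * β⁻¹) x : S) : Ω) = _
  rw [MulAut.mul_apply, MulAut.mul_apply, h1, map_mul, map_mul, map_inv, MulAut.apply_inv_self]
  simp

variable [Finite S] {p : ℕ} [Fact p.Prime]

/-- If every saturated fusion system over `S` has a strongly closed chain with cyclic steps, then the
`p'`-subgroups of `Aut(S)` are abelian of exponent dividing `p - 1`. -/
theorem comm_exp_of_chains (hS : IsPGroup p S)
    (hall : ∀ F : FusionSystem S, F.IsSaturated p →
      ∃ (m : ℕ) (c : ℕ → Subgroup Ω), ChainData F c m ∧ c 0 = ⊥ ∧ c m = S)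
    (H : Subgroup (MulAut S)) (hH : (Nat.card H).Coprime p) :
    IsMulCommutative H ∧ ∀ h ∈ H, h ^ (p - 1) = 1 := by
  haveI := finite_mulAut S
  obtain ⟨m, c, hcd, hc0, hcm⟩ := hall (semidirectSysGen S H) (semidirectSysGen_saturated hS hH)
  have hb0 : (fun j => c j ⊓ S) 0 = ⊥ := by
    show c 0 ⊓ S = ⊥
    rw [hc0, bot_inf_eq]
  have hbm : S ≤ (fun j => c j ⊓ S) m := by
    show S ≤ c m ⊓ S
    rw [hcm]; exact le_inf le_rfl le_rfl
  have hKp := chainStabilizer_isPGroup hS (semidirectSysGen S H) le_rfl (fun j => c j ⊓ S) m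
    (chain_inv hcd le_rfl) hb0 hbm
  have key : ∀ k : (semidirectSysGen S H).autGroup S,
      k ∈ chainStabilizer (semidirectSysGen S H) S (fun j => c j ⊓ S) m (chain_inv hcd le_rfl) →
      (k : MulAut S) ∈ H → (k : MulAut S) = 1 := by
    intro k hk hkH
    obtain ⟨e, he⟩ := hKp ⟨k, hk⟩
    have h1 : (k : MulAut S) ^ (p ^ e) = 1 := by
      have := congrArg (fun z : chainStabilizer (semidirectSysGen S H) S (fun j => c j ⊓ S) m
        (chain_inv hcd le_rfl) => ((z : (semidirectSysGen S H).autGroup S) : MulAut S)) he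
      simpa using this
    have h2 : (k : MulAut S) ^ (Nat.card H) = 1 := by
      have h2a : (⟨(k : MulAut S), hkH⟩ : H) ^ (Nat.card H) = 1 := pow_card_eq_one'
      have h2b : ((⟨(k : MulAut S), hkH⟩ : H) ^ (Nat.card H) : H).1 = (1 : H).1 := congrArg Subtype.val h2a
      exact h2b
    have h3 : (k : MulAut S) ^ ((p ^ e).gcd (Nat.card H)) = 1 := pow_gcd_eq_one.mpr ⟨h1, h2⟩
    have h4 : (p ^ e).gcd (Nat.card H) = 1 := Nat.Coprime.pow_left e hH.symm
    rw [h4, pow_one] at h3
    exact h3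
  constructor
  · refine ⟨⟨fun a b => Subtype.ext ?_⟩⟩
    have ha := mem_autGroup_semidirectSysGen H a.2
    have hb := mem_autGroup_semidirectSysGen H b.2
    have h1 := commutator_mem_chainStabilizer hcd le_rfl ⟨a, ha⟩ ⟨b, hb⟩
    have h2 := key _ h1 (by
      show (a : MulAut S) * b * (a : MulAut S)⁻¹ * (b : MulAut S)⁻¹ ∈ H
      exact H.mul_mem (H.mul_mem (H.mul_mem a.2 b.2) (H.inv_mem a.2)) (H.inv_mem b.2))
    have h3 : (a : MulAut S) * b * (a : MulAut S)⁻¹ * (b : MulAut S)⁻¹ = 1 := h2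
    show (a : MulAut S) * b = b * a
    have h4 : (a : MulAut S) * b = ((a : MulAut S) * b * (a : MulAut S)⁻¹ * (b : MulAut S)⁻¹) * (b * a) := by
      group
    rw [h4, h3, one_mul]
  · intro h hh
    have hA := mem_autGroup_semidirectSysGen H hh
    have hn0 : 0 < orderOf h := orderOf_pos h
    have hdvd : orderOf h ∣ Nat.card H := by
      have : orderOf (⟨h, hh⟩ : H) ∣ Nat.card H := orderOf_dvd_natCard _
      rwa [Subgroup.orderOf_mk] at this
    have hn : (orderOf h).Coprime p := Nat.Coprime.coprime_dvd_left hdvd hH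
    have hαn : (⟨h, hA⟩ : (semidirectSysGen S H).autGroup S) ^ (orderOf h) = 1 := by
      apply Subtype.ext
      show h ^ orderOf h = 1
      exact pow_orderOf_eq_one h
    have h1 := pow_pred_mem_chainStabilizer hS hcd le_rfl ⟨h, hA⟩ hn0 hn hαn
    have h2 := key _ h1 (by
      show h ^ (p - 1) ∈ H
      exact H.pow_mem hh _)
    exact h2

/-- If `S` is normal in the saturated system `F` and the `p'`-subgroups of `Aut(S)` are abelian of
exponent dividing `p - 1`, then `F` has a strongly closed chain with cyclic steps. -/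
theorem chain_of_resistant (hS : IsPGroup p S)
    (hH : ∀ H : Subgroup (MulAut S), (Nat.card H).Coprime p →
      IsMulCommutative H ∧ ∀ h ∈ H, h ^ (p - 1) = 1)
    (F : FusionSystem S) (hF : F.IsSaturated p) (hN : F.IsNormal S) :
    ∃ (m : ℕ) (c : Fin (m + 1) → Subgroup Ω), c 0 = ⊥ ∧ c (Fin.last m) = S ∧
      (∀ i : Fin (m + 1), F.StronglyClosed (c i)) ∧
      ∀ i : Fin m, c i.castSucc ≤ c i.succ ∧
        ∃ x ∈ S, c i.succ = c i.castSucc ⊔ Subgroup.zpowers x := by
  have hp : p.Prime := Fact.out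
  haveI := finite_mulAut S
  obtain ⟨-, R, hR⟩ := top_isFullyAutomized hF
  haveI hRn : (R : Subgroup (F.autGroup S)).Normal := by
    rw [hR]
    exact (autInducedBy_top_normal S).subgroupOf _
  have hcop : (Nat.card (R : Subgroup (F.autGroup S))).Coprime (R : Subgroup (F.autGroup S)).index :=
    R.card_coprime_index
  obtain ⟨H₀, hH₀⟩ := Subgroup.exists_right_complement'_of_coprime hcop
  obtain ⟨H, hHdef⟩ : ∃ H : Subgroup (MulAut S), H = H₀.map (F.autGroup S).subtype := ⟨_, rfl⟩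
  have hcardH : Nat.card H = (R : Subgroup (F.autGroup S)).index := by
    rw [hHdef, Subgroup.card_map_of_injective (Subgroup.subtype_injective _)]
    exact (hH₀.symm.index_eq_card).symm
  have hcopH : (Nat.card H).Coprime p := by
    rw [hcardH]
    exact ((Nat.Prime.coprime_iff_not_dvd hp).mpr R.not_dvd_index).symm
  obtain ⟨hcommH, hexpH⟩ := hH H hcopH
  -- decomposition of the automorphisms of the system
  have hdecomp : ∀ α : F.autGroup S, ∃ s ∈ S, ∃ h ∈ H, ∀ y : S,
      ((((α : MulAut S) y : S)) : Ω) = s * ((h y : S) : Ω) * s⁻¹ := by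
    intro α
    obtain ⟨⟨n, h⟩, hnh⟩ := hH₀.2 α
    have hn : (n : F.autGroup S) ∈ (autInducedBy S S).subgroupOf (F.autGroup S) := by
      rw [← hR]; exact n.2
    rw [Subgroup.mem_subgroupOf, mem_autInducedBy_iff] at hn
    obtain ⟨s, hs, hsn⟩ := hn
    refine ⟨s, hs, ((h : F.autGroup S) : MulAut S), ?_, fun y => ?_⟩
    · rw [hHdef]; exact ⟨h, h.2, rfl⟩
    · have h1 : (α : MulAut S) = ((n : F.autGroup S) : MulAut S) * ((h : F.autGroup S) : MulAut S) := by
        have := congrArg (fun z : F.autGroup S => (z : MulAut S)) hnh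
        simpa using this.symm
      rw [h1, MulAut.mul_apply, hsn]
  -- the abstract chain
  have hcA : ∀ a ∈ (H : Set (S ≃* S)), ∀ b ∈ (H : Set (S ≃* S)), ∀ x, a (b x) = b (a x) := by
    intro a ha b hb x
    have h1 := hcommH.is_comm.comm (⟨a, ha⟩ : H) ⟨b, hb⟩
    have h2 : (a : MulAut S) * b = b * a := congrArg (fun z : H => (z : MulAut S)) h1
    have h3 := congrArg (fun z : MulAut S => z x) h2
    simpa [MulAut.mul_apply] using h3
  have hpowA : ∀ a ∈ (H : Set (S ≃* S)), ∀ x, (⇑a)^[p - 1] x = x := by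
    intro a ha x
    have h1 := hexpH a ha
    have hiter : ∀ n : ℕ, ∀ y, ((a : MulAut S) ^ n) y = (⇑a)^[n] y := by
      intro n
      induction n with
      | zero => intro y; rfl
      | succ n ih =>
        intro y
        rw [pow_succ', MulAut.mul_apply, ih, Function.iterate_succ_apply']
    rw [← hiter, h1]
    rfl
  obtain ⟨m, c, hc0, hcl, hci, hcs⟩ := SS.exists_chain hS (H : Set (S ≃* S)) hcA hpowA ⊥
    inferInstance (by
      intro a _ x hx
      rw [Subgroup.mem_bot] at hx ⊢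
      rw [hx, map_one])
  refine ⟨m, fun i => (c i).map S.subtype, ?_, ?_, ?_, ?_⟩
  · show (c 0).map S.subtype = ⊥
    rw [hc0, Subgroup.map_bot]
  · show (c (Fin.last m)).map S.subtype = S
    rw [hcl, ← MonoidHom.range_eq_map, Subgroup.range_subtype]
  · intro i
    refine ⟨Subgroup.map_subtype_le _, fun R hR φ hφ x => ?_⟩
    obtain ⟨ψ, hψ, hψφ, α, hα, hαψ⟩ := normal_exists_extension hN hφ
    have hxS : (x : Ω) ∈ S := Subgroup.map_subtype_le _ (hR x.2)
    have h1 : φ x = ((α ⟨x, hxS⟩ : S) : Ω) := by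
      rw [hαψ ⟨x, hxS⟩, ← hψφ x]
      rfl
    rw [h1]
    have hαA : (α : MulAut S) ∈ F.autGroup S := (mem_autGroup_iff F le_rfl α).mpr hα
    obtain ⟨s, hs, h, hh, hdec⟩ := hdecomp ⟨α, hαA⟩
    have h5 : ((α ⟨x, hxS⟩ : S) : Ω) = s * ((h ⟨x, hxS⟩ : S) : Ω) * s⁻¹ := hdec ⟨x, hxS⟩
    rw [h5]
    obtain ⟨y, hy, hyx⟩ := hR x.2
    have hxy : (⟨x, hxS⟩ : S) = y := Subtype.ext hyx.symm
    rw [hxy]
    have h2 : h y ∈ c i := (hci i).2 h hh y hy
    have h3 : (⟨s, hs⟩ : S) * h y * (⟨s, hs⟩ : S)⁻¹ ∈ c i := (hci i).1.conj_mem _ h2 _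
    exact ⟨_, h3, by simp⟩
  · intro i
    obtain ⟨hle, x, hx⟩ := hcs i
    refine ⟨Subgroup.map_mono hle, (x : Ω), x.2, ?_⟩
    show (c i.succ).map S.subtype = (c i.castSucc).map S.subtype ⊔ Subgroup.zpowers (x : Ω)
    rw [hx, Subgroup.map_sup, MonoidHom.map_zpowers]
    rfl

end Cfsg.Agent.Lib.Helper27
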