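import Mathlib

set_option autoImplicit false

/-!
# A Chevalley-Warning principle by finite differences on finite 2-groups (helper27)

For a group `G` and `f : G → ZMod 2` put `(diff a f) v = f (v * a) + f v`.  `DegLT d f` says that
all `d`-fold differences of `f` vanish ("degree `< d`").  Products add degrees, and a function of
degree `< d` on a group of order `2 ^ m` with `d ≤ m` has sum `0`.
-/

namespace Cfsg.Agent.Lib.Helper27.SuzCW

universe u

section Calc

variable {G : Type*} [Group G]

/-- right finite difference -/
def diff (a : G) (f : G → ZMod 2) : G → ZMod 2 := fun v => f (v * a) + f v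

/-- "degree `< d`": all `d`-fold finite differences vanish -/
def DegLT : ℕ → (G → ZMod 2) → Prop
  | 0, f => ∀ v, f v = 0
  | (d + 1), f => ∀ a, DegLT d (diff a f)

lemma degLT_zero_iff (f : G → ZMod 2) : DegLT 0 f ↔ ∀ v, f v = 0 := Iff.rfl

lemma degLT_succ_iff (d : ℕ) (f : G → ZMod 2) : DegLT (d + 1) f ↔ ∀ a, DegLT d (diff a f) :=
  Iff.rfl

lemma zmod2_add_self (c : ZMod 2) : c + c = 0 := by
  revert c; decide

lemma degLT_zero_fun (d : ℕ) : DegLT d (fun _ : G => (0 : ZMod 2)) := by
  induction d with
  | zero => intro v; rfl
  | succ d ih =>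
    intro a
    have h : diff a (fun _ : G => (0 : ZMod 2)) = fun _ => 0 := by
      funext v
      simp [diff]
    rw [h]
    exact ih

lemma DegLT.congr {d : ℕ} {f g : G → ZMod 2} (h : ∀ v, f v = g v) (hf : DegLT d f) :
    DegLT d g := by
  have h' : f = g := funext h
  rwa [← h']

lemma DegLT.of_zero {f : G → ZMod 2} (h : DegLT 0 f) (d : ℕ) : DegLT d f := by
  have h' : f = fun _ => 0 := funext h
  rw [h']
  exact degLT_zero_fun d

lemma DegLT.succ {d : ℕ} {f : G → ZMod 2} (h : DegLT d f) : DegLT (d + 1) f := by
  induction d generalizing f with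
  | zero => exact h.of_zero _
  | succ d ih =>
    intro a
    exact ih (h a)

lemma DegLT.mono {d e : ℕ} {f : G → ZMod 2} (hde : d ≤ e) (h : DegLT d f) : DegLT e f := by
  induction hde with
  | refl => exact h
  | step _ ih => exact ih.succ

lemma DegLT.add {d : ℕ} {f g : G → ZMod 2} (hf : DegLT d f) (hg : DegLT d g) :
    DegLT d (fun v => f v + g v) := by
  induction d generalizing f g with
  | zero =>
    intro v
    show f v + g v = 0
    rw [hf v, hg v, add_zero]
  | succ d ih =>
    intro a
    have h : diff a (fun v => f v + g v) = fun v => diff a f v + diff a g v := by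
      funext v
      simp only [diff]
      ring
    rw [h]
    exact ih (hf a) (hg a)

lemma DegLT.translate {d : ℕ} {f : G → ZMod 2} (hf : DegLT d f) (a : G) :
    DegLT d (fun v => f (v * a)) := by
  induction d generalizing f with
  | zero =>
    intro v
    exact hf _
  | succ d ih =>
    intro c
    have h : diff c (fun v => f (v * a)) = fun v => diff (a⁻¹ * c * a) f (v * a) := by
      funext v
      simp only [diff]
      congr 2
      group
    rw [h]
    exact ih (hf _)

lemma degLT_const (c : ZMod 2) : DegLT 1 (fun _ : G => c) := by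
  intro a v
  show c + c = 0
  exact zmod2_add_self c

lemma DegLT.mul_aux : ∀ (n d e : ℕ) (f g : G → ZMod 2), d + e ≤ n + 1 → DegLT d f → DegLT e g →
    DegLT n (fun v => f v * g v) := by
  intro n
  induction n with
  | zero =>
    intro d e f g hde hf hg v
    show f v * g v = 0
    have h : d = 0 ∨ e = 0 := by omega
    rcases h with rfl | rfl
    · rw [hf v, zero_mul]
    · rw [hg v, mul_zero]
  | succ n ih =>
    intro d e f g hde hf hg
    rcases Nat.eq_zero_or_pos d with rfl | hd
    · have h : (fun v => f v * g v) = fun _ => 0 := by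
        funext v
        rw [hf v, zero_mul]
      rw [h]
      exact degLT_zero_fun _
    rcases Nat.eq_zero_or_pos e with rfl | he
    · have h : (fun v => f v * g v) = fun _ => 0 := by
        funext v
        rw [hg v, mul_zero]
      rw [h]
      exact degLT_zero_fun _
    obtain ⟨d', rfl⟩ : ∃ d', d = d' + 1 := ⟨d - 1, by omega⟩
    obtain ⟨e', rfl⟩ : ∃ e', e = e' + 1 := ⟨e - 1, by omega⟩
    intro a
    have h : diff a (fun v => f v * g v)
        = fun v => diff a f v * (fun w => g (w * a)) v + f v * diff a g v := by
      funext v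
      simp only [diff]
      have h2 := zmod2_add_self (f v * g (v * a))
      linear_combination (-1 : ZMod 2) * h2
    rw [h]
    apply DegLT.add
    · exact ih d' (e' + 1) _ _ (by omega) (hf a) (hg.translate a)
    · exact ih (d' + 1) e' _ _ (by omega) hf (hg a)

lemma DegLT.mul {d e : ℕ} {f g : G → ZMod 2} (hf : DegLT d f) (hg : DegLT e g) :
    DegLT (d + e - 1) (fun v => f v * g v) := by
  rcases Nat.eq_zero_or_pos (d + e) with h0 | hpos
  · have hd : d = 0 := by omega
    subst hd
    have h : (fun v => f v * g v) = fun _ => 0 := by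
      funext v
      rw [hf v, zero_mul]
    rw [h]
    exact degLT_zero_fun _
  · exact DegLT.mul_aux (d + e - 1) d e f g (by omega) hf hg

lemma degLT_prod {ι : Type*} (s : Finset ι) (f : ι → G → ZMod 2)
    (h : ∀ i ∈ s, DegLT 3 (f i)) : DegLT (2 * s.card + 1) (fun v => ∏ i ∈ s, f i v) := by
  classical
  induction s using Finset.induction_on with
  | empty =>
    simp only [Finset.prod_empty, Finset.card_empty, mul_zero, zero_add]
    exact degLT_const 1
  | insert a s ha ih =>
    have h1 : DegLT 3 (f a) := h a (Finset.mem_insert_self a s)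
    have h2 := ih (fun i hi => h i (Finset.mem_insert_of_mem hi))
    have h3 := DegLT.mul_aux (2 * (insert a s).card + 1) 3 (2 * s.card + 1) _ _ (by
      rw [Finset.card_insert_of_notMem ha]; omega) h1 h2
    refine h3.congr ?_
    intro v
    rw [Finset.prod_insert ha]

lemma DegLT.of_comp {H : Type*} [Group H] (π : G →* H) (hπ : Function.Surjective π) {d : ℕ}
    {g : H → ZMod 2} (h : DegLT d (fun v => g (π v))) : DegLT d g := by
  induction d generalizing g with
  | zero =>
    intro w
    obtain ⟨v, rfl⟩ := hπ w
    exact h v
  | succ d ih =>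
    intro b
    obtain ⟨a, rfl⟩ := hπ b
    apply ih
    refine (h a).congr ?_
    intro v
    simp only [diff, map_mul]

lemma DegLT.restrict {d : ℕ} {f : G → ZMod 2} (hf : DegLT d f) (H : Subgroup G) :
    DegLT d (fun v : H => f (v : G)) := by
  induction d generalizing f with
  | zero =>
    intro v
    exact hf _
  | succ d ih =>
    intro a
    refine (ih (hf (a : G))).congr ?_
    intro v
    simp only [diff, Subgroup.coe_mul]

end Calc

/-- A function of degree `< d` on a group of order `2 ^ m`, `d ≤ m`, sums to zero. -/
theorem sum_eq_zero_of_degLT : ∀ (d m : ℕ) (G : Type u) [Group G] [Fintype G],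
    Fintype.card G = 2 ^ m → ∀ f : G → ZMod 2, DegLT d f → d ≤ m → ∑ v, f v = 0 := by
  intro d
  induction d with
  | zero =>
    intro m G _ _ _ f hf _
    apply Finset.sum_eq_zero
    intro v _
    exact hf v
  | succ d ih =>
    intro m G _ _ hcard f hf hdm
    classical
    obtain ⟨m', rfl⟩ : ∃ m', m = m' + 1 := ⟨m - 1, by omega⟩
    have : Fact (Nat.Prime 2) := ⟨Nat.prime_two⟩
    have hdvd : 2 ^ m' ∣ Nat.card G := by
      rw [Nat.card_eq_fintype_card, hcard]
      exact pow_dvd_pow 2 (Nat.le_succ m')
    obtain ⟨H, hH⟩ := Sylow.exists_subgroup_card_pow_prime 2 hdvd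
    have hidx : H.index = 2 := by
      have h1 := H.card_mul_index
      rw [hH, Nat.card_eq_fintype_card, hcard, pow_succ] at h1
      exact Nat.eq_of_mul_eq_mul_left (by positivity) h1
    obtain ⟨a, ha⟩ : ∃ a : G, a ∉ H := by
      by_contra hcon
      push Not at hcon
      have : H = ⊤ := (Subgroup.eq_top_iff' H).mpr hcon
      rw [this, Subgroup.index_top] at hidx
      omega
    have hHcard : Fintype.card H = 2 ^ m' := by
      rw [← Nat.card_eq_fintype_card, hH]
    have hIH := ih m' H hHcard (fun v : H => diff a f (v : G)) ((hf a).restrict H) (by omega)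
    rw [← hIH]
    rw [← Finset.sum_filter_add_sum_filter_not Finset.univ (fun g => g ∈ H) f]
    have h1 : ∑ x ∈ Finset.univ.filter (fun g => g ∈ H), f x = ∑ v : H, f (v : G) := by
      rw [Finset.sum_subtype (Finset.univ.filter (fun g => g ∈ H)) (p := fun g => g ∈ H)]
      intro x
      simp
    have h2 : ∑ x ∈ Finset.univ.filter (fun g => ¬ g ∈ H), f x = ∑ v : H, f ((v : G) * a) := by
      symm
      apply Finset.sum_bij (fun (v : H) _ => (v : G) * a)
      · intro v _
        simp only [Finset.mem_filter, Finset.mem_univ, true_and]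
        rw [Subgroup.mul_mem_iff_of_index_two hidx]
        intro hiff
        exact ha (hiff.mp v.2)
      · intro v _ w _ hvw
        exact Subtype.ext (mul_right_cancel hvw)
      · intro g hg
        simp only [Finset.mem_filter, Finset.mem_univ, true_and] at hg
        have hga : g * a⁻¹ ∈ H := by
          rw [Subgroup.mul_mem_iff_of_index_two hidx]
          constructor
          · intro h; exact absurd h hg
          · intro h; exact absurd (H.inv_mem_iff.mp h) ha
        exact ⟨⟨g * a⁻¹, hga⟩, Finset.mem_univ _, by simp⟩
      · intro v _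
        rfl
    rw [h1, h2, ← Finset.sum_add_distrib]
    apply Finset.sum_congr rfl
    intro v _
    simp only [diff]
    ring

end Cfsg.Agent.Lib.Helper27.SuzCW
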