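import Mathlib
import Cfsg.Prelude.Def_LieRecognition
import Cfsg.Agent.S1137
import Cfsg.Agent.Lib.Helper3.SuzA5
import Cfsg.Agent.Lib.Helper27.SuzCW

set_option autoImplicit false

/-!
# Suzuki 2-groups of class 2: order `q²` or `q³`, exponent 4 (helper27)

Given that commutators of a Suzuki 2-group `P` are central, the squaring map induces an anisotropic
quadratic map `P/Z → Z`; Chevalley-Warning (finite difference form, `SuzCW`) gives `|P/Z| ≤ q²`,
and the free action of `K` on `P - 1` gives `q - 1 ∣ |P| - 1`.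
-/

namespace Cfsg.Agent.Lib.Helper27.SuzCard

open Subgroup Cfsg.Agent.Lib.Helper3.SuzA Cfsg.Agent.Lib.Helper27.SuzCW

open scoped IsMulCommutative

/-- coordinates on a finite elementary abelian 2-group -/
lemma exists_coords (Z : Type*) [CommGroup Z] [Finite Z] (hexp : ∀ z : Z, z * z = 1) :
    ∃ (n : ℕ) (φ : Fin n → Z → ZMod 2), Nat.card Z = 2 ^ n ∧
      (∀ i z z', φ i (z * z') = φ i z + φ i z') ∧ (∀ z, (∀ i, φ i z = 0) → z = 1) := by
  classical
  have : Fact (Nat.Prime 2) := ⟨Nat.prime_two⟩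
  let _ : Module (ZMod 2) (Additive Z) := AddCommGroup.zmodModule (n := 2) (by
    intro x
    rw [two_nsmul]
    exact hexp (Additive.toMul x))
  have : Finite (Additive Z) := inferInstanceAs (Finite Z)
  let _ : Fintype (Additive Z) := Fintype.ofFinite _
  let b := Module.finBasis (ZMod 2) (Additive Z)
  refine ⟨Module.finrank (ZMod 2) (Additive Z), fun i z => b.coord i (Additive.ofMul z), ?_, ?_, ?_⟩
  · have h1 := Module.card_eq_pow_finrank (K := ZMod 2) (V := Additive Z)
    rw [ZMod.card] at h1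
    rw [← h1, ← Nat.card_eq_fintype_card]
    rfl
  · intro i z z'
    show b.coord i (Additive.ofMul (z * z')) = b.coord i (Additive.ofMul z) + b.coord i (Additive.ofMul z')
    rw [ofMul_mul, map_add]
  · intro z hz
    have h1 := (b.forall_coord_eq_zero_iff).mp hz
    exact h1

lemma degLT_two_of_hom {G : Type*} [Group G] (g : G → ZMod 2)
    (hg : ∀ x y, g (x * y) = g x + g y) : DegLT 2 g := by
  intro b
  refine (degLT_const (g b)).congr ?_
  intro v
  simp only [diff]
  rw [hg]
  linear_combination (-1 : ZMod 2) * zmod2_add_self (g v)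

section Main

variable {P : Type*} [Group P] {K : Subgroup (MulAut P)}

lemma sq_mem_center (h : SHyp P K) (hc : ∀ x y : P, x⁻¹ * y⁻¹ * x * y ∈ center P) (x : P) :
    x * x ∈ center P := by
  rw [Subgroup.mem_center_iff]
  intro g
  have hcm := hc x g
  have hcc := Subgroup.mem_center_iff.mp hcm
  have hsq := h.zexp _ hcm
  have h1 : x * g = g * x * (x⁻¹ * g⁻¹ * x * g) := by group
  generalize x⁻¹ * g⁻¹ * x * g = c at hcm hcc hsq h1
  calc g * (x * x) = g * x * x * (c * c) := by rw [hsq, mul_one, mul_assoc]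
    _ = g * x * (x * c) * c := by simp only [mul_assoc]
    _ = g * x * (c * x) * c := by rw [hcc x]
    _ = (g * x * c) * x * c := by simp only [mul_assoc]
    _ = x * g * x * c := by rw [← h1]
    _ = x * (g * x * c) := by simp only [mul_assoc]
    _ = x * (x * g) := by rw [← h1]
    _ = x * x * g := by rw [mul_assoc]

/-- the square, as an element of the centre -/
def sq (h : SHyp P K) (hc : ∀ x y : P, x⁻¹ * y⁻¹ * x * y ∈ center P) (x : P) : center P :=
  ⟨x * x, sq_mem_center h hc x⟩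

/-- the commutator, as an element of the centre -/
def cm (hc : ∀ x y : P, x⁻¹ * y⁻¹ * x * y ∈ center P) (x a : P) : center P :=
  ⟨x⁻¹ * a * x * a⁻¹, by have h1 := hc x a⁻¹; rwa [inv_inv] at h1⟩

lemma sq_mul (h : SHyp P K) (hc : ∀ x y : P, x⁻¹ * y⁻¹ * x * y ∈ center P) (x a : P) :
    sq h hc (x * a) = sq h hc x * sq h hc a * cm hc x a := by
  apply Subtype.ext
  show x * a * (x * a) = x * x * (a * a) * (x⁻¹ * a * x * a⁻¹)
  have hcc := Subgroup.mem_center_iff.mp (cm hc x a).2
  have h2 : ((cm hc x a : center P) : P) = x⁻¹ * a * x * a⁻¹ := rfl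
  rw [h2] at hcc
  calc x * a * (x * a) = x * x * ((x⁻¹ * a * x * a⁻¹) * (a * a)) := by group
    _ = x * x * ((a * a) * (x⁻¹ * a * x * a⁻¹)) := by rw [hcc (a * a)]
    _ = x * x * (a * a) * (x⁻¹ * a * x * a⁻¹) := by rw [mul_assoc (x * x)]

lemma cm_mul (hc : ∀ x y : P, x⁻¹ * y⁻¹ * x * y ∈ center P) (x y a : P) :
    cm hc (x * y) a = cm hc x a * cm hc y a := by
  apply Subtype.ext
  show (x * y)⁻¹ * a * (x * y) * a⁻¹ = (x⁻¹ * a * x * a⁻¹) * (y⁻¹ * a * y * a⁻¹)
  have hcc := Subgroup.mem_center_iff.mp (cm hc x a).2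
  have h2 : ((cm hc x a : center P) : P) = x⁻¹ * a * x * a⁻¹ := rfl
  rw [h2] at hcc
  calc (x * y)⁻¹ * a * (x * y) * a⁻¹ = y⁻¹ * (x⁻¹ * a * x * a⁻¹) * (a * y * a⁻¹) := by group
    _ = (x⁻¹ * a * x * a⁻¹) * y⁻¹ * (a * y * a⁻¹) := by rw [hcc y⁻¹]
    _ = (x⁻¹ * a * x * a⁻¹) * (y⁻¹ * a * y * a⁻¹) := by group

lemma degLT_three (h : SHyp P K) (hc : ∀ x y : P, x⁻¹ * y⁻¹ * x * y ∈ center P)
    (φ : center P → ZMod 2) (hφ : ∀ z z', φ (z * z') = φ z + φ z') :
    DegLT 3 (fun x : P => φ (sq h hc x)) := by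
  intro a
  have h1 : DegLT 2 (fun x : P => φ (sq h hc a) + φ (cm hc x a)) := by
    apply DegLT.add
    · exact (degLT_const _).mono (by norm_num)
    · apply degLT_two_of_hom
      intro x y
      rw [cm_mul, hφ]
  refine h1.congr ?_
  intro x
  simp only [diff]
  rw [sq_mul, hφ, hφ]
  linear_combination (-1 : ZMod 2) * zmod2_add_self (φ (sq h hc x))

lemma prod_eq_ite (h : SHyp P K) (hc : ∀ x y : P, x⁻¹ * y⁻¹ * x * y ∈ center P)
    {n : ℕ} (φ : Fin n → center P → ZMod 2) (hφ : ∀ i z z', φ i (z * z') = φ i z + φ i z')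
    (hφ0 : ∀ z, (∀ i, φ i z = 0) → z = 1) (x : P) [Decidable (x ∈ center P)] :
    ∏ i, (1 + φ i (sq h hc x)) = if x ∈ center P then 1 else 0 := by
  have hone : ∀ i, φ i 1 = 0 := by
    intro i
    have h1 := hφ i 1 1
    rw [one_mul] at h1
    exact left_eq_add.mp h1
  by_cases hx : x ∈ center P
  · rw [if_pos hx]
    have h1 : sq h hc x = 1 := Subtype.ext (h.zexp x hx)
    apply Finset.prod_eq_one
    intro i _
    rw [h1, hone, add_zero]
  · rw [if_neg hx]
    have h1 : sq h hc x ≠ 1 := by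
      intro h1
      have h2 : x * x = 1 := congrArg Subtype.val h1
      by_cases hx1 : x = 1
      · exact hx (hx1 ▸ (center P).one_mem)
      · exact hx ((h.inv_iff x).mp ⟨hx1, h2⟩).1
    have h2 : ∃ i, φ i (sq h hc x) ≠ 0 := by
      by_contra hcon
      push Not at hcon
      exact h1 (hφ0 _ hcon)
    obtain ⟨i, hi⟩ := h2
    apply Finset.prod_eq_zero (Finset.mem_univ i)
    have h3 : ∀ c : ZMod 2, c ≠ 0 → 1 + c = 0 := by decide
    exact h3 _ hi

/-- **Chevalley-Warning bound**: `|P/Z| ≤ |Z|²`. -/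
theorem card_quot_le [Finite P] (h : SHyp P K)
    (hc : ∀ x y : P, x⁻¹ * y⁻¹ * x * y ∈ center P) {n m : ℕ}
    (hZ : Nat.card (center P) = 2 ^ n) (hV : Nat.card (P ⧸ center P) = 2 ^ m) : m ≤ 2 * n := by
  classical
  obtain ⟨n', φ, hn', hφ, hφ0⟩ := exists_coords (center P) (fun z => Subtype.ext (h.zexp z z.2))
  have hnn : n' = n := by
    rw [hZ] at hn'
    exact (Nat.pow_right_injective (le_refl 2) hn').symm
  subst hnn
  by_contra hcon
  push Not at hcon
  let g : P ⧸ center P → ZMod 2 := fun v => if v = 1 then 1 else 0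
  have h1 : DegLT (2 * n' + 1) (fun x : P => ∏ i, (1 + φ i (sq h hc x))) := by
    have h2 := degLT_prod (G := P) Finset.univ (fun i x => 1 + φ i (sq h hc x)) (by
      intro i _
      apply DegLT.add
      · exact (degLT_const _).mono (by norm_num)
      · exact degLT_three h hc (φ i) (hφ i))
    rw [Finset.card_univ, Fintype.card_fin] at h2
    exact h2
  have hg : DegLT (2 * n' + 1) g := by
    apply DegLT.of_comp (QuotientGroup.mk' (center P)) (QuotientGroup.mk'_surjective _)
    refine h1.congr ?_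
    intro x
    rw [prod_eq_ite h hc φ hφ hφ0 x]
    show (if x ∈ center P then (1 : ZMod 2) else 0) = if (QuotientGroup.mk x : P ⧸ center P) = 1
      then 1 else 0
    by_cases hx : x ∈ center P
    · rw [if_pos hx, if_pos ((QuotientGroup.eq_one_iff x).mpr hx)]
    · rw [if_neg hx, if_neg (fun hh => hx ((QuotientGroup.eq_one_iff x).mp hh))]
  let _ : Fintype (P ⧸ center P) := Fintype.ofFinite _
  have hcard : Fintype.card (P ⧸ center P) = 2 ^ m := by
    rw [← Nat.card_eq_fintype_card, hV]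
  have h3 := sum_eq_zero_of_degLT (2 * n' + 1) m (P ⧸ center P) hcard g hg (by omega)
  have h4 : ∑ v : P ⧸ center P, g v = 1 := by
    show ∑ v : P ⧸ center P, (if v = 1 then (1 : ZMod 2) else 0) = 1
    rw [Finset.sum_ite_eq' Finset.univ (1 : P ⧸ center P) (fun _ => (1 : ZMod 2))]
    simp
  rw [h4] at h3
  exact one_ne_zero h3

/-- `K` acts freely on `P - 1`. -/
theorem card_K_dvd [Finite P] (h : SHyp P K) : Nat.card K ∣ Nat.card P - 1 := by
  classical
  let X := ↥((Set.univ : Set P) \ {1})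
  let _ : MulAction K X :=
    { smul := fun k x => ⟨(k : MulAut P) x.1, Set.mem_univ _, fun hx => x.2.2 (by
        have h1 : (k : MulAut P) x.1 = 1 := hx
        exact (EmbeddingLike.map_eq_one_iff (f := (k : MulAut P))).mp h1)⟩
      one_smul := fun x => Subtype.ext rfl
      mul_smul := fun k k' x => Subtype.ext rfl }
  have hstab : ∀ x : X, MulAction.stabilizer K x = ⊥ := by
    intro x
    rw [eq_bot_iff]
    intro k hk
    rw [Subgroup.mem_bot]
    by_contra hk1
    have h1 : k • x = x := hk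
    have h2 : (k : MulAut P) x.1 = x.1 := congrArg Subtype.val h1
    exact x.2.2 (h.fpf k hk1 x.1 h2)
  have e := MulAction.selfEquivOrbitsQuotientProd hstab
  have h1 : Nat.card X = Nat.card (Quotient (MulAction.orbitRel K X)) * Nat.card K := by
    rw [Nat.card_congr e, Nat.card_prod]
  have h2 : Nat.card X = Nat.card P - 1 := by
    show Nat.card ↥((Set.univ : Set P) \ {1}) = _
    rw [Nat.card_coe_set_eq, Set.ncard_sdiff_singleton_of_mem (Set.mem_univ _), Set.ncard_univ]
  rw [← h2, h1]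
  exact dvd_mul_left _ _

theorem card_K [Finite P] (h : SHyp P K) (x0 : P) (hx0 : x0 ≠ 1) (hx0sq : x0 * x0 = 1) :
    Nat.card K = Nat.card (center P) - 1 := by
  classical
  have hx0Z : x0 ∈ center P := ((h.inv_iff x0).mp ⟨hx0, hx0sq⟩).1
  have h2 : Nat.card ↥(((center P : Subgroup P) : Set P) \ {1}) = Nat.card (center P) - 1 := by
    rw [Nat.card_coe_set_eq, Set.ncard_sdiff_singleton_of_mem (center P).one_mem]
    rfl
  rw [← h2]
  let f : K → ↥(((center P : Subgroup P) : Set P) \ {1}) := fun k =>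
    ⟨(k : MulAut P) x0, aut_mem_center _ hx0Z, fun hx => hx0 (by
      have h1 : (k : MulAut P) x0 = 1 := hx
      exact (EmbeddingLike.map_eq_one_iff (f := (k : MulAut P))).mp h1)⟩
  apply Nat.card_eq_of_bijective f
  constructor
  · intro k k' hkk
    have h1 : (k : MulAut P) x0 = (k' : MulAut P) x0 := congrArg Subtype.val hkk
    have hy1 : (k' : MulAut P) x0 ≠ 1 := (f k').2.2
    have hy2 : (k' : MulAut P) x0 * (k' : MulAut P) x0 = 1 := by
      rw [← map_mul, hx0sq, map_one]
    exact (h.reg x0 _ hx0 hx0sq hy1 hy2).unique h1 rfl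
  · rintro ⟨y, hyZ, hy1⟩
    have hy1' : y ≠ 1 := hy1
    obtain ⟨k, hk, _⟩ := h.reg x0 y hx0 hx0sq hy1' (h.zexp y hyZ)
    exact ⟨k, Subtype.ext hk⟩

end Main

/-- numerics: `2 ^ n - 1 ∣ 2 ^ N - 1` forces `n ∣ N`. -/
lemma dvd_of_pow_sub_one_dvd {n N : ℕ} (h : 2 ^ n - 1 ∣ 2 ^ N - 1) : n ∣ N := by
  have h1 := Nat.pow_sub_one_gcd_pow_sub_one 2 n N
  rw [Nat.gcd_eq_left h] at h1
  have h2 : 2 ^ n = 2 ^ Nat.gcd n N := by
    have h3 : 1 ≤ 2 ^ n := Nat.one_le_two_pow
    have h4 : 1 ≤ 2 ^ Nat.gcd n N := Nat.one_le_two_pow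
    omega
  have h5 : n = Nat.gcd n N := Nat.pow_right_injective (le_refl 2) h2
  rw [h5]
  exact Nat.gcd_dvd_right n N

/-- **Higman's theorem from the class-2 statement.** -/
theorem higman_of_class_two {P : Type*} [Group P] (hP : Cfsg.IsSuzukiTwoGroup P)
    (hc : ∀ x y : P, x⁻¹ * y⁻¹ * x * y ∈ Subgroup.center P) :
    (∀ x : P, x * x ∈ Subgroup.center P) ∧ (∀ x y : P, x⁻¹ * y⁻¹ * x * y ∈ Subgroup.center P) ∧
      (Nat.card P = Nat.card (Subgroup.center P) ^ 2 ∨
        Nat.card P = Nat.card (Subgroup.center P) ^ 3) ∧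
      Monoid.exponent P = 4 := by
  classical
  have h1137 := Cfsg.Agent.S1137.result hP
  obtain ⟨hfin, h2grp, ⟨xa, ya, hnonab⟩, ⟨x0, y0, hxy0, hx01, hx0sq, hy01, hy0sq⟩, K, hKcyc, hreg⟩
    := hP
  have := hfin
  have hKcomm : ∀ a b : K, a * b = b * a := by
    intro a b
    obtain ⟨ξ, hξ⟩ := hKcyc.exists_generator
    obtain ⟨s, rfl⟩ := Subgroup.mem_zpowers_iff.mp (hξ a)
    obtain ⟨t, rfl⟩ := Subgroup.mem_zpowers_iff.mp (hξ b)
    rw [← zpow_add, ← zpow_add, add_comm]
  have hS : SHyp P K := ⟨h2grp, hKcomm, h1137.1, h1137.2, hreg⟩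
  have hsq := sq_mem_center hS hc
  refine ⟨hsq, hc, ?_, ?_⟩
  · obtain ⟨n, hn⟩ := IsPGroup.iff_card.mp (h2grp.to_subgroup (Subgroup.center P))
    obtain ⟨N, hN⟩ := IsPGroup.iff_card.mp h2grp
    obtain ⟨m, hm⟩ := IsPGroup.iff_card.mp (h2grp.to_quotient (Subgroup.center P))
    have hq3 : 3 ≤ Nat.card (Subgroup.center P) := by
      have : Fintype (Subgroup.center P) := Fintype.ofFinite _
      have hx0Z := ((h1137.1 x0).mp ⟨hx01, hx0sq⟩).1
      have hy0Z := ((h1137.1 y0).mp ⟨hy01, hy0sq⟩).1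
      have h3 : ({1, ⟨x0, hx0Z⟩, ⟨y0, hy0Z⟩} : Finset (Subgroup.center P)).card = 3 := by
        apply Finset.card_eq_three.mpr
        refine ⟨1, ⟨x0, hx0Z⟩, ⟨y0, hy0Z⟩, ?_, ?_, ?_, rfl⟩
        · intro h
          exact hx01 (congrArg Subtype.val h).symm
        · intro h
          exact hy01 (congrArg Subtype.val h).symm
        · intro h
          exact hxy0 (congrArg Subtype.val h)
      rw [Nat.card_eq_fintype_card, ← h3]
      exact Finset.card_le_univ _
    have hNmn : N = m + n := by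
      have h1 := Subgroup.card_eq_card_quotient_mul_card_subgroup (Subgroup.center P)
      rw [hN, hm, hn, ← pow_add] at h1
      exact Nat.pow_right_injective (le_refl 2) h1
    have hm0 : m ≠ 0 := by
      rintro rfl
      have h1 : Nat.card (Subgroup.center P) = Nat.card P := by rw [hn, hN, hNmn, zero_add]
      have h2 : Subgroup.center P = ⊤ := (Subgroup.card_eq_iff_eq_top _).mp h1
      have h3 : ya ∈ Subgroup.center P := by rw [h2]; exact Subgroup.mem_top _
      exact hnonab ((Subgroup.mem_center_iff.mp h3 xa)).symm.symm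
    have hle : m ≤ 2 * n := card_quot_le hS hc hn hm
    have hK := card_K hS x0 hx01 hx0sq
    have hdvd := card_K_dvd hS
    rw [hK, hn, hN] at hdvd
    have hnN : n ∣ N := dvd_of_pow_sub_one_dvd hdvd
    have hn0 : n ≠ 0 := by
      rintro rfl
      rw [hn, pow_zero] at hq3
      omega
    have hnm : n ∣ m := by
      rw [hNmn] at hnN
      exact (Nat.dvd_add_left (dvd_refl n)).mp hnN
    obtain ⟨t, ht⟩ := hnm
    have ht12 : t = 1 ∨ t = 2 := by
      have ht0 : t ≠ 0 := by
        rintro rfl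
        rw [mul_zero] at ht
        exact hm0 ht
      have ht2 : t ≤ 2 := by
        by_contra hcon
        push Not at hcon
        have : n * 3 ≤ n * t := Nat.mul_le_mul_left n hcon
        omega
      omega
    rw [hN, hn, hNmn, ht]
    rcases ht12 with rfl | rfl
    · left
      rw [← pow_mul]
      have h9 : n * 1 + n = n * 2 := by ring
      rw [h9]
    · right
      rw [← pow_mul]
      have h9 : n * 2 + n = n * 3 := by ring
      rw [h9]
  · have h4 : ∀ x : P, x ^ 4 = 1 := by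
      intro x
      have h1 := h1137.2 _ (hsq x)
      calc x ^ 4 = (x * x) * (x * x) := by simp only [pow_succ, pow_zero, one_mul, mul_assoc]
        _ = 1 := h1
    have hd : Monoid.exponent P ∣ 4 := Monoid.exponent_dvd_of_forall_pow_eq_one h4
    have hd' : Monoid.exponent P ∣ 2 ^ 2 := by norm_num; exact hd
    obtain ⟨k, hk2, hk⟩ := (Nat.dvd_prime_pow Nat.prime_two).mp hd'
    have hk2' : k = 2 := by
      by_contra hk2'
      have hk1 : k ≤ 1 := by omega
      have h2 : Monoid.exponent P ∣ 2 := by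
        rw [hk]
        calc 2 ^ k ∣ 2 ^ 1 := pow_dvd_pow 2 hk1
          _ = 2 := pow_one 2
      have hx2 : ∀ x : P, x * x = 1 := by
        intro x
        have h3 := Monoid.pow_exponent_eq_one x
        obtain ⟨c, hc'⟩ := h2
        have h5 : x ^ 2 = 1 := by
          rw [hc', pow_mul, h3, one_pow]
        rw [← pow_two]
        exact h5
      have hinv : ∀ x : P, x⁻¹ = x := fun x => inv_eq_of_mul_eq_one_right (hx2 x)
      apply hnonab
      calc xa * ya = (xa * ya)⁻¹ := (hinv _).symm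
        _ = ya⁻¹ * xa⁻¹ := mul_inv_rev _ _
        _ = ya * xa := by rw [hinv, hinv]
    rw [hk, hk2']
    norm_num

/-- the order statement alone, in the form requested by helper26 -/
theorem card_of_class_two {P : Type*} [Group P] [Finite P] (hP : Cfsg.IsSuzukiTwoGroup P)
    (hc : ∀ x y : P, x⁻¹ * y⁻¹ * x * y ∈ Subgroup.center P) :
    Nat.card P = Nat.card (Subgroup.center P) ^ 2 ∨
      Nat.card P = Nat.card (Subgroup.center P) ^ 3 :=
  (higman_of_class_two hP hc).2.2.1

end Cfsg.Agent.Lib.Helper27.SuzCard
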