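import Mathlib
import Cfsg.Prelude.Def_FusionSystem
import Cfsg.Prelude.Def_LieRecognition
import Cfsg.Agent.S1137
import Cfsg.Agent.Lib.Helper27.FusionNormalCrit

set_option autoImplicit false

/-!
# Suzuki 2-groups are resistant, given that they have class 2 (helper27)
-/

namespace Cfsg.Agent.Lib.Helper27.SuzRes

open Cfsg Cfsg.FusionSystem Cfsg.Agent.Lib.Helper27

variable {Ω : Type*} [Group Ω] {S : Subgroup Ω}

/-- a subgroup of `S` containing all elements of `S` of order dividing 2, and of exponent 2,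
is strongly closed -/
theorem stronglyClosed_of_involutions (F : FusionSystem S) (Z : Subgroup Ω) (hZS : Z ≤ S)
    (hZ2 : ∀ x ∈ Z, x * x = 1) (hinv : ∀ y ∈ S, y * y = 1 → y ∈ Z) : F.StronglyClosed Z := by
  refine ⟨hZS, fun R hR φ hφ x => ?_⟩
  apply hinv _ ((F.le_of_mem hφ).2 x)
  rw [← map_mul]
  have h1 : x * x = 1 := Subtype.ext (hZ2 x (hR x.2))
  rw [h1, map_one]

/-- **Suzuki 2-groups of class 2 are resistant.** -/
theorem isNormal_of_class_two [Finite S] (hS : IsPGroup 2 S) (F : FusionSystem S)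
    (hF : F.IsSaturated 2) (hsz : Cfsg.IsSuzukiTwoGroup ↥S)
    (hcl : ∀ x y : S, x⁻¹ * y⁻¹ * x * y ∈ Subgroup.center S) : F.IsNormal S := by
  haveI : Fact (Nat.Prime 2) := ⟨Nat.prime_two⟩
  have h1137 := Cfsg.Agent.S1137.result hsz
  have hSS : F.StronglyClosed S := ⟨le_rfl, fun R _ φ hφ x => (F.le_of_mem hφ).2 x⟩
  have hZS : (Subgroup.center S).map S.subtype ≤ S := by
    rintro _ ⟨z, _, rfl⟩
    exact z.2
  have hZ : F.StronglyClosed ((Subgroup.center S).map S.subtype) := by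
    apply stronglyClosed_of_involutions F _ hZS
    · rintro _ ⟨z, hz, rfl⟩
      have h1 := h1137.2 z hz
      exact congrArg Subtype.val h1
    · intro y hy hyy
      refine ⟨⟨y, hy⟩, ?_, rfl⟩
      by_cases hy1 : (⟨y, hy⟩ : S) = 1
      · rw [hy1]; exact Subgroup.one_mem _
      · exact ((h1137.1 ⟨y, hy⟩).mp ⟨hy1, Subtype.ext hyy⟩).1
  have hbot : F.StronglyClosed (⊥ : Subgroup Ω) := by
    refine ⟨bot_le, fun R hR φ _ x => ?_⟩
    have h1 : x = 1 := Subtype.ext (Subgroup.mem_bot.mp (hR x.2))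
    rw [h1, map_one]
    exact Subgroup.one_mem _
  let c : ℕ → Subgroup Ω := fun j =>
    if j = 0 then ⊥ else if j = 1 then (Subgroup.center S).map S.subtype else S
  have hc0 : c 0 = ⊥ := rfl
  have hc1 : c 1 = (Subgroup.center S).map S.subtype := rfl
  have hc2 : c 2 = S := rfl
  have hcases : ∀ j ≤ 2, j = 0 ∨ j = 1 ∨ j = 2 := by intro j hj; omega
  apply isNormal_of_central_series hS hF hSS c 2 hc0 hc2
  · intro j hj
    rcases hcases j hj with rfl | rfl | rfl
    · rw [hc0]; exact bot_le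
    · rw [hc1]; exact hZS
    · rw [hc2]
  · intro j hj
    rcases hcases j hj with rfl | rfl | rfl
    · rw [hc0]; exact weaklyClosed_of_stronglyClosed hbot
    · rw [hc1]; exact weaklyClosed_of_stronglyClosed hZ
    · rw [hc2]; exact weaklyClosed_of_stronglyClosed hSS
  · intro j hj x hx q hq
    have hj' : j = 0 ∨ j = 1 := by omega
    rcases hj' with rfl | rfl
    · rw [hc0, Subgroup.mem_bot]
      have hx' : x ∈ (Subgroup.center S).map S.subtype := hx
      obtain ⟨z, hz, rfl⟩ := hx'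
      have h1 := Subgroup.mem_center_iff.mp hz ⟨q, hq⟩
      have h2 : q * (z : Ω) = (z : Ω) * q := congrArg Subtype.val h1
      have h3 : (S.subtype z) = (z : Ω) := rfl
      rw [h3, ← h2]
      group
    · have hx' : x ∈ S := hx
      rw [hc1]
      have h1 := hcl ⟨x⁻¹, S.inv_mem hx'⟩ ⟨q⁻¹, S.inv_mem hq⟩
      refine ⟨_, h1, ?_⟩
      show (x⁻¹)⁻¹ * (q⁻¹)⁻¹ * x⁻¹ * q⁻¹ = x * q * x⁻¹ * q⁻¹
      rw [inv_inv, inv_inv]

end Cfsg.Agent.Lib.Helper27.SuzRes
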