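import Mathlib
import Cfsg.Agent.Lib.Helper27.LG2Extremal
import Cfsg.Agent.Lib.Helper27.LGNormalizer
import Cfsg.Agent.Lib.Helper27.FusionNormal
import Cfsg.Agent.H26.FusionNormal

set_option autoImplicit false

/-! Thompson factorization for fusion systems, part A: intersections of systems, monotonicity of
centralizer and normalizer maps, and the extremal choice relative to a class of subgroups. -/

namespace Cfsg.Agent.Lib.Helper27.TF

open Cfsg Cfsg.FusionSystem Cfsg.Agent.Lib.Helper27 Cfsg.Agent.H26 Cfsg.Agent.Lib.Helper27.LG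
  Cfsg.Agent.Lib.Helper27.LG2

variable {Ω : Type*} [Group Ω] {S : Subgroup Ω}

/-- The maps of a system `N` over `T ≤ S` that are maps of the system `E` over `S`. -/
def interSys {T : Subgroup Ω} (N : FusionSystem T) (E : FusionSystem S) (hTS : T ≤ S) :
    FusionSystem T where
  Hom P := {φ | φ ∈ N.Hom P ∧ φ ∈ E.Hom P}
  le_of_mem h := N.le_of_mem h.1
  injective_of_mem h := N.injective_of_mem h.1
  conj_mem hP hg := ⟨N.conj_mem hP hg, E.conj_mem (hP.trans hTS) (hTS hg)⟩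
  comp_mem hφ hψ h := ⟨N.comp_mem hφ.1 hψ.1 h, E.comp_mem hφ.2 hψ.2 h⟩
  inv_mem := by
    intro P φ hφ
    obtain ⟨ψ, hψ, hinv⟩ := N.inv_mem hφ.1
    obtain ⟨ψ', hψ', hinv'⟩ := E.inv_mem hφ.2
    have : ψ = ψ' := by
      ext ⟨y, x, rfl⟩
      rw [hinv x, hinv' x]
    exact ⟨ψ, ⟨hψ, this ▸ hψ'⟩, hinv⟩

theorem mem_interSys {T : Subgroup Ω} {N : FusionSystem T} {E : FusionSystem S} {hTS : T ≤ S}
    {P : Subgroup Ω} {φ : P →* Ω} : φ ∈ (interSys N E hTS).Hom P ↔ φ ∈ N.Hom P ∧ φ ∈ E.Hom P :=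
  Iff.rfl

/-- Centralizer maps of a subsystem over a subgroup are centralizer maps of the system. -/
theorem centralizerHom_of_subsystem {T : Subgroup Ω} {N : FusionSystem T} {F : FusionSystem S}
    (hTS : T ≤ S) (hNF : ∀ P : Subgroup Ω, N.Hom P ⊆ F.Hom P) {Z P : Subgroup Ω} {φ : P →* Ω}
    (hφ : φ ∈ N.centralizerHom Z P) : φ ∈ F.centralizerHom Z P := by
  obtain ⟨h1, h2, h3, ψ, hψ, h4, h5⟩ := hφ
  have hle : centralizerIn T Z ≤ centralizerIn S Z := fun x hx => ⟨hTS hx.1, hx.2⟩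
  exact ⟨hNF P h1, h2.trans hle, fun x => hle (h3 x), ψ, hNF _ hψ, h4, h5⟩

/-- Centralizer maps of a larger subgroup are centralizer maps of a smaller one. -/
theorem centralizerHom_mono {F : FusionSystem S} {Z₀ Z₁ P : Subgroup Ω} (hZ : Z₀ ≤ Z₁) {φ : P →* Ω}
    (hφ : φ ∈ F.centralizerHom Z₁ P) : φ ∈ F.centralizerHom Z₀ P := by
  obtain ⟨h1, h2, h3, ψ, hψ, h4, h5⟩ := hφ
  have hle : centralizerIn S Z₁ ≤ centralizerIn S Z₀ := fun x hx =>
    ⟨hx.1, Subgroup.centralizer_le (SetLike.coe_subset_coe.mpr hZ) hx.2⟩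
  have hsup : P ⊔ Z₀ ≤ P ⊔ Z₁ := sup_le_sup_left hZ P
  refine ⟨h1, h2.trans hle, fun x => hle (h3 x), ψ.comp (Subgroup.inclusion hsup),
    hom_restrict F hsup hψ, fun x => ?_, fun x => ?_⟩
  · exact h4 x
  · exact h5 ⟨x, hZ x.2⟩

theorem mem_normalizer_sup {R V : Subgroup Ω} {g : Ω} (hR : g ∈ Subgroup.normalizer (R : Set Ω))
    (hV : g ∈ Subgroup.normalizer (V : Set Ω)) : g ∈ Subgroup.normalizer ((R ⊔ V : Subgroup Ω) : Set Ω) := by
  have key : ∀ g : Ω, g ∈ Subgroup.normalizer (R : Set Ω) → g ∈ Subgroup.normalizer (V : Set Ω) →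
      R ⊔ V ≤ (R ⊔ V).comap (MulAut.conj g).toMonoidHom := by
    intro g hR hV
    apply sup_le
    · intro x hx
      exact Subgroup.mem_sup_left ((Subgroup.mem_normalizer_iff.mp hR x).mp hx)
    · intro x hx
      exact Subgroup.mem_sup_right ((Subgroup.mem_normalizer_iff.mp hV x).mp hx)
  rw [Subgroup.mem_normalizer_iff]
  intro y
  constructor
  · intro hy
    exact key g hR hV hy
  · intro hy
    have := key g⁻¹ (Subgroup.inv_mem _ hR) (Subgroup.inv_mem _ hV) hy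
    have h2 : (MulAut.conj g⁻¹).toMonoidHom (g * y * g⁻¹) ∈ R ⊔ V := this
    simp only [MulEquiv.coe_toMonoidHom, MulAut.conj_apply] at h2
    have e : g⁻¹ * (g * y * g⁻¹) * g⁻¹⁻¹ = y := by group
    rwa [e] at h2

/-- Normalizer maps of `R` are normalizer maps of `R V` when `V` is normal in the system. -/
theorem normalizerHom_sup_normal [Finite S] {F : FusionSystem S} {V R P : Subgroup Ω}
    (hV : F.IsNormal V) {φ : P →* Ω} (hφ : φ ∈ F.normalizerHom R P) :
    φ ∈ F.normalizerHom (R ⊔ V) P := by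
  obtain ⟨ψ, hψ, hφψ, hψR, hPRN, hψN⟩ := normalizerHom_ext hφ
  obtain ⟨χ, hχ, hχψ, hχV⟩ := hV.2 (P ⊔ R) ψ hψ
  have hVS : V ≤ S := hV.1
  have hP₃S : (P ⊔ R) ⊔ V ≤ S := hom_le F hχ
  have hRS : R ≤ S := le_sup_right.trans (hom_le F hψ)
  have hRVS : R ⊔ V ≤ S := sup_le hRS hVS
  haveI : Finite ↥(R ⊔ V) := Finite.of_injective (Subgroup.inclusion hRVS) (Subgroup.inclusion_injective hRVS)
  have hRVle : R ⊔ V ≤ (P ⊔ R) ⊔ V := sup_le_sup_right le_sup_right V
  have hnorm : (P ⊔ R) ⊔ V ≤ normalizerIn S (R ⊔ V) := by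
    apply sup_le
    · intro x hx
      exact ⟨(hom_le F hψ) hx, mem_normalizer_sup (hPRN hx).2 (normal_le_normalizer hV ((hom_le F hψ) hx))⟩
    · intro x hx
      exact ⟨hVS hx, Subgroup.le_normalizer (Subgroup.mem_sup_right hx)⟩
  have hpres : ∀ x : ↥((P ⊔ R) ⊔ V), (x : Ω) ∈ R ⊔ V → χ x ∈ R ⊔ V := by
    intro x hx
    have key : R ⊔ V ≤ ((R ⊔ V).comap χ).map (Subgroup.subtype _) := by
      apply sup_le
      · intro r hr
        refine ⟨Subgroup.inclusion le_sup_left ⟨r, (le_sup_right : R ≤ P ⊔ R) hr⟩, ?_, rfl⟩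
        show χ _ ∈ R ⊔ V
        rw [hχψ]
        exact Subgroup.mem_sup_left (hψR _ hr)
      · intro v hv
        refine ⟨⟨v, (le_sup_right : V ≤ (P ⊔ R) ⊔ V) hv⟩, ?_, rfl⟩
        show χ _ ∈ R ⊔ V
        apply Subgroup.mem_sup_right
        exact hχV.le ⟨_, Subgroup.mem_subgroupOf.mpr hv, rfl⟩
    obtain ⟨w, hw, hwx⟩ := key hx
    have : w = x := Subtype.ext hwx
    rw [← this]
    exact hw
  have hχn : χ ∈ F.normalizerHom (R ⊔ V) ((P ⊔ R) ⊔ V) :=
    mem_normalizerHom_of_preserves F hRVle hnorm hχ hpres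
  have hPle : P ≤ (P ⊔ R) ⊔ V := le_sup_left.trans le_sup_left
  have h1 : χ.comp (Subgroup.inclusion hPle) ∈ (nsys F (R ⊔ V) hRVS).Hom P :=
    hom_restrict (nsys F (R ⊔ V) hRVS) hPle hχn
  have h2 : χ.comp (Subgroup.inclusion hPle) = φ := by
    ext x
    rw [hφψ]
    show χ _ = ψ _
    rw [← hχψ]
    rfl
  rw [h2] at h1
  exact h1

theorem BadN.sup_normal [Finite S] {F E : FusionSystem S} {V R : Subgroup Ω} (hV : F.IsNormal V)
    (h : BadN F E R) : BadN F E (R ⊔ V) := by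
  obtain ⟨P, φ, hφ, hφE⟩ := h
  exact ⟨P, φ, normalizerHom_sup_normal hV hφ, hφE⟩

/-- **The extremal choice, relative to a class of subgroups.** -/
theorem exists_extremal_rel [Finite S] {p : ℕ} [Fact p.Prime] (hS : IsPGroup p S) {F : FusionSystem S}
    (hF : F.IsSaturated p) (E : FusionSystem S) (hEF : ∀ P : Subgroup Ω, E.Hom P ⊆ F.Hom P)
    (htop : ∀ α : S ≃* S, IsIso F α → IsIso E α) (Pr : Subgroup Ω → Prop)
    (hconj : ∀ U U' : Subgroup Ω, Pr U → F.IsConj U U' → Pr U')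
    (hbd : ∀ R : Subgroup Ω, R < S → BadN F E R →
      ∃ R' : Subgroup Ω, Pr R' ∧ BadN F E R' ∧ Nat.card R < Nat.card (normalizerIn S R'))
    (hne : ∃ U : Subgroup Ω, Pr U ∧ BadN F E U) :
    ∃ U : Subgroup Ω, Pr U ∧ F.IsFullyNormalized U ∧ BadN F E U ∧
      ∀ U' : Subgroup Ω, Pr U' → BadN F E U' →
        Nat.card (normalizerIn S U') ≤ Nat.card (normalizerIn S U) ∧
        (Nat.card (normalizerIn S U') = Nat.card (normalizerIn S U) → Nat.card U' ≤ Nat.card U) := by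
  have hfin : {U : Subgroup Ω | Pr U ∧ BadN F E U}.Finite :=
    (finite_setOf_le S).subset (fun U hU => hU.2.le)
  have hne' : {U : Subgroup Ω | Pr U ∧ BadN F E U}.Nonempty := hne
  obtain ⟨U, ⟨hU1, hUb⟩, hmax⟩ := Set.exists_max_image _
    (fun U : Subgroup Ω => Nat.card (normalizerIn S U) * (Nat.card S + 1) + Nat.card U) hfin hne'
  have hUS : U ≤ S := hUb.le
  have hcardle : ∀ V : Subgroup Ω, V ≤ S → Nat.card V ≤ Nat.card S := fun V hV =>
    Subgroup.card_le_of_le hV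
  have hmax1 : ∀ U' : Subgroup Ω, Pr U' → BadN F E U' →
      Nat.card (normalizerIn S U') ≤ Nat.card (normalizerIn S U) := by
    intro U' h1 h3
    have h4 : Nat.card (normalizerIn S U') * (Nat.card S + 1) + Nat.card U' ≤
        Nat.card (normalizerIn S U) * (Nat.card S + 1) + Nat.card U := hmax U' ⟨h1, h3⟩
    by_contra hlt
    push Not at hlt
    have h5 := hcardle U hUS
    have h6 : (Nat.card (normalizerIn S U) + 1) * (Nat.card S + 1) ≤
        Nat.card (normalizerIn S U') * (Nat.card S + 1) := Nat.mul_le_mul_right _ hlt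
    have h7 : (Nat.card (normalizerIn S U) + 1) * (Nat.card S + 1) =
        Nat.card (normalizerIn S U) * (Nat.card S + 1) + (Nat.card S + 1) := by ring
    generalize Nat.card (normalizerIn S U') * (Nat.card S + 1) = a at h4 h6
    generalize Nat.card (normalizerIn S U) * (Nat.card S + 1) = b at h4 h7
    generalize (Nat.card (normalizerIn S U) + 1) * (Nat.card S + 1) = c at h6 h7
    omega
  have hmax2 : ∀ U' : Subgroup Ω, Pr U' → BadN F E U' →
      Nat.card (normalizerIn S U') = Nat.card (normalizerIn S U) → Nat.card U' ≤ Nat.card U := by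
    intro U' h1 h3 h4
    have h5 : Nat.card (normalizerIn S U') * (Nat.card S + 1) + Nat.card U' ≤
        Nat.card (normalizerIn S U) * (Nat.card S + 1) + Nat.card U := hmax U' ⟨h1, h3⟩
    rw [h4] at h5
    exact Nat.le_of_add_le_add_left h5
  -- transport to a fully normalized conjugate
  obtain ⟨U', hc, hfn⟩ := exists_fullyNormalized_conj F hUS
  obtain ⟨φ, hφ, χ, hχ, hφχ⟩ := exists_hom_normalizerIn_of_fullyNormalized hS hF hfn hc
  have hφχ' : ∀ x : U, φ ⟨x, le_normalizerIn hUS x.2⟩ = χ x := fun x => hφχ x x.2 _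
  haveI : Finite ↥U := Finite.of_injective (Subgroup.inclusion hUS) (Subgroup.inclusion_injective hUS)
  have hNS : normalizerIn S U ≤ S := inf_le_left
  haveI : Finite ↥(normalizerIn S U) :=
    Finite.of_injective (Subgroup.inclusion hNS) (Subgroup.inclusion_injective hNS)
  have hφE : φ ∈ E.Hom (normalizerIn S U) := by
    refine alperin_bounded hS hF E hEF (Nat.card (normalizerIn S U)) ?_ _ le_rfl hφ
    intro R hRS hmR α hα
    by_cases hR : R = S
    · subst hR
      exact htop α hα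
    · by_contra hE
      have hlt : R < S := lt_of_le_of_ne hRS hR
      obtain ⟨R', hR'1, hR'b, hR'c⟩ := hbd R hlt (badN_of_aut hα hE)
      have h2 := hmax1 R' hR'1 hR'b
      omega
  have hU'b : BadN F E U' := hUb.transport hEF hUS hφE hφχ'
  have hU'1 : Pr U' := hconj U U' hU1 hc
  have h1 := hfn.2 U (isConj_symm F hc)
  have h2 := hmax1 U' hU'1 hU'b
  have h3 : Nat.card (normalizerIn S U') = Nat.card (normalizerIn S U) := le_antisymm h2 h1
  have h4 : Nat.card U' = Nat.card U := (card_eq_of_isConj' F hc).symm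
  refine ⟨U', hU'1, hfn, hU'b, fun V' hV'1 hV'b => ⟨?_, fun h5 => ?_⟩⟩
  · rw [h3]
    exact hmax1 V' hV'1 hV'b
  · rw [h4]
    rw [h3] at h5
    exact hmax2 V' hV'1 hV'b h5

end Cfsg.Agent.Lib.Helper27.TF
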