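import Mathlib
import Cfsg.Agent.Lib.Helper27.TFFusA
import Cfsg.Agent.Lib.Helper27.TFGroup
import Cfsg.Agent.Lib.Helper27.LGAux

set_option autoImplicit false

/-! Thompson factorization for fusion systems, part B: the Thompson subgroup of the normalizer of a
subgroup `U ≥ V` is not contained in `V` when `V` is normal in `S` and `C_S(V) ≰ V`. -/

namespace Cfsg.Agent.Lib.Helper27.TF

open Cfsg Cfsg.FusionSystem Cfsg.Agent.Lib.Helper27 Cfsg.Agent.H26 Cfsg.Agent.Lib.Helper27.LG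
  Cfsg.Agent.Lib.Helper27.LG2 Cfsg.Agent.Lib.Helper18
open scoped commutatorElement

variable {Ω : Type*} [Group Ω] {S : Subgroup Ω}

theorem mem_normalizer_of_conj_mem' {W : Subgroup Ω} {g : Ω} (h1 : ∀ w ∈ W, g * w * g⁻¹ ∈ W)
    (h2 : ∀ w ∈ W, g⁻¹ * w * g ∈ W) : g ∈ Subgroup.normalizer (W : Set Ω) := by
  rw [Subgroup.mem_normalizer_iff]
  intro w
  constructor
  · exact h1 w
  · intro hw
    have := h2 _ hw
    have e : g⁻¹ * (g * w * g⁻¹) * g = w := by group
    rwa [e] at this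

theorem conj_mem_centralizer' (Q : Subgroup Ω) {u : Ω}
    (hu : u ∈ Subgroup.normalizer (Q : Set Ω)) {c : Ω}
    (hc : c ∈ Subgroup.centralizer (Q : Set Ω)) :
    u * c * u⁻¹ ∈ Subgroup.centralizer (Q : Set Ω) := by
  rw [Subgroup.mem_centralizer_iff] at hc ⊢
  intro q hq
  have hq' : u⁻¹ * q * u⁻¹⁻¹ ∈ Q :=
    (Subgroup.mem_normalizer_iff.mp (Subgroup.inv_mem _ hu) q).mp hq
  rw [inv_inv] at hq'
  have := hc _ hq'
  calc q * (u * c * u⁻¹) = u * ((u⁻¹ * q * u) * c) * u⁻¹ := by group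
    _ = u * (c * (u⁻¹ * q * u)) * u⁻¹ := by rw [this]
    _ = u * c * u⁻¹ * q := by group

/-- An element of `T` centralizing an abelian subgroup of largest order of `T` lies in it. -/
theorem mem_of_centralizes_maxAb {T A : Subgroup Ω} [Finite T] (hA : IsMaxAbIn T A) {c : Ω} (hcT : c ∈ T)
    (hc : ∀ a ∈ A, c * a = a * c) : c ∈ A := by
  obtain ⟨M, hM⟩ : ∃ M : Subgroup Ω, M = Subgroup.closure ((A : Set Ω) ∪ {c}) := ⟨_, rfl⟩
  have hMc : IsMulCommutative M := by
    rw [hM]
    apply Subgroup.isMulCommutative_closure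
    rintro x (hx | hx) y (hy | hy)
    · exact hA.2.1 x hx y hy
    · rw [Set.mem_singleton_iff] at hy
      rw [hy]
      exact (hc x hx).symm
    · rw [Set.mem_singleton_iff] at hx
      rw [hx]
      exact hc y hy
    · rw [Set.mem_singleton_iff] at hx hy
      rw [hx, hy]
  have hMT : M ≤ T := by
    rw [hM, Subgroup.closure_le]
    rintro x (hx | hx)
    · exact hA.1 hx
    · rw [Set.mem_singleton_iff] at hx
      rw [hx]
      exact hcT
  haveI : Finite ↥M := Finite.of_injective (Subgroup.inclusion hMT) (Subgroup.inclusion_injective hMT)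
  have hAM : A ≤ M := by
    rw [hM]
    exact fun x hx => Subgroup.subset_closure (Or.inl hx)
  have h1 := hA.2.2 M hMT ((isMulCommutative_iff_forall M).mp hMc)
  have h2 : A = M := Subgroup.eq_of_le_of_card_ge hAM h1
  rw [h2, hM]
  exact Subgroup.subset_closure (Or.inr rfl)

/-- In a finite `p`-group, a subgroup `C` normalized by `S` and not contained in `V` contains a
subgroup `D ≰ V` with `[D, S] ≤ V`. -/
theorem exists_sub_comm_le [Finite S] {p : ℕ} [Fact p.Prime] (hS : IsPGroup p S) {C V : Subgroup Ω}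
    (hCS : C ≤ S) (hCn : S ≤ Subgroup.normalizer (C : Set Ω)) (hCV : ¬ C ≤ V) :
    ∃ D : Subgroup Ω, D ≤ C ∧ ¬ D ≤ V ∧ ⁅D, S⁆ ≤ V := by
  haveI : Group.IsNilpotent S := hS.isNilpotent
  obtain ⟨f, hf⟩ : ∃ f : ℕ → Subgroup Ω, f = fun i => Nat.rec C (fun _ X => ⁅X, S⁆) i := ⟨_, rfl⟩
  have hf0 : f 0 = C := by rw [hf]; rfl
  have hfs : ∀ i, f (i + 1) = ⁅f i, S⁆ := by
    intro i
    rw [hf]
  have hCcomm : ⁅C, S⁆ ≤ C := Subgroup.le_normalizer_iff_commutator_le_left.mp hCn
  have hfC : ∀ i, f i ≤ C := by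
    intro i
    induction i with
    | zero => rw [hf0]
    | succ i ih =>
      rw [hfs]
      exact (Subgroup.commutator_mono ih le_rfl).trans hCcomm
  have hflcs : ∀ i, f i ≤ S.lowerCentralSeries i := by
    intro i
    induction i with
    | zero =>
      rw [hf0, Subgroup.lowerCentralSeries_zero]
      exact hCS
    | succ i ih =>
      rw [hfs, Subgroup.lowerCentralSeries_succ]
      exact Subgroup.commutator_mono ih le_rfl
  have hex : ∃ i, f i ≤ V := by
    obtain ⟨n, hn⟩ := (Subgroup.isNilpotent_iff_lowerCentralSeries (S := S)).mp inferInstance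
    refine ⟨n, (hflcs n).trans ?_⟩
    rw [hn]
    exact bot_le
  classical
  obtain ⟨i₀, hi₀⟩ : ∃ i₀, i₀ = Nat.find hex := ⟨_, rfl⟩
  have hi₀mem : f i₀ ≤ V := hi₀ ▸ Nat.find_spec hex
  rcases Nat.eq_zero_or_pos i₀ with h0 | hpos
  · rw [h0, hf0] at hi₀mem
    exact absurd hi₀mem hCV
  · obtain ⟨j, hj⟩ : ∃ j, i₀ = j + 1 := ⟨i₀ - 1, by omega⟩
    have hjnot : ¬ f j ≤ V := by
      have : j < Nat.find hex := by rw [← hi₀, hj]; exact Nat.lt_succ_self j
      exact Nat.find_min hex this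
    refine ⟨f j, hfC j, hjnot, ?_⟩
    rw [← hfs, ← hj]
    exact hi₀mem

/-- **The Thompson subgroup of a normalizer is not below a non-centric normal subgroup.** -/
theorem thompson_not_le [Finite S] {p : ℕ} [Fact p.Prime] (hS : IsPGroup p S) {V U : Subgroup Ω}
    (hVU : V ≤ U) (hUS : U ≤ S) (hVn : S ≤ Subgroup.normalizer (V : Set Ω))
    (hVc : ¬ centralizerIn S V ≤ V) : ¬ Cfsg.thompsonSubgroupAOf (normalizerIn S U) ≤ V := by
  intro hJ
  have hTS : normalizerIn S U ≤ S := inf_le_left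
  haveI : Finite ↥(normalizerIn S U) :=
    Finite.of_injective (Subgroup.inclusion hTS) (Subgroup.inclusion_injective hTS)
  obtain ⟨A', hA'⟩ := exists_mem_maxAbelian (G := ↥(normalizerIn S U))
  have hA := isMaxAbIn_map (normalizerIn S U) hA'
  obtain ⟨A, hAdef⟩ : ∃ A : Subgroup Ω, A = A'.map (normalizerIn S U).subtype := ⟨_, rfl⟩
  rw [← hAdef] at hA
  have hAV : A ≤ V := by
    refine le_trans ?_ hJ
    rw [thompsonSubgroupAOf_eq_sSup]
    exact le_sSup hA
  -- `C_T(V) ≤ V`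
  have hCT : ∀ c ∈ normalizerIn S U, c ∈ Subgroup.centralizer (V : Set Ω) → c ∈ V := by
    intro c hcT hcV
    apply hAV
    apply mem_of_centralizes_maxAb hA hcT
    intro a ha
    exact (Subgroup.mem_centralizer_iff.mp hcV a (hAV ha)).symm
  -- an element of `C_S(V)` outside `V` central modulo `V`
  have hCS : centralizerIn S V ≤ S := inf_le_left
  have hCn : S ≤ Subgroup.normalizer ((centralizerIn S V : Subgroup Ω) : Set Ω) := by
    intro s hs
    apply mem_normalizer_of_conj_mem'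
    · intro w hw
      exact ⟨S.mul_mem (S.mul_mem hs hw.1) (S.inv_mem hs),
        conj_mem_centralizer' V (hVn hs) hw.2⟩
    · intro w hw
      have h1 := conj_mem_centralizer' V
        (hVn (S.inv_mem hs)) hw.2
      rw [inv_inv] at h1
      exact ⟨S.mul_mem (S.mul_mem (S.inv_mem hs) hw.1) hs, h1⟩
  obtain ⟨D, hDC, hDV, hDcomm⟩ := exists_sub_comm_le hS hCS hCn hVc
  obtain ⟨c, hcD, hcV⟩ := SetLike.not_le_iff_exists.mp hDV
  apply hcV
  apply hCT c _ (hDC hcD).2
  refine ⟨(hDC hcD).1, ?_⟩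
  apply mem_normalizer_of_conj_mem'
  · intro u hu
    have h1 : ⁅c, u⁆ ∈ V := hDcomm (Subgroup.commutator_mem_commutator hcD (hUS hu))
    have h2 : c * u * c⁻¹ = ⁅c, u⁆ * u := by
      rw [commutatorElement_def]; group
    rw [h2]
    exact U.mul_mem (hVU h1) hu
  · intro u hu
    have h1 : ⁅c⁻¹, u⁆ ∈ V := hDcomm (Subgroup.commutator_mem_commutator (D.inv_mem hcD) (hUS hu))
    have h2 : c⁻¹ * u * c = ⁅c⁻¹, u⁆ * u := by
      rw [commutatorElement_def]; group
    rw [h2]
    exact U.mul_mem (hVU h1) hu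

end Cfsg.Agent.Lib.Helper27.TF
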