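import Mathlib
import Cfsg.Agent.Lib.Helper27.TFFusB
import Cfsg.Agent.Lib.Helper27.LG2Quot
import Cfsg.Agent.Lib.Helper27.FusionPStable

set_option autoImplicit false

/-! Thompson factorization for fusion systems, part C: if the theorem holds for all smaller
`p`-groups and `V` is a normal non-centric subgroup of the saturated system `F` which is not contained
in the subsystem `E ⊇ C_F(℧¹ Z(S))`, then some subgroup `R > V` normal in `S` has normalizer system
not contained in `E`. -/

namespace Cfsg.Agent.Lib.Helper27.TF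

open Cfsg Cfsg.FusionSystem Cfsg.Agent.Lib.Helper27 Cfsg.Agent.H26 Cfsg.Agent.Lib.Helper27.LG
  Cfsg.Agent.Lib.Helper27.LG2 Cfsg.Agent.Lib.Helper18

variable {Ω : Type*} [Group Ω]

/-- The statement of the factorization theorem for the systems over the subgroup `T`. -/
def Holds (p : ℕ) (T : Subgroup Ω) : Prop :=
  ∀ N : FusionSystem T, N.IsSaturated p → ∀ E' : FusionSystem T,
    (∀ P : Subgroup Ω, E'.Hom P ⊆ N.Hom P) →
    (∀ P : Subgroup Ω, N.centralizerHom
      (Cfsg.powerClosure p 1 (T ⊓ Subgroup.centralizer (T : Set Ω))) P ⊆ E'.Hom P) →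
    (∀ P : Subgroup Ω, N.normalizerHom (Cfsg.thompsonSubgroupAOf T) P ⊆ E'.Hom P) →
    ∀ P : Subgroup Ω, N.Hom P ⊆ E'.Hom P

variable {S : Subgroup Ω}

theorem card_lt_of_lt'' {H K : Subgroup Ω} [Finite K] (h : H < K) : Nat.card H < Nat.card K := by
  by_contra hcon
  push Not at hcon
  exact h.ne (Subgroup.eq_of_le_of_card_ge h.le hcon)

theorem thompsonSubgroupAOf_le' (T : Subgroup Ω) : Cfsg.thompsonSubgroupAOf T ≤ T := by
  rintro _ ⟨j, -, rfl⟩
  exact j.2

theorem exists_normal_bad [Finite S] {p : ℕ} [Fact p.Prime] (hS : IsPGroup p S)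
    (IH : ∀ T : Subgroup Ω, T ≤ S → T ≠ ⊥ → Nat.card T < Nat.card S → Holds p T)
    {F : FusionSystem S} (hF : F.IsSaturated p) {V : Subgroup Ω} (hV : F.IsNormal V)
    (hVc : ¬ centralizerIn S V ≤ V) (E : FusionSystem S)
    (hEF : ∀ P : Subgroup Ω, E.Hom P ⊆ F.Hom P)
    (hCE : ∀ P : Subgroup Ω, F.centralizerHom
      (Cfsg.powerClosure p 1 (S ⊓ Subgroup.centralizer (S : Set Ω))) P ⊆ E.Hom P)
    (htop : ∀ α : S ≃* S, IsIso F α → IsIso E α)
    (hne : ¬ ∀ P : Subgroup Ω, F.Hom P ⊆ E.Hom P) :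
    ∃ R : Subgroup Ω, V < R ∧ R ≤ S ∧ normalizerIn S R = S ∧ BadN F E R := by
  have hVS : V ≤ S := hV.1
  have hVn : S ≤ Subgroup.normalizer (V : Set Ω) := normal_le_normalizer hV
  haveI : Finite ↥V := Finite.of_injective (Subgroup.inclusion hVS) (Subgroup.inclusion_injective hVS)
  have hfinle : ∀ X : Subgroup Ω, X ≤ S → Finite ↥X := fun X hX =>
    Finite.of_injective (Subgroup.inclusion hX) (Subgroup.inclusion_injective hX)
  -- a bad subgroup properly containing `V`
  have hex : ∃ U : Subgroup Ω, V < U ∧ BadN F E U := by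
    by_contra hcon
    push Not at hcon
    apply hne
    apply alperin hS hF E htop
    intro R hR _ hcen _ α hα
    by_contra hE
    have hRS : R ≤ S := hR.le
    have hb : BadN F E (R ⊔ V) := BadN.sup_normal hV (badN_of_aut hα hE)
    apply hcon (R ⊔ V) _ hb
    refine lt_of_le_of_ne le_sup_right (fun h => hVc ?_)
    have hRV : R ≤ V := le_sup_left.trans (le_of_eq h.symm)
    have h1 : centralizerIn S R ≤ R := hcen.2 R (isConj_refl F hRS)
    intro x hx
    exact hRV (h1 ⟨hx.1, Subgroup.centralizer_le (SetLike.coe_subset_coe.mpr hRV) hx.2⟩)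
  obtain ⟨U₀, hVU₀, hU₀b⟩ := hex
  have hU₀S : U₀ ≤ S := hU₀b.le
  haveI := hfinle U₀ hU₀S
  -- the class of subgroups properly containing `V`
  have hconj : ∀ U U' : Subgroup Ω, V < U → F.IsConj U U' → V < U' := by
    intro U U' hVU hc
    obtain ⟨φ, hφ, hr⟩ := hc
    have hUS : U ≤ S := hom_le F hφ
    haveI := hfinle U hUS
    have hU'S : U' ≤ S := hr ▸ hom_range_le F hφ
    haveI := hfinle U' hU'S
    have hcard : Nat.card U = Nat.card U' := card_eq_of_isConj' F ⟨φ, hφ, hr⟩
    have hφV : φ.comp (Subgroup.inclusion hVU.le) ∈ F.Hom V := hom_restrict F hVU.le hφ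
    have hrV : (φ.comp (Subgroup.inclusion hVU.le)).range = V :=
      (normal_weaklyClosed hV).2 _ hφV
    have hVU' : V ≤ U' := by
      rw [← hrV, ← hr]
      rintro _ ⟨x, rfl⟩
      exact ⟨_, rfl⟩
    refine lt_of_le_of_ne hVU' (fun h => ?_)
    have h1 := card_lt_of_lt'' hVU
    rw [hcard, ← h] at h1
    exact lt_irrefl _ h1
  have hbd : ∀ R : Subgroup Ω, R < S → BadN F E R →
      ∃ R' : Subgroup Ω, V < R' ∧ BadN F E R' ∧ Nat.card R < Nat.card (normalizerIn S R') := by
    intro R hR hRb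
    by_cases hRV : R ≤ V
    · refine ⟨U₀, hVU₀, hU₀b, ?_⟩
      have h1 : Nat.card R ≤ Nat.card V := Subgroup.card_le_of_le hRV
      have h2 := card_lt_of_lt'' hVU₀
      haveI := hfinle _ (normalizerIn_le_S S U₀)
      have h3 : Nat.card U₀ ≤ Nat.card (normalizerIn S U₀) :=
        Subgroup.card_le_of_le (le_normalizerIn hU₀S)
      omega
    · have hlt : V < R ⊔ V := lt_of_le_of_ne le_sup_right (fun h => hRV (le_sup_left.trans (le_of_eq h.symm)))
      refine ⟨R ⊔ V, hlt, BadN.sup_normal hV hRb, ?_⟩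
      have hRVS : R ⊔ V ≤ S := sup_le hR.le hVS
      haveI := hfinle _ hRVS
      haveI := hfinle _ (normalizerIn_le_S S (R ⊔ V))
      by_cases htop' : R ⊔ V = S
      · have h1 : normalizerIn S (R ⊔ V) = S := by
          rw [htop']
          exact le_antisymm inf_le_left (le_normalizerIn le_rfl)
        rw [h1]
        exact card_lt_of_lt'' hR
      · have h1 := card_lt_card_normalizerIn hS (lt_of_le_of_ne hRVS htop')
        have h2 : Nat.card R ≤ Nat.card ↥(R ⊔ V) := Subgroup.card_le_of_le le_sup_left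
        omega
  obtain ⟨U, hVU, hUfn, hUb, hmax⟩ := exists_extremal_rel hS hF E hEF htop (fun U => V < U) hconj hbd
    ⟨U₀, hVU₀, hU₀b⟩
  have hUS : U ≤ S := hUfn.1
  by_cases hT : normalizerIn S U = S
  · exact ⟨U, hVU, hUS, hT, hUb⟩
  · exfalso
    have hTS : normalizerIn S U ≤ S := inf_le_left
    have hTlt : normalizerIn S U < S := lt_of_le_of_ne hTS hT
    haveI := hfinle _ hTS
    have hTp : IsPGroup p ↥(normalizerIn S U) := hS.to_le hTS
    have hT1 : normalizerIn S U ≠ ⊥ := by
      intro h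
      have h1 : U ≤ ⊥ := h ▸ le_normalizerIn hUS
      exact (not_lt_bot : ¬ V < ⊥) (lt_of_lt_of_le hVU h1)
    have hNsat : (nsys F U hUS).IsSaturated p :=
      normalizerSystem_saturated hS hF hUfn _ (nsys_spec F U hUS)
    have hNF : ∀ P : Subgroup Ω, (nsys F U hUS).Hom P ⊆ F.Hom P :=
      normalizerSystem_hom_subset (nsys_spec F U hUS)
    have hZle : S ⊓ Subgroup.centralizer (S : Set Ω) ≤
        normalizerIn S U ⊓ Subgroup.centralizer ((normalizerIn S U : Subgroup Ω) : Set Ω) := by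
      intro z hz
      refine ⟨⟨hz.1, ?_⟩, Subgroup.centralizer_le (SetLike.coe_subset_coe.mpr hTS) hz.2⟩
      have h1 : z ∈ Subgroup.centralizer (U : Set Ω) :=
        Subgroup.centralizer_le (SetLike.coe_subset_coe.mpr hUS) hz.2
      exact Subgroup.centralizer_le_normalizer _ h1
    have key := IH (normalizerIn S U) hTS hT1 (card_lt_of_lt'' hTlt) (nsys F U hUS) hNsat
      (interSys (nsys F U hUS) E hTS) (fun P φ hφ => hφ.1) ?_ ?_
    · obtain ⟨P, φ, hφ, hφE⟩ := hUb
      exact hφE (key P hφ).2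
    · -- centralizer maps
      intro P φ hφ
      refine ⟨hφ.1, hCE P ?_⟩
      exact centralizerHom_mono (powerClosure_mono p 1 hZle) (centralizerHom_of_subsystem hTS hNF hφ)
    · -- normalizer maps
      intro P φ hφ
      refine ⟨hφ.1, ?_⟩
      have h1 : φ ∈ F.normalizerHom (Cfsg.thompsonSubgroupAOf (normalizerIn S U)) P :=
        normalizerHom_nsys_subset (nsys_spec F U hUS) hφ
      have h2 := normalizerHom_sup_normal hV h1
      by_contra hE
      have hb : BadN F E (Cfsg.thompsonSubgroupAOf (normalizerIn S U) ⊔ V) := ⟨P, φ, h2, hE⟩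
      have hlt : V < Cfsg.thompsonSubgroupAOf (normalizerIn S U) ⊔ V := by
        refine lt_of_le_of_ne le_sup_right (fun h => ?_)
        exact thompson_not_le hS hVU.le hUS hVn hVc (le_sup_left.trans (le_of_eq h.symm))
      have h3 := (hmax _ hlt hb).1
      have h4 : normalizerIn S (normalizerIn S U) ≤
          normalizerIn S (Cfsg.thompsonSubgroupAOf (normalizerIn S U) ⊔ V) := by
        intro x hx
        exact ⟨hx.1, mem_normalizer_sup (normalizer_le_normalizer_thompsonSubgroupAOf _ hx.2) (hVn hx.1)⟩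
      haveI := hfinle _ (normalizerIn_le_S S (Cfsg.thompsonSubgroupAOf (normalizerIn S U) ⊔ V))
      have h5 := Subgroup.card_le_of_le h4
      have h6 := card_lt_card_normalizerIn hS hTlt
      omega

end Cfsg.Agent.Lib.Helper27.TF
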