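import Mathlib
import Cfsg.Agent.Lib.Helper27.TFFusC
import Cfsg.Agent.Lib.Helper27.LG2Model
import Cfsg.Agent.Lib.Helper18.FusThompson
import Cfsg.Agent.H5.QdFusion

set_option autoImplicit false

/-! Thompson factorization for fusion systems, part D: the constrained case, through a model. -/

namespace Cfsg.Agent.Lib.Helper27.TF

open Cfsg Cfsg.FusionSystem Cfsg.Agent.Lib.Helper27 Cfsg.Agent.H26 Cfsg.Agent.Lib.Helper27.LG
  Cfsg.Agent.Lib.Helper27.LG2 Cfsg.Agent.Lib.Helper18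

variable {Ω : Type*} [Group Ω] {S : Subgroup Ω} {G : Type*} [Group G]

/-- The image of the `p`-th powers of the centre. -/
theorem ext1_mem_powerClosure {ι : S →* G} (p : ℕ) {z : Ω}
    (hz : z ∈ Cfsg.powerClosure p 1 (S ⊓ Subgroup.centralizer (S : Set Ω))) :
    z ∈ S ∧ ext1 ι z ∈ Cfsg.powerClosure p 1
      (ι.range ⊓ Subgroup.centralizer ((ι.range : Subgroup G) : Set G)) := by
  unfold Cfsg.powerClosure at hz
  induction hz using Subgroup.closure_induction with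
  | mem y hy =>
    obtain ⟨x, hx', rfl⟩ := hy
    have hx := Subgroup.mem_inf.mp hx'
    refine ⟨S.pow_mem hx.1 _, ?_⟩
    have h1 : ext1 ι (x ^ p ^ 1) = (ι ⟨x, hx.1⟩) ^ p ^ 1 := by
      rw [ext1_of_mem ι (S.pow_mem hx.1 _), ← map_pow]
      rfl
    rw [h1]
    apply Subgroup.subset_closure
    refine ⟨ι ⟨x, hx.1⟩, Subgroup.mem_inf.mpr ⟨⟨_, rfl⟩, ?_⟩, rfl⟩
    rw [Subgroup.mem_centralizer_iff]
    rintro _ ⟨s, rfl⟩
    rw [← map_mul, ← map_mul]
    congr 1
    apply Subtype.ext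
    exact Subgroup.mem_centralizer_iff.mp hx.2 s s.2
  | one => exact ⟨S.one_mem, by rw [ext1_one]; exact Subgroup.one_mem _⟩
  | mul a b _ _ iha ihb =>
    exact ⟨S.mul_mem iha.1 ihb.1, by rw [ext1_mul ι iha.1 ihb.1]; exact Subgroup.mul_mem _ iha.2 ihb.2⟩
  | inv a _ iha =>
    exact ⟨S.inv_mem iha.1, by rw [ext1_inv ι iha.1]; exact Subgroup.inv_mem _ iha.2⟩

/-- Conjugation into the range, on a join. -/
theorem conj_mem_range_sup {ι : S →* G} (l : G) {P R : Subgroup Ω} (hP : P ≤ S) (hR : R ≤ S)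
    (h1 : ∀ x ∈ P, l * ext1 ι x * l⁻¹ ∈ ι.range) (h2 : ∀ x ∈ R, l * ext1 ι x * l⁻¹ ∈ ι.range) :
    ∀ x ∈ P ⊔ R, l * ext1 ι x * l⁻¹ ∈ ι.range := by
  have key : P ⊔ R ≤ pullback ι ((ι.range).comap (MulAut.conj l).toMonoidHom) := by
    apply sup_le
    · intro x hx
      rw [mem_pullback_iff]
      exact ⟨hP hx, h1 x hx⟩
    · intro x hx
      rw [mem_pullback_iff]
      exact ⟨hR hx, h2 x hx⟩
  intro x hx
  exact (mem_pullback_iff.mp (key hx)).2

/-- Conjugation by an element centralizing the image of `Z ≤ Z(S)` is a centralizer map. -/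
theorem rconj_mem_centralizerHom {F : FusionSystem S} {ι : S →* G} (hreal : F.IsRealizedBy ι)
    {Z : Subgroup Ω} (hZ : Z ≤ S ⊓ Subgroup.centralizer (S : Set Ω)) {l : G}
    (hl : ∀ z ∈ Z, l * ext1 ι z * l⁻¹ = ext1 ι z) {P : Subgroup Ω} (hP : P ≤ S)
    (h : ∀ x ∈ P, l * ext1 ι x * l⁻¹ ∈ ι.range) :
    rconj hreal.1 l hP h ∈ F.centralizerHom Z P := by
  have hZS : Z ≤ S := hZ.trans inf_le_left
  have hScen : S ≤ centralizerIn S Z := by
    intro s hs
    refine Subgroup.mem_inf.mpr ⟨hs, ?_⟩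
    rw [Subgroup.mem_centralizer_iff]
    intro z hz
    exact (Subgroup.mem_centralizer_iff.mp (Subgroup.mem_inf.mp (hZ hz)).2 s hs).symm
  have h2 : ∀ x ∈ P ⊔ Z, l * ext1 ι x * l⁻¹ ∈ ι.range :=
    conj_mem_range_sup l hP hZS h (fun z hz => by rw [hl z hz]; exact ext1_mem_range ι (hZS hz))
  have hPZ : P ⊔ Z ≤ S := sup_le hP hZS
  refine ⟨rconj_mem_hom hreal l hP h, hP.trans hScen, fun x => hScen (rconj_mem hreal.1 l hP h x),
    rconj hreal.1 l hPZ h2, rconj_mem_hom hreal l hPZ h2, fun x => ?_, fun z => ?_⟩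
  · apply ext1_inj hreal.1 (rconj_mem hreal.1 l hPZ h2 _) (rconj_mem hreal.1 l hP h x)
    rw [ext1_rconj, ext1_rconj]
    rfl
  · apply ext1_inj hreal.1 (rconj_mem hreal.1 l hPZ h2 _) (hZS z.2)
    rw [ext1_rconj]
    exact hl z z.2

/-- Conjugation by an element normalizing the image of `R ⊴ S` is a normalizer map. -/
theorem rconj_mem_normalizerHom [Finite S] {F : FusionSystem S} {ι : S →* G} (hreal : F.IsRealizedBy ι)
    {R : Subgroup Ω} (hRS : R ≤ S) (hRn : normalizerIn S R = S) {n : G}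
    (hn : ∀ r ∈ R, ∃ r' ∈ R, n * ext1 ι r * n⁻¹ = ext1 ι r') {P : Subgroup Ω} (hP : P ≤ S)
    (h : ∀ x ∈ P, n * ext1 ι x * n⁻¹ ∈ ι.range) :
    rconj hreal.1 n hP h ∈ F.normalizerHom R P := by
  haveI : Finite ↥R := Finite.of_injective (Subgroup.inclusion hRS) (Subgroup.inclusion_injective hRS)
  have h2 : ∀ x ∈ P ⊔ R, n * ext1 ι x * n⁻¹ ∈ ι.range :=
    conj_mem_range_sup n hP hRS h (fun r hr => by
      obtain ⟨r', hr', e⟩ := hn r hr
      rw [e]
      exact ext1_mem_range ι (hRS hr'))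
  have hPR : P ⊔ R ≤ S := sup_le hP hRS
  have hψ : rconj hreal.1 n hPR h2 ∈ F.Hom (P ⊔ R) := rconj_mem_hom hreal n hPR h2
  have hψn : rconj hreal.1 n hPR h2 ∈ F.normalizerHom R (P ⊔ R) := by
    apply mem_normalizerHom_of_preserves F le_sup_right (by rw [hRn]; exact hPR) hψ
    intro x hx
    obtain ⟨r', hr', e⟩ := hn x hx
    have h3 : rconj hreal.1 n hPR h2 x = r' := by
      apply ext1_inj hreal.1 (rconj_mem hreal.1 n hPR h2 x) (hRS hr')
      rw [ext1_rconj]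
      exact e
    rw [h3]
    exact hr'
  have h1 : (rconj hreal.1 n hPR h2).comp (Subgroup.inclusion le_sup_left) ∈ (nsys F R hRS).Hom P :=
    hom_restrict (nsys F R hRS) le_sup_left hψn
  have h3 : (rconj hreal.1 n hPR h2).comp (Subgroup.inclusion le_sup_left) = rconj hreal.1 n hP h := by
    ext x
    apply ext1_inj hreal.1 (rconj_mem hreal.1 n hPR h2 _) (rconj_mem hreal.1 n hP h x)
    show ext1 ι (rconj hreal.1 n hPR h2 (Subgroup.inclusion le_sup_left x)) = _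
    rw [ext1_rconj, ext1_rconj]
    rfl
  rw [h3] at h1
  exact h1

end Cfsg.Agent.Lib.Helper27.TF
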