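import Mathlib
import Cfsg.Agent.Lib.Helper27.TFFusD

set_option autoImplicit false

/-! Thompson factorization for fusion systems, part E: the constrained case. -/

namespace Cfsg.Agent.Lib.Helper27.TF

open Cfsg Cfsg.FusionSystem Cfsg.Agent.Lib.Helper27 Cfsg.Agent.H26 Cfsg.Agent.Lib.Helper27.LG
  Cfsg.Agent.Lib.Helper27.LG2 Cfsg.Agent.Lib.Helper18

variable {Ω : Type*} [Group Ω] {S : Subgroup Ω} {G : Type*} [Group G]

theorem normalizerIn_thompson_eq (S : Subgroup Ω) :
    normalizerIn S (Cfsg.thompsonSubgroupAOf S) = S :=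
  le_antisymm inf_le_left (fun _ hs =>
    ⟨hs, normalizer_le_normalizer_thompsonSubgroupAOf S (Subgroup.le_normalizer hs)⟩)

theorem map_subgroupOf_pullback {ι : S →* G} {N : Subgroup G} (hN : N ≤ ι.range) :
    ((pullback ι N).subgroupOf S).map ι = N := by
  ext y
  constructor
  · rintro ⟨x, hx, rfl⟩
    have h1 := mem_pullback.mp (Subgroup.mem_subgroupOf.mp hx)
    obtain ⟨h2, h3⟩ := h1
    exact h3
  · intro hy
    obtain ⟨x, rfl⟩ := hN hy
    exact ⟨x, Subgroup.mem_subgroupOf.mpr (mem_pullback.mpr ⟨x.2, hy⟩), rfl⟩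

theorem card_pullback {ι : S →* G} (hinj : Function.Injective ι) {N : Subgroup G} (hN : N ≤ ι.range) :
    Nat.card (pullback ι N) = Nat.card N := by
  have h1 := Subgroup.card_map_of_injective (f := ι) (K := (pullback ι N).subgroupOf S) hinj
  rw [map_subgroupOf_pullback hN] at h1
  rw [h1]
  exact (Nat.card_congr (Subgroup.subgroupOfEquivOfLe (pullback_le ι N)).toEquiv).symm

/-- **The constrained case.** -/
theorem model_step [Finite S] {p : ℕ} [Fact p.Prime] {F : FusionSystem S} {ι : S →* G}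
    (hG : F.IsModel p G ι) (E : FusionSystem S)
    (hCE : ∀ P : Subgroup Ω, F.centralizerHom
      (Cfsg.powerClosure p 1 (S ⊓ Subgroup.centralizer (S : Set Ω))) P ⊆ E.Hom P)
    (hNE : ∀ P : Subgroup Ω, F.normalizerHom (Cfsg.thompsonSubgroupAOf S) P ⊆ E.Hom P)
    (hRE : ∀ R : Subgroup Ω, R ≤ S → normalizerIn S R = S →
      Nat.card (Cfsg.pCore p G) < Nat.card R → ∀ P : Subgroup Ω, F.normalizerHom R P ⊆ E.Hom P) :
    ∀ P : Subgroup Ω, F.Hom P ⊆ E.Hom P := by
  haveI := hG.1
  have hreal := hG.2.1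
  have hinj := hreal.1
  obtain ⟨Sy, hSy⟩ := hG.2.2.1
  have hchar := hG.2.2.2
  obtain ⟨L, hLn, hLC, hL⟩ := group_core Sy hchar
  rw [hSy] at hLC hL
  have hQr : Cfsg.pCore p G ≤ ι.range := model_pCore_le_range hG
  intro P φ hφ
  obtain ⟨hPS, hφS, g, hg⟩ := (realized_hom_iff hreal φ).mp hφ
  obtain ⟨B, hB⟩ : ∃ B : Subgroup G, B = (P.subgroupOf S).map ι := ⟨_, rfl⟩
  have hBmem : ∀ x ∈ P, ext1 ι x ∈ B := by
    intro x hx
    rw [hB, ext1_of_mem ι (hPS hx)]
    exact ⟨⟨x, hPS hx⟩, Subgroup.mem_subgroupOf.mpr hx, rfl⟩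
  have hBS : B ≤ (Sy : Subgroup G) := by
    rw [hSy, hB]
    rintro _ ⟨x, -, rfl⟩
    exact ⟨x, rfl⟩
  have hgB : ∀ b ∈ B, g * b * g⁻¹ ∈ (Sy : Subgroup G) := by
    rw [hB]
    rintro _ ⟨x, hx, rfl⟩
    rw [hSy]
    have h1 := hg ⟨x, Subgroup.mem_subgroupOf.mp hx⟩
    rw [ext1_coe] at h1
    rw [← h1]
    exact ext1_mem_range ι (hφS _)
  obtain ⟨l, hlL, n, hn, hgnl, hlB⟩ := Cfsg.H5.QdF.frattini_fusion Sy L B hBS g hgB
  rw [hSy] at hn
  -- the first factor
  have h_l : ∀ x ∈ P, l * ext1 ι x * l⁻¹ ∈ ι.range := fun x hx => hSy ▸ hlB _ (hBmem x hx)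
  have hZ : Cfsg.powerClosure p 1 (S ⊓ Subgroup.centralizer (S : Set Ω)) ≤
      S ⊓ Subgroup.centralizer (S : Set Ω) := powerClosure_le p 1 _
  have hlz : ∀ z ∈ Cfsg.powerClosure p 1 (S ⊓ Subgroup.centralizer (S : Set Ω)),
      l * ext1 ι z * l⁻¹ = ext1 ι z := by
    intro z hz
    have h1 := (ext1_mem_powerClosure (ι := ι) p hz).2
    have h2 := Subgroup.mem_centralizer_iff.mp (hLC hlL) _ h1
    rw [← h2]
    group
  have hφlE : rconj hinj l hPS h_l ∈ E.Hom P :=
    hCE P (rconj_mem_centralizerHom hreal hZ hlz hPS h_l)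
  -- the second factor
  have hP₁S : (rconj hinj l hPS h_l).range ≤ S := by
    rintro _ ⟨x, rfl⟩
    exact rconj_mem hinj l hPS h_l x
  have h_n : ∀ y ∈ (rconj hinj l hPS h_l).range, n * ext1 ι y * n⁻¹ ∈ ι.range := by
    rintro _ ⟨x, rfl⟩
    rw [ext1_rconj]
    have h1 := hg x
    have h2 : n * (l * ext1 ι (x : Ω) * l⁻¹) * n⁻¹ = g * ext1 ι (x : Ω) * g⁻¹ := by
      rw [hgnl]; group
    rw [h2, ← h1]
    exact ext1_mem_range ι (hφS x)
  have hφnE : rconj hinj n hP₁S h_n ∈ E.Hom (rconj hinj l hPS h_l).range := by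
    rcases hL with hL | hL
    · apply hNE
      apply rconj_mem_normalizerHom hreal (thompsonSubgroupAOf_le' S) (normalizerIn_thompson_eq S)
      intro r hr
      have hrS : r ∈ S := thompsonSubgroupAOf_le' S hr
      have h1 : ext1 ι r ∈ Cfsg.thompsonSubgroupAOf ι.range := by
        rw [← Cfsg.Agent.Lib.Helper18.FusFree.map_thompsonSubgroupAOf hinj, ext1_of_mem ι hrS]
        exact ⟨⟨r, hrS⟩, Subgroup.mem_subgroupOf.mpr hr, rfl⟩
      have h2 := (Subgroup.mem_normalizer_iff.mp (hL hn) _).mp h1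
      rw [← Cfsg.Agent.Lib.Helper18.FusFree.map_thompsonSubgroupAOf hinj] at h2
      obtain ⟨r', hr', e⟩ := h2
      exact ⟨(r' : Ω), Subgroup.mem_subgroupOf.mp hr', by rw [ext1_coe]; exact e.symm⟩
    · obtain ⟨N, hN⟩ : ∃ N : Subgroup G, N = (ι.range ⊓ L) ⊔ Cfsg.pCore p G := ⟨_, rfl⟩
      have hNr : N ≤ ι.range := by
        rw [hN]
        exact sup_le inf_le_left hQr
      haveI hQn : (Cfsg.pCore p G).Normal := Cfsg.Agent.Lib.Helper16.pCore_normal
      have hQN : Cfsg.pCore p G ≤ N := by rw [hN]; exact le_sup_right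
      have hQlt : Cfsg.pCore p G < N := by
        refine lt_of_le_of_ne hQN (fun h => hL ?_)
        rw [h, hN]
        exact le_sup_left
      -- elements of the range normalize `N`
      have hrn : ∀ t ∈ ι.range, t ∈ Subgroup.normalizer (N : Set G) := by
        intro t ht
        rw [hN]
        apply mem_normalizer_sup
        · apply mem_normalizer_of_conj_mem'
          · intro w hw
            exact ⟨Subgroup.mul_mem _ (Subgroup.mul_mem _ ht hw.1) (Subgroup.inv_mem _ ht),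
              hLn.conj_mem w hw.2 t⟩
          · intro w hw
            have h1 := hLn.conj_mem w hw.2 t⁻¹
            rw [inv_inv] at h1
            exact ⟨Subgroup.mul_mem _ (Subgroup.mul_mem _ (Subgroup.inv_mem _ ht) hw.1) ht, h1⟩
        · rw [Subgroup.normalizer_eq_top_iff.mpr hQn]
          exact Subgroup.mem_top t
      have hnN : n ∈ Subgroup.normalizer (N : Set G) := by
        rw [hN]
        apply mem_normalizer_sup hn
        rw [Subgroup.normalizer_eq_top_iff.mpr hQn]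
        exact Subgroup.mem_top n
      have hRS : pullback ι N ≤ S := pullback_le ι N
      have hRn : normalizerIn S (pullback ι N) = S := by
        apply le_antisymm inf_le_left
        intro s hs
        refine ⟨hs, ?_⟩
        have key : ∀ s ∈ S, ∀ w ∈ pullback ι N, s * w * s⁻¹ ∈ pullback ι N := by
          intro s hs w hw
          obtain ⟨hwS, hwN⟩ := mem_pullback_iff.mp hw
          rw [mem_pullback_iff]
          refine ⟨S.mul_mem (S.mul_mem hs hwS) (S.inv_mem hs), ?_⟩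
          rw [ext1_mul ι (S.mul_mem hs hwS) (S.inv_mem hs), ext1_mul ι hs hwS, ext1_inv ι hs]
          exact (Subgroup.mem_normalizer_iff.mp (hrn _ (ext1_mem_range ι hs)) _).mp hwN
        apply mem_normalizer_of_conj_mem'
        · exact key s hs
        · intro w hw
          have := key s⁻¹ (S.inv_mem hs) w hw
          rwa [inv_inv] at this
      have hcard : Nat.card (Cfsg.pCore p G) < Nat.card (pullback ι N) := by
        rw [card_pullback hinj hNr]
        exact card_lt_of_lt'' hQlt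
      apply hRE (pullback ι N) hRS hRn hcard
      apply rconj_mem_normalizerHom hreal hRS hRn _ hP₁S h_n
      intro r hr
      obtain ⟨hrS, hrN⟩ := mem_pullback_iff.mp hr
      have h2 := (Subgroup.mem_normalizer_iff.mp hnN _).mp hrN
      obtain ⟨r', hr'S, e⟩ := exists_ext1_eq (hNr h2)
      refine ⟨r', mem_pullback_iff.mpr ⟨hr'S, by rw [e]; exact h2⟩, e.symm⟩
  -- composition
  have hcomp := E.comp_mem hφlE hφnE (fun x => ⟨x, rfl⟩)
  have heq : (rconj hinj n hP₁S h_n).comp
      ((rconj hinj l hPS h_l).codRestrict (rconj hinj l hPS h_l).range (fun x => ⟨x, rfl⟩)) = φ := by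
    ext x
    apply ext1_inj hinj (rconj_mem hinj n hP₁S h_n _) (hφS x)
    show ext1 ι (rconj hinj n hP₁S h_n _) = _
    rw [ext1_rconj]
    show n * ext1 ι (rconj hinj l hPS h_l x) * n⁻¹ = _
    rw [ext1_rconj, hg x, hgnl]
    group
  rw [heq] at hcomp
  exact hcomp

end Cfsg.Agent.Lib.Helper27.TF
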