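import Mathlib
import Cfsg.Agent.Lib.Helper27.TFFusE
import Cfsg.Agent.Lib.Helper27.ModelMain

set_option autoImplicit false

/-! Thompson factorization for fusion systems, part F: the theorem
`F = ⟨C_F(℧¹ Z(S)), N_F(J(S))⟩` for every saturated fusion system over `S ≠ 1`. -/

namespace Cfsg.Agent.Lib.Helper27.TF

open Cfsg Cfsg.FusionSystem Cfsg.Agent.Lib.Helper27 Cfsg.Agent.H26 Cfsg.Agent.Lib.Helper27.LG
  Cfsg.Agent.Lib.Helper27.LG2 Cfsg.Agent.Lib.Helper18

universe u

variable {Ω : Type u} [Group Ω]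

theorem center_le_center_normalizerIn {S U : Subgroup Ω} (hUS : U ≤ S) :
    S ⊓ Subgroup.centralizer (S : Set Ω) ≤
      normalizerIn S U ⊓ Subgroup.centralizer ((normalizerIn S U : Subgroup Ω) : Set Ω) := by
  intro z hz
  have hz' := Subgroup.mem_inf.mp hz
  have hTS : normalizerIn S U ≤ S := inf_le_left
  refine Subgroup.mem_inf.mpr ⟨Subgroup.mem_inf.mpr ⟨hz'.1, ?_⟩,
    Subgroup.centralizer_le (SetLike.coe_subset_coe.mpr hTS) hz'.2⟩
  have h1 : z ∈ Subgroup.centralizer (U : Set Ω) :=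
    Subgroup.centralizer_le (SetLike.coe_subset_coe.mpr hUS) hz'.2
  exact Subgroup.centralizer_le_normalizer _ h1

/-- Automorphisms of `S` in the system are normalizer maps of `J(S)`. -/
theorem aut_top_mem_normalizerHom_thompson {S : Subgroup Ω} [Finite S] (F : FusionSystem S)
    {α : S ≃* S} (hα : IsIso F α) :
    S.subtype.comp α.toMonoidHom ∈ F.normalizerHom (Cfsg.thompsonSubgroupAOf S) S := by
  have hJS : Cfsg.thompsonSubgroupAOf S ≤ S := thompsonSubgroupAOf_le' S
  haveI : Finite ↥(Cfsg.thompsonSubgroupAOf S) :=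
    Finite.of_injective (Subgroup.inclusion hJS) (Subgroup.inclusion_injective hJS)
  refine mem_normalizerHom_of_preserves F hJS ?_ hα ?_
  · rw [normalizerIn_thompson_eq S]
  · intro x hx
    have h1 : (Cfsg.thompsonSubgroupAOf S).subgroupOf S = Cfsg.thompsonSubgroupA S := by
      unfold Cfsg.thompsonSubgroupAOf Subgroup.subgroupOf
      exact Subgroup.comap_map_eq_self_of_injective S.subtype_injective _
    have hchar : ((Cfsg.thompsonSubgroupAOf S).subgroupOf S).Characteristic := by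
      rw [h1]
      exact thompsonA_characteristic _
    have h2 := Subgroup.characteristic_iff_map_eq.mp hchar α
    have h3 : α x ∈ ((Cfsg.thompsonSubgroupAOf S).subgroupOf S).map α.toMonoidHom :=
      ⟨x, Subgroup.mem_subgroupOf.mpr hx, rfl⟩
    rw [h2] at h3
    exact Subgroup.mem_subgroupOf.mp h3

theorem main_aux (p : ℕ) [Fact p.Prime] : ∀ (n : ℕ) (S : Subgroup Ω) [Finite S],
    Nat.card S = n → IsPGroup p S → S ≠ ⊥ → Holds p S := by
  intro n
  induction n using Nat.strong_induction_on with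
  | _ n IH =>
  intro S _ hn hS hS1 F hF E hEF hCE hNE
  by_contra hne
  have hfinle : ∀ X : Subgroup Ω, X ≤ S → Finite ↥X := fun X hX =>
    Finite.of_injective (Subgroup.inclusion hX) (Subgroup.inclusion_injective hX)
  have IH' : ∀ T : Subgroup Ω, T ≤ S → T ≠ ⊥ → Nat.card T < Nat.card S → Holds p T := by
    intro T hT hT1 hc
    haveI := hfinle T hT
    exact IH (Nat.card T) (hn ▸ hc) T rfl (hS.to_le hT) hT1
  have htop : ∀ α : S ≃* S, IsIso F α → IsIso E α := fun α hα =>
    hNE S (aut_top_mem_normalizerHom_thompson F hα)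
  -- a bad nontrivial subgroup normal in `S`
  have hbot : ¬ centralizerIn S (⊥ : Subgroup Ω) ≤ ⊥ := by
    intro h
    apply hS1
    rw [eq_bot_iff]
    intro s hs
    apply h
    refine Subgroup.mem_inf.mpr ⟨hs, ?_⟩
    rw [Subgroup.mem_centralizer_iff]
    intro x hx
    have hx1 : x = 1 := Subgroup.mem_bot.mp hx
    rw [hx1, one_mul, mul_one]
  obtain ⟨R₁, hR₁1, hR₁S, hR₁n, hR₁b⟩ :=
    exists_normal_bad hS IH' hF (Fus.isNormal_bot F) hbot E hEF hCE htop hne
  have hfin : {R : Subgroup Ω | ⊥ < R ∧ R ≤ S ∧ normalizerIn S R = S ∧ BadN F E R}.Finite :=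
    (finite_setOf_le S).subset (fun R hR => hR.2.1)
  obtain ⟨V, ⟨hV1, hVS, hVn, hVb⟩, hVmax⟩ := Set.exists_max_image _
    (fun R : Subgroup Ω => Nat.card R) hfin ⟨R₁, hR₁1, hR₁S, hR₁n, hR₁b⟩
  haveI := hfinle V hVS
  have hVfn : F.IsFullyNormalized V := isFullyNormalized_of_normal F hVS hVn
  -- the normalizer system
  have hTS : normalizerIn S V ≤ S := inf_le_left
  haveI := hfinle _ hTS
  have hTp : IsPGroup p ↥(normalizerIn S V) := hS.to_le hTS
  have hNsat : (nsys F V hVS).IsSaturated p :=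
    normalizerSystem_saturated hS hF hVfn _ (nsys_spec F V hVS)
  have hNF : ∀ P : Subgroup Ω, (nsys F V hVS).Hom P ⊆ F.Hom P :=
    normalizerSystem_hom_subset (nsys_spec F V hVS)
  have hVN : (nsys F V hVS).IsNormal V := normalizerSystem_isNormal hVS (nsys_spec F V hVS)
  have hcardT : Nat.card ↥(normalizerIn S V) = Nat.card S := by rw [hVn]
  have IHT : ∀ T : Subgroup Ω, T ≤ normalizerIn S V → T ≠ ⊥ →
      Nat.card T < Nat.card ↥(normalizerIn S V) → Holds p T := by
    intro T hT hT1 hc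
    exact IH' T (hT.trans hTS) hT1 (hcardT ▸ hc)
  have hCE_T : ∀ P : Subgroup Ω, (nsys F V hVS).centralizerHom
      (Cfsg.powerClosure p 1 (normalizerIn S V ⊓
        Subgroup.centralizer ((normalizerIn S V : Subgroup Ω) : Set Ω))) P ⊆
      (interSys (nsys F V hVS) E hTS).Hom P := by
    intro P φ hφ
    refine ⟨hφ.1, hCE P ?_⟩
    exact centralizerHom_mono (powerClosure_mono p 1 (center_le_center_normalizerIn hVS))
      (centralizerHom_of_subsystem hTS hNF hφ)
  have hNE_T : ∀ P : Subgroup Ω, (nsys F V hVS).normalizerHom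
      (Cfsg.thompsonSubgroupAOf (normalizerIn S V)) P ⊆ (interSys (nsys F V hVS) E hTS).Hom P := by
    intro P φ hφ
    refine ⟨hφ.1, hNE P ?_⟩
    have h1 : φ ∈ F.normalizerHom (Cfsg.thompsonSubgroupAOf (normalizerIn S V)) P :=
      normalizerHom_nsys_subset (nsys_spec F V hVS) hφ
    rw [hVn] at h1
    exact h1
  have htop_T : ∀ α : ↥(normalizerIn S V) ≃* ↥(normalizerIn S V),
      IsIso (nsys F V hVS) α → IsIso (interSys (nsys F V hVS) E hTS) α := fun α hα =>
    hNE_T _ (aut_top_mem_normalizerHom_thompson _ hα)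
  have hne_T : ¬ ∀ P : Subgroup Ω, (nsys F V hVS).Hom P ⊆ (interSys (nsys F V hVS) E hTS).Hom P := by
    intro h
    obtain ⟨P, φ, hφ, hφE⟩ := hVb
    exact hφE (h P hφ).2
  -- bad subgroups of the normalizer system are bad
  have hbadT : ∀ R : Subgroup Ω, R ≤ normalizerIn S V → normalizerIn (normalizerIn S V) R = normalizerIn S V →
      ∀ (P : Subgroup Ω) (φ : P →* Ω), φ ∈ (nsys F V hVS).normalizerHom R P → φ ∉ E.Hom P →
      ⊥ < R → Nat.card R ≤ Nat.card V := by
    intro R hRT hRn P φ hφ hφE hR1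
    apply hVmax R
    refine ⟨hR1, hRT.trans hTS, ?_, P, φ, normalizerHom_nsys_subset (nsys_spec F V hVS) hφ, hφE⟩
    apply le_antisymm inf_le_left
    intro s hs
    have hs' : s ∈ normalizerIn S V := by rw [hVn]; exact hs
    rw [← hRn] at hs'
    exact ⟨hs, hs'.2⟩
  by_cases hcen : centralizerIn S V ≤ V
  · -- constrained
    have hVc : (nsys F V hVS).IsCentric V := by
      refine ⟨le_normalizerIn hVS, fun Q hQ => ?_⟩
      have hQV : Q = V := weaklyClosed_eq_of_isConj (normal_weaklyClosed hVN) hQ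
      rw [hQV]
      intro x hx
      exact hcen ⟨hTS hx.1, hx.2⟩
    obtain ⟨G, _, ι, hG⟩ := Mod.exists_model hTp ⟨hNsat, V, hVN, hVc⟩
    haveI := hG.1
    apply hne_T
    apply model_step hG (interSys (nsys F V hVS) E hTS) hCE_T hNE_T
    intro R hRT hRn hcard P φ hφ
    refine ⟨hφ.1, ?_⟩
    by_contra hφE
    have hQr : Cfsg.pCore p G ≤ ι.range := model_pCore_le_range hG
    have h1 : V ≤ pullback ι (Cfsg.pCore p G) := by
      intro v hv
      rw [mem_pullback_iff]
      exact ⟨le_normalizerIn hVS hv, model_normal_le_pCore hG hVN hv⟩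
    haveI : Finite ↥(pullback ι (Cfsg.pCore p G)) :=
      Finite.of_injective (Subgroup.inclusion (pullback_le ι _)) (Subgroup.inclusion_injective _)
    have h2 : Nat.card V ≤ Nat.card (Cfsg.pCore p G) := by
      rw [← card_pullback hG.2.1.1 hQr]
      exact Subgroup.card_le_of_le h1
    have hR1 : ⊥ < R := by
      rw [bot_lt_iff_ne_bot]
      rintro rfl
      rw [Subgroup.card_bot] at hcard
      have : 0 < Nat.card (Cfsg.pCore p G) := Nat.card_pos
      omega
    have h3 := hbadT R hRT hRn P φ hφ hφE hR1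
    omega
  · -- not constrained
    obtain ⟨R, hVR, hRT, hRn, P, φ, hφ, hφE⟩ :=
      exists_normal_bad hTp IHT hNsat hVN (fun h => hcen (fun x hx => h ⟨by rw [hVn]; exact hx.1, hx.2⟩))
        (interSys (nsys F V hVS) E hTS) (fun P φ hφ => hφ.1) hCE_T htop_T hne_T
    have hφE' : φ ∉ E.Hom P := fun h => hφE ⟨hφ.1, h⟩
    have h3 := hbadT R hRT hRn P φ hφ hφE' (lt_of_le_of_lt bot_le hVR)
    haveI := hfinle R (hRT.trans hTS)
    have h4 := card_lt_of_lt'' hVR
    omega

/-- **Thompson factorization for fusion systems.** -/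
theorem main {S : Subgroup Ω} [Finite S] {p : ℕ} [Fact p.Prime] (hS : IsPGroup p S) (hS1 : S ≠ ⊥) :
    Holds p S :=
  main_aux p _ S rfl hS hS1

end Cfsg.Agent.Lib.Helper27.TF
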