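import Mathlib
import Cfsg.Agent.Lib.Helper27.FusionNormal
import Cfsg.Agent.Lib.Helper27.FusionNormalCrit
import Cfsg.Agent.Lib.Helper27.FusionUCS
import Cfsg.Agent.H26.TrH
import Cfsg.Agent.H26.Invariant

set_option autoImplicit false

/-! The largest normal subgroup of a weakly normal subsystem is normal in the ambient system. -/

namespace Cfsg.Agent.Lib.Helper27.TS

open Cfsg Cfsg.FusionSystem Cfsg.Agent.Lib.Helper27 Cfsg.Agent.H26 Cfsg.Agent.H26.Tr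

variable {Ω : Type*} [Group Ω] {S T : Subgroup Ω}

/-- `Aut_F(T)` preserves the largest normal subgroup of a subsystem over `T` satisfying the invariance
condition. -/
theorem core_aut_mem [Finite T] {E : FusionSystem T} {F : FusionSystem S} (hInv : InvCond E F)
    {α : MulAut T} (hα : α ∈ F.autGroup T) (x : T) (hx : (x : Ω) ∈ E.core) :
    ((α x : T) : Ω) ∈ E.core := by
  have h1 := core_image (isFactor_self_of_invCond hInv hα)
  rw [h1]
  exact ⟨x, Subgroup.mem_subgroupOf.mpr hx, rfl⟩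

/-- **The largest normal subgroup of a weakly normal subsystem is normal in the ambient system.** -/
theorem core_isNormal_of_weaklyNormal [Finite S] {p : ℕ} [Fact p.Prime] (hS : IsPGroup p S)
    {E : FusionSystem T} {F : FusionSystem S} (hE : E.IsWeaklyNormalIn F p) : F.IsNormal E.core := by
  obtain ⟨hEsat, hF, hEF, hTsc, hInv, hFrat⟩ := hE
  have hTS : T ≤ S := hTsc.1
  haveI : Finite T := Finite.of_injective (Subgroup.inclusion hTS) (Subgroup.inclusion_injective hTS)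
  set Q := E.core with hQdef
  have hQE : E.IsNormal Q := isNormal_core E
  have hQT : Q ≤ T := hQE.1
  have hQS : Q ≤ S := hQT.trans hTS
  haveI : Finite Q := Finite.of_injective (Subgroup.inclusion hQS) (Subgroup.inclusion_injective hQS)
  have hpQ : IsPGroup p Q := hS.of_injective (Subgroup.inclusion hQS) (Subgroup.inclusion_injective hQS)
  have hQsc : F.StronglyClosed Q := by
    refine ⟨hQS, fun R hR φ hφ x => ?_⟩
    obtain ⟨α, hα, φ₀, hφ₀, h⟩ := hFrat R (hR.trans hQT) φ hφ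
    have hφ₀T : ∀ y : R, φ₀ y ∈ T := (E.le_of_mem hφ₀).2
    rw [h x (hφ₀T x)]
    exact core_aut_mem hInv hα _ ((normal_stronglyClosed hQE).2 R hR φ₀ hφ₀ x)
  obtain ⟨n, hn⟩ := exists_ucs_eq hpQ
  refine isNormal_of_central_series hS hF hQsc (fun j => ucs Q j) n (ucs_zero Q) hn
    (fun j _ => ucs_le Q j) (fun j _ => ?_) (fun j _ x hx q hq => ucs_comm_mem Q j hx hq)
  apply ucs_weaklyClosed F hQS
  intro φ hφ
  obtain ⟨α, hα, φ₀, hφ₀, h⟩ := hFrat (ucs Q j) ((ucs_le Q j).trans hQT) φ hφ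
  have hφ₀T : ∀ y : ucs Q j, φ₀ y ∈ T := (E.le_of_mem hφ₀).2
  obtain ⟨ψ, -, hψφ, β, -, hβψ⟩ := normal_exists_extension hQE hφ₀
  -- the restriction of `α` to `Q`
  have hαQ : ∀ y : Q, ((α ⟨y, hQT y.2⟩ : T) : Ω) ∈ Q := fun y => core_aut_mem hInv hα _ y.2
  have hαinvQ : ∀ y : Q, ((α⁻¹ ⟨y, hQT y.2⟩ : T) : Ω) ∈ Q :=
    fun y => core_aut_mem hInv (Subgroup.inv_mem _ hα) _ y.2
  let a : Q ≃* Q :=
    { toFun := fun y => ⟨_, hαQ y⟩
      invFun := fun y => ⟨_, hαinvQ y⟩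
      left_inv := fun y => by
        apply Subtype.ext
        show ((α⁻¹ ⟨((α ⟨y, hQT y.2⟩ : T) : Ω), _⟩ : T) : Ω) = y
        have : (⟨((α ⟨y, hQT y.2⟩ : T) : Ω), hQT (hαQ y)⟩ : T) = α ⟨y, hQT y.2⟩ := Subtype.ext rfl
        rw [this, MulAut.inv_apply_self]
      right_inv := fun y => by
        apply Subtype.ext
        show ((α ⟨((α⁻¹ ⟨y, hQT y.2⟩ : T) : Ω), _⟩ : T) : Ω) = y
        have : (⟨((α⁻¹ ⟨y, hQT y.2⟩ : T) : Ω), hQT (hαinvQ y)⟩ : T) = α⁻¹ ⟨y, hQT y.2⟩ := Subtype.ext rfl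
        rw [this, MulAut.apply_inv_self]
      map_mul' := fun y z => by
        apply Subtype.ext
        show ((α ⟨((y * z : Q) : Ω), _⟩ : T) : Ω) = ((α ⟨y, hQT y.2⟩ : T) : Ω) * ((α ⟨z, hQT z.2⟩ : T) : Ω)
        have : (⟨((y * z : Q) : Ω), hQT (y * z).2⟩ : T) = ⟨y, hQT y.2⟩ * ⟨z, hQT z.2⟩ := rfl
        rw [this, map_mul]
        rfl }
  refine ⟨β.trans a, fun x => ?_⟩
  rw [h x (hφ₀T x)]
  show _ = ((α ⟨((β ⟨x, ucs_le Q j x.2⟩ : Q) : Ω), _⟩ : T) : Ω)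
  congr 2
  apply Subtype.ext
  show φ₀ x = ((β ⟨x, ucs_le Q j x.2⟩ : Q) : Ω)
  rw [hβψ, ← hψφ x]
  rfl

end Cfsg.Agent.Lib.Helper27.TS
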