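import Mathlib
import Cfsg.Agent.Lib.Helper27.TSA
import Cfsg.Agent.Lib.Helper27.TSB
import Cfsg.Agent.Lib.Helper27.TSC
import Cfsg.Agent.Lib.Helper17.CharP
import Cfsg.Agent.Lib.Helper17.PResidual
import Cfsg.Agent.H26.Hyperfocal
import Cfsg.Agent.H26.PPowerNormal
import Cfsg.Agent.S5086
import Cfsg.Agent.S5255
import Cfsg.Agent.S5120

set_option autoImplicit false

/-! A saturated fusion system whose `p`-residual or `p'`-residual subsystem is constrained is
constrained. -/

namespace Cfsg.Agent.Lib.Helper27.TS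

open Cfsg Cfsg.FusionSystem Cfsg.Agent.Lib.Helper27 Cfsg.Agent.H26

variable {Ω : Type*} [Group Ω] {S : Subgroup Ω}

section Aut

variable [Finite S] {p : ℕ} [Fact p.Prime]

/-- A `p'`-automorphism in `E` of `R ≥ Q` fixing `Q ≤ hyp(E)` elementwise, where `Q` contains its
centralizer in `hyp(E)`, is trivial. -/
theorem aut_eq_one_of_centralizes (hS : IsPGroup p S) {E : FusionSystem S} {Q R : Subgroup Ω}
    (hQT : Q ≤ E.hyperfocalSubgroup p) (hQR : Q ≤ R) (hRS : R ≤ S)
    (hCT : ∀ x ∈ E.hyperfocalSubgroup p, (∀ q ∈ Q, q * x = x * q) → x ∈ Q)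
    (β : E.autGroup R) (hβo : (orderOf β).Coprime p)
    (hβQ : ∀ x : R, (x : Ω) ∈ Q → ((β : MulAut R) x) = x) : β = 1 := by
  haveI : Finite R := Finite.of_injective (Subgroup.inclusion hRS) (Subgroup.inclusion_injective hRS)
  have hpR : IsPGroup p R := hS.of_injective (Subgroup.inclusion hRS) (Subgroup.inclusion_injective hRS)
  set T := E.hyperfocalSubgroup p with hT
  set b : MulAut R := (β : MulAut R) with hb
  have hbo : (orderOf b).Coprime p := by rw [hb, Subgroup.orderOf_coe]; exact hβo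
  have hβT : ∀ x : R, (x : Ω)⁻¹ * ((b x : R) : Ω) ∈ T := fun x =>
    mem_hyperfocal E p hRS β (Cfsg.Agent.Lib.Helper17.mem_pResidual_of_coprime hβo) x
  set P : Subgroup R := T.subgroupOf R with hP
  set Q' : Subgroup R := Q.subgroupOf R with hQ'
  have hbP : ∀ x ∈ P, b x ∈ P := by
    intro x hx
    rw [hP, Subgroup.mem_subgroupOf] at hx ⊢
    have := T.mul_mem hx (hβT x)
    rwa [mul_inv_cancel_left] at this
  have hfix : ∀ x ∈ P, b x = x := by
    apply aut_fixes_of_AxB b hbo (hpR.to_subgroup P) (P := P) (Q := Q')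
    · intro x hx
      exact Subgroup.mem_subgroupOf.mpr (hQT (Subgroup.mem_subgroupOf.mp hx))
    · exact hbP
    · intro x hx
      exact hβQ x (Subgroup.mem_subgroupOf.mp hx)
    · intro x hx hq
      rw [hQ', Subgroup.mem_subgroupOf]
      apply hCT _ (Subgroup.mem_subgroupOf.mp hx)
      intro q hqQ
      have := hq ⟨q, hQR hqQ⟩ (Subgroup.mem_subgroupOf.mpr hqQ)
      exact congrArg Subtype.val this
  -- `b x = x * c x` with `c x ∈ P` fixed by `b`
  have hc : ∀ x : R, x⁻¹ * b x ∈ P := fun x => Subgroup.mem_subgroupOf.mpr (hβT x)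
  have hpow : ∀ (n : ℕ) (x : R), (b ^ n) x = x * (x⁻¹ * b x) ^ n := by
    intro n
    induction n with
    | zero => intro x; simp
    | succ n ih =>
      intro x
      rw [pow_succ', MulAut.mul_apply, ih, map_mul, map_pow, hfix _ (hc x), pow_succ', ← mul_assoc x,
        mul_inv_cancel_left]
  apply Subtype.ext
  show b = 1
  ext x
  have h1 := hpow (orderOf b) x
  rw [pow_orderOf_eq_one, MulAut.one_apply] at h1
  have h2 : (x⁻¹ * b x) ^ orderOf b = 1 := by
    have := mul_left_cancel (a := x) (b := 1) (c := (x⁻¹ * b x) ^ orderOf b) (by rw [mul_one]; exact h1)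
    exact this.symm
  obtain ⟨k, hk⟩ := (hpR.to_subgroup P) ⟨_, hc x⟩
  have hk' : (x⁻¹ * b x) ^ p ^ k = 1 := by
    have := congrArg Subtype.val hk
    simpa using this
  have h3 : orderOf (x⁻¹ * b x) ∣ 1 := by
    have hcop : (orderOf b).Coprime (p ^ k) := Nat.Coprime.pow_right k hbo
    rw [← hcop]
    exact Nat.dvd_gcd (orderOf_dvd_of_pow_eq_one h2) (orderOf_dvd_of_pow_eq_one hk')
  have h4 : x⁻¹ * b x = 1 := orderOf_eq_one_iff.mp (Nat.dvd_one.mp h3)
  have h5 : b x = x := by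
    have := congrArg (fun z => x * z) h4
    simpa using this
  rw [h5]; rfl

/-- The automorphisms in `E` of `R` fixing `Q` elementwise. -/
def fixAut (E : FusionSystem S) (R Q : Subgroup Ω) : Subgroup (E.autGroup R) where
  carrier := {β | ∀ x : R, (x : Ω) ∈ Q → ((β : MulAut R) x) = x}
  one_mem' := fun x _ => rfl
  mul_mem' := by
    intro a b ha hb x hx
    show (a : MulAut R) ((b : MulAut R) x) = x
    rw [hb x hx, ha x hx]
  inv_mem' := by
    intro a ha x hx
    show ((a : MulAut R)⁻¹) x = x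
    apply (a : MulAut R).injective
    rw [MulAut.apply_inv_self, ha x hx]

theorem fixAut_isPGroup (hS : IsPGroup p S) {E : FusionSystem S} {Q R : Subgroup Ω}
    (hQT : Q ≤ E.hyperfocalSubgroup p) (hQR : Q ≤ R) (hRS : R ≤ S)
    (hCT : ∀ x ∈ E.hyperfocalSubgroup p, (∀ q ∈ Q, q * x = x * q) → x ∈ Q) :
    IsPGroup p (fixAut E R Q) := by
  haveI : Finite R := Finite.of_injective (Subgroup.inclusion hRS) (Subgroup.inclusion_injective hRS)
  haveI : Finite (MulAut R) := inferInstance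
  apply Cfsg.Agent.Lib.Helper17.isPGroup_of_coprime_elements_trivial
  intro β hβ hcop
  exact aut_eq_one_of_centralizes hS hQT hQR hRS hCT β hcop hβ

omit [Finite S] [Fact p.Prime] in
theorem fixAut_normal {E : FusionSystem S} {Q R : Subgroup Ω} (hQ : E.WeaklyClosed Q) (hQR : Q ≤ R)
    (hRS : R ≤ S) : (fixAut E R Q).Normal := by
  constructor
  intro β hβ α x hx
  show (α : MulAut R) ((β : MulAut R) (((α : MulAut R)⁻¹) x)) = x
  have hαinv : IsIso E (((α : MulAut R)⁻¹ : MulAut R) : R ≃* R) :=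
    (mem_autGroup_iff E hRS _).mp (Subgroup.inv_mem _ α.2)
  have h1 := weaklyClosed_aut_mem hQ hQR hαinv x hx
  rw [hβ _ h1, MulAut.apply_inv_self]

/-- **A saturated system whose `p`-residual subsystem is constrained is constrained.** -/
theorem constrained_of_pResidual (hS : IsPGroup p S) {E : FusionSystem S} (hE : E.IsSaturated p)
    {D : FusionSystem (E.hyperfocalSubgroup p)} (hD : E.IsPResidual p D) (hc : D.IsConstrained p) :
    E.IsConstrained p := by
  have hTS : (E.hyperfocalSubgroup p) ≤ S := hyperfocal_le E p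
  haveI : Finite (E.hyperfocalSubgroup p) := Finite.of_injective (Subgroup.inclusion hTS) (Subgroup.inclusion_injective hTS)
  have hTn : ((E.hyperfocalSubgroup p).subgroupOf S).Normal := by
    constructor
    intro n hn g
    rw [Subgroup.mem_subgroupOf] at hn ⊢
    exact hyperfocal_conj_mem E p g.2 hn
  have hDn : D.IsNormalIn E p := isNormalIn_of_pPowerIndex hS hE hTS hTn le_rfl D hD.1 hD.2
  set Q := D.core with hQdef
  have hQE : E.IsNormal Q := core_isNormal_of_weaklyNormal hS hDn.1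
  have hQD : D.IsNormal Q := isNormal_core D
  have hQT : Q ≤ (E.hyperfocalSubgroup p) := hQD.1
  have hQS : Q ≤ S := hQE.1
  obtain ⟨-, Q₀, hQ₀n, hQ₀c⟩ := hc
  have hQ₀Q : Q₀ ≤ Q := le_core hQ₀n
  have hCT : ∀ x ∈ (E.hyperfocalSubgroup p), (∀ q ∈ Q, q * x = x * q) → x ∈ Q := by
    intro x hx hq
    apply hQ₀Q
    apply hQ₀c.2 Q₀ (isConj_refl D hQ₀c.1)
    rw [mem_centralizerIn_iff]
    exact ⟨hx, fun q hq' => hq q (hQ₀Q hq')⟩
  set X := centralizerIn S Q with hX
  have hXS : X ≤ S := centralizerIn_le_S S Q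
  have hYsc : E.StronglyClosed (Q ⊔ X) :=
    Cfsg.Agent.S5255.result p hS E hE Q (normal_stronglyClosed hQE)
  have hXn : ∀ s ∈ S, ∀ d ∈ X, s * d * s⁻¹ ∈ X := by
    intro s hs d hd
    rw [hX, mem_centralizerIn_iff] at hd ⊢
    refine ⟨S.mul_mem (S.mul_mem hs hd.1) (S.inv_mem hs), fun q hq => ?_⟩
    have hq' : s⁻¹ * q * s⁻¹⁻¹ ∈ Q := normal_conj_mem hQE (S.inv_mem hs) hq
    have h1 := hd.2 _ hq'
    have h2 : q = s * (s⁻¹ * q * s⁻¹⁻¹) * s⁻¹ := by group
    calc q * (s * d * s⁻¹) = s * ((s⁻¹ * q * s⁻¹⁻¹) * d) * s⁻¹ := by group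
      _ = s * (d * (s⁻¹ * q * s⁻¹⁻¹)) * s⁻¹ := by rw [h1]
      _ = s * d * s⁻¹ * q := by group
  have hYn : E.IsNormal (Q ⊔ X) := by
    apply isNormal_of_le_frc hS hE hYsc
    intro R hRlt hfn hcR hr
    have hRS : R ≤ S := hcR.1
    have hQR : Q ≤ R := Cfsg.Agent.S5086.normal_le_centric_radical hS hQE hcR hr
    refine sup_le hQR ?_
    apply le_of_inf_normalizer_le hS hRS hXS hXn
    intro d hd hdN
    have hdNS : d ∈ normalizerIn S R := ⟨hXS hd, hdN⟩
    apply mem_of_conjAutHom_mem_inn hcR hdNS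
    rw [← hr.2]
    have hB := Cfsg.Agent.Lib.Helper1.le_pCore
      (fixAut_normal (normal_weaklyClosed hQE) hQR hRS)
      (fixAut_isPGroup hS hQT hQR hRS hCT)
    have h1 : conjAutHom S R ⟨d, hdNS⟩ ∈ autInducedBy S R := by
      rw [← conjAutHom_range]; exact ⟨_, rfl⟩
    have h1A : conjAutHom S R ⟨d, hdNS⟩ ∈ E.autGroup R := autInducedBy_le_autGroup E hRS h1
    refine ⟨⟨_, h1A⟩, hB ?_, rfl⟩
    intro x hx
    apply Subtype.ext
    show ((conjAutHom S R ⟨d, hdNS⟩ x : R) : Ω) = x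
    rw [conjAutHom_apply]
    have hd' := (mem_centralizerIn_iff.mp hd).2 x hx
    show d * x * d⁻¹ = x
    rw [← hd', mul_inv_cancel_right]
  refine ⟨hE, Q ⊔ X, hYn, hYn.1, fun Y' hconj => ?_⟩
  have hY' : Y' = Q ⊔ X := weaklyClosed_eq_of_isConj (normal_weaklyClosed hYn) hconj
  rw [hY']
  intro x hx
  rw [mem_centralizerIn_iff] at hx
  apply (le_sup_right : X ≤ Q ⊔ X)
  rw [hX, mem_centralizerIn_iff]
  exact ⟨hx.1, fun q hq => hx.2 q ((le_sup_left : Q ≤ Q ⊔ X) hq)⟩

/-- **A saturated system whose `p'`-residual subsystem is constrained is constrained.** -/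
theorem constrained_of_ppResidual (hS : IsPGroup p S) {F E : FusionSystem S} (hF : F.IsSaturated p)
    (hE : F.IsPPrimeResidual p E) (hc : E.IsConstrained p) : F.IsConstrained p := by
  have hEn := ppResidual_isNormalIn hS hF hE
  have hQF : F.IsNormal E.core := core_isNormal_of_weaklyNormal hS hEn.1
  obtain ⟨-, Q₀, hQ₀n, hQ₀c⟩ := hc
  have hQ₀Q : Q₀ ≤ E.core := le_core hQ₀n
  refine ⟨hF, E.core, hQF, hQF.1, fun Q' hconj => ?_⟩
  have hQ' : Q' = E.core := weaklyClosed_eq_of_isConj (normal_weaklyClosed hQF) hconj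
  rw [hQ']
  intro x hx
  rw [mem_centralizerIn_iff] at hx
  apply hQ₀Q
  apply hQ₀c.2 Q₀ (isConj_refl E hQ₀c.1)
  rw [mem_centralizerIn_iff]
  exact ⟨hx.1, fun q hq => hx.2 q (hQ₀Q hq)⟩

end Aut

end Cfsg.Agent.Lib.Helper27.TS
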