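import Mathlib
import Cfsg.Agent.H26.TrC
import Cfsg.Agent.H26.Realized
import Cfsg.Agent.H26.HyperfocalGroup2
import Cfsg.Agent.H26.PPowerIndex
import Cfsg.Agent.Lib.Helper27.FusionRealizedSub
import Cfsg.Agent.Lib.Helper27.FusionRealizedNormal
import Cfsg.Agent.Lib.Helper27.FusionInduced
import Cfsg.Agent.Lib.Helper17.PResidual

set_option autoImplicit false

/-! The `p`-residual subsystem of a realized fusion system is realized by `O^p(G)`. -/

namespace Cfsg.Agent.Lib.Helper27.TS

open Cfsg Cfsg.FusionSystem Cfsg.Agent.Lib.Helper27 Cfsg.Agent.H26 Cfsg.Agent.H26.Tr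
  Cfsg.Agent.Lib.Helper17

variable {Ω : Type*} [Group Ω] {S : Subgroup Ω} {G : Type*} [Group G]

/-- A system realized by `ι` is isomorphic, along `ι`, to the fusion system of `G` on `ι(S)`. -/
theorem realized_isFactor {F : FusionSystem S} {ι : S →* G} (hreal : F.IsRealizedBy ι) :
    F.IsFactorSystem ⊥ ι (groupFusionSystem ι.range) := by
  have hinj := hreal.1
  refine ⟨bot_le, fun x => ?_, rfl, fun P' φ' => ?_⟩
  · rw [Subgroup.mem_bot]
    constructor
    · intro hx
      have : x = 1 := hinj (by rw [hx, map_one])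
      rw [this]; rfl
    · intro hx
      have : x = 1 := Subtype.ext hx
      rw [this, map_one]
  · constructor
    · rintro ⟨hP', hφ'S, g, hg⟩
      obtain ⟨φ, hc⟩ := exists_corr_preimage hinj hP' φ' hφ'S
      refine ⟨hP', φ, ?_, hc.le, hc.mem, hc.map_mem, hc.eq⟩
      apply (hreal.2 _ hc.le φ hc.mem).mpr
      refine ⟨g, fun x => ?_⟩
      rw [← hc.eq x, hg]
    · rintro ⟨hP', φ, hφ, hP2, hφ2, hmap, hind⟩
      obtain ⟨g, hg⟩ := (hreal.2 _ hP2 φ hφ2).mp hφ
      have hsurj : ∀ y : P', ∃ x : ↥(preimageAlong ι P'), ι ⟨x, hP2 x.2⟩ = y := by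
        intro y
        obtain ⟨t, ht⟩ := hP' y.2
        refine ⟨⟨t, mem_preimageAlong.mpr ⟨t.2, ?_⟩⟩, ht⟩
        show ι t ∈ P'
        rw [ht]; exact y.2
      refine ⟨hP', fun y => ?_, g, fun y => ?_⟩
      · obtain ⟨x, hx⟩ := hsurj y
        have hy : y = ⟨ι ⟨x, hP2 x.2⟩, hmap x⟩ := Subtype.ext hx.symm
        rw [hy, hind x]
        exact ⟨_, rfl⟩
      · obtain ⟨x, hx⟩ := hsurj y
        have hy : y = ⟨ι ⟨x, hP2 x.2⟩, hmap x⟩ := Subtype.ext hx.symm
        rw [hy, hind x, hg x]

variable [Finite G] {p : ℕ} [Fact p.Prime]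

/-- **The hyperfocal subgroup of a realized system** is the preimage of `O^p(G)`. -/
theorem realized_hyperfocal {F : FusionSystem S} {ι : S →* G} (hreal : F.IsRealizedBy ι)
    (Sy : Sylow p G) (hSy : (Sy : Subgroup G) = ι.range) :
    F.hyperfocalSubgroup p = pullback ι (pResidual p G) := by
  have hinj := hreal.1
  have h1 := hyperfocal_image (realized_isFactor hreal) p
  have h2 : (groupFusionSystem ι.range).hyperfocalSubgroup p = ι.range ⊓ pResidual p G := by
    rw [← hSy]
    exact le_antisymm (hyperfocal_le_inf_pResidual Sy) (inf_pResidual_le_hyperfocal Sy)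
  rw [h2] at h1
  have hhS : F.hyperfocalSubgroup p ≤ S := hyperfocal_le F p
  ext x
  rw [mem_pullback]
  constructor
  · intro hx
    refine ⟨hhS hx, ?_⟩
    have : ι ⟨x, hhS hx⟩ ∈ imageAlong ι (F.hyperfocalSubgroup p) :=
      ⟨⟨x, hhS hx⟩, Subgroup.mem_subgroupOf.mpr hx, rfl⟩
    rw [← h1] at this
    exact this.2
  · rintro ⟨hxS, hx⟩
    have : ι ⟨x, hxS⟩ ∈ ι.range ⊓ pResidual p G := ⟨⟨_, rfl⟩, hx⟩
    rw [h1] at this
    obtain ⟨y, hy, hyx⟩ := this
    have hyx' : (y : Ω) = x := congrArg (fun z : S => (z : Ω)) (hinj hyx)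
    rw [← hyx']
    exact Subgroup.mem_subgroupOf.mp hy

/-- The subsystem induced by `O^p(G)` has `p`-power index. -/
theorem realizedSub_pResidual_hasPPowerIndexIn {F : FusionSystem S} {ι : S →* G}
    (hreal : F.IsRealizedBy ι) (Sy : Sylow p G) (hSy : (Sy : Subgroup G) = ι.range) :
    (realizedSub hreal.1 (pResidual p G)).HasPPowerIndexIn F p := by
  have hinj := hreal.1
  refine ⟨realizedSub_isSubsystemOf hreal _, (realized_hyperfocal hreal Sy hSy).le, ?_⟩
  intro P hP
  have hPS : P ≤ S := hP.trans (pullback_le ι _)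
  rintro _ ⟨α, hα, rfl⟩
  have hα' : α ∈ pResidual p (F.autGroup P) := hα
  clear hα
  unfold pResidual at hα'
  induction hα' using Subgroup.closure_induction with
  | mem β hβ =>
    rw [Set.mem_ofPred_eq] at hβ
    have hβiso := (mem_autGroup_iff _ hPS (β : MulAut P)).mp β.2
    obtain ⟨-, -, g, hg⟩ := (realized_hom_iff hreal _).mp hβiso
    have hg' : ∀ x : P, ext1 ι (((β : MulAut P) x : P) : Ω) = g * ext1 ι (x : Ω) * g⁻¹ := fun x => hg x
    obtain ⟨k, hk1, hk2⟩ := exists_pow_coprime p g β hβ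
    have hpow : ∀ n : ℕ, ∀ x : P, ext1 ι ((((β : MulAut P) ^ n) x : P) : Ω) =
        g ^ n * ext1 ι (x : Ω) * (g ^ n)⁻¹ := by
      intro n
      induction n with
      | zero => intro x; simp
      | succ n ih =>
        intro x
        rw [pow_succ, MulAut.mul_apply, ih, hg', pow_succ]
        group
    have hk1' : (β : MulAut P) ^ k = (β : MulAut P) := by
      have := congrArg (fun z : F.autGroup P => (z : MulAut P)) hk1
      simpa using this
    have h1 : ∀ x : P, ext1 ι (((β : MulAut P) x : P) : Ω) = g ^ k * ext1 ι (x : Ω) * (g ^ k)⁻¹ := by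
      intro x
      rw [← hpow k x, hk1']
    have hgk : g ^ k ∈ pResidual p G := mem_pResidual_of_coprime hk2
    show (β : MulAut P) ∈ _
    rw [mem_autGroup_iff _ hP]
    exact ⟨hP, fun x => hP ((β : MulAut P) x).2, g ^ k, hgk, fun x => h1 x⟩
  | one => exact Subgroup.one_mem _
  | mul a b _ _ iha ihb => exact Subgroup.mul_mem _ iha ihb
  | inv a _ iha => exact Subgroup.inv_mem _ iha

/-- **The `p`-residual subsystem of a realized system** consists of the maps induced by `O^p(G)`. -/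
theorem pResidual_hom_eq [Finite S] (hS : IsPGroup p S) {F : FusionSystem S} {ι : S →* G}
    (hreal : F.IsRealizedBy ι) (Sy : Sylow p G) (hSy : (Sy : Subgroup G) = ι.range)
    {D : FusionSystem (F.hyperfocalSubgroup p)} (hD : F.IsPResidual p D) (P : Subgroup Ω) :
    D.Hom P = (realizedSub hreal.1 (pResidual p G)).Hom P :=
  pPowerIndex_unique hS (realized_hyperfocal hreal Sy hSy) D _ hD.1
    (realizedSub_saturated hreal.1 Sy hSy (pResidual p G)) hD.2
    (realizedSub_pResidual_hasPPowerIndexIn hreal Sy hSy) P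

end Cfsg.Agent.Lib.Helper27.TS
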