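import Mathlib
import Cfsg.Agent.Lib.Helper27.TSA
import Cfsg.Agent.Lib.Helper27.TSE
import Cfsg.Agent.Lib.Helper27.RLA
import Cfsg.Agent.Lib.Helper16.PCore
import Cfsg.Prelude.Def_CaseTheorems

set_option autoImplicit false

/-! The `p'`-residual subsystem of a fusion system with a model `G` is induced by `O^{p'}(G)`. -/

namespace Cfsg.Agent.Lib.Helper27.TS

open Cfsg Cfsg.FusionSystem Cfsg.Agent.Lib.Helper27 Cfsg.Agent.H26 Cfsg.Agent.Lib.Helper17

/-- For an element `Φ` of a finite group and a `p`-element `α'` of another group, some power `n` fixes `α'`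
and makes `Φ ^ n` a `p`-element. -/
theorem exists_pow_ppower {G H : Type*} [Group G] [Finite G] [Group H] (p : ℕ) [hp : Fact p.Prime]
    (Φ : G) (α' : H) {k : ℕ} (h : orderOf α' = p ^ k) :
    ∃ n : ℕ, α' ^ n = α' ∧ ∃ j : ℕ, orderOf (Φ ^ n) = p ^ j := by
  have hcard0 : Nat.card G ≠ 0 := Nat.card_pos.ne'
  obtain ⟨a, m, hm, hcard⟩ := Nat.exists_eq_pow_mul_and_not_dvd hcard0 p hp.out.ne_one
  have hpm : Nat.Coprime m p := ((Nat.Prime.coprime_iff_not_dvd hp.out).mpr hm).symm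
  have hcop : m.Coprime (orderOf α') := by rw [h]; exact Nat.Coprime.pow_right k hpm
  obtain ⟨j, hj⟩ := exists_pow_eq_self_of_coprime (x := α') hcop
  refine ⟨m * j, by rw [pow_mul]; exact hj, ?_⟩
  have h1 : (Φ ^ (m * j)) ^ p ^ a = 1 := by
    rw [← pow_mul, mul_comm (m * j), ← mul_assoc, pow_mul, ← hcard, pow_card_eq_one', one_pow]
  obtain ⟨j', -, hj'⟩ := (Nat.dvd_prime_pow hp.out).mp (orderOf_dvd_of_pow_eq_one h1)
  exact ⟨j', hj'⟩

variable {Ω : Type*} [Group Ω] {S : Subgroup Ω} {G : Type*} [Group G]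

/-- The map `φ` is induced, through `ι`, by conjugation with an element of `N`. -/
def IndBy (ι : S →* G) (N : Subgroup G) {P : Subgroup Ω} (φ : P →* Ω) : Prop :=
  P ≤ S ∧ (∀ x : P, φ x ∈ S) ∧ ∃ g ∈ N, ∀ x : P, ext1 ι (φ x) = g * ext1 ι x * g⁻¹

variable [Finite G] {p : ℕ} [Fact p.Prime]

/-- The system over `S` induced by a normal subgroup containing `ι(S)`. -/
theorem exists_system_indBy {ι : S →* G} (hinj : Function.Injective ι) (Sy : Sylow p G)
    (hSy : (Sy : Subgroup G) = ι.range) (N : Subgroup G) [N.Normal] (hN : ι.range ≤ N) :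
    ∃ X : FusionSystem S, X.IsSaturated p ∧
      ∀ (P : Subgroup Ω) (φ : P →* Ω), φ ∈ X.Hom P ↔ IndBy ι N φ := by
  have hpull : pullback ι N = S := by
    apply le_antisymm (pullback_le ι N)
    intro x hx
    exact mem_pullback.mpr ⟨hx, hN ⟨_, rfl⟩⟩
  have key : ∃ (T : Subgroup Ω) (X : FusionSystem T), T = S ∧ X.IsSaturated p ∧
      ∀ (P : Subgroup Ω) (φ : P →* Ω), φ ∈ X.Hom P ↔ IndBy ι N φ := by
    refine ⟨pullback ι N, realizedSub hinj N, hpull, realizedSub_saturated hinj Sy hSy N, fun P φ => ?_⟩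
    rw [mem_realizedSub_hom, hpull]
    rfl
  obtain ⟨T, X, hT, hXs, hX⟩ := key
  subst hT
  exact ⟨X, hXs, hX⟩

/-- The system induced by `O^{p'}(G)` has index prime to `p`. -/
theorem primeIdx_of_indBy {F X : FusionSystem S} {ι : S →* G} (hreal : F.IsRealizedBy ι)
    (hX : ∀ (P : Subgroup Ω) (φ : P →* Ω), φ ∈ X.Hom P ↔ IndBy ι (oppG p G) φ) :
    X.HasPrimeToPIndexIn F p := by
  have hsub : X.IsSubsystemOf F := by
    intro P φ hφ
    obtain ⟨hP, hφS, g, -, hg⟩ := (hX P φ).mp hφ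
    exact (realized_hom_iff hreal φ).mpr ⟨hP, hφS, g, hg⟩
  refine Cfsg.Agent.Lib.Helper27.RL.primeIdx_of_pElt hsub (fun P hPS γ hγ k hk => ?_)
  have hγiso := (mem_autGroup_iff F hPS γ).mp hγ
  obtain ⟨-, -, g, hg⟩ := (realized_hom_iff hreal _).mp hγiso
  have hg' : ∀ x : P, ext1 ι ((γ x : P) : Ω) = g * ext1 ι (x : Ω) * g⁻¹ := fun x => hg x
  obtain ⟨n, hn1, j, hn2⟩ := exists_pow_ppower p g γ hk
  have hpow : ∀ n : ℕ, ∀ x : P, ext1 ι (((γ ^ n) x : P) : Ω) = g ^ n * ext1 ι (x : Ω) * (g ^ n)⁻¹ := by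
    intro n
    induction n with
    | zero => intro x; simp
    | succ n ih =>
      intro x
      rw [pow_succ, MulAut.mul_apply, ih, hg', pow_succ]
      group
  have h1 : ∀ x : P, ext1 ι ((γ x : P) : Ω) = g ^ n * ext1 ι (x : Ω) * (g ^ n)⁻¹ := by
    intro x
    rw [← hpow n x, hn1]
  rw [mem_autGroup_iff X hPS]
  exact (hX P _).mpr ⟨hPS, fun x => hPS (γ x).2, g ^ n, mem_oppG_of_orderOf hn2, fun x => h1 x⟩

/-- In a group of characteristic `p`, the maps induced by `O^{p'}(G)` lie in every saturated subsystem of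
index prime to `p`. -/
theorem mem_of_indBy [Finite S] {F E : FusionSystem S} {ι : S →* G}
    (hreal : F.IsRealizedBy ι) (Sy : Sylow p G) (hSy : (Sy : Subgroup G) = ι.range)
    (hchar : Subgroup.centralizer ((pCore p G : Subgroup G) : Set G) ≤ pCore p G)
    (hEs : E.IsSaturated p) (hEi : E.HasPrimeToPIndexIn F p)
    {P : Subgroup Ω} {φ : P →* Ω} (hφ : IndBy ι (oppG p G) φ) : φ ∈ E.Hom P := by
  have hp : p.Prime := Fact.out
  have hinj := hreal.1
  have hQnorm : (pCore p G).Normal := Cfsg.pCore_normal p G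
  have hle : pCore p G ≤ ι.range := hSy ▸ Cfsg.Agent.Lib.Helper16.pCore_le_sylow Sy
  set Q := pullback ι (pCore p G) with hQ
  have hQn : F.IsNormal Q := realized_isNormal hreal (pCore p G) hle
  have hQS : Q ≤ S := hQn.1
  have hQF : F.WeaklyClosed Q := normal_weaklyClosed hQn
  have hQE : E.WeaklyClosed Q := ⟨hQS, fun ψ hψ => hQF.2 ψ (hEi.1 Q hψ)⟩
  have hrec : E.IsReceptive Q := weaklyClosed_isReceptive hEs hQE
  have hmemQ : ∀ x, x ∈ Q ↔ x ∈ S ∧ ext1 ι x ∈ pCore p G := fun x => mem_pullback_iff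
  -- Step 1: elements of `O^{p'}(G)` induce automorphisms of `Q` in `E`
  have step1 : ∀ g ∈ oppG p G, ∃ β : Q ≃* Q, IsIso E β ∧
      ∀ x : Q, ext1 ι ((β x : Q) : Ω) = g * ext1 ι (x : Ω) * g⁻¹ := by
    intro g hg
    unfold oppG at hg
    induction hg using Subgroup.closure_induction with
    | mem g hg =>
      obtain ⟨k, hk⟩ := hg
      have hh : ∀ x ∈ Q, g * ext1 ι x * g⁻¹ ∈ ι.range :=
        fun x hx => hle (hQnorm.conj_mem _ ((hmemQ x).mp hx).2 g)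
      have hρF : rconj hinj g hQS hh ∈ F.Hom Q := rconj_mem_hom hreal g hQS hh
      have hr : (rconj hinj g hQS hh).range = Q := hQF.2 _ hρF
      obtain ⟨α, hα, hαx⟩ := exists_isIso_of_hom F hρF hr
      have hαg : ∀ x : Q, ext1 ι ((α x : Q) : Ω) = g * ext1 ι (x : Ω) * g⁻¹ := fun x => by
        rw [hαx, ext1_rconj]
      have hpow : ∀ n : ℕ, ∀ x : Q, ext1 ι ((((α : MulAut Q) ^ n) x : Q) : Ω) =
          g ^ n * ext1 ι (x : Ω) * (g ^ n)⁻¹ := by
        intro n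
        induction n with
        | zero => intro x; simp
        | succ n ih =>
          intro x
          rw [pow_succ, MulAut.mul_apply, ih, pow_succ]
          have := hαg x
          rw [this]
          group
      have hαpk : (α : MulAut Q) ^ (p ^ k) = 1 := by
        ext x
        apply ext1_inj hinj (hQS (((α : MulAut Q) ^ (p ^ k)) x).2) (hQS ((1 : MulAut Q) x).2)
        rw [hpow, ← hk, pow_orderOf_eq_one]
        simp
      obtain ⟨j, -, hj⟩ := (Nat.dvd_prime_pow hp).mp (orderOf_dvd_of_pow_eq_one hαpk)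
      have hαF : (α : MulAut Q) ∈ F.autGroup Q := (mem_autGroup_iff F hQS α).mpr hα
      have hαE := Cfsg.Agent.Lib.Helper27.RL.pElt_mem_of_primeIdx hEi hQS hαF hj
      exact ⟨α, (mem_autGroup_iff E hQS α).mp hαE, hαg⟩
    | one => exact ⟨MulEquiv.refl Q, isIso_refl E hQS, fun x => by simp⟩
    | mul a b _ _ iha ihb =>
      obtain ⟨β₁, h₁, hβ₁⟩ := iha
      obtain ⟨β₂, h₂, hβ₂⟩ := ihb
      refine ⟨β₂.trans β₁, h₂.trans h₁, fun x => ?_⟩
      show ext1 ι ((β₁ (β₂ x) : Q) : Ω) = _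
      rw [hβ₁, hβ₂]
      group
    | inv a _ iha =>
      obtain ⟨β, h, hβ⟩ := iha
      refine ⟨β.symm, h.symm, fun x => ?_⟩
      have := hβ (β.symm x)
      rw [MulEquiv.apply_symm_apply] at this
      rw [this]
      group
  -- Step 2
  obtain ⟨hPS, hφS, g, hg, hgφ⟩ := hφ
  obtain ⟨β, hβ, hβg⟩ := step1 g hg
  have key := receptive_exists_extension hrec hβ
  have hQN' := le_extender_of_isIso hβ
  generalize hN : extender S Q (Q.subtype.comp β.toMonoidHom) = N at key hQN'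
  obtain ⟨ψ, hψ, hψβ⟩ := key
  have hQN : Q ≤ N := hQN'
  have hPN : P ≤ N := by
    intro r hr
    rw [← hN, mem_extender_iff]
    refine ⟨hPS hr, normal_le_normalizer hQn (hPS hr), φ ⟨r, hr⟩, hφS _, fun x hx => ?_⟩
    show ((β ⟨r * x * r⁻¹, hx⟩ : Q) : Ω) = φ ⟨r, hr⟩ * ((β x : Q) : Ω) * (φ ⟨r, hr⟩)⁻¹
    have hrS : r ∈ S := hPS hr
    have hxS : (x : Ω) ∈ S := hQS x.2
    apply ext1_inj hinj (hQS (β _).2)
      (S.mul_mem (S.mul_mem (hφS _) (hQS (β x).2)) (S.inv_mem (hφS _)))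
    rw [hβg, ext1_mul ι (S.mul_mem (hφS _) (hQS (β x).2)) (S.inv_mem (hφS _)),
      ext1_mul ι (hφS _) (hQS (β x).2), ext1_inv ι (hφS _), hgφ ⟨r, hr⟩, hβg]
    show g * ext1 ι (r * (x : Ω) * r⁻¹) * g⁻¹ = _
    rw [ext1_mul ι (S.mul_mem hrS hxS) (S.inv_mem hrS), ext1_mul ι hrS hxS, ext1_inv ι hrS]
    group
  obtain ⟨hNS, hψS, h, hh⟩ := (realized_hom_iff hreal ψ).mp (hEi.1 N hψ)
  have hz : h⁻¹ * g ∈ pCore p G := by
    apply hchar
    rw [Subgroup.mem_centralizer_iff]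
    intro y hy
    obtain ⟨x, hxS, rfl⟩ := exists_ext1_eq (hle hy)
    have hxQ : x ∈ Q := (hmemQ x).mpr ⟨hxS, hy⟩
    have e1 := hψβ x hxQ (hQN hxQ)
    have e2 := hh ⟨x, hQN hxQ⟩
    have e3 := hβg ⟨x, hxQ⟩
    rw [e1] at e2
    have e4 : h * ext1 ι x * h⁻¹ = g * ext1 ι x * g⁻¹ := by
      rw [← e2]; exact e3
    calc ext1 ι x * (h⁻¹ * g) = h⁻¹ * (h * ext1 ι x * h⁻¹) * g := by group
      _ = h⁻¹ * (g * ext1 ι x * g⁻¹) * g := by rw [e4]
      _ = h⁻¹ * g * ext1 ι x := by group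
  obtain ⟨z₀, hz₀S, hz₀⟩ := exists_ext1_eq (hle hz)
  have hz₀Q : z₀ ∈ Q := (hmemQ z₀).mpr ⟨hz₀S, by rw [hz₀]; exact hz⟩
  have hconjN : ∀ x : P, conjHom P z₀ x ∈ N := fun x =>
    N.mul_mem (N.mul_mem (hQN hz₀Q) (hPN x.2)) (N.inv_mem (hQN hz₀Q))
  have hc : conjHom P z₀ ∈ E.Hom P := E.conj_mem hPS hz₀S
  have hcomp := E.comp_mem hc hψ hconjN
  have heq : φ = ψ.comp ((conjHom P z₀).codRestrict N hconjN) := by
    ext x
    apply ext1_inj hinj (hφS x) (hψS _)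
    rw [hgφ x]
    show _ = ext1 ι (ψ ⟨z₀ * (x : Ω) * z₀⁻¹, hconjN x⟩)
    rw [hh]
    show _ = h * ext1 ι (z₀ * (x : Ω) * z₀⁻¹) * h⁻¹
    have hxS : (x : Ω) ∈ S := hPS x.2
    rw [ext1_mul ι (S.mul_mem hz₀S hxS) (S.inv_mem hz₀S), ext1_mul ι hz₀S hxS, ext1_inv ι hz₀S, hz₀]
    group
  rw [heq]
  exact hcomp

/-- **The `p'`-residual subsystem of a system with a model `G`** consists of the maps induced by
`O^{p'}(G)`. -/
theorem ppResidual_hom_iff [Finite S] {F E : FusionSystem S} {ι : S →* G}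
    (hreal : F.IsRealizedBy ι) (Sy : Sylow p G) (hSy : (Sy : Subgroup G) = ι.range)
    (hchar : Subgroup.centralizer ((pCore p G : Subgroup G) : Set G) ≤ pCore p G)
    (hE : F.IsPPrimeResidual p E) (P : Subgroup Ω) (φ : P →* Ω) :
    φ ∈ E.Hom P ↔ IndBy ι (oppG p G) φ := by
  have hN : ι.range ≤ oppG p G := by
    rw [← hSy]; exact le_oppG_of_isPGroup Sy.isPGroup'
  obtain ⟨X, hXs, hX⟩ := exists_system_indBy hreal.1 Sy hSy (oppG p G) hN
  constructor
  · intro hφ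
    exact (hX P φ).mp (hE.2.2 X hXs (primeIdx_of_indBy hreal hX) P hφ)
  · intro hφ
    exact mem_of_indBy hreal Sy hSy hchar hE.1 hE.2.1 hφ

end Cfsg.Agent.Lib.Helper27.TS
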