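import Mathlib
import Cfsg.Agent.Lib.Helper27.TSF
import Cfsg.Agent.Lib.Helper17.CharP
import Cfsg.Agent.Lib.Helper16.SylowInf
import Cfsg.Agent.H5.PSolvable2

set_option autoImplicit false

/-! The residual step for systems with a model: if `G` is a model of `F`, then `O^p(O^{p'}(G))` is a model
of the `p`-residual of the `p'`-residual of `F`. -/

namespace Cfsg.Agent.Lib.Helper27.TS

open Cfsg Cfsg.FusionSystem Cfsg.Agent.Lib.Helper27 Cfsg.Agent.H26 Cfsg.Agent.Lib.Helper17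

variable {Ω : Type*} [Group Ω] {S : Subgroup Ω} {G : Type*} [Group G]

/-- A system with the maps of `realizedSub hinj N` is realized by the group `N`. -/
theorem realizedBy_of_hom_eq [Finite G] {p : ℕ} [Fact p.Prime] {T : Subgroup Ω} (X : FusionSystem T)
    {ι : S →* G} (hinj : Function.Injective ι) (N : Subgroup G) [N.Normal] (hT : T = pullback ι N)
    (hX : ∀ (P : Subgroup Ω) (φ : P →* Ω), φ ∈ X.Hom P ↔ φ ∈ (realizedSub hinj N).Hom P)
    (Sy : Sylow p G) (hSy : (Sy : Subgroup G) = ι.range) :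
    ∃ ι' : T →* ↥N, (∀ t : T, ((ι' t : N) : G) = ext1 ι (t : Ω)) ∧ X.IsRealizedBy ι' ∧
      ∃ Sy' : Sylow p ↥N, (Sy' : Subgroup ↥N) = ι'.range := by
  have hTS : T ≤ S := by rw [hT]; exact pullback_le ι N
  have hTmem : ∀ x : Ω, x ∈ T ↔ x ∈ pullback ι N := fun x => by rw [hT]
  have hmem : ∀ x : T, (ι.comp (Subgroup.inclusion hTS)) x ∈ N :=
    fun x => (mem_pullback.mp ((hTmem _).mp x.2)).2
  let ι' : T →* ↥N := (ι.comp (Subgroup.inclusion hTS)).codRestrict N hmem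
  have hι' : ∀ x : T, ((ι' x : N) : G) = ι ⟨x, hTS x.2⟩ := fun x => rfl
  have hι'inj : Function.Injective ι' := by
    intro a b hab
    have h1 : ι ⟨a, hTS a.2⟩ = ι ⟨b, hTS b.2⟩ := by
      rw [← hι', ← hι', hab]
    have h2 := hinj h1
    exact Subtype.ext (congrArg (fun z : S => (z : Ω)) h2)
  refine ⟨ι', fun t => by rw [hι', ext1_of_mem ι (hTS t.2)], ⟨hι'inj, fun P hP φ hφ => ?_⟩, ?_⟩
  · rw [hX, mem_realizedSub_hom]
    constructor
    · rintro ⟨-, -, g, hgN, hg⟩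
      refine ⟨⟨g, hgN⟩, fun x => Subtype.ext ?_⟩
      show ι ⟨φ x, _⟩ = g * ι ⟨x, _⟩ * g⁻¹
      have := hg x
      rw [ext1_of_mem ι (hTS (hφ x)), ext1_of_mem ι (hTS (hP x.2))] at this
      exact this
    · rintro ⟨g, hg⟩
      refine ⟨fun x hx => (hTmem x).mp (hP hx), fun x => (hTmem _).mp (hφ x), g, g.2, fun x => ?_⟩
      rw [ext1_of_mem ι (hTS (hφ x)), ext1_of_mem ι (hTS (hP x.2))]
      exact congrArg Subtype.val (hg x)
  · refine ⟨Cfsg.Agent.Lib.Helper16.sylowInf Sy N, ?_⟩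
    rw [Cfsg.Agent.Lib.Helper16.coe_sylowInf, hSy]
    ext y
    rw [Subgroup.mem_subgroupOf]
    constructor
    · rintro ⟨s, hs⟩
      have : (s : Ω) ∈ T := (hTmem _).mpr (mem_pullback.mpr ⟨s.2, by
        show ι s ∈ N
        rw [hs]; exact y.2⟩)
      exact ⟨⟨s, this⟩, Subtype.ext hs⟩
    · rintro ⟨x, rfl⟩
      exact ⟨⟨x, hTS x.2⟩, rfl⟩

/-- A normal subgroup of a group of characteristic `p` has characteristic `p`. -/
theorem charp_of_normal [Finite G] {p : ℕ} [Fact p.Prime]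
    (hchar : Subgroup.centralizer ((pCore p G : Subgroup G) : Set G) ≤ pCore p G)
    (N : Subgroup G) [hN : N.Normal] :
    Subgroup.centralizer ((pCore p ↥N : Subgroup ↥N) : Set ↥N) ≤ pCore p ↥N := by
  rw [isCharPSub_iff]
  refine isCharPSub_of_normal le_top ?_ (isCharPSub_top_iff.mpr hchar)
  rw [Subgroup.normalizer_eq_top]

section Step

universe u

variable {Ω : Type u} [Group Ω] {S : Subgroup Ω}

/-- **The residual step**: if `G` is a model of `F`, then `O^p(O^{p'}(G))` is a model of the `p`-residual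
of the `p'`-residual of `F`; the two groups are `p`-solvable together; and when `G` is `p`-solvable and
`S ≠ 1` the new system lives over a proper subgroup. -/
theorem residual_step [Finite S] {p : ℕ} [Fact p.Prime] (hS : IsPGroup p S) {F E : FusionSystem S}
    {G : Type u} [Group G] {ι : S →* G} (hM : F.IsModel p G ι)
    (hE : F.IsPPrimeResidual p E) {D : FusionSystem (E.hyperfocalSubgroup p)} (hD : E.IsPResidual p D) :
    ∃ (K : Type u) (_ : Group K) (ι₂ : ↥(E.hyperfocalSubgroup p) →* K), D.IsModel p K ι₂ ∧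
      (IsPSolvable p G → IsPSolvable p K) ∧ (IsPSolvable p K → IsPSolvable p G) ∧
      (IsPSolvable p G → S ≠ ⊥ → E.hyperfocalSubgroup p ≠ S) := by
  obtain ⟨hfin, hreal, ⟨Sy, hSy⟩, hchar⟩ := hM
  haveI := hfin
  set K1 := oppG p G with hK1
  have hN : ι.range ≤ K1 := by
    rw [← hSy]; exact le_oppG_of_isPGroup Sy.isPGroup'
  have hpull : S = pullback ι K1 := by
    apply le_antisymm
    · intro x hx
      exact mem_pullback.mpr ⟨hx, hN ⟨_, rfl⟩⟩
    · exact pullback_le ι K1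
  have hXE : ∀ (P : Subgroup Ω) (φ : P →* Ω),
      φ ∈ E.Hom P ↔ φ ∈ (realizedSub hreal.1 K1).Hom P := by
    intro P φ
    rw [ppResidual_hom_iff hreal Sy hSy hchar hE, mem_realizedSub_hom, ← hpull]
    rfl
  obtain ⟨ι₁, hι₁, hreal₁, Sy₁, hSy₁⟩ := realizedBy_of_hom_eq E hreal.1 K1 hpull hXE Sy hSy
  have hDeq := pResidual_hom_eq hS hreal₁ Sy₁ hSy₁ hD
  have hT₂ := realized_hyperfocal hreal₁ Sy₁ hSy₁
  obtain ⟨ι₂, hι₂, hreal₂, Sy₂, hSy₂⟩ := realizedBy_of_hom_eq D hreal₁.1 (pResidual p ↥K1) hT₂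
    (fun P φ => by rw [hDeq]) Sy₁ hSy₁
  have hchar₁ := charp_of_normal hchar K1
  have hchar₂ := charp_of_normal hchar₁ (pResidual p ↥K1)
  refine ⟨↥(pResidual p ↥K1), inferInstance, ι₂, ⟨inferInstance, hreal₂, ⟨Sy₂, hSy₂⟩, hchar₂⟩, ?_, ?_, ?_⟩
  · intro h
    exact Cfsg.H5.isPSolvable_subgroup (Cfsg.H5.isPSolvable_subgroup h K1) _
  · intro h
    have hpg : IsPGroup p (↥K1 ⧸ pResidual p ↥K1) := quotient_pResidual_isPGroup
    obtain ⟨m, hm⟩ := IsPGroup.iff_card.mp hpg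
    have h1 : IsPSolvable p ↥K1 :=
      isPSolvable_of_normal_index_pow (pResidual p ↥K1) h ⟨m, by rw [Subgroup.index_eq_card]; exact hm⟩
    exact isPSolvable_of_normal_index_coprime K1 h1 oppG_index_coprime
  · intro hsol hS1 heq
    have hSy1 : (Sy : Subgroup G) ≠ ⊥ := by
      intro hbot
      apply hS1
      rw [eq_bot_iff]
      intro x hx
      have h1 : ι ⟨x, hx⟩ ∈ (Sy : Subgroup G) := by rw [hSy]; exact ⟨_, rfl⟩
      rw [hbot, Subgroup.mem_bot] at h1
      have h2 : (⟨x, hx⟩ : S) = 1 := hreal.1 (by rw [h1, map_one])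
      exact Subgroup.mem_bot.mpr (congrArg Subtype.val h2)
    apply sylow_not_le_residual hsol Sy hSy1
    intro y hy
    rw [hSy] at hy
    obtain ⟨s, rfl⟩ := hy
    have hs : (s : Ω) ∈ E.hyperfocalSubgroup p := by rw [heq]; exact s.2
    rw [hT₂, mem_pullback] at hs
    obtain ⟨hsS, hs'⟩ := hs
    refine ⟨ι₁ ⟨s, hsS⟩, hs', ?_⟩
    show ((ι₁ ⟨s, hsS⟩ : ↥K1) : G) = ι s
    rw [hι₁]
    exact ext1_coe ι s

end Step

end Cfsg.Agent.Lib.Helper27.TS
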