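import Mathlib
import Cfsg.Agent.Lib.Helper27.TSD
import Cfsg.Agent.Lib.Helper27.TSG
import Cfsg.Agent.Lib.Helper27.ModelMain
import Cfsg.Agent.Lib.Helper27.PPowJ
import Cfsg.Agent.H5.FusPSolv

set_option autoImplicit false

/-! The alternating chain of residual subsystems terminates iff the system is constrained with `p`-solvable
models. -/

namespace Cfsg.Agent.Lib.Helper27.TS

open Cfsg Cfsg.FusionSystem Cfsg.Agent.Lib.Helper27 Cfsg.Agent.H26 Cfsg.Agent.Lib.Helper17

universe u

variable {Ω : Type u} [Group Ω]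

theorem forward {S : Subgroup Ω} {F : FusionSystem S} {p : ℕ} (h : F.HasTerminatingResidualSeries p) :
    ∀ [Finite S] [Fact p.Prime], IsPGroup p S → F.IsSaturated p →
      (F.IsConstrained p ∧ ∀ (G : Type u) [Group G] (ι : S →* G), F.IsModel p G ι → IsPSolvable p G) := by
  induction h with
  | @trivial S' F p hS0 =>
    intro _ _ hS hF
    constructor
    · refine ⟨hF, F.core, isNormal_core F, (isNormal_core F).1, fun Q' _ x hx => ?_⟩
      have hxS : x ∈ S' := (centralizerIn_le_S _ Q') hx
      rw [hS0, Subgroup.mem_bot] at hxS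
      rw [hxS]; exact Subgroup.one_mem _
    · intro G _ ι hM
      obtain ⟨hfin, hreal, ⟨Sy, hSy⟩, -⟩ := hM
      haveI := hfin
      apply isPSolvable_of_coprime
      have hbot : (Sy : Subgroup G) = ⊥ := by
        rw [hSy, eq_bot_iff]
        rintro _ ⟨s, rfl⟩
        have hs : (s : Ω) ∈ (⊥ : Subgroup Ω) := hS0 ▸ s.2
        have h1 : s = 1 := Subtype.ext (Subgroup.mem_bot.mp hs)
        rw [h1, map_one]; exact Subgroup.one_mem _
      have h1 := Sy.not_dvd_index
      rw [hbot, Subgroup.index_bot] at h1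
      rw [Nat.coprime_comm]
      exact (Nat.Prime.coprime_iff_not_dvd Fact.out).mpr h1
  | @step S' F E p D hE hD _ ih =>
    intro _ _ hS hF
    have hle := hyperfocal_le E p
    haveI : Finite ↥(E.hyperfocalSubgroup p) :=
      Finite.of_injective (Subgroup.inclusion hle) (Subgroup.inclusion_injective hle)
    have hS' : IsPGroup p ↥(E.hyperfocalSubgroup p) :=
      hS.of_injective (Subgroup.inclusion hle) (Subgroup.inclusion_injective hle)
    obtain ⟨hDc, hDm⟩ := ih hS' hD.1
    have hEc : E.IsConstrained p := constrained_of_pResidual hS hE.1 hD hDc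
    have hFc : F.IsConstrained p := constrained_of_ppResidual hS hF hE hEc
    refine ⟨hFc, fun G _ ι hM => ?_⟩
    obtain ⟨K, hK, ι₂, hM₂, -, h2, -⟩ := residual_step hS hM hE hD
    exact h2 (hDm K ι₂ hM₂)

theorem backward {p : ℕ} [Fact p.Prime] : ∀ (n : ℕ) (S : Subgroup Ω) [Finite S], Nat.card S = n →
    IsPGroup p S → ∀ F : FusionSystem S, F.IsSaturated p → F.IsConstrained p →
    (∀ (G : Type u) [Group G] (ι : S →* G), F.IsModel p G ι → IsPSolvable p G) →
    F.HasTerminatingResidualSeries p := by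
  intro n
  induction n using Nat.strong_induction_on with
  | _ n IH =>
    intro S _ hn hS F hF hFc hFm
    by_cases hS0 : S = ⊥
    · exact .trivial F p hS0
    obtain ⟨E, hE⟩ := exists_pPrimeResidual hS hF
    have hle := hyperfocal_le E p
    haveI : Finite ↥(E.hyperfocalSubgroup p) :=
      Finite.of_injective (Subgroup.inclusion hle) (Subgroup.inclusion_injective hle)
    have hS' : IsPGroup p ↥(E.hyperfocalSubgroup p) :=
      hS.of_injective (Subgroup.inclusion hle) (Subgroup.inclusion_injective hle)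
    obtain ⟨D, hDsat, hDidx⟩ := Cfsg.Agent.Lib.Helper27.PPow.exists_pPowerIndex hS hE.1 hle le_rfl
    have hD : E.IsPResidual p D := ⟨hDsat, hDidx⟩
    obtain ⟨G, hG, ι, hM⟩ := Cfsg.Agent.Lib.Helper27.Mod.exists_model hS hFc
    have hGsol : IsPSolvable p G := hFm G ι hM
    obtain ⟨K, hK, ι₂, hM₂, h1, -, h3⟩ := residual_step hS hM hE hD
    have hKsol : IsPSolvable p K := h1 hGsol
    have hne : E.hyperfocalSubgroup p ≠ S := h3 hGsol hS0
    have hcard : Nat.card ↥(E.hyperfocalSubgroup p) < n := by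
      rw [← hn]
      by_contra hcon
      push Not at hcon
      exact hne (Subgroup.eq_of_le_of_card_ge hle hcon)
    obtain ⟨hfinK, hreal₂, ⟨Sy₂, hSy₂⟩, hchar₂⟩ := hM₂
    haveI := hfinK
    obtain ⟨hDc, hsolv⟩ := Cfsg.H5.FPS.constrained_of_psolvable hDsat hKsol hreal₂ Sy₂ hSy₂
    have hDm : ∀ (G' : Type u) [Group G'] (ι' : ↥(E.hyperfocalSubgroup p) →* G'),
        D.IsModel p G' ι' → IsPSolvable p G' := by
      intro G' _ ι' hM'
      obtain ⟨-, Q, hQn, hQc⟩ := hDc
      exact Cfsg.H5.FPS.psolvable_of_isModel hS' hQn hQc hsolv hM'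
    have hDt := IH _ hcard (E.hyperfocalSubgroup p) rfl hS' D hDsat hDc hDm
    exact .step F E p D hE hD hDt

end Cfsg.Agent.Lib.Helper27.TS
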