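import Mathlib
import Cfsg.Agent.Lib.Helper27.ThreeTransp

/-!
# 3-transposition classes in which every transposition has a unique commuting partner

`Partner D x x'`: `x'` is the only member of `D` other than `x` commuting with `x`, and it commutes
with the same members of `D` as `x`.
-/

set_option autoImplicit false

namespace Cfsg.Agent.Lib.Helper27.TT

open Cfsg

variable {G : Type*} [Group G] {D : Set G}

/-- `x'` is the partner of `x` -/
def Partner (D : Set G) (x x' : G) : Prop :=
  x' ≠ x ∧ Same D x x' ∧ ∀ e ∈ D, Commute x e → e = x ∨ e = x'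

theorem Partner.symm {x x' : G} (h : Partner D x x') : Partner D x' x := by
  refine ⟨h.1.symm, h.2.1.symm, fun e he hc => ?_⟩
  rcases h.2.2 e he ((h.2.1.2.2 e he).mpr hc) with h1 | h1
  · exact Or.inr h1
  · exact Or.inl h1

theorem Partner.unique {x a b : G} (ha : Partner D x a) (hb : Partner D x b) : a = b := by
  rcases hb.2.2 a ha.2.1.2.1 ha.2.1.commute with h1 | h1
  · exact absurd h1 ha.1
  · exact h1

theorem Partner.conj (hc : ∀ g : G, ∀ d ∈ D, g * d * g⁻¹ ∈ D) {x x' : G} (h : Partner D x x')
    (g : G) : Partner D (g * x * g⁻¹) (g * x' * g⁻¹) := by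
  refine ⟨?_, h.2.1.conj hc g, ?_⟩
  · intro heq
    apply h.1
    have h1 : g⁻¹ * (g * x' * g⁻¹) * g = g⁻¹ * (g * x * g⁻¹) * g := by rw [heq]
    calc x' = g⁻¹ * (g * x' * g⁻¹) * g := by group
      _ = g⁻¹ * (g * x * g⁻¹) * g := h1
      _ = x := by group
  · intro e he hce
    have he' : g⁻¹ * e * g⁻¹⁻¹ ∈ D := hc g⁻¹ e he
    have e1 : e = g * (g⁻¹ * e * g⁻¹⁻¹) * g⁻¹ := by group
    rw [e1, Commute.conj_iff] at hce
    rcases h.2.2 _ he' hce with h1 | h1
    · left; rw [e1, h1]
    · right; rw [e1, h1]

/-- in a class, the hypotheses at one member `d` give partners for all members -/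
theorem exists_partner (hD : IsThreeTranspositionClass D) {d : G} (hd : d ∈ D)
    (hV : {y : G | y ∈ D ∧ Commute d y} =
      {v : G | v ∈ D ∧ ∀ e ∈ D, Commute v e ↔ Commute d e})
    (hm : {y : G | y ∈ D ∧ Commute d y}.ncard = 2) :
    ∀ x ∈ D, ∃ x', Partner D x x' := by
  have hc := fun g x hx => conj_mem_of_class hD g (x := x) hx
  have key : ∀ a b : G, a ≠ b → {y : G | y ∈ D ∧ Commute d y} = {a, b} → d = a →
      ∃ d', Partner D d d' := by
    intro a b hab hA hda
    have hbA : b ∈ {y : G | y ∈ D ∧ Commute d y} := by rw [hA]; right; rfl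
    have hbV : b ∈ {v : G | v ∈ D ∧ ∀ e ∈ D, Commute v e ↔ Commute d e} := by rw [← hV]; exact hbA
    refine ⟨b, ?_, ⟨hd, hbV.1, fun e he => (hbV.2 e he).symm⟩, ?_⟩
    · rw [hda]; exact hab.symm
    · intro e he hce
      have heA : e ∈ {y : G | y ∈ D ∧ Commute d y} := ⟨he, hce⟩
      rw [hA] at heA
      rcases heA with h1 | h1
      · left; rw [h1, hda]
      · right; exact h1
  have hdp : ∃ d', Partner D d d' := by
    obtain ⟨a, b, hab, hA⟩ := Set.ncard_eq_two.mp hm
    have hdA : d ∈ {y : G | y ∈ D ∧ Commute d y} := ⟨hd, Commute.refl d⟩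
    rw [hA] at hdA
    rcases hdA with h1 | h1
    · exact key a b hab hA h1
    · exact key b a hab.symm (by rw [hA, Set.pair_comm]) h1
  obtain ⟨d', hd'⟩ := hdp
  intro x hx
  obtain ⟨d0, _, hDeq⟩ := hD.2.1
  have hx' : IsConj d0 x := by rw [hDeq] at hx; exact hx
  have hd'' : IsConj d0 d := by rw [hDeq] at hd; exact hd
  obtain ⟨c1, h1⟩ := isConj_iff.mp hx'
  obtain ⟨c2, h2⟩ := isConj_iff.mp hd''
  have e : x = (c1 * c2⁻¹) * d * (c1 * c2⁻¹)⁻¹ := by
    rw [← h1, ← h2]; group
  refine ⟨(c1 * c2⁻¹) * d' * (c1 * c2⁻¹)⁻¹, ?_⟩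
  rw [e]
  exact hd'.conj hc _

section

variable (hset : IsThreeTranspositionSet D) (hc : ∀ g : G, ∀ d ∈ D, g * d * g⁻¹ ∈ D)
include hset hc

theorem Partner.mul_self_mul {x x' : G} (h : Partner D x x') : (x * x') * (x * x') = 1 :=
  mul_mul_self_of_commute h.2.1.commute (mul_self_of_mem hset h.2.1.1)
    (mul_self_of_mem hset h.2.1.2.1)

theorem Partner.mul_ne_one {x x' : G} (h : Partner D x x') : x * x' ≠ 1 := by
  intro h1
  apply h.1
  have h2 := eq_inv_of_mul_eq_one_right h1
  rw [inv_of_mem hset h.2.1.1] at h2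
  exact h2

/-- conjugation by `x x'` swaps `e` and its partner -/
theorem partner_conj {x x' e e' : G} (hx : Partner D x x') (he : Partner D e e')
    (hne : ¬ Commute x e) : (x * x') * e * (x * x')⁻¹ = e' := by
  have hxD := hx.2.1.1
  have hx'D := hx.2.1.2.1
  have heD := he.2.1.1
  have hu : (x * x') * e * (x * x')⁻¹ ∈ D := hc _ e heD
  have hcomm : Commute e ((x * x') * e * (x * x')⁻¹) := commute_conj_of_same hset hx.2.1 heD
  rcases he.2.2 _ hu hcomm with h1 | h1
  · exfalso
    have ht : (x * x') * e = e * (x * x') := by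
      calc (x * x') * e = ((x * x') * e * (x * x')⁻¹) * (x * x') := by group
        _ = e * (x * x') := by rw [h1]
    have hx'e : ¬ Commute x' e := fun h => hne ((hx.2.1.2.2 e heD).mpr h)
    have b1 := braid hset hxD heD hne
    have b2 := braid hset hx'D heD hx'e
    have hxx := mul_self_of_mem hset hxD
    have h2 : e * x' * e = x * e * x' := by
      calc e * x' * e = e * (x * (x * x')) * e := by rw [← mul_assoc x x x', hxx, one_mul]
        _ = e * x * ((x * x') * e) := by group
        _ = e * x * (e * (x * x')) := by rw [ht]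
        _ = (e * x * e) * (x * x') := by group
        _ = (x * e * x) * (x * x') := by rw [b1]
        _ = x * e * ((x * x) * x') := by group
        _ = x * e * x' := by rw [hxx, one_mul]
    have h3 : x' * e * x' = x * e * x' := b2.trans h2
    exact hx.1 (mul_right_cancel (mul_right_cancel h3))
  · exact h1

/-- `a t_b a = t_a t_b` for noncommuting `a`, `b` -/
theorem conj_partner_mul {a a' b b' : G} (ha : Partner D a a') (hb : Partner D b b')
    (hab : ¬ Commute a b) : a * (b * b') * a = (a * a') * (b * b') := by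
  have hba : ¬ Commute b a := fun h => hab h.symm
  have h1 := partner_conj hset hc hb ha hba
  have hTT := hb.mul_self_mul hset hc
  have hTinv : (b * b')⁻¹ = b * b' := inv_eq_of_mul_eq_one_right hTT
  rw [hTinv] at h1
  calc a * (b * b') * a = a * (b * b') * a * ((b * b') * (b * b')) := by rw [hTT, mul_one]
    _ = (a * ((b * b') * a * (b * b'))) * (b * b') := by group
    _ = (a * a') * (b * b') := by rw [h1]

/-- the products `x x'` commute -/
theorem partner_mul_commute {x x' e e' : G} (hx : Partner D x x') (he : Partner D e e')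
    (hne : ¬ Commute x e) : (x * x') * (e * e') = (e * e') * (x * x') := by
  have h1 := partner_conj hset hc hx he hne
  have hne' : ¬ Commute x e' := by
    intro h
    apply hne
    exact ((he.2.1.2.2 x hx.2.1.1).mpr h.symm).symm
  have h2 := partner_conj hset hc hx he.symm hne'
  have h3 : (x * x') * (e * e') * (x * x')⁻¹ = e * e' := by
    calc (x * x') * (e * e') * (x * x')⁻¹
        = ((x * x') * e * (x * x')⁻¹) * ((x * x') * e' * (x * x')⁻¹) := by group
      _ = e' * e := by rw [h1, h2]
      _ = e * e' := he.2.1.commute.symm.eq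
  calc (x * x') * (e * e') = ((x * x') * (e * e') * (x * x')⁻¹) * (x * x') := by group
    _ = (e * e') * (x * x') := by rw [h3]

/-- the product attached to `a b a` -/
theorem partner_mul_conj {a a' b b' c' : G} (ha : Partner D a a') (hb : Partner D b b')
    (hab : ¬ Commute a b) (hcp : Partner D (a * b * a) c') :
    (a * b * a) * c' = (a * a') * (b * b') := by
  have haD := ha.2.1.1
  have hai := inv_of_mem hset haD
  have haa := mul_self_of_mem hset haD
  have h1 : Partner D (a * b * a) (a * b' * a) := by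
    have := hb.conj hc a
    rwa [hai] at this
  have h2 : c' = a * b' * a := hcp.unique h1
  rw [h2]
  calc (a * b * a) * (a * b' * a) = a * b * (a * a) * b' * a := by group
    _ = a * (b * b') * a := by rw [haa]; group
    _ = (a * a') * (b * b') := conj_partner_mul hset hc ha hb hab

/-- three pairwise noncommuting members: `x` commutes with `y e y` -/
theorem commute_of_three (hP : ∀ x ∈ D, ∃ x', Partner D x x') {x y e : G} (hx : x ∈ D)
    (hy : y ∈ D) (he : e ∈ D) (hxy : ¬ Commute x y) (hxe : ¬ Commute x e)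
    (hye : ¬ Commute y e) : Commute x (y * e * y) := by
  by_contra hnc
  have hxi := inv_of_mem hset hx
  have hyi := inv_of_mem hset hy
  have hxx := mul_self_of_mem hset hx
  have huD : y * e * y ∈ D := by
    have := hc y e he
    rwa [hyi] at this
  have hvD : x * (y * e * y) * x ∈ D := by
    have := hc x _ huD
    rwa [hxi] at this
  have hc1D : x * y * x ∈ D := by
    have := hc x y hy
    rwa [hxi] at this
  have hc2D : x * e * x ∈ D := by
    have := hc x e he
    rwa [hxi] at this
  obtain ⟨x', hx'⟩ := hP x hx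
  obtain ⟨y', hy'⟩ := hP y hy
  obtain ⟨e', he'⟩ := hP e he
  obtain ⟨u', hu'⟩ := hP _ huD
  obtain ⟨v', hv'⟩ := hP _ hvD
  obtain ⟨c1', hc1'⟩ := hP _ hc1D
  obtain ⟨c2', hc2'⟩ := hP _ hc2D
  have r1 := partner_mul_conj hset hc hy' he' hye hu'
  have r2 := partner_mul_conj hset hc hx' hu' hnc hv'
  have r3 := partner_mul_conj hset hc hx' hy' hxy hc1'
  have r4 := partner_mul_conj hset hc hx' he' hxe hc2'
  have hv : x * (y * e * y) * x = (x * y * x) * (x * e * x) * (x * y * x) := by
    calc x * (y * e * y) * x = x * y * (1 : G) * e * (1 : G) * y * x := by group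
      _ = x * y * (x * x) * e * (x * x) * y * x := by rw [hxx]
      _ = (x * y * x) * (x * e * x) * (x * y * x) := by group
  have hc12 : ¬ Commute (x * y * x) (x * e * x) := by
    intro h
    apply hye
    have h' : Commute (x * y * x⁻¹) (x * e * x⁻¹) := by rw [hxi]; exact h
    exact (Commute.conj_iff x).mp h'
  rw [hv] at hv'
  have r5 := partner_mul_conj hset hc hc1' hc2' hc12 hv'
  rw [← hv, r2, r1, r3, r4] at r5
  -- r5 : (x x') ((y y') (e e')) = ((x x') (y y')) ((x x') (e e'))
  have h6 : e * e' = (x * x') * (e * e') := by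
    have h7 : ((x * x') * (y * y')) * (e * e') = ((x * x') * (y * y')) * ((x * x') * (e * e')) := by
      rw [mul_assoc]; exact r5
    exact mul_left_cancel h7
  have h8 : x * x' = 1 := mul_eq_right.mp h6.symm
  exact hx'.mul_ne_one hset hc h8

/-- the class has at most six members -/
theorem mem_six (hP : ∀ x ∈ D, ∃ x', Partner D x x') {x x' y y' : G} (hx : Partner D x x')
    (hy : Partner D y y') (hxy : ¬ Commute x y) {e : G} (he : e ∈ D) :
    e = x ∨ e = x' ∨ e = y ∨ e = y' ∨ e = y * x * y ∨ e = y * x' * y := by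
  have hyy := mul_self_of_mem hset hy.2.1.1
  by_cases hxe : Commute x e
  · rcases hx.2.2 e he hxe with h1 | h1
    · exact Or.inl h1
    · exact Or.inr (Or.inl h1)
  by_cases hye : Commute y e
  · rcases hy.2.2 e he hye with h1 | h1
    · exact Or.inr (Or.inr (Or.inl h1))
    · exact Or.inr (Or.inr (Or.inr (Or.inl h1)))
  have h1 := commute_of_three hset hc hP hx.2.1.1 hy.2.1.1 he hxy hxe hye
  have huD : y * e * y ∈ D := by
    have := hc y e he
    rwa [inv_of_mem hset hy.2.1.1] at this
  have e1 : e = y * (y * e * y) * y := by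
    calc e = (y * y) * e * (y * y) := by rw [hyy, one_mul, mul_one]
      _ = y * (y * e * y) * y := by group
  rcases hx.2.2 _ huD h1 with h2 | h2
  · right; right; right; right; left
    rw [e1, h2]
  · right; right; right; right; right
    rw [e1, h2]

end

end Cfsg.Agent.Lib.Helper27.TT
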