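import Mathlib
import Cfsg.Prelude.Def_FischerSpaces
import Cfsg.Agent.Lib.Helper27.ThreeTransp
import Cfsg.Agent.Lib.Helper27.TTWidthOne
import Cfsg.Agent.Lib.Helper27.ZStarW1

/-!
# Helper27: classes of 3-transpositions in which commuting members are congruent modulo `O₂(G)`

Part A: fibres modulo `O₂(G)` are `O₂(G)`-orbits.
-/

set_option autoImplicit false

namespace Cfsg.Agent.Lib.Helper27.TS

open Cfsg Cfsg.Agent.Lib.Helper27.TT Cfsg.Agent.Lib.Helper27.W1

universe u

section Basic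

variable {G : Type*} [Group G]

/-- the conjugacy class of `d` as a set -/
def cls (d : G) : Set G := {x | ∃ g : G, x = g * d * g⁻¹}

theorem self_mem_cls (d : G) : d ∈ cls d := ⟨1, by simp⟩

theorem conj_mem_cls {d : G} (g : G) {x : G} (hx : x ∈ cls d) : g * x * g⁻¹ ∈ cls d := by
  obtain ⟨h, rfl⟩ := hx
  exact ⟨g * h, by group⟩

theorem cls_conj_inv {d : G} : ∀ g : G, ∀ x ∈ cls d, g * x * g⁻¹ ∈ cls d :=
  fun g _ hx => conj_mem_cls g hx

/-- the inductive hypothesis: the class of `d` is a generating class of 3-transpositions in which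
commuting members are congruent modulo `O₂(G)` -/
structure Hyp (G : Type*) [Group G] (d : G) : Prop where
  tt : IsThreeTranspositionSet (cls d)
  gen : Subgroup.closure (cls d) = ⊤
  comm : ∀ a ∈ cls d, ∀ b ∈ cls d, Commute a b → a * b ∈ Cfsg.pCore 2 G

/-- the members of the class commuting with `a` -/
def Fib (d a : G) : Set G := {b | b ∈ cls d ∧ Commute a b}

variable [Finite G] {d : G}

theorem commute_iff_mem (h : Hyp G d) {a b : G} (ha : a ∈ cls d) (hb : b ∈ cls d) :
    Commute a b ↔ a⁻¹ * b ∈ Cfsg.pCore 2 G := by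
  constructor
  · intro hab
    rw [inv_of_mem h.tt ha]
    exact h.comm a ha b hb hab
  · intro hq
    exact (commute_of_mem_pCore h.tt ha hb ha hq (Commute.refl a)).symm

theorem commute_trans (h : Hyp G d) {a b c : G} (ha : a ∈ cls d) (hb : b ∈ cls d) (hc : c ∈ cls d)
    (hab : Commute a b) (hbc : Commute b c) : Commute a c := by
  rw [commute_iff_mem h ha hc]
  have h1 := (commute_iff_mem h ha hb).mp hab
  have h2 := (commute_iff_mem h hb hc).mp hbc
  have : a⁻¹ * c = (a⁻¹ * b) * (b⁻¹ * c) := by group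
  rw [this]
  exact Subgroup.mul_mem _ h1 h2

theorem fib_ncard_le (h : Hyp G d) {a e : G} (ha : a ∈ cls d) (he : e ∈ cls d)
    (hae : ¬ Commute a e) :
    (Fib d e).ncard ≤ (conjSet (Cfsg.pCore 2 G) a).ncard := by
  apply Set.ncard_le_ncard_of_injOn (fun e' => (e * e') * a * (e * e')⁻¹)
  · rintro e' ⟨he'D, hee'⟩
    exact ⟨e * e', h.comm e he e' he'D hee', rfl⟩
  · rintro x ⟨hxD, hex⟩ y ⟨hyD, hey⟩ hxy
    have ix := inv_of_mem h.tt hxD
    have iy := inv_of_mem h.tt hyD
    have ie := inv_of_mem h.tt he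
    have h1 : x * a * x = y * a * y := by
      have h2 : e * x * a * (e * x)⁻¹ = e * y * a * (e * y)⁻¹ := hxy
      rw [mul_inv_rev, mul_inv_rev, ix, iy, ie] at h2
      have h3 : e * (x * a * x) * e = e * (y * a * y) * e := by
        simp only [mul_assoc] at h2 ⊢
        exact h2
      exact mul_left_cancel (mul_right_cancel h3)
    have hax : ¬ Commute a x := fun hc =>
      hae (commute_trans h ha hxD he hc hex.symm)
    have hay : ¬ Commute a y := fun hc =>
      hae (commute_trans h ha hyD he hc hey.symm)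
    have b1 := braid h.tt ha hxD hax
    have b2 := braid h.tt ha hyD hay
    rw [← b1, ← b2] at h1
    exact mul_left_cancel (mul_right_cancel h1)

theorem conjSet_subset_fib (h : Hyp G d) {a : G} (ha : a ∈ cls d) :
    conjSet (Cfsg.pCore 2 G) a ⊆ Fib d a := by
  rintro x ⟨q, hq, rfl⟩
  have hQn : (Cfsg.pCore 2 G).Normal := Cfsg.Agent.Lib.Helper16.pCore_normal
  refine ⟨conj_mem_cls q ha, ?_⟩
  rw [commute_iff_mem h ha (conj_mem_cls q ha)]
  have : a⁻¹ * (q * a * q⁻¹) = (a⁻¹ * q * a⁻¹⁻¹) * q⁻¹ := by group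
  rw [this]
  exact Subgroup.mul_mem _ (hQn.conj_mem q hq a⁻¹) (Subgroup.inv_mem _ hq)

/-- fibres are `O₂(G)`-orbits, once some member of the class does not commute with `a` -/
theorem fib_eq_conjSet (h : Hyp G d) {a e : G} (ha : a ∈ cls d) (he : e ∈ cls d)
    (hae : ¬ Commute a e) : conjSet (Cfsg.pCore 2 G) a = Fib d a := by
  apply Set.eq_of_subset_of_ncard_le (conjSet_subset_fib h ha) _ (Set.toFinite _)
  have h1 := fib_ncard_le h ha he hae
  have h2 := fib_ncard_le h he ha (fun hc => hae hc.symm)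
  have h3 := Set.ncard_le_ncard (conjSet_subset_fib h he) (Set.toFinite _)
  omega

theorem ncard_conjSet_two_pow (a : G) : ∃ k : ℕ, (conjSet (Cfsg.pCore 2 G) a).ncard = 2 ^ k := by
  have hQp : IsPGroup 2 (Cfsg.pCore 2 G) := Cfsg.Agent.Lib.Helper16.pCore_isPGroup
  haveI : Fact (Nat.Prime 2) := ⟨Nat.prime_two⟩
  obtain ⟨n, hn⟩ := IsPGroup.iff_card.mp hQp
  have h1 := ncard_conjSet (Cfsg.pCore 2 G) a
  rw [hn] at h1
  have h2 : (conjSet (Cfsg.pCore 2 G) a).ncard ∣ 2 ^ n := Dvd.intro _ h1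
  obtain ⟨k, _, hk⟩ := (Nat.dvd_prime_pow Nat.prime_two).mp h2
  exact ⟨k, hk⟩

end Basic

end Cfsg.Agent.Lib.Helper27.TS
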