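import Mathlib
import Cfsg.Agent.Lib.Helper27.TTSylA

/-!
# Helper27: classes of 3-transpositions with commuting members congruent modulo `O₂(G)`

Part B: images and restrictions of the hypothesis; group-theoretic lemmas.
-/

set_option autoImplicit false

namespace Cfsg.Agent.Lib.Helper27.TS

open Cfsg Cfsg.Agent.Lib.Helper27.TT Cfsg.Agent.Lib.Helper27.W1

universe u

section Generic

variable {G : Type*} [Group G]

theorem sylow_eq_bot_of_two_group [Finite G] (hG : IsPGroup 2 G) (P : Sylow 3 G) :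
    (P : Subgroup G) = ⊥ := by
  rw [Subgroup.eq_bot_iff_forall]
  intro x hx
  obtain ⟨k, hk⟩ := (IsPGroup.iff_orderOf.mp hG) x
  obtain ⟨j, hj⟩ := (IsPGroup.iff_orderOf.mp P.2) ⟨x, hx⟩
  rw [Subgroup.orderOf_mk] at hj
  have h1 : orderOf x ∣ 2 ^ k := by rw [hk]
  have h2 : orderOf x ∣ 3 ^ j := by rw [hj]
  have hcop : Nat.Coprime (2 ^ k) (3 ^ j) := Nat.Coprime.pow k j (by norm_num)
  exact orderOf_eq_one_iff.mp (Nat.eq_one_of_dvd_coprimes hcop h1 h2)

theorem eq_one_of_two_three {N : Subgroup G} (hN : IsPGroup 2 N) {x : G} (hx : x ∈ N)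
    {j : ℕ} (h3 : x ^ (3 ^ j) = 1) : x = 1 := by
  obtain ⟨k, hk⟩ := hN ⟨x, hx⟩
  have hk' : x ^ (2 ^ k) = 1 := by
    have := congrArg Subtype.val hk
    simpa using this
  have h1 : orderOf x ∣ 2 ^ k := orderOf_dvd_of_pow_eq_one hk'
  have h2 : orderOf x ∣ 3 ^ j := orderOf_dvd_of_pow_eq_one h3
  have hcop : Nat.Coprime (2 ^ k) (3 ^ j) := Nat.Coprime.pow k j (by norm_num)
  exact orderOf_eq_one_iff.mp (Nat.eq_one_of_dvd_coprimes hcop h1 h2)

theorem mem_normalizer_zpowers_of_invol {t y : G} (ht : t * t = 1)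
    (h : t * y * t⁻¹ ∈ Subgroup.zpowers y) :
    t ∈ Subgroup.normalizer (Subgroup.zpowers y : Set G) := by
  have it : t⁻¹ = t := inv_eq_of_mul_eq_one_left ht
  rw [Subgroup.mem_normalizer_iff]
  have key : ∀ x ∈ Subgroup.zpowers y, t * x * t⁻¹ ∈ Subgroup.zpowers y := by
    intro x hx
    obtain ⟨i, rfl⟩ := Subgroup.mem_zpowers_iff.mp hx
    rw [← conj_zpow]
    exact Subgroup.zpow_mem _ h i
  intro x
  refine ⟨key x, fun hx => ?_⟩
  have h2 := key _ hx
  have e : t * (t * x * t⁻¹) * t⁻¹ = x := by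
    rw [it]
    calc t * (t * x * t) * t = (t * t) * x * (t * t) := by simp only [mul_assoc]
      _ = x := by rw [ht, one_mul, mul_one]
  rwa [e] at h2

/-- an involution acting on a nontrivial normal `3`-subgroup has an eigen-element of order `3` in
its centre -/
theorem exists_eigen [Finite G] (P : Subgroup G) [hPn : P.Normal] (hP : IsPGroup 3 P) (hP1 : P ≠ ⊥)
    (t : G) (ht : t * t = 1) :
    ∃ y ∈ P, orderOf y = 3 ∧ (∀ x ∈ P, Commute x y) ∧ (t * y * t⁻¹ = y ∨ t * y * t⁻¹ = y⁻¹) := by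
  haveI : Fact (Nat.Prime 3) := ⟨Nat.prime_three⟩
  have it : t⁻¹ = t := inv_eq_of_mul_eq_one_left ht
  haveI : Nontrivial ↥P := (Subgroup.nontrivial_iff_ne_bot P).mpr hP1
  haveI : Nontrivial (Subgroup.center ↥P) := hP.center_nontrivial
  have hZp : IsPGroup 3 (Subgroup.center ↥P) := hP.to_subgroup _
  have hdvd : 3 ∣ Nat.card (Subgroup.center ↥P) := by
    rcases hZp.card_eq_or_dvd with h | h
    · exact absurd h (Finite.one_lt_card_iff_nontrivial.mpr inferInstance).ne'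
    · exact h
  obtain ⟨x, hx⟩ := exists_prime_orderOf_dvd_card' 3 hdvd
  obtain ⟨x₀, hx₀⟩ : ∃ x₀ : G, x₀ = ((x : ↥P) : G) := ⟨_, rfl⟩
  have hx₀P : x₀ ∈ P := by rw [hx₀]; exact (x : ↥P).2
  have hx₀o : orderOf x₀ = 3 := by
    rw [hx₀, Subgroup.orderOf_coe, Subgroup.orderOf_coe, hx]
  have hx₀c : ∀ p ∈ P, Commute p x₀ := by
    intro p hp
    have h1 := Subgroup.mem_center_iff.mp x.2 ⟨p, hp⟩
    have h2 := congrArg Subtype.val h1
    rw [hx₀]
    exact h2
  have hx₀3 : x₀ ^ 3 = 1 := by rw [← hx₀o]; exact pow_orderOf_eq_one x₀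
  obtain ⟨x', hx'⟩ : ∃ x', x' = t * x₀ * t⁻¹ := ⟨_, rfl⟩
  have hx'P : x' ∈ P := by rw [hx']; exact hPn.conj_mem x₀ hx₀P t
  have hx'c : ∀ p ∈ P, Commute p x' := by
    intro p hp
    have h1 : t⁻¹ * p * t⁻¹⁻¹ ∈ P := hPn.conj_mem p hp t⁻¹
    have h2 := hx₀c _ h1
    have h3 : Commute (t * (t⁻¹ * p * t⁻¹⁻¹) * t⁻¹) (t * x₀ * t⁻¹) := (Commute.conj_iff t).mpr h2
    have e : t * (t⁻¹ * p * t⁻¹⁻¹) * t⁻¹ = p := by group
    rw [e, ← hx'] at h3
    exact h3
  have hx'3 : x' ^ 3 = 1 := by rw [hx', conj_pow, hx₀3, mul_one, mul_inv_cancel]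
  have hcomm : Commute x₀ x' := hx'c x₀ hx₀P
  have htx' : t * x' * t⁻¹ = x₀ := by
    rw [hx', it]
    calc t * (t * x₀ * t) * t = (t * t) * x₀ * (t * t) := by simp only [mul_assoc]
      _ = x₀ := by rw [ht, one_mul, mul_one]
  by_cases h1 : x₀ * x' = 1
  · refine ⟨x₀, hx₀P, hx₀o, hx₀c, Or.inr ?_⟩
    rw [← hx']
    exact (eq_inv_of_mul_eq_one_right h1)
  · refine ⟨x₀ * x', P.mul_mem hx₀P hx'P, ?_, ?_, Or.inl ?_⟩
    · apply orderOf_eq_prime
      · rw [hcomm.mul_pow, hx₀3, hx'3, one_mul]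
      · exact h1
    · intro p hp
      exact (hx₀c p hp).mul_right (hx'c p hp)
    · rw [← conj_mul, htx', ← hx', hcomm.eq]

/-- if `L ⊔ Q = ⊤` with `Q` a normal `2`-group then `3` does not divide the index of `L` -/
theorem not_three_dvd_index [Finite G] (L Q : Subgroup G) [Q.Normal] (hQ : IsPGroup 2 Q)
    (hLQ : L ⊔ Q = ⊤) : ¬ 3 ∣ L.index := by
  haveI : Fact (Nat.Prime 2) := ⟨Nat.prime_two⟩
  obtain ⟨k, hk⟩ := IsPGroup.iff_card.mp hQ
  have h1 : Q.relIndex L = Q.index := by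
    rw [← Subgroup.relIndex_sup_right, hLQ, Subgroup.relIndex_top_right]
  have h2 : L.index * Nat.card L = Nat.card G := L.index_mul_card
  have h3 : Q.index * Nat.card Q = Nat.card G := Q.index_mul_card
  obtain ⟨m, hm⟩ : Q.relIndex L ∣ Nat.card L := Subgroup.relIndex_dvd_card Q L
  have h4 : L.index * m = Nat.card Q := by
    have h5 : Q.index * (L.index * m) = Q.index * Nat.card Q := by
      rw [h3, ← h2, hm, h1]; ring
    have hpos : 0 < Q.index := Nat.pos_of_ne_zero Subgroup.index_ne_zero_of_finite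
    exact Nat.eq_of_mul_eq_mul_left hpos h5
  intro h3dvd
  have h6 : 3 ∣ 2 ^ k := by
    rw [← hk, ← h4]
    exact Dvd.dvd.mul_right h3dvd m
  have h7 := Nat.Prime.dvd_of_dvd_pow Nat.prime_three h6
  omega

end Generic

end Cfsg.Agent.Lib.Helper27.TS
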