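import Mathlib
import Cfsg.Agent.Lib.Helper27.TTSylB

/-!
# Helper27: classes of 3-transpositions with commuting members congruent modulo `O₂(G)`

Part C: images of the hypothesis, the quotient by `O₂(G)`, lifting eigen-elements, Frattini.
-/

set_option autoImplicit false

namespace Cfsg.Agent.Lib.Helper27.TS

open Cfsg Cfsg.Agent.Lib.Helper27.TT Cfsg.Agent.Lib.Helper27.W1

universe u

instance pCore_normal_inst {G : Type*} [Group G] (p : ℕ) : (Cfsg.pCore p G).Normal :=
  Cfsg.Agent.Lib.Helper16.pCore_normal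

section Image

variable {G : Type*} [Group G] {H : Type*} [Group H]

theorem cls_map (f : G →* H) (hf : Function.Surjective f) (d : G) : cls (f d) = f '' cls d := by
  ext x
  constructor
  · rintro ⟨k, rfl⟩
    obtain ⟨g, rfl⟩ := hf k
    exact ⟨g * d * g⁻¹, ⟨g, rfl⟩, by simp⟩
  · rintro ⟨a, ⟨g, rfl⟩, rfl⟩
    exact ⟨f g, by simp⟩

theorem tt_map (f : G →* H) (hf : Function.Surjective f) {d : G}
    (htt : IsThreeTranspositionSet (cls d)) (hd : f d ≠ 1) :
    IsThreeTranspositionSet (cls (f d)) := by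
  haveI : Fact (Nat.Prime 2) := ⟨Nat.prime_two⟩
  rw [cls_map f hf]
  constructor
  · rintro x ⟨a, ha, rfl⟩
    apply orderOf_eq_prime
    · rw [← map_pow, pow_two, mul_self_of_mem htt ha, map_one]
    · obtain ⟨g, rfl⟩ := ha
      intro h1
      apply hd
      have : f d = (f g)⁻¹ * f (g * d * g⁻¹) * (f g) := by simp [mul_assoc]
      rw [this, h1]; simp
  · rintro x ⟨a, ha, rfl⟩ y ⟨b, hb, rfl⟩
    rcases htt.2 a ha b hb with h | h
    · left; rw [← map_mul, ← map_pow, h, map_one]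
    · right; rw [← map_mul, ← map_pow, h, map_one]

theorem gen_map (f : G →* H) (hf : Function.Surjective f) {d : G}
    (hgen : Subgroup.closure (cls d) = ⊤) : Subgroup.closure (cls (f d)) = ⊤ := by
  rw [cls_map f hf, ← MonoidHom.map_closure, hgen, ← MonoidHom.range_eq_map,
    MonoidHom.range_eq_top.mpr hf]

end Image

section Quot

variable {G : Type*} [Group G] [Finite G] {d : G}

theorem mul_mem_of_commute_mk (h : Hyp G d) (N : Subgroup G) [N.Normal] {a b : G}
    (ha : a ∈ cls d) (hb : b ∈ cls d)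
    (hc : Commute (QuotientGroup.mk' N a) (QuotientGroup.mk' N b)) :
    Commute a b ∨ a * b ∈ N := by
  by_cases hab : Commute a b
  · exact Or.inl hab
  right
  have h3 := pow_three_of_not_commute h.tt ha hb hab
  have ha2 : (QuotientGroup.mk' N a) * (QuotientGroup.mk' N a) = 1 := by
    rw [← map_mul, mul_self_of_mem h.tt ha, map_one]
  have hb2 : (QuotientGroup.mk' N b) * (QuotientGroup.mk' N b) = 1 := by
    rw [← map_mul, mul_self_of_mem h.tt hb, map_one]
  have h2 := mul_mul_self_of_commute hc ha2 hb2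
  rw [← map_mul, ← map_mul] at h2
  have h4 : (a * b) * (a * b) ∈ N := by
    have := (QuotientGroup.eq_one_iff ((a * b) * (a * b))).mp h2
    exact this
  have h5 : a * b = ((a * b) * (a * b))⁻¹ := by
    apply eq_inv_of_mul_eq_one_right
    rw [← h3, pow_three, mul_assoc]
  rw [h5]
  exact N.inv_mem h4

theorem hyp_quot (h : Hyp G d) (N : Subgroup G) [N.Normal] (hd : d ∉ N) :
    Hyp (G ⧸ N) (QuotientGroup.mk' N d) := by
  have hsurj : Function.Surjective (QuotientGroup.mk' N) := QuotientGroup.mk'_surjective N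
  have hd1 : QuotientGroup.mk' N d ≠ 1 := fun h1 => hd ((QuotientGroup.eq_one_iff d).mp h1)
  refine ⟨tt_map _ hsurj h.tt hd1, gen_map _ hsurj h.gen, ?_⟩
  intro x hx y hy hxy
  rw [cls_map _ hsurj] at hx hy
  obtain ⟨a, ha, rfl⟩ := hx
  obtain ⟨b, hb, rfl⟩ := hy
  rw [← map_mul]
  rcases mul_mem_of_commute_mk h N ha hb hxy with hc | hc
  · have h1 := h.comm a ha b hb hc
    have hn : ((Cfsg.pCore 2 G).map (QuotientGroup.mk' N)).Normal :=
      Subgroup.Normal.map inferInstance _ hsurj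
    have hp : IsPGroup 2 ((Cfsg.pCore 2 G).map (QuotientGroup.mk' N)) :=
      IsPGroup.map (Cfsg.Agent.Lib.Helper16.pCore_isPGroup) _
    exact Cfsg.Agent.Lib.Helper16.le_pCore _ hn hp (Subgroup.mem_map_of_mem _ h1)
  · have : QuotientGroup.mk' N (a * b) = 1 := (QuotientGroup.eq_one_iff _).mpr hc
    rw [this]
    exact Subgroup.one_mem _

theorem width_one_quot (h : Hyp G d) :
    ∀ x ∈ cls (QuotientGroup.mk' (Cfsg.pCore 2 G) d), ∀ y ∈ cls (QuotientGroup.mk' (Cfsg.pCore 2 G) d),
      Commute x y → x = y := by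
  have hsurj : Function.Surjective (QuotientGroup.mk' (Cfsg.pCore 2 G)) :=
    QuotientGroup.mk'_surjective _
  intro x hx y hy hxy
  rw [cls_map _ hsurj] at hx hy
  obtain ⟨a, ha, rfl⟩ := hx
  obtain ⟨b, hb, rfl⟩ := hy
  have hmem : a * b ∈ Cfsg.pCore 2 G := by
    rcases mul_mem_of_commute_mk h _ ha hb hxy with hc | hc
    · exact h.comm a ha b hb hc
    · exact hc
  have h1 : QuotientGroup.mk' (Cfsg.pCore 2 G) (a * b) = 1 := (QuotientGroup.eq_one_iff _).mpr hmem
  rw [map_mul] at h1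
  have h2 := eq_inv_of_mul_eq_one_left h1
  rw [h2, ← map_inv, inv_of_mem h.tt hb]

end Quot

section QuotTop

variable {G : Type u} [Group G] [Finite G] {d : G}

theorem quot_top (hZ : ZStarHyp.{u}) (h : Hyp G d) (hd : d ∉ Cfsg.pCore 2 G) :
    Subgroup.zpowers (QuotientGroup.mk' (Cfsg.pCore 2 G) d) ⊔ Cfsg.pCore 3 (G ⧸ Cfsg.pCore 2 G) = ⊤ := by
  have hq := hyp_quot h (Cfsg.pCore 2 G) hd
  have hw := (width_eq_one_iff (self_mem_cls (QuotientGroup.mk' (Cfsg.pCore 2 G) d))).mpr
    (width_one_quot h)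
  exact (width_one_iff hZ ⟨hq.tt, cls_conj_inv, hq.gen⟩ (self_mem_cls _)).mp hw

end QuotTop

end Cfsg.Agent.Lib.Helper27.TS
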