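import Mathlib
import Cfsg.Agent.Lib.Helper27.TTSylC

/-!
# Helper27: classes of 3-transpositions with commuting members congruent modulo `O₂(G)`

Part D: lifting eigen-elements through `O₂(G)`, the Frattini argument, passage to subgroups and
quotients.
-/

set_option autoImplicit false

namespace Cfsg.Agent.Lib.Helper27.TS

open Cfsg Cfsg.Agent.Lib.Helper27.TT Cfsg.Agent.Lib.Helper27.W1
open scoped Pointwise

universe u

section Lift

variable {G : Type*} [Group G] [Finite G] {d : G}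

theorem lift_inv (h : Hyp G d) {ys : G ⧸ Cfsg.pCore 2 G} (hys : orderOf ys = 3)
    (hinv : QuotientGroup.mk' (Cfsg.pCore 2 G) d * ys * (QuotientGroup.mk' (Cfsg.pCore 2 G) d)⁻¹ = ys⁻¹) :
    ∃ z : G, orderOf z = 3 ∧ d * z * d⁻¹ = z⁻¹ ∧ QuotientGroup.mk' (Cfsg.pCore 2 G) z = ys := by
  haveI : Fact (Nat.Prime 3) := ⟨Nat.prime_three⟩
  obtain ⟨w, rfl⟩ := QuotientGroup.mk'_surjective (Cfsg.pCore 2 G) ys
  have hdD := self_mem_cls d
  have id := inv_of_mem h.tt hdD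
  have hd2 := mul_self_of_mem h.tt hdD
  have haD : w * d * w⁻¹ ∈ cls d := conj_mem_cls w hdD
  have ia := inv_of_mem h.tt haD
  have hw3 : (QuotientGroup.mk' (Cfsg.pCore 2 G) w) ^ 3 = 1 := by
    rw [← hys]; exact pow_orderOf_eq_one _
  have hw1 : QuotientGroup.mk' (Cfsg.pCore 2 G) w ≠ 1 := by
    intro h1
    rw [h1, orderOf_one] at hys
    norm_num at hys
  have hπ : QuotientGroup.mk' (Cfsg.pCore 2 G) (d * (w * d * w⁻¹)) =
      QuotientGroup.mk' (Cfsg.pCore 2 G) w := by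
    rw [← map_inv, id] at hinv
    simp only [map_mul, map_inv]
    rw [← mul_assoc, ← mul_assoc, hinv]
    have : (QuotientGroup.mk' (Cfsg.pCore 2 G) w)⁻¹ * (QuotientGroup.mk' (Cfsg.pCore 2 G) w)⁻¹ *
        (QuotientGroup.mk' (Cfsg.pCore 2 G) w) ^ 3 = QuotientGroup.mk' (Cfsg.pCore 2 G) w := by
      rw [pow_three]; group
    rw [hw3, mul_one] at this
    exact this
  have hz1 : d * (w * d * w⁻¹) ≠ 1 := by
    intro h1
    rw [h1, map_one] at hπ
    exact hw1 hπ.symm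
  have hnc : ¬ Commute d (w * d * w⁻¹) := by
    intro hc
    have h1 := h.comm d hdD _ haD hc
    have h2 : QuotientGroup.mk' (Cfsg.pCore 2 G) (d * (w * d * w⁻¹)) = 1 :=
      (QuotientGroup.eq_one_iff _).mpr h1
    rw [hπ] at h2
    exact hw1 h2
  refine ⟨d * (w * d * w⁻¹), orderOf_eq_prime (pow_three_of_not_commute h.tt hdD haD hnc) hz1,
    ?_, hπ⟩
  rw [mul_inv_rev, ia, id]
  calc d * (d * (w * d * w⁻¹)) * d = (d * d) * (w * d * w⁻¹) * d := by simp only [mul_assoc]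
    _ = w * d * w⁻¹ * d := by rw [hd2, one_mul]

theorem lift_cen (h : Hyp G d) (he : ∃ e ∈ cls d, ¬ Commute d e) {ys : G ⧸ Cfsg.pCore 2 G}
    (hys : orderOf ys = 3) (hcen : ∀ x : G ⧸ Cfsg.pCore 2 G, Commute x ys) :
    ∃ y : G, orderOf y = 3 ∧ Commute d y ∧
      QuotientGroup.mk' (Cfsg.pCore 2 G) y ∈ Subgroup.zpowers ys ∧
      QuotientGroup.mk' (Cfsg.pCore 2 G) y ≠ 1 := by
  haveI : Fact (Nat.Prime 3) := ⟨Nat.prime_three⟩
  have hQp : IsPGroup 2 (Cfsg.pCore 2 G) := Cfsg.Agent.Lib.Helper16.pCore_isPGroup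
  have hsurj : Function.Surjective (QuotientGroup.mk' (Cfsg.pCore 2 G)) :=
    QuotientGroup.mk'_surjective _
  have hdD := self_mem_cls d
  obtain ⟨e, heD, hde⟩ := he
  -- an element of order 3 in the preimage
  have hdvd : 3 ∣ Nat.card ((Subgroup.zpowers ys).comap (QuotientGroup.mk' (Cfsg.pCore 2 G))) := by
    have h1 := Subgroup.card_map_dvd ((Subgroup.zpowers ys).comap (QuotientGroup.mk' (Cfsg.pCore 2 G)))
      (QuotientGroup.mk' (Cfsg.pCore 2 G))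
    rw [Subgroup.map_comap_eq_self_of_surjective hsurj, Nat.card_zpowers, hys] at h1
    exact h1
  obtain ⟨y₀', hy₀'⟩ := exists_prime_orderOf_dvd_card' 3 hdvd
  obtain ⟨y₀, hy₀⟩ : ∃ y₀ : G, y₀ = (y₀' : G) := ⟨_, rfl⟩
  have hy₀o : orderOf y₀ = 3 := by rw [hy₀, Subgroup.orderOf_coe, hy₀']
  have hy₀Y : QuotientGroup.mk' (Cfsg.pCore 2 G) y₀ ∈ Subgroup.zpowers ys := by
    rw [hy₀]; exact y₀'.2
  have hy₀3 : y₀ ^ 3 = 1 := by rw [← hy₀o]; exact pow_orderOf_eq_one _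
  have hy₀1 : QuotientGroup.mk' (Cfsg.pCore 2 G) y₀ ≠ 1 := by
    intro h1
    have h2 : y₀ ∈ Cfsg.pCore 2 G := (QuotientGroup.eq_one_iff _).mp h1
    have h3 := eq_one_of_two_three hQp h2 (j := 1) (by rw [pow_one]; exact hy₀3)
    rw [h3, orderOf_one] at hy₀o
    norm_num at hy₀o
  have hfib := fib_eq_conjSet h hdD heD hde
  have hmaps : ∀ w : G, QuotientGroup.mk' (Cfsg.pCore 2 G) w ∈ Subgroup.zpowers ys →
      ∀ x ∈ conjSet (Cfsg.pCore 2 G) d, w * x * w⁻¹ ∈ conjSet (Cfsg.pCore 2 G) d := by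
    intro w hw x hx
    rw [hfib] at hx ⊢
    obtain ⟨hxD, hdx⟩ := hx
    refine ⟨conj_mem_cls w hxD, ?_⟩
    rw [commute_iff_mem h hdD (conj_mem_cls w hxD)]
    have h1 := (commute_iff_mem h hdD hxD).mp hdx
    rw [← QuotientGroup.eq_one_iff] at h1 ⊢
    have hwc : ∀ k : G ⧸ Cfsg.pCore 2 G, Commute k (QuotientGroup.mk' (Cfsg.pCore 2 G) w) := by
      intro k
      obtain ⟨i, hi⟩ := Subgroup.mem_zpowers_iff.mp hw
      rw [← hi]
      exact (hcen k).zpow_right i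
    have h2 : (QuotientGroup.mk' (Cfsg.pCore 2 G)) (d⁻¹ * (w * x * w⁻¹)) =
        (QuotientGroup.mk' (Cfsg.pCore 2 G)) (d⁻¹ * x) := by
      simp only [map_mul, map_inv]
      rw [← (hwc ((QuotientGroup.mk' (Cfsg.pCore 2 G)) x)).eq, mul_assoc _ _ (_)⁻¹, mul_inv_cancel,
        mul_one]
    exact h2.trans h1
  -- the action of ⟨y₀⟩ on the orbit
  letI act : MulAction (Subgroup.zpowers y₀) ↥(conjSet (Cfsg.pCore 2 G) d) :=
    { smul := fun w x => ⟨(w : G) * x * (w : G)⁻¹, hmaps w (by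
        obtain ⟨i, hi⟩ := Subgroup.mem_zpowers_iff.mp w.2
        rw [← hi, map_zpow]
        exact Subgroup.zpow_mem _ hy₀Y i) x x.2⟩
      one_smul := fun x => Subtype.ext (by
        show ((1 : Subgroup.zpowers y₀) : G) * x * ((1 : Subgroup.zpowers y₀) : G)⁻¹ = x
        simp)
      mul_smul := fun a b x => Subtype.ext (by
        show ((a * b : Subgroup.zpowers y₀) : G) * x * ((a * b : Subgroup.zpowers y₀) : G)⁻¹ =
          (a : G) * ((b : G) * x * (b : G)⁻¹) * (a : G)⁻¹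
        simp [mul_assoc]) }
  have hP : IsPGroup 3 (Subgroup.zpowers y₀) :=
    isPGroup_zpowers_of_pow (p := 3) (k := 1) (by rw [pow_one]; exact hy₀3)
  have hcard : ¬ 3 ∣ Nat.card ↥(conjSet (Cfsg.pCore 2 G) d) := by
    rw [Nat.card_coe_set_eq]
    obtain ⟨k, hk⟩ := ncard_conjSet_two_pow (G := G) d
    rw [hk]
    intro h3
    have := Nat.Prime.dvd_of_dvd_pow Nat.prime_three h3
    omega
  obtain ⟨x, hx⟩ := hP.nonempty_fixed_point_of_prime_not_dvd_card _ hcard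
  have hx1 := MulAction.mem_fixedPoints.mp hx ⟨y₀, Subgroup.mem_zpowers y₀⟩
  have hx2 : y₀ * (x : G) * y₀⁻¹ = x := congrArg Subtype.val hx1
  obtain ⟨q, hq, hxq⟩ := x.2
  have hc1 : Commute y₀ (q * d * q⁻¹) := by
    rw [← hxq]
    show y₀ * (x : G) = x * y₀
    calc y₀ * (x : G) = (y₀ * x * y₀⁻¹) * y₀ := by group
      _ = x * y₀ := by rw [hx2]
  have hc2 : Commute (q⁻¹ * y₀ * q⁻¹⁻¹) (q⁻¹ * (q * d * q⁻¹) * q⁻¹⁻¹) :=
    (Commute.conj_iff q⁻¹).mpr hc1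
  have e1 : q⁻¹ * (q * d * q⁻¹) * q⁻¹⁻¹ = d := by group
  rw [e1] at hc2
  have hπ : QuotientGroup.mk' (Cfsg.pCore 2 G) (q⁻¹ * y₀ * q⁻¹⁻¹) =
      QuotientGroup.mk' (Cfsg.pCore 2 G) y₀ := by
    have hq1 : QuotientGroup.mk' (Cfsg.pCore 2 G) q = 1 := (QuotientGroup.eq_one_iff _).mpr hq
    simp only [map_mul, map_inv, hq1, inv_one, one_mul, mul_one]
  refine ⟨q⁻¹ * y₀ * q⁻¹⁻¹, ?_, hc2.symm, ?_, ?_⟩
  · have := (MulAut.conj q⁻¹).orderOf_eq y₀
    rw [MulAut.conj_apply] at this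
    rw [this, hy₀o]
  · rw [hπ]; exact hy₀Y
  · rw [hπ]; exact hy₀1

end Lift

section Frattini

variable {G : Type*} [Group G] [Finite G]

theorem frattini_three {y : G} (hy : orderOf y = 3) (Q : Subgroup G) [hQn : Q.Normal]
    (hQ : IsPGroup 2 Q) (hn : (Subgroup.zpowers (QuotientGroup.mk' Q y)).Normal) :
    Subgroup.normalizer (Subgroup.zpowers y : Set G) ⊔ Q = ⊤ := by
  haveI : Fact (Nat.Prime 3) := ⟨Nat.prime_three⟩
  have hy3 : y ^ 3 = 1 := by rw [← hy]; exact pow_orderOf_eq_one _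
  have hN : Subgroup.zpowers y ⊔ Q =
      (Subgroup.zpowers (QuotientGroup.mk' Q y)).comap (QuotientGroup.mk' Q) := by
    rw [← MonoidHom.map_zpowers, Subgroup.comap_map_eq, QuotientGroup.ker_mk']
  haveI hNn : (Subgroup.zpowers y ⊔ Q).Normal := by
    rw [hN]; exact hn.comap _
  have hY3 : IsPGroup 3 ((Subgroup.zpowers y).subgroupOf (Subgroup.zpowers y ⊔ Q)) :=
    (isPGroup_zpowers_of_pow (p := 3) (k := 1) (by rw [pow_one]; exact hy3)).comap_subtype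
  obtain ⟨P, hP⟩ := hY3.exists_le_sylow
  have hPeq : (P : Subgroup ↥(Subgroup.zpowers y ⊔ Q)) =
      (Subgroup.zpowers y).subgroupOf (Subgroup.zpowers y ⊔ Q) := by
    apply le_antisymm _ hP
    intro x hx
    have hmul : (↑(Subgroup.zpowers y ⊔ Q) : Set G) = (Subgroup.zpowers y : Set G) * (Q : Set G) :=
      Subgroup.mul_normal _ _
    have hxm : (x : G) ∈ (Subgroup.zpowers y : Set G) * (Q : Set G) := by
      rw [← hmul]; exact x.2
    obtain ⟨a, ha, b, hb, hab⟩ := Set.mem_mul.mp hxm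
    have haN : a ∈ Subgroup.zpowers y ⊔ Q := Subgroup.mem_sup_left ha
    have ha' : (⟨a, haN⟩ : ↥(Subgroup.zpowers y ⊔ Q)) ∈ (P : Subgroup ↥(Subgroup.zpowers y ⊔ Q)) :=
      hP (Subgroup.mem_subgroupOf.mpr ha)
    have hb' : (⟨a, haN⟩ : ↥(Subgroup.zpowers y ⊔ Q))⁻¹ * x ∈
        (P : Subgroup ↥(Subgroup.zpowers y ⊔ Q)) := Subgroup.mul_mem _ (Subgroup.inv_mem _ ha') hx
    obtain ⟨j, hj⟩ := P.2 ⟨_, hb'⟩
    have hj' : (a⁻¹ * (x : G)) ^ (3 ^ j) = 1 := by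
      have := congrArg (fun z : ↥(P : Subgroup ↥(Subgroup.zpowers y ⊔ Q)) => ((z : ↥(Subgroup.zpowers y ⊔ Q)) : G)) hj
      simpa using this
    have hbeq : a⁻¹ * (x : G) = b := by rw [← hab]; group
    rw [hbeq] at hj'
    have hb1 := eq_one_of_two_three hQ hb hj'
    rw [hb1, mul_one] at hab
    rw [Subgroup.mem_subgroupOf, ← hab]
    exact ha
  have hfr := Sylow.normalizer_sup_eq_top P
  rw [hPeq, Subgroup.subgroupOf_map_subtype, inf_of_le_left le_sup_left] at hfr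
  rw [← sup_assoc, sup_of_le_left Subgroup.le_normalizer] at hfr
  exact hfr

end Frattini

end Cfsg.Agent.Lib.Helper27.TS
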