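import Mathlib
import Cfsg.Agent.Lib.Helper27.TTSylD

/-!
# Helper27: classes of 3-transpositions with commuting members congruent modulo `O₂(G)`

Part E: the induction: `d` normalizes a Sylow `3`-subgroup.
-/

set_option autoImplicit false

namespace Cfsg.Agent.Lib.Helper27.TS

open Cfsg Cfsg.Agent.Lib.Helper27.TT Cfsg.Agent.Lib.Helper27.W1
open scoped Pointwise

universe u

section Steps

variable {G : Type*} [Group G] [Finite G] {d : G}

theorem cls_sub_coe {L : Subgroup G} (hdL : d ∈ L) {x : ↥L} (hx : x ∈ cls (⟨d, hdL⟩ : ↥L)) :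
    (x : G) ∈ conjSet L d := by
  obtain ⟨l, rfl⟩ := hx
  exact ⟨l, l.2, rfl⟩

theorem conjSet_subset_cls (L : Subgroup G) (d : G) : conjSet L d ⊆ cls d := by
  rintro x ⟨t, _, rfl⟩
  exact ⟨t, rfl⟩

theorem hyp_sub (h : Hyp G d) (L : Subgroup G) (hdL : d ∈ L)
    (hgen : Subgroup.closure (conjSet L d) = L) : Hyp ↥L ⟨d, hdL⟩ := by
  have hQp : IsPGroup 2 (Cfsg.pCore 2 G) := Cfsg.Agent.Lib.Helper16.pCore_isPGroup
  have hmem : ∀ x : ↥L, x ∈ cls (⟨d, hdL⟩ : ↥L) → (x : G) ∈ cls d :=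
    fun x hx => conjSet_subset_cls L d (cls_sub_coe hdL hx)
  refine ⟨⟨?_, ?_⟩, ?_, ?_⟩
  · intro x hx
    rw [← Subgroup.orderOf_coe]
    exact h.tt.1 _ (hmem x hx)
  · intro x hx y hy
    rcases h.tt.2 _ (hmem x hx) _ (hmem y hy) with h1 | h1
    · left; apply Subtype.ext; simpa using h1
    · right; apply Subtype.ext; simpa using h1
  · apply Subgroup.map_injective L.subtype_injective
    rw [MonoidHom.map_closure, ← MonoidHom.range_eq_map, Subgroup.range_subtype]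
    have himg : (L.subtype '' cls (⟨d, hdL⟩ : ↥L)) = conjSet L d := by
      ext x
      constructor
      · rintro ⟨x', hx', rfl⟩
        exact cls_sub_coe hdL hx'
      · rintro ⟨t, ht, rfl⟩
        exact ⟨⟨t, ht⟩ * ⟨d, hdL⟩ * ⟨t, ht⟩⁻¹, ⟨⟨t, ht⟩, rfl⟩, rfl⟩
    rw [himg, hgen]
  · intro a ha b hb hab
    have h1 : Commute (a : G) (b : G) := by
      have := congrArg Subtype.val hab.eq
      exact this
    have h2 := h.comm _ (hmem a ha) _ (hmem b hb) h1
    have h3 : a * b ∈ (Cfsg.pCore 2 G).subgroupOf L := Subgroup.mem_subgroupOf.mpr h2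
    exact Cfsg.Agent.Lib.Helper16.le_pCore _ inferInstance hQp.comap_subtype h3

theorem sylow_of_sub (L : Subgroup G) (hdL : d ∈ L) (hLQ : L ⊔ Cfsg.pCore 2 G = ⊤)
    (P' : Sylow 3 ↥L)
    (hd : (⟨d, hdL⟩ : ↥L) ∈ Subgroup.normalizer ((P' : Subgroup ↥L) : Set ↥L)) :
    ∃ P : Sylow 3 G, d ∈ Subgroup.normalizer ((P : Subgroup G) : Set G) := by
  haveI : Fact (Nat.Prime 3) := ⟨Nat.prime_three⟩
  have hQp : IsPGroup 2 (Cfsg.pCore 2 G) := Cfsg.Agent.Lib.Helper16.pCore_isPGroup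
  have hp : IsPGroup 3 ((P' : Subgroup ↥L).map L.subtype) := P'.2.map _
  have hidx : ¬ 3 ∣ ((P' : Subgroup ↥L).map L.subtype).index := by
    rw [Subgroup.index_map_subtype]
    intro h3
    rcases (Nat.Prime.dvd_mul Nat.prime_three).mp h3 with h4 | h4
    · exact P'.not_dvd_index h4
    · exact not_three_dvd_index L _ hQp hLQ h4
  refine ⟨hp.toSylow hidx, ?_⟩
  rw [IsPGroup.toSylow_coe, Subgroup.mem_normalizer_iff]
  have hd' : (⟨d, hdL⟩ : ↥L)⁻¹ ∈ Subgroup.normalizer ((P' : Subgroup ↥L) : Set ↥L) :=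
    Subgroup.inv_mem _ hd
  intro x
  constructor
  · rintro ⟨x', hx', rfl⟩
    have h1 := (Subgroup.mem_normalizer_iff.mp hd x').mp hx'
    exact ⟨_, h1, rfl⟩
  · rintro ⟨z, hz, hzx⟩
    have h1 := (Subgroup.mem_normalizer_iff.mp hd' z).mp hz
    refine ⟨_, h1, ?_⟩
    show (d : G)⁻¹ * (z : G) * (d : G)⁻¹⁻¹ = x
    have : (z : G) = d * x * d⁻¹ := hzx
    rw [this]; group

theorem sylow_of_quot {y : G} (hy : orderOf y = 3) [hn : (Subgroup.zpowers y).Normal]
    (P' : Sylow 3 (G ⧸ Subgroup.zpowers y))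
    (hd : QuotientGroup.mk' (Subgroup.zpowers y) d ∈
      Subgroup.normalizer ((P' : Subgroup (G ⧸ Subgroup.zpowers y)) : Set (G ⧸ Subgroup.zpowers y))) :
    ∃ P : Sylow 3 G, d ∈ Subgroup.normalizer ((P : Subgroup G) : Set G) := by
  haveI : Fact (Nat.Prime 3) := ⟨Nat.prime_three⟩
  have hy3 : y ^ 3 = 1 := by rw [← hy]; exact pow_orderOf_eq_one _
  have hker : IsPGroup 3 (QuotientGroup.mk' (Subgroup.zpowers y)).ker := by
    rw [QuotientGroup.ker_mk']
    exact isPGroup_zpowers_of_pow (p := 3) (k := 1) (by rw [pow_one]; exact hy3)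
  have hp : IsPGroup 3 ((P' : Subgroup (G ⧸ Subgroup.zpowers y)).comap
      (QuotientGroup.mk' (Subgroup.zpowers y))) := P'.2.comap_of_ker_isPGroup _ hker
  have hidx : ¬ 3 ∣ ((P' : Subgroup (G ⧸ Subgroup.zpowers y)).comap
      (QuotientGroup.mk' (Subgroup.zpowers y))).index := by
    rw [Subgroup.index_comap_of_surjective _ (QuotientGroup.mk'_surjective _)]
    exact P'.not_dvd_index
  refine ⟨hp.toSylow hidx, ?_⟩
  rw [IsPGroup.toSylow_coe, Subgroup.mem_normalizer_iff]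
  intro x
  rw [Subgroup.mem_comap, Subgroup.mem_comap]
  have h1 := Subgroup.mem_normalizer_iff.mp hd (QuotientGroup.mk' (Subgroup.zpowers y) x)
  simpa using h1

theorem card_quot_lt {y : G} (hy : orderOf y = 3) [hn : (Subgroup.zpowers y).Normal] :
    Nat.card (G ⧸ Subgroup.zpowers y) < Nat.card G := by
  have h1 := Subgroup.card_eq_card_quotient_mul_card_subgroup (Subgroup.zpowers y)
  rw [Nat.card_zpowers, hy] at h1
  have hpos : 0 < Nat.card (G ⧸ Subgroup.zpowers y) := Nat.card_pos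
  omega

end Steps

end Cfsg.Agent.Lib.Helper27.TS
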