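import Mathlib
import Cfsg.Agent.Lib.Helper27.TTSylE

/-!
# Helper27: classes of 3-transpositions with commuting members congruent modulo `O₂(G)`

Part F: the main induction and the application to S5356.
-/

set_option autoImplicit false

namespace Cfsg.Agent.Lib.Helper27.TS

open Cfsg Cfsg.Agent.Lib.Helper27.TT Cfsg.Agent.Lib.Helper27.W1
open scoped Pointwise

universe u

theorem main (hZ : ZStarHyp.{u}) : ∀ (n : ℕ) (G : Type u) [Group G] [Finite G] (d : G),
    Nat.card G = n → Hyp G d →
      ∃ P : Sylow 3 G, d ∈ Subgroup.normalizer ((P : Subgroup G) : Set G) := by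
  intro n
  induction n using Nat.strong_induction_on with
  | _ n ih =>
  intro G _ _ d hcard h
  haveI : Fact (Nat.Prime 2) := ⟨Nat.prime_two⟩
  haveI : Fact (Nat.Prime 3) := ⟨Nat.prime_three⟩
  have hQp : IsPGroup 2 (Cfsg.pCore 2 G) := Cfsg.Agent.Lib.Helper16.pCore_isPGroup
  have hQn : (Cfsg.pCore 2 G).Normal := inferInstance
  have hdD := self_mem_cls d
  have hd2 := mul_self_of_mem h.tt hdD
  have id := inv_of_mem h.tt hdD
  -- the case of a 2-group
  by_cases hG2 : IsPGroup 2 G
  · obtain ⟨P⟩ : Nonempty (Sylow 3 G) := inferInstance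
    refine ⟨P, ?_⟩
    rw [sylow_eq_bot_of_two_group hG2 P, Subgroup.mem_normalizer_iff]
    intro x
    simp
  have h2grp : Subgroup.zpowers d ⊔ Cfsg.pCore 2 G = ⊤ → IsPGroup 2 G := by
    intro htop
    have h1 : IsPGroup 2 (Subgroup.zpowers d) :=
      isPGroup_zpowers_of_pow (p := 2) (k := 1) (by rw [pow_one, pow_two]; exact hd2)
    have h2 := IsPGroup.to_sup_of_normal_right h1 hQp
    rw [htop] at h2
    exact h2.of_equiv Subgroup.topEquiv
  have hdQ : d ∉ Cfsg.pCore 2 G := by
    intro hd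
    apply hG2; apply h2grp
    rw [eq_top_iff, ← h.gen, Subgroup.closure_le]
    rintro x ⟨g, rfl⟩
    exact Subgroup.mem_sup_right (hQn.conj_mem d hd g)
  have htop := quot_top hZ h hdQ
  have hP1 : Cfsg.pCore 3 (G ⧸ Cfsg.pCore 2 G) ≠ ⊥ := by
    intro hbot
    rw [hbot, sup_bot_eq] at htop
    apply hG2; apply h2grp
    have h1 := congrArg (Subgroup.comap (QuotientGroup.mk' (Cfsg.pCore 2 G))) htop
    rw [← MonoidHom.map_zpowers, Subgroup.comap_map_eq, QuotientGroup.ker_mk',
      Subgroup.comap_top] at h1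
    exact h1
  have he : ∃ e ∈ cls d, ¬ Commute d e := by
    by_contra hcon
    push Not at hcon
    apply hG2; apply h2grp
    rw [eq_top_iff, ← h.gen, Subgroup.closure_le]
    intro x hx
    have h1 := (commute_iff_mem h hdD hx).mp (hcon x hx)
    have h2 : x = d * (d⁻¹ * x) := by group
    rw [SetLike.mem_coe, h2]
    exact Subgroup.mul_mem _ (Subgroup.mem_sup_left (Subgroup.mem_zpowers d))
      (Subgroup.mem_sup_right h1)
  have hπd2 : QuotientGroup.mk' (Cfsg.pCore 2 G) d * QuotientGroup.mk' (Cfsg.pCore 2 G) d = 1 := by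
    rw [← map_mul, hd2, map_one]
  obtain ⟨ys, hysP, hys3, hysc, hcase⟩ := exists_eigen (Cfsg.pCore 3 (G ⧸ Cfsg.pCore 2 G))
    Cfsg.Agent.Lib.Helper16.pCore_isPGroup hP1 _ hπd2
  have hy : ∃ y : G, orderOf y = 3 ∧ d * y * d⁻¹ ∈ Subgroup.zpowers y ∧
      (Subgroup.zpowers (QuotientGroup.mk' (Cfsg.pCore 2 G) y)).Normal := by
    rcases hcase with hc | hc
    · have hcen : ∀ x : G ⧸ Cfsg.pCore 2 G, Commute x ys := by
        intro x
        have hx : x ∈ Subgroup.zpowers (QuotientGroup.mk' (Cfsg.pCore 2 G) d) ⊔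
            Cfsg.pCore 3 (G ⧸ Cfsg.pCore 2 G) := by rw [htop]; exact Subgroup.mem_top x
        have hle : Subgroup.zpowers (QuotientGroup.mk' (Cfsg.pCore 2 G) d) ⊔
            Cfsg.pCore 3 (G ⧸ Cfsg.pCore 2 G) ≤ Subgroup.centralizer {ys} := by
          apply sup_le
          · rw [Subgroup.zpowers_le, Subgroup.mem_centralizer_iff]
            intro k hk
            rw [Set.mem_singleton_iff] at hk
            subst hk
            have h1 : QuotientGroup.mk' (Cfsg.pCore 2 G) d * k =
                (QuotientGroup.mk' (Cfsg.pCore 2 G) d * k *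
                  (QuotientGroup.mk' (Cfsg.pCore 2 G) d)⁻¹) *
                  QuotientGroup.mk' (Cfsg.pCore 2 G) d := by group
            rw [h1, hc]
          · intro p hp
            rw [Subgroup.mem_centralizer_iff]
            intro k hk
            rw [Set.mem_singleton_iff] at hk
            subst hk
            exact (hysc p hp).eq.symm
        have h1 := Subgroup.mem_centralizer_iff.mp (hle hx) ys rfl
        exact h1.symm
      obtain ⟨y, hy3, hdy, hyY, hy1⟩ := lift_cen h he hys3 hcen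
      refine ⟨y, hy3, ?_, ?_⟩
      · rw [hdy.eq, mul_inv_cancel_right]
        exact Subgroup.mem_zpowers y
      · constructor
        intro k hk g
        have hyc : ∀ x : G ⧸ Cfsg.pCore 2 G,
            Commute x (QuotientGroup.mk' (Cfsg.pCore 2 G) y) := by
          intro x
          obtain ⟨i, hi⟩ := Subgroup.mem_zpowers_iff.mp hyY
          rw [← hi]
          exact (hcen x).zpow_right i
        obtain ⟨i, rfl⟩ := Subgroup.mem_zpowers_iff.mp hk
        have h1 : Commute g ((QuotientGroup.mk' (Cfsg.pCore 2 G) y) ^ i) := (hyc g).zpow_right i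
        rw [h1.eq, mul_inv_cancel_right]
        exact Subgroup.zpow_mem _ (Subgroup.mem_zpowers _) i
    · obtain ⟨z, hz3, hdz, hzπ⟩ := lift_inv h hys3 hc
      refine ⟨z, hz3, ?_, ?_⟩
      · rw [hdz]
        exact Subgroup.inv_mem _ (Subgroup.mem_zpowers z)
      · rw [hzπ]
        apply Subgroup.normalizer_eq_top_iff.mp
        rw [eq_top_iff, ← htop]
        apply sup_le
        · rw [Subgroup.zpowers_le]
          apply mem_normalizer_zpowers_of_invol hπd2
          rw [hc]
          exact Subgroup.inv_mem _ (Subgroup.mem_zpowers ys)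
        · refine le_trans ?_ (Subgroup.centralizer_le_normalizer _)
          intro p hp
          rw [Subgroup.mem_centralizer_iff]
          intro k hk
          obtain ⟨i, rfl⟩ := Subgroup.mem_zpowers_iff.mp hk
          exact ((hysc p hp).zpow_right i).eq.symm
  obtain ⟨y, hy3, hdy, hyn⟩ := hy
  have hfr := frattini_three hy3 (Cfsg.pCore 2 G) hQp hyn
  have hdR : d ∈ Subgroup.normalizer (Subgroup.zpowers y : Set G) :=
    mem_normalizer_zpowers_of_invol hd2 hdy
  have hy3' : y ^ 3 = 1 := by rw [← hy3]; exact pow_orderOf_eq_one _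
  by_cases hR : Subgroup.normalizer (Subgroup.zpowers y : Set G) = ⊤
  · haveI hn : (Subgroup.zpowers y).Normal := Subgroup.normalizer_eq_top_iff.mp hR
    have hdY : d ∉ Subgroup.zpowers y := by
      intro hd
      obtain ⟨i, hi⟩ := Subgroup.mem_zpowers_iff.mp hd
      have h3 : d ^ 3 = 1 := by
        rw [← hi, ← zpow_natCast, ← zpow_mul, mul_comm, zpow_mul, zpow_natCast, hy3', one_zpow]
      have h4 : d = 1 := by
        have : d ^ 3 = d * d * d := by rw [pow_three, mul_assoc]
        rw [this, hd2, one_mul] at h3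
        exact h3
      exact ne_one_of_mem h.tt hdD h4
    have hq := hyp_quot h (Subgroup.zpowers y) hdY
    have hlt : Nat.card (G ⧸ Subgroup.zpowers y) < n := by
      rw [← hcard]; exact card_quot_lt hy3
    obtain ⟨P', hP'⟩ := ih _ hlt (G ⧸ Subgroup.zpowers y) _ rfl hq
    exact sylow_of_quot hy3 P' hP'
  · obtain ⟨L, ⟨hLR, hdL, hLQ⟩, hLmin⟩ := exists_minimal_of_wellFoundedLT
      (fun L : Subgroup G => L ≤ Subgroup.normalizer (Subgroup.zpowers y : Set G) ∧ d ∈ L ∧
        L ⊔ Cfsg.pCore 2 G = ⊤) ⟨_, le_rfl, hdR, hfr⟩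
    have hL1le : Subgroup.closure (conjSet L d) ≤ L := by
      rw [Subgroup.closure_le]
      rintro x ⟨t, ht, rfl⟩
      exact L.mul_mem (L.mul_mem ht hdL) (L.inv_mem ht)
    have hL1d : d ∈ Subgroup.closure (conjSet L d) :=
      Subgroup.subset_closure ⟨1, L.one_mem, by simp⟩
    have hL1Q : Subgroup.closure (conjSet L d) ⊔ Cfsg.pCore 2 G = ⊤ := by
      have hmap : (Subgroup.closure (conjSet L d)).map (QuotientGroup.mk' (Cfsg.pCore 2 G)) = ⊤ := by
        rw [eq_top_iff, ← (hyp_quot h (Cfsg.pCore 2 G) hdQ).gen, MonoidHom.map_closure]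
        apply Subgroup.closure_mono
        rintro x ⟨k, rfl⟩
        obtain ⟨g, rfl⟩ := QuotientGroup.mk'_surjective (Cfsg.pCore 2 G) k
        have hg : g ∈ L ⊔ Cfsg.pCore 2 G := by rw [hLQ]; exact Subgroup.mem_top g
        have hmul : (↑(L ⊔ Cfsg.pCore 2 G) : Set G) = (L : Set G) * (Cfsg.pCore 2 G : Set G) :=
          Subgroup.mul_normal _ _
        have hg' : g ∈ (L : Set G) * (Cfsg.pCore 2 G : Set G) := by rw [← hmul]; exact hg
        obtain ⟨l, hl, q, hq, rfl⟩ := Set.mem_mul.mp hg'
        refine ⟨l * d * l⁻¹, ⟨l, hl, rfl⟩, ?_⟩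
        have hq1 : QuotientGroup.mk' (Cfsg.pCore 2 G) q = 1 := (QuotientGroup.eq_one_iff _).mpr hq
        simp only [map_mul, map_inv, hq1, mul_one]
      have h1 := congrArg (Subgroup.comap (QuotientGroup.mk' (Cfsg.pCore 2 G))) hmap
      rw [Subgroup.comap_map_eq, QuotientGroup.ker_mk', Subgroup.comap_top] at h1
      exact h1
    have hgen : Subgroup.closure (conjSet L d) = L :=
      le_antisymm hL1le (hLmin ⟨hL1le.trans hLR, hL1d, hL1Q⟩ hL1le)
    have hlt : Nat.card ↥L < n := by
      rw [← hcard]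
      apply lt_of_le_of_ne (Subgroup.card_le_card_group L)
      intro heq
      have h1 := Subgroup.eq_top_of_card_eq L heq
      apply hR
      rw [eq_top_iff, ← h1]
      exact hLR
    obtain ⟨P', hP'⟩ := ih _ hlt ↥L ⟨d, hdL⟩ rfl (hyp_sub h L hdL hgen)
    exact sylow_of_sub L hdL hLQ P' hP'

end Cfsg.Agent.Lib.Helper27.TS
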