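import Mathlib
import Cfsg.Agent.Lib.Helper27.TTSylF

/-!
# Helper27: S5356 modulo the `Z*`-theorem.
-/

set_option autoImplicit false

namespace Cfsg.Agent.Lib.Helper27.TS

open Cfsg Cfsg.Agent.Lib.Helper27.TT Cfsg.Agent.Lib.Helper27.W1
open scoped Pointwise

universe u

variable {G : Type u} [Group G] [Finite G] {D : Set G}

theorem class_eq_cls (hD : Cfsg.IsThreeTranspositionClass D) {d : G} (hd : d ∈ D) : D = cls d := by
  obtain ⟨d₀, _, hDeq⟩ := hD.2.1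
  have h1 : IsConj d₀ d := by rw [hDeq] at hd; exact hd
  rw [hDeq, isConj_iff_conjugatesOf_eq.mp h1]
  ext x
  constructor
  · intro hx
    obtain ⟨c, hc⟩ := isConj_iff.mp (show IsConj d x from hx)
    exact ⟨c, hc.symm⟩
  · rintro ⟨g, rfl⟩
    exact isConj_iff.mpr ⟨g, rfl⟩

theorem hyp_of_class (hD : Cfsg.IsThreeTranspositionClass D) {d : G} (hd : d ∈ D)
    (hV : {y : G | y ∈ D ∧ Commute d y} = {v : G | v ∈ D ∧ ∀ e ∈ D, Commute v e ↔ Commute d e}) :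
    Hyp G d := by
  have hcls := class_eq_cls hD hd
  have hc : ∀ g : G, ∀ x ∈ D, g * x * g⁻¹ ∈ D := fun g x hx => conj_mem_of_class hD g hx
  refine ⟨hcls ▸ hD.1, hcls ▸ hD.2.2, ?_⟩
  rw [← hcls]
  intro a ha b hb hab
  rw [hcls] at ha
  obtain ⟨g, rfl⟩ := ha
  have hb' : g⁻¹ * b * g⁻¹⁻¹ ∈ D := hc g⁻¹ b hb
  have hcomm : Commute d (g⁻¹ * b * g⁻¹⁻¹) := by
    have h1 : Commute (g⁻¹ * (g * d * g⁻¹) * g⁻¹⁻¹) (g⁻¹ * b * g⁻¹⁻¹) :=
      (Commute.conj_iff g⁻¹).mpr hab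
    have e : g⁻¹ * (g * d * g⁻¹) * g⁻¹⁻¹ = d := by group
    rwa [e] at h1
  have hmem : g⁻¹ * b * g⁻¹⁻¹ ∈ {v : G | v ∈ D ∧ ∀ e ∈ D, Commute v e ↔ Commute d e} := by
    rw [← hV]; exact ⟨hb', hcomm⟩
  have hsame : Same D (g⁻¹ * b * g⁻¹⁻¹) d := ⟨hb', hd, hmem.2⟩
  have hsame2 := hsame.conj hc g
  have e2 : g * (g⁻¹ * b * g⁻¹⁻¹) * g⁻¹ = b := by group
  rw [e2] at hsame2
  have h3 := same_mul_mem_pCore hD.1 hc hsame2
  rw [hab.eq]
  exact h3

/-- S5356 modulo the `Z*`-theorem -/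
theorem sylow_three_generation (hZ : ZStarHyp.{u}) (hD : Cfsg.IsThreeTranspositionClass D)
    {d : G} (hd : d ∈ D)
    (hV : {y : G | y ∈ D ∧ Commute d y} = {v : G | v ∈ D ∧ ∀ e ∈ D, Commute v e ↔ Commute d e}) :
    ∃ P : Sylow 3 G, d ∈ Subgroup.normalizer ((P : Subgroup G) : Set G) ∧
      Subgroup.zpowers d ⊔ (P : Subgroup G) ⊔ Cfsg.pCore 2 G = ⊤ := by
  haveI : Fact (Nat.Prime 3) := ⟨Nat.prime_three⟩
  have h := hyp_of_class hD hd hV
  have hQn : (Cfsg.pCore 2 G).Normal := inferInstance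
  obtain ⟨P, hP⟩ := main hZ _ G d rfl h
  refine ⟨P, hP, ?_⟩
  by_cases hdQ : d ∈ Cfsg.pCore 2 G
  · rw [eq_top_iff, ← h.gen, Subgroup.closure_le]
    rintro x ⟨g, rfl⟩
    exact Subgroup.mem_sup_right (hQn.conj_mem d hdQ g)
  · have htop := quot_top hZ h hdQ
    have hsurj : Function.Surjective (QuotientGroup.mk' (Cfsg.pCore 2 G)) :=
      QuotientGroup.mk'_surjective _
    have hle : Cfsg.pCore 3 (G ⧸ Cfsg.pCore 2 G) ≤
        (P : Subgroup G).map (QuotientGroup.mk' (Cfsg.pCore 2 G)) := by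
      have := Cfsg.Agent.Lib.Helper16.pCore_le_sylow (P.mapSurjective hsurj)
      rwa [Sylow.coe_mapSurjective] at this
    have h1 : (Subgroup.zpowers d ⊔ (P : Subgroup G)).map (QuotientGroup.mk' (Cfsg.pCore 2 G)) = ⊤ := by
      rw [eq_top_iff, ← htop, Subgroup.map_sup, MonoidHom.map_zpowers]
      exact sup_le_sup_left hle _
    have h2 := congrArg (Subgroup.comap (QuotientGroup.mk' (Cfsg.pCore 2 G))) h1
    rw [Subgroup.comap_map_eq, QuotientGroup.ker_mk', Subgroup.comap_top] at h2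
    exact h2

end Cfsg.Agent.Lib.Helper27.TS
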