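import Mathlib
import Cfsg.Agent.Lib.Helper27.BurnsideMarks
import Cfsg.Agent.Lib.Helper27.CBQuot

set_option autoImplicit false

/-! The twisted biset: for a `(K, K)`-biset `X` (given as a permutation representation of `K × K`), a
central extension `ρ : R → Γ` with a lift `π : K → R`, and a degree map `deg : X → Γ`, the set
`Y = {(x, r) | ρ r = deg x}` with the two-sided action of the fibre product `K ×_Γ R`. -/

namespace Cfsg.Agent.Lib.Helper27.Tate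

open Cfsg.Agent.Lib.Helper27.Park Cfsg.Agent.Lib.Helper27.CB

universe u

variable {K X R Γ : Type u} [Group K] [Group R] [Group Γ]

/-- The fibre product `K ×_Γ R`. -/
def fib (π : K →* R) (ρ : R →* Γ) : Subgroup (K × R) :=
  ((ρ.comp π).comp (MonoidHom.fst K R)).eqLocus (ρ.comp (MonoidHom.snd K R))

theorem mem_fib {π : K →* R} {ρ : R →* Γ} {h : K × R} : h ∈ fib π ρ ↔ ρ (π h.1) = ρ h.2 := Iff.rfl

/-- The two-sided action of `K ×_Γ R` on `X × R`. -/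
def act2 (ax : K × K →* Equiv.Perm X) (π : K →* R) (ρ : R →* Γ) :
    (fib π ρ × fib π ρ) →* Equiv.Perm (X × R) where
  toFun h :=
    { toFun := fun y => (ax (h.1.1.1, h.2.1.1) y.1, h.1.1.2 * y.2 * (h.2.1.2)⁻¹)
      invFun := fun y => ((ax (h.1.1.1, h.2.1.1))⁻¹ y.1, (h.1.1.2)⁻¹ * y.2 * h.2.1.2)
      left_inv := by
        rintro ⟨x, r⟩
        apply Prod.ext
        · show (ax (h.1.1.1, h.2.1.1))⁻¹ (ax (h.1.1.1, h.2.1.1) x) = x
          exact Equiv.symm_apply_apply _ x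
        · show (h.1.1.2)⁻¹ * (h.1.1.2 * r * (h.2.1.2)⁻¹) * h.2.1.2 = r
          group
      right_inv := by
        rintro ⟨x, r⟩
        apply Prod.ext
        · show ax (h.1.1.1, h.2.1.1) ((ax (h.1.1.1, h.2.1.1))⁻¹ x) = x
          exact Equiv.apply_symm_apply _ x
        · show h.1.1.2 * ((h.1.1.2)⁻¹ * r * h.2.1.2) * (h.2.1.2)⁻¹ = r
          group }
  map_one' := by
    apply Equiv.ext
    rintro ⟨x, r⟩
    apply Prod.ext
    · show ax ((1 : K), (1 : K)) x = x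
      have : ((1 : K), (1 : K)) = (1 : K × K) := rfl
      rw [this, map_one]
      rfl
    · show (1 : R) * r * (1 : R)⁻¹ = r
      group
  map_mul' := by
    intro h h'
    apply Equiv.ext
    rintro ⟨x, r⟩
    apply Prod.ext
    · show ax (h.1.1.1 * h'.1.1.1, h.2.1.1 * h'.2.1.1) x =
        ax (h.1.1.1, h.2.1.1) (ax (h'.1.1.1, h'.2.1.1) x)
      have : ((h.1.1.1 * h'.1.1.1, h.2.1.1 * h'.2.1.1) : K × K) =
          (h.1.1.1, h.2.1.1) * (h'.1.1.1, h'.2.1.1) := rfl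
      rw [this, map_mul]
      rfl
    · show h.1.1.2 * h'.1.1.2 * r * (h.2.1.2 * h'.2.1.2)⁻¹ =
        h.1.1.2 * (h'.1.1.2 * r * (h'.2.1.2)⁻¹) * (h.2.1.2)⁻¹
      group

theorem act2_apply (ax : K × K →* Equiv.Perm X) (π : K →* R) (ρ : R →* Γ)
    (h : fib π ρ × fib π ρ) (y : X × R) :
    act2 ax π ρ h y = (ax (h.1.1.1, h.2.1.1) y.1, h.1.1.2 * y.2 * (h.2.1.2)⁻¹) := rfl

/-- The twisted biset `Y`. -/
abbrev Ysub (ρ : R →* Γ) (deg : X → Γ) : Type u := {y : X × R // ρ y.2 = deg y.1}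

theorem act2_invariant (ax : K × K →* Equiv.Perm X) (π : K →* R) (ρ : R →* Γ) (deg : X → Γ)
    (hdeg : ∀ a b x, deg (ax (a, b) x) = ρ (π a) * deg x * (ρ (π b))⁻¹)
    (h : fib π ρ × fib π ρ) (y : X × R) (hy : ρ y.2 = deg y.1) :
    ρ (act2 ax π ρ h y).2 = deg (act2 ax π ρ h y).1 := by
  rw [act2_apply]
  show ρ (h.1.1.2 * y.2 * (h.2.1.2)⁻¹) = deg (ax (h.1.1.1, h.2.1.1) y.1)
  rw [hdeg, map_mul, map_mul, map_inv, hy, mem_fib.mp h.1.2, mem_fib.mp h.2.2]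

/-- The two-sided action on `Y`. -/
def actY (ax : K × K →* Equiv.Perm X) (π : K →* R) (ρ : R →* Γ) (deg : X → Γ)
    (hdeg : ∀ a b x, deg (ax (a, b) x) = ρ (π a) * deg x * (ρ (π b))⁻¹) :
    (fib π ρ × fib π ρ) →* Equiv.Perm (Ysub ρ deg) :=
  restrictRep (act2 ax π ρ) (fun y => ρ y.2 = deg y.1) (act2_invariant ax π ρ deg hdeg)

/-- The right action. -/
def tauR (ax : K × K →* Equiv.Perm X) (π : K →* R) (ρ : R →* Γ) (deg : X → Γ)
    (hdeg : ∀ a b x, deg (ax (a, b) x) = ρ (π a) * deg x * (ρ (π b))⁻¹) :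
    fib π ρ →* Equiv.Perm (Ysub ρ deg) :=
  (actY ax π ρ deg hdeg).comp (MonoidHom.inr (fib π ρ) (fib π ρ))

/-- The left action. -/
def tauL (ax : K × K →* Equiv.Perm X) (π : K →* R) (ρ : R →* Γ) (deg : X → Γ)
    (hdeg : ∀ a b x, deg (ax (a, b) x) = ρ (π a) * deg x * (ρ (π b))⁻¹) :
    fib π ρ →* Equiv.Perm (Ysub ρ deg) :=
  (actY ax π ρ deg hdeg).comp (MonoidHom.inl (fib π ρ) (fib π ρ))

variable (ax : K × K →* Equiv.Perm X) (π : K →* R) (ρ : R →* Γ) (deg : X → Γ)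
  (hdeg : ∀ a b x, deg (ax (a, b) x) = ρ (π a) * deg x * (ρ (π b))⁻¹)

theorem tauR_apply (h : fib π ρ) (y : Ysub ρ deg) :
    ((tauR ax π ρ deg hdeg h y : Ysub ρ deg) : X × R) =
      (ax ((1 : K), h.1.1) y.1.1, y.1.2 * (h.1.2)⁻¹) := by
  show act2 ax π ρ ((1 : fib π ρ), h) y.1 = _
  rw [act2_apply]
  show (ax ((1 : K), h.1.1) y.1.1, (1 : R) * y.1.2 * (h.1.2)⁻¹) = _
  rw [one_mul]

theorem tauL_apply (h : fib π ρ) (y : Ysub ρ deg) :
    ((tauL ax π ρ deg hdeg h y : Ysub ρ deg) : X × R) =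
      (ax (h.1.1, (1 : K)) y.1.1, h.1.2 * y.1.2) := by
  show act2 ax π ρ (h, (1 : fib π ρ)) y.1 = _
  rw [act2_apply]
  show (ax (h.1.1, (1 : K)) y.1.1, h.1.2 * y.1.2 * (1 : R)⁻¹) = _
  rw [inv_one, mul_one]

theorem tauL_mem_Cent (h : fib π ρ) : tauL ax π ρ deg hdeg h ∈ Cent (tauR ax π ρ deg hdeg) := by
  rw [mem_Cent_iff]
  intro k y
  have h1 : (h, (1 : fib π ρ)) * ((1 : fib π ρ), k) = ((1 : fib π ρ), k) * (h, (1 : fib π ρ)) := by
    ext <;> simp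
  have h2 := congrArg (fun g => actY ax π ρ deg hdeg g y) h1
  simp only [map_mul, Equiv.Perm.mul_apply] at h2
  exact h2

/-- The left action, with values in the centralizer of the right action. -/
def tauLC : fib π ρ →* Cent (tauR ax π ρ deg hdeg) :=
  (tauL ax π ρ deg hdeg).codRestrict (Cent (tauR ax π ρ deg hdeg)) (tauL_mem_Cent ax π ρ deg hdeg)

theorem tauLC_coe (h : fib π ρ) :
    ((tauLC ax π ρ deg hdeg h : Cent (tauR ax π ρ deg hdeg)) : Equiv.Perm (Ysub ρ deg)) =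
      tauL ax π ρ deg hdeg h := rfl

theorem tauR_free (hfree : ∀ (b : K) (x : X), ax ((1 : K), b) x = x → b = 1) (h : fib π ρ)
    (y : Ysub ρ deg) (hy : tauR ax π ρ deg hdeg h y = y) : h = 1 := by
  have h1 := congrArg Subtype.val hy
  rw [tauR_apply] at h1
  have h2 := (Prod.ext_iff.mp h1).1
  have h3 := (Prod.ext_iff.mp h1).2
  have h4 : h.1.1 = 1 := hfree _ _ h2
  have h5 : h.1.2 = 1 := by
    have : y.1.2 * (h.1.2)⁻¹ = y.1.2 := h3
    rw [mul_eq_left, inv_eq_one] at this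
    exact this
  apply Subtype.ext
  exact Prod.ext h4 h5

end Cfsg.Agent.Lib.Helper27.Tate
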