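import Mathlib
import Cfsg.Agent.Lib.Helper27.TateBisetA

set_option autoImplicit false

/-! The orbits of the right action on the twisted biset correspond to the orbits of the right action on
the biset. -/

namespace Cfsg.Agent.Lib.Helper27.Tate

open Cfsg.Agent.Lib.Helper27.Park Cfsg.Agent.Lib.Helper27.CB

universe u

variable {K X R Γ : Type u} [Group K] [Group R] [Group Γ]
variable (ax : K × K →* Equiv.Perm X) (π : K →* R) (ρ : R →* Γ) (deg : X → Γ)
  (hdeg : ∀ a b x, deg (ax (a, b) x) = ρ (π a) * deg x * (ρ (π b))⁻¹)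

/-- The right action on the biset. -/
def axR : K →* Equiv.Perm X := ax.comp (MonoidHom.inr K K)

theorem axR_apply (b : K) (x : X) : axR ax b x = ax ((1 : K), b) x := rfl

/-- The map on orbits induced by the projection `Y → X`. -/
def orbProj : Orb (tauR ax π ρ deg hdeg) → Orb (axR ax) :=
  Quotient.map' (fun y => y.1.1) (by
    rintro y y' ⟨h, hh⟩
    refine ⟨h.1.1, ?_⟩
    have h1 := congrArg Subtype.val hh
    rw [tauR_apply] at h1
    exact (Prod.ext_iff.mp h1).1)

theorem orbProj_mk (y : Ysub ρ deg) :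
    orbProj ax π ρ deg hdeg (orbMk (tauR ax π ρ deg hdeg) y) = orbMk (axR ax) y.1.1 := rfl

theorem orbProj_bijective (hρ : Function.Surjective ρ) :
    Function.Bijective (orbProj ax π ρ deg hdeg) := by
  constructor
  · intro q q' hqq
    obtain ⟨y, rfl⟩ := orbMk_surjective (tauR ax π ρ deg hdeg) q
    obtain ⟨y', rfl⟩ := orbMk_surjective (tauR ax π ρ deg hdeg) q'
    rw [orbProj_mk, orbProj_mk, orbMk_eq_iff] at hqq
    obtain ⟨b, hb⟩ := hqq
    rw [axR_apply] at hb
    rw [orbMk_eq_iff]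
    have hfib : ((b, (y'.1.2)⁻¹ * y.1.2) : K × R) ∈ fib π ρ := by
      rw [mem_fib]
      show ρ (π b) = ρ ((y'.1.2)⁻¹ * y.1.2)
      rw [map_mul, map_inv, y.2, y'.2, ← hb, hdeg, map_one, map_one, one_mul, mul_inv_rev, inv_inv,
        mul_assoc, inv_mul_cancel, mul_one]
    refine ⟨⟨_, hfib⟩, ?_⟩
    apply Subtype.ext
    rw [tauR_apply]
    apply Prod.ext
    · exact hb
    · show y.1.2 * ((y'.1.2)⁻¹ * y.1.2)⁻¹ = y'.1.2
      group
  · intro q
    obtain ⟨x, rfl⟩ := orbMk_surjective (axR ax) q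
    obtain ⟨r, hr⟩ := hρ (deg x)
    exact ⟨orbMk (tauR ax π ρ deg hdeg) ⟨(x, r), hr⟩, rfl⟩

theorem card_orb_eq (hρ : Function.Surjective ρ) :
    Nat.card (Orb (tauR ax π ρ deg hdeg)) = Nat.card (Orb (axR ax)) :=
  Nat.card_congr (Equiv.ofBijective _ (orbProj_bijective ax π ρ deg hdeg hρ))

end Cfsg.Agent.Lib.Helper27.Tate
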