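import Mathlib
import Cfsg.Agent.Lib.Helper27.TateBisetB
import Cfsg.Agent.Lib.Helper27.CBTransfer

set_option autoImplicit false

/-! The twisted transfer. -/

namespace Cfsg.Agent.Lib.Helper27.Tate

open Cfsg.Agent.Lib.Helper27.Park Cfsg.Agent.Lib.Helper27.CB

universe u

variable {K X R Γ : Type u} [Group K] [Group R] [Group Γ]
variable (ax : K × K →* Equiv.Perm X) (π : K →* R) (ρ : R →* Γ) (deg : X → Γ)
  (hdeg : ∀ a b x, deg (ax (a, b) x) = ρ (π a) * deg x * (ρ (π b))⁻¹)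

/-- The embedding `s ↦ (s, π s)` of `K` in the fibre product. -/
def iotaHat : K →* fib π ρ :=
  (MonoidHom.prod (MonoidHom.id K) π).codRestrict (fib π ρ) (fun _ => rfl)

theorem iotaHat_coe (s : K) : ((iotaHat π ρ s : fib π ρ) : K × R) = (s, π s) := rfl

/-- The embedding `t ↦ (t, 1)` of the kernel of `K → Γ` in the fibre product. -/
def iotaStar : (ρ.comp π).ker →* fib π ρ :=
  ((MonoidHom.prod (MonoidHom.id K) (1 : K →* R)).comp (ρ.comp π).ker.subtype).codRestrict (fib π ρ)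
    (fun t => by
      rw [mem_fib]
      show ρ (π (t : K)) = ρ 1
      rw [map_one]
      exact t.2)

theorem iotaStar_coe (t : (ρ.comp π).ker) : ((iotaStar π ρ t : fib π ρ) : K × R) = ((t : K), 1) := rfl

/-- The embedding `a ↦ (1, a)` of the kernel of `ρ` in the fibre product. -/
def iotaKer : ρ.ker →* fib π ρ :=
  ((MonoidHom.prod (1 : R →* K) (MonoidHom.id R)).comp ρ.ker.subtype).codRestrict (fib π ρ)
    (fun a => by
      rw [mem_fib]
      show ρ (π 1) = ρ (a : R)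
      rw [map_one, map_one]
      exact a.2.symm)

theorem iotaKer_coe (a : ρ.ker) : ((iotaKer π ρ a : fib π ρ) : K × R) = (1, (a : R)) := rfl

theorem iotaHat_eq_mul (t : (ρ.comp π).ker) :
    iotaHat π ρ (t : K) = iotaStar π ρ t * iotaKer π ρ ⟨π (t : K), t.2⟩ := by
  apply Subtype.ext
  show ((t : K), π (t : K)) = ((t : K), (1 : R)) * ((1 : K), π (t : K))
  ext <;> simp

/-- The homomorphism `(s, r) ↦ π(s)⁻¹ r` from the fibre product to the centre of `R`. -/
def chiHom (hcen : ρ.ker ≤ Subgroup.center R) : fib π ρ →* Subgroup.center R where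
  toFun h := ⟨(π h.1.1)⁻¹ * h.1.2, hcen (by
    rw [MonoidHom.mem_ker, map_mul, map_inv, mem_fib.mp h.2, inv_mul_cancel])⟩
  map_one' := by
    apply Subtype.ext
    show (π (1 : K))⁻¹ * (1 : R) = 1
    rw [map_one, inv_one, one_mul]
  map_mul' := by
    intro h h'
    apply Subtype.ext
    show (π (h.1.1 * h'.1.1))⁻¹ * (h.1.2 * h'.1.2) = (π h.1.1)⁻¹ * h.1.2 * ((π h'.1.1)⁻¹ * h'.1.2)
    have hc : (π h.1.1)⁻¹ * h.1.2 ∈ Subgroup.center R := hcen (by
      rw [MonoidHom.mem_ker, map_mul, map_inv, mem_fib.mp h.2, inv_mul_cancel])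
    have h1 := (Subgroup.mem_center_iff.mp hc) (π h'.1.1)⁻¹
    rw [map_mul, mul_inv_rev]
    calc (π h'.1.1)⁻¹ * (π h.1.1)⁻¹ * (h.1.2 * h'.1.2)
        = (π h'.1.1)⁻¹ * ((π h.1.1)⁻¹ * h.1.2) * h'.1.2 := by group
      _ = (π h.1.1)⁻¹ * h.1.2 * (π h'.1.1)⁻¹ * h'.1.2 := by rw [h1]
      _ = (π h.1.1)⁻¹ * h.1.2 * ((π h'.1.1)⁻¹ * h'.1.2) := by group

theorem chiHom_coe (hcen : ρ.ker ≤ Subgroup.center R) (h : fib π ρ) :
    ((chiHom π ρ hcen h : Subgroup.center R) : R) = (π h.1.1)⁻¹ * h.1.2 := rfl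

theorem chiHom_mem_ker (hcen : ρ.ker ≤ Subgroup.center R) (h : fib π ρ) :
    ((chiHom π ρ hcen h : Subgroup.center R) : R) ∈ ρ.ker := by
  rw [chiHom_coe, MonoidHom.mem_ker, map_mul, map_inv, mem_fib.mp h.2, inv_mul_cancel]

theorem chiHom_iotaKer (hcen : ρ.ker ≤ Subgroup.center R) (a : ρ.ker) :
    ((chiHom π ρ hcen (iotaKer π ρ a) : Subgroup.center R) : R) = (a : R) := by
  rw [chiHom_coe, iotaKer_coe]
  show (π 1)⁻¹ * (a : R) = a
  rw [map_one, inv_one, one_mul]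

/-- The left action of a central element `(1, a)` is the right action of its inverse. -/
theorem tauL_iotaKer (hcen : ρ.ker ≤ Subgroup.center R) (a : ρ.ker) :
    tauL ax π ρ deg hdeg (iotaKer π ρ a) = tauR ax π ρ deg hdeg (iotaKer π ρ a)⁻¹ := by
  apply Equiv.ext
  intro y
  apply Subtype.ext
  rw [tauL_apply, tauR_apply]
  have hinv : (((iotaKer π ρ a)⁻¹ : fib π ρ) : K × R) = ((1 : K), (a : R)⁻¹) := by
    show ((iotaKer π ρ a : fib π ρ) : K × R)⁻¹ = _
    rw [iotaKer_coe]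
    ext <;> simp
  rw [hinv, iotaKer_coe]
  apply Prod.ext
  · show ax ((1 : K), (1 : K)) y.1.1 = ax ((1 : K), (1 : K)) y.1.1
    rfl
  · show (a : R) * y.1.2 = y.1.2 * ((a : R)⁻¹)⁻¹
    rw [inv_inv]
    exact (Subgroup.mem_center_iff.mp (hcen a.2) y.1.2).symm

/-- The values of a transfer lie in any subgroup containing the values of the homomorphism. -/
theorem transfer_mem {G A : Type*} [Group G] {H : Subgroup G} [H.FiniteIndex] [CommGroup A]
    (ϕ : H →* A) (B : Subgroup A) (hϕ : ∀ h, ϕ h ∈ B) (g : G) : MonoidHom.transfer ϕ g ∈ B := by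
  rw [MonoidHom.transfer_def ϕ default]
  unfold Subgroup.leftTransversals.diff
  exact Subgroup.prod_mem B (fun q _ => hϕ _)

end Cfsg.Agent.Lib.Helper27.Tate
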