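import Mathlib
import Cfsg.Agent.Lib.Helper27.TateBisetC

set_option autoImplicit false

/-! Lifting automorphisms of the biset to the twisted biset. -/

namespace Cfsg.Agent.Lib.Helper27.Tate

open Cfsg.Agent.Lib.Helper27.Park Cfsg.Agent.Lib.Helper27.CB

universe u

variable {K X R Γ : Type u} [Group K] [Group R] [Group Γ]
variable (ax : K × K →* Equiv.Perm X) (π : K →* R) (ρ : R →* Γ) (deg : X → Γ)
  (hdeg : ∀ a b x, deg (ax (a, b) x) = ρ (π a) * deg x * (ρ (π b))⁻¹)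

/-- The correction factor of the lift. -/
noncomputable def cFac (hρ : Function.Surjective ρ) (e : Equiv.Perm X) (x : X) : R :=
  Function.surjInv hρ (deg (e x) * (deg x)⁻¹)

theorem rho_cFac (hρ : Function.Surjective ρ) (e : Equiv.Perm X) (x : X) :
    ρ (cFac ρ deg hρ e x) = deg (e x) * (deg x)⁻¹ := Function.surjInv_eq hρ _

/-- The lift of a permutation of the biset to the twisted biset. -/
noncomputable def eHat (hρ : Function.Surjective ρ) (e : Equiv.Perm X) : Equiv.Perm (Ysub ρ deg) where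
  toFun y := ⟨(e y.1.1, cFac ρ deg hρ e y.1.1 * y.1.2), by
    show ρ (cFac ρ deg hρ e y.1.1 * y.1.2) = deg (e y.1.1)
    rw [map_mul, rho_cFac, y.2, inv_mul_cancel_right]⟩
  invFun y := ⟨(e.symm y.1.1, (cFac ρ deg hρ e (e.symm y.1.1))⁻¹ * y.1.2), by
    show ρ ((cFac ρ deg hρ e (e.symm y.1.1))⁻¹ * y.1.2) = deg (e.symm y.1.1)
    rw [map_mul, map_inv, rho_cFac, y.2, Equiv.apply_symm_apply, mul_inv_rev, inv_inv,
      inv_mul_cancel_right]⟩
  left_inv := by
    rintro ⟨⟨x, r⟩, hy⟩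
    apply Subtype.ext
    apply Prod.ext
    · show e.symm (e x) = x
      exact Equiv.symm_apply_apply e x
    · show (cFac ρ deg hρ e (e.symm (e x)))⁻¹ * (cFac ρ deg hρ e x * r) = r
      rw [Equiv.symm_apply_apply, inv_mul_cancel_left]
  right_inv := by
    rintro ⟨⟨x, r⟩, hy⟩
    apply Subtype.ext
    apply Prod.ext
    · show e (e.symm x) = x
      exact Equiv.apply_symm_apply e x
    · show cFac ρ deg hρ e (e.symm x) * ((cFac ρ deg hρ e (e.symm x))⁻¹ * r) = r
      rw [mul_inv_cancel_left]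

theorem eHat_apply (hρ : Function.Surjective ρ) (e : Equiv.Perm X) (y : Ysub ρ deg) :
    ((eHat ρ deg hρ e y : Ysub ρ deg) : X × R) = (e y.1.1, cFac ρ deg hρ e y.1.1 * y.1.2) := rfl

include hdeg in
theorem cFac_right (hρ : Function.Surjective ρ) (e : Equiv.Perm X)
    (he : ∀ b x, e (ax ((1 : K), b) x) = ax ((1 : K), b) (e x)) (b : K) (x : X) :
    cFac ρ deg hρ e (ax ((1 : K), b) x) = cFac ρ deg hρ e x := by
  unfold cFac
  congr 1
  rw [he, hdeg, hdeg, map_one, map_one, one_mul, one_mul]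
  group

include hdeg in
theorem cFac_left (hρ : Function.Surjective ρ) (e : Equiv.Perm X) (u v : K)
    (hu : ρ (π u) = 1) (hv : ρ (π v) = 1)
    (he : ∀ x, e (ax (u, (1 : K)) x) = ax (v, (1 : K)) (e x)) (x : X) :
    cFac ρ deg hρ e (ax (u, (1 : K)) x) = cFac ρ deg hρ e x := by
  unfold cFac
  congr 1
  rw [he, hdeg, hdeg, map_one, map_one, hu, hv, one_mul, one_mul, inv_one, mul_one, mul_one]

theorem eHat_mem_Cent (hρ : Function.Surjective ρ) (e : Equiv.Perm X)
    (he : ∀ b x, e (ax ((1 : K), b) x) = ax ((1 : K), b) (e x)) :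
    eHat ρ deg hρ e ∈ Cent (tauR ax π ρ deg hdeg) := by
  rw [mem_Cent_iff]
  intro k y
  apply Subtype.ext
  rw [eHat_apply, tauR_apply, tauR_apply, eHat_apply]
  apply Prod.ext
  · exact he _ _
  · show cFac ρ deg hρ e (ax ((1 : K), k.1.1) y.1.1) * (y.1.2 * (k.1.2)⁻¹) =
      cFac ρ deg hρ e y.1.1 * y.1.2 * (k.1.2)⁻¹
    rw [cFac_right ax π ρ deg hdeg hρ e he, mul_assoc]

theorem eHat_conj (hρ : Function.Surjective ρ) (e : Equiv.Perm X) (u v : (ρ.comp π).ker)
    (he : ∀ x, e (ax ((u : K), (1 : K)) x) = ax ((v : K), (1 : K)) (e x)) :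
    eHat ρ deg hρ e * tauL ax π ρ deg hdeg (iotaStar π ρ u) =
      tauL ax π ρ deg hdeg (iotaStar π ρ v) * eHat ρ deg hρ e := by
  apply Equiv.ext
  intro y
  apply Subtype.ext
  rw [Equiv.Perm.mul_apply, Equiv.Perm.mul_apply, eHat_apply, tauL_apply, tauL_apply, eHat_apply,
    iotaStar_coe, iotaStar_coe]
  apply Prod.ext
  · exact he _
  · show cFac ρ deg hρ e (ax ((u : K), (1 : K)) y.1.1) * ((1 : R) * y.1.2) =
      (1 : R) * (cFac ρ deg hρ e y.1.1 * y.1.2)
    rw [cFac_left ax π ρ deg hdeg hρ e (u : K) (v : K) u.2 v.2 he, one_mul, one_mul]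

end Cfsg.Agent.Lib.Helper27.Tate
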