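import Mathlib
import Cfsg.Agent.Lib.Helper27.TateBisetD

set_option autoImplicit false

/-! The twisted transfer: main abstract statement. -/

namespace Cfsg.Agent.Lib.Helper27.Tate

open Cfsg.Agent.Lib.Helper27.Park Cfsg.Agent.Lib.Helper27.CB
open scoped IsMulCommutative

universe u

variable {K X R Γ : Type u} [Group K] [Group R] [Group Γ]

theorem exists_twist [Finite K] [Finite X] [Finite R] {p : ℕ} [Fact p.Prime]
    (ax : K × K →* Equiv.Perm X) (π : K →* R) (ρ : R →* Γ) (deg : X → Γ)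
    (hdeg : ∀ a b x, deg (ax (a, b) x) = ρ (π a) * deg x * (ρ (π b))⁻¹)
    (hfree : ∀ (b : K) (x : X), ax ((1 : K), b) x = x → b = 1)
    (hcard : ¬ p ∣ Nat.card (Orb (axR ax)))
    (hρ : Function.Surjective ρ) (hcen : ρ.ker ≤ Subgroup.center R) :
    ∃ (τ : K →* Subgroup.center R) (τs : (ρ.comp π).ker →* Subgroup.center R) (d : ℕ), ¬ p ∣ d ∧
      (∀ s, ((τ s : Subgroup.center R) : R) ∈ ρ.ker) ∧
      (∀ t : (ρ.comp π).ker,
        ((τ (t : K) : Subgroup.center R) : R) = ((τs t : Subgroup.center R) : R) * (π (t : K)) ^ d) ∧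
      (∀ (e : Equiv.Perm X), (∀ b x, e (ax ((1 : K), b) x) = ax ((1 : K), b) (e x)) →
        ∀ u v : (ρ.comp π).ker, (∀ x, e (ax ((u : K), (1 : K)) x) = ax ((v : K), (1 : K)) (e x)) →
          τs v = τs u) := by
  classical
  set τr := tauR ax π ρ deg hdeg with hτr
  haveI : Finite (fib π ρ) := inferInstance
  haveI : Finite (Ysub ρ deg) := inferInstance
  have hfreeY : ∀ (h : fib π ρ) (y : Ysub ρ deg), τr h y = y → h = 1 :=
    fun h y hy => tauR_free ax π ρ deg hdeg hfree h y hy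
  letI : MulAction (Cent τr) (Orb τr) := MulAction.compHom _ (quotPerm τr)
  have hsmul : ∀ (g : Cent τr) (y : Orb τr), g • y = quotPerm τr g y := fun _ _ => rfl
  have hcardY : ¬ p ∣ Nat.card (Orb τr) := by
    rw [hτr, card_orb_eq ax π ρ deg hdeg hρ]
    exact hcard
  obtain ⟨q₁, hq₁⟩ : ∃ q₁ : Orb τr, ¬ p ∣ (MulAction.stabilizer (Cent τr) q₁).index := by
    by_contra hcon
    push Not at hcon
    exact hcardY (dvd_card_of_dvd_index (H := Cent τr) (α := Orb τr) p hcon)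
  obtain ⟨y₁, rfl⟩ := orbMk_surjective τr q₁
  -- the homomorphism from the stabilizer of the orbit to the fibre product
  have hex : ∀ g : MulAction.stabilizer (Cent τr) (orbMk τr y₁),
      ∃ b : fib π ρ, τr b y₁ = ((g : Cent τr) : Equiv.Perm (Ysub ρ deg)) y₁ := by
    intro g
    have h1 : (g : Cent τr) • orbMk τr y₁ = orbMk τr y₁ := g.2
    rw [hsmul, quotPerm_mk] at h1
    exact (orbMk_eq_iff τr).mp h1.symm
  have huniq : ∀ b b' : fib π ρ, τr b y₁ = τr b' y₁ → b = b' := by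
    intro b b' h
    have h2 : τr (b'⁻¹ * b) y₁ = y₁ := by
      rw [map_mul, Equiv.Perm.mul_apply, map_inv, Equiv.Perm.inv_eq_iff_eq]
      exact h
    exact (inv_mul_eq_one.mp (hfreeY _ _ h2)).symm
  obtain ⟨bf, hbf⟩ : ∃ bf : MulAction.stabilizer (Cent τr) (orbMk τr y₁) → fib π ρ,
      ∀ g, τr (bf g) y₁ = ((g : Cent τr) : Equiv.Perm (Ysub ρ deg)) y₁ :=
    ⟨fun g => Classical.choose (hex g), fun g => Classical.choose_spec (hex g)⟩
  have hbf_mul : ∀ g g', bf (g * g') = bf g' * bf g := by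
    intro g g'
    apply huniq
    rw [hbf, map_mul, Equiv.Perm.mul_apply, hbf]
    show (((g : Cent τr) : Equiv.Perm (Ysub ρ deg)) * ((g' : Cent τr) : Equiv.Perm (Ysub ρ deg))) y₁ = _
    rw [Equiv.Perm.mul_apply, ← hbf g', Cent_comm]
  obtain ⟨πh, hπh⟩ : ∃ πh : MulAction.stabilizer (Cent τr) (orbMk τr y₁) →* fib π ρ,
      ∀ g, πh g = (bf g)⁻¹ :=
    ⟨MonoidHom.mk' (fun g => (bf g)⁻¹) (by
      intro g g'
      show (bf (g * g'))⁻¹ = (bf g)⁻¹ * (bf g')⁻¹
      rw [hbf_mul, mul_inv_rev]), fun g => rfl⟩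
  set V := MonoidHom.transfer ((chiHom π ρ hcen).comp πh) with hV
  have hVker : ∀ g, ((V g : Subgroup.center R) : R) ∈ ρ.ker := by
    intro g
    have h1 := transfer_mem ((chiHom π ρ hcen).comp πh) (ρ.ker.subgroupOf (Subgroup.center R))
      (fun h => by
        rw [Subgroup.mem_subgroupOf]
        exact chiHom_mem_ker π ρ hcen _) g
    rwa [Subgroup.mem_subgroupOf] at h1
  -- central elements
  have hcentral : ∀ a : ρ.ker, ((V (tauLC ax π ρ deg hdeg (iotaKer π ρ a)) : Subgroup.center R) : R) =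
      (a : R) ^ (MulAction.stabilizer (Cent τr) (orbMk τr y₁)).index := by
    intro a
    have hLR : ∀ a' : ρ.ker, ((tauLC ax π ρ deg hdeg (iotaKer π ρ a') : Cent τr) :
        Equiv.Perm (Ysub ρ deg)) = τr (iotaKer π ρ a')⁻¹ := fun a' => tauL_iotaKer ax π ρ deg hdeg hcen a'
    have hcomm : ∀ (a' : ρ.ker) (g : Cent τr), g * tauLC ax π ρ deg hdeg (iotaKer π ρ a') =
        tauLC ax π ρ deg hdeg (iotaKer π ρ a') * g := by
      intro a' g
      apply Subtype.ext
      apply Equiv.ext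
      intro y
      show (g : Equiv.Perm (Ysub ρ deg))
          (((tauLC ax π ρ deg hdeg (iotaKer π ρ a') : Cent τr) : Equiv.Perm (Ysub ρ deg)) y) =
        ((tauLC ax π ρ deg hdeg (iotaKer π ρ a') : Cent τr) : Equiv.Perm (Ysub ρ deg))
          ((g : Equiv.Perm (Ysub ρ deg)) y)
      rw [hLR a', Cent_comm]
    have hmemStab : ∀ a' : ρ.ker, tauLC ax π ρ deg hdeg (iotaKer π ρ a') ∈
        MulAction.stabilizer (Cent τr) (orbMk τr y₁) := by
      intro a'
      rw [MulAction.mem_stabilizer_iff, hsmul, quotPerm_mk, hLR a']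
      exact ((orbMk_eq_iff τr).mpr ⟨_, rfl⟩).symm
    have hval : ∀ a' : ρ.ker, (((chiHom π ρ hcen).comp πh) ⟨_, hmemStab a'⟩ : Subgroup.center R) =
        chiHom π ρ hcen (iotaKer π ρ a') := by
      intro a'
      show chiHom π ρ hcen (πh ⟨_, hmemStab a'⟩) = _
      congr 1
      rw [hπh, inv_eq_iff_eq_inv]
      apply huniq
      rw [hbf]
      exact congrFun (congrArg DFunLike.coe (hLR a')) y₁
    have key : ∀ (k : ℕ) (g₀ : Cent τr),
        g₀⁻¹ * (tauLC ax π ρ deg hdeg (iotaKer π ρ a)) ^ k * g₀ ∈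
          MulAction.stabilizer (Cent τr) (orbMk τr y₁) →
        g₀⁻¹ * (tauLC ax π ρ deg hdeg (iotaKer π ρ a)) ^ k * g₀ =
          (tauLC ax π ρ deg hdeg (iotaKer π ρ a)) ^ k := by
      intro k g₀ _
      rw [← map_pow, ← map_pow, mul_assoc, ← hcomm (a ^ k) g₀, inv_mul_cancel_left]
    rw [hV, MonoidHom.transfer_eq_pow _ _ key]
    have hpow : (tauLC ax π ρ deg hdeg (iotaKer π ρ a)) ^
        (MulAction.stabilizer (Cent τr) (orbMk τr y₁)).index =
        tauLC ax π ρ deg hdeg (iotaKer π ρ (a ^ (MulAction.stabilizer (Cent τr) (orbMk τr y₁)).index)) := by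
      rw [map_pow, map_pow]
    have h3 := hval (a ^ (MulAction.stabilizer (Cent τr) (orbMk τr y₁)).index)
    have h4 : (⟨(tauLC ax π ρ deg hdeg (iotaKer π ρ a)) ^
        (MulAction.stabilizer (Cent τr) (orbMk τr y₁)).index,
          MonoidHom.transfer_eq_pow_aux _ key⟩ : MulAction.stabilizer (Cent τr) (orbMk τr y₁)) =
        ⟨_, hmemStab (a ^ (MulAction.stabilizer (Cent τr) (orbMk τr y₁)).index)⟩ :=
      Subtype.ext hpow
    rw [h4, h3, chiHom_iotaKer]
    rfl
  refine ⟨V.comp ((tauLC ax π ρ deg hdeg).comp (iotaHat π ρ)),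
    V.comp ((tauLC ax π ρ deg hdeg).comp (iotaStar π ρ)),
    (MulAction.stabilizer (Cent τr) (orbMk τr y₁)).index, hq₁, fun s => hVker _, ?_, ?_⟩
  · intro t
    show ((V (tauLC ax π ρ deg hdeg (iotaHat π ρ (t : K))) : Subgroup.center R) : R) =
      ((V (tauLC ax π ρ deg hdeg (iotaStar π ρ t)) : Subgroup.center R) : R) * _
    rw [iotaHat_eq_mul, map_mul, map_mul, Subgroup.coe_mul, hcentral]
  · intro e he u v huv
    show V (tauLC ax π ρ deg hdeg (iotaStar π ρ v)) = V (tauLC ax π ρ deg hdeg (iotaStar π ρ u))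
    have heC : eHat ρ deg hρ e ∈ Cent τr := eHat_mem_Cent ax π ρ deg hdeg hρ e he
    have hconj : (⟨eHat ρ deg hρ e, heC⟩ : Cent τr) * tauLC ax π ρ deg hdeg (iotaStar π ρ u) =
        tauLC ax π ρ deg hdeg (iotaStar π ρ v) * ⟨eHat ρ deg hρ e, heC⟩ := by
      apply Subtype.ext
      exact eHat_conj ax π ρ deg hdeg hρ e u v huv
    have h5 : tauLC ax π ρ deg hdeg (iotaStar π ρ v) =
        (⟨eHat ρ deg hρ e, heC⟩ : Cent τr) * tauLC ax π ρ deg hdeg (iotaStar π ρ u) *
          (⟨eHat ρ deg hρ e, heC⟩ : Cent τr)⁻¹ := by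
      rw [hconj, mul_inv_cancel_right]
    rw [h5, map_mul, map_mul, map_inv, mul_comm, inv_mul_cancel_left]

end Cfsg.Agent.Lib.Helper27.Tate
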