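import Mathlib
import Cfsg.Prelude.Def_FusionSystem
import Cfsg.Agent.H26.Hyperfocal

set_option autoImplicit false

/-! Every map of a saturated fusion system is congruent to a conjugation by an element of `S`, modulo
the hyperfocal subgroup. -/

namespace Cfsg.Agent.Lib.Helper27.Tate

open Cfsg Cfsg.FusionSystem Cfsg.Agent.Lib.Helper27 Cfsg.Agent.H26

variable {Ω : Type*} [Group Ω] {S : Subgroup Ω}

/-- The subsystem of `F` of the maps congruent to a conjugation by an element of `S` modulo `T`. -/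
def congSys (F : FusionSystem S) (T : Subgroup Ω) (hT : ∀ s ∈ S, ∀ t ∈ T, s * t * s⁻¹ ∈ T) :
    FusionSystem S where
  Hom P := {φ | φ ∈ F.Hom P ∧ ∃ s ∈ S, ∀ x : P, (s * (x : Ω) * s⁻¹)⁻¹ * φ x ∈ T}
  le_of_mem h := F.le_of_mem h.1
  injective_of_mem h := F.injective_of_mem h.1
  conj_mem := by
    intro P g hP hg
    refine ⟨F.conj_mem hP hg, g, hg, fun x => ?_⟩
    show (g * (x : Ω) * g⁻¹)⁻¹ * (g * (x : Ω) * g⁻¹) ∈ T
    rw [inv_mul_cancel]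
    exact T.one_mem
  comp_mem := by
    rintro P Q φ ψ ⟨hφ, s, hs, hφs⟩ ⟨hψ, s', hs', hψs⟩ h
    refine ⟨F.comp_mem hφ hψ h, s' * s, S.mul_mem hs' hs, fun x => ?_⟩
    show (s' * s * (x : Ω) * (s' * s)⁻¹)⁻¹ * ψ ⟨φ x, h x⟩ ∈ T
    have h1 := hT s' hs' _ (hφs x)
    have h2 := hψs ⟨φ x, h x⟩
    have h3 := T.mul_mem h1 h2
    have e : s' * ((s * (x : Ω) * s⁻¹)⁻¹ * φ x) * s'⁻¹ * ((s' * (φ x) * s'⁻¹)⁻¹ * ψ ⟨φ x, h x⟩) =
        (s' * s * (x : Ω) * (s' * s)⁻¹)⁻¹ * ψ ⟨φ x, h x⟩ := by group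
    rw [← e]
    exact h3
  inv_mem := by
    rintro P φ ⟨hφ, s, hs, hφs⟩
    obtain ⟨ψ, hψ, hinv⟩ := F.inv_mem hφ
    refine ⟨ψ, ⟨hψ, s⁻¹, S.inv_mem hs, ?_⟩, hinv⟩
    rintro ⟨_, x, rfl⟩
    rw [hinv x]
    show (s⁻¹ * φ x * s⁻¹⁻¹)⁻¹ * (x : Ω) ∈ T
    have h1 := T.inv_mem (hφs x)
    have h2 := hT s⁻¹ (S.inv_mem hs) _ h1
    have e : s⁻¹ * ((s * (x : Ω) * s⁻¹)⁻¹ * φ x)⁻¹ * s⁻¹⁻¹ = (s⁻¹ * φ x * s⁻¹⁻¹)⁻¹ * (x : Ω) := by group
    rw [← e]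
    exact h2

/-- The automorphisms of `R` congruent to a conjugation by an element of `S` modulo `T`. -/
def congAut (S T : Subgroup Ω) (hT : ∀ s ∈ S, ∀ t ∈ T, s * t * s⁻¹ ∈ T) (R : Subgroup Ω) :
    Subgroup (MulAut R) where
  carrier := {β | ∃ s ∈ S, ∀ x : R, (s * (x : Ω) * s⁻¹)⁻¹ * ((β x : R) : Ω) ∈ T}
  one_mem' := ⟨1, S.one_mem, fun x => by
    show ((1 : Ω) * (x : Ω) * (1 : Ω)⁻¹)⁻¹ * (x : Ω) ∈ T
    rw [one_mul, inv_one, mul_one, inv_mul_cancel]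
    exact T.one_mem⟩
  mul_mem' := by
    rintro β β' ⟨s, hs, hβ⟩ ⟨s', hs', hβ'⟩
    refine ⟨s * s', S.mul_mem hs hs', fun x => ?_⟩
    show (s * s' * (x : Ω) * (s * s')⁻¹)⁻¹ * ((β (β' x) : R) : Ω) ∈ T
    have h1 := hT s hs _ (hβ' x)
    have h2 := hβ (β' x)
    have h3 := T.mul_mem h1 h2
    have e : s * ((s' * (x : Ω) * s'⁻¹)⁻¹ * ((β' x : R) : Ω)) * s⁻¹ *
        ((s * ((β' x : R) : Ω) * s⁻¹)⁻¹ * ((β (β' x) : R) : Ω)) =
        (s * s' * (x : Ω) * (s * s')⁻¹)⁻¹ * ((β (β' x) : R) : Ω) := by group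
    rw [← e]
    exact h3
  inv_mem' := by
    rintro β ⟨s, hs, hβ⟩
    refine ⟨s⁻¹, S.inv_mem hs, fun x => ?_⟩
    have h1 := T.inv_mem (hβ (β⁻¹ x))
    rw [MulAut.apply_inv_self] at h1
    have h2 := hT s⁻¹ (S.inv_mem hs) _ h1
    have e : s⁻¹ * ((s * ((β⁻¹ x : R) : Ω) * s⁻¹)⁻¹ * (x : Ω))⁻¹ * s⁻¹⁻¹ =
        (s⁻¹ * (x : Ω) * s⁻¹⁻¹)⁻¹ * ((β⁻¹ x : R) : Ω) := by group
    rw [← e]
    exact h2

/-- Every map of a saturated fusion system is congruent to a conjugation by an element of `S`, modulo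
the hyperfocal subgroup. -/
theorem exists_conj_mod [Finite S] {p : ℕ} [Fact p.Prime] (hS : IsPGroup p S) {F : FusionSystem S}
    (hF : F.IsSaturated p) {P : Subgroup Ω} {φ : P →* Ω} (hφ : φ ∈ F.Hom P) :
    ∃ s ∈ S, ∀ x : P, (s * (x : Ω) * s⁻¹)⁻¹ * φ x ∈ F.hyperfocalSubgroup p := by
  have hT : ∀ s ∈ S, ∀ t ∈ F.hyperfocalSubgroup p, s * t * s⁻¹ ∈ F.hyperfocalSubgroup p :=
    fun s hs t ht => hyperfocal_conj_mem F p hs ht
  have hle := le_of_autInduced_pResidual hS hF (congSys F (F.hyperfocalSubgroup p) hT)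
    (congAut S (F.hyperfocalSubgroup p) hT)
    (fun R α hα hαK => ⟨hα, hαK⟩)
    (by
      intro R hR
      unfold autInducedBy
      rw [Subgroup.closure_le]
      rintro β ⟨g, hg, hβ⟩
      refine ⟨g, hg, fun x => ?_⟩
      rw [hβ x, inv_mul_cancel]
      exact Subgroup.one_mem _)
    (by
      intro R hR α hα
      refine ⟨1, S.one_mem, fun x => ?_⟩
      rw [one_mul, inv_one, mul_one]
      exact mem_hyperfocal F p hR α hα x)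
  exact (hle P hφ).2

end Cfsg.Agent.Lib.Helper27.Tate
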