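import Mathlib
import Cfsg.Agent.Lib.Helper27.ParkBiset

set_option autoImplicit false

/-! Degree maps on the `K × K`-set `⊔_D n(D) · (K × K)/D` with values in a quotient of `K`. -/

namespace Cfsg.Agent.Lib.Helper27.Tate

open Cfsg.Agent.Lib.Helper27.Park Classical

universe u

variable {K : Type u} [Group K] (N : Subgroup K) [N.Normal]

/-- `d` is a degree for the subgroup `D` of `K × K`. -/
def GoodD (D : Subgroup (K × K)) (d : K ⧸ N) : Prop :=
  ∀ g ∈ D, (QuotientGroup.mk g.1 : K ⧸ N) * d = d * QuotientGroup.mk g.2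

/-- A chosen degree. -/
noncomputable def dOf (D : Subgroup (K × K)) : K ⧸ N := Classical.epsilon (GoodD N D)

theorem goodD_dOf {D : Subgroup (K × K)} (h : ∃ d, GoodD N D d) : GoodD N D (dOf N D) :=
  Classical.epsilon_spec h

/-- The degree on the cosets of `D`. -/
noncomputable def degD (D : Subgroup (K × K)) (c : (K × K) ⧸ D) : K ⧸ N :=
  if h : ∃ d, GoodD N D d then
    Quotient.liftOn' c
      (fun g => (QuotientGroup.mk g.1 : K ⧸ N) * dOf N D * (QuotientGroup.mk g.2 : K ⧸ N)⁻¹) (by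
        intro g g' hgg
        rw [QuotientGroup.leftRel_apply] at hgg
        have h1 := goodD_dOf N h _ hgg
        have e1 : g'.1 = g.1 * (g⁻¹ * g').1 := by
          show g'.1 = g.1 * (g.1⁻¹ * g'.1)
          group
        have e2 : g'.2 = g.2 * (g⁻¹ * g').2 := by
          show g'.2 = g.2 * (g.2⁻¹ * g'.2)
          group
        show (QuotientGroup.mk g.1 : K ⧸ N) * dOf N D * (QuotientGroup.mk g.2 : K ⧸ N)⁻¹ =
          (QuotientGroup.mk g'.1 : K ⧸ N) * dOf N D * (QuotientGroup.mk g'.2 : K ⧸ N)⁻¹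
        have aux : ∀ (a b u v d : K ⧸ N), u * d = d * v → a * d * b⁻¹ = a * u * d * (b * v)⁻¹ := by
          intro a b u v d huv
          rw [mul_assoc a u d, huv]
          group
        rw [e1, e2, QuotientGroup.mk_mul, QuotientGroup.mk_mul]
        exact aux _ _ _ _ _ h1)
  else 1

theorem degD_smul {D : Subgroup (K × K)} (h : ∃ d, GoodD N D d) (g : K × K) (c : (K × K) ⧸ D) :
    degD N D (g • c) = (QuotientGroup.mk g.1 : K ⧸ N) * degD N D c * (QuotientGroup.mk g.2 : K ⧸ N)⁻¹ := by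
  obtain ⟨g₀, rfl⟩ := QuotientGroup.mk_surjective c
  have e : (g • (QuotientGroup.mk g₀ : (K × K) ⧸ D)) = QuotientGroup.mk (g * g₀) := rfl
  rw [e]
  unfold degD
  rw [dif_pos h, dif_pos h]
  show (QuotientGroup.mk (g * g₀).1 : K ⧸ N) * dOf N D * (QuotientGroup.mk (g * g₀).2 : K ⧸ N)⁻¹ =
    (QuotientGroup.mk g.1 : K ⧸ N) *
      ((QuotientGroup.mk g₀.1 : K ⧸ N) * dOf N D * (QuotientGroup.mk g₀.2 : K ⧸ N)⁻¹) *
      (QuotientGroup.mk g.2 : K ⧸ N)⁻¹
  rw [Prod.fst_mul, Prod.snd_mul, QuotientGroup.mk_mul, QuotientGroup.mk_mul, mul_inv_rev]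
  group

/-- The degree map on `⊔_D n(D) · (K × K)/D`. -/
noncomputable def degX (n : Subgroup (K × K) → ℕ) (x : PX n) : K ⧸ N := degD N x.1 x.2.2

theorem degX_act (n : Subgroup (K × K) → ℕ) (hgood : ∀ D, n D ≠ 0 → ∃ d, GoodD N D d) (g : K × K)
    (x : PX n) :
    degX N n (act n g x) =
      (QuotientGroup.mk g.1 : K ⧸ N) * degX N n x * (QuotientGroup.mk g.2 : K ⧸ N)⁻¹ := by
  obtain ⟨D, i, c⟩ := x
  have hD : n D ≠ 0 := by
    intro h0
    have := Fin.pos i
    omega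
  rw [act_apply]
  exact degD_smul N (hgood D hD) g c

end Cfsg.Agent.Lib.Helper27.Tate
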