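import Mathlib
import Cfsg.Agent.Lib.Helper27.TateBisetE
import Cfsg.Agent.Lib.Helper27.TateCong
import Cfsg.Agent.Lib.Helper27.TateDeg
import Cfsg.Agent.Lib.Helper27.CBMain

set_option autoImplicit false

/-! The twisted transfer of a saturated fusion system. -/

namespace Cfsg.Agent.Lib.Helper27.Tate

open Cfsg Cfsg.FusionSystem Cfsg.Agent.Lib.Helper27 Cfsg.Agent.Lib.Helper27.Park
  Cfsg.Agent.Lib.Helper27.CB Cfsg.Agent.H26

universe u

variable {Ω : Type u} [Group Ω] {S : Subgroup Ω} [Finite S] {p : ℕ} [Fact p.Prime]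

theorem exists_twist_fusion (hS : IsPGroup p S) {F : FusionSystem S} (hF : F.IsSaturated p)
    (N₀ N₁ : Subgroup S) [N₀.Normal] [N₁.Normal] (hle : N₀ ≤ N₁)
    (hN₁ : ∀ s : S, s ∈ N₁ ↔ (s : Ω) ∈ F.hyperfocalSubgroup p)
    (hcomm : ∀ s t : S, t ∈ N₁ → t⁻¹ * (s * t * s⁻¹) ∈ N₀) :
    ∃ (τ : S →* Subgroup.center (S ⧸ N₀)) (τs : N₁ →* Subgroup.center (S ⧸ N₀)) (d : ℕ), ¬ p ∣ d ∧
      (∀ s, ∃ t ∈ N₁, ((τ s : Subgroup.center (S ⧸ N₀)) : S ⧸ N₀) = QuotientGroup.mk t) ∧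
      (∀ t : N₁, ((τ (t : S) : Subgroup.center (S ⧸ N₀)) : S ⧸ N₀) =
        ((τs t : Subgroup.center (S ⧸ N₀)) : S ⧸ N₀) * (QuotientGroup.mk (t : S)) ^ d) ∧
      (∀ (P : Subgroup Ω) (φ : P →* Ω) (hφ : φ ∈ F.Hom P) (u : P)
        (hu : (⟨u, hom_le F hφ u.2⟩ : S) ∈ N₁) (hv : (⟨φ u, (F.le_of_mem hφ).2 u⟩ : S) ∈ N₁),
        τs ⟨_, hv⟩ = τs ⟨_, hu⟩) := by
  classical
  obtain ⟨n, hn, hst, k, hk, hpk⟩ := exists_charBiset hS hF
  have hfree : ∀ (b : S) (x : PX n), act n ((1 : S), b) x = x → b = 1 :=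
    fun b x h => rS_free F hn b x h
  have hcardOrb : Nat.card (Orb (axR (act n))) = k := by
    have h1 := card_eq_card_orb_mul (rS n) (fun b x h => rS_free F hn b x h)
    rw [hk] at h1
    exact (Nat.eq_of_mul_eq_mul_right Nat.card_pos h1).symm
  have hcard : ¬ p ∣ Nat.card (Orb (axR (act n))) := by rw [hcardOrb]; exact hpk
  -- the quotients
  let π : S →* S ⧸ N₀ := QuotientGroup.mk' N₀
  let ρ : S ⧸ N₀ →* S ⧸ N₁ := QuotientGroup.map N₀ N₁ (MonoidHom.id S) hle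
  have hρπ : ∀ s : S, ρ (π s) = QuotientGroup.mk s := fun s => rfl
  have hρ : Function.Surjective ρ := by
    intro c
    obtain ⟨s, rfl⟩ := QuotientGroup.mk_surjective c
    exact ⟨π s, rfl⟩
  have hker : ∀ r : S ⧸ N₀, r ∈ ρ.ker ↔ ∃ t ∈ N₁, r = QuotientGroup.mk t := by
    intro r
    obtain ⟨s, rfl⟩ := QuotientGroup.mk_surjective r
    constructor
    · intro h
      rw [MonoidHom.mem_ker] at h
      have h1 : (QuotientGroup.mk s : S ⧸ N₁) = 1 := h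
      rw [QuotientGroup.eq_one_iff] at h1
      exact ⟨s, h1, rfl⟩
    · rintro ⟨t, ht, hst'⟩
      rw [MonoidHom.mem_ker, hst']
      show (QuotientGroup.mk t : S ⧸ N₁) = 1
      rw [QuotientGroup.eq_one_iff]
      exact ht
  have hcen : ρ.ker ≤ Subgroup.center (S ⧸ N₀) := by
    intro r hr
    obtain ⟨t, ht, rfl⟩ := (hker r).mp hr
    rw [Subgroup.mem_center_iff]
    intro r'
    obtain ⟨s, rfl⟩ := QuotientGroup.mk_surjective r'
    rw [← QuotientGroup.mk_mul, ← QuotientGroup.mk_mul, QuotientGroup.eq]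
    have h1 := hcomm s⁻¹ t ht
    have h2 : (s * t)⁻¹ * (t * s) = t⁻¹ * (s⁻¹ * t * s⁻¹⁻¹) := by group
    rw [h2]
    exact h1
  -- the degree map
  have hgood : ∀ D, n D ≠ 0 → ∃ d, GoodD N₁ D d := by
    intro D hD
    obtain ⟨Q, θ, hθ, hg⟩ := hn D hD
    obtain ⟨s, hs, hsθ⟩ := exists_conj_mod hS hF hθ
    refine ⟨(QuotientGroup.mk (⟨s, hs⟩ : S) : S ⧸ N₁)⁻¹, ?_⟩
    rintro ⟨a, b⟩ hab
    obtain ⟨hq, h1⟩ := (hg a b).mp hab
    have h2 := hsθ ⟨a, hq⟩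
    rw [h1] at h2
    have h3 : ((⟨s, hs⟩ : S) * a * (⟨s, hs⟩ : S)⁻¹)⁻¹ * b ∈ N₁ := by
      rw [hN₁]
      exact h2
    have h4 : (QuotientGroup.mk ((⟨s, hs⟩ : S) * a * (⟨s, hs⟩ : S)⁻¹) : S ⧸ N₁) = QuotientGroup.mk b :=
      QuotientGroup.eq.mpr h3
    rw [QuotientGroup.mk_mul, QuotientGroup.mk_mul, QuotientGroup.mk_inv] at h4
    show (QuotientGroup.mk a : S ⧸ N₁) * (QuotientGroup.mk (⟨s, hs⟩ : S) : S ⧸ N₁)⁻¹ =
      (QuotientGroup.mk (⟨s, hs⟩ : S) : S ⧸ N₁)⁻¹ * QuotientGroup.mk b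
    rw [← h4]
    group
  have hdeg : ∀ (a b : S) (x : PX n), degX N₁ n (act n (a, b) x) =
      ρ (π a) * degX N₁ n x * (ρ (π b))⁻¹ := by
    intro a b x
    rw [hρπ, hρπ]
    exact degX_act N₁ n hgood (a, b) x
  obtain ⟨τ, τs, d, hd, hτker, hτ, hinv⟩ :=
    exists_twist (p := p) (act n) π ρ (degX N₁ n) hdeg hfree hcard hρ hcen
  have hkerle : N₁ ≤ (ρ.comp π).ker := by
    intro t ht
    rw [MonoidHom.mem_ker]
    show (QuotientGroup.mk t : S ⧸ N₁) = 1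
    rw [QuotientGroup.eq_one_iff]
    exact ht
  refine ⟨τ, τs.comp (Subgroup.inclusion hkerle), d, hd, fun s => (hker _).mp (hτker s), ?_, ?_⟩
  · intro t
    exact hτ (Subgroup.inclusion hkerle t)
  · intro P φ hφ u hu hv
    obtain ⟨e, he⟩ := exists_conj F hn hst hφ
    show τs (Subgroup.inclusion hkerle ⟨_, hv⟩) = τs (Subgroup.inclusion hkerle ⟨_, hu⟩)
    apply hinv (e : Equiv.Perm (PX n))
    · intro b x
      exact Cent_comm (rS n) e b x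
    · intro x
      have h1 := he u
      have h2 : iotaG n ⟨φ u, (F.le_of_mem hφ).2 u⟩ * e = e * iotaG n ⟨u, hom_le F hφ u.2⟩ := by
        rw [h1, inv_mul_cancel_right]
      have h3 := congrArg (fun c : Cent (rS n) => (c : Equiv.Perm (PX n)) x) h2
      exact h3.symm

end Cfsg.Agent.Lib.Helper27.Tate
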