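import Mathlib
import Cfsg.Agent.Lib.Helper27.TateMainA

set_option autoImplicit false

/-! A homomorphism from the hyperfocal subgroup to a commutative `p`-group which is constant on the
classes of the system is trivial. -/

namespace Cfsg.Agent.Lib.Helper27.Tate

open Cfsg Cfsg.FusionSystem Cfsg.Agent.Lib.Helper27 Cfsg.Agent.Lib.Helper27.Park
  Cfsg.Agent.Lib.Helper27.CB Cfsg.Agent.H26 Cfsg.Agent.Lib.Helper17

universe u

variable {Ω : Type u} [Group Ω] {S : Subgroup Ω} [Finite S] {p : ℕ} [Fact p.Prime]

theorem eq_one_of_pow_eq_one_of_coprime {A : Type*} [Group A] (hA : IsPGroup p A) (a : A) (m : ℕ)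
    (hm : m.Coprime p) (ha : a ^ m = 1) : a = 1 := by
  obtain ⟨k, hk⟩ := hA a
  have h1 : orderOf a ∣ p ^ k := orderOf_dvd_of_pow_eq_one hk
  have h2 : orderOf a ∣ m := orderOf_dvd_of_pow_eq_one ha
  have h3 : (p ^ k).Coprime m := Nat.Coprime.pow_left k hm.symm
  have h4 : orderOf a = 1 := Nat.eq_one_of_dvd_coprimes h3 h1 h2
  exact orderOf_eq_one_iff.mp h4

omit [Finite S] in
theorem tauS_trivial (F : FusionSystem S) (N₁ : Subgroup S)
    (hN₁ : ∀ s : S, s ∈ N₁ ↔ (s : Ω) ∈ F.hyperfocalSubgroup p)
    {A : Type*} [CommGroup A] (hA : IsPGroup p A) (τs : N₁ →* A)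
    (hinv : ∀ (P : Subgroup Ω) (φ : P →* Ω) (hφ : φ ∈ F.Hom P) (u : P)
      (hu : (⟨u, hom_le F hφ u.2⟩ : S) ∈ N₁) (hv : (⟨φ u, (F.le_of_mem hφ).2 u⟩ : S) ∈ N₁),
      τs ⟨_, hv⟩ = τs ⟨_, hu⟩) :
    ∀ t : N₁, τs t = 1 := by
  classical
  -- the homomorphism as a function on `Ω`
  let W : Ω → A := fun y =>
    if hy : y ∈ F.hyperfocalSubgroup p then τs ⟨⟨y, hyperfocal_le F p hy⟩, (hN₁ _).mpr hy⟩ else 1
  have hWdef : ∀ (y : Ω) (hy : y ∈ F.hyperfocalSubgroup p),
      W y = τs ⟨⟨y, hyperfocal_le F p hy⟩, (hN₁ _).mpr hy⟩ := fun y hy => dif_pos hy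
  have hW_mul : ∀ y y' : Ω, y ∈ F.hyperfocalSubgroup p → y' ∈ F.hyperfocalSubgroup p →
      W (y * y') = W y * W y' := by
    intro y y' hy hy'
    rw [hWdef _ (Subgroup.mul_mem _ hy hy'), hWdef _ hy, hWdef _ hy', ← map_mul]
    rfl
  have hW_one : W 1 = 1 := by
    rw [hWdef _ (Subgroup.one_mem _)]
    exact map_one τs
  have hW_inv : ∀ (P : Subgroup Ω) (φ : P →* Ω), φ ∈ F.Hom P → ∀ u : P,
      (u : Ω) ∈ F.hyperfocalSubgroup p → φ u ∈ F.hyperfocalSubgroup p → W (φ u) = W (u : Ω) := by
    intro P φ hφ u hu hv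
    rw [hWdef _ hu, hWdef _ hv]
    exact hinv P φ hφ u ((hN₁ _).mpr hu) ((hN₁ _).mpr hv)
  have hle : ∀ y ∈ F.hyperfocalSubgroup p, W y = 1 := by
    have hsub : F.hyperfocalSubgroup p ≤
        ({ carrier := {y | y ∈ F.hyperfocalSubgroup p ∧ W y = 1}
           one_mem' := ⟨Subgroup.one_mem _, hW_one⟩
           mul_mem' := by
            rintro a b ⟨ha, ha1⟩ ⟨hb, hb1⟩
            exact ⟨Subgroup.mul_mem _ ha hb, by rw [hW_mul a b ha hb, ha1, hb1, one_mul]⟩
           inv_mem' := by
            rintro a ⟨ha, ha1⟩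
            refine ⟨Subgroup.inv_mem _ ha, ?_⟩
            have h1 := hW_mul a a⁻¹ ha (Subgroup.inv_mem _ ha)
            rw [mul_inv_cancel, hW_one, ha1, one_mul] at h1
            exact h1.symm } : Subgroup Ω) := by
      unfold hyperfocalSubgroup
      rw [Subgroup.closure_le]
      rintro y ⟨P, α, x, hP, hα, rfl⟩
      refine ⟨mem_hyperfocal F p hP α hα x, ?_⟩
      have hgen : ∀ (β : F.autGroup P), β ∈ pResidual p (F.autGroup P) →
          ∀ x : P, W ((x : Ω)⁻¹ * (((β : MulAut P) x : P) : Ω)) = 1 := by
        intro β hβ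
        unfold pResidual at hβ
        induction hβ using Subgroup.closure_induction with
        | mem β hβc =>
          rw [Set.mem_ofPred_eq] at hβc
          intro x
          have hβres : β ∈ pResidual p (F.autGroup P) := mem_pResidual_of_coprime hβc
          have hpow : ∀ k : ℕ, β ^ k ∈ pResidual p (F.autGroup P) :=
            fun k => Subgroup.pow_mem _ hβres k
          have hw : ∀ k : ℕ, (x : Ω)⁻¹ * ((((β ^ k : F.autGroup P) : MulAut P) x : P) : Ω) ∈
              F.hyperfocalSubgroup p := fun k => mem_hyperfocal F p hP (β ^ k) (hpow k) x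
          have hz : ∀ y : P, ((y : Ω))⁻¹ * (((β : MulAut P) y : P) : Ω) ∈ F.hyperfocalSubgroup p :=
            fun y => mem_hyperfocal F p hP β hβres y
          have hcomm : ∀ k : ℕ, ((β ^ k : F.autGroup P) : MulAut P) ((β : MulAut P) x) =
              (β : MulAut P) (((β ^ k : F.autGroup P) : MulAut P) x) := by
            intro k
            have hc : ((β ^ k : F.autGroup P) : MulAut P) * (β : MulAut P) =
                (β : MulAut P) * ((β ^ k : F.autGroup P) : MulAut P) := by
              rw [Subgroup.coe_pow]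
              exact (Commute.pow_self (β : MulAut P) k).eq
            exact congrArg (fun γ : MulAut P => γ x) hc
          have hzk : ∀ k : ℕ, W (((((β ^ k : F.autGroup P) : MulAut P) x : P) : Ω)⁻¹ *
              (((β : MulAut P) (((β ^ k : F.autGroup P) : MulAut P) x) : P) : Ω)) =
              W ((x : Ω)⁻¹ * (((β : MulAut P) x : P) : Ω)) := by
            intro k
            have hφ : P.subtype.comp (((β ^ k : F.autGroup P) : MulAut P) : P ≃* P).toMonoidHom ∈
                F.Hom P := (mem_autGroup_iff F hP _).mp (β ^ k).2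
            have e1 : (P.subtype.comp (((β ^ k : F.autGroup P) : MulAut P) : P ≃* P).toMonoidHom)
                (x⁻¹ * ((β : MulAut P) x)) =
                ((((β ^ k : F.autGroup P) : MulAut P) x : P) : Ω)⁻¹ *
                  (((β : MulAut P) (((β ^ k : F.autGroup P) : MulAut P) x) : P) : Ω) := by
              show ((((β ^ k : F.autGroup P) : MulAut P) (x⁻¹ * ((β : MulAut P) x)) : P) : Ω) = _
              rw [map_mul, map_inv, Subgroup.coe_mul, Subgroup.coe_inv, hcomm k]
            have e2 : ((x⁻¹ * ((β : MulAut P) x) : P) : Ω) = (x : Ω)⁻¹ * (((β : MulAut P) x : P) : Ω) := by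
              rw [Subgroup.coe_mul, Subgroup.coe_inv]
            have h1 := hW_inv P _ hφ (x⁻¹ * ((β : MulAut P) x)) (by rw [e2]; exact hz x)
              (by rw [e1]; exact hz _)
            rw [e1, e2] at h1
            exact h1
          have hwk : ∀ k : ℕ, W ((x : Ω)⁻¹ * ((((β ^ k : F.autGroup P) : MulAut P) x : P) : Ω)) =
              (W ((x : Ω)⁻¹ * (((β : MulAut P) x : P) : Ω))) ^ k := by
            intro k
            induction k with
            | zero =>
              rw [pow_zero, pow_zero]
              show W ((x : Ω)⁻¹ * (x : Ω)) = 1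
              rw [inv_mul_cancel]
              exact hW_one
            | succ k ih =>
              have hs : ((β ^ (k + 1) : F.autGroup P) : MulAut P) x =
                  (β : MulAut P) (((β ^ k : F.autGroup P) : MulAut P) x) := by
                rw [pow_succ', Subgroup.coe_mul]
                rfl
              have e : (x : Ω)⁻¹ * ((((β ^ (k + 1) : F.autGroup P) : MulAut P) x : P) : Ω) =
                  (x : Ω)⁻¹ * ((((β ^ k : F.autGroup P) : MulAut P) x : P) : Ω) *
                    (((((β ^ k : F.autGroup P) : MulAut P) x : P) : Ω)⁻¹ *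
                      (((β : MulAut P) (((β ^ k : F.autGroup P) : MulAut P) x) : P) : Ω)) := by
                rw [hs]
                group
              rw [e, hW_mul _ _ (hw k) (hz _), ih, hzk k, pow_succ]
          have h2 := hwk (orderOf β)
          rw [pow_orderOf_eq_one] at h2
          have h3 : W ((x : Ω)⁻¹ * ((((1 : F.autGroup P) : MulAut P) x : P) : Ω)) = 1 := by
            show W ((x : Ω)⁻¹ * (x : Ω)) = 1
            rw [inv_mul_cancel]
            exact hW_one
          rw [h3] at h2
          exact eq_one_of_pow_eq_one_of_coprime hA _ (orderOf β) hβc h2.symm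
        | one =>
          intro x
          show W ((x : Ω)⁻¹ * (x : Ω)) = 1
          rw [inv_mul_cancel]
          exact hW_one
        | mul a b ha hb iha ihb =>
          intro x
          have ha' : a ∈ pResidual p (F.autGroup P) := ha
          have hb' : b ∈ pResidual p (F.autGroup P) := hb
          have e : (x : Ω)⁻¹ * ((((a * b : F.autGroup P) : MulAut P) x : P) : Ω) =
              (x : Ω)⁻¹ * (((b : MulAut P) x : P) : Ω) *
                ((((b : MulAut P) x : P) : Ω)⁻¹ * (((a : MulAut P) ((b : MulAut P) x) : P) : Ω)) := by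
            rw [Subgroup.coe_mul, MulAut.mul_apply]
            group
          rw [e, hW_mul _ _ (mem_hyperfocal F p hP b hb' x) (mem_hyperfocal F p hP a ha' _), ihb x,
            iha ((b : MulAut P) x), one_mul]
        | inv a ha iha =>
          intro x
          have ha' : a ∈ pResidual p (F.autGroup P) := ha
          have h0 := mem_hyperfocal F p hP a ha' (((a⁻¹ : F.autGroup P) : MulAut P) x)
          have h1 := iha (((a⁻¹ : F.autGroup P) : MulAut P) x)
          have e : (x : Ω)⁻¹ * ((((a⁻¹ : F.autGroup P) : MulAut P) x : P) : Ω) =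
              ((((((a⁻¹ : F.autGroup P) : MulAut P) x : P) : Ω))⁻¹ *
                (((a : MulAut P) (((a⁻¹ : F.autGroup P) : MulAut P) x) : P) : Ω))⁻¹ := by
            rw [Subgroup.coe_inv, MulAut.apply_inv_self]
            group
          rw [e]
          have h2 := hW_mul _ _ h0 (Subgroup.inv_mem _ h0)
          rw [mul_inv_cancel, hW_one, h1, one_mul] at h2
          exact h2.symm
      exact hgen α hα x
    intro y hy
    exact (hsub hy).2
  intro t
  have ht : ((t : S) : Ω) ∈ F.hyperfocalSubgroup p := (hN₁ _).mp t.2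
  have := hle _ ht
  rw [hWdef _ ht] at this
  exact this

end Cfsg.Agent.Lib.Helper27.Tate
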