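import Mathlib
import Cfsg.Agent.Lib.Helper27.TateMainB

set_option autoImplicit false

/-! The splitting theorem: for a saturated fusion system `F` over `S` with hyperfocal subgroup `T`, and a
subgroup `T₀ ≤ T` normal in `S` with `[T, S] ≤ T₀`, there is a homomorphism from `S` to a commutative
group whose restriction to `T` has kernel `T₀` and the same image. -/

namespace Cfsg.Agent.Lib.Helper27.Tate

open Cfsg Cfsg.FusionSystem Cfsg.Agent.Lib.Helper27 Cfsg.Agent.Lib.Helper27.Park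
  Cfsg.Agent.Lib.Helper27.CB Cfsg.Agent.H26 Cfsg.Agent.Lib.Helper17
open scoped IsMulCommutative

universe u

variable {Ω : Type u} [Group Ω] {S : Subgroup Ω} [Finite S] {p : ℕ} [Fact p.Prime]

theorem exists_split (hS : IsPGroup p S) {F : FusionSystem S} (hF : F.IsSaturated p)
    (T₀ : Subgroup Ω) (hT₀ : T₀ ≤ F.hyperfocalSubgroup p)
    (hnorm : ∀ s ∈ S, ∀ t ∈ T₀, s * t * s⁻¹ ∈ T₀)
    (hcomm : ∀ s ∈ S, ∀ t ∈ F.hyperfocalSubgroup p, t⁻¹ * (s * t * s⁻¹) ∈ T₀) :
    ∃ (A : Type u) (_ : CommGroup A) (τ : S →* A),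
      (∀ t : S, (t : Ω) ∈ F.hyperfocalSubgroup p → (τ t = 1 ↔ (t : Ω) ∈ T₀)) ∧
      (∀ s : S, ∃ t : S, (t : Ω) ∈ F.hyperfocalSubgroup p ∧ τ s = τ t) := by
  classical
  have hp : p.Prime := Fact.out
  haveI hN₀ : (T₀.subgroupOf S).Normal := by
    constructor
    intro n hn g
    rw [Subgroup.mem_subgroupOf] at hn ⊢
    exact hnorm g g.2 n hn
  haveI hN₁ : ((F.hyperfocalSubgroup p).subgroupOf S).Normal := by
    constructor
    intro n hn g
    rw [Subgroup.mem_subgroupOf] at hn ⊢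
    exact hyperfocal_conj_mem F p g.2 hn
  have hle : T₀.subgroupOf S ≤ (F.hyperfocalSubgroup p).subgroupOf S := by
    intro s hs
    rw [Subgroup.mem_subgroupOf] at hs ⊢
    exact hT₀ hs
  have hmem₁ : ∀ s : S, s ∈ (F.hyperfocalSubgroup p).subgroupOf S ↔ (s : Ω) ∈ F.hyperfocalSubgroup p :=
    fun s => Subgroup.mem_subgroupOf
  have hcomm' : ∀ s t : S, t ∈ (F.hyperfocalSubgroup p).subgroupOf S →
      t⁻¹ * (s * t * s⁻¹) ∈ T₀.subgroupOf S := by
    intro s t ht
    rw [Subgroup.mem_subgroupOf] at ht ⊢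
    exact hcomm s s.2 t ht
  obtain ⟨τ, τs, d, hd, hrange, hτ, hinv⟩ :=
    exists_twist_fusion hS hF (T₀.subgroupOf S) ((F.hyperfocalSubgroup p).subgroupOf S) hle hmem₁ hcomm'
  have hQ : IsPGroup p (S ⧸ T₀.subgroupOf S) := hS.to_quotient _
  have hA : IsPGroup p (Subgroup.center (S ⧸ T₀.subgroupOf S)) := hQ.to_subgroup _
  have hτs := tauS_trivial F _ hmem₁ hA τs hinv
  have hτ' : ∀ t : S, (t : Ω) ∈ F.hyperfocalSubgroup p →
      ((τ t : Subgroup.center (S ⧸ T₀.subgroupOf S)) : S ⧸ T₀.subgroupOf S) =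
        (QuotientGroup.mk t : S ⧸ T₀.subgroupOf S) ^ d := by
    intro t ht
    have h1 := hτ ⟨t, (hmem₁ t).mpr ht⟩
    rw [hτs, Subgroup.coe_one, one_mul] at h1
    exact h1
  have hdp : d.Coprime p := ((Nat.Prime.coprime_iff_not_dvd hp).mpr hd).symm
  refine ⟨Subgroup.center (S ⧸ T₀.subgroupOf S), inferInstance, τ, ?_, ?_⟩
  · intro t ht
    constructor
    · intro h1
      have h2 := hτ' t ht
      rw [h1, Subgroup.coe_one] at h2
      have h3 := eq_one_of_pow_eq_one_of_coprime hQ _ d hdp h2.symm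
      rw [QuotientGroup.eq_one_iff, Subgroup.mem_subgroupOf] at h3
      exact h3
    · intro h1
      apply Subtype.ext
      rw [hτ' t ht, Subgroup.coe_one]
      have h2 : (QuotientGroup.mk t : S ⧸ T₀.subgroupOf S) = 1 := by
        rw [QuotientGroup.eq_one_iff, Subgroup.mem_subgroupOf]
        exact h1
      rw [h2, one_pow]
  · intro s
    obtain ⟨t', ht', hst'⟩ := hrange s
    obtain ⟨j, hj⟩ := (IsPGroup.iff_orderOf.mp hQ) (QuotientGroup.mk t' : S ⧸ T₀.subgroupOf S)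
    have hcop : d.Coprime (orderOf (QuotientGroup.mk t' : S ⧸ T₀.subgroupOf S)) := by
      rw [hj]
      exact Nat.Coprime.pow_right j hdp
    obtain ⟨m, hm⟩ := exists_pow_eq_self_of_coprime hcop
    have htm : ((t' ^ m : S) : Ω) ∈ F.hyperfocalSubgroup p :=
      (hmem₁ _).mp (Subgroup.pow_mem _ ht' m)
    refine ⟨t' ^ m, htm, ?_⟩
    apply Subtype.ext
    rw [hst', hτ' _ htm, QuotientGroup.mk_pow, ← pow_mul, mul_comm, pow_mul, hm]

end Cfsg.Agent.Lib.Helper27.Tate
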