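import Mathlib
import Cfsg.Agent.Lib.Helper27.TateMainC
import Cfsg.Agent.Lib.Helper27.CBFocal
import Cfsg.Agent.Lib.Helper27.CBThompson
import Cfsg.Agent.Lib.Helper27.FusionPPower
import Cfsg.Agent.Lib.Lead.Tate

set_option autoImplicit false

/-! Tate's theorem for saturated fusion systems. -/

namespace Cfsg.Agent.Lib.Helper27.Tate

open Cfsg Cfsg.FusionSystem Cfsg.Agent.Lib.Helper27 Cfsg.Agent.Lib.Helper27.Park
  Cfsg.Agent.Lib.Helper27.CB Cfsg.Agent.H26 Cfsg.Agent.Lib.Helper17 Cfsg.Agent.Lib.Lead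
open scoped commutatorElement

universe u

variable {Ω : Type u} [Group Ω] {S : Subgroup Ω}

theorem hyperfocal_mono {F H : FusionSystem S} (hHF : H.IsSubsystemOf F) (p : ℕ) :
    H.hyperfocalSubgroup p ≤ F.hyperfocalSubgroup p := by
  unfold hyperfocalSubgroup
  rw [Subgroup.closure_le]
  rintro y ⟨P, α, x, hP, hα, rfl⟩
  have h1 : (α : MulAut P) ∈ (pResidual p (H.autGroup P)).map (H.autGroup P).subtype := ⟨α, hα, rfl⟩
  obtain ⟨β, hβ, hβα⟩ := pResidual_map_le_of_subsystem hHF p P h1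
  apply Subgroup.subset_closure
  refine ⟨P, β, x, hP, hβ, ?_⟩
  have : (β : MulAut P) = (α : MulAut P) := hβα
  rw [this]

variable [Finite S] {p : ℕ} [Fact p.Prime]

/-- The generators of the subgroup `T_H [T, S]`. -/
def tateGens (S T TH : Subgroup Ω) : Set Ω :=
  {y | y ∈ TH ∨ ∃ t ∈ T, ∃ s ∈ S, y = t⁻¹ * (s * t * s⁻¹)}

omit [Finite S] in
theorem tateGens_conj {T TH : Subgroup Ω} (hT : ∀ s ∈ S, ∀ t ∈ T, s * t * s⁻¹ ∈ T)
    (hTH : ∀ s ∈ S, ∀ t ∈ TH, s * t * s⁻¹ ∈ TH) {g : Ω} (hg : g ∈ S) {y : Ω}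
    (hy : y ∈ Subgroup.closure (tateGens S T TH)) :
    g * y * g⁻¹ ∈ Subgroup.closure (tateGens S T TH) := by
  induction hy using Subgroup.closure_induction with
  | mem y hy =>
    apply Subgroup.subset_closure
    rcases hy with hy | ⟨t, ht, s, hs, rfl⟩
    · exact Or.inl (hTH g hg y hy)
    · refine Or.inr ⟨g * t * g⁻¹, hT g hg t ht, g * s * g⁻¹,
        S.mul_mem (S.mul_mem hg hs) (S.inv_mem hg), ?_⟩
      group
  | one =>
    rw [mul_one, mul_inv_cancel]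
    exact Subgroup.one_mem _
  | mul a b _ _ iha ihb =>
    have e : g * (a * b) * g⁻¹ = (g * a * g⁻¹) * (g * b * g⁻¹) := by group
    rw [e]
    exact Subgroup.mul_mem _ iha ihb
  | inv a _ iha =>
    have e : g * a⁻¹ * g⁻¹ = (g * a * g⁻¹)⁻¹ := by group
    rw [e]
    exact Subgroup.inv_mem _ iha

/-- **Tate's theorem** for fusion systems: if `H ≤ F` are saturated fusion systems over `S` and
`foc(F) ≤ Φ(S) foc(H)`, then `hyp(F) ≤ hyp(H) [hyp(F), S]`. -/
theorem hyperfocal_le_closure (hS : IsPGroup p S) {F H : FusionSystem S} (hF : F.IsSaturated p)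
    (hH : H.IsSaturated p) (hHF : H.IsSubsystemOf F)
    (hfoc : F.focalSubgroup ≤ (frattini ↥S).map S.subtype ⊔ H.focalSubgroup) :
    F.hyperfocalSubgroup p ≤
      Subgroup.closure (tateGens S (F.hyperfocalSubgroup p) (H.hyperfocalSubgroup p)) := by
  classical
  have hp : p.Prime := Fact.out
  set T := F.hyperfocalSubgroup p with hTdef
  set TH := H.hyperfocalSubgroup p with hTHdef
  have hTHT : TH ≤ T := hyperfocal_mono hHF p
  have hTn : ∀ s ∈ S, ∀ t ∈ T, s * t * s⁻¹ ∈ T := fun s hs t ht => hyperfocal_conj_mem F p hs ht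
  have hTHn : ∀ s ∈ S, ∀ t ∈ TH, s * t * s⁻¹ ∈ TH := fun s hs t ht => hyperfocal_conj_mem H p hs ht
  set T₀ := Subgroup.closure (tateGens S T TH) with hT₀def
  have hT₀T : T₀ ≤ T := by
    rw [hT₀def, Subgroup.closure_le]
    rintro y (hy | ⟨t, ht, s, hs, rfl⟩)
    · exact hTHT hy
    · exact T.mul_mem (T.inv_mem ht) (hTn s hs t ht)
  obtain ⟨A, instA, τ, hτ1, hτ2⟩ := exists_split hS hF T₀ hT₀T
    (fun s hs t ht => tateGens_conj hTn hTHn hs ht)
    (fun s hs t ht => Subgroup.subset_closure (Or.inr ⟨t, ht, s, hs, rfl⟩))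
  -- `τ` is constant on the classes of `H`
  have hτH : ∀ (P : Subgroup Ω) (ψ : P →* Ω) (hψ : ψ ∈ H.Hom P) (u : P),
      τ ⟨ψ u, (H.le_of_mem hψ).2 u⟩ = τ ⟨u, hom_le H hψ u.2⟩ := by
    intro P ψ hψ u
    obtain ⟨s, hs, hsψ⟩ := exists_conj_mod hS hH hψ
    have h1 := hsψ u
    have huS : (u : Ω) ∈ S := hom_le H hψ u.2
    have htS : (s * (u : Ω) * s⁻¹)⁻¹ * ψ u ∈ S := hyperfocal_le H p h1
    have e : (⟨ψ u, (H.le_of_mem hψ).2 u⟩ : S) =
        (⟨s, hs⟩ * ⟨u, huS⟩ * (⟨s, hs⟩ : S)⁻¹) * ⟨(s * (u : Ω) * s⁻¹)⁻¹ * ψ u, htS⟩ := by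
      apply Subtype.ext
      show ψ u = s * (u : Ω) * s⁻¹ * ((s * (u : Ω) * s⁻¹)⁻¹ * ψ u)
      group
    have h2 : τ ⟨(s * (u : Ω) * s⁻¹)⁻¹ * ψ u, htS⟩ = 1 :=
      (hτ1 _ (hTHT h1)).mpr (Subgroup.subset_closure (Or.inl h1))
    rw [e, map_mul, h2, mul_one, map_mul, map_mul, map_inv, mul_comm, inv_mul_cancel_left]
  -- the subgroup of elements whose image is a `p`-th power of an image
  let M : Subgroup S := (((powMonoidHom p : A →* A).comp τ).range).comap τ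
  have hM : ∀ s : S, s ∈ M ↔ ∃ s' : S, τ s' ^ p = τ s := by
    intro s
    constructor
    · rintro ⟨s', hs'⟩
      exact ⟨s', hs'⟩
    · rintro ⟨s', hs'⟩
      exact ⟨s', hs'⟩
  have hΦM : frattini ↥S ≤ M := by
    refine le_trans (frattini_le_frattiniP (p := p)) ?_
    unfold frattiniP
    apply sup_le
    · rw [_root_.commutator, Subgroup.commutator_le]
      intro a _ b _
      rw [hM]
      refine ⟨1, ?_⟩
      rw [map_one, one_pow, map_commutatorElement]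
      exact (commutatorElement_eq_one_iff_mul_comm.mpr (mul_comm _ _)).symm
    · rw [Subgroup.closure_le]
      rintro _ ⟨x, rfl⟩
      show x ^ p ∈ M
      rw [hM]
      exact ⟨x, (map_pow τ x p).symm⟩
  have hfocM : ∀ y ∈ F.focalSubgroup, ∃ hy : y ∈ S, (⟨y, hy⟩ : S) ∈ M := by
    intro y hy
    have h1 := hfoc hy
    have h2 : (frattini ↥S).map S.subtype ⊔ H.focalSubgroup ≤ M.map S.subtype := by
      apply sup_le
      · exact Subgroup.map_mono hΦM
      · intro z hz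
        obtain ⟨hzS, hz1⟩ := focal_le_ker τ hτH hz
        refine ⟨⟨z, hzS⟩, ?_, rfl⟩
        show (⟨z, hzS⟩ : S) ∈ M
        rw [hM]
        exact ⟨1, by rw [map_one, one_pow, hz1]⟩
    obtain ⟨s, hs, rfl⟩ := h2 h1
    exact ⟨s.2, hs⟩
  -- iterate
  have hiter : ∀ k : ℕ, ∀ t : S, (t : Ω) ∈ T → ∃ t' : S, (t' : Ω) ∈ T ∧ τ t = τ t' ^ (p ^ k) := by
    intro k
    induction k with
    | zero =>
      intro t ht
      exact ⟨t, ht, by rw [pow_zero, pow_one]⟩
    | succ k ih =>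
      intro t ht
      obtain ⟨t₁, ht₁, h1⟩ := ih t ht
      have h2 : (t₁ : Ω) ∈ F.focalSubgroup := hyperfocal_le_focal F p ht₁
      obtain ⟨_, h3⟩ := hfocM _ h2
      obtain ⟨s', hs'⟩ := (hM _).mp h3
      obtain ⟨t₂, ht₂, h4⟩ := hτ2 s'
      refine ⟨t₂, ht₂, ?_⟩
      have h5 : τ t₁ = τ t₂ ^ p := by
        rw [← h4, hs']
      rw [h1, h5, ← pow_mul, pow_succ, mul_comm]
  intro t ht
  have htS : t ∈ S := hyperfocal_le F p ht
  obtain ⟨k, hk⟩ := IsPGroup.iff_card.mp hS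
  obtain ⟨t', ht', h1⟩ := hiter k ⟨t, htS⟩ ht
  have h2 : t' ^ (p ^ k) = 1 := by
    rw [← hk]
    exact pow_card_eq_one'
  rw [← map_pow, h2, map_one] at h1
  exact (hτ1 ⟨t, htS⟩ ht).mp h1

/-- **Tate's theorem** for fusion systems: if `H ≤ F` are saturated fusion systems over `S` and
`foc(F) ≤ Φ(S) foc(H)`, then `hyp(F) = hyp(H)`. -/
theorem hyperfocal_eq_of_focal_le (hS : IsPGroup p S) {F H : FusionSystem S} (hF : F.IsSaturated p)
    (hH : H.IsSaturated p) (hHF : H.IsSubsystemOf F)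
    (hfoc : F.focalSubgroup ≤ (frattini ↥S).map S.subtype ⊔ H.focalSubgroup) :
    F.hyperfocalSubgroup p = H.hyperfocalSubgroup p := by
  classical
  apply le_antisymm _ (hyperfocal_mono hHF p)
  have hmain := hyperfocal_le_closure hS hF hH hHF hfoc
  set T := F.hyperfocalSubgroup p with hTdef
  set TH := H.hyperfocalSubgroup p with hTHdef
  haveI hNH : (TH.subgroupOf S).Normal := by
    constructor
    intro n hn g
    rw [Subgroup.mem_subgroupOf] at hn ⊢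
    exact hyperfocal_conj_mem H p g.2 hn
  let N : Subgroup (S ⧸ TH.subgroupOf S) := (T.subgroupOf S).map (QuotientGroup.mk' (TH.subgroupOf S))
  have hgen : ∀ y ∈ Subgroup.closure (tateGens S T TH), ∃ hy : y ∈ S,
      (QuotientGroup.mk (⟨y, hy⟩ : S) : S ⧸ TH.subgroupOf S) ∈ ⁅N, (⊤ : Subgroup (S ⧸ TH.subgroupOf S))⁆ := by
    intro y hy
    induction hy using Subgroup.closure_induction with
    | mem y hy =>
      rcases hy with hy | ⟨t, ht, s, hs, rfl⟩
      · refine ⟨hyperfocal_le H p hy, ?_⟩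
        have : (QuotientGroup.mk (⟨y, hyperfocal_le H p hy⟩ : S) : S ⧸ TH.subgroupOf S) = 1 := by
          rw [QuotientGroup.eq_one_iff, Subgroup.mem_subgroupOf]
          exact hy
        rw [this]
        exact Subgroup.one_mem _
      · have htS : t ∈ S := hyperfocal_le F p ht
        refine ⟨S.mul_mem (S.inv_mem htS) (S.mul_mem (S.mul_mem hs htS) (S.inv_mem hs)), ?_⟩
        have e : (⟨t⁻¹ * (s * t * s⁻¹), S.mul_mem (S.inv_mem htS)
            (S.mul_mem (S.mul_mem hs htS) (S.inv_mem hs))⟩ : S) =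
            ⁅(⟨t, htS⟩ : S)⁻¹, (⟨s, hs⟩ : S)⁆ := by
          apply Subtype.ext
          rw [commutatorElement_def]
          show t⁻¹ * (s * t * s⁻¹) = t⁻¹ * s * t⁻¹⁻¹ * s⁻¹
          group
        rw [e]
        have e2 : (QuotientGroup.mk ⁅(⟨t, htS⟩ : S)⁻¹, (⟨s, hs⟩ : S)⁆ : S ⧸ TH.subgroupOf S) =
            ⁅(QuotientGroup.mk (⟨t, htS⟩ : S)⁻¹ : S ⧸ TH.subgroupOf S), QuotientGroup.mk (⟨s, hs⟩ : S)⁆ :=
          map_commutatorElement (QuotientGroup.mk' (TH.subgroupOf S)) _ _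
        rw [e2]
        apply Subgroup.commutator_mem_commutator _ (Subgroup.mem_top _)
        refine ⟨(⟨t, htS⟩ : S)⁻¹, ?_, rfl⟩
        show (⟨t, htS⟩ : S)⁻¹ ∈ T.subgroupOf S
        rw [Subgroup.mem_subgroupOf]
        exact T.inv_mem ht
    | one => exact ⟨S.one_mem, Subgroup.one_mem _⟩
    | mul a b _ _ iha ihb =>
      obtain ⟨haS, ha⟩ := iha
      obtain ⟨hbS, hb⟩ := ihb
      refine ⟨S.mul_mem haS hbS, ?_⟩
      have e : (⟨a * b, S.mul_mem haS hbS⟩ : S) = ⟨a, haS⟩ * ⟨b, hbS⟩ := Subtype.ext rfl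
      rw [e, QuotientGroup.mk_mul]
      exact Subgroup.mul_mem _ ha hb
    | inv a _ iha =>
      obtain ⟨haS, ha⟩ := iha
      refine ⟨S.inv_mem haS, ?_⟩
      have e : (⟨a⁻¹, S.inv_mem haS⟩ : S) = (⟨a, haS⟩ : S)⁻¹ := Subtype.ext rfl
      rw [e, QuotientGroup.mk_inv]
      exact Subgroup.inv_mem _ ha
  have hNle : N ≤ ⁅N, (⊤ : Subgroup (S ⧸ TH.subgroupOf S))⁆ := by
    rintro _ ⟨t, ht, rfl⟩
    have ht' : (t : Ω) ∈ T := Subgroup.mem_subgroupOf.mp ht
    obtain ⟨_, h1⟩ := hgen _ (hmain ht')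
    exact h1
  haveI : Group.IsNilpotent (S ⧸ TH.subgroupOf S) := (hS.to_quotient _).isNilpotent
  have hNbot := eq_bot_of_le_commutator_top N hNle
  intro t ht
  have htS : t ∈ S := hyperfocal_le F p ht
  have h1 : (QuotientGroup.mk (⟨t, htS⟩ : S) : S ⧸ TH.subgroupOf S) ∈ N :=
    ⟨⟨t, htS⟩, Subgroup.mem_subgroupOf.mpr ht, rfl⟩
  rw [hNbot, Subgroup.mem_bot, QuotientGroup.eq_one_iff, Subgroup.mem_subgroupOf] at h1
  exact h1

end Cfsg.Agent.Lib.Helper27.Tate
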