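import Mathlib
import Cfsg.Agent.Lib.Helper27.TateThm
import Cfsg.Agent.Lib.Helper27.FusionFrobenius
import Cfsg.Agent.Lib.Helper27.FusionUCS
import Cfsg.Agent.H26.Essential
import Cfsg.Agent.H26.Hyperfocal
import Cfsg.Agent.Lib.Helper1.Frattini

set_option autoImplicit false

/-! Corollaries of Tate's theorem for saturated fusion systems. -/

namespace Cfsg.Agent.Lib.Helper27.Tate

open Cfsg Cfsg.FusionSystem Cfsg.Agent.Lib.Helper27 Cfsg.Agent.Lib.Helper27.Park
  Cfsg.Agent.Lib.Helper27.CB Cfsg.Agent.H26 Cfsg.Agent.Lib.Helper17 Cfsg.Agent.Lib.Lead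
open scoped commutatorElement

universe u

variable {Ω : Type u} [Group Ω] {S : Subgroup Ω}

/-- The hyperfocal subgroup of the inner fusion system of a `p`-group is trivial. -/
theorem hyperfocal_inner {p : ℕ} [Fact p.Prime] (hS : IsPGroup p S) :
    (innerFusionSystem S).hyperfocalSubgroup p = ⊥ := by
  unfold hyperfocalSubgroup
  rw [eq_bot_iff, Subgroup.closure_le]
  rintro y ⟨P, α, x, hP, hα, rfl⟩
  have hp : IsPGroup p ((innerFusionSystem S).autGroup P) := by
    rw [inner_autGroup_eq hP]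
    exact isPGroup_autInducedBy hS P
  rw [pResidual_eq_bot_of_isPGroup hp, Subgroup.mem_bot] at hα
  rw [hα]
  simp

/-- A saturated fusion system with trivial hyperfocal subgroup is the inner fusion system. -/
theorem hom_eq_inner_of_hyperfocal_eq_bot [Finite S] {p : ℕ} [Fact p.Prime] (hS : IsPGroup p S)
    {F : FusionSystem S} (hF : F.IsSaturated p) (h : F.hyperfocalSubgroup p = ⊥) (P : Subgroup Ω) :
    F.Hom P = (innerFusionSystem S).Hom P := by
  apply hom_eq_inner_of_autGroup_isPGroup hS hF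
  intro R hR
  haveI : Finite R := Finite.of_injective (Subgroup.inclusion hR) (Subgroup.inclusion_injective hR)
  apply isPGroup_of_coprime_trivial
  intro β m hm hβ
  have hord : (orderOf β).Coprime p := Nat.Coprime.coprime_dvd_left (orderOf_dvd_of_pow_eq_one hβ) hm
  have hres : β ∈ pResidual p (F.autGroup R) := mem_pResidual_of_coprime hord
  apply Subtype.ext
  apply MulEquiv.ext
  intro x
  have h1 := mem_hyperfocal F p hR β hres x
  rw [h, Subgroup.mem_bot, inv_mul_eq_one] at h1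
  apply Subtype.ext
  exact h1.symm

/-- A saturated fusion system whose focal subgroup lies in the Frattini subgroup is the inner fusion
system. -/
theorem hom_eq_inner_of_focal_le_frattini [Finite S] {p : ℕ} [Fact p.Prime] (hS : IsPGroup p S)
    {F : FusionSystem S} (hF : F.IsSaturated p)
    (h : F.focalSubgroup ≤ (frattini ↥S).map S.subtype) (P : Subgroup Ω) :
    F.Hom P = (innerFusionSystem S).Hom P := by
  apply hom_eq_inner_of_hyperfocal_eq_bot hS hF
  rw [hyperfocal_eq_of_focal_le hS hF (inner_isSaturated hS) (fun P => inner_le F P)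
    (le_trans h le_sup_left)]
  exact hyperfocal_inner hS

/-- **Frattini + extension**: let `R < S` be fully normalized in the saturated system `F`, and let `E` be a
fusion system containing all maps of `F` defined on subgroups of larger order than `R`. If `E` contains
all `Aut_F(R)`-conjugates of the elements of `Aut_S(R)`, then it contains `Aut_F(R)`. -/
theorem isIso_of_conj_mem [Finite S] {p : ℕ} [Fact p.Prime] (hS : IsPGroup p S) {F E : FusionSystem S}
    (hF : F.IsSaturated p) {R : Subgroup Ω} (hRlt : R < S) (hfn : F.IsFullyNormalized R)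
    (IH : ∀ P' : Subgroup Ω, P' ≤ S → Nat.card R < Nat.card P' → F.Hom P' ⊆ E.Hom P')
    (hconj : ∀ β : F.autGroup R, ∀ γ ∈ autInducedBy S R,
      (β : MulAut R) * γ * (β : MulAut R)⁻¹ ∈ E.autGroup R) :
    ∀ α : R ≃* R, IsIso F α → IsIso E α := by
  classical
  have hRS : R ≤ S := hRlt.le
  haveI : Finite R := Finite.of_injective (Subgroup.inclusion hRS) (Subgroup.inclusion_injective hRS)
  obtain ⟨hfa, hrec, -⟩ := fa_receptive_of_fullyNormalized hS hF hfn
  obtain ⟨-, P₀, hP₀⟩ := hfa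
  set K : Subgroup (F.autGroup R) := (E.autGroup R).subgroupOf (F.autGroup R) with hK
  set M : Subgroup (F.autGroup R) := Subgroup.normalClosure ((P₀ : Subgroup (F.autGroup R)) : Set (F.autGroup R))
    with hM
  have hMK : M ≤ K := by
    rw [hM, Subgroup.normalClosure, Subgroup.closure_le]
    intro a ha
    rw [Group.mem_conjugatesOfSet_iff] at ha
    obtain ⟨b, hb, hba⟩ := ha
    obtain ⟨c, rfl⟩ := (_root_.isConj_iff).mp hba
    have hb' : (b : MulAut R) ∈ autInducedBy S R := by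
      have : b ∈ (autInducedBy S R).subgroupOf (F.autGroup R) := hP₀ ▸ hb
      exact Subgroup.mem_subgroupOf.mp this
    show c * b * c⁻¹ ∈ (E.autGroup R).subgroupOf (F.autGroup R)
    rw [Subgroup.mem_subgroupOf]
    exact hconj c b hb'
  have hP₀M : (P₀ : Subgroup (F.autGroup R)) ≤ M := Subgroup.le_normalClosure
  have hNK : Subgroup.normalizer ((P₀ : Subgroup (F.autGroup R)) : Set (F.autGroup R)) ≤ K := by
    intro α hα
    obtain ⟨g, hgN, hgR⟩ := exists_mem_normalizerIn_not_mem hS hRlt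
    have h1 : conjAutHom S R ⟨g, hgN⟩ ∈ autInducedBy S R := by
      rw [← conjAutHom_range]; exact ⟨_, rfl⟩
    have h2 : (⟨conjAutHom S R ⟨g, hgN⟩, autInducedBy_le_autGroup F hRS h1⟩ : F.autGroup R) ∈
        (P₀ : Subgroup (F.autGroup R)) := by
      rw [hP₀, Subgroup.mem_subgroupOf]; exact h1
    have h3 := (Subgroup.mem_normalizer_iff.mp hα _).mp h2
    rw [hP₀, Subgroup.mem_subgroupOf] at h3
    have h4 : g ∈ extender S R (R.subtype.comp ((α : MulAut R) : R ≃* R).toMonoidHom) :=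
      mem_extender_of_conj_mem hRS α hgN h3
    show α ∈ (E.autGroup R).subgroupOf (F.autGroup R)
    rw [Subgroup.mem_subgroupOf, mem_autGroup_iff E hRS]
    exact isIso_of_extender_gt hrec IH ((mem_autGroup_iff F hRS _).mp α.2) ⟨g, h4, hgR⟩
  have htop : K = ⊤ := by
    have h1 := Sylow.normalizer_sup_eq_top (P₀.subtype hP₀M)
    have h2 : ((P₀.subtype hP₀M : Sylow p M) : Subgroup M).map M.subtype = (P₀ : Subgroup (F.autGroup R)) := by
      rw [Sylow.coe_subtype]
      exact Subgroup.map_subgroupOf_eq_of_le hP₀M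
    rw [h2] at h1
    rw [eq_top_iff, ← h1]
    exact sup_le hNK hMK
  intro α hα
  have hαF : (α : MulAut R) ∈ F.autGroup R := (mem_autGroup_iff F hRS α).mpr hα
  have h1 : (⟨α, hαF⟩ : F.autGroup R) ∈ K := by
    rw [htop]; exact Subgroup.mem_top _
  rw [hK, Subgroup.mem_subgroupOf] at h1
  exact (mem_autGroup_iff E hRS α).mp h1

/-- The subsystem of maps `φ` with `x⁻¹ φ(x) ∈ U` for all `x`. -/
def diffSys (F : FusionSystem S) (U : Subgroup Ω)
    (hU : ∀ g ∈ S, ∀ x ∈ S, x⁻¹ * (g * x * g⁻¹) ∈ U) : FusionSystem S where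
  Hom P := {φ | φ ∈ F.Hom P ∧ ∀ x : P, (x : Ω)⁻¹ * φ x ∈ U}
  le_of_mem h := F.le_of_mem h.1
  injective_of_mem h := F.injective_of_mem h.1
  conj_mem := by
    intro P g hP hg
    exact ⟨F.conj_mem hP hg, fun x => hU g hg x (hP x.2)⟩
  comp_mem := by
    rintro P P' φ φ' ⟨hφ, hφQ⟩ ⟨hφ', hφ'Q⟩ h
    refine ⟨F.comp_mem hφ hφ' h, fun x => ?_⟩
    have h1 := hφQ x
    have h2 := hφ'Q ⟨φ x, h x⟩
    have := U.mul_mem h1 h2
    simp only [mul_assoc, mul_inv_cancel_left] at this
    exact this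
  inv_mem := by
    rintro P φ ⟨hφ, hφQ⟩
    obtain ⟨ψ, hψ, hinv⟩ := F.inv_mem hφ
    refine ⟨ψ, ⟨hψ, ?_⟩, hinv⟩
    rintro ⟨_, x, rfl⟩
    rw [hinv x]
    have := U.inv_mem (hφQ x)
    rw [mul_inv_rev, inv_inv] at this
    exact this

/-- If `Q` is strongly closed in the saturated system `F`, contains the commutators of `S`, and `Aut_F(S)` acts
trivially on `S/Q`, then every map of `F` is congruent to the identity modulo `Q`. -/
theorem diff_mem_of_stronglyClosed [Finite S] {p : ℕ} [Fact p.Prime] (hS : IsPGroup p S)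
    {F : FusionSystem S} (hF : F.IsSaturated p) {Q : Subgroup Ω} (hQ : F.StronglyClosed Q)
    (hU : ∀ g ∈ S, ∀ x ∈ S, x⁻¹ * (g * x * g⁻¹) ∈ Q)
    (htop : ∀ α : S ≃* S, IsIso F α → ∀ x : S, (x : Ω)⁻¹ * ((α x : S) : Ω) ∈ Q) :
    ∀ (P : Subgroup Ω) (φ : P →* Ω), φ ∈ F.Hom P → ∀ x : P, (x : Ω)⁻¹ * φ x ∈ Q := by
  have key : ∀ P : Subgroup Ω, F.Hom P ⊆ (diffSys F Q hU).Hom P := by
    apply alperin_strong hS hF (diffSys F Q hU)
    · intro α hα
      exact ⟨hα, fun x => htop α hα x⟩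
    · intro R hRlt hfn _ _ IH
      have hRS : R ≤ S := hRlt.le
      apply isIso_of_conj_mem hS hF hRlt hfn IH
      intro β γ hγ
      rw [mem_autGroup_iff _ hRS]
      have hβF : IsIso F ((β : MulAut R) : R ≃* R) := (mem_autGroup_iff F hRS _).mp β.2
      have hγF : γ ∈ F.autGroup R := autInducedBy_le_autGroup F hRS hγ
      have hmem : (β : MulAut R) * γ * (β : MulAut R)⁻¹ ∈ F.autGroup R :=
        Subgroup.mul_mem _ (Subgroup.mul_mem _ β.2 hγF) (Subgroup.inv_mem _ β.2)
      refine ⟨(mem_autGroup_iff F hRS _).mp hmem, fun x => ?_⟩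
      obtain ⟨g, hg, hgγ⟩ := (mem_autInducedBy_iff γ).mp hγ
      -- `y = β⁻¹ x`
      set y : R := (β : MulAut R)⁻¹ x with hy
      have hx : x = (β : MulAut R) y := by rw [hy, MulAut.apply_inv_self]
      have h1 : (R.subtype.comp (((β : MulAut R) * γ * (β : MulAut R)⁻¹ : MulAut R) : R ≃* R).toMonoidHom) x
          = (((β : MulAut R) (γ y) : R) : Ω) := rfl
      rw [h1]
      have h2 : (x : Ω)⁻¹ * (((β : MulAut R) (γ y) : R) : Ω) =
          (((β : MulAut R) (y⁻¹ * γ y) : R) : Ω) := by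
        rw [map_mul, map_inv, ← hx]
        rfl
      rw [h2]
      have hz : ((y⁻¹ * γ y : R) : Ω) ∈ Q := by
        show (y : Ω)⁻¹ * ((γ y : R) : Ω) ∈ Q
        rw [hgγ y]
        exact hU g hg _ (hRS y.2)
      -- restrict `β` to `Q ⊓ R`
      have hle : Q ⊓ R ≤ R := inf_le_right
      have hres := hom_restrict F hle hβF
      have := hQ.2 (Q ⊓ R) inf_le_left _ hres ⟨_, ⟨hz, (y⁻¹ * γ y).2⟩⟩
      exact this
  intro P φ hφ x
  exact (key P hφ).2 x

/-- Under the hypotheses of `diff_mem_of_stronglyClosed`, the focal subgroup lies in `Q`. -/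
theorem focal_le_of_stronglyClosed [Finite S] {p : ℕ} [Fact p.Prime] (hS : IsPGroup p S)
    {F : FusionSystem S} (hF : F.IsSaturated p) {Q : Subgroup Ω} (hQ : F.StronglyClosed Q)
    (hU : ∀ g ∈ S, ∀ x ∈ S, x⁻¹ * (g * x * g⁻¹) ∈ Q)
    (htop : ∀ α : S ≃* S, IsIso F α → ∀ x : S, (x : Ω)⁻¹ * ((α x : S) : Ω) ∈ Q) :
    F.focalSubgroup ≤ Q := by
  unfold focalSubgroup
  rw [Subgroup.closure_le]
  rintro y ⟨P, φ, x, hφ, rfl⟩
  exact diff_mem_of_stronglyClosed hS hF hQ hU htop P φ hφ x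

/-- commutators of `S` lie in the image of the Frattini subgroup -/
theorem comm_mem_frattini [Finite S] {p : ℕ} [Fact p.Prime] (hS : IsPGroup p S) {g x : Ω}
    (hg : g ∈ S) (hx : x ∈ S) :
    x⁻¹ * (g * x * g⁻¹) ∈ (frattini ↥S).map S.subtype := by
  have h1 : ⁅(⟨x, hx⟩ : S)⁻¹, (⟨g, hg⟩ : S)⁆ ∈ frattini ↥S := by
    apply Cfsg.Agent.Lib.Helper1.IsPGroup.commutator_le_frattini hS
    exact Subgroup.commutator_mem_commutator (Subgroup.mem_top _) (Subgroup.mem_top _)
  refine ⟨_, h1, ?_⟩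
  rw [commutatorElement_def]
  show x⁻¹ * g * x⁻¹⁻¹ * g⁻¹ = x⁻¹ * (g * x * g⁻¹)
  group

/-- **Inner criterion**: a saturated fusion system over `S` in which `Aut_F(S) = Inn(S)` and `Q ≤ Φ(S)` is strongly
closed and contains `[S, S]` is the inner fusion system. -/
theorem hom_eq_inner_of_stronglyClosed [Finite S] {p : ℕ} [Fact p.Prime] (hS : IsPGroup p S)
    {F : FusionSystem S} (hF : F.IsSaturated p) {Q : Subgroup Ω} (hQ : F.StronglyClosed Q)
    (hU : ∀ g ∈ S, ∀ x ∈ S, x⁻¹ * (g * x * g⁻¹) ∈ Q)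
    (hQΦ : Q ≤ (frattini ↥S).map S.subtype)
    (htop : ∀ α : S ≃* S, IsIso F α → IsIso (innerFusionSystem S) α) (P : Subgroup Ω) :
    F.Hom P = (innerFusionSystem S).Hom P := by
  apply hom_eq_inner_of_focal_le_frattini hS hF
  refine le_trans (focal_le_of_stronglyClosed hS hF hQ hU ?_) hQΦ
  intro α hα x
  obtain ⟨-, g, hg, h⟩ := htop α hα
  have h1 : ((α x : S) : Ω) = g * (x : Ω) * g⁻¹ := h x
  rw [h1]
  exact hU g hg _ x.2

end Cfsg.Agent.Lib.Helper27.Tate
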