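import Mathlib
import Cfsg.Agent.Lib.Helper27.TateCor
import Cfsg.Agent.Lib.Helper27.LG2Extremal
import Cfsg.Agent.Lib.Helper27.MaxClassC
import Cfsg.Agent.S5096
import Cfsg.Agent.S5098

set_option autoImplicit false

/-! Corollaries of Tate's theorem for saturated fusion systems, II: normalizer systems. -/

namespace Cfsg.Agent.Lib.Helper27.Tate

open Cfsg Cfsg.FusionSystem Cfsg.Agent.Lib.Helper27 Cfsg.Agent.H26
open scoped commutatorElement

universe u

variable {Ω : Type u} [Group Ω] {S : Subgroup Ω}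

/-- If the normalizer system of `S` in `F` is inner, then `Aut_F(S) = Inn(S)`. -/
theorem aut_top_inner [Finite S] (F : FusionSystem S)
    (hN : ∀ N : FusionSystem (normalizerIn S S), F.IsNormalizerSystem S N →
      ∀ P : Subgroup Ω, N.Hom P = (innerFusionSystem (normalizerIn S S)).Hom P) :
    ∀ α : S ≃* S, IsIso F α → IsIso (innerFusionSystem S) α := by
  intro α hα
  obtain ⟨N₀, hN₀⟩ := Cfsg.Agent.S5096.result F S le_rfl
  have h1 : S.subtype.comp α.toMonoidHom ∈ F.normalizerHom S S :=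
    Cfsg.Agent.Lib.Helper27.LG2.mem_normalizerHom_of_preserves F le_rfl (le_normalizerIn le_rfl) hα
      (fun x _ => (F.le_of_mem hα).2 x)
  rw [← hN₀ S, hN N₀ hN₀ S] at h1
  obtain ⟨-, g, hg, h⟩ := h1
  exact ⟨le_rfl, g, (normalizerIn_le_S S S) hg, h⟩

/-- The normalizer system of `S` in the inner system is inner. -/
theorem normalizer_top_inner (F : FusionSystem S)
    (hF : ∀ P : Subgroup Ω, F.Hom P = (innerFusionSystem S).Hom P)
    (N : FusionSystem (normalizerIn S S)) (hN : F.IsNormalizerSystem S N) (P : Subgroup Ω) :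
    N.Hom P = (innerFusionSystem (normalizerIn S S)).Hom P := by
  have hSN : S ≤ normalizerIn S S := le_normalizerIn le_rfl
  rw [hN P]
  ext φ
  constructor
  · rintro ⟨hφ, hPN, -, -⟩
    rw [hF P] at hφ
    obtain ⟨-, g, hg, h⟩ := hφ
    exact ⟨hPN, g, hSN hg, h⟩
  · rintro ⟨hPN, g, hg, h⟩
    have hPS : P ≤ S := hPN.trans (normalizerIn_le_S S S)
    have hgS : g ∈ S := normalizerIn_le_S S S hg
    have hφ : φ ∈ F.Hom P := by
      rw [hF P]
      exact ⟨hPS, g, hgS, h⟩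
    have hle : P ⊔ S ≤ S := sup_le hPS le_rfl
    refine ⟨hφ, hPN, fun x => hSN ((F.le_of_mem hφ).2 x), conjHom (P ⊔ S) g, F.conj_mem hle hgS,
      fun x => (h x).symm, ?_⟩
    ext y
    constructor
    · rintro ⟨x, hx, rfl⟩
      exact S.mul_mem (S.mul_mem hgS (Subgroup.mem_subgroupOf.mp hx)) (S.inv_mem hgS)
    · intro hy
      have h1 : g⁻¹ * y * g ∈ S := S.mul_mem (S.mul_mem (S.inv_mem hgS) hy) hgS
      refine ⟨⟨g⁻¹ * y * g, le_sup_right (a := P) h1⟩, Subgroup.mem_subgroupOf.mpr h1, ?_⟩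
      show g * (g⁻¹ * y * g) * g⁻¹ = y
      group

/-- The image of the Frattini subgroup in the inner system is strongly closed. -/
theorem frattini_stronglyClosed_of_inner (F : FusionSystem S)
    (hF : ∀ P : Subgroup Ω, F.Hom P = (innerFusionSystem S).Hom P) :
    F.StronglyClosed ((frattini ↥S).map S.subtype) := by
  refine ⟨?_, ?_⟩
  · rintro _ ⟨x, -, rfl⟩
    exact x.2
  · intro R hR φ hφ x
    rw [hF R] at hφ
    obtain ⟨-, g, hg, h⟩ := hφ
    rw [h x]
    obtain ⟨y, hy, hyx⟩ := hR x.2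
    haveI : (frattini ↥S).Normal := inferInstance
    have h1 : (⟨g, hg⟩ : S) * y * (⟨g, hg⟩ : S)⁻¹ ∈ frattini ↥S :=
      Subgroup.Normal.conj_mem inferInstance y hy _
    refine ⟨_, h1, ?_⟩
    show g * (y : Ω) * g⁻¹ = g * (x : Ω) * g⁻¹
    rw [← hyx]
    rfl

theorem frattini_map_eq_of_eq {S₁ S₂ : Subgroup Ω} (h : S₁ = S₂) :
    (frattini ↥S₁).map S₁.subtype = (frattini ↥S₂).map S₂.subtype := by
  subst h
  rfl

theorem exists_conj_of_eq {S₁ : Subgroup Ω} (F : FusionSystem S) (heq : S₁ = S)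
    (haut : ∀ α : S ≃* S, IsIso F α → IsIso (innerFusionSystem S) α)
    (α : S₁ ≃* S₁) (hα : S₁.subtype.comp α.toMonoidHom ∈ F.Hom S₁) :
    ∃ g ∈ S₁, ∀ x : S₁, ((α x : S₁) : Ω) = g * (x : Ω) * g⁻¹ := by
  subst heq
  obtain ⟨-, g, hg, h⟩ := haut α hα
  exact ⟨g, hg, h⟩

/-- If `Aut_F(S) = Inn(S)` and `[S, S] ≤ Q ≤ Φ(S)`, then the normalizer system of `Q` in the saturated system `F`
is inner. -/
theorem normalizer_inner [Finite S] {p : ℕ} [Fact p.Prime] (hS : IsPGroup p S) (F : FusionSystem S)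
    (hF : F.IsSaturated p)
    (haut : ∀ α : S ≃* S, IsIso F α → IsIso (innerFusionSystem S) α)
    (Q : Subgroup Ω) (hU : ∀ g ∈ S, ∀ x ∈ S, x⁻¹ * (g * x * g⁻¹) ∈ Q)
    (h2 : Q ≤ (frattini ↥S).map S.subtype)
    (N : FusionSystem (normalizerIn S Q)) (hNQ : F.IsNormalizerSystem Q N) (P : Subgroup Ω) :
    N.Hom P = (innerFusionSystem (normalizerIn S Q)).Hom P := by
  have hΦS : (frattini ↥S).map S.subtype ≤ S := by
    rintro _ ⟨x, -, rfl⟩
    exact x.2
  have hQS : Q ≤ S := h2.trans hΦS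
  haveI : Finite Q := Finite.of_injective (Subgroup.inclusion hQS) (Subgroup.inclusion_injective hQS)
  have hnorm : S ≤ Subgroup.normalizer (Q : Set Ω) := by
    intro s hs
    apply mem_normalizer_of_conj_mem
    intro y hy
    have h3 := Q.mul_mem hy (hU s hs y (hQS hy))
    rwa [mul_inv_cancel_left] at h3
  have heq : normalizerIn S Q = S := Cfsg.Agent.Lib.Helper27.MC.normalizerIn_eq_of_le hnorm
  have hfn : F.IsFullyNormalized Q :=
    Cfsg.Agent.Lib.Helper27.MC.isFullyNormalized_of_le_normalizer F hQS hnorm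
  have hNsat : N.IsSaturated p := Cfsg.Agent.S5098.result p hS F hF Q hfn N hNQ
  haveI : Finite (normalizerIn S Q) :=
    Finite.of_injective (Subgroup.inclusion (normalizerIn_le_S S Q)) (Subgroup.inclusion_injective _)
  have hS₁ : IsPGroup p (normalizerIn S Q) :=
    hS.of_injective (Subgroup.inclusion (normalizerIn_le_S S Q)) (Subgroup.inclusion_injective _)
  have hQsc : N.StronglyClosed Q := by
    refine ⟨le_normalizerIn hQS, ?_⟩
    intro R hR φ hφ x
    rw [hNQ R] at hφ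
    obtain ⟨ψ, -, hφψ, hψQ, -, -⟩ := Cfsg.Agent.Lib.Helper27.LG2.normalizerHom_ext hφ
    rw [hφψ]
    exact hψQ _ (hR x.2)
  have hU₁ : ∀ g ∈ normalizerIn S Q, ∀ x ∈ normalizerIn S Q, x⁻¹ * (g * x * g⁻¹) ∈ Q :=
    fun g hg x hx => hU g (normalizerIn_le_S S Q hg) x (normalizerIn_le_S S Q hx)
  have hQΦ : Q ≤ (frattini ↥(normalizerIn S Q)).map (normalizerIn S Q).subtype := by
    rw [frattini_map_eq_of_eq heq]
    exact h2
  have htop : ∀ α : normalizerIn S Q ≃* normalizerIn S Q, IsIso N α →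
      IsIso (innerFusionSystem (normalizerIn S Q)) α := by
    intro α hα
    have h3 : (normalizerIn S Q).subtype.comp α.toMonoidHom ∈ N.Hom (normalizerIn S Q) := hα
    rw [hNQ] at h3
    obtain ⟨g, hg, h⟩ := exists_conj_of_eq F heq haut α h3.1
    exact ⟨le_rfl, g, hg, h⟩
  exact hom_eq_inner_of_stronglyClosed hS₁ hNsat hQsc hU₁ hQΦ htop P

end Cfsg.Agent.Lib.Helper27.Tate
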