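import Mathlib
import Cfsg.Prelude.Def_GeometricClasses
import Cfsg.Agent.Lib.Helper16.TensDefs

/-!
# The fundamental lemma for tensor decompositions (helper27)

`V = (Fin a × Fin b → F) = U ⊗ W` (vocabulary of `Cfsg.Agent.Lib.Helper16.Tens`).
`std w = U ⊗ w`.  If `S ⊆ W ∖ 0` spans `W`, is connected under "some combination `c • x + c' • y`
(`c, c' ≠ 0`) lies in `S`", and `g ∈ GL(V)` maps every `U ⊗ w` (`w ∈ S`) into some `U ⊗ w'`,
then `g` is a Kronecker product: `g ∈ kroneckerSubgroup a b F`.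
-/

set_option autoImplicit false

namespace Cfsg.Agent.Lib.Helper27.TensFund

open Matrix Module Cfsg.Agent.Lib.Helper16.Tens
open scoped Kronecker

variable {F : Type*} [Field F] {a b : ℕ}

/-- the standard subspace `U ⊗ w` -/
def std (w : Fin b → F) : Submodule F (Fin a × Fin b → F) := LinearMap.range (purL (a := a) w)

theorem mem_std_iff (w : Fin b → F) (v : Fin a × Fin b → F) :
    v ∈ std (a := a) w ↔ ∃ u : Fin a → F, pur u w = v := by
  unfold std
  rw [LinearMap.mem_range]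
  rfl

theorem pur_mem_std (u : Fin a → F) (w : Fin b → F) : pur u w ∈ std (a := a) w :=
  (mem_std_iff w _).mpr ⟨u, rfl⟩

/-- the left contraction `φ ⊗ 1 : U ⊗ W → W` -/
def ctrL (φ : Fin a → F) : (Fin a × Fin b → F) →ₗ[F] (Fin b → F) where
  toFun v j := ∑ i, φ i * v (i, j)
  map_add' v v' := by
    funext j; simp [mul_add, Finset.sum_add_distrib]
  map_smul' c v := by
    funext j; simp [Finset.mul_sum, mul_left_comm]

theorem ctrL_pur (φ : Fin a → F) (u : Fin a → F) (w : Fin b → F) :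
    ctrL φ (pur u w) = (u ⬝ᵥ φ) • w := by
  funext j
  simp only [ctrL, LinearMap.coe_mk, AddHom.coe_mk, pur_apply, Pi.smul_apply, smul_eq_mul, dotProduct,
    Finset.sum_mul]
  apply Finset.sum_congr rfl
  intro i _
  ring

theorem exists_dot_eq_one {n : ℕ} {x : Fin n → F} (hx : x ≠ 0) : ∃ ψ : Fin n → F, x ⬝ᵥ ψ = 1 := by
  obtain ⟨j, hj⟩ : ∃ j, x j ≠ 0 := by
    by_contra hall; push Not at hall; exact hx (funext hall)
  refine ⟨Pi.single j (x j)⁻¹, ?_⟩
  rw [dotProduct_single, mul_inv_cancel₀ hj]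

/-- a functional separating `p` from the line through `r` -/
theorem exists_dual_pair {n : ℕ} (p r : Fin n → F) (h : ¬ ∃ s : F, p = s • r) :
    ∃ ψ : Fin n → F, p ⬝ᵥ ψ = 1 ∧ r ⬝ᵥ ψ = 0 := by
  have hp : p ∉ Submodule.span F ({r} : Set (Fin n → F)) := by
    intro hmem
    rw [Submodule.mem_span_singleton] at hmem
    obtain ⟨s, hs⟩ := hmem
    exact h ⟨s, hs.symm⟩
  obtain ⟨f, hfp, hf⟩ := Submodule.exists_le_ker_of_notMem hp
  have hfr : f r = 0 := hf (Submodule.mem_span_singleton_self r)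
  have hrep : ∀ x : Fin n → F, f x = x ⬝ᵥ (fun j => f (Pi.single j 1)) := by
    intro x
    rw [LinearMap.pi_apply_eq_sum_univ f x]
    simp only [dotProduct, smul_eq_mul]
    apply Finset.sum_congr rfl
    intro i _
    congr 2
    funext j
    simp [Pi.single_apply, eq_comm]
  refine ⟨(f p)⁻¹ • (fun j => f (Pi.single j 1)), ?_, ?_⟩
  · rw [dotProduct_smul, ← hrep, smul_eq_mul, inv_mul_cancel₀ hfp]
  · rw [dotProduct_smul, ← hrep, hfr, smul_zero]

/-- equality of non-zero pure tensors -/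
theorem pur_eq_pur {u u' : Fin a → F} {w w' : Fin b → F} (hu : u ≠ 0) (hw : w ≠ 0)
    (h : pur u w = pur u' w') : ∃ t : F, t ≠ 0 ∧ u' = t • u ∧ w = t • w' := by
  obtain ⟨ψ, hψ⟩ := exists_dot_eq_one hw
  obtain ⟨φ, hφ⟩ := exists_dot_eq_one hu
  have h1 := congrArg (ctr ψ) h
  rw [ctr_pur, ctr_pur, hψ, one_smul] at h1
  have h2 := congrArg (ctrL φ) h
  rw [ctrL_pur, ctrL_pur, hφ, one_smul] at h2
  -- u = (w' ⬝ᵥ ψ) • u',  w = (u' ⬝ᵥ φ) • w'
  have ht : (w' ⬝ᵥ ψ) * (u' ⬝ᵥ φ) = 1 := by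
    have := congrArg (fun x => x ⬝ᵥ φ) h1
    simp only [smul_dotProduct, smul_eq_mul] at this
    rw [hφ] at this
    exact this.symm
  have hne : (u' ⬝ᵥ φ) ≠ 0 := by
    intro h0
    rw [h0, mul_zero] at ht
    exact zero_ne_one ht
  refine ⟨u' ⬝ᵥ φ, hne, ?_, h2⟩
  rw [h1, smul_smul, mul_comm, ht, one_smul]

/-- `g (u ⊗ w) = μ u ⊗ w'` for all `u` -/
def Rep (g : GL (Fin a × Fin b) F) (μ : (Fin a → F) →ₗ[F] (Fin a → F)) (w w' : Fin b → F) : Prop :=
  ∀ u : Fin a → F, act g (pur u w) = pur (μ u) w'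

theorem exists_ne_zero (ha : 1 ≤ a) : ∃ u : Fin a → F, u ≠ 0 := by
  refine ⟨Pi.single ⟨0, by omega⟩ 1, ?_⟩
  intro h
  have := congrFun h ⟨0, by omega⟩
  simp at this

theorem rep_exists (ha : 1 ≤ a) (g : GL (Fin a × Fin b) F) {w w' : Fin b → F} (hw : w ≠ 0)
    (h : img g (std (a := a) w) ≤ std w') :
    w' ≠ 0 ∧ ∃ μ : (Fin a → F) →ₗ[F] (Fin a → F), Rep g μ w w' := by
  have key : ∀ u : Fin a → F, ∃ u' : Fin a → F, pur u' w' = act g (pur u w) := by
    intro u
    have hm : act g (pur u w) ∈ img g (std (a := a) w) := by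
      rw [mem_img_iff, act_inv_act]
      exact pur_mem_std u w
    exact (mem_std_iff w' _).mp (h hm)
  have hw' : w' ≠ 0 := by
    obtain ⟨u0, hu0⟩ := exists_ne_zero (F := F) ha
    obtain ⟨u', hu'⟩ := key u0
    intro h0
    rw [h0, pur_zero_right] at hu'
    have : pur u0 w = 0 := by
      apply (act g).injective
      rw [← hu', map_zero]
    rcases pur_eq_zero this with h1 | h1
    · exact hu0 h1
    · exact hw h1
  refine ⟨hw', ?_⟩
  obtain ⟨ψ, hψ⟩ := exists_dot_eq_one hw'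
  refine ⟨(ctr ψ).comp ((act g).toLinearMap.comp (purL w)), ?_⟩
  intro u
  obtain ⟨u', hu'⟩ := key u
  simp only [LinearMap.comp_apply, LinearEquiv.coe_coe, purL_apply]
  rw [← hu', ctr_pur, hψ, one_smul]

theorem Rep.injective {g : GL (Fin a × Fin b) F} {μ : (Fin a → F) →ₗ[F] (Fin a → F)}
    {w w' : Fin b → F} (h : Rep g μ w w') (hw : w ≠ 0) : Function.Injective μ := by
  rw [← LinearMap.ker_eq_bot, LinearMap.ker_eq_bot']
  intro u hu
  have h1 := h u
  rw [hu, pur_zero_left] at h1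
  have : pur u w = 0 := by
    apply (act g).injective
    rw [h1, map_zero]
  rcases pur_eq_zero this with h2 | h2
  · exact h2
  · exact absurd h2 hw

theorem Rep.surjective {g : GL (Fin a × Fin b) F} {μ : (Fin a → F) →ₗ[F] (Fin a → F)}
    {w w' : Fin b → F} (h : Rep g μ w w') (hw : w ≠ 0) : Function.Surjective μ :=
  LinearMap.surjective_of_injective (h.injective hw)

theorem Rep.target_ne_zero (ha : 1 ≤ a) {g : GL (Fin a × Fin b) F}
    {μ : (Fin a → F) →ₗ[F] (Fin a → F)} {w w' : Fin b → F} (h : Rep g μ w w') (hw : w ≠ 0) :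
    w' ≠ 0 := by
  obtain ⟨u0, hu0⟩ := exists_ne_zero (F := F) ha
  intro h0
  have h1 := h u0
  rw [h0, pur_zero_right] at h1
  have : pur u0 w = 0 := by
    apply (act g).injective
    rw [h1, map_zero]
  rcases pur_eq_zero this with h2 | h2
  · exact hu0 h2
  · exact hw h2

theorem Rep.smul_right {g : GL (Fin a × Fin b) F} {μ : (Fin a → F) →ₗ[F] (Fin a → F)}
    {w w' : Fin b → F} (h : Rep g μ w w') (s : F) : Rep g μ (s • w) (s • w') := by
  intro u
  rw [pur_smul_right, map_smul, h u, pur_smul_right]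

/-- move a scalar from the `U`-side map to the target vector -/
theorem Rep.of_smul {g : GL (Fin a × Fin b) F} {μ : (Fin a → F) →ₗ[F] (Fin a → F)}
    {w w' : Fin b → F} (t : F) (h : Rep g (t • μ) w w') : Rep g μ w (t • w') := by
  intro u
  rw [h u, LinearMap.smul_apply, pur_smul_left, pur_smul_right]

/-- the key step: propagation of the `U`-side map along an edge `x — y` (some `c • x + c' • y ∈ S`) -/
theorem Rep.step (ha : 1 ≤ a) {g : GL (Fin a × Fin b) F} {μ : (Fin a → F) →ₗ[F] (Fin a → F)}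
    {x x' y : Fin b → F} (hx : x ≠ 0) (hy : y ≠ 0) (h : Rep g μ x x')
    (c c' : F) (hc : c ≠ 0) (hc' : c' ≠ 0)
    (hgy : ∃ w', img g (std (a := a) y) ≤ std w')
    (hgz : ∃ w', img g (std (a := a) (c • x + c' • y)) ≤ std w') :
    ∃ y'' : Fin b → F, Rep g μ y y'' := by
  by_cases hdep : ∃ s : F, y = s • x
  · obtain ⟨s, rfl⟩ := hdep
    exact ⟨s • x', h.smul_right s⟩
  · obtain ⟨y', hgy'⟩ := hgy
    obtain ⟨hy'0, ν, hν⟩ := rep_exists ha g hy hgy'
    have hx'0 : x' ≠ 0 := h.target_ne_zero ha hx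
    have hz0 : c • x + c' • y ≠ 0 := by
      intro h0
      apply hdep
      refine ⟨-(c'⁻¹ * c), ?_⟩
      have : c' • y = -(c • x) := eq_neg_of_add_eq_zero_right h0
      calc y = c'⁻¹ • (c' • y) := by rw [smul_smul, inv_mul_cancel₀ hc', one_smul]
        _ = -(c'⁻¹ * c) • x := by rw [this, smul_neg, smul_smul, neg_smul]
    obtain ⟨z', hgz'⟩ := hgz
    obtain ⟨hz'0, κ, hκ⟩ := rep_exists ha g hz0 hgz'
    -- x', y' are independent
    have hind1 : ¬ ∃ s : F, y' = s • x' := by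
      rintro ⟨l, hl⟩
      apply hdep
      obtain ⟨u0, hu0⟩ := exists_ne_zero (F := F) ha
      obtain ⟨u1, hu1⟩ := h.surjective hx (l • ν u0)
      have e1 : act g (pur u1 x) = act g (pur u0 y) := by
        rw [h u1, hν u0, hu1, hl, pur_smul_left, pur_smul_right]
      have e2 := (act g).injective e1
      have hu1' : u1 ≠ 0 := by
        intro h0
        rw [h0, pur_zero_left] at e2
        rcases pur_eq_zero e2.symm with h3 | h3
        · exact hu0 h3
        · exact hy h3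
      obtain ⟨t, ht, -, hxt⟩ := pur_eq_pur hu1' hx e2
      refine ⟨t⁻¹, ?_⟩
      rw [hxt, smul_smul, inv_mul_cancel₀ ht, one_smul]
    have hind2 : ¬ ∃ s : F, x' = s • y' := by
      rintro ⟨l, hl⟩
      apply hind1
      have hl0 : l ≠ 0 := by
        intro h0
        rw [h0, zero_smul] at hl
        exact hx'0 hl
      refine ⟨l⁻¹, ?_⟩
      rw [hl, smul_smul, inv_mul_cancel₀ hl0, one_smul]
    obtain ⟨ψ1, h11, h12⟩ := exists_dual_pair x' y' hind2
    obtain ⟨ψ2, h21, h22⟩ := exists_dual_pair y' x' hind1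
    -- the basic identity
    have hid : ∀ u : Fin a → F, c • pur (μ u) x' + c' • pur (ν u) y' = pur (κ u) z' := by
      intro u
      rw [← hκ u, pur_add_right, pur_smul_right, pur_smul_right, map_add, map_smul, map_smul, h u, hν u]
    have e1 : ∀ u : Fin a → F, c • μ u = (z' ⬝ᵥ ψ1) • κ u := by
      intro u
      have := congrArg (ctr ψ1) (hid u)
      rw [map_add, map_smul, map_smul, ctr_pur, ctr_pur, ctr_pur, h11, h12, one_smul, zero_smul,
        smul_zero, add_zero] at this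
      exact this
    have e2 : ∀ u : Fin a → F, c' • ν u = (z' ⬝ᵥ ψ2) • κ u := by
      intro u
      have := congrArg (ctr ψ2) (hid u)
      rw [map_add, map_smul, map_smul, ctr_pur, ctr_pur, ctr_pur, h21, h22, one_smul, zero_smul,
        smul_zero, zero_add] at this
      exact this
    have hz1 : z' ⬝ᵥ ψ1 ≠ 0 := by
      intro h0
      obtain ⟨u0, hu0⟩ := exists_ne_zero (F := F) ha
      have := e1 u0
      rw [h0, zero_smul] at this
      have h3 : μ u0 = 0 := by
        rcases smul_eq_zero.mp this with h4 | h4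
        · exact absurd h4 hc
        · exact h4
      exact hu0 (h.injective hx (by rw [h3, map_zero]))
    -- ν = t • μ
    refine ⟨(c'⁻¹ * (z' ⬝ᵥ ψ2) * (z' ⬝ᵥ ψ1)⁻¹ * c) • y', ?_⟩
    apply Rep.of_smul
    intro u
    rw [hν u]
    congr 1
    rw [LinearMap.smul_apply]
    have hk : κ u = ((z' ⬝ᵥ ψ1)⁻¹ * c) • μ u := by
      rw [mul_smul, e1 u, smul_smul, inv_mul_cancel₀ hz1, one_smul]
    calc ν u = c'⁻¹ • (c' • ν u) := by rw [smul_smul, inv_mul_cancel₀ hc', one_smul]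
      _ = c'⁻¹ • ((z' ⬝ᵥ ψ2) • κ u) := by rw [e2 u]
      _ = (c'⁻¹ * (z' ⬝ᵥ ψ2) * (z' ⬝ᵥ ψ1)⁻¹ * c) • μ u := by
        rw [hk, smul_smul, smul_smul]
        congr 1
        ring


theorem single_eq_pur (i : Fin a) (j : Fin b) :
    (Pi.single (i, j) (1 : F) : Fin a × Fin b → F) = pur (Pi.single i 1) (Pi.single j 1) := by
  funext ⟨i', j'⟩
  simp only [pur_apply, Pi.single_apply, Prod.mk.injEq]
  by_cases h1 : i' = i <;> by_cases h2 : j' = j <;> simp [h1, h2]

/-- a matrix on `Fin a × Fin b` acting on pure tensors like `μ ⊗ β` is the Kronecker product -/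
theorem eq_kron_of_pur (M : Matrix (Fin a × Fin b) (Fin a × Fin b) F)
    (μ : (Fin a → F) →ₗ[F] (Fin a → F)) (β : (Fin b → F) →ₗ[F] (Fin b → F))
    (h : ∀ u w, M *ᵥ pur u w = pur (μ u) (β w)) :
    M = LinearMap.toMatrix' μ ⊗ₖ LinearMap.toMatrix' β := by
  apply Matrix.toLin'.injective
  apply LinearMap.pi_ext'
  rintro ⟨i, j⟩
  apply LinearMap.ext_ring
  simp only [LinearMap.comp_apply, LinearMap.single_apply, Matrix.toLin'_apply]
  rw [single_eq_pur, h, kron_mulVec_pur, LinearMap.toMatrix'_mulVec, LinearMap.toMatrix'_mulVec]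

/-- **Fundamental lemma** (family `U ⊗ w`, `w ∈ S`). -/
theorem mem_kron_of_maps_std (ha : 1 ≤ a) (hb : 1 ≤ b) (S : Set (Fin b → F))
    (h0 : (0 : Fin b → F) ∉ S) (hspan : Submodule.span F S = ⊤)
    (hconn : ∀ w ∈ S, ∀ w' ∈ S, Relation.ReflTransGen
      (fun x y => x ∈ S ∧ y ∈ S ∧ ∃ c c' : F, c ≠ 0 ∧ c' ≠ 0 ∧ c • x + c' • y ∈ S) w w')
    (g : GL (Fin a × Fin b) F)
    (hg : ∀ w ∈ S, ∃ w' : Fin b → F, img g (std (a := a) w) ≤ std w') :
    g ∈ Cfsg.Geo.kroneckerSubgroup a b F := by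
  classical
  -- a starting vector
  have hne : S.Nonempty := by
    by_contra hemp
    rw [Set.not_nonempty_iff_eq_empty] at hemp
    rw [hemp, Submodule.span_empty] at hspan
    have hj : (Pi.single (⟨0, by omega⟩ : Fin b) (1 : F) : Fin b → F) ∈ (⊥ : Submodule F (Fin b → F)) := by
      rw [hspan]; exact Submodule.mem_top
    rw [Submodule.mem_bot] at hj
    have := congrFun hj ⟨0, by omega⟩
    simp at this
  obtain ⟨w₀, hw₀⟩ := hne
  have hw₀0 : w₀ ≠ 0 := fun h => h0 (h ▸ hw₀)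
  obtain ⟨w₀', hw₀'⟩ := hg w₀ hw₀
  obtain ⟨-, μ, hμ⟩ := rep_exists ha g hw₀0 hw₀'
  -- propagate along the connectivity relation
  have hall : ∀ w ∈ S, ∃ w'' : Fin b → F, Rep g μ w w'' := by
    have haux : ∀ w, Relation.ReflTransGen
        (fun x y => x ∈ S ∧ y ∈ S ∧ ∃ c c' : F, c ≠ 0 ∧ c' ≠ 0 ∧ c • x + c' • y ∈ S) w₀ w →
        ∃ w'' : Fin b → F, Rep g μ w w'' := by
      intro w hc
      induction hc with
      | refl => exact ⟨w₀', hμ⟩
      | @tail y z _ hyz ih =>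
        obtain ⟨hyS, hzS, c, c', hc, hc', hsum⟩ := hyz
        obtain ⟨y', hy'⟩ := ih
        have hy0 : y ≠ 0 := fun h => h0 (h ▸ hyS)
        have hz0 : z ≠ 0 := fun h => h0 (h ▸ hzS)
        exact Rep.step ha hy0 hz0 hy' c c' hc hc' (hg z hzS) (hg _ hsum)
    intro w hw
    exact haux w (hconn w₀ hw₀ w hw)
  choose β₀ hβ₀ using hall
  -- the `W`-side map
  obtain ⟨u0, hu0⟩ := exists_ne_zero (F := F) ha
  have hμinj : Function.Injective μ := hμ.injective hw₀0
  have hμu0 : μ u0 ≠ 0 := by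
    intro h
    exact hu0 (hμinj (by rw [h, map_zero]))
  obtain ⟨φ, hφ⟩ := exists_dot_eq_one hμu0
  let β : (Fin b → F) →ₗ[F] (Fin b → F) := (ctrL φ).comp ((act g).toLinearMap.comp (purR u0))
  have hβ : ∀ w (hw : w ∈ S), β w = β₀ w hw := by
    intro w hw
    show ctrL φ (act g (pur u0 w)) = β₀ w hw
    rw [hβ₀ w hw u0, ctrL_pur, hφ, one_smul]
  -- the set of good `w` is a submodule containing `S`
  let T : Submodule F (Fin b → F) :=
    { carrier := {w | ∀ u, act g (pur u w) = pur (μ u) (β w)}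
      add_mem' := by
        intro x y hx hy u
        rw [pur_add_right, map_add, hx u, hy u, map_add, pur_add_right]
      zero_mem' := by
        intro u
        rw [pur_zero_right, map_zero, map_zero, pur_zero_right]
      smul_mem' := by
        intro c x hx u
        rw [pur_smul_right, map_smul, hx u, map_smul, pur_smul_right] }
  have hST : S ⊆ T := by
    intro w hw u
    rw [hβ w hw]
    exact hβ₀ w hw u
  have hT : T = ⊤ := by
    apply top_le_iff.mp
    rw [← hspan]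
    exact Submodule.span_le.mpr hST
  have hgood : ∀ u w, (g : Matrix (Fin a × Fin b) (Fin a × Fin b) F) *ᵥ pur u w = pur (μ u) (β w) := by
    intro u w
    have hw : w ∈ T := by rw [hT]; exact Submodule.mem_top
    exact hw u
  have hval := eq_kron_of_pur (g : Matrix (Fin a × Fin b) (Fin a × Fin b) F) μ β hgood
  -- invertibility of the factors
  have hdet : (g : Matrix (Fin a × Fin b) (Fin a × Fin b) F).det ≠ 0 := by
    have := (Matrix.isUnit_iff_isUnit_det _).mp ⟨g, rfl⟩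
    exact this.ne_zero
  rw [hval, Matrix.det_kronecker, Fintype.card_fin, Fintype.card_fin] at hdet
  have hA : (LinearMap.toMatrix' μ).det ≠ 0 := by
    intro h
    rw [h, zero_pow (by omega), zero_mul] at hdet
    exact hdet rfl
  have hB : (LinearMap.toMatrix' β).det ≠ 0 := by
    intro h
    rw [h, zero_pow (by omega), mul_zero] at hdet
    exact hdet rfl
  rw [mem_kron_iff]
  exact ⟨Matrix.GeneralLinearGroup.mkOfDetNeZero _ hA, Matrix.GeneralLinearGroup.mkOfDetNeZero _ hB, hval⟩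


/-! ## the mirrored version: the family `u ⊗ W` -/

/-- the standard subspace `u ⊗ W` -/
def stdL (u : Fin a → F) : Submodule F (Fin a × Fin b → F) := LinearMap.range (purR (b := b) u)

theorem mem_stdL_iff (u : Fin a → F) (v : Fin a × Fin b → F) :
    v ∈ stdL (b := b) u ↔ ∃ w : Fin b → F, pur u w = v := by
  unfold stdL
  rw [LinearMap.mem_range]
  rfl

theorem pur_mem_stdL (u : Fin a → F) (w : Fin b → F) : pur u w ∈ stdL (b := b) u :=
  (mem_stdL_iff u _).mpr ⟨w, rfl⟩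

/-- swapping the two tensor factors -/
def swapGL (g : GL (Fin a × Fin b) F) : GL (Fin b × Fin a) F :=
  Cfsg.Geo.glReindex (Equiv.prodComm (Fin a) (Fin b)) g

theorem swapGL_val_apply (g : GL (Fin a × Fin b) F) (p q : Fin b × Fin a) :
    (swapGL g : Matrix (Fin b × Fin a) (Fin b × Fin a) F) p q =
      (g : Matrix (Fin a × Fin b) (Fin a × Fin b) F) p.swap q.swap := rfl

theorem act_swapGL (g : GL (Fin a × Fin b) F) (v : Fin b × Fin a → F) :
    act (swapGL g) v = fun p => act g (fun q => v q.swap) p.swap := by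
  funext p
  rw [act_apply, act_apply]
  simp only [Matrix.mulVec, dotProduct, swapGL_val_apply]
  exact Fintype.sum_equiv (Equiv.prodComm (Fin b) (Fin a)) _ _ (fun q => by simp)

theorem pur_swap (u : Fin a → F) (w : Fin b → F) :
    (fun q : Fin a × Fin b => pur (a := b) (b := a) w u q.swap) = pur u w := by
  funext ⟨i, j⟩
  simp [pur, mul_comm]

/-- **Fundamental lemma**, mirrored (family `u ⊗ W`, `u ∈ S`). -/
theorem mem_kron_of_maps_stdL (ha : 1 ≤ a) (hb : 1 ≤ b) (S : Set (Fin a → F))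
    (h0 : (0 : Fin a → F) ∉ S) (hspan : Submodule.span F S = ⊤)
    (hconn : ∀ u ∈ S, ∀ u' ∈ S, Relation.ReflTransGen
      (fun x y => x ∈ S ∧ y ∈ S ∧ ∃ c c' : F, c ≠ 0 ∧ c' ≠ 0 ∧ c • x + c' • y ∈ S) u u')
    (g : GL (Fin a × Fin b) F)
    (hg : ∀ u ∈ S, ∃ u' : Fin a → F, img g (stdL (b := b) u) ≤ stdL u') :
    g ∈ Cfsg.Geo.kroneckerSubgroup a b F := by
  have hg' : ∀ u ∈ S, ∃ u' : Fin a → F, img (swapGL g) (std (a := b) u) ≤ std u' := by
    intro u hu
    obtain ⟨u', hu'⟩ := hg u hu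
    refine ⟨u', ?_⟩
    intro v hv
    rw [mem_img_iff] at hv
    obtain ⟨w, hw⟩ := (mem_std_iff u _).mp hv
    -- v = act (swapGL g) (pur w u)
    have hv' : v = act (swapGL g) (pur w u) := by
      rw [hw, act_act_inv]
    have h1 : act g (pur u w) ∈ stdL (b := b) u' := by
      apply hu'
      rw [mem_img_iff, act_inv_act]
      exact pur_mem_stdL u w
    obtain ⟨w', hw'⟩ := (mem_stdL_iff u' _).mp h1
    rw [mem_std_iff]
    refine ⟨w', ?_⟩
    rw [hv', act_swapGL, pur_swap, ← hw']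
    funext ⟨j, i⟩
    simp [pur, mul_comm]
  have h := mem_kron_of_maps_std hb ha S h0 hspan hconn (swapGL g) hg'
  rw [mem_kron_iff] at h ⊢
  obtain ⟨B, A, hBA⟩ := h
  refine ⟨A, B, ?_⟩
  ext ⟨i, j⟩ ⟨i', j'⟩
  have := congrFun (congrFun hBA (j, i)) (j', i')
  rw [swapGL_val_apply] at this
  simp only [Prod.swap_prod_mk] at this
  rw [this]
  simp [Matrix.kroneckerMap_apply, mul_comm]


/-! ## convenience forms -/

/-- connectivity from "any two members are adjacent or have a common neighbour" -/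
theorem conn_of_two_step {n : ℕ} (S : Set (Fin n → F))
    (h : ∀ w ∈ S, ∀ w' ∈ S, (∃ c c' : F, c ≠ 0 ∧ c' ≠ 0 ∧ c • w + c' • w' ∈ S) ∨
      ∃ z ∈ S, (∃ c c' : F, c ≠ 0 ∧ c' ≠ 0 ∧ c • w + c' • z ∈ S) ∧
        (∃ c c' : F, c ≠ 0 ∧ c' ≠ 0 ∧ c • z + c' • w' ∈ S)) :
    ∀ w ∈ S, ∀ w' ∈ S, Relation.ReflTransGen
      (fun x y => x ∈ S ∧ y ∈ S ∧ ∃ c c' : F, c ≠ 0 ∧ c' ≠ 0 ∧ c • x + c' • y ∈ S) w w' := by
  intro w hw w' hw'
  rcases h w hw w' hw' with h1 | ⟨z, hz, h1, h2⟩
  · exact Relation.ReflTransGen.single ⟨hw, hw', h1⟩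
  · exact Relation.ReflTransGen.trans (Relation.ReflTransGen.single ⟨hw, hz, h1⟩)
      (Relation.ReflTransGen.single ⟨hz, hw', h2⟩)

theorem conn_all {n : ℕ} :
    ∀ w ∈ {x : Fin n → F | x ≠ 0}, ∀ w' ∈ {x : Fin n → F | x ≠ 0}, Relation.ReflTransGen
      (fun x y => x ∈ {x : Fin n → F | x ≠ 0} ∧ y ∈ {x : Fin n → F | x ≠ 0} ∧
        ∃ c c' : F, c ≠ 0 ∧ c' ≠ 0 ∧ c • x + c' • y ∈ {x : Fin n → F | x ≠ 0}) w w' := by
  intro w hw w' hw'
  by_cases h1 : w + w' = 0
  · by_cases h2 : (2 : F) = 0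
    · have : w' = w := by
        have e : w' = -w := eq_neg_of_add_eq_zero_right h1
        have e2 : (2 : F) • w = 0 := by rw [h2, zero_smul]
        rw [two_smul] at e2
        rw [e]
        exact (eq_neg_of_add_eq_zero_right e2).symm
      rw [this]
    · refine Relation.ReflTransGen.single ⟨hw, hw', 2, 1, h2, one_ne_zero, ?_⟩
      show (2 : F) • w + (1 : F) • w' ≠ 0
      have e : w' = -w := eq_neg_of_add_eq_zero_right h1
      rw [e, one_smul, two_smul, add_neg_cancel_right]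
      exact hw
  · refine Relation.ReflTransGen.single ⟨hw, hw', 1, 1, one_ne_zero, one_ne_zero, ?_⟩
    show (1 : F) • w + (1 : F) • w' ≠ 0
    rw [one_smul, one_smul]
    exact h1

theorem span_ne_zero_eq_top {n : ℕ} : Submodule.span F {x : Fin n → F | x ≠ 0} = ⊤ := by
  apply top_le_iff.mp
  intro x _
  by_cases hx : x = 0
  · rw [hx]; exact Submodule.zero_mem _
  · exact Submodule.subset_span hx

/-- `g` maps every `U ⊗ w` into some `U ⊗ w'` ⇒ `g` is a Kronecker product -/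
theorem mem_kron_of_maps_all (ha : 1 ≤ a) (hb : 1 ≤ b) (g : GL (Fin a × Fin b) F)
    (hg : ∀ w : Fin b → F, w ≠ 0 → ∃ w' : Fin b → F, img g (std (a := a) w) ≤ std w') :
    g ∈ Cfsg.Geo.kroneckerSubgroup a b F :=
  mem_kron_of_maps_std ha hb {x : Fin b → F | x ≠ 0} (fun h => h rfl) span_ne_zero_eq_top conn_all g
    (fun w hw => hg w hw)

/-- `g` maps every `u ⊗ W` into some `u' ⊗ W` ⇒ `g` is a Kronecker product -/
theorem mem_kron_of_maps_allL (ha : 1 ≤ a) (hb : 1 ≤ b) (g : GL (Fin a × Fin b) F)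
    (hg : ∀ u : Fin a → F, u ≠ 0 → ∃ u' : Fin a → F, img g (stdL (b := b) u) ≤ stdL u') :
    g ∈ Cfsg.Geo.kroneckerSubgroup a b F :=
  mem_kron_of_maps_stdL ha hb {x : Fin a → F | x ≠ 0} (fun h => h rfl) span_ne_zero_eq_top conn_all g
    (fun u hu => hg u hu)


/-! ## converse: Kronecker products permute the standard subspaces -/

theorem img_std_of_kron (g : GL (Fin a × Fin b) F) (A : GL (Fin a) F) (B : GL (Fin b) F)
    (h : (g : Matrix (Fin a × Fin b) (Fin a × Fin b) F) =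
      (A : Matrix (Fin a) (Fin a) F) ⊗ₖ (B : Matrix (Fin b) (Fin b) F)) (w : Fin b → F) :
    img g (std (a := a) w) = std ((B : Matrix (Fin b) (Fin b) F) *ᵥ w) := by
  ext v
  rw [mem_std_iff]
  constructor
  · intro hv
    rw [mem_img_iff] at hv
    obtain ⟨u, hu⟩ := (mem_std_iff w _).mp hv
    refine ⟨(A : Matrix (Fin a) (Fin a) F) *ᵥ u, ?_⟩
    rw [← kron_mulVec_pur, ← h, ← act_apply, hu, act_act_inv]
  · rintro ⟨u', rfl⟩
    rw [mem_img_iff, mem_std_iff]
    refine ⟨((A⁻¹ : GL (Fin a) F) : Matrix (Fin a) (Fin a) F) *ᵥ u', ?_⟩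
    apply (act g).injective
    rw [act_act_inv, act_apply, h, kron_mulVec_pur, Matrix.mulVec_mulVec, ← Units.val_mul,
      mul_inv_cancel, Units.val_one, Matrix.one_mulVec]

theorem img_stdL_of_kron (g : GL (Fin a × Fin b) F) (A : GL (Fin a) F) (B : GL (Fin b) F)
    (h : (g : Matrix (Fin a × Fin b) (Fin a × Fin b) F) =
      (A : Matrix (Fin a) (Fin a) F) ⊗ₖ (B : Matrix (Fin b) (Fin b) F)) (u : Fin a → F) :
    img g (stdL (b := b) u) = stdL ((A : Matrix (Fin a) (Fin a) F) *ᵥ u) := by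
  ext v
  rw [mem_stdL_iff]
  constructor
  · intro hv
    rw [mem_img_iff] at hv
    obtain ⟨w, hw⟩ := (mem_stdL_iff u _).mp hv
    refine ⟨(B : Matrix (Fin b) (Fin b) F) *ᵥ w, ?_⟩
    rw [← kron_mulVec_pur, ← h, ← act_apply, hw, act_act_inv]
  · rintro ⟨w', rfl⟩
    rw [mem_img_iff, mem_stdL_iff]
    refine ⟨((B⁻¹ : GL (Fin b) F) : Matrix (Fin b) (Fin b) F) *ᵥ w', ?_⟩
    apply (act g).injective
    rw [act_act_inv, act_apply, h, kron_mulVec_pur, Matrix.mulVec_mulVec, ← Units.val_mul,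
      mul_inv_cancel, Units.val_one, Matrix.one_mulVec]

end Cfsg.Agent.Lib.Helper27.TensFund
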