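import Mathlib

/-!
# S3117 farm-out FO-P (helper27): prime analysis for a reduced 2-group

`prime_analysis_of`: for a finite group `G` with `x^4 = 1`, central involutions, and the
conclusions of Lemma Q (FO-Q) and the order bound (FO-K) as hypotheses, an automorphism of odd
prime order `r` fixing all elements with `x^2 = 1` has `r = 3` or `r = 5`, and if `r = 5`
there is no such automorphism of order `3`.  Pure fibre counting for the squaring map.
-/

namespace Cfsg.Agent.Lib.Helper27.ThreeInvP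

open Finset
open scoped Pointwise

section Fin
variable {G : Type*} [Group G] [Fintype G] [DecidableEq G]

/-- Orbit counting on an invariant finset. -/
theorem card_modEq_card_filter_fixed (θ : MulAut G) {r : ℕ} (hr : r.Prime) (hθ : θ ^ r = 1)
    (S : Finset G) (hS : ∀ x ∈ S, θ x ∈ S) :
    S.card ≡ (S.filter (fun x => θ x = x)).card [MOD r] := by
  haveI : Fact r.Prime := ⟨hr⟩
  let f : Function.End S := fun x => ⟨θ x, hS x x.2⟩
  have hpow : ∀ k : ℕ, ∀ x : S, (((f ^ k) x : S) : G) = (θ ^ k) x := by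
    intro k
    induction k with
    | zero => intro x; rfl
    | succ k ih =>
      intro x
      rw [pow_succ', pow_succ']
      show θ ((f ^ k) x : S) = θ ((θ ^ k) x)
      rw [ih]
  have hf : f ^ r ^ 1 = 1 := by
    rw [pow_one]
    funext x
    apply Subtype.ext
    rw [hpow, hθ]
    rfl
  have key := Equiv.Perm.card_fixedPoints_modEq (p := r) (n := 1) hf
  rw [Fintype.card_coe] at key
  have h2 : Fintype.card (Function.fixedPoints f) = (S.filter (fun x => θ x = x)).card := by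
    rw [← Fintype.card_coe]
    refine Fintype.card_congr
      { toFun := fun x => ⟨x.1.1, ?_⟩
        invFun := fun y => ⟨⟨y.1, (Finset.mem_filter.1 y.2).1⟩, ?_⟩
        left_inv := fun x => rfl
        right_inv := fun y => rfl }
    · have hx : f x.1 = x.1 := x.2
      have : θ x.1.1 = x.1.1 := congrArg Subtype.val hx
      exact Finset.mem_filter.2 ⟨x.1.2, this⟩
    · show f _ = _
      apply Subtype.ext
      exact (Finset.mem_filter.1 y.2).2
  rw [h2] at key
  exact key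

/-- Sets stable under right multiplication by a subgroup have cardinality divisible by its order. -/
theorem card_dvd_of_mul_stable (U : Subgroup G) (S : Finset G)
    (hS : ∀ x ∈ S, ∀ z ∈ U, x * z ∈ S) : Nat.card U ∣ S.card := by
  have h1 : ((S : Set G) * (U : Set G)) = (S : Set G) := by
    ext y
    constructor
    · rintro ⟨x, hx, z, hz, rfl⟩
      exact hS x hx z hz
    · intro hy
      exact ⟨y, hy, 1, U.one_mem, mul_one y⟩
  have h2 := Subgroup.card_mul_eq_card_subgroup_mul_card_quotient U (S : Set G)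
  rw [h1] at h2
  have h3 : Nat.card (S : Set G) = S.card := by
    rw [Nat.card_coe_set_eq, Set.ncard_coe_finset]
  rw [h3] at h2
  exact ⟨_, h2⟩


/-- fibre of the squaring map -/
def fib (v : G) : Finset G := univ.filter (fun x => x ^ 2 = v)

theorem mem_fib {v x : G} : x ∈ fib v ↔ x ^ 2 = v := by
  simp [fib]

theorem mul_sq_of_central (hc : ∀ x y : G, y ^ 2 = 1 → x * y = y * x) (x z : G) (hz : z ^ 2 = 1) :
    (x * z) ^ 2 = x ^ 2 := by
  have hcomm : Commute x z := hc x z hz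
  rw [hcomm.mul_pow, hz, mul_one]

/-- The subgroup of elements squaring to one. -/
def sqOne (hc : ∀ x y : G, y ^ 2 = 1 → x * y = y * x) : Subgroup G where
  carrier := {x | x ^ 2 = 1}
  one_mem' := one_pow 2
  mul_mem' := by
    intro a b ha hb
    show (a * b) ^ 2 = 1
    rw [mul_sq_of_central hc a b hb]
    exact ha
  inv_mem' := by
    intro a ha
    show (a⁻¹) ^ 2 = 1
    rw [inv_pow]
    have : a ^ 2 = 1 := ha
    rw [this, inv_one]

theorem mem_sqOne (hc : ∀ x y : G, y ^ 2 = 1 → x * y = y * x) {x : G} :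
    x ∈ sqOne hc ↔ x ^ 2 = 1 := Iff.rfl

theorem card_sqOne (hc : ∀ x y : G, y ^ 2 = 1 → x * y = y * x) :
    Nat.card (sqOne hc) = (fib (1 : G)).card := by
  have h : ((sqOne hc : Subgroup G) : Set G) = ((fib (1 : G) : Finset G) : Set G) := by
    ext x
    rw [Finset.mem_coe, mem_fib]
    exact Iff.rfl
  show Nat.card ((sqOne hc : Subgroup G) : Set G) = _
  rw [h, Nat.card_coe_set_eq, Set.ncard_coe_finset]

/-- the fixed-point subgroup of an automorphism -/
def fixS (θ : MulAut G) : Subgroup G where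
  carrier := {x | θ x = x}
  one_mem' := map_one θ
  mul_mem' := by
    intro a b ha hb
    show θ (a * b) = a * b
    rw [map_mul]
    have h1 : θ a = a := ha
    have h2 : θ b = b := hb
    rw [h1, h2]
  inv_mem' := by
    intro a ha
    show θ a⁻¹ = a⁻¹
    have h1 : θ a = a := ha
    rw [map_inv, h1]

omit [Fintype G] [DecidableEq G] in
theorem mem_fixS {θ : MulAut G} {x : G} : x ∈ fixS θ ↔ θ x = x := Iff.rfl

/-- finset of fixed points -/
def fixF (θ : MulAut G) : Finset G := univ.filter (fun x => θ x = x)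

theorem mem_fixF {θ : MulAut G} {x : G} : x ∈ fixF θ ↔ θ x = x := by simp [fixF]

theorem card_fixS (θ : MulAut G) : Nat.card (fixS θ) = (fixF θ).card := by
  have h : ((fixS θ : Subgroup G) : Set G) = ((fixF θ : Finset G) : Set G) := by
    ext x
    rw [Finset.mem_coe, mem_fixF]
    exact Iff.rfl
  show Nat.card ((fixS θ : Subgroup G) : Set G) = _
  rw [h, Nat.card_coe_set_eq, Set.ncard_coe_finset]

/-- fixed part of a fibre -/
def ffib (θ : MulAut G) (v : G) : Finset G := (fib v).filter (fun x => θ x = x)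

theorem mem_ffib {θ : MulAut G} {v x : G} : x ∈ ffib θ v ↔ x ^ 2 = v ∧ θ x = x := by
  simp [ffib, mem_fib]

theorem ffib_subset (θ : MulAut G) (v : G) : ffib θ v ⊆ fib v := Finset.filter_subset _ _

theorem fib_modEq (θ : MulAut G) (hθU : ∀ x : G, x ^ 2 = 1 → θ x = x) {r : ℕ} (hr : r.Prime)
    (hθr : θ ^ r = 1) (v : G) (hv : v ^ 2 = 1) :
    (fib v).card ≡ (ffib θ v).card [MOD r] := by
  apply card_modEq_card_filter_fixed θ hr hθr
  intro x hx
  rw [mem_fib] at hx ⊢
  rw [← map_pow, hx, hθU v hv]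

theorem card_dvd_fib (hc : ∀ x y : G, y ^ 2 = 1 → x * y = y * x) (v : G) :
    (fib (1 : G)).card ∣ (fib v).card := by
  rw [← card_sqOne hc]
  apply card_dvd_of_mul_stable
  intro x hx z hz
  rw [mem_fib] at hx ⊢
  rw [mul_sq_of_central hc x z hz, hx]

theorem card_dvd_ffib (hc : ∀ x y : G, y ^ 2 = 1 → x * y = y * x) (θ : MulAut G)
    (hθU : ∀ x : G, x ^ 2 = 1 → θ x = x) (v : G) :
    (fib (1 : G)).card ∣ (ffib θ v).card := by
  rw [← card_sqOne hc]
  apply card_dvd_of_mul_stable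
  intro x hx z hz
  rw [mem_ffib] at hx ⊢
  refine ⟨?_, ?_⟩
  · rw [mul_sq_of_central hc x z hz, hx.1]
  · rw [map_mul, hx.2, hθU z hz]

omit [Fintype G] [DecidableEq G] in
theorem sq_sq_eq_one (h4 : ∀ x : G, x ^ 4 = 1) (x : G) : (x ^ 2) ^ 2 = 1 := by
  rw [← pow_mul]; exact h4 x

theorem card_eq_sum_fib (h4 : ∀ x : G, x ^ 4 = 1) :
    Fintype.card G = ∑ v ∈ fib (1 : G), (fib v).card := by
  rw [← Finset.card_univ]
  have := Finset.card_eq_sum_card_fiberwise (f := fun x : G => x ^ 2) (s := univ)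
    (t := fib (1 : G)) (by
      intro x _
      simp only [Finset.mem_coe, mem_fib]
      exact sq_sq_eq_one h4 x)
  rw [this]
  rfl

theorem card_fixF_eq_sum (h4 : ∀ x : G, x ^ 4 = 1) (θ : MulAut G) :
    (fixF θ).card = ∑ v ∈ fib (1 : G), (ffib θ v).card := by
  have := Finset.card_eq_sum_card_fiberwise (f := fun x : G => x ^ 2) (s := fixF θ)
    (t := fib (1 : G)) (by
      intro x _
      simp only [Finset.mem_coe, mem_fib]
      exact sq_sq_eq_one h4 x)
  rw [this]
  apply Finset.sum_congr rfl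
  intro v _
  congr 1
  ext x
  simp only [Finset.mem_filter, mem_fixF, mem_ffib]
  tauto

theorem ffib_one (θ : MulAut G) (hθU : ∀ x : G, x ^ 2 = 1 → θ x = x) :
    ffib θ 1 = fib (1 : G) := by
  ext x
  rw [mem_ffib, mem_fib]
  constructor
  · exact fun h => h.1
  · exact fun h => ⟨h, hθU x h⟩

theorem card_modEq_fixF (θ : MulAut G) {r : ℕ} (hr : r.Prime) (hθr : θ ^ r = 1) :
    Fintype.card G ≡ (fixF θ).card [MOD r] := by
  rw [← Finset.card_univ]
  exact card_modEq_card_filter_fixed θ hr hθr univ (fun x _ => Finset.mem_univ _)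

theorem card_fixF_dvd (θ : MulAut G) : (fixF θ).card ∣ Fintype.card G := by
  rw [← card_fixS, ← Nat.card_eq_fintype_card]
  exact Subgroup.card_subgroup_dvd_card _

theorem eq_one_of_card_fixF (θ : MulAut G) (h : (fixF θ).card = Fintype.card G) : θ = 1 := by
  have : fixF θ = univ := by
    apply Finset.eq_univ_of_card
    exact h
  ext x
  have hx : x ∈ fixF θ := by rw [this]; exact Finset.mem_univ _
  rw [mem_fixF] at hx
  rw [hx]
  rfl

theorem card_fib_one_dvd_fixF (hc : ∀ x y : G, y ^ 2 = 1 → x * y = y * x) (θ : MulAut G)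
    (hθU : ∀ x : G, x ^ 2 = 1 → θ x = x) : (fib (1 : G)).card ∣ (fixF θ).card := by
  rw [← card_sqOne hc, ← card_fixS]
  apply Subgroup.card_dvd_of_le
  intro x hx
  exact hθU x hx


theorem arith_cases {g c u r : ℕ} (hr : r.Prime) (hr2 : r ≠ 2)
    (hg2 : ∃ n, g = 2 ^ n) (hcg : c ∣ g) (hne : c ≠ g) (huc : u ∣ c) (hmod : g ≡ c [MOD r])
    (hK : (u = 1 ∧ g = 1) ∨ (u = 2 ∧ g ≤ 8) ∨ (u = 4 ∧ g ≤ 64)) :
    r = 3 ∨ (r = 5 ∧ u = 4 ∧ g = 64 ∧ c = 4) ∨
      (r = 7 ∧ u = 4 ∧ ((g = 32 ∧ c = 4) ∨ (g = 64 ∧ c = 8))) := by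
  obtain ⟨n, rfl⟩ := hg2
  obtain ⟨m, hmn, rfl⟩ := (Nat.dvd_prime_pow Nat.prime_two).1 hcg
  have hdvd : r ∣ 2 ^ n - 2 ^ m :=
    (Nat.modEq_iff_dvd' (Nat.pow_le_pow_right (by norm_num) hmn)).1 hmod.symm
  have hn : n ≤ 6 := by
    by_contra hcon
    have : 2 ^ 7 ≤ 2 ^ n := Nat.pow_le_pow_right (by norm_num) (by omega)
    rcases hK with ⟨_, h⟩ | ⟨_, h⟩ | ⟨_, h⟩ <;> omega
  have hmn' : m < n := lt_of_le_of_ne hmn (by rintro rfl; exact hne rfl)
  have h2 := hr.two_le
  have hpos : 0 < 2 ^ n - 2 ^ m := Nat.sub_pos_of_lt (Nat.pow_lt_pow_right (by norm_num) hmn')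
  have hle := Nat.le_of_dvd hpos hdvd
  clear hmod hcg hne hmn hpos
  rcases hK with ⟨rfl, hg⟩ | ⟨rfl, hg⟩ | ⟨rfl, hg⟩ <;>
  interval_cases n <;> interval_cases m <;>
    first
    | (exfalso; omega)
    | (interval_cases r <;> first | omega | (exfalso; norm_num at hr; done))

/-- Hypothesis form of Lemma Q (FO-Q of the S3117 farm-out). -/
def LemmaQHyp (G : Type*) [Group G] : Prop :=
  ∀ (Y : Subgroup G) (N : Set G) (M : Subgroup G), (∀ m ∈ M, m ^ 2 = 1) →
    2 * Nat.card M = Nat.card {x : G // x ^ 2 = 1} → (∀ y ∈ Y, y ∉ N → y ^ 2 ∉ M) →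
    Nat.card Y ≤ 4 * N.ncard

omit [Fintype G] [DecidableEq G] in
theorem mem_zpowers_of_sq {v m : G} (hv : v ^ 2 = 1) (hm : m ∈ Subgroup.zpowers v) :
    m = 1 ∨ m = v := by
  obtain ⟨k, rfl⟩ := Subgroup.mem_zpowers_iff.1 hm
  have hv2 : v ^ (2 : ℤ) = 1 := by
    have : v ^ ((2 : ℕ) : ℤ) = 1 := by rw [zpow_natCast]; exact hv
    exact_mod_cast this
  rcases Int.even_or_odd' k with ⟨j, rfl | rfl⟩
  · left
    rw [zpow_mul, hv2, one_zpow]
  · right
    rw [zpow_add, zpow_mul, hv2, one_zpow, one_mul, zpow_one]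

theorem card_subtype_sq_one : Nat.card {x : G // x ^ 2 = 1} = (fib (1 : G)).card := by
  rw [Nat.card_eq_fintype_card, Fintype.card_subtype]
  rfl

theorem card_le_of_Q (hQ : LemmaQHyp G) (hu4 : (fib (1 : G)).card = 4) (v : G) (hv : v ^ 2 = 1)
    (hv1 : v ≠ 1) (N : Finset G) (hN : ∀ y : G, y ∉ N → y ^ 2 ≠ 1 ∧ y ^ 2 ≠ v) :
    Fintype.card G ≤ 4 * N.card := by
  have hM : ∀ m ∈ Subgroup.zpowers v, m ^ 2 = 1 := by
    intro m hm
    rcases mem_zpowers_of_sq hv hm with rfl | rfl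
    · exact one_pow 2
    · exact hv
  have hord : orderOf v = 2 := orderOf_eq_prime hv hv1
  have hidx : 2 * Nat.card (Subgroup.zpowers v) = Nat.card {x : G // x ^ 2 = 1} := by
    rw [Nat.card_zpowers, hord, card_subtype_sq_one, hu4]
  have key := hQ ⊤ (N : Set G) (Subgroup.zpowers v) hM hidx (by
    intro y _ hy hmem
    have hyN : y ∉ N := fun h => hy (Finset.mem_coe.2 h)
    obtain ⟨h1, h2⟩ := hN y hyN
    rcases mem_zpowers_of_sq hv hmem with h | h
    · exact h1 h
    · exact h2 h)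
  rw [Set.ncard_coe_finset] at key
  have htop : Nat.card (⊤ : Subgroup G) = Fintype.card G := by
    rw [Subgroup.card_top, Nat.card_eq_fintype_card]
  rw [htop] at key
  exact key

theorem fib_nonempty (hQ : LemmaQHyp G) (hu4 : (fib (1 : G)).card = 4)
    (hg : 32 ≤ Fintype.card G) (v : G) (hv : v ^ 2 = 1) (hv1 : v ≠ 1) : 0 < (fib v).card := by
  by_contra hcon
  have h0 : (fib v).card = 0 := by omega
  have hempty : fib v = ∅ := Finset.card_eq_zero.1 h0
  have := card_le_of_Q hQ hu4 v hv hv1 (fib (1 : G)) (by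
    intro y hy
    refine ⟨fun h => hy (mem_fib.2 h), fun h => ?_⟩
    have : y ∈ fib v := mem_fib.2 h
    rw [hempty] at this
    exact absurd this (Finset.notMem_empty y))
  omega

theorem sum_split (F : G → ℕ) :
    ∑ v ∈ fib (1 : G), F v = F 1 + ∑ v ∈ (fib (1 : G)).erase 1, F v :=
  (Finset.add_sum_erase _ _ (mem_fib.2 (one_pow 2))).symm

theorem mem_E {v : G} (hv : v ∈ (fib (1 : G)).erase 1) : v ^ 2 = 1 ∧ v ≠ 1 := by
  rw [Finset.mem_erase, mem_fib] at hv
  exact ⟨hv.2, hv.1⟩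


/-- Facts about the fibre sizes for an automorphism of prime order fixing the involutions. -/
theorem fibre_facts (h4 : ∀ x : G, x ^ 4 = 1) (hc : ∀ x y : G, y ^ 2 = 1 → x * y = y * x)
    (θ : MulAut G) (hθU : ∀ x : G, x ^ 2 = 1 → θ x = x) {r : ℕ} (hr : r.Prime)
    (hθr : θ ^ r = 1) :
    Fintype.card G = (fib (1 : G)).card + ∑ v ∈ (fib (1 : G)).erase 1, (fib v).card ∧
    (fixF θ).card = (fib (1 : G)).card + ∑ v ∈ (fib (1 : G)).erase 1, (ffib θ v).card ∧
    (∀ v ∈ (fib (1 : G)).erase 1, (fib v).card ≡ (ffib θ v).card [MOD r]) ∧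
    (∀ v : G, (fib (1 : G)).card ∣ (fib v).card) ∧
    (∀ v : G, (fib (1 : G)).card ∣ (ffib θ v).card) ∧
    (∀ v : G, (ffib θ v).card ≤ (fib v).card) := by
  refine ⟨?_, ?_, ?_, ?_, ?_, ?_⟩
  · rw [card_eq_sum_fib h4, sum_split]
  · rw [card_fixF_eq_sum h4, sum_split, ffib_one θ hθU]
  · intro v hv
    exact fib_modEq θ hθU hr hθr v (mem_E hv).1
  · exact card_dvd_fib hc
  · exact card_dvd_ffib hc θ hθU
  · intro v
    exact Finset.card_le_card (ffib_subset θ v)

theorem prime_analysis_fin (hQ : LemmaQHyp G)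
    (hK : ((fib (1 : G)).card = 1 ∧ Fintype.card G = 1) ∨
      ((fib (1 : G)).card = 2 ∧ Fintype.card G ≤ 8) ∨
      ((fib (1 : G)).card = 4 ∧ Fintype.card G ≤ 64))
    (h4 : ∀ x : G, x ^ 4 = 1) (hc : ∀ x y : G, y ^ 2 = 1 → x * y = y * x)
    (φ : MulAut G) (hφ : ∀ x : G, x ^ 2 = 1 → φ x = x) (r : ℕ) (hr : r.Prime) (hr2 : r ≠ 2)
    (hord : orderOf φ = r) :
    (r = 3 ∨ r = 5) ∧
    (r = 5 → ∀ ψ : MulAut G, (∀ x : G, x ^ 2 = 1 → ψ x = x) → orderOf ψ ≠ 3) := by
  have hφr : φ ^ r = 1 := by rw [← hord]; exact pow_orderOf_eq_one φ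
  have hφ1 : φ ≠ 1 := by
    rintro rfl
    rw [orderOf_one] at hord
    exact hr.ne_one hord.symm
  have hP : IsPGroup 2 G := fun x => ⟨2, by simpa using h4 x⟩
  have hg2 : ∃ n, Fintype.card G = 2 ^ n := by
    obtain ⟨n, hn⟩ := hP.exists_card_eq
    exact ⟨n, by rw [← hn, Nat.card_eq_fintype_card]⟩
  have hcases := arith_cases hr hr2 hg2 (card_fixF_dvd φ)
    (fun h => hφ1 (eq_one_of_card_fixF φ h)) (card_fib_one_dvd_fixF hc φ hφ)
    (card_modEq_fixF φ hr hφr) hK
  obtain ⟨hG, hF, hmod, hda, hdf, hle⟩ := fibre_facts h4 hc φ hφ hr hφr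
  rcases hcases with h3 | ⟨h5, hu, hg, hcφ⟩ | ⟨h7, hu, hgc⟩
  · refine ⟨Or.inl h3, ?_⟩
    intro h5
    omega
  · refine ⟨Or.inr h5, ?_⟩
    intro _ ψ hψ hψ3
    subst h5
    have hE : ((fib (1 : G)).erase 1).card = 3 := by
      rw [Finset.card_erase_of_mem (mem_fib.2 (one_pow 2)), hu]
    -- fixed parts of nontrivial fibres are empty
    have hsumf : ∑ v ∈ (fib (1 : G)).erase 1, (ffib φ v).card = 0 := by omega
    have hf0 : ∀ v ∈ (fib (1 : G)).erase 1, (ffib φ v).card = 0 :=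
      Finset.sum_eq_zero_iff.1 hsumf
    have ha20 : ∀ v ∈ (fib (1 : G)).erase 1, 20 ≤ (fib v).card := by
      intro v hv
      have h1 := hmod v hv
      rw [hf0 v hv] at h1
      have h2 := hda v
      rw [hu] at h2
      have h3 := fib_nonempty hQ hu (by omega) v (mem_E hv).1 (mem_E hv).2
      unfold Nat.ModEq at h1
      omega
    have hsuma : ∑ v ∈ (fib (1 : G)).erase 1, (fib v).card = 60 := by omega
    have ha_eq : ∀ v ∈ (fib (1 : G)).erase 1, 20 = (fib v).card := by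
      apply (Finset.sum_eq_sum_iff_of_le ha20).1
      rw [hsuma, Finset.sum_const, hE]
      rfl
    -- now ψ
    have hψr : ψ ^ 3 = 1 := by rw [← hψ3]; exact pow_orderOf_eq_one ψ
    obtain ⟨-, hF', hmod', -, hdf', -⟩ := fibre_facts h4 hc ψ hψ Nat.prime_three hψr
    have hf8 : ∀ v ∈ (fib (1 : G)).erase 1, 8 ≤ (ffib ψ v).card := by
      intro v hv
      have h1 := hmod' v hv
      rw [← ha_eq v hv] at h1
      have h2 := hdf' v
      rw [hu] at h2
      unfold Nat.ModEq at h1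
      omega
    have hsum8 := Finset.card_nsmul_le_sum _ _ 8 hf8
    rw [hE, smul_eq_mul] at hsum8
    have hc28 : 28 ≤ (fixF ψ).card := by omega
    have hdvd := card_fixF_dvd ψ
    have hm3 := card_modEq_fixF ψ Nat.prime_three hψr
    rw [hg] at hdvd hm3
    obtain ⟨m, hm, hcm⟩ := (Nat.dvd_prime_pow Nat.prime_two).1 (show (fixF ψ).card ∣ 2 ^ 6 from hdvd)
    have hc64 : (fixF ψ).card = 64 := by
      unfold Nat.ModEq at hm3
      rw [hcm] at hc28 hm3 ⊢
      interval_cases m <;> omega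
    have : ψ = 1 := eq_one_of_card_fixF ψ (by rw [hc64, hg])
    rw [this, orderOf_one] at hψ3
    omega
  · exfalso
    subst h7
    have hE : ((fib (1 : G)).erase 1).card = 3 := by
      rw [Finset.card_erase_of_mem (mem_fib.2 (one_pow 2)), hu]
    rcases hgc with ⟨hg, hcφ⟩ | ⟨hg, hcφ⟩
    · have hsumf : ∑ v ∈ (fib (1 : G)).erase 1, (ffib φ v).card = 0 := by omega
      have hf0 : ∀ v ∈ (fib (1 : G)).erase 1, (ffib φ v).card = 0 :=
        Finset.sum_eq_zero_iff.1 hsumf
      have ha28 : ∀ v ∈ (fib (1 : G)).erase 1, 28 ≤ (fib v).card := by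
        intro v hv
        have h1 := hmod v hv
        rw [hf0 v hv] at h1
        have h2 := hda v
        rw [hu] at h2
        have h3 := fib_nonempty hQ hu (by omega) v (mem_E hv).1 (mem_E hv).2
        unfold Nat.ModEq at h1
        omega
      have hsum := Finset.card_nsmul_le_sum _ _ 28 ha28
      rw [hE, smul_eq_mul] at hsum
      omega
    · have hsumf : ∑ v ∈ (fib (1 : G)).erase 1, (ffib φ v).card = 4 := by omega
      obtain ⟨v0, hv0, hv0ne⟩ : ∃ v0 ∈ (fib (1 : G)).erase 1, (ffib φ v0).card ≠ 0 := by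
        by_contra hcon
        push Not at hcon
        rw [Finset.sum_eq_zero hcon] at hsumf
        omega
      have hfv0 : 4 ≤ (ffib φ v0).card := by
        have h2 := hdf v0
        rw [hu] at h2
        omega
      have hsplitf : (ffib φ v0).card + ∑ v ∈ ((fib (1 : G)).erase 1).erase v0, (ffib φ v).card
          = ∑ v ∈ (fib (1 : G)).erase 1, (ffib φ v).card :=
        Finset.add_sum_erase ((fib (1 : G)).erase 1) (fun v => (ffib φ v).card) hv0
      have hsplita : (fib v0).card + ∑ v ∈ ((fib (1 : G)).erase 1).erase v0, (fib v).card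
          = ∑ v ∈ (fib (1 : G)).erase 1, (fib v).card :=
        Finset.add_sum_erase ((fib (1 : G)).erase 1) (fun v => (fib v).card) hv0
      have hE' : (((fib (1 : G)).erase 1).erase v0).card = 2 := by
        rw [Finset.card_erase_of_mem hv0, hE]
      have hsumf' : ∑ v ∈ ((fib (1 : G)).erase 1).erase v0, (ffib φ v).card = 0 := by omega
      have hf0 : ∀ v ∈ ((fib (1 : G)).erase 1).erase v0, (ffib φ v).card = 0 :=
        Finset.sum_eq_zero_iff.1 hsumf'
      have ha28 : ∀ v ∈ ((fib (1 : G)).erase 1).erase v0, 28 ≤ (fib v).card := by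
        intro v hv
        have hvE : v ∈ (fib (1 : G)).erase 1 := Finset.mem_of_mem_erase hv
        have h1 := hmod v hvE
        rw [hf0 v hv] at h1
        have h2 := hda v
        rw [hu] at h2
        have h3 := fib_nonempty hQ hu (by omega) v (mem_E hvE).1 (mem_E hvE).2
        unfold Nat.ModEq at h1
        omega
      have hsum := Finset.card_nsmul_le_sum _ _ 28 ha28
      rw [hE', smul_eq_mul] at hsum
      have hle0 := hle v0
      have haeq : (fib v0).card ≤ (ffib φ v0).card := by omega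
      have hsame : ffib φ v0 = fib v0 := Finset.eq_of_subset_of_card_le (ffib_subset φ v0) haeq
      have hfin := card_le_of_Q hQ hu v0 (mem_E hv0).1 (mem_E hv0).2 (fixF φ) (by
        intro y hy
        rw [mem_fixF] at hy
        refine ⟨fun h => hy (hφ y h), fun h => ?_⟩
        have hy' : y ∈ fib v0 := mem_fib.2 h
        rw [← hsame, mem_ffib] at hy'
        exact hy hy'.2)
      omega

end Fin

/-- `prime_analysis` of the S3117 farm-out (FO-P), with Lemma Q (FO-Q) and the order bound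
(FO-K) as explicit hypotheses. -/
theorem prime_analysis_of {G : Type*} [Group G] [Finite G]
    (hQ : ∀ (Y : Subgroup G) (N : Set G) (M : Subgroup G), (∀ m ∈ M, m ^ 2 = 1) →
      2 * Nat.card M = Nat.card {x : G // x ^ 2 = 1} → (∀ y ∈ Y, y ∉ N → y ^ 2 ∉ M) →
      Nat.card Y ≤ 4 * N.ncard)
    (hK : (Nat.card {x : G // x ^ 2 = 1} = 1 ∧ Nat.card G = 1) ∨
      (Nat.card {x : G // x ^ 2 = 1} = 2 ∧ Nat.card G ≤ 8) ∨
      (Nat.card {x : G // x ^ 2 = 1} = 4 ∧ Nat.card G ≤ 64))
    (h4 : ∀ x : G, x ^ 4 = 1) (hc : ∀ x y : G, y ^ 2 = 1 → x * y = y * x)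
    (φ : MulAut G) (hφ : ∀ x : G, x ^ 2 = 1 → φ x = x) (r : ℕ) (hr : r.Prime) (hr2 : r ≠ 2)
    (hord : orderOf φ = r) :
    (r = 3 ∨ r = 5) ∧
    (r = 5 → ∀ ψ : MulAut G, (∀ x : G, x ^ 2 = 1 → ψ x = x) → orderOf ψ ≠ 3) := by
  classical
  haveI := Fintype.ofFinite G
  apply prime_analysis_fin hQ ?_ h4 hc φ hφ r hr hr2 hord
  rw [← card_subtype_sq_one, ← Nat.card_eq_fintype_card]
  exact hK

end Cfsg.Agent.Lib.Helper27.ThreeInvP
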