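import Mathlib
import Cfsg.Agent.Lib.Helper27.ThreeInvP
import Cfsg.Agent.Lib.Helper2.ThreeInvQ
import Cfsg.Agent.Lib.Helper2.ThreeInvK

/-!
# S3117 farm-out FO-P (helper27): hypothesis-free `prime_analysis`

Combines `ThreeInvP.prime_analysis_of` with helper2's `lemmaQ` (FO-Q) and
`card_le_of_reduced` (FO-K).
-/

namespace Cfsg.Agent.Lib.Helper27.ThreeInvP

/-- (BP) prime analysis, exact signature of the S3117 skeleton. -/
theorem prime_analysis {G : Type*} [Group G] [Finite G]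
    (h3 : Nat.card {x : G // orderOf x = 2} ≤ 3) (h4 : ∀ x : G, x ^ 4 = 1)
    (hc : ∀ x y : G, y ^ 2 = 1 → x * y = y * x) (hk : ∀ x y : G, (x * y * x⁻¹ * y⁻¹) ^ 2 = 1)
    (φ : MulAut G) (hφ : ∀ x : G, x ^ 2 = 1 → φ x = x) (r : ℕ) (hr : r.Prime) (hr2 : r ≠ 2)
    (hord : orderOf φ = r) :
    (r = 3 ∨ r = 5) ∧
    (r = 5 → ∀ ψ : MulAut G, (∀ x : G, x ^ 2 = 1 → ψ x = x) → orderOf ψ ≠ 3) :=
  prime_analysis_of
    (fun Y N M hM hMidx hYN => Cfsg.Agent.Lib.Helper2.ThreeInv.lemmaQ h4 hc hk Y N M hM hMidx hYN)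
    (Cfsg.Agent.Lib.Helper2.ThreeInv.card_le_of_reduced h3 h4 hc hk)
    h4 hc φ hφ r hr hr2 hord

end Cfsg.Agent.Lib.Helper27.ThreeInvP
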