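import Mathlib

set_option autoImplicit false

namespace Cfsg.Agent.Lib.Helper27

open scoped BigOperators

section
variable {W : Type*} [CommGroup W] {A : Type*} [Group A] (ρ : A →* MulAut W)

/-- fixed points of a subgroup `B` of `A` acting on `W` through `ρ` -/
def fixedOf (B : Subgroup A) : Subgroup W where
  carrier := {w | ∀ a ∈ B, ρ a w = w}
  one_mem' := fun a _ => map_one (ρ a)
  mul_mem' := fun {x y} hx hy a ha => by rw [map_mul, hx a ha, hy a ha]
  inv_mem' := fun {x} hx a ha => by rw [map_inv, hx a ha]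

theorem mem_fixedOf_iff (B : Subgroup A) (w : W) : w ∈ fixedOf ρ B ↔ ∀ a ∈ B, ρ a w = w := Iff.rfl

theorem fixedOf_anti {B C : Subgroup A} (h : B ≤ C) : fixedOf ρ C ≤ fixedOf ρ B :=
  fun _ hw a ha => hw a (h ha)

variable [Finite A] (P : Subgroup A)

/-- the transfer map -/
noncomputable def transferHom : W →* W :=
  letI := Fintype.ofFinite (A ⧸ P)
  ∏ q : A ⧸ P, ((ρ q.out : MulAut W) : W ≃* W).toMonoidHom

theorem transferHom_apply (w : W) :
    transferHom ρ P w = (letI := Fintype.ofFinite (A ⧸ P); ∏ q : A ⧸ P, (ρ q.out) w) := by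
  letI := Fintype.ofFinite (A ⧸ P)
  unfold transferHom
  rw [MonoidHom.finsetProd_apply]
  rfl

theorem rho_eq_of_coset {w : W} (hw : w ∈ fixedOf ρ P) {a b : A} (hab : a⁻¹ * b ∈ P) :
    ρ b w = ρ a w := by
  have : b = a * (a⁻¹ * b) := by group
  rw [this, map_mul, MulAut.mul_apply, hw _ hab]

theorem transferHom_mem_fixed {w : W} (hw : w ∈ fixedOf ρ P) : transferHom ρ P w ∈ fixedOf ρ ⊤ := by
  letI := Fintype.ofFinite (A ⧸ P)
  intro b _
  rw [transferHom_apply, map_prod]
  have h1 : ∀ q : A ⧸ P, (ρ b) ((ρ q.out) w) = (ρ ((b • q).out)) w := by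
    intro q
    rw [← MulAut.mul_apply, ← map_mul]
    apply rho_eq_of_coset ρ P hw
    rw [← QuotientGroup.eq, QuotientGroup.out_eq']
    have : ((b * q.out : A) : A ⧸ P) = b • ((q.out : A) : A ⧸ P) := rfl
    rw [this, QuotientGroup.out_eq']
  rw [Finset.prod_congr rfl (fun q _ => h1 q)]
  exact Fintype.prod_equiv (MulAction.toPerm b) _ _ (fun q => rfl)

theorem transferHom_of_fixed {w : W} (hw : w ∈ fixedOf ρ ⊤) : transferHom ρ P w = w ^ P.index := by
  letI := Fintype.ofFinite (A ⧸ P)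
  rw [transferHom_apply]
  rw [Finset.prod_congr rfl (fun q _ => hw q.out (Subgroup.mem_top _))]
  rw [Finset.prod_const, Finset.card_univ, Subgroup.index_eq_card, Nat.card_eq_fintype_card]

/-- `C_W(A)` is a direct factor of `C_W(P)` when the index of `P` is prime to the order of `W`. -/
theorem exists_complement_fixed [Finite W] (hcop : Nat.Coprime P.index (Nat.card W)) :
    ∃ K : Subgroup W, K ≤ fixedOf ρ P ∧ fixedOf ρ ⊤ ⊓ K = ⊥ ∧ fixedOf ρ ⊤ ⊔ K = fixedOf ρ P := by
  refine ⟨fixedOf ρ P ⊓ (transferHom ρ P).ker, inf_le_left, ?_, ?_⟩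
  · rw [eq_bot_iff]
    rintro w ⟨hw1, -, hw2'⟩
    have hw2 : transferHom ρ P w = 1 := MonoidHom.mem_ker.mp hw2'
    rw [transferHom_of_fixed ρ P hw1] at hw2
    have h3 : orderOf w ∣ P.index := orderOf_dvd_of_pow_eq_one hw2
    have h4 : orderOf w ∣ Nat.card W := orderOf_dvd_natCard w
    have h5 : orderOf w = 1 := Nat.eq_one_of_dvd_coprimes hcop h3 h4
    rw [Subgroup.mem_bot]
    exact orderOf_eq_one_iff.mp h5
  · apply le_antisymm
    · exact sup_le (fixedOf_anti ρ le_top) inf_le_left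
    · intro w hw
      have hτ : transferHom ρ P w ∈ fixedOf ρ ⊤ := transferHom_mem_fixed ρ P hw
      have hcop' : Nat.Coprime (Nat.card (fixedOf ρ (⊤ : Subgroup A))) P.index :=
        (Nat.Coprime.coprime_dvd_right (Subgroup.card_subgroup_dvd_card _) hcop).symm
      obtain ⟨u, hu⟩ := (powCoprime hcop').surjective ⟨transferHom ρ P w, hτ⟩
      have hu' : (u : W) ^ P.index = transferHom ρ P w := by
        have := congrArg Subtype.val hu
        simpa using this
      have h1 : (u : W)⁻¹ * w ∈ fixedOf ρ P ⊓ (transferHom ρ P).ker := by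
        refine ⟨Subgroup.mul_mem _ (Subgroup.inv_mem _ (fixedOf_anti ρ le_top u.2)) hw, ?_⟩
        apply MonoidHom.mem_ker.mpr
        rw [map_mul, map_inv, transferHom_of_fixed ρ P u.2, hu']
        simp
      have h2 : w = (u : W) * ((u : W)⁻¹ * w) := by simp
      rw [h2]
      exact Subgroup.mul_mem _ (Subgroup.mem_sup_left u.2) (Subgroup.mem_sup_right h1)

end

end Cfsg.Agent.Lib.Helper27
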