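import Cfsg.Agent.Lib.Helper8.ChevTa4
import Cfsg.Agent.Lib.Helper8.ChevAu23

/-!
# S2130 FO-N (for helper8): in type `E₆` the class elements `x_{-[3]}(1)` and `x_{-[2,4]}(1)`
do not commute (over any field): apply both products to the basis vector `e_{p₂+p₃}` (index 43)
and compare the coordinate at `e_{-p₃}` (index 32).
-/

set_option autoImplicit false

namespace Cfsg.Agent.Lib.Helper27.TwE6NotComm

open Cfsg.Lie Matrix Cfsg.Agent.Lib.Helper8.Chev

theorem ce_34_43 : chevE6.chainEntry 34 43 = [] := by decide +kernel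
theorem ce_29_43 : chevE6.chainEntry 29 43 = [(39, -1)] := by decide +kernel
theorem ce_32_43 : chevE6.chainEntry 32 43 = [(42, 1)] := by decide +kernel
theorem ce_34_42 : chevE6.chainEntry 34 42 = [] := by decide +kernel
theorem neg_32 : chevE6.neg 32 = 39 := by decide +kernel
theorem neg_29 : chevE6.neg 29 = 42 := by decide +kernel
theorem neg_34 : chevE6.neg 34 = 37 := by decide +kernel
theorem nroots_e6 : chevE6.nroots = 72 := by decide +kernel
theorem negsimple_3 : chevE6.neg (chevE6.simple 3) = 32 := by decide +kernel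
theorem negsimple_2 : chevE6.neg (chevE6.simple 2) = 29 := by decide +kernel
theorem negsimple_4 : chevE6.neg (chevE6.simple 4) = 34 := by decide +kernel

variable {F : Type*} [Field F]

theorem cv_34_43 (t : F) : chainVec chevE6 F 34 43 t = 0 := by
  unfold chainVec; rw [ce_34_43]; rfl

theorem cv_34_42 (t : F) : chainVec chevE6 F 34 42 t = 0 := by
  unfold chainVec; rw [ce_34_42]; rfl

theorem cv_29_43 : chainVec chevE6 F 29 43 1 = - E chevE6 F 39 := by
  unfold chainVec; rw [ce_29_43]; simp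

theorem cv_32_43 : chainVec chevE6 F 32 43 1 = E chevE6 F 42 := by
  unfold chainVec; rw [ce_32_43]; simp

theorem e6_neg_not_comm (φ : F →+* F) :
    wN chevE6 F (clsWS (fun j => chevE6.neg (chevE6.simple j)) φ [3] 1) *
      wN chevE6 F (clsWS (fun j => chevE6.neg (chevE6.simple j)) φ [2, 4] 1) ≠
    wN chevE6 F (clsWS (fun j => chevE6.neg (chevE6.simple j)) φ [2, 4] 1) *
      wN chevE6 F (clsWS (fun j => chevE6.neg (chevE6.simple j)) φ [3] 1) := by
  have V : Valid0 chevE6 := valid0_of_mem (by simp)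
  have h32 : 32 < chevE6.nroots := by rw [nroots_e6]; norm_num
  have h29 : 29 < chevE6.nroots := by rw [nroots_e6]; norm_num
  have h34 : 34 < chevE6.nroots := by rw [nroots_e6]; norm_num
  have h43 : 43 < chevE6.nroots := by rw [nroots_e6]; norm_num
  have h42 : 42 < chevE6.nroots := by rw [nroots_e6]; norm_num
  have h39 : 39 < chevE6.nroots := by rw [nroots_e6]; norm_num
  -- the single actions
  have c43 : xN chevE6 F 34 (φ 1) *ᵥ E chevE6 F 43 = E chevE6 F 43 := by
    rw [xN_mulVec_E V F h34 _ h43 (by norm_num) (by rw [neg_34]; norm_num), cv_34_43, add_zero]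
  have c42 : xN chevE6 F 34 (φ 1) *ᵥ E chevE6 F 42 = E chevE6 F 42 := by
    rw [xN_mulVec_E V F h34 _ h42 (by norm_num) (by rw [neg_34]; norm_num), cv_34_42, add_zero]
  have b43 : xN chevE6 F 29 1 *ᵥ E chevE6 F 43 = E chevE6 F 43 - E chevE6 F 39 := by
    rw [xN_mulVec_E V F h29 _ h43 (by norm_num) (by rw [neg_29]; norm_num), cv_29_43,
      sub_eq_add_neg]
  have a43 : xN chevE6 F 32 1 *ᵥ E chevE6 F 43 = E chevE6 F 43 + E chevE6 F 42 := by
    rw [xN_mulVec_E V F h32 _ h43 (by norm_num) (by rw [neg_32]; norm_num), cv_32_43]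
  have a39 : xN chevE6 F 32 1 *ᵥ E chevE6 F 39 =
      E chevE6 F 39 + (1 : F) • Hr chevE6 F 32 - (1 : F) ^ 2 • E chevE6 F 32 := by
    have := xN_mulVec_E_neg V F h32 (1 : F)
    rwa [neg_32] at this
  have b42 : xN chevE6 F 29 1 *ᵥ E chevE6 F 42 =
      E chevE6 F 42 + (1 : F) • Hr chevE6 F 29 - (1 : F) ^ 2 • E chevE6 F 29 := by
    have := xN_mulVec_E_neg V F h29 (1 : F)
    rwa [neg_29] at this
  intro h
  have hw3 : wN chevE6 F (clsWS (fun j => chevE6.neg (chevE6.simple j)) φ [3] 1) =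
      xN chevE6 F 32 1 := by
    simp only [clsWS, wN_cons, wN_nil, Matrix.mul_one, negsimple_3]
  have hw24 : wN chevE6 F (clsWS (fun j => chevE6.neg (chevE6.simple j)) φ [2, 4] 1) =
      xN chevE6 F 29 1 * xN chevE6 F 34 (φ 1) := by
    simp only [clsWS, wN_cons, wN_nil, Matrix.mul_one, negsimple_2, negsimple_4]
  rw [hw3, hw24] at h
  have h1 := congrArg (fun M => (M *ᵥ E chevE6 F 43) (Sum.inr ⟨32, h32⟩)) h
  simp only [← Matrix.mulVec_mulVec] at h1
  rw [c43, b43, Matrix.mulVec_sub, a43, a39, Matrix.mulVec_add, c43, c42,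
    Matrix.mulVec_add, b43, b42] at h1
  simp only [Pi.add_apply, Pi.sub_apply, Pi.smul_apply, E_apply_inr, Hr_apply_inr] at h1
  norm_num at h1

end Cfsg.Agent.Lib.Helper27.TwE6NotComm
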