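import Cfsg.Agent.Lib.Helper8.ChevTa8
import Cfsg.Agent.Lib.Helper8.ChevAu12
import Cfsg.Agent.Lib.Helper8.ChevTw45

/-!
# S2129/S2130 sub-assembly SA-D (architect helper8, served by helper27):
diagonal automorphisms of a twisted group.
-/

set_option autoImplicit false

namespace Cfsg.Agent.Lib.Helper27.TwOutD

open Cfsg.Lie Matrix Cfsg.Agent.Lib.Helper8.Chev

variable {D : ChevalleyDatum} {F : Type*} [Field F] {ρ ρ' π π' : ℕ → ℕ} {ε : ℕ → ℤ}
  {T : TwOk D ρ ρ' π π' ε} {φ : F →+* F} {cls : List (List ℕ)} {G1 : Subgroup (GL D.Idx F)}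

/-- conjugation by `charUnit χ` preserves `U` -/
theorem charUnit_conj_mem_pos (hD : D ∈ [chevG2, chevB2, chevD4, chevF4, chevE6, chevE7, chevE8])
    {χ : ℕ → Fˣ} (hχ : D.IsRootCharacter χ) :
    ∀ g ∈ D.posUnipotent F, charUnit D F χ * g * (charUnit D F χ)⁻¹ ∈ D.posUnipotent F := by
  unfold ChevalleyDatum.posUnipotent
  apply conj_mem_closure
  rintro g ⟨r, t, hr, hg⟩
  exact Subgroup.subset_closure ⟨r, (χ r : F) * t, hr, charUnit_conj hD hχ hr.1 t g hg⟩

/-- conjugation by `charUnit χ` preserves `V` -/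
theorem charUnit_conj_mem_neg (hD : D ∈ [chevG2, chevB2, chevD4, chevF4, chevE6, chevE7, chevE8])
    {χ : ℕ → Fˣ} (hχ : D.IsRootCharacter χ) :
    ∀ g ∈ D.negUnipotent F, charUnit D F χ * g * (charUnit D F χ)⁻¹ ∈ D.negUnipotent F := by
  unfold ChevalleyDatum.negUnipotent
  apply conj_mem_closure
  rintro g ⟨r, t, hr, hg⟩
  exact Subgroup.subset_closure ⟨r, (χ r : F) * t, hr, charUnit_conj hD hχ hr.1 t g hg⟩

/-- the equivariance of a root character on the negatives of the fundamental roots follows from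
that on the fundamental roots -/
theorem equiv_neg (X : TwGrp T φ cls G1) {χ : ℕ → Fˣ} (hχ : D.IsRootCharacter χ)
    (heq : ∀ j < D.rank, χ (D.simple (ρ j)) = Units.map (φ : F →* F) (χ (D.simple j)))
    {j : ℕ} (hj : j < D.rank) :
    χ (D.neg (D.simple (ρ j))) = Units.map (φ : F →* F) (χ (D.neg (D.simple j))) := by
  have VJ := validJ_of_mem X.hD
  have hρj := (T.ga.hρ j hj).1
  rw [hχ.1 _ (VJ.S (ρ j) hρj).1, hχ.1 _ (VJ.S j hj).1, heq j hj, map_inv]

/-- an equivariant root character acts on the class elements through one parameter -/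
theorem charDiag_conj_cls (X : TwGrp T φ cls G1) {χ : ℕ → Fˣ} (hχ : D.IsRootCharacter χ)
    (heq : ∀ j < D.rank, χ (D.simple (ρ j)) = Units.map (φ : F →* F) (χ (D.simple j)))
    {j₀ : ℕ} {J' : List ℕ} (hJ : j₀ :: J' ∈ cls) {f : ℕ → ℕ}
    (hf : f ∈ [D.simple, fun j => D.neg (D.simple j)]) :
    φ^[(j₀ :: J').length] ((χ (f j₀) : Fˣ) : F) = ((χ (f j₀) : Fˣ) : F) ∧
      ∀ s : F, D.charDiag F χ * wN D F (clsWS f φ (j₀ :: J') s) =
        wN D F (clsWS f φ (j₀ :: J') (((χ (f j₀) : Fˣ) : F) * s)) * D.charDiag F χ := by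
  have hD := X.hD
  have V := valid0_of_mem hD
  have V1 := valid1_of_mem hD
  have VJ := validJ_of_mem hD
  have hJok := X.cd.ok _ hJ
  obtain ⟨j₁, J₁, e, hmap⟩ := hJok.rot
  obtain ⟨rfl, rfl⟩ := List.cons.inj e
  have hs : SgnF D f := by
    simp only [List.mem_cons, List.not_mem_nil, or_false] at hf
    rcases hf with rfl | rfl
    · exact sgnF_simple _
    · exact sgnF_neg _
  have h1 : ∀ j ∈ j₀ :: J', χ (f (ρ j)) = Units.map (φ : F →* F) (χ (f j)) := by
    intro j hj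
    have hjr := hJok.lt j hj
    simp only [List.mem_cons, List.not_mem_nil, or_false] at hf
    rcases hf with rfl | rfl
    · exact heq j hjr
    · exact equiv_neg X hχ heq hjr
  have e' : D.charDiag F χ = diagC D (fun s => ((χ s : Fˣ) : F)) := rfl
  have hc := char_map_clsWS (ρ := ρ) φ χ f J' j₀ j₀ hmap h1
  refine ⟨((hc 0).2).symm, fun s => ?_⟩
  rw [e', diagC_mul_wN V (isChar_of_rootChar V V1 hχ) _ (clsWS_lt V VJ hs φ hJok.lt s), (hc s).1]

/-- the generating set of class elements -/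
def clsGens (D : ChevalleyDatum) (φ : F →+* F) (cls : List (List ℕ)) : Set (GL D.Idx F) :=
  {g | ∃ J ∈ cls, ∃ f ∈ [D.simple, fun j => D.neg (D.simple j)],
    ∃ t : F, φ^[J.length] t = t ∧ g = wG D F (clsWS f φ J t)}

/-- conjugation by `charUnit χ` sends a class element to a class element -/
theorem charUnit_conj_cls (X : TwGrp T φ cls G1) {χ : ℕ → Fˣ} (hχ : D.IsRootCharacter χ)
    (heq : ∀ j < D.rank, χ (D.simple (ρ j)) = Units.map (φ : F →* F) (χ (D.simple j)))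
    {j₀ : ℕ} {J' : List ℕ} (hJ : j₀ :: J' ∈ cls) {f : ℕ → ℕ}
    (hf : f ∈ [D.simple, fun j => D.neg (D.simple j)]) {t : F}
    (ht : φ^[(j₀ :: J').length] t = t) :
    φ^[(j₀ :: J').length] (((χ (f j₀) : Fˣ) : F) * t) = ((χ (f j₀) : Fˣ) : F) * t ∧
      charUnit D F χ * wG D F (clsWS f φ (j₀ :: J') t) * (charUnit D F χ)⁻¹ =
        wG D F (clsWS f φ (j₀ :: J') (((χ (f j₀) : Fˣ) : F) * t)) := by
  obtain ⟨h1, h2⟩ := charDiag_conj_cls X hχ heq hJ hf
  have ht' : φ^[(j₀ :: J').length] (((χ (f j₀) : Fˣ) : F) * t) = ((χ (f j₀) : Fˣ) : F) * t := by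
    rw [iterate_map_mul, h1, ht]
  refine ⟨ht', ?_⟩
  apply Units.ext
  rw [Units.val_mul, Units.val_mul, coe_charUnit, coe_charUnit_inv, X.coe_cls hJ hf, X.coe_cls hJ hf,
    h2 t, Matrix.mul_assoc, charDiag_mul_inv, Matrix.mul_one]

theorem charUnit_conj_mem (X : TwGrp T φ cls G1) (hgen : G1 ≤ Subgroup.closure (clsGens D φ cls))
    {χ : ℕ → Fˣ} (hχ : D.IsRootCharacter χ)
    (heq : ∀ j < D.rank, χ (D.simple (ρ j)) = Units.map (φ : F →* F) (χ (D.simple j))) :
    ∀ g ∈ G1, charUnit D F χ * g * (charUnit D F χ)⁻¹ ∈ G1 := by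
  have hle : Subgroup.closure (clsGens D φ cls) ≤
      G1.comap (MulAut.conj (charUnit D F χ)).toMonoidHom := by
    rw [Subgroup.closure_le]
    rintro x ⟨J, hJ, f, hf, t, ht, rfl⟩
    rw [SetLike.mem_coe, Subgroup.mem_comap]
    show charUnit D F χ * _ * (charUnit D F χ)⁻¹ ∈ G1
    obtain ⟨j₁, J₁, e, -⟩ := (X.cd.ok J hJ).rot
    subst e
    obtain ⟨ht', e⟩ := charUnit_conj_cls X hχ heq hJ hf ht
    rw [e]
    exact (X.wG_cls_mem hJ hf ht').1
  intro g hg
  exact hle (hgen hg)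

theorem exists_diagAutT [Finite F] (X : TwGrp T φ cls G1)
    (hgen : G1 ≤ Subgroup.closure {g | ∃ J ∈ cls,
      ∃ f ∈ [D.simple, fun j => D.neg (D.simple j)],
      ∃ t : F, φ^[J.length] t = t ∧ g = wG D F (clsWS f φ J t)})
    (d : Fin D.rank → Fˣ) (hd : d ∈ P0 T.ga φ) :
    ∃ δ : MulAut ↥G1, PresT δ (D.posUnipotent F) ∧ PresT δ (D.negUnipotent F) ∧
      ∀ (j₀ : ℕ) (J' : List ℕ) (hJ : j₀ :: J' ∈ cls) (hj₀ : j₀ < D.rank) (t : F)
        (ht : φ^[(j₀ :: J').length] t = t),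
        ((δ (X.clsEl hJ (f := D.simple) (by simp) ht) : ↥G1) : GL D.Idx F) =
            wG D F (clsWS D.simple φ (j₀ :: J') ((d ⟨j₀, hj₀⟩ : F) * t)) ∧
          ((δ (X.clsEl hJ (f := fun j => D.neg (D.simple j)) (by simp) ht) : ↥G1) : GL D.Idx F) =
            wG D F (clsWS (fun j => D.neg (D.simple j)) φ (j₀ :: J')
              ((((d ⟨j₀, hj₀⟩)⁻¹ : Fˣ) : F) * t)) := by
  have hD := X.hD
  have VJ := validJ_of_mem hD
  have hgen' : G1 ≤ Subgroup.closure (clsGens D φ cls) := hgen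
  have hχ : D.IsRootCharacter (rcChar D d) := rcChar_isRootCharacter hD d
  have hχi : D.IsRootCharacter (fun r => (rcChar D d r)⁻¹) := isRootCharacter_inv hχ
  -- equivariance
  have heq : ∀ j < D.rank, rcChar D d (D.simple (ρ j)) =
      Units.map (φ : F →* F) (rcChar D d (D.simple j)) := by
    intro j hj
    have hρj := (T.ga.hρ j hj).1
    have h1 := rcChar_simple hD d ⟨ρ j, hρj⟩
    have h2 := rcChar_simple hD d ⟨j, hj⟩
    simp only at h1 h2
    rw [h1, h2]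
    rw [mem_P0] at hd
    have h3 := congrFun hd ⟨ρ j, hρj⟩
    rw [sgT_apply] at h3
    have h4 : rhoF T.ga ⟨ρ j, hρj⟩ = ⟨j, hj⟩ := Fin.ext (T.ga.hρ j hj).2
    rw [h4] at h3
    exact h3.symm
  have heqi : ∀ j < D.rank, (fun r => (rcChar D d r)⁻¹) (D.simple (ρ j)) =
      Units.map (φ : F →* F) ((fun r => (rcChar D d r)⁻¹) (D.simple j)) := by
    intro j hj
    show (rcChar D d (D.simple (ρ j)))⁻¹ = Units.map (φ : F →* F) ((rcChar D d (D.simple j))⁻¹)
    rw [heq j hj, map_inv]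
  have hm1 := charUnit_conj_mem X hgen' hχ heq
  have hm2 : ∀ g ∈ G1, (charUnit D F (rcChar D d))⁻¹ * g * charUnit D F (rcChar D d) ∈ G1 := by
    intro g hg
    have := charUnit_conj_mem X hgen' hχi heqi g hg
    rw [← charUnit_inv, inv_inv] at this
    exact this
  let δ : MulAut ↥G1 := conjAutOf G1 (charUnit D F (rcChar D d)) hm1 hm2
  have hδ : ∀ g : ↥G1, ((δ g : ↥G1) : GL D.Idx F) =
      charUnit D F (rcChar D d) * g * (charUnit D F (rcChar D d))⁻¹ := fun _ => rfl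
  refine ⟨δ, ?_, ?_, ?_⟩
  · intro g hg
    rw [hδ]
    exact charUnit_conj_mem_pos hD hχ _ hg
  · intro g hg
    rw [hδ]
    exact charUnit_conj_mem_neg hD hχ _ hg
  · intro j₀ J' hJ hj₀ t ht
    have hs := rcChar_simple hD d ⟨j₀, hj₀⟩
    simp only at hs
    constructor
    · rw [hδ]
      have := (charUnit_conj_cls X hχ heq hJ (f := D.simple) (by simp) ht).2
      rw [hs] at this
      exact this
    · rw [hδ]
      have := (charUnit_conj_cls X hχ heq hJ (f := fun j => D.neg (D.simple j)) (by simp) ht).2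
      rw [hχ.1 _ (VJ.S j₀ hj₀).1, hs] at this
      exact this

end Cfsg.Agent.Lib.Helper27.TwOutD
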