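import Cfsg.Agent.Lib.Helper8.ChevTa4
import Cfsg.Agent.Lib.Helper8.ChevFld1

/-!
# S2129/S2130 sub-assembly SA-F (architect helper8, served by helper27):
field automorphisms of a twisted group.
-/

set_option autoImplicit false

namespace Cfsg.Agent.Lib.Helper27.TwOutF

open Cfsg.Lie Matrix Cfsg.Agent.Lib.Helper8.Chev

variable {D : ChevalleyDatum} {F : Type*} [Field F] {ρ ρ' π π' : ℕ → ℕ} {ε : ℕ → ℤ}
  {T : TwOk D ρ ρ' π π' ε} {φ : F →+* F} {cls : List (List ℕ)} {G1 : Subgroup (GL D.Idx F)}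

theorem bc_mem_neg {F' : Type*} [Field F'] (f : F →+* F') {g : GL D.Idx F}
    (hg : g ∈ D.negUnipotent F) : bc D f g ∈ D.negUnipotent F' := by
  have hle : D.negUnipotent F ≤ (D.negUnipotent F').comap (bc D f) := by
    unfold ChevalleyDatum.negUnipotent
    rw [Subgroup.closure_le]
    rintro x ⟨r, t, hr, hx⟩
    rw [SetLike.mem_coe, Subgroup.mem_comap]
    exact Subgroup.subset_closure ⟨r, f t, hr, bc_x f hx⟩
  exact hle hg

theorem mapW_clsWS (f : ℕ → ℕ) (φ : F →+* F) (α : F →+* F) (hα : ∀ t, α (φ t) = φ (α t)) :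
    ∀ (J : List ℕ) (t : F), mapW α (clsWS f φ J t) = clsWS f φ J (α t) := by
  intro J
  induction J with
  | nil => intro t; rfl
  | cons j J ih =>
    intro t
    show (f j, α t) :: mapW α (clsWS f φ J (φ t)) = (f j, α t) :: clsWS f φ J (φ (α t))
    rw [ih (φ t), hα]

theorem iterate_comm (φ : F →+* F) (α : F →+* F) (hα : ∀ t, α (φ t) = φ (α t)) (n : ℕ) (t : F) :
    φ^[n] (α t) = α (φ^[n] t) := by
  induction n generalizing t with
  | zero => rfl
  | succ n ih =>
    rw [Function.iterate_succ_apply, Function.iterate_succ_apply, ← hα, ih]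

/-- the entrywise map sends a class element to the class element of the image parameter -/
theorem bc_wG_cls (X : TwGrp T φ cls G1) (α : F →+* F) (hα : ∀ t, α (φ t) = φ (α t))
    {J : List ℕ} (hJ : J ∈ cls) {f : ℕ → ℕ}
    (hf : f ∈ [D.simple, fun j => D.neg (D.simple j)]) {t : F} (ht : φ^[J.length] t = t) :
    φ^[J.length] (α t) = α t ∧
      bc D α (wG D F (clsWS f φ J t)) = wG D F (clsWS f φ J (α t)) := by
  have ht' : φ^[J.length] (α t) = α t := by rw [iterate_comm φ α hα, ht]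
  refine ⟨ht', ?_⟩
  apply Units.ext
  rw [coe_bc, (X.wG_cls_mem hJ hf ht).2, (X.wG_cls_mem hJ hf ht').2, map_wN, mapW_clsWS f φ α hα]

/-- the generating set of class elements -/
def clsGens (D : ChevalleyDatum) (φ : F →+* F) (cls : List (List ℕ)) : Set (GL D.Idx F) :=
  {g | ∃ J ∈ cls, ∃ f ∈ [D.simple, fun j => D.neg (D.simple j)],
    ∃ t : F, φ^[J.length] t = t ∧ g = wG D F (clsWS f φ J t)}

theorem bc_map_le (X : TwGrp T φ cls G1) (hgen : G1 ≤ Subgroup.closure (clsGens D φ cls))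
    (α : F →+* F) (hα : ∀ t, α (φ t) = φ (α t)) {g : GL D.Idx F} (hg : g ∈ G1) :
    bc D α g ∈ G1 := by
  have hle : Subgroup.closure (clsGens D φ cls) ≤ G1.comap (bc D α) := by
    rw [Subgroup.closure_le]
    rintro x ⟨J, hJ, f, hf, t, ht, rfl⟩
    rw [SetLike.mem_coe, Subgroup.mem_comap]
    obtain ⟨ht', e⟩ := bc_wG_cls X α hα hJ hf ht
    rw [e]
    exact (X.wG_cls_mem hJ hf ht').1
  exact hle (hgen hg)

theorem exists_fieldAutT [Finite F] (X : TwGrp T φ cls G1)
    (hgen : G1 ≤ Subgroup.closure {g | ∃ J ∈ cls,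
      ∃ f ∈ [D.simple, fun j => D.neg (D.simple j)],
      ∃ t : F, φ^[J.length] t = t ∧ g = wG D F (clsWS f φ J t)})
    (α : F ≃+* F) (hα : ∀ t, α (φ t) = φ (α t)) :
    ∃ ψ : MulAut ↥G1, PresT ψ (D.posUnipotent F) ∧ PresT ψ (D.negUnipotent F) ∧
      ∀ (J : List ℕ) (hJ : J ∈ cls) (f : ℕ → ℕ)
        (hf : f ∈ [D.simple, fun j => D.neg (D.simple j)]) (t : F) (ht : φ^[J.length] t = t),
        ((ψ (X.clsEl hJ hf ht) : ↥G1) : GL D.Idx F) = wG D F (clsWS f φ J (α t)) := by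
  have hα1 : ∀ t, (α : F →+* F) (φ t) = φ ((α : F →+* F) t) := hα
  have hα2 : ∀ t, (α.symm : F →+* F) (φ t) = φ ((α.symm : F →+* F) t) := by
    intro t
    show α.symm (φ t) = φ (α.symm t)
    apply α.injective
    rw [α.apply_symm_apply, hα, α.apply_symm_apply]
  have hgen' : G1 ≤ Subgroup.closure (clsGens D φ cls) := hgen
  have hcomp1 : ∀ g : GL D.Idx F, bc D (α.symm : F →+* F) (bc D (α : F →+* F) g) = g := by
    intro g
    rw [bc_comp]
    apply Units.ext
    rw [coe_bc]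
    ext i j
    simp
  have hcomp2 : ∀ g : GL D.Idx F, bc D (α : F →+* F) (bc D (α.symm : F →+* F) g) = g := by
    intro g
    rw [bc_comp]
    apply Units.ext
    rw [coe_bc]
    ext i j
    simp
  let ψ : MulAut ↥G1 :=
    { toFun := fun g => ⟨bc D (α : F →+* F) g.1, bc_map_le X hgen' _ hα1 g.2⟩
      invFun := fun g => ⟨bc D (α.symm : F →+* F) g.1, bc_map_le X hgen' _ hα2 g.2⟩
      left_inv := fun g => Subtype.ext (hcomp1 g.1)
      right_inv := fun g => Subtype.ext (hcomp2 g.1)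
      map_mul' := fun g h => Subtype.ext (by
        show bc D (α : F →+* F) (g.1 * h.1) = bc D (α : F →+* F) g.1 * bc D (α : F →+* F) h.1
        rw [map_mul]) }
  have hψ : ∀ g : ↥G1, ((ψ g : ↥G1) : GL D.Idx F) = bc D (α : F →+* F) g.1 := fun _ => rfl
  refine ⟨ψ, ?_, ?_, ?_⟩
  · intro g hg
    rw [hψ]
    exact bc_mem_pos _ hg
  · intro g hg
    rw [hψ]
    exact bc_mem_neg _ hg
  · intro J hJ f hf t ht
    rw [hψ]
    exact (bc_wG_cls X (α : F →+* F) hα1 hJ hf ht).2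

end Cfsg.Agent.Lib.Helper27.TwOutF
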