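import Cfsg.Agent.Lib.Helper8.ChevTw7
import Cfsg.Agent.Lib.Helper8.ChevAu5

/-!
# S2129/S2130 farm-out FO-R2 (architect helper8): the homomorphism `SL₂(F) → GL` attached to a class
of pairwise orthogonal fundamental roots (served by helper27).
-/

set_option autoImplicit false

namespace Cfsg.Agent.Lib.Helper27.TwPhiCls

open Cfsg.Lie Matrix Cfsg.Agent.Lib.Helper8.Chev

variable {D : ChevalleyDatum} {F : Type*} [Field F]

/-- `SL₂(F)` is generated by the upper and lower unitriangular matrices (induction principle). -/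
theorem sl2_gen_induction (P : Matrix.SpecialLinearGroup (Fin 2) F → Prop)
    (hu : ∀ t : F, P (upS t)) (hl : ∀ t : F, P (loS t))
    (hm : ∀ A B, P A → P B → P (A * B)) : ∀ A, P A := by
  have key : ∀ A : Matrix.SpecialLinearGroup (Fin 2) F, (A : Matrix (Fin 2) (Fin 2) F) 1 0 ≠ 0 →
      P A := by
    intro A hc
    have hdet : (A : Matrix (Fin 2) (Fin 2) F) 0 0 * (A : Matrix (Fin 2) (Fin 2) F) 1 1 -
        (A : Matrix (Fin 2) (Fin 2) F) 0 1 * (A : Matrix (Fin 2) (Fin 2) F) 1 0 = 1 := by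
      have := A.2
      rwa [Matrix.det_fin_two] at this
    set a := (A : Matrix (Fin 2) (Fin 2) F) 0 0 with ha
    set b := (A : Matrix (Fin 2) (Fin 2) F) 0 1 with hb
    set c := (A : Matrix (Fin 2) (Fin 2) F) 1 0 with hc'
    set d := (A : Matrix (Fin 2) (Fin 2) F) 1 1 with hd
    have e : A = upS ((a - 1) / c) * loS c * upS ((d - 1) / c) := by
      apply Subtype.ext
      rw [Matrix.SpecialLinearGroup.coe_mul, Matrix.SpecialLinearGroup.coe_mul, coe_upS, coe_loS,
        coe_upS]
      ext i j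
      fin_cases i <;> fin_cases j
      · simp [Matrix.mul_apply, Fin.sum_univ_two, ← ha]
        field_simp
        ring
      · simp [Matrix.mul_apply, Fin.sum_univ_two, ← hb]
        field_simp
        linear_combination (-1 : F) * hdet
      · simp [Matrix.mul_apply, Fin.sum_univ_two, ← hc']
      · simp [Matrix.mul_apply, Fin.sum_univ_two, ← hd]
        field_simp
        ring
    rw [e]
    exact hm _ _ (hm _ _ (hu _) (hl _)) (hu _)
  intro A
  by_cases hc : (A : Matrix (Fin 2) (Fin 2) F) 1 0 = 0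
  · have hdet : (A : Matrix (Fin 2) (Fin 2) F) 0 0 * (A : Matrix (Fin 2) (Fin 2) F) 1 1 -
        (A : Matrix (Fin 2) (Fin 2) F) 0 1 * (A : Matrix (Fin 2) (Fin 2) F) 1 0 = 1 := by
      have := A.2
      rwa [Matrix.det_fin_two] at this
    have ha0 : (A : Matrix (Fin 2) (Fin 2) F) 0 0 ≠ 0 := by
      intro h0
      rw [h0, hc] at hdet
      simp at hdet
    have h1 : P (loS 1 * A) := by
      apply key
      rw [Matrix.SpecialLinearGroup.coe_mul, coe_loS]
      simp [Matrix.mul_apply, Fin.sum_univ_two, hc, ha0]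
    have e : A = loS (-1) * (loS 1 * A) := by
      rw [← mul_assoc]
      have : loS (-1 : F) * loS 1 = 1 := by
        apply Subtype.ext
        rw [Matrix.SpecialLinearGroup.coe_mul, coe_loS, coe_loS]
        ext i j
        fin_cases i <;> fin_cases j <;> simp [Matrix.mul_apply, Fin.sum_univ_two]
      rw [this, one_mul]
    rw [e]
    exact hm _ _ (hl _) h1
  · exact key A hc

theorem map_upS (φ : F →+* F) (t : F) :
    Matrix.SpecialLinearGroup.map φ (upS t) = upS (φ t) := by
  apply Subtype.ext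
  rw [Matrix.SpecialLinearGroup.map_apply_coe, coe_upS, coe_upS]
  ext i j
  fin_cases i <;> fin_cases j <;> simp

theorem map_loS (φ : F →+* F) (t : F) :
    Matrix.SpecialLinearGroup.map φ (loS t) = loS (φ t) := by
  apply Subtype.ext
  rw [Matrix.SpecialLinearGroup.map_apply_coe, coe_loS, coe_loS]
  ext i j
  fin_cases i <;> fin_cases j <;> simp

/-- strengthened statement carried through the induction on `J` -/
theorem exists_phiCls_aux (hD : D ∈ [chevG2, chevB2, chevD4, chevF4, chevE6, chevE7, chevE8])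
    (φ : F →+* F) : ∀ {J : List ℕ}, OrthL D J →
    ∃ Φ : Matrix.SpecialLinearGroup (Fin 2) F →* GL D.Idx F,
      (∀ t : F, ((Φ (upS t) : GL D.Idx F) : Matrix D.Idx D.Idx F) =
        wN D F (clsWS D.simple φ J t)) ∧
      (∀ t : F, ((Φ (loS t) : GL D.Idx F) : Matrix D.Idx D.Idx F) =
        wN D F (clsWS (fun j => D.neg (D.simple j)) φ J t)) ∧
      (∀ j₀ : ℕ, j₀ < D.rank → (∀ j ∈ J, OrthJ D j₀ j) →
        ∀ a ∈ [D.simple j₀, D.neg (D.simple j₀)], ∀ (u : F) (A : Matrix.SpecialLinearGroup (Fin 2) F),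
          xN D F a u * ((Φ A : GL D.Idx F) : Matrix D.Idx D.Idx F) =
            ((Φ A : GL D.Idx F) : Matrix D.Idx D.Idx F) * xN D F a u) := by
  intro J
  induction J with
  | nil =>
    intro _
    refine ⟨1, fun t => ?_, fun t => ?_, fun j₀ _ _ a _ u A => ?_⟩
    · simp [clsWS, wN_nil]
    · simp [clsWS, wN_nil]
    · simp
  | cons j J ih =>
    intro hO
    have hj : j < D.rank := hO.lt j List.mem_cons_self
    have hnd := hO.nodup
    rw [List.nodup_cons] at hnd
    have hO' : OrthL D J := ⟨fun i hi => hO.lt i (List.mem_cons_of_mem _ hi), hnd.2,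
      fun i hi i' hi' hne => hO.orth i (List.mem_cons_of_mem _ hi) i' (List.mem_cons_of_mem _ hi') hne⟩
    have hjJ : ∀ i ∈ J, OrthJ D j i := fun i hi =>
      hO.orth j List.mem_cons_self i (List.mem_cons_of_mem _ hi) (fun e => hnd.1 (e ▸ hi))
    obtain ⟨Φ', h1', h2', h3'⟩ := ih hO'
    have VJ := validJ_of_mem hD
    have hpj : D.simple j < D.nroots := (VJ.S j hj).1
    obtain ⟨ψ, hψ1, hψ2⟩ := exists_phi (F := F) hD hpj
    -- ψ B commutes with xN a u for a = ±p_{j₀}, j₀ orthogonal to j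
    have hψc : ∀ j₀ : ℕ, j₀ < D.rank → OrthJ D j₀ j →
        ∀ a ∈ [D.simple j₀, D.neg (D.simple j₀)], ∀ (u : F) (B : Matrix.SpecialLinearGroup (Fin 2) F),
          xN D F a u * ((ψ B : GL D.Idx F) : Matrix D.Idx D.Idx F) =
            ((ψ B : GL D.Idx F) : Matrix D.Idx D.Idx F) * xN D F a u := by
      intro j₀ hj₀ ho a ha u
      apply sl2_gen_induction
      · intro t
        rw [hψ1, x_eq_xN]
        exact orth_comm hD hj₀ hj ho ha (by simp) u t
      · intro t
        rw [hψ2, x_eq_xN]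
        exact orth_comm hD hj₀ hj ho ha (by simp) u t
      · intro A B hA hB
        rw [map_mul, Units.val_mul, ← Matrix.mul_assoc, hA, Matrix.mul_assoc, hB, Matrix.mul_assoc]
    -- ψ B commutes with Φ' C
    have hcomm : ∀ (B C : Matrix.SpecialLinearGroup (Fin 2) F), ψ B * Φ' C = Φ' C * ψ B := by
      intro B C
      revert B
      apply sl2_gen_induction
      · intro t
        apply Units.ext
        rw [Units.val_mul, Units.val_mul, hψ1, x_eq_xN]
        exact h3' j hj hjJ _ (by simp) t C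
      · intro t
        apply Units.ext
        rw [Units.val_mul, Units.val_mul, hψ2, x_eq_xN]
        exact h3' j hj hjJ _ (by simp) t C
      · intro A B hA hB
        rw [map_mul, mul_assoc, hB, ← mul_assoc, hA, mul_assoc]
    let Φ : Matrix.SpecialLinearGroup (Fin 2) F →* GL D.Idx F :=
      { toFun := fun A => ψ A * Φ' (Matrix.SpecialLinearGroup.map φ A)
        map_one' := by simp
        map_mul' := fun A B => by
          simp only [map_mul]
          rw [mul_assoc, ← mul_assoc (ψ B), hcomm B, mul_assoc, mul_assoc] }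
    have hΦ : ∀ A, Φ A = ψ A * Φ' (Matrix.SpecialLinearGroup.map φ A) := fun _ => rfl
    refine ⟨Φ, fun t => ?_, fun t => ?_, fun j₀ hj₀ ho a ha u A => ?_⟩
    · rw [hΦ, Units.val_mul, hψ1, map_upS, h1', x_eq_xN]
      show _ = wN D F ((D.simple j, t) :: clsWS D.simple φ J (φ t))
      rw [wN_cons]
    · rw [hΦ, Units.val_mul, hψ2, map_loS, h2', x_eq_xN]
      show _ = wN D F ((D.neg (D.simple j), t) :: clsWS (fun j => D.neg (D.simple j)) φ J (φ t))
      rw [wN_cons]
    · rw [hΦ, Units.val_mul, ← Matrix.mul_assoc, hψc j₀ hj₀ (ho j List.mem_cons_self) a ha u A,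
        Matrix.mul_assoc,
        h3' j₀ hj₀ (fun i hi => ho i (List.mem_cons_of_mem _ hi)) a ha u _, Matrix.mul_assoc]

theorem exists_phiCls (hD : D ∈ [chevG2, chevB2, chevD4, chevF4, chevE6, chevE7, chevE8])
    (φ : F →+* F) {J : List ℕ} (hO : OrthL D J) :
    ∃ Φ : Matrix.SpecialLinearGroup (Fin 2) F →* GL D.Idx F,
      (∀ t : F, ((Φ (upS t) : GL D.Idx F) : Matrix D.Idx D.Idx F) =
        wN D F (clsWS D.simple φ J t)) ∧
      (∀ t : F, ((Φ (loS t) : GL D.Idx F) : Matrix D.Idx D.Idx F) =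
        wN D F (clsWS (fun j => D.neg (D.simple j)) φ J t)) := by
  obtain ⟨Φ, h1, h2, -⟩ := exists_phiCls_aux hD φ hO
  exact ⟨Φ, h1, h2⟩

end Cfsg.Agent.Lib.Helper27.TwPhiCls
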