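import Mathlib
import Cfsg.Agent.Lib.Helper27.FusionBasic
import Cfsg.Agent.Lib.Helper27.FusionSat
import Cfsg.Agent.Lib.Helper27.FusionLift
import Cfsg.Agent.S5128

set_option autoImplicit false

/-! Weakly embedded subgroups of one order: basic definitions, lattice facts on strongly closed subgroups,
and the existence of a strongly closed subgroup of the given order. -/

namespace Cfsg.Agent.Lib.Helper27.WE

open Cfsg Cfsg.FusionSystem Cfsg.Agent.Lib.Helper27

universe u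

variable {Ω : Type u} [Group Ω] {S : Subgroup Ω}

/-- Every subgroup of `S` of order `d` is weakly embedded. -/
def W1 (F : FusionSystem S) (d : ℕ) : Prop :=
  ∀ Q : Subgroup Ω, Q ≤ S → Nat.card Q = d →
    ∃ P : Subgroup Ω, F.StronglyClosed P ∧ F.StronglyClosed (Q ⊔ P) ∧ F.StronglyClosed (Q ⊓ P)

/-- For every subgroup `H` of order `d`, the automorphisms of the system of subgroups `Y` with
`H ≤ Y ≤ N_S(H)` which preserve `H` have `p`-power order. -/
def W2 (p : ℕ) (F : FusionSystem S) (d : ℕ) : Prop :=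
  ∀ H : Subgroup Ω, H ≤ S → Nat.card H = d → ∀ Y : Subgroup Ω, H ≤ Y → Y ≤ normalizerIn S H →
    ∀ α : MulAut Y, IsIso F (α : Y ≃* Y) → (∀ y : Y, (y : Ω) ∈ H → ((α y : Y) : Ω) ∈ H) →
      ∃ k : ℕ, α ^ p ^ k = 1

theorem finite_of_le [Finite S] {Y : Subgroup Ω} (h : Y ≤ S) : Finite Y :=
  Finite.of_injective (Subgroup.inclusion h) (Subgroup.inclusion_injective h)

theorem subgroups_le_finite [Finite S] : {Q : Subgroup Ω | Q ≤ S}.Finite := by
  have hinj : Set.InjOn (fun Q : Subgroup Ω => Q.subgroupOf S) {Q : Subgroup Ω | Q ≤ S} := by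
    intro Q hQ Q' hQ' h
    have := Subgroup.subgroupOf_inj.mp h
    rwa [inf_eq_left.mpr hQ, inf_eq_left.mpr hQ'] at this
  exact Set.Finite.of_finite_image (Set.toFinite _) hinj

/-- Intermediate subgroups of prescribed order in a `p`-group. -/
theorem exists_between {X : Type*} [Group X] [Finite X] {p : ℕ} [Fact p.Prime] (T W : Subgroup X)
    (hWT : W ≤ T) {n m : ℕ} (hW : Nat.card W = p ^ n) (hT : p ^ m ∣ Nat.card T) (hnm : n ≤ m) :
    ∃ K : Subgroup X, W ≤ K ∧ K ≤ T ∧ Nat.card K = p ^ m := by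
  have h1 : Nat.card ↥(W.subgroupOf T) = p ^ n := by
    rw [← hW]
    exact Nat.card_congr (Subgroup.subgroupOfEquivOfLe hWT).toEquiv
  obtain ⟨K', hK', hWK'⟩ := Sylow.exists_subgroup_card_pow_prime_le p hT (W.subgroupOf T) h1 hnm
  refine ⟨K'.map T.subtype, ?_, Subgroup.map_subtype_le _, ?_⟩
  · have := Subgroup.map_mono (f := T.subtype) hWK'
    rwa [Subgroup.subgroupOf_map_subtype, inf_of_le_left hWT] at this
  · rw [Subgroup.card_map_of_injective T.subtype_injective, hK']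

/-- Intermediate subgroups of prescribed order in a `p`-subgroup of a group. -/
theorem exists_between' [Finite S] {p : ℕ} [Fact p.Prime] {T W : Subgroup Ω} (hTS : T ≤ S)
    (hWT : W ≤ T) {n m : ℕ} (hW : Nat.card W = p ^ n) (hT : p ^ m ∣ Nat.card T) (hnm : n ≤ m) :
    ∃ K : Subgroup Ω, W ≤ K ∧ K ≤ T ∧ Nat.card K = p ^ m := by
  haveI : Finite T := finite_of_le hTS
  have h1 : Nat.card ↥(W.subgroupOf T) = p ^ n := by
    rw [← hW]
    exact Nat.card_congr (Subgroup.subgroupOfEquivOfLe hWT).toEquiv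
  obtain ⟨K', hK', hWK'⟩ := Sylow.exists_subgroup_card_pow_prime_le p hT (W.subgroupOf T) h1 hnm
  refine ⟨K'.map T.subtype, ?_, Subgroup.map_subtype_le _, ?_⟩
  · have := Subgroup.map_mono (f := T.subtype) hWK'
    rwa [Subgroup.subgroupOf_map_subtype, inf_of_le_left hWT] at this
  · rw [Subgroup.card_map_of_injective T.subtype_injective, hK']

/-- The modular law for subgroups, when the smaller subgroup normalizes the middle one. -/
theorem modular {A B C : Subgroup Ω} (hAC : A ≤ C) (hAB : A ≤ Subgroup.normalizer (B : Set Ω)) :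
    (A ⊔ B) ⊓ C = A ⊔ (B ⊓ C) := by
  apply le_antisymm
  · rintro x ⟨hx1, hx2⟩
    have hx : x ∈ ((A ⊔ B : Subgroup Ω) : Set Ω) := hx1
    rw [Subgroup.coe_mul_of_left_le_normalizer_right A B hAB] at hx
    obtain ⟨a, ha, b, hb, rfl⟩ := hx
    have hbC : b ∈ C := by
      have h1 : a⁻¹ * (a * b) ∈ C := C.mul_mem (C.inv_mem (hAC ha)) hx2
      rwa [inv_mul_cancel_left] at h1
    exact Subgroup.mul_mem _ (Subgroup.mem_sup_left ha) (Subgroup.mem_sup_right ⟨hb, hbC⟩)
  · exact le_inf (sup_le_sup_left inf_le_left A) (sup_le hAC inf_le_right)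

theorem sc_top (F : FusionSystem S) : F.StronglyClosed S :=
  ⟨le_rfl, fun _ _ _ hφ x => (F.le_of_mem hφ).2 x⟩

theorem sc_bot (F : FusionSystem S) : F.StronglyClosed ⊥ := by
  refine ⟨bot_le, fun R hR φ _ x => ?_⟩
  have hx : (x : Ω) = 1 := by
    have := hR x.2
    rwa [Subgroup.mem_bot] at this
  have hx1 : x = 1 := Subtype.ext hx
  rw [hx1, map_one]
  exact Subgroup.one_mem _

theorem sc_inf {F : FusionSystem S} {T₁ T₂ : Subgroup Ω} (h₁ : F.StronglyClosed T₁)
    (h₂ : F.StronglyClosed T₂) : F.StronglyClosed (T₁ ⊓ T₂) :=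
  ⟨inf_le_left.trans h₁.1, fun R hR φ hφ x =>
    ⟨h₁.2 R (hR.trans inf_le_left) φ hφ x, h₂.2 R (hR.trans inf_le_right) φ hφ x⟩⟩

theorem card_lt_of_lt [Finite S] {A B : Subgroup Ω} (hB : B ≤ S) (h : A < B) : Nat.card A < Nat.card B := by
  haveI : Finite B := finite_of_le hB
  by_contra hcon
  push Not at hcon
  exact h.ne (Subgroup.eq_of_le_of_card_ge h.le hcon)

theorem card_le_of_le' [Finite S] {A B : Subgroup Ω} (hB : B ≤ S) (h : A ≤ B) : Nat.card A ≤ Nat.card B := by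
  haveI : Finite B := finite_of_le hB
  exact Subgroup.card_le_of_le h

theorem exists_card_pow [Finite S] {p : ℕ} [Fact p.Prime] (hS : IsPGroup p S) {A : Subgroup Ω} (hA : A ≤ S) :
    ∃ n : ℕ, Nat.card A = p ^ n := by
  haveI : Finite A := finite_of_le hA
  exact (hS.to_le hA).exists_card_eq

/-- **Existence of a strongly closed subgroup of the given order.** -/
theorem exists_sc_card [Finite S] {p : ℕ} [Fact p.Prime] (hS : IsPGroup p S) {F : FusionSystem S}
    (hF : F.IsSaturated p) {a b : ℕ} (hba : b < a) (hcard : Nat.card S = p ^ a) (h1 : W1 F (p ^ b)) :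
    ∃ I : Subgroup Ω, F.StronglyClosed I ∧ Nat.card I = p ^ b := by
  have hp : p.Prime := Fact.out
  have hfin : {Q : Subgroup Ω | Q ≤ S}.Finite := subgroups_le_finite
  have sup_sc : ∀ T₁ T₂ : Subgroup Ω, F.StronglyClosed T₁ → F.StronglyClosed T₂ →
      F.StronglyClosed (T₁ ⊔ T₂) := fun T₁ T₂ h₁ h₂ => Cfsg.Agent.S5128.result p hS F hF T₁ T₂ h₁ h₂
  -- `I` of maximal order among the strongly closed subgroups of order at most `p ^ b`
  obtain ⟨I, ⟨hIsc, hIle⟩, hImax⟩ := Set.exists_max_image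
    {T : Subgroup Ω | F.StronglyClosed T ∧ Nat.card T ≤ p ^ b} (fun T => Nat.card T)
    (hfin.subset (fun T hT => hT.1.1))
    ⟨⊥, sc_bot F, by rw [Subgroup.card_bot]; exact Nat.one_le_pow _ _ hp.pos⟩
  by_contra hcon
  have hIlt : Nat.card I < p ^ b := lt_of_le_of_ne hIle (fun h => hcon ⟨I, hIsc, h⟩)
  have hIS : I < S := by
    refine lt_of_le_of_ne hIsc.1 (fun h => ?_)
    rw [h, hcard] at hIlt
    exact absurd hIlt (not_lt.mpr (Nat.pow_le_pow_right hp.pos hba.le))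
  -- `Y` of minimal order among the strongly closed subgroups strictly above `I`
  obtain ⟨Y, ⟨hYsc, hIY⟩, hYmin⟩ := Set.exists_min_image
    {T : Subgroup Ω | F.StronglyClosed T ∧ I < T} (fun T => Nat.card T)
    (hfin.subset (fun T hT => hT.1.1)) ⟨S, sc_top F, hIS⟩
  have hYS : Y ≤ S := hYsc.1
  have hYgt : p ^ b < Nat.card Y := by
    by_contra h
    push Not at h
    have h2 := hImax Y ⟨hYsc, h⟩
    have h3 := card_lt_of_lt hYS hIY
    exact absurd h2 (not_le.mpr h3)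
  obtain ⟨i, hi⟩ := exists_card_pow hS hIsc.1
  obtain ⟨y, hy⟩ := exists_card_pow hS hYS
  have hib : i < b := by
    rw [hi] at hIlt
    exact (Nat.pow_lt_pow_iff_right hp.one_lt).mp hIlt
  have hby : b < y := by
    rw [hy] at hYgt
    exact (Nat.pow_lt_pow_iff_right hp.one_lt).mp hYgt
  obtain ⟨Q, hIQ, hQY, hQcard⟩ := exists_between' hYS hIY.le hi
    (by rw [hy]; exact pow_dvd_pow p hby.le) hib.le
  have hQS : Q ≤ S := hQY.trans hYS
  obtain ⟨P, hP, hB, hA⟩ := h1 Q hQS hQcard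
  have hIQlt : I < Q := by
    refine lt_of_le_of_ne hIQ (fun h => ?_)
    rw [h, hQcard] at hIlt
    exact lt_irrefl _ hIlt
  -- `Q ⊓ P ≤ I`
  have hAI : Q ⊓ P ≤ I := by
    have hsc : F.StronglyClosed ((Q ⊓ P) ⊔ I) := sup_sc _ _ hA hIsc
    have hle : (Q ⊓ P) ⊔ I ≤ Q := sup_le inf_le_left hIQ
    have hc : Nat.card ↥((Q ⊓ P) ⊔ I) ≤ p ^ b := by
      rw [← hQcard]
      exact card_le_of_le' hQS hle
    have h2 := hImax _ ⟨hsc, hc⟩
    haveI : Finite ↥((Q ⊓ P) ⊔ I) := finite_of_le (hle.trans hQS)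
    have heq : I = (Q ⊓ P) ⊔ I := Subgroup.eq_of_le_of_card_ge le_sup_right h2
    rw [heq]
    exact le_sup_left
  -- `Y ≤ Q ⊔ P`
  have hYB : (Q ⊔ P) ⊓ Y = Y := by
    have hsc : F.StronglyClosed ((Q ⊔ P) ⊓ Y) := sc_inf hB hYsc
    have hQle : Q ≤ (Q ⊔ P) ⊓ Y := le_inf le_sup_left hQY
    have hlt : I < (Q ⊔ P) ⊓ Y := lt_of_lt_of_le hIQlt hQle
    have h2 := hYmin _ ⟨hsc, hlt⟩
    haveI : Finite Y := finite_of_le hYS
    exact Subgroup.eq_of_le_of_card_ge inf_le_right h2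
  have hQnP : Q ≤ Subgroup.normalizer (P : Set Ω) := hQS.trans (le_normalizer_of_stronglyClosed hP)
  have hY1 : Y = Q ⊔ (P ⊓ Y) := by
    rw [← modular hQY hQnP]
    exact hYB.symm
  have hPYsc : F.StronglyClosed (P ⊓ Y) := sc_inf hP hYsc
  have hP1sc : F.StronglyClosed ((P ⊓ Y) ⊔ I) := sup_sc _ _ hPYsc hIsc
  have hP1Y : (P ⊓ Y) ⊔ I ≤ Y := sup_le inf_le_right hIY.le
  rcases eq_or_lt_of_le (le_sup_right : I ≤ (P ⊓ Y) ⊔ I) with h | h
  · have h2 : P ⊓ Y ≤ Q := by
      have h3 : P ⊓ Y ≤ I := by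
        rw [h]
        exact le_sup_left
      exact h3.trans hIQ
    have h4 : Y ≤ Q := by
      rw [hY1]
      exact sup_le le_rfl h2
    have h5 := card_le_of_le' hQS h4
    rw [hQcard] at h5
    exact absurd h5 (not_le.mpr hYgt)
  · have h2 := hYmin _ ⟨hP1sc, h⟩
    haveI : Finite Y := finite_of_le hYS
    have heq : (P ⊓ Y) ⊔ I = Y := Subgroup.eq_of_le_of_card_ge hP1Y h2
    have hInPY : I ≤ Subgroup.normalizer ((P ⊓ Y : Subgroup Ω) : Set Ω) :=
      hIsc.1.trans (le_normalizer_of_stronglyClosed hPYsc)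
    have hQ1 : Q = I ⊔ ((P ⊓ Y) ⊓ Q) := by
      rw [← modular hIQ hInPY, sup_comm, heq]
      exact (inf_eq_right.mpr hQY).symm
    have h3 : (P ⊓ Y) ⊓ Q ≤ I := by
      refine le_trans ?_ hAI
      exact le_inf inf_le_right (inf_le_left.trans inf_le_left)
    have h4 : Q ≤ I := by
      rw [hQ1]
      exact sup_le le_rfl h3
    exact absurd (le_antisymm h4 hIQ) hIQlt.ne'

end Cfsg.Agent.Lib.Helper27.WE
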