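import Mathlib
import Cfsg.Agent.Lib.Helper27.WEA
import Cfsg.Agent.Lib.Helper27.LGQuot
import Cfsg.Agent.Lib.Helper27.TateCorB
import Cfsg.Agent.H26.Solvable
import Cfsg.Agent.S5124
import Cfsg.Agent.S5132
import Cfsg.Agent.S5256

set_option autoImplicit false

/-! Weakly embedded subgroups of one order: transfer of the hypotheses to subsystems and factor systems,
and the hyperfocal subgroup of a system whose factor system is inner. -/

namespace Cfsg.Agent.Lib.Helper27.WE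

open Cfsg Cfsg.FusionSystem Cfsg.Agent.Lib.Helper27 Cfsg.Agent.H26

universe u

variable {Ω : Type u} [Group Ω] {S : Subgroup Ω}

/-- It suffices to check `W2` at the fully normalized subgroups. -/
theorem W2_of_fullyNormalized [Finite S] {p : ℕ} [Fact p.Prime] (hS : IsPGroup p S) {F : FusionSystem S}
    (hF : F.IsSaturated p) {d : ℕ}
    (h : ∀ H : Subgroup Ω, F.IsFullyNormalized H → Nat.card H = d → ∀ Y : Subgroup Ω, H ≤ Y →
      Y ≤ normalizerIn S H → ∀ α : MulAut Y, IsIso F (α : Y ≃* Y) →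
      (∀ y : Y, (y : Ω) ∈ H → ((α y : Y) : Ω) ∈ H) → ∃ k : ℕ, α ^ p ^ k = 1) : W2 p F d := by
  intro H hHS hHd Y hHY hYN α hα hαH
  obtain ⟨H', hconj, hfn⟩ := exists_fullyNormalized_conj F hHS
  obtain ⟨φ, hφ, χ, hχ, hφχ⟩ := exists_hom_normalizerIn_of_fullyNormalized hS hF hfn hconj
  haveI : Finite H' := finite_of_le hfn.1
  have hφχ' : ∀ x : H, φ ⟨x, le_normalizerIn hHS x.2⟩ = χ x := fun x => hφχ x x.2 _
  have hφN : ∀ n : normalizerIn S H, φ n ∈ normalizerIn S H' :=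
    hom_normalizerIn_mem_normalizerIn hHS hφ hφχ'
  have hφY : φ.comp (Subgroup.inclusion hYN) ∈ F.Hom Y := hom_restrict F hYN hφ
  obtain ⟨Y', hY'⟩ : ∃ Y' : Subgroup Ω, (φ.comp (Subgroup.inclusion hYN)).range = Y' := ⟨_, rfl⟩
  obtain ⟨e, he, hex⟩ := exists_isIso_of_hom F hφY hY'
  have hexH : ∀ x : H, ((e ⟨x, hHY x.2⟩ : Y') : Ω) = χ x := by
    intro x
    rw [hex]
    exact hφχ x x.2 _
  have hH'Y' : H' ≤ Y' := by
    intro y' hy'
    obtain ⟨x, hx⟩ : ∃ x : H, χ x = ⟨y', hy'⟩ := ⟨χ.symm ⟨y', hy'⟩, by simp⟩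
    have h1 := hexH x
    rw [hx] at h1
    have h1' : ((e ⟨x, hHY x.2⟩ : Y') : Ω) = y' := h1
    rw [← h1']
    exact (e _).2
  have hY'N : Y' ≤ normalizerIn S H' := by
    rw [← hY']
    rintro _ ⟨y, rfl⟩
    exact hφN _
  have hcard : Nat.card H' = d := by
    rw [← hHd]
    exact (Nat.card_congr χ.toEquiv).symm
  have hα' : IsIso F ((MulAut.congr e α : MulAut Y') : Y' ≃* Y') := he.symm.trans (hα.trans he)
  have hpres : ∀ y' : Y', (y' : Ω) ∈ H' → (((MulAut.congr e α) y' : Y') : Ω) ∈ H' := by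
    intro y' hy'
    obtain ⟨x, hx⟩ : ∃ x : H, χ x = ⟨y', hy'⟩ := ⟨χ.symm ⟨y', hy'⟩, by simp⟩
    have h1 : e ⟨x, hHY x.2⟩ = y' := by
      apply Subtype.ext
      rw [hexH x, hx]
    have h2 : e.symm y' = ⟨x, hHY x.2⟩ := by
      rw [← h1]
      simp
    have h3 := hαH ⟨x, hHY x.2⟩ x.2
    have h4 : (MulAut.congr e α) y' = e (α (e.symm y')) := rfl
    rw [h4, h2]
    have h5 := hexH ⟨_, h3⟩
    have h6 : (⟨((⟨_, h3⟩ : H) : Ω), hHY h3⟩ : Y) = α ⟨x, hHY x.2⟩ := rfl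
    rw [h6] at h5
    rw [h5]
    exact (χ _).2
  obtain ⟨k, hk⟩ := h H' hfn hcard Y' hH'Y' hY'N (MulAut.congr e α) hα' hpres
  refine ⟨k, ?_⟩
  rw [← map_pow] at hk
  exact (MulEquiv.map_eq_one_iff (MulAut.congr e)).mp hk

/-- `W1` passes to subsystems. -/
theorem W1_subsystem [Finite S] {F : FusionSystem S} {M : Subgroup Ω}
    {E : FusionSystem M} (hMS : M ≤ S) (hEF : E.IsSubsystemOf F) {d : ℕ} (h : W1 F d) : W1 E d := by
  intro Q hQM hQd
  obtain ⟨P, hP, hB, hA⟩ := h Q (hQM.trans hMS) hQd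
  have hsc : ∀ V : Subgroup Ω, F.StronglyClosed V → E.StronglyClosed (V ⊓ M) := fun V hV =>
    ⟨inf_le_right, fun R hR φ hφ x =>
      ⟨hV.2 R (hR.trans inf_le_left) φ (hEF R hφ) x, (E.le_of_mem hφ).2 x⟩⟩
  have hQnP : Q ≤ Subgroup.normalizer (P : Set Ω) :=
    (hQM.trans hMS).trans (le_normalizer_of_stronglyClosed hP)
  refine ⟨P ⊓ M, hsc P hP, ?_, ?_⟩
  · rw [← modular hQM hQnP]
    exact hsc _ hB
  · rw [← inf_assoc]
    exact hsc _ hA

/-- `W2` passes to subsystems. -/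
theorem W2_subsystem {p : ℕ} {F : FusionSystem S} {M : Subgroup Ω}
    {E : FusionSystem M} (hMS : M ≤ S) (hEF : E.IsSubsystemOf F) {d : ℕ} (h : W2 p F d) : W2 p E d := by
  intro H hHM hHd Y hHY hYN α hα hαH
  exact h H (hHM.trans hMS) hHd Y hHY (hYN.trans (fun x hx => ⟨hMS hx.1, hx.2⟩)) α (hEF Y hα) hαH

section factor

variable {Ω' : Type*} [Group Ω'] {S' : Subgroup Ω'}

/-- A system all of whose automorphism groups are `p`-groups has trivial hyperfocal subgroup. -/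
theorem hyperfocal_eq_bot_of_isPGroup {p : ℕ} [Fact p.Prime] {E : FusionSystem S'}
    (h : ∀ Y' : Subgroup Ω', Y' ≤ S' → IsPGroup p (E.autGroup Y')) : E.hyperfocalSubgroup p = ⊥ := by
  unfold hyperfocalSubgroup
  rw [eq_bot_iff, Subgroup.closure_le]
  rintro y ⟨P, α, x, hP, hα, rfl⟩
  rw [Cfsg.Agent.Lib.Lead.pResidual_eq_bot_of_isPGroup (h P hP), Subgroup.mem_bot] at hα
  rw [hα]
  simp

/-- If all automorphism groups of the factor system are `p`-groups, the hyperfocal subgroup lies in the kernel. -/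
theorem hyperfocal_le_of_factor [Finite S] {p : ℕ} [Fact p.Prime] (hS : IsPGroup p S) {F : FusionSystem S}
    (hF : F.IsSaturated p) {X : Subgroup Ω} (hX : F.StronglyClosed X) {θ : S →* Ω'} {E : FusionSystem S'}
    (hfac : F.IsFactorSystem X θ E) (h : ∀ Y' : Subgroup Ω', Y' ≤ S' → IsPGroup p (E.autGroup Y')) :
    F.hyperfocalSubgroup p ≤ X := by
  have h1 := Cfsg.Agent.S5256.result p hS F hF X hX θ E hfac
  rw [hyperfocal_eq_bot_of_isPGroup h] at h1
  have hH₀S : F.hyperfocalSubgroup p ≤ S := (Cfsg.Agent.S5124.result p hS F hF).1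
  intro x hx
  have h2 : θ ⟨x, hH₀S hx⟩ ∈ ((F.hyperfocalSubgroup p).subgroupOf S).map θ :=
    ⟨⟨x, hH₀S hx⟩, Subgroup.mem_subgroupOf.mpr hx, rfl⟩
  rw [← h1, Subgroup.mem_bot] at h2
  exact (hfac.2.1 _).mp h2

theorem ker_le_preimage {X : Subgroup Ω} {θ : S →* Ω'} (hXS : X ≤ S)
    (hker : ∀ s : S, θ s = 1 ↔ (s : Ω) ∈ X) (Q' : Subgroup Ω') : X ≤ preimageAlong θ Q' := by
  intro x hx
  refine mem_preimageAlong.mpr ⟨hXS hx, ?_⟩
  rw [(hker ⟨x, hXS hx⟩).mpr hx]
  exact Q'.one_mem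

/-- The automorphism groups of the factor system are `p`-groups if the automorphisms of the system of the
subgroups containing the kernel have `p`-power order. -/
theorem factor_autGroup_isPGroup [Finite S] {p : ℕ} [Fact p.Prime] (hS : IsPGroup p S) {F : FusionSystem S}
    (hF : F.IsSaturated p) {X : Subgroup Ω} (hX : F.StronglyClosed X) {θ : S →* Ω'} {E : FusionSystem S'}
    (hfac : F.IsFactorSystem X θ E)
    (h : ∀ Y : Subgroup Ω, X ≤ Y → Y ≤ S → ∀ α : MulAut Y, IsIso F (α : Y ≃* Y) → ∃ k : ℕ, α ^ p ^ k = 1) :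
    ∀ Y' : Subgroup Ω', Y' ≤ S' → IsPGroup p (E.autGroup Y') := by
  intro Y' hY' β'
  have hsm := Cfsg.Agent.S5134.result p hS F hF X hX θ E hfac
  obtain ⟨ρ, hρs, -⟩ := exists_rho hsm hY'
  obtain ⟨β, rfl⟩ := hρs β'
  have hXY : X ≤ preimageAlong θ Y' := ker_le_preimage hfac.1 hfac.2.1 Y'
  obtain ⟨k, hk⟩ := h _ hXY (preimageAlong_le θ Y') β.1
    ((mem_autGroup_iff F (preimageAlong_le θ Y') _).mp β.2)
  refine ⟨k, ?_⟩
  have h2 : β ^ p ^ k = 1 := Subtype.ext (by simpa using hk)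
  rw [← map_pow, h2, map_one]

/-- If the automorphisms of the system of the subgroups containing the strongly closed subgroup `X` have
`p`-power order, then the hyperfocal subgroup lies in `X`. -/
theorem hyperfocal_le_of_sc [Finite S] {p : ℕ} [Fact p.Prime] (hS : IsPGroup p S) {F : FusionSystem S}
    (hF : F.IsSaturated p) {X : Subgroup Ω} (hX : F.StronglyClosed X)
    (h : ∀ Y : Subgroup Ω, X ≤ Y → Y ≤ S → ∀ α : MulAut Y, IsIso F (α : Y ≃* Y) → ∃ k : ℕ, α ^ p ^ k = 1) :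
    F.hyperfocalSubgroup p ≤ X := by
  haveI := stronglyClosed_subgroupOf_normal hX
  obtain ⟨E, hE⟩ := Cfsg.Agent.S5132.result p hS F X hX
  exact hyperfocal_le_of_factor hS hF hX hE (factor_autGroup_isPGroup hS hF hX hE h)

/-- The order of a full preimage. -/
theorem card_preimageAlong [Finite S] {X : Subgroup Ω} {θ : S →* Ω'} (hXS : X ≤ S)
    (hker : ∀ s : S, θ s = 1 ↔ (s : Ω) ∈ X) {Q' : Subgroup Ω'} (hQ' : Q' ≤ θ.range) :
    Nat.card (preimageAlong θ Q') = Nat.card Q' * Nat.card X := by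
  have hsurj := projAlong_surjective hQ'
  have h1 : Nat.card (projAlong θ Q').ker * Nat.card (projAlong θ Q').range =
      Nat.card (preimageAlong θ Q') := by
    rw [← Subgroup.index_ker]
    exact Subgroup.card_mul_index _
  have h2 : Nat.card (projAlong θ Q').range = Nat.card Q' := by
    rw [MonoidHom.range_eq_top.mpr hsurj, Subgroup.card_top]
  have h3 : Nat.card (projAlong θ Q').ker = Nat.card X := by
    have h4 : (projAlong θ Q').ker.map (preimageAlong θ Q').subtype = X := by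
      ext x
      constructor
      · rintro ⟨y, hy, rfl⟩
        have hy' : projAlong θ Q' y = 1 := hy
        have h5 : θ ⟨y, preimageAlong_le θ Q' y.2⟩ = 1 := by
          rw [← projAlong_coe, hy']
          rfl
        exact (hker _).mp h5
      · intro hx
        have hxP : x ∈ preimageAlong θ Q' := ker_le_preimage hXS hker Q' hx
        refine ⟨⟨x, hxP⟩, ?_, rfl⟩
        show projAlong θ Q' ⟨x, hxP⟩ = 1
        apply Subtype.ext
        rw [projAlong_coe]
        exact (hker ⟨x, hXS hx⟩).mpr hx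
    rw [← h4, Subgroup.card_map_of_injective (Subgroup.subtype_injective _)]
  rw [← h1, h2, h3, mul_comm]

/-- A subgroup of the image whose full preimage is strongly closed is strongly closed in the factor
system. -/
theorem sc_of_preimage_sc {F : FusionSystem S} {X : Subgroup Ω} {θ : S →* Ω'} {E : FusionSystem S'}
    (hfac : F.IsFactorSystem X θ E) {T' : Subgroup Ω'} (hT'S' : T' ≤ S')
    (hT : F.StronglyClosed (preimageAlong θ T')) : E.StronglyClosed T' := by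
  obtain ⟨hXS, hker, hrange, hhom⟩ := hfac
  refine ⟨hT'S', fun R' hR' φ' hφ' x' => ?_⟩
  obtain ⟨hR'S', φ, hφ, hP, hφS, hP', hind⟩ := (hhom R' φ').mp hφ'
  obtain ⟨a, ha⟩ := exists_preimageAlong (hrange ▸ hR'S') x'
  have h1 := hT.2 _ (preimageAlong_mono θ hR') φ hφ a
  have h2 := hind a
  have h3 : (⟨θ ⟨a, hP a.2⟩, hP' a⟩ : R') = x' := Subtype.ext ha
  rw [h3] at h2
  rw [h2]
  exact (mem_preimageAlong.mp h1).2

theorem imageAlong_sup (θ : S →* Ω') {A B : Subgroup Ω} (hA : A ≤ S) (hB : B ≤ S) :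
    imageAlong θ (A ⊔ B) = imageAlong θ A ⊔ imageAlong θ B := by
  unfold imageAlong
  rw [Subgroup.subgroupOf_sup hA hB, Subgroup.map_sup]

theorem preimageAlong_inf (θ : S →* Ω') (A' B' : Subgroup Ω') :
    preimageAlong θ (A' ⊓ B') = preimageAlong θ A' ⊓ preimageAlong θ B' := by
  ext x
  constructor
  · intro hx
    obtain ⟨hxS, hx1, hx2⟩ := mem_preimageAlong.mp hx
    exact ⟨mem_preimageAlong.mpr ⟨hxS, hx1⟩, mem_preimageAlong.mpr ⟨hxS, hx2⟩⟩
  · rintro ⟨hx1, hx2⟩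
    obtain ⟨hxS, hx1'⟩ := mem_preimageAlong.mp hx1
    obtain ⟨_, hx2'⟩ := mem_preimageAlong.mp hx2
    exact mem_preimageAlong.mpr ⟨hxS, hx1', hx2'⟩

theorem imageAlong_le_range (θ : S →* Ω') (A : Subgroup Ω) : imageAlong θ A ≤ θ.range := by
  rintro _ ⟨s, -, rfl⟩
  exact ⟨s, rfl⟩

/-- `W1` passes to factor systems. -/
theorem W1_factor [Finite S] {p : ℕ} [Fact p.Prime] (hS : IsPGroup p S) {F : FusionSystem S}
    (hF : F.IsSaturated p) {X : Subgroup Ω} (hX : F.StronglyClosed X) {θ : S →* Ω'} {E : FusionSystem S'}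
    (hfac : F.IsFactorSystem X θ E) {b c : ℕ} (hcb : c ≤ b) (hXc : Nat.card X = p ^ c)
    (h : W1 F (p ^ b)) : W1 E (p ^ (b - c)) := by
  have sup_sc : ∀ T₁ T₂ : Subgroup Ω, F.StronglyClosed T₁ → F.StronglyClosed T₂ →
      F.StronglyClosed (T₁ ⊔ T₂) := fun T₁ T₂ h₁ h₂ => Cfsg.Agent.S5128.result p hS F hF T₁ T₂ h₁ h₂
  have hfac' := hfac
  obtain ⟨hXS, hker, hrange, -⟩ := hfac'
  intro Q' hQ'S' hQ'd
  have hQ'r : Q' ≤ θ.range := hrange ▸ hQ'S'
  have hQS : preimageAlong θ Q' ≤ S := preimageAlong_le θ Q'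
  have hQcard : Nat.card (preimageAlong θ Q') = p ^ b := by
    rw [card_preimageAlong hXS hker hQ'r, hQ'd, hXc, ← pow_add]
    congr 1
    omega
  have hXQ : X ≤ preimageAlong θ Q' := ker_le_preimage hXS hker Q'
  obtain ⟨P, hP, hB, hA⟩ := h _ hQS hQcard
  have hPX : F.StronglyClosed (P ⊔ X) := sup_sc _ _ hP hX
  have hPXS : P ⊔ X ≤ S := hPX.1
  have hpre : preimageAlong θ (imageAlong θ (P ⊔ X)) = P ⊔ X :=
    preimageAlong_imageAlong θ hker le_sup_right hPXS
  have himS' : ∀ A : Subgroup Ω, imageAlong θ A ≤ S' := fun A => hrange ▸ imageAlong_le_range θ A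
  refine ⟨imageAlong θ (P ⊔ X), sc_of_preimage_sc hfac (himS' _) (by rw [hpre]; exact hPX), ?_, ?_⟩
  · have h1 : Q' ⊔ imageAlong θ (P ⊔ X) = imageAlong θ (preimageAlong θ Q' ⊔ P) := by
      have h2 : preimageAlong θ Q' ⊔ P = preimageAlong θ Q' ⊔ (P ⊔ X) := by
        rw [sup_comm P X, ← sup_assoc, sup_eq_left.mpr hXQ]
      rw [h2, imageAlong_sup θ hQS hPXS, imageAlong_preimageAlong hQ'r]
    rw [h1]
    refine sc_of_preimage_sc hfac (himS' _) ?_
    rw [preimageAlong_imageAlong θ hker (hXQ.trans le_sup_left) hB.1]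
    exact hB
  · refine sc_of_preimage_sc hfac (inf_le_left.trans hQ'S') ?_
    rw [preimageAlong_inf, hpre]
    have hXnP : X ≤ Subgroup.normalizer (P : Set Ω) := hXS.trans (le_normalizer_of_stronglyClosed hP)
    have h2 : preimageAlong θ Q' ⊓ (P ⊔ X) = X ⊔ (P ⊓ preimageAlong θ Q') := by
      rw [← modular hXQ hXnP, inf_comm, sup_comm]
    rw [h2]
    refine sup_sc _ _ hX ?_
    rw [inf_comm]
    exact hA

theorem IndAut.pow' {θ : S →* Ω'} {Q' : Subgroup Ω'} {β : MulAut ↥(preimageAlong θ Q')} {β' : MulAut ↥Q'}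
    (h : IndAut θ Q' β β') (n : ℕ) : IndAut θ Q' (β ^ n) (β' ^ n) := by
  induction n with
  | zero =>
    rw [pow_zero, pow_zero]
    exact IndAut.one
  | succ n ih =>
    rw [pow_succ, pow_succ]
    exact IndAut.mul ih h

/-- `W2` passes to factor systems. -/
theorem W2_factor [Finite S] {p : ℕ} [Fact p.Prime] (hS : IsPGroup p S) {F : FusionSystem S}
    (hF : F.IsSaturated p) {X : Subgroup Ω} (hX : F.StronglyClosed X) {θ : S →* Ω'} {E : FusionSystem S'}
    (hfac : F.IsFactorSystem X θ E) {b c : ℕ} (hcb : c ≤ b) (hXc : Nat.card X = p ^ c)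
    (h : W2 p F (p ^ b)) : W2 p E (p ^ (b - c)) := by
  have hsm := Cfsg.Agent.S5134.result p hS F hF X hX θ E hfac
  obtain ⟨hXS, hker, hrange, -⟩ := hfac
  intro H' hH'S' hH'd Y' hH'Y' hY'N α' hα' hα'H
  have hY'S' : Y' ≤ S' := hα'.le_left
  have hY'r : Y' ≤ θ.range := hrange ▸ hY'S'
  obtain ⟨β, hβ, hind⟩ := exists_indAut_of_mem' hsm hY'S' ((mem_autGroup_iff E hY'S' α').mpr hα')
  have hHcard : Nat.card (preimageAlong θ H') = p ^ b := by
    rw [card_preimageAlong hXS hker (hrange ▸ hH'S'), hH'd, hXc, ← pow_add]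
    congr 1
    omega
  have hHY : preimageAlong θ H' ≤ preimageAlong θ Y' := preimageAlong_mono θ hH'Y'
  have hYN : preimageAlong θ Y' ≤ normalizerIn S (preimageAlong θ H') := by
    intro x hx
    obtain ⟨hxS, hxY⟩ := mem_preimageAlong.mp hx
    refine ⟨hxS, ?_⟩
    haveI : Finite (preimageAlong θ H') := finite_of_le (preimageAlong_le θ H')
    apply mem_normalizer_of_conj_mem
    intro y hy
    obtain ⟨hyS, hyH⟩ := mem_preimageAlong.mp hy
    refine mem_preimageAlong.mpr ⟨S.mul_mem (S.mul_mem hxS hyS) (S.inv_mem hxS), ?_⟩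
    have h3 : (⟨x * y * x⁻¹, S.mul_mem (S.mul_mem hxS hyS) (S.inv_mem hxS)⟩ : S) =
        ⟨x, hxS⟩ * ⟨y, hyS⟩ * ⟨x, hxS⟩⁻¹ := rfl
    rw [h3, map_mul, map_mul, map_inv]
    have h4 : θ ⟨x, hxS⟩ ∈ Subgroup.normalizer (H' : Set Ω') := (hY'N hxY).2
    rw [Subgroup.mem_normalizer_iff] at h4
    exact (h4 _).mp hyH
  have hpres : ∀ y : preimageAlong θ Y', (y : Ω) ∈ preimageAlong θ H' →
      ((β y : preimageAlong θ Y') : Ω) ∈ preimageAlong θ H' := by
    intro y hy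
    obtain ⟨hyS, hyH⟩ := mem_preimageAlong.mp hy
    refine mem_preimageAlong.mpr ⟨preimageAlong_le θ Y' (β y).2, ?_⟩
    have h3 := hind y
    have h4 : θ ⟨(β y : preimageAlong θ Y'), preimageAlong_le θ Y' (β y).2⟩ =
        ((α' (projAlong θ Y' y) : Y') : Ω') := (congrArg (fun w : Y' => (w : Ω')) h3).symm
    rw [h4]
    exact hα'H _ hyH
  obtain ⟨k, hk⟩ := h _ (preimageAlong_le θ H') hHcard _ hHY hYN β
    ((mem_autGroup_iff F (preimageAlong_le θ Y') β).mp hβ) hpres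
  refine ⟨k, ?_⟩
  have h5 := IndAut.pow' hind (p ^ k)
  rw [hk] at h5
  exact IndAut.unique hY'r h5 IndAut.one

end factor

end Cfsg.Agent.Lib.Helper27.WE
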