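import Mathlib
import Cfsg.Agent.Lib.Helper27.WEB
import Cfsg.Agent.Lib.Helper27.FusionRadical
import Cfsg.Agent.Lib.Helper1.Cores

set_option autoImplicit false

/-! Weakly embedded subgroups of one order: two criteria for a saturated system to be inner
(a subsystem of `p`-power index which is inner; a central strongly closed subgroup containing the
hyperfocal subgroup). -/

namespace Cfsg.Agent.Lib.Helper27.WE

open Cfsg Cfsg.FusionSystem Cfsg.Agent.Lib.Helper27 Cfsg.Agent.H26 Cfsg.Agent.Lib.Helper27.LG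

universe u

variable {Ω : Type u} [Group Ω] {S : Subgroup Ω}

theorem finite_mulAut (R : Subgroup Ω) [Finite R] : Finite (MulAut R) :=
  Finite.of_injective (fun e : MulAut R => (e : R → R)) (fun e e' h => MulEquiv.ext (congrFun h))

/-- Automorphisms of the system preserve strongly closed subgroups. -/
theorem sc_aut_mem {F : FusionSystem S} {T : Subgroup Ω} (hT : F.StronglyClosed T) {R : Subgroup Ω}
    {γ : MulAut R} (hγ : IsIso F (γ : R ≃* R)) (x : R) (hx : (x : Ω) ∈ T) : ((γ x : R) : Ω) ∈ T :=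
  hT.2 (R ⊓ T) inf_le_right _ (hom_restrict F inf_le_left hγ) ⟨x, ⟨x.2, hx⟩⟩

/-- The automorphisms in `Aut_F(R)` fixing `R ∩ T` elementwise. -/
def fixSub (F : FusionSystem S) (R T : Subgroup Ω) : Subgroup (F.autGroup R) where
  carrier := {β | ∀ x : R, (x : Ω) ∈ T → (β : MulAut R) x = x}
  one_mem' := fun _ _ => rfl
  mul_mem' := by
    intro a b ha hb x hx
    show (a : MulAut R) ((b : MulAut R) x) = x
    rw [hb x hx, ha x hx]
  inv_mem' := by
    intro a ha x hx
    show (a : MulAut R)⁻¹ x = x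
    have h1 := ha x hx
    calc (a : MulAut R)⁻¹ x = (a : MulAut R)⁻¹ ((a : MulAut R) x) := by rw [h1]
      _ = x := MulAut.inv_apply_self _ _ _

theorem mem_fixSub {F : FusionSystem S} {R T : Subgroup Ω} {β : F.autGroup R} :
    β ∈ fixSub F R T ↔ ∀ x : R, (x : Ω) ∈ T → (β : MulAut R) x = x := Iff.rfl

theorem fixSub_normal {F : FusionSystem S} {R T : Subgroup Ω} (hRS : R ≤ S) (hT : F.StronglyClosed T) :
    (fixSub F R T).Normal := by
  constructor
  intro β hβ α x hx
  show (α : MulAut R) ((β : MulAut R) ((α : MulAut R)⁻¹ x)) = x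
  have hαinv : IsIso F (((α⁻¹ : F.autGroup R) : MulAut R) : R ≃* R) :=
    (mem_autGroup_iff F hRS _).mp (α⁻¹).2
  have h1 : (((α : MulAut R)⁻¹ x : R) : Ω) ∈ T := sc_aut_mem hT hαinv x hx
  rw [hβ _ h1]
  exact MulAut.apply_inv_self _ _ _

theorem fixSub_isPGroup [Finite S] {p : ℕ} [Fact p.Prime] (hS : IsPGroup p S) {F : FusionSystem S}
    {R T : Subgroup Ω} (hRS : R ≤ S) (hTS : T ≤ S) (hH₀ : F.hyperfocalSubgroup p ≤ T) :
    IsPGroup p (fixSub F R T) := by
  haveI : Finite R := finite_of_le hRS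
  haveI : Finite (MulAut R) := finite_mulAut R
  have hTp : IsPGroup p T := hS.to_le hTS
  apply isPGroup_of_coprime_trivial
  intro β m hm hβ
  have hβ' : (β : F.autGroup R) ^ m = 1 := by
    have := congrArg (fun w : fixSub F R T => (w : F.autGroup R)) hβ
    simpa using this
  have hord : (orderOf (β : F.autGroup R)).Coprime p :=
    Nat.Coprime.coprime_dvd_left (orderOf_dvd_of_pow_eq_one hβ') hm
  have hres : (β : F.autGroup R) ∈ pResidual p (F.autGroup R) :=
    Cfsg.Agent.Lib.Helper17.mem_pResidual_of_coprime hord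
  have hβ'' : ((β : F.autGroup R) : MulAut R) ^ m = 1 := by
    have := congrArg (fun w : F.autGroup R => (w : MulAut R)) hβ'
    simpa using this
  have h1 : ((β : F.autGroup R) : MulAut R) = 1 := by
    refine eq_one_of_stabilizes hTp _ (fun x hx => β.2 x hx) (fun x => ?_) hm hβ''
    have h2 := mem_hyperfocal F p hRS (β : F.autGroup R) hres x
    exact hH₀ h2
  apply Subtype.ext
  apply Subtype.ext
  exact h1

/-- **Central strongly closed subgroup containing the hyperfocal subgroup.** If `T` is strongly closed in the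
saturated system `F`, central in `S`, contains the hyperfocal subgroup, and `Aut_F(S) = Inn(S)`, then
`F` is the inner system. -/
theorem inner_of_central_sc [Finite S] {p : ℕ} [Fact p.Prime] (hS : IsPGroup p S) {F : FusionSystem S}
    (hF : F.IsSaturated p) {T : Subgroup Ω} (hT : F.StronglyClosed T)
    (hTZ : ∀ t ∈ T, ∀ s ∈ S, s * t = t * s) (hH₀ : F.hyperfocalSubgroup p ≤ T)
    (htop : ∀ α : S ≃* S, IsIso F α → IsIso (innerFusionSystem S) α) (P : Subgroup Ω) :
    F.Hom P = (innerFusionSystem S).Hom P := by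
  apply Set.Subset.antisymm _ (inner_le F P)
  apply alperin hS hF (innerFusionSystem S) htop
  intro R hR hfn hc hr
  exfalso
  obtain ⟨g, hgN, hgR⟩ := exists_mem_normalizerIn_not_mem hS hR
  refine not_isRadical_of_conjAutHom_mem_pCore hc hgN hgR ?_ hr
  have hRS : R ≤ S := hR.le
  have h1 : conjAutHom S R ⟨g, hgN⟩ ∈ autInducedBy S R := by
    rw [← conjAutHom_range]
    exact ⟨_, rfl⟩
  have h1A : conjAutHom S R ⟨g, hgN⟩ ∈ F.autGroup R := autInducedBy_le_autGroup F hRS h1
  have h2 : (⟨conjAutHom S R ⟨g, hgN⟩, h1A⟩ : F.autGroup R) ∈ fixSub F R T := by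
    intro x hx
    apply Subtype.ext
    show ((conjAutHom S R ⟨g, hgN⟩ x : R) : Ω) = x
    rw [conjAutHom_apply]
    show g * (x : Ω) * g⁻¹ = x
    rw [hTZ x hx g hgN.1, mul_inv_cancel_right]
  have h3 := Cfsg.Agent.Lib.Helper1.le_pCore (fixSub_normal hRS hT)
    (fixSub_isPGroup hS hRS hT.1 hH₀) h2
  exact ⟨_, h3, rfl⟩

/-- Restriction of an automorphism of the system to the intersection with a strongly closed subgroup. -/
theorem exists_restrict_aut [Finite S] {F : FusionSystem S} {X T : Subgroup Ω} (hT : F.StronglyClosed T)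
    {α : MulAut X} (hα : IsIso F (α : X ≃* X)) :
    ∃ e : MulAut (X ⊓ T : Subgroup Ω), IsIso F (e : (X ⊓ T : Subgroup Ω) ≃* (X ⊓ T : Subgroup Ω)) ∧
      ∀ w : (X ⊓ T : Subgroup Ω), ((e w : (X ⊓ T : Subgroup Ω)) : Ω) = ((α ⟨w, w.2.1⟩ : X) : Ω) := by
  have hXS : X ≤ S := hα.le_left
  have hle : X ⊓ T ≤ X := inf_le_left
  have hφ := hom_restrict F hle hα
  have hinj := F.injective_of_mem hφ
  haveI : Finite (X ⊓ T : Subgroup Ω) := finite_of_le (hle.trans hXS)
  have hrange : ((X.subtype.comp (α : X ≃* X).toMonoidHom).comp (Subgroup.inclusion hle)).range = X ⊓ T := by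
    have h1 : ((X.subtype.comp (α : X ≃* X).toMonoidHom).comp (Subgroup.inclusion hle)).range ≤ X ⊓ T := by
      rintro _ ⟨w, rfl⟩
      exact ⟨(α _).2, hT.2 (X ⊓ T) inf_le_right _ hφ w⟩
    apply Subgroup.eq_of_le_of_card_ge h1
    exact le_of_eq (Nat.card_congr (MonoidHom.ofInjective hinj).toEquiv)
  obtain ⟨e, he, hex⟩ := exists_isIso_of_hom F hφ hrange
  exact ⟨e, he, fun w => hex w⟩

theorem pow_restrict {X W : Subgroup Ω} (hWX : W ≤ X) {α : MulAut X} {e : MulAut W}
    (h : ∀ w : W, ((e w : W) : Ω) = ((α ⟨w, hWX w.2⟩ : X) : Ω)) (k : ℕ) :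
    ∀ w : W, (((e ^ k) w : W) : Ω) = (((α ^ k) ⟨w, hWX w.2⟩ : X) : Ω) := by
  induction k with
  | zero => intro w; rfl
  | succ k ih =>
    intro w
    rw [pow_succ', pow_succ', MulAut.mul_apply, MulAut.mul_apply, h]
    congr 2
    exact Subtype.ext (ih w)

/-- **Subsystem of `p`-power index.** If a subsystem of `p`-power index of the saturated system `F` is
inner, then `F` is inner. -/
theorem inner_of_ppower_index [Finite S] {p : ℕ} [Fact p.Prime] (hS : IsPGroup p S) {F : FusionSystem S}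
    (hF : F.IsSaturated p) {M : Subgroup Ω} (hMS : M ≤ S)
    {E : FusionSystem M} (hEF : E.HasPPowerIndexIn F p)
    (hE : ∀ P : Subgroup Ω, E.Hom P = (innerFusionSystem M).Hom P) (P : Subgroup Ω) :
    F.Hom P = (innerFusionSystem S).Hom P := by
  have hMp : IsPGroup p M := hS.to_le hMS
  have hH₀sc : F.StronglyClosed (F.hyperfocalSubgroup p) := Cfsg.Agent.S5124.result p hS F hF
  have hH₀M : F.hyperfocalSubgroup p ≤ M := hEF.2.1
  have hH₀p : IsPGroup p (F.hyperfocalSubgroup p) := hS.to_le hH₀sc.1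
  -- automorphisms of order prime to `p` of subgroups of `M` are trivial
  have claimA : ∀ W : Subgroup Ω, W ≤ M → ∀ γ : F.autGroup W, ∀ m : ℕ, m.Coprime p → γ ^ m = 1 → γ = 1 := by
    intro W hW γ m hm hγ
    have hord : (orderOf γ).Coprime p :=
      Nat.Coprime.coprime_dvd_left (orderOf_dvd_of_pow_eq_one hγ) hm
    have hres : γ ∈ pResidual p (F.autGroup W) := Cfsg.Agent.Lib.Helper17.mem_pResidual_of_coprime hord
    have h1 : (γ : MulAut W) ∈ E.autGroup W := hEF.2.2 W hW ⟨γ, hres, rfl⟩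
    have h2 : E.autGroup W = autInducedBy M W := by
      rw [← inner_autGroup_eq hW]
      unfold autGroup
      rw [hE W]
    have h3 : IsPGroup p (E.autGroup W) := by
      rw [h2]
      exact isPGroup_autInducedBy hMp W
    have h4 : (⟨(γ : MulAut W), h1⟩ : E.autGroup W) ^ m = 1 := by
      apply Subtype.ext
      have := congrArg (fun w : F.autGroup W => (w : MulAut W)) hγ
      simpa using this
    have h5 := eq_one_of_pprime h3 hm h4
    apply Subtype.ext
    exact congrArg (fun w : E.autGroup W => (w : MulAut W)) h5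
  apply hom_eq_inner_of_autGroup_isPGroup hS hF
  intro X hX
  haveI : Finite X := finite_of_le hX
  haveI : Finite (MulAut X) := finite_mulAut X
  apply isPGroup_of_coprime_trivial
  intro β m hm hβ
  have hord : (orderOf β).Coprime p :=
    Nat.Coprime.coprime_dvd_left (orderOf_dvd_of_pow_eq_one hβ) hm
  have hres : β ∈ pResidual p (F.autGroup X) := Cfsg.Agent.Lib.Helper17.mem_pResidual_of_coprime hord
  have hβiso : IsIso F ((β : MulAut X) : X ≃* X) := (mem_autGroup_iff F hX _).mp β.2
  obtain ⟨e, he, hex⟩ := exists_restrict_aut hH₀sc hβiso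
  have hWM : X ⊓ F.hyperfocalSubgroup p ≤ M := inf_le_right.trans hH₀M
  have hWS : X ⊓ F.hyperfocalSubgroup p ≤ S := hWM.trans hMS
  have hβm : (β : MulAut X) ^ m = 1 := by
    have := congrArg (fun w : F.autGroup X => (w : MulAut X)) hβ
    simpa using this
  have hem : e ^ m = 1 := by
    ext w
    have h1 := pow_restrict (inf_le_left : X ⊓ F.hyperfocalSubgroup p ≤ X) hex m w
    rw [hβm] at h1
    exact h1
  have heA : e ∈ F.autGroup (X ⊓ F.hyperfocalSubgroup p) := (mem_autGroup_iff F hWS e).mpr he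
  have he1 : (⟨e, heA⟩ : F.autGroup (X ⊓ F.hyperfocalSubgroup p)) = 1 :=
    claimA _ hWM ⟨e, heA⟩ m hm (Subtype.ext hem)
  have he1' : e = 1 := congrArg Subtype.val he1
  have h1 : (β : MulAut X) = 1 := by
    refine eq_one_of_stabilizes hH₀p _ (fun x hx => ?_) (fun x => ?_) hm hβm
    · have h2 := hex ⟨x, ⟨x.2, hx⟩⟩
      rw [he1'] at h2
      apply Subtype.ext
      exact h2.symm
    · exact mem_hyperfocal F p hX β hres x
  apply Subtype.ext
  exact h1

end Cfsg.Agent.Lib.Helper27.WE
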