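import Mathlib
import Cfsg.Agent.Lib.Helper27.WEC
import Cfsg.Agent.Lib.Helper1.Extraspecial
import Cfsg.Agent.Lib.Helper1.Frattini
import Cfsg.Agent.S5092
import Cfsg.Agent.S5113
import Cfsg.Agent.S5133

set_option autoImplicit false

/-! Weakly embedded subgroups of one order: the main induction. -/

namespace Cfsg.Agent.Lib.Helper27.WE

open Cfsg Cfsg.FusionSystem Cfsg.Agent.Lib.Helper27 Cfsg.Agent.H26 Cfsg.Agent.Lib.Helper27.LG
  Cfsg.Agent.Lib.Helper27.Tate
open scoped commutatorElement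

universe u

variable {Ω : Type u} [Group Ω] {S : Subgroup Ω}

/-- A strongly closed subgroup of order `p` is central in `S`. -/
theorem central_of_sc_card_p [Finite S] {p : ℕ} [Fact p.Prime] (hS : IsPGroup p S) {F : FusionSystem S}
    {T : Subgroup Ω} (hT : F.StronglyClosed T) (hTc : Nat.card T = p) :
    ∀ t ∈ T, ∀ s ∈ S, s * t = t * s := by
  haveI := stronglyClosed_subgroupOf_normal hT
  have hc : Nat.card (T.subgroupOf S) = p := by
    rw [← hTc]
    exact Nat.card_congr (Subgroup.subgroupOfEquivOfLe hT.1).toEquiv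
  have h1 := Cfsg.Agent.Lib.Helper1.le_center_of_normal_of_card_prime hS (T.subgroupOf S) hc
  intro t ht s hs
  have h2 : (⟨t, hT.1 ht⟩ : S) ∈ Subgroup.center S := h1 (Subgroup.mem_subgroupOf.mpr ht)
  have h3 := Subgroup.mem_center_iff.mp h2 ⟨s, hs⟩
  exact congrArg (fun w : S => (w : Ω)) h3

theorem index_subgroupOf_of_card [Finite S] {p : ℕ} [Fact p.Prime] {b : ℕ}
    (hcard : Nat.card S = p ^ (b + 1)) {Q : Subgroup Ω} (hQS : Q ≤ S) (hQc : Nat.card Q = p ^ b) :
    (Q.subgroupOf S).index = p := by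
  have hp : p.Prime := Fact.out
  have hc : Nat.card (Q.subgroupOf S) = p ^ b := by
    rw [← hQc]
    exact Nat.card_congr (Subgroup.subgroupOfEquivOfLe hQS).toEquiv
  have h1 := (Q.subgroupOf S).card_mul_index
  rw [hc, hcard, pow_succ] at h1
  exact Nat.eq_of_mul_eq_mul_left (pow_pos hp.pos b) h1

/-- Commutators of `S` lie in every subgroup of index `p`. -/
theorem comm_mem_of_index_p [Finite S] {p : ℕ} [Fact p.Prime] (hS : IsPGroup p S) {b : ℕ}
    (hcard : Nat.card S = p ^ (b + 1)) {Q : Subgroup Ω} (hQS : Q ≤ S) (hQc : Nat.card Q = p ^ b) :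
    ∀ g ∈ S, ∀ x ∈ S, x⁻¹ * (g * x * g⁻¹) ∈ Q := by
  have hp : p.Prime := Fact.out
  have hidx := index_subgroupOf_of_card hcard hQS hQc
  have hco : IsCoatom (Q.subgroupOf S) :=
    Cfsg.Agent.Lib.Helper1.isCoatom_of_index_prime (by rw [hidx]; exact hp)
  have hΦ : frattini S ≤ Q.subgroupOf S := frattini_le_coatom hco
  intro g hg x hx
  obtain ⟨y, hy, hyx⟩ := comm_mem_frattini hS hg hx
  have h1 := hΦ hy
  rw [Subgroup.mem_subgroupOf] at h1
  rw [← hyx]
  exact h1

/-- A strongly closed subgroup of index `p` contains the hyperfocal subgroup, if `Aut_F(S) = Inn(S)`. -/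
theorem hyperfocal_le_of_sc_index_p [Finite S] {p : ℕ} [Fact p.Prime] (hS : IsPGroup p S)
    {F : FusionSystem S} (hF : F.IsSaturated p) {b : ℕ} (hcard : Nat.card S = p ^ (b + 1))
    {Q : Subgroup Ω} (hQ : F.StronglyClosed Q) (hQc : Nat.card Q = p ^ b)
    (htop : ∀ α : S ≃* S, IsIso F α → IsIso (innerFusionSystem S) α) :
    F.hyperfocalSubgroup p ≤ Q := by
  have hU := comm_mem_of_index_p hS hcard hQ.1 hQc
  have h1 : F.focalSubgroup ≤ Q := by
    refine focal_le_of_stronglyClosed hS hF hQ hU ?_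
    intro α hα x
    obtain ⟨-, g, hg, h⟩ := htop α hα
    have h2 : ((α x : S) : Ω) = g * (x : Ω) * g⁻¹ := h x
    rw [h2]
    exact hU g hg _ x.2
  rw [Cfsg.Agent.S5092.result p hS F hF] at h1
  exact le_sup_left.trans h1

/-- If every subgroup of index `p` contains the hyperfocal subgroup, the focal subgroup lies in the
Frattini subgroup. -/
theorem focal_le_frattini_of_forall [Finite S] {p : ℕ} [Fact p.Prime] (hS : IsPGroup p S)
    {F : FusionSystem S} (hF : F.IsSaturated p) {b : ℕ} (hcard : Nat.card S = p ^ (b + 1))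
    (h : ∀ Q : Subgroup Ω, Q ≤ S → Nat.card Q = p ^ b → F.hyperfocalSubgroup p ≤ Q) :
    F.focalSubgroup ≤ (frattini ↥S).map S.subtype := by
  have hp : p.Prime := Fact.out
  rw [Cfsg.Agent.S5092.result p hS F hF]
  apply sup_le
  · have hH₀S : F.hyperfocalSubgroup p ≤ S := (Cfsg.Agent.S5124.result p hS F hF).1
    have h1 : (F.hyperfocalSubgroup p).subgroupOf S ≤ frattini S := by
      rw [Cfsg.Agent.Lib.Helper1.le_frattini_iff]
      intro M hM
      have hidx := Cfsg.Agent.Lib.Helper1.IsPGroup.index_of_isCoatom hS hM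
      have hMc : Nat.card (M.map S.subtype) = p ^ b := by
        rw [Subgroup.card_map_of_injective S.subtype_injective]
        have h2 := M.card_mul_index
        rw [hidx, hcard, pow_succ] at h2
        exact Nat.eq_of_mul_eq_mul_right hp.pos h2
      have h3 := h _ (Subgroup.map_subtype_le M) hMc
      intro y hy
      rw [Subgroup.mem_subgroupOf] at hy
      obtain ⟨z, hz, hzy⟩ := h3 hy
      have : z = y := Subtype.ext hzy
      rw [← this]
      exact hz
    intro x hx
    exact ⟨⟨x, hH₀S hx⟩, h1 (Subgroup.mem_subgroupOf.mpr hx), rfl⟩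
  · rw [Subgroup.commutator_le]
    intro g₁ hg₁ g₂ hg₂
    have h1 := comm_mem_frattini hS hg₂ (S.inv_mem hg₁)
    have h2 : ⁅g₁, g₂⁆ = g₁⁻¹⁻¹ * (g₂ * g₁⁻¹ * g₂⁻¹) := by
      rw [commutatorElement_def]
      group
    rw [h2]
    exact h1

/-- A subgroup strictly between a subgroup of index `p` and `S` does not exist. -/
theorem eq_of_le_of_ne_top [Finite S] {p : ℕ} [Fact p.Prime] (hS : IsPGroup p S) {b : ℕ}
    (hcard : Nat.card S = p ^ (b + 1)) {Q Z : Subgroup Ω} (hQZ : Q ≤ Z) (hZS : Z ≤ S) (hZne : Z ≠ S)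
    (hQc : Nat.card Q = p ^ b) : Z = Q := by
  have hp : p.Prime := Fact.out
  obtain ⟨j, hj⟩ := exists_card_pow hS hZS
  have hlt : Nat.card Z < Nat.card S := card_lt_of_lt le_rfl (lt_of_le_of_ne hZS hZne)
  rw [hj, hcard] at hlt
  have hjb : j < b + 1 := (Nat.pow_lt_pow_iff_right hp.one_lt).mp hlt
  haveI : Finite Z := finite_of_le hZS
  symm
  apply Subgroup.eq_of_le_of_card_ge hQZ
  rw [hj, hQc]
  exact Nat.pow_le_pow_right hp.pos (by omega)

/-- The order of a strongly closed complement to a subgroup of index `p`. -/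
theorem card_eq_p_of_complement [Finite S] {p : ℕ} [Fact p.Prime] {F : FusionSystem S} {b : ℕ}
    (hcard : Nat.card S = p ^ (b + 1)) {Q P : Subgroup Ω} (hQS : Q ≤ S) (hQc : Nat.card Q = p ^ b)
    (hP : F.StronglyClosed P) (hsup : Q ⊔ P = S) (hinf : Q ⊓ P = ⊥) : Nat.card P = p := by
  have hp : p.Prime := Fact.out
  haveI := stronglyClosed_subgroupOf_normal hP
  have hQ₁c : Nat.card (Q.subgroupOf S) = p ^ b := by
    rw [← hQc]
    exact Nat.card_congr (Subgroup.subgroupOfEquivOfLe hQS).toEquiv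
  have hP₁c : Nat.card (P.subgroupOf S) = Nat.card P :=
    Nat.card_congr (Subgroup.subgroupOfEquivOfLe hP.1).toEquiv
  have h1 : P.subgroupOf S ⊔ Q.subgroupOf S = ⊤ := by
    rw [← Subgroup.subgroupOf_sup hP.1 hQS, sup_comm, hsup, Subgroup.subgroupOf_self]
  have h2 : P.subgroupOf S ⊓ Q.subgroupOf S = ⊥ := by
    rw [eq_bot_iff]
    intro x hx
    have h3 : (x : Ω) ∈ Q ⊓ P := ⟨Subgroup.mem_subgroupOf.mp hx.2, Subgroup.mem_subgroupOf.mp hx.1⟩
    rw [hinf, Subgroup.mem_bot] at h3
    rw [Subgroup.mem_bot]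
    exact Subtype.ext h3
  have h4 : (P.subgroupOf S).index = p ^ b := by
    rw [← Subgroup.relIndex_top_right, ← h1, Subgroup.relIndex_sup_left, ← Subgroup.inf_relIndex_right, h2,
      Subgroup.relIndex_bot_left, hQ₁c]
  have h5 := (P.subgroupOf S).card_mul_index
  rw [h4, hcard, hP₁c, pow_succ, mul_comm] at h5
  exact Nat.eq_of_mul_eq_mul_left (pow_pos hp.pos b) h5

/-- The automorphism groups of a system whose maps are those of the inner system are `p`-groups. -/
theorem autGroup_isPGroup_of_inner {Ω' : Type*} [Group Ω'] {S' : Subgroup Ω'} {p : ℕ} (hS' : IsPGroup p S')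
    {E : FusionSystem S'} (hE : ∀ P : Subgroup Ω', E.Hom P = (innerFusionSystem S').Hom P) :
    ∀ Y' : Subgroup Ω', Y' ≤ S' → IsPGroup p (E.autGroup Y') := by
  intro Y' hY'
  have h2 : E.autGroup Y' = autInducedBy S' Y' := by
    rw [← inner_autGroup_eq hY']
    unfold autGroup
    rw [hE Y']
  rw [h2]
  exact isPGroup_autInducedBy hS' Y'

/-- **Induction through the factor system**: a nontrivial strongly closed subgroup of order less than
`p ^ b` contains the hyperfocal subgroup, if the theorem holds for smaller groups. -/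
theorem hyperfocal_le_of_quotient [Finite S] {p : ℕ} [Fact p.Prime] (hS : IsPGroup p S)
    {F : FusionSystem S} (hF : F.IsSaturated p) {a b c : ℕ} (hc : 0 < c) (hcb : c < b) (hba : b < a)
    (hcard : Nat.card S = p ^ a) (h1 : W1 F (p ^ b)) (h2 : W2 p F (p ^ b)) {X : Subgroup Ω}
    (hX : F.StronglyClosed X) (hXc : Nat.card X = p ^ c)
    (IH : ∀ (Ω' : Type u) [Group Ω'] (S' : Subgroup Ω') [Finite S'], IsPGroup p S' →
      ∀ E : FusionSystem S', E.IsSaturated p → ∀ b' : ℕ, 0 < b' → b' < a - c →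
      Nat.card S' = p ^ (a - c) → W1 E (p ^ b') → W2 p E (p ^ b') →
      ∀ P : Subgroup Ω', E.Hom P = (innerFusionSystem S').Hom P) :
    F.hyperfocalSubgroup p ≤ X := by
  have hp : p.Prime := Fact.out
  haveI := stronglyClosed_subgroupOf_normal hX
  obtain ⟨E, hE⟩ := Cfsg.Agent.S5132.result p hS F X hX
  have hsm := Cfsg.Agent.S5134.result p hS F hF X hX _ E hE
  have hEsat : E.IsSaturated p := Cfsg.Agent.S5133.result p hS F hF E _ hsm
  have hS'p : IsPGroup p (⊤ : Subgroup (S ⧸ X.subgroupOf S)) :=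
    (hS.to_quotient (X.subgroupOf S)).to_subgroup _
  have hS'c : Nat.card (⊤ : Subgroup (S ⧸ X.subgroupOf S)) = p ^ (a - c) := by
    rw [Subgroup.card_top]
    have h3 := Subgroup.card_eq_card_quotient_mul_card_subgroup (X.subgroupOf S)
    have h4 : Nat.card (X.subgroupOf S) = p ^ c := by
      rw [← hXc]
      exact Nat.card_congr (Subgroup.subgroupOfEquivOfLe hX.1).toEquiv
    rw [hcard, h4] at h3
    have h5 : p ^ a = p ^ (a - c) * p ^ c := by
      rw [← pow_add]
      congr 1
      omega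
    rw [h5] at h3
    exact (Nat.eq_of_mul_eq_mul_right (pow_pos hp.pos c) h3).symm
  have hEin := IH (S ⧸ X.subgroupOf S) ⊤ hS'p E hEsat (b - c) (by omega) (by omega) hS'c
    (W1_factor hS hF hX hE hcb.le hXc h1) (W2_factor hS hF hX hE hcb.le hXc h2)
  exact hyperfocal_le_of_factor hS hF hX hE (autGroup_isPGroup_of_inner hS'p hEin)

/-- **The case of index `p`.** -/
theorem inner_of_index_p [Finite S] {p : ℕ} [Fact p.Prime] (hS : IsPGroup p S)
    {F : FusionSystem S} (hF : F.IsSaturated p) {b : ℕ} (hb : 0 < b)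
    (hcard : Nat.card S = p ^ (b + 1)) (h1 : W1 F (p ^ b)) (h2 : W2 p F (p ^ b)) {I : Subgroup Ω}
    (hI : F.StronglyClosed I) (hIc : Nat.card I = p ^ b) (hH₀I : F.hyperfocalSubgroup p ≤ I)
    (hIaut : ∀ Y : Subgroup Ω, I ≤ Y → Y ≤ S → ∀ α : MulAut Y, IsIso F (α : Y ≃* Y) →
      ∃ k : ℕ, α ^ p ^ k = 1)
    (IH : ∀ m : ℕ, m < b + 1 → ∀ (Ω' : Type u) [Group Ω'] (S' : Subgroup Ω') [Finite S'], IsPGroup p S' →
      ∀ E : FusionSystem S', E.IsSaturated p → ∀ b' : ℕ, 0 < b' → b' < m →
      Nat.card S' = p ^ m → W1 E (p ^ b') → W2 p E (p ^ b') →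
      ∀ P : Subgroup Ω', E.Hom P = (innerFusionSystem S').Hom P) :
    ∀ P : Subgroup Ω, F.Hom P = (innerFusionSystem S).Hom P := by
  have hp : p.Prime := Fact.out
  -- `Aut_F(S) = Inn(S)`
  have htopP : IsPGroup p (F.autGroup S) := by
    intro α
    obtain ⟨k, hk⟩ := hIaut S hI.1 le_rfl α.1 ((mem_autGroup_iff F le_rfl _).mp α.2)
    exact ⟨k, Subtype.ext (by simpa using hk)⟩
  have htop : ∀ α : S ≃* S, IsIso F α → IsIso (innerFusionSystem S) α :=
    fun α hα => isIso_inner_of_isPGroup (top_isFullyAutomized hF) htopP hα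
  rcases Nat.lt_or_ge 1 b with hb1 | hb1
  · by_cases hall : ∀ Q : Subgroup Ω, Q ≤ S → Nat.card Q = p ^ b → F.hyperfocalSubgroup p ≤ Q
    · exact hom_eq_inner_of_focal_le_frattini hS hF (focal_le_frattini_of_forall hS hF hcard hall)
    · push Not at hall
      obtain ⟨Q, hQS, hQc, hQ⟩ := hall
      -- nontrivial strongly closed subgroups of smaller order contain the hyperfocal subgroup
      have F3 : ∀ X : Subgroup Ω, F.StronglyClosed X → X ≠ ⊥ → Nat.card X < p ^ b →
          F.hyperfocalSubgroup p ≤ X := by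
        intro X hX hXne hXlt
        obtain ⟨c, hc⟩ := exists_card_pow hS hX.1
        have hc0 : 0 < c := by
          rcases Nat.eq_zero_or_pos c with h0 | h0
          · rw [h0, pow_zero] at hc
            exact absurd (Subgroup.card_eq_one.mp hc) hXne
          · exact h0
        have hcb : c < b := by
          rw [hc] at hXlt
          exact (Nat.pow_lt_pow_iff_right hp.one_lt).mp hXlt
        exact hyperfocal_le_of_quotient hS hF hc0 hcb (Nat.lt_succ_self b) hcard h1 h2 hX hc
          (IH (b + 1 - c) (by omega))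
      have hQnsc : ¬ F.StronglyClosed Q :=
        fun h => hQ (hyperfocal_le_of_sc_index_p hS hF hcard h hQc htop)
      obtain ⟨P, hP, hB, hA⟩ := h1 Q hQS hQc
      have hsup : Q ⊔ P = S := by
        by_contra hne
        have h3 := eq_of_le_of_ne_top hS hcard le_sup_left hB.1 hne hQc
        rw [h3] at hB
        exact hQnsc hB
      have hinf : Q ⊓ P = ⊥ := by
        by_contra hne
        have hAlt : Nat.card ↥(Q ⊓ P) < p ^ b := by
          rw [← hQc]
          apply card_lt_of_lt hQS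
          refine lt_of_le_of_ne inf_le_left (fun h => ?_)
          rw [h] at hA
          exact hQnsc hA
        exact hQ ((F3 _ hA hne hAlt).trans inf_le_left)
      have hPc : Nat.card P = p := card_eq_p_of_complement hcard hQS hQc hP hsup hinf
      have hPne : P ≠ ⊥ := by
        intro h
        rw [h, Subgroup.card_bot] at hPc
        exact hp.one_lt.ne hPc
      have hPlt : Nat.card P < p ^ b := by
        rw [hPc]
        calc p = p ^ 1 := (pow_one p).symm
          _ < p ^ b := (Nat.pow_lt_pow_iff_right hp.one_lt).mpr hb1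
      exact inner_of_central_sc hS hF hP (central_of_sc_card_p hS hP hPc) (F3 P hP hPne hPlt) htop
  · have hb' : b = 1 := by omega
    rw [hb', pow_one] at hIc
    exact inner_of_central_sc hS hF hI (central_of_sc_card_p hS hI hIc) hH₀I htop

/-- **Main induction.** -/
theorem main (p : ℕ) [Fact p.Prime] : ∀ a : ℕ, ∀ (Ω : Type u) [Group Ω] (S : Subgroup Ω) [Finite S],
    IsPGroup p S → ∀ F : FusionSystem S, F.IsSaturated p → ∀ b : ℕ, 0 < b → b < a →
    Nat.card S = p ^ a → W1 F (p ^ b) → W2 p F (p ^ b) →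
    ∀ P : Subgroup Ω, F.Hom P = (innerFusionSystem S).Hom P := by
  intro a
  induction a using Nat.strong_induction_on with
  | _ a IH =>
  intro Ω _ S _ hS F hF b hb hba hcard h1 h2
  obtain ⟨I, hI, hIc⟩ := exists_sc_card hS hF hba hcard h1
  have hIaut : ∀ Y : Subgroup Ω, I ≤ Y → Y ≤ S → ∀ α : MulAut Y, IsIso F (α : Y ≃* Y) →
      ∃ k : ℕ, α ^ p ^ k = 1 := by
    intro Y hIY hYS α hα
    exact h2 I hI.1 hIc Y hIY (fun y hy => ⟨hYS hy, le_normalizer_of_stronglyClosed hI (hYS hy)⟩) α hα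
      (fun y hy => sc_aut_mem hI hα y hy)
  have hH₀I : F.hyperfocalSubgroup p ≤ I := hyperfocal_le_of_sc hS hF hI hIaut
  rcases Nat.lt_or_ge (b + 1) a with hlt | hge
  · obtain ⟨M, hIM, hMS, hMc⟩ := exists_between' (le_refl S) hI.1 hIc
      (by rw [hcard]; exact pow_dvd_pow p hlt.le) (Nat.le_succ b)
    haveI : Finite M := finite_of_le hMS
    obtain ⟨E, ⟨hEsat, hEF⟩, -⟩ := Cfsg.Agent.S5113.result p hS F hF M hMS (hH₀I.trans hIM)
    have hEin := IH (b + 1) hlt Ω M (hS.to_le hMS) E hEsat b hb (Nat.lt_succ_self b) hMc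
      (W1_subsystem hMS hEF.1 h1) (W2_subsystem hMS hEF.1 h2)
    exact inner_of_ppower_index hS hF hMS hEF hEin
  · have hab : a = b + 1 := by omega
    subst hab
    exact inner_of_index_p hS hF hb hcard h1 h2 hI hIc hH₀I hIaut IH

end Cfsg.Agent.Lib.Helper27.WE
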