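import Mathlib
import Cfsg.Agent.Lib.Helper27.WED
import Cfsg.Agent.Lib.Helper27.PPowJ

set_option autoImplicit false

/-! Weakly embedded subgroups of one order: the inner fusion system satisfies the criterion. -/

namespace Cfsg.Agent.Lib.Helper27.WE

open Cfsg Cfsg.FusionSystem Cfsg.Agent.Lib.Helper27 Cfsg.Agent.H26

universe u

variable {Ω : Type u} [Group Ω] {S : Subgroup Ω}

theorem conj_pow {Y : Subgroup Ω} {α : MulAut Y} {g : Ω}
    (h : ∀ y : Y, ((α y : Y) : Ω) = g * (y : Ω) * g⁻¹) (n : ℕ) :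
    ∀ y : Y, (((α ^ n) y : Y) : Ω) = g ^ n * (y : Ω) * (g ^ n)⁻¹ := by
  induction n with
  | zero => intro y; simp
  | succ n ih =>
    intro y
    rw [pow_succ', MulAut.mul_apply, h, ih y, pow_succ', mul_inv_rev]
    simp only [mul_assoc]

/-- In the inner system, the subgroups normal in `S` are strongly closed. -/
theorem sc_of_normal_of_inner {F : FusionSystem S}
    (hF : ∀ P : Subgroup Ω, F.Hom P = (innerFusionSystem S).Hom P) {Q : Subgroup Ω} (hQS : Q ≤ S)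
    (hn : ∀ s ∈ S, ∀ q ∈ Q, s * q * s⁻¹ ∈ Q) : F.StronglyClosed Q := by
  refine ⟨hQS, fun R hR φ hφ x => ?_⟩
  rw [hF R] at hφ
  obtain ⟨-, g, hg, h⟩ := hφ
  rw [h x]
  exact hn g hg x (hR x.2)

/-- The normalizer systems of the inner system are inner. -/
theorem normalizer_inner_of_inner [Finite S] {F : FusionSystem S}
    (hF : ∀ P : Subgroup Ω, F.Hom P = (innerFusionSystem S).Hom P) {H : Subgroup Ω} (hHS : H ≤ S)
    (N : FusionSystem (normalizerIn S H)) (hN : F.IsNormalizerSystem H N) (P : Subgroup Ω) :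
    N.Hom P = (innerFusionSystem (normalizerIn S H)).Hom P := by
  haveI : Finite H := finite_of_le hHS
  rw [hN P]
  ext φ
  constructor
  · rintro ⟨hφ, hPN, -, ψ, hψ, hψφ, hψH⟩
    rw [hF (P ⊔ H)] at hψ
    obtain ⟨-, g, hg, h⟩ := hψ
    have hgN : g ∈ Subgroup.normalizer (H : Set Ω) := by
      apply mem_normalizer_of_conj_mem
      intro y hy
      have hy' : y ∈ P ⊔ H := (le_sup_right : H ≤ P ⊔ H) hy
      have h1 : ψ ⟨y, hy'⟩ ∈ (H.subgroupOf (P ⊔ H)).map ψ :=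
        ⟨⟨y, hy'⟩, Subgroup.mem_subgroupOf.mpr hy, rfl⟩
      rw [hψH, h ⟨y, hy'⟩] at h1
      exact h1
    refine ⟨hPN, g, ⟨hg, hgN⟩, fun x => ?_⟩
    rw [← hψφ x, h]
    rfl
  · rintro ⟨hPN, g, hg, h⟩
    have hPS : P ≤ S := hPN.trans (normalizerIn_le_S S H)
    have hgS : g ∈ S := hg.1
    have hφ : φ ∈ F.Hom P := by
      rw [hF P]
      exact ⟨hPS, g, hgS, h⟩
    have hle : P ⊔ H ≤ S := sup_le hPS hHS
    have hginv : g⁻¹ ∈ normalizerIn S H := Subgroup.inv_mem _ hg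
    refine ⟨hφ, hPN, fun x => ?_, conjHom (P ⊔ H) g, F.conj_mem hle hgS, fun x => (h x).symm, ?_⟩
    · rw [h x]
      exact Subgroup.mul_mem _ (Subgroup.mul_mem _ hg (hPN x.2)) (Subgroup.inv_mem _ hg)
    · ext y
      constructor
      · rintro ⟨x, hx, rfl⟩
        exact conj_mem_of_mem_normalizerIn hg (Subgroup.mem_subgroupOf.mp hx)
      · intro hy
        have h1 : g⁻¹ * y * g⁻¹⁻¹ ∈ H := conj_mem_of_mem_normalizerIn hginv hy
        rw [inv_inv] at h1
        refine ⟨⟨g⁻¹ * y * g, (le_sup_right : H ≤ P ⊔ H) h1⟩, Subgroup.mem_subgroupOf.mpr h1, ?_⟩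
        show g * (g⁻¹ * y * g) * g⁻¹ = y
        group

/-- Subgroups of index `p` of the `p`-group `S` are normalized by `S`. -/
theorem conj_mem_of_index_p [Finite S] {p : ℕ} [Fact p.Prime] (hS : IsPGroup p S) {Q : Subgroup Ω}
    (hQS : Q ≤ S) (hidx : (Q.subgroupOf S).index = p) : ∀ s ∈ S, ∀ q ∈ Q, s * q * s⁻¹ ∈ Q := by
  have hp : p.Prime := Fact.out
  have hco : IsCoatom (Q.subgroupOf S) :=
    Cfsg.Agent.Lib.Helper1.isCoatom_of_index_prime (by rw [hidx]; exact hp)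
  have hn : (Q.subgroupOf S).Normal := Cfsg.Agent.Lib.Helper1.IsPGroup.normal_of_isCoatom hS hco
  intro s hs q hq
  have h1 := hn.conj_mem ⟨q, hQS hq⟩ (Subgroup.mem_subgroupOf.mpr hq) ⟨s, hs⟩
  exact Subgroup.mem_subgroupOf.mp h1

end Cfsg.Agent.Lib.Helper27.WE
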