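import Mathlib

set_option autoImplicit false

/-! Abstract calculus of `A`-valued cocycles on a `G`-set, used for transfer computations
(towards Yoshida's theorem). -/

namespace Cfsg.Agent.Lib.Helper27.Yoshida

open scoped BigOperators

variable {G : Type*} [Group G] {I : Type*} [MulAction G I] {A : Type*} [CommGroup A]

/-- `w` is an `A`-valued `1`-cocycle on the `G`-set `I`. -/
def IsCoc (w : G → I → A) : Prop := ∀ g h i, w (g * h) i = w g (h • i) * w h i

theorem IsCoc.one {w : G → I → A} (hw : IsCoc w) (i : I) : w 1 i = 1 := by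
  have h := hw 1 1 i
  rw [one_mul, one_smul] at h
  exact (left_eq_mul.mp h)

theorem IsCoc.inv_of_fix {w : G → I → A} (hw : IsCoc w) {g : G} {i : I} (hg : g • i = i)
    (h1 : w g i = 1) : w g⁻¹ i = 1 := by
  have h := hw g⁻¹ g i
  rw [inv_mul_cancel, hw.one, hg, h1, mul_one] at h
  exact h.symm

theorem IsCoc.zpow_of_fix {w : G → I → A} (hw : IsCoc w) (g : G)
    (h : ∀ i, ∀ ℓ : ℕ, 0 < ℓ → g ^ ℓ • i = i → w (g ^ ℓ) i = 1) (i : I) (e : ℤ)
    (he : g ^ e • i = i) : w (g ^ e) i = 1 := by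
  have hnat : ∀ ℓ : ℕ, g ^ ℓ • i = i → w (g ^ ℓ) i = 1 := by
    intro ℓ hℓ
    rcases Nat.eq_zero_or_pos ℓ with h0 | hpos
    · rw [h0, pow_zero]; exact hw.one i
    · exact h i ℓ hpos hℓ
  obtain ⟨n, rfl | rfl⟩ := Int.eq_nat_or_neg e
  · rw [zpow_natCast] at he ⊢
    exact hnat n he
  · rw [zpow_neg, zpow_natCast] at he ⊢
    have h2 : g ^ n • i = i := by
      have := congrArg (fun x => g ^ n • x) he
      simp only [smul_inv_smul] at this
      exact this.symm
    exact hw.inv_of_fix h2 (hnat n h2)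

/-- **Cycle lemma**: if `w (g ^ ℓ) i = 1` whenever `g ^ ℓ` fixes `i`, then `∏ i, w g i = 1`. -/
theorem IsCoc.prod_eq_one [Fintype I] {w : G → I → A} (hw : IsCoc w) (g : G)
    (h : ∀ i, ∀ ℓ : ℕ, 0 < ℓ → g ^ ℓ • i = i → w (g ^ ℓ) i = 1) : ∏ i, w g i = 1 := by
  classical
  have hz := hw.zpow_of_fix g h
  -- representatives of the orbits of `⟨g⟩`
  let O : I → Set I := fun i => {x | ∃ e : ℤ, g ^ e • x = i}
  have hOself : ∀ i, i ∈ O i := fun i => ⟨0, by simp⟩
  have hOg : ∀ i, O (g • i) = O i := by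
    intro i
    ext x
    constructor
    · rintro ⟨e, he⟩
      refine ⟨-1 + e, ?_⟩
      rw [zpow_add, zpow_neg_one, mul_smul, he, inv_smul_smul]
    · rintro ⟨e, he⟩
      refine ⟨1 + e, ?_⟩
      rw [zpow_one_add, mul_smul, he]
  let r : I → I := fun i => @Classical.epsilon I ⟨i⟩ (fun x => x ∈ O i)
  have hr : ∀ i, r i ∈ O i := fun i => @Classical.epsilon_spec I (fun x => x ∈ O i) ⟨i, hOself i⟩
  have hrg : ∀ i, r (g • i) = r i := by
    intro i
    show @Classical.epsilon I ⟨g • i⟩ (fun x => x ∈ O (g • i)) = @Classical.epsilon I ⟨i⟩ (fun x => x ∈ O i)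
    rw [hOg i]
  choose k hk using hr
  let f : I → A := fun i => w (g ^ k i) (r i)
  have key : ∀ i, w g i * f i = f (g • i) := by
    intro i
    show w g i * w (g ^ k i) (r i) = w (g ^ k (g • i)) (r (g • i))
    rw [hrg i]
    have h1 : w (g * g ^ k i) (r i) = w g i * w (g ^ k i) (r i) := by
      rw [hw g (g ^ k i) (r i), hk i]
    rw [← h1]
    -- `g ^ k (g • i)` and `g * g ^ k i` agree on `r i`
    have h2 : g ^ k (g • i) • r i = (g * g ^ k i) • r i := by
      have := hk (g • i)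
      rw [hrg i] at this
      rw [this, mul_smul, hk i]
    set a := g ^ k (g • i) with ha
    set b := g * g ^ k i with hb
    have hb' : b = g ^ (1 + k i) := by rw [hb, zpow_one_add]
    have h3 : (b⁻¹ * a) • r i = r i := by
      rw [mul_smul, h2, inv_smul_smul]
    have h4 : b⁻¹ * a = g ^ (-(1 + k i) + k (g • i)) := by
      rw [hb', ha, ← zpow_neg, ← zpow_add]
    have h5 : w (b⁻¹ * a) (r i) = 1 := by
      rw [h4]
      apply hz
      rw [← h4]
      exact h3
    have h6 : a = b * (b⁻¹ * a) := by group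
    rw [h6, hw b (b⁻¹ * a) (r i), h3, h5, mul_one]
  have h7 : (∏ i, w g i) * ∏ i, f i = ∏ i, f (g • i) := by
    rw [← Finset.prod_mul_distrib]
    exact Finset.prod_congr rfl (fun i _ => key i)
  have h8 : ∏ i, f (g • i) = ∏ i, f i := Equiv.prod_comp (MulAction.toPerm g) f
  rw [h8] at h7
  exact mul_eq_right.mp h7

/-- Truncation of a cocycle to an invariant subset. -/
theorem IsCoc.trunc {w : G → I → A} (hw : IsCoc w) (J : Set I) [DecidablePred (· ∈ J)]
    (hJ : ∀ (g : G) (i : I), g • i ∈ J ↔ i ∈ J) :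
    IsCoc (fun g i => if i ∈ J then w g i else 1) := by
  intro g h i
  by_cases hi : i ∈ J
  · have hi' : h • i ∈ J := (hJ h i).mpr hi
    simp only [if_pos hi, if_pos hi']
    exact hw g h i
  · have hi' : h • i ∉ J := fun h' => hi ((hJ h i).mp h')
    simp only [if_neg hi, if_neg hi', mul_one]

/-- Restriction of a cocycle to a subgroup. -/
theorem IsCoc.restrict {w : G → I → A} (hw : IsCoc w) (M : Subgroup G) :
    IsCoc (fun (m : M) (i : I) => w (m : G) i) := by
  intro g h i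
  exact hw (g : G) (h : G) i

/-- The product of a cocycle over the points is a homomorphism. -/
def IsCoc.hom [Fintype I] {w : G → I → A} (hw : IsCoc w) : G →* A where
  toFun g := ∏ i, w g i
  map_one' := Finset.prod_eq_one (fun i _ => hw.one i)
  map_mul' g h := by
    have h1 : ∏ i, w (g * h) i = ∏ i, (w g (h • i) * w h i) :=
      Finset.prod_congr rfl (fun i _ => hw g h i)
    rw [h1, Finset.prod_mul_distrib]
    congr 1
    exact Equiv.prod_comp (MulAction.toPerm h) (fun i => w g i)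

theorem IsCoc.hom_apply [Fintype I] {w : G → I → A} (hw : IsCoc w) (g : G) :
    hw.hom g = ∏ i, w g i := rfl

/-- **Induction lemma** (abstract form of `res_M tr_Q^S = N ∘ tr_Q^M` for `Q ≤ M ⊴ S` of prime index): if
all norms of homomorphisms `M →* A` vanish, then the product of a cocycle over an orbit whose point
stabilizers lie in `M` is trivial on `M`. -/
theorem IsCoc.prod_orbit_eq_one [Fintype I] {w : G → I → A} (hw : IsCoc w) (M : Subgroup G)
    [M.Normal] (u : G) (p : ℕ)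
    (hcov : ∀ g : G, ∃ j : Fin p, ∃ m ∈ M, g = u ^ (j : ℕ) * m)
    (hsep : ∀ j j' : Fin p, (u ^ (j : ℕ))⁻¹ * u ^ (j' : ℕ) ∈ M → j = j')
    (i₀ : I) [DecidablePred fun i => i ∈ MulAction.orbit G i₀] (hstab : ∀ g : G, g • i₀ = i₀ → g ∈ M)
    (hN : ∀ (ν : M →* A) (s : M), ∏ j : Fin p, ν (MulAut.conjNormal ((u ^ (j : ℕ))⁻¹) s) = 1)
    (s : G) (hs : s ∈ M) :
    ∏ i, (if i ∈ MulAction.orbit G i₀ then w s i else 1) = 1 := by
  classical
  -- the `M`-orbit of `i₀`
  let J₁ : Finset I := Finset.univ.filter (fun i => ∃ m : M, (m : G) • i₀ = i)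
  have hJ₁ : ∀ i, i ∈ J₁ ↔ ∃ m : M, (m : G) • i₀ = i := by
    intro i
    simp only [J₁, Finset.mem_filter, Finset.mem_univ, true_and]
  have hJ₁smul : ∀ (m : M) (i : I), i ∈ J₁ → (m : G) • i ∈ J₁ := by
    intro m i hi
    rw [hJ₁] at hi ⊢
    obtain ⟨m', rfl⟩ := hi
    exact ⟨m * m', by rw [Subgroup.coe_mul, mul_smul]⟩
  have hperm : ∀ (m : M) (f : I → A), ∏ i ∈ J₁, f ((m : G) • i) = ∏ i ∈ J₁, f i := by
    intro m f
    apply Finset.prod_nbij (fun i => (m : G) • i)
    · intro i hi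
      exact hJ₁smul m i hi
    · intro a _ b _ hab
      exact MulAction.injective (m : G) hab
    · intro i hi
      refine ⟨(m : G)⁻¹ • i, ?_, smul_inv_smul _ _⟩
      have := hJ₁smul m⁻¹ i hi
      rwa [Subgroup.coe_inv] at this
    · intro i _
      rfl
  let ν : M →* A :=
    { toFun := fun m => ∏ i ∈ J₁, w (m : G) i
      map_one' := Finset.prod_eq_one (fun i _ => hw.one i)
      map_mul' := by
        intro m m'
        have h1 : ∏ i ∈ J₁, w ((m * m' : M) : G) i = ∏ i ∈ J₁, (w (m : G) ((m' : G) • i) * w (m' : G) i) :=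
          Finset.prod_congr rfl (fun i _ => by rw [Subgroup.coe_mul]; exact hw _ _ i)
        rw [h1, Finset.prod_mul_distrib, hperm m' (fun i => w (m : G) i)] }
  have hν : ∀ m : M, ν m = ∏ i ∈ J₁, w (m : G) i := fun m => rfl
  -- the orbit
  let J : Finset I := Finset.univ.filter (fun i => i ∈ MulAction.orbit G i₀)
  have hJ : ∀ i, i ∈ J ↔ ∃ g : G, g • i₀ = i := by
    intro i
    simp only [J, Finset.mem_filter, Finset.mem_univ, true_and]
    exact MulAction.mem_orbit_iff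
  have e1 : ∏ i, (if i ∈ MulAction.orbit G i₀ then w s i else 1) = ∏ i ∈ J, w s i := by
    rw [Finset.prod_filter]
  rw [e1]
  have e2 : ∏ x ∈ (Finset.univ : Finset (Fin p)) ×ˢ J₁, w s (u ^ (x.1 : ℕ) • x.2) = ∏ i ∈ J, w s i := by
    apply Finset.prod_nbij (fun x : Fin p × I => u ^ (x.1 : ℕ) • x.2)
    · rintro ⟨j, i⟩ hx
      rw [Finset.mem_product] at hx
      obtain ⟨m, rfl⟩ := (hJ₁ i).mp hx.2
      exact (hJ _).mpr ⟨u ^ (j : ℕ) * m, by rw [mul_smul]⟩
    · rintro ⟨j, i⟩ hx ⟨j', i'⟩ hx' hxx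
      rw [Finset.mem_coe, Finset.mem_product] at hx hx'
      obtain ⟨m, rfl⟩ := (hJ₁ i).mp hx.2
      obtain ⟨m', rfl⟩ := (hJ₁ i').mp hx'.2
      have h1 : u ^ (j : ℕ) • (m : G) • i₀ = u ^ (j' : ℕ) • (m' : G) • i₀ := hxx
      have h2 : ((m' : G)⁻¹ * ((u ^ (j' : ℕ))⁻¹ * u ^ (j : ℕ)) * (m : G)) • i₀ = i₀ := by
        rw [mul_smul, mul_smul, mul_smul, h1, inv_smul_smul, inv_smul_smul]
      have h3 := hstab _ h2
      have h4 : (u ^ (j' : ℕ))⁻¹ * u ^ (j : ℕ) ∈ M := by
        have := M.mul_mem (M.mul_mem m'.2 h3) (M.inv_mem m.2)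
        simpa [mul_assoc] using this
      have h5 : j' = j := hsep j' j h4
      subst h5
      have h6 : (m : G) • i₀ = (m' : G) • i₀ := MulAction.injective (u ^ (j' : ℕ)) h1
      exact Prod.ext rfl h6
    · intro i hi
      rw [Finset.mem_coe] at hi
      obtain ⟨g, rfl⟩ := (hJ i).mp hi
      obtain ⟨j, m, hm, rfl⟩ := hcov g
      refine ⟨(j, (m • i₀)), ?_, ?_⟩
      · rw [Finset.mem_coe, Finset.mem_product]
        exact ⟨Finset.mem_univ _, (hJ₁ _).mpr ⟨⟨m, hm⟩, rfl⟩⟩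
      · show u ^ (j : ℕ) • m • i₀ = (u ^ (j : ℕ) * m) • i₀
        rw [mul_smul]
    · intro x _
      rfl
  rw [← e2, Finset.prod_product]
  have e3 : ∀ j : Fin p, ∏ i ∈ J₁, w s (u ^ (j : ℕ) • i) =
      ν (MulAut.conjNormal ((u ^ (j : ℕ))⁻¹) ⟨s, hs⟩) := by
    intro j
    set sj : M := MulAut.conjNormal ((u ^ (j : ℕ))⁻¹) ⟨s, hs⟩ with hsj
    have hsjc : (sj : G) = (u ^ (j : ℕ))⁻¹ * s * u ^ (j : ℕ) := by
      rw [hsj, MulAut.conjNormal_apply, inv_inv]
    have h1 : ∀ i, w s (u ^ (j : ℕ) • i) =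
        w (u ^ (j : ℕ)) ((sj : G) • i) * w (sj : G) i * (w (u ^ (j : ℕ)) i)⁻¹ := by
      intro i
      have h2 := hw s (u ^ (j : ℕ)) i
      have h3 := hw (u ^ (j : ℕ)) (sj : G) i
      have h4 : u ^ (j : ℕ) * (sj : G) = s * u ^ (j : ℕ) := by
        rw [hsjc]; group
      rw [h4] at h3
      rw [← h3, h2, mul_inv_cancel_right]
    rw [hν, Finset.prod_congr rfl (fun i _ => h1 i), Finset.prod_mul_distrib, Finset.prod_mul_distrib,
      hperm sj (fun i => w (u ^ (j : ℕ)) i), Finset.prod_inv_distrib]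
    rw [mul_comm (∏ i ∈ J₁, w (u ^ (j : ℕ)) i), mul_inv_cancel_right]
  rw [Finset.prod_congr rfl (fun j _ => e3 j)]
  exact hN ν ⟨s, hs⟩

end Cfsg.Agent.Lib.Helper27.Yoshida
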