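import Mathlib

set_option autoImplicit false

/-! The wreath product quotient in Yoshida's theorem: if some norm of a homomorphism from a normal subgroup of
index `p` is nontrivial, the `p`-group has a quotient isomorphic to a Sylow `p`-subgroup of `Sym(p²)`. -/

namespace Cfsg.Agent.Lib.Helper27.Yoshida

open scoped BigOperators
open Polynomial

/-- All norms of homomorphisms from normal subgroups of index `p` into `A` are trivial. -/
def NormTriv (S : Type*) [Group S] (p : ℕ) (A : Type*) [CommGroup A] : Prop :=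
  ∀ (M : Subgroup S) [M.Normal], M.index = p → ∀ u : S, u ∉ M → ∀ (ν : M →* A) (s : M),
    ∏ j ∈ Finset.range p, ν (MulAut.conjNormal (u ^ j) s) = 1

section Poly

variable (p : ℕ) [Fact p.Prime]

theorem poly_id2 : ((X : (ZMod p)[X]) - 1) ^ p = X ^ p - 1 := by
  rw [sub_pow_char, one_pow]

theorem poly_id1 : ((X : (ZMod p)[X]) - 1) ^ (p - 1) = ∑ i ∈ Finset.range p, X ^ i := by
  have hp : p.Prime := Fact.out
  have hne : (X : (ZMod p)[X]) - 1 ≠ 0 := by
    have := X_sub_C_ne_zero (1 : ZMod p)
    rwa [map_one] at this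
  apply mul_left_cancel₀ hne
  rw [mul_geom_sum, ← poly_id2, ← pow_succ']
  congr 1
  have := hp.pos
  omega

variable {p}

theorem end_id2 {V : Type*} [AddCommGroup V] [Module (ZMod p) V] (σ : Module.End (ZMod p) V) :
    (σ - 1) ^ p = σ ^ p - 1 := by
  have := congrArg (Polynomial.aeval σ) (poly_id2 p)
  simpa using this

theorem end_id1 {V : Type*} [AddCommGroup V] [Module (ZMod p) V] (σ : Module.End (ZMod p) V) :
    (σ - 1) ^ (p - 1) = ∑ i ∈ Finset.range p, σ ^ i := by
  have := congrArg (Polynomial.aeval σ) (poly_id1 p)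
  simpa using this

end Poly

/-- characters of a finite elementary abelian group separate points -/
theorem exists_char_ne_one {p : ℕ} [Fact p.Prime] {A : Type*} [CommGroup A]
    (hA : ∀ a : A, a ^ p = 1) {a₀ : A} (ha₀ : a₀ ≠ 1) :
    ∃ χ : A →* Multiplicative (ZMod p), χ a₀ ≠ 1 := by
  have hp : ∀ x : Additive A, p • x = 0 := by
    intro x
    show Additive.ofMul (x.toMul ^ p) = 0
    rw [hA]
    rfl
  obtain ⟨inst⟩ : Nonempty (Module (ZMod p) (Additive A)) := ⟨AddCommGroup.zmodModule hp⟩
  have hne : (Additive.ofMul a₀ : Additive A) ≠ 0 := fun h => ha₀ (by simpa using h)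
  obtain ⟨f, hf⟩ := Module.Projective.exists_dual_ne_zero (ZMod p) hne
  refine ⟨{ toFun := fun a => Multiplicative.ofAdd (f (Additive.ofMul a))
            map_one' := by
              show Multiplicative.ofAdd (f (0 : Additive A)) = 1
              rw [map_zero]; rfl
            map_mul' := by
              intro a b
              show Multiplicative.ofAdd (f (Additive.ofMul a + Additive.ofMul b)) = _
              rw [map_add]; rfl }, ?_⟩
  intro h
  apply hf
  have h1 : Multiplicative.ofAdd (f (Additive.ofMul a₀)) = 1 := h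
  exact Multiplicative.ofAdd.injective h1

section Kappa

variable {S : Type*} [Group S] {p : ℕ} [Fact p.Prime]

/-- additive characters with values in `ZMod p` -/
def IsAddCh {M : Type*} [Group M] (f : M → ZMod p) : Prop := ∀ a b, f (a * b) = f a + f b

theorem IsAddCh.one {M : Type*} [Group M] {f : M → ZMod p} (hf : IsAddCh f) : f 1 = 0 := by
  have := hf 1 1
  rw [one_mul] at this
  exact left_eq_add.mp this

theorem IsAddCh.inv {M : Type*} [Group M] {f : M → ZMod p} (hf : IsAddCh f) (a : M) : f a⁻¹ = - f a := by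
  have := hf a a⁻¹
  rw [mul_inv_cancel, hf.one] at this
  exact (neg_eq_of_add_eq_zero_right this.symm).symm

theorem IsAddCh.conj {M : Type*} [Group M] {f : M → ZMod p} (hf : IsAddCh f) (a b : M) :
    f (a * b * a⁻¹) = f b := by
  rw [hf, hf, hf.inv]
  ring

/-- the map `m ↦ [m, u]` on a normal subgroup -/
def kap (M : Subgroup S) [M.Normal] (u : S) : M → M := fun m => m⁻¹ * MulAut.conjNormal u m

theorem kappa_values (M : Subgroup S) [M.Normal] (u : S) (hup : u ^ p ∈ M) (μ' : M → ZMod p)
    (hμ : IsAddCh μ') :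
    (∀ m, μ' ((kap M u)^[p - 1] m) = ∑ j ∈ Finset.range p, μ' (MulAut.conjNormal (u ^ j) m)) ∧
    (∀ e, p ≤ e → ∀ m, μ' ((kap M u)^[e] m) = 0) ∧
    (∀ j, IsAddCh (fun m => μ' ((kap M u)^[j] m))) := by
  set cj : M → M := fun m => MulAut.conjNormal u m with hcj
  set σ : Module.End (ZMod p) (M → ZMod p) := LinearMap.funLeft (ZMod p) (ZMod p) cj with hσ
  have hσa : ∀ (f : M → ZMod p) (m : M), (σ f) m = f (cj m) := fun f m => rfl
  have hcjmul : ∀ a b : M, cj (a * b) = cj a * cj b := fun a b => map_mul (MulAut.conjNormal u) a b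
  -- powers of `σ`
  have hσpow : ∀ (j : ℕ) (f : M → ZMod p) (m : M), ((σ ^ j) f) m = f (MulAut.conjNormal (u ^ j) m) := by
    intro j
    induction j with
    | zero =>
      intro f m
      rw [pow_zero, pow_zero, map_one]
      rfl
    | succ j ih =>
      intro f m
      rw [pow_succ', Module.End.mul_apply, hσa, ih, pow_succ, map_mul]
      rfl
  -- the difference operator
  have hD : ∀ (f : M → ZMod p), IsAddCh f → IsAddCh ((σ - 1) f) ∧ ∀ m, ((σ - 1) f) m = f (kap M u m) := by
    intro f hf
    have h1 : ∀ m, ((σ - 1) f) m = f (cj m) - f m := by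
      intro m
      rw [LinearMap.sub_apply, Module.End.one_apply, Pi.sub_apply, hσa]
    constructor
    · intro a b
      rw [h1, h1, h1, hcjmul, hf, hf]
      ring
    · intro m
      rw [h1]
      show _ = f (m⁻¹ * cj m)
      rw [hf, hf.inv]
      ring
  have hDpow : ∀ j : ℕ, IsAddCh (((σ - 1) ^ j) μ') ∧ ∀ m, (((σ - 1) ^ j) μ') m = μ' ((kap M u)^[j] m) := by
    intro j
    induction j with
    | zero =>
      rw [pow_zero]
      exact ⟨hμ, fun m => rfl⟩
    | succ j ih =>
      obtain ⟨ih1, ih2⟩ := ih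
      obtain ⟨h1, h2⟩ := hD _ ih1
      rw [pow_succ', Module.End.mul_apply]
      refine ⟨h1, fun m => ?_⟩
      rw [h2, ih2, Function.iterate_succ_apply]
  refine ⟨fun m => ?_, fun e he m => ?_, fun j => ?_⟩
  · rw [← (hDpow (p - 1)).2, end_id1, LinearMap.sum_apply, Finset.sum_apply]
    exact Finset.sum_congr rfl (fun j _ => hσpow j μ' m)
  · rw [← (hDpow e).2]
    have h0 : ((σ - 1) ^ p) μ' = 0 := by
      rw [end_id2, LinearMap.sub_apply, Module.End.one_apply]
      funext m
      rw [Pi.sub_apply, hσpow]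
      have : MulAut.conjNormal (u ^ p) m = ⟨u ^ p, hup⟩ * m * (⟨u ^ p, hup⟩ : M)⁻¹ := by
        apply Subtype.ext
        rw [MulAut.conjNormal_apply]
        rfl
      rw [this, hμ.conj]
      simp
    have h1 : (σ - 1) ^ e = (σ - 1) ^ (e - p) * (σ - 1) ^ p := by
      rw [← pow_add]
      congr 1
      omega
    rw [h1, Module.End.mul_apply, h0, map_zero]
    rfl
  · have := (hDpow j).1
    intro a b
    show μ' ((kap M u)^[j] (a * b)) = μ' ((kap M u)^[j] a) + μ' ((kap M u)^[j] b)
    rw [← (hDpow j).2, ← (hDpow j).2, ← (hDpow j).2]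
    exact this a b

end Kappa

section Chain

variable {p : ℕ} [Fact p.Prime]

theorem card_mul_le_of_lt {M : Type*} [Group M] [Finite M] (hM : IsPGroup p M) {H K : Subgroup M}
    (h : H < K) : Nat.card H * p ≤ Nat.card K := by
  have hp : p.Prime := Fact.out
  obtain ⟨a, ha⟩ := IsPGroup.iff_card.mp (hM.to_subgroup K)
  obtain ⟨b, hb⟩ := IsPGroup.iff_card.mp (hM.to_subgroup H)
  have hlt : Nat.card H < Nat.card K := by
    refine lt_of_le_of_ne (Subgroup.card_le_of_le h.le) (fun heq => h.ne ?_)
    exact Subgroup.eq_of_le_of_card_ge h.le heq.ge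
  rw [ha, hb] at hlt ⊢
  have hba : b < a := (Nat.pow_lt_pow_iff_right hp.one_lt).mp hlt
  rw [← pow_succ]
  exact Nat.pow_le_pow_right hp.pos hba

theorem card_chain {M : Type*} [Group M] [Finite M] (hM : IsPGroup p M) (g : ℕ → M → ZMod p)
    (hg : ∀ i, IsAddCh (g i)) (X : ℕ → M) (r : ℕ)
    (h0 : ∀ i j, j < i → i < r → g i (X j) = 0) (h1 : ∀ j, j < r → g j (X j) ≠ 0)
    (C : Subgroup M) (hC : ∀ m, m ∈ C → ∀ i, i < r → g i m = 0) :
    Nat.card C * p ^ r ≤ Nat.card M := by
  let Cj : ℕ → Subgroup M := fun j =>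
    { carrier := {m | ∀ i, j ≤ i → i < r → g i m = 0}
      one_mem' := fun i _ _ => (hg i).one
      mul_mem' := by
        intro a b ha hb i hji hir
        rw [hg i, ha i hji hir, hb i hji hir, add_zero]
      inv_mem' := by
        intro a ha i hji hir
        rw [(hg i).inv, ha i hji hir, neg_zero] }
  have hmem : ∀ j m, m ∈ Cj j ↔ ∀ i, j ≤ i → i < r → g i m = 0 := fun j m => Iff.rfl
  have hstep : ∀ j, j ≤ r → Nat.card (Cj 0) * p ^ j ≤ Nat.card (Cj j) := by
    intro j
    induction j with
    | zero => intro _; rw [pow_zero, mul_one]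
    | succ j ih =>
      intro hj
      have hjr : j < r := hj
      have hlt : Cj j < Cj (j + 1) := by
        refine lt_of_le_of_ne ?_ ?_
        · intro m hm
          rw [hmem] at hm ⊢
          intro i hji hir
          exact hm i (by omega) hir
        · intro heq
          have hX : X j ∈ Cj (j + 1) := by
            rw [hmem]
            intro i hji hir
            exact h0 i j hji hir
          rw [← heq, hmem] at hX
          exact h1 j hjr (hX j le_rfl hjr)
      have := card_mul_le_of_lt hM hlt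
      calc Nat.card (Cj 0) * p ^ (j + 1) = Nat.card (Cj 0) * p ^ j * p := by rw [pow_succ, mul_assoc]
        _ ≤ Nat.card (Cj j) * p := Nat.mul_le_mul_right p (ih (by omega))
        _ ≤ Nat.card (Cj (j + 1)) := this
  have htop : Cj r = ⊤ := by
    rw [eq_top_iff]
    intro m _
    rw [hmem]
    intro i hri hir
    omega
  have h2 := hstep r le_rfl
  rw [htop, Subgroup.card_top] at h2
  have h3 : C ≤ Cj 0 := by
    intro m hm
    rw [hmem]
    intro i _ hir
    exact hC m hm i hir
  calc Nat.card C * p ^ r ≤ Nat.card (Cj 0) * p ^ r := Nat.mul_le_mul_right _ (Subgroup.card_le_of_le h3)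
    _ ≤ Nat.card M := h2

end Chain

section Wreath

variable {S : Type*} [Group S] [Finite S] {p : ℕ} [Fact p.Prime]

omit [Finite S] in
theorem card_sylow_perm_sq (W : Sylow p (Equiv.Perm (Fin (p ^ 2)))) : Nat.card W = p ^ (p + 1) := by
  have hp : p.Prime := Fact.out
  rw [Sylow.card_eq_multiplicity, Nat.card_eq_fintype_card, Fintype.card_perm, Fintype.card_fin,
    Nat.factorization_def _ hp, padicValNat_factorial (b := 3) (by rw [Nat.log_pow hp.one_lt]; omega)]
  congr 1
  have h1 : Finset.Ico 1 3 = {1, 2} := by decide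
  rw [h1, Finset.sum_pair (by omega), pow_one, Nat.div_self (pow_pos hp.pos 2)]
  rw [pow_two, Nat.mul_div_cancel _ hp.pos]

theorem exists_wreath_quotient (hS : IsPGroup p S) (M : Subgroup S) [M.Normal] (hM : M.index = p)
    (u : S) (μ : M →* Multiplicative (ZMod p)) (s₀ : M)
    (hne : ∏ j ∈ Finset.range p, μ (MulAut.conjNormal (u ^ j) s₀) ≠ 1) :
    ∃ (W : Sylow p (Equiv.Perm (Fin (p ^ 2)))) (f : S →* W), Function.Surjective f := by
  classical
  have hp : p.Prime := Fact.out
  have hup : u ^ p ∈ M := by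
    have := Subgroup.pow_index_mem M u
    rwa [hM] at this
  set μ' : M → ZMod p := fun m => (μ m).toAdd with hμ'
  have hμch : IsAddCh μ' := by
    intro a b
    show (μ (a * b)).toAdd = (μ a).toAdd + (μ b).toAdd
    rw [map_mul, toAdd_mul]
  obtain ⟨hk1, hk2, hk3⟩ := kappa_values M u hup μ' hμch
  have hsum : μ' ((kap M u)^[p - 1] s₀) ≠ 0 := by
    rw [hk1]
    intro h0
    apply hne
    have h1 : (∏ j ∈ Finset.range p, μ (MulAut.conjNormal (u ^ j) s₀)).toAdd = 0 := by
      rw [toAdd_prod]
      exact h0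
    exact Multiplicative.toAdd.injective h1
  -- the kernel and its core
  set K : Subgroup S := (μ.ker).map M.subtype with hK
  set N : Subgroup S := K.normalCore with hN
  have hNK : N ≤ K := Subgroup.normalCore_le K
  have hKM : K ≤ M := by
    rintro _ ⟨m, -, rfl⟩
    exact m.2
  have hNM : N ≤ M := hNK.trans hKM
  have hmemK : ∀ m : M, (m : S) ∈ K → μ' m = 0 := by
    rintro m ⟨m', hm', hmm'⟩
    have : m' = m := Subtype.ext hmm'
    rw [this] at hm'
    have hm'' : μ m = 1 := MonoidHom.mem_ker.mp hm'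
    show (μ m).toAdd = 0
    rw [hm'']
    rfl
  have hkapN : ∀ (i : ℕ) (m : M), (m : S) ∈ N → (((kap M u)^[i] m : M) : S) ∈ N := by
    intro i
    induction i with
    | zero => intro m hm; exact hm
    | succ i ih =>
      intro m hm
      rw [Function.iterate_succ_apply]
      apply ih
      show ((m⁻¹ * MulAut.conjNormal u m : M) : S) ∈ N
      rw [Subgroup.coe_mul, Subgroup.coe_inv, MulAut.conjNormal_apply]
      exact N.mul_mem (N.inv_mem hm) ((Subgroup.normalCore_normal K).conj_mem _ hm u)
  -- the count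
  have hcount : Nat.card (N.subgroupOf M) * p ^ p ≤ Nat.card M := by
    apply card_chain (hS.to_subgroup M) (fun i m => μ' ((kap M u)^[i] m)) hk3
      (fun j => (kap M u)^[p - 1 - j] s₀) p
    · intro i j hji hip
      show μ' ((kap M u)^[i] ((kap M u)^[p - 1 - j] s₀)) = 0
      rw [← Function.iterate_add_apply]
      exact hk2 _ (by omega) s₀
    · intro j hjp
      show μ' ((kap M u)^[j] ((kap M u)^[p - 1 - j] s₀)) ≠ 0
      rw [← Function.iterate_add_apply]
      have : j + (p - 1 - j) = p - 1 := by omega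
      rw [this]
      exact hsum
    · intro m hm i _
      exact hmemK _ (hNK (hkapN i m (Subgroup.mem_subgroupOf.mp hm)))
  have hcardN : Nat.card (N.subgroupOf M) = Nat.card N :=
    Nat.card_congr (Subgroup.subgroupOfEquivOfLe hNM).toEquiv
  have hcardS : p * Nat.card M = Nat.card S := by
    rw [← hM]
    exact Subgroup.index_mul_card M
  have hNindex : p ^ (p + 1) ≤ N.index := by
    have h1 := Subgroup.index_mul_card N
    have h2 : 0 < Nat.card N := Nat.card_pos
    rw [hcardN] at hcount
    have h3 : p ^ (p + 1) * Nat.card N ≤ N.index * Nat.card N := by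
      rw [h1, ← hcardS, pow_succ]
      calc p ^ p * p * Nat.card N = p * (Nat.card N * p ^ p) := by ring
        _ ≤ p * Nat.card M := Nat.mul_le_mul_left p hcount
    exact Nat.le_of_mul_le_mul_right h3 h2
  -- the index of `K`
  have hμrange : Nat.card μ.range = p := by
    have h1 : Nat.card μ.range ∣ p := by
      have := Subgroup.card_subgroup_dvd_card μ.range
      rwa [Nat.card_eq_fintype_card (α := Multiplicative (ZMod p)), Fintype.card_multiplicative,
        ZMod.card] at this
    rcases (Nat.dvd_prime hp).mp h1 with h2 | h2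
    · exfalso
      rw [Subgroup.card_eq_one] at h2
      apply hne
      apply Finset.prod_eq_one
      intro j _
      have : μ (MulAut.conjNormal (u ^ j) s₀) ∈ μ.range := ⟨_, rfl⟩
      rw [h2, Subgroup.mem_bot] at this
      exact this
    · exact h2
  have hKindex : K.index = p ^ 2 := by
    rw [hK, Subgroup.index_map_subtype, hM, Subgroup.index_ker, hμrange, pow_two]
  -- the permutation representation
  have hcardq : Nat.card (S ⧸ K) = p ^ 2 := hKindex
  haveI : Finite (S ⧸ K) := Nat.finite_of_card_ne_zero (by rw [hcardq]; exact (pow_pos hp.pos 2).ne')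
  let e : (S ⧸ K) ≃ Fin (p ^ 2) := Finite.equivFinOfCardEq hcardq
  let ψ : S →* Equiv.Perm (Fin (p ^ 2)) :=
    (e.permCongrHom : Equiv.Perm (S ⧸ K) →* Equiv.Perm (Fin (p ^ 2))).comp (MulAction.toPermHom S (S ⧸ K))
  have hker : ψ.ker = N := by
    rw [hN, Subgroup.normalCore_eq_ker]
    ext s
    rw [MonoidHom.mem_ker, MonoidHom.mem_ker]
    show e.permCongrHom (MulAction.toPermHom S (S ⧸ K) s) = 1 ↔ _
    exact MulEquiv.map_eq_one_iff e.permCongrHom
  have hrangep : IsPGroup p ψ.range := hS.of_surjective ψ.rangeRestrict ψ.rangeRestrict_surjective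
  obtain ⟨W, hW⟩ := hrangep.exists_le_sylow
  have hcardrange : Nat.card ψ.range = N.index := by
    rw [← hker, Subgroup.index_ker]
  have heq : ψ.range = (W : Subgroup (Equiv.Perm (Fin (p ^ 2)))) := by
    apply Subgroup.eq_of_le_of_card_ge hW
    rw [card_sylow_perm_sq W, hcardrange]
    exact hNindex
  refine ⟨W, ψ.codRestrict (W : Subgroup (Equiv.Perm (Fin (p ^ 2)))) (fun s => hW ⟨s, rfl⟩), ?_⟩
  rintro ⟨w, hw⟩
  have : w ∈ ψ.range := heq ▸ hw
  obtain ⟨s, rfl⟩ := this
  exact ⟨s, rfl⟩

/-- **Yoshida's lemma**: a finite `p`-group without a quotient isomorphic to a Sylow `p`-subgroup of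
`Sym(p²)` has trivial norms. -/
theorem normTriv_of_no_wreath (hS : IsPGroup p S)
    (hno : ¬ ∃ (W : Sylow p (Equiv.Perm (Fin (p ^ 2)))) (f : S →* W), Function.Surjective f)
    {A : Type*} [CommGroup A] (hA : ∀ a : A, a ^ p = 1) : NormTriv S p A := by
  intro M _ hM u _ ν s
  by_contra hne
  obtain ⟨χ, hχ⟩ := exists_char_ne_one hA hne
  apply hno
  apply exists_wreath_quotient hS M hM u (χ.comp ν) s
  rw [map_prod] at hχ
  exact hχ

end Wreath

end Cfsg.Agent.Lib.Helper27.Yoshida
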