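import Mathlib
import Cfsg.Agent.Lib.Helper27.CBGroup
import Cfsg.Agent.Lib.Helper27.YoshidaA

set_option autoImplicit false

/-! The transfer datum of a saturated fusion system, extracted from a characteristic biset. -/

namespace Cfsg.Agent.Lib.Helper27.Yoshida

open Cfsg Cfsg.FusionSystem Cfsg.Agent.Lib.Helper27 Cfsg.Agent.Lib.Helper27.Park
  Cfsg.Agent.Lib.Helper27.CB
open scoped BigOperators

universe u

variable {Ω : Type u} [Group Ω] {S : Subgroup Ω}

/-- A transfer datum for the fusion system `F`: a finite `S`-set with an `S`-valued cocycle which is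
`F`-generated, `F`-stable, and of degree prime to `p`. -/
structure TD (F : FusionSystem S) (p : ℕ) where
  I : Type u
  [fin : Fintype I]
  [act : MulAction S I]
  d : S → I → S
  d_mul : ∀ (s t : S) (i : I), d (s * t) i = d s (t • i) * d t i
  gen : ∀ i : I, ∃ (Q : Subgroup Ω) (θ : Q →* Ω), θ ∈ F.Hom Q ∧ (∀ s : S, s • i = i ↔ (s : Ω) ∈ Q) ∧
      ∀ (s : S) (hs : (s : Ω) ∈ Q), θ ⟨s, hs⟩ = (d s i : Ω)
  stable : ∀ (A : Type u) [CommGroup A] (ϕ : S →* A) (P : Subgroup Ω) (φ : P →* Ω) (hφ : φ ∈ F.Hom P)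
      (x : P), ∏ i, ϕ (d ⟨φ x, (F.le_of_mem hφ).2 x⟩ i) = ∏ i, ϕ (d ⟨x, hom_le F hφ x.2⟩ i)
  card : ¬ p ∣ Fintype.card I

variable [Finite S] {p : ℕ} [Fact p.Prime]

theorem exists_TD (hS : IsPGroup p S) {F : FusionSystem S} (hF : F.IsSaturated p) :
    Nonempty (TD F p) := by
  classical
  obtain ⟨n, hn, hst, k, hk, hpk⟩ := exists_charBiset hS hF
  have hfree : ∀ (b : S) (x : PX n), rS n b x = x → b = 1 := fun b x h => rS_free F hn b x h
  haveI : Fintype (Orb (rS n)) := Fintype.ofFinite _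
  have hcardOrb : Fintype.card (Orb (rS n)) = k := by
    have h1 := card_eq_card_orb_mul (rS n) hfree
    rw [hk] at h1
    rw [← Nat.card_eq_fintype_card]
    exact (Nat.eq_of_mul_eq_mul_right Nat.card_pos h1).symm
  -- the actions
  letI actG : MulAction (Cent (rS n)) (Orb (rS n)) := MulAction.compHom _ (quotPerm (rS n))
  have hsmulG : ∀ (g : Cent (rS n)) (q : Orb (rS n)), g • q = quotPerm (rS n) g q := fun _ _ => rfl
  letI actS : MulAction S (Orb (rS n)) := MulAction.compHom _ (iotaG n)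
  have hsmulS : ∀ (s : S) (q : Orb (rS n)), s • q = iotaG n s • q := fun _ _ => rfl
  -- the section
  let y : Orb (rS n) → PX n := fun q => Quotient.out q
  have hy : ∀ q, orbMk (rS n) (y q) = q := fun q => Quotient.out_eq q
  have huniq : ∀ (b b' : S) (x : PX n), rS n b x = rS n b' x → b = b' := by
    intro b b' x h
    have h2 : rS n (b'⁻¹ * b) x = x := by
      rw [map_mul, Equiv.Perm.mul_apply, map_inv, Equiv.Perm.inv_eq_iff_eq]
      exact h
    exact (inv_mul_eq_one.mp (hfree _ _ h2)).symm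
  -- the cocycle
  have hex : ∀ (g : Cent (rS n)) (q : Orb (rS n)),
      ∃ b : S, rS n b ((g : Equiv.Perm (PX n)) (y q)) = y (g • q) := by
    intro g q
    have h1 : orbMk (rS n) ((g : Equiv.Perm (PX n)) (y q)) = orbMk (rS n) (y (g • q)) := by
      rw [hy, hsmulG, ← quotPerm_mk, hy]
    exact (orbMk_eq_iff (rS n)).mp h1
  choose dG hdG using hex
  have hdG_mul : ∀ (g h : Cent (rS n)) (q : Orb (rS n)), dG (g * h) q = dG g (h • q) * dG h q := by
    intro g h q
    apply huniq _ _ (((g * h : Cent (rS n)) : Equiv.Perm (PX n)) (y q))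
    rw [hdG, map_mul, Equiv.Perm.mul_apply]
    show _ = rS n (dG g (h • q)) (rS n (dG h q) ((g : Equiv.Perm (PX n)) ((h : Equiv.Perm (PX n)) (y q))))
    rw [← Cent_comm, hdG, hdG, mul_smul]
  -- the stabilizers
  have hstabS : ∀ (s : S) (q : Orb (rS n)), s • q = q ↔ ∃ b : S, act n (s, b) (y q) = y q := by
    intro s q
    rw [hsmulS, hsmulG]
    nth_rewrite 1 [← hy q]
    rw [quotPerm_mk]
    nth_rewrite 2 [← hy q]
    rw [orbMk_eq_iff]
    constructor
    · rintro ⟨b, hb⟩
      refine ⟨b, ?_⟩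
      rw [rS_apply, iotaG_apply, ← Equiv.Perm.mul_apply, ← map_mul] at hb
      have e : (((1 : S), b) * (s, (1 : S)) : S × S) = (s, b) := by ext <;> simp
      rw [e] at hb
      exact hb
    · rintro ⟨b, hb⟩
      refine ⟨b, ?_⟩
      rw [rS_apply, iotaG_apply, ← Equiv.Perm.mul_apply, ← map_mul]
      have e : (((1 : S), b) * (s, (1 : S)) : S × S) = (s, b) := by ext <;> simp
      rw [e]
      exact hb
  have hfix : ∀ (s : S) (q : Orb (rS n)), s • q = q → act n (s, dG (iotaG n s) q) (y q) = y q := by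
    intro s q hsq
    have h1 := hdG (iotaG n s) q
    rw [← hsmulS, hsq, rS_apply, iotaG_apply, ← Equiv.Perm.mul_apply, ← map_mul] at h1
    have e : (((1 : S), dG (iotaG n s) q) * (s, (1 : S)) : S × S) = (s, dG (iotaG n s) q) := by
      ext <;> simp
    rw [e] at h1
    exact h1
  refine ⟨{ I := Orb (rS n)
            d := fun s q => dG (iotaG n s) q
            d_mul := ?_
            gen := ?_
            stable := ?_
            card := ?_ }⟩
  · intro s t q
    show dG (iotaG n (s * t)) q = dG (iotaG n s) (iotaG n t • q) * dG (iotaG n t) q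
    rw [map_mul]
    exact hdG_mul _ _ q
  · intro q
    obtain ⟨D, ⟨Q, θ, hθ, hg⟩, hD⟩ := exists_stab F hn (y q)
    refine ⟨Q, θ, hθ, fun s => ?_, fun s hs => ?_⟩
    · rw [hstabS]
      constructor
      · rintro ⟨b, hb⟩
        exact ((hg s b).mp ((hD _).mp hb)).1
      · intro hs
        refine ⟨⟨θ ⟨s, hs⟩, (F.le_of_mem hθ).2 _⟩, ?_⟩
        apply (hD _).mpr
        exact (hg _ _).mpr ⟨hs, rfl⟩
    · have hsq : s • q = q := by
        rw [hstabS]
        refine ⟨⟨θ ⟨s, hs⟩, (F.le_of_mem hθ).2 _⟩, ?_⟩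
        apply (hD _).mpr
        exact (hg _ _).mpr ⟨hs, rfl⟩
      obtain ⟨_, h2⟩ := (hg _ _).mp ((hD _).mp (hfix s q hsq))
      exact h2
  · intro A _ ϕ P φ hφ x
    obtain ⟨e, he⟩ := exists_conj F hn hst hφ
    have hw : IsCoc (G := Cent (rS n)) (fun g q => ϕ (dG g q)) := by
      intro g h q
      show ϕ (dG (g * h) q) = ϕ (dG g (h • q)) * ϕ (dG h q)
      rw [hdG_mul, map_mul]
    have h1 := congrArg hw.hom (he x)
    rw [map_mul, map_mul, map_inv, mul_comm, inv_mul_cancel_left] at h1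
    exact h1
  · rw [hcardOrb]
    exact hpk

end Cfsg.Agent.Lib.Helper27.Yoshida
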