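import Mathlib
import Cfsg.Agent.Lib.Helper27.YoshidaB
import Cfsg.Agent.Lib.Helper27.YoshidaC
import Cfsg.Agent.Lib.Helper1.Frattini

set_option autoImplicit false

/-! Yoshida's theorem for fusion systems: homomorphisms invariant under `Aut_F(S)` are `F`-stable when `S`
has no quotient `C_p ≀ C_p`. -/

namespace Cfsg.Agent.Lib.Helper27.Yoshida

open Cfsg Cfsg.FusionSystem Cfsg.Agent.Lib.Helper27
open scoped BigOperators

section Cosets

variable {S : Type*} [Group S] {p : ℕ} [Fact p.Prime]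

theorem coset_reps (M : Subgroup S) [M.Normal] (hM : M.index = p) (u : S) (hu : u ∉ M) :
    (∀ g : S, ∃ j : Fin p, ∃ m ∈ M, g = u ^ (j : ℕ) * m) ∧
    (∀ j j' : Fin p, (u ^ (j : ℕ))⁻¹ * u ^ (j' : ℕ) ∈ M → j = j') := by
  have hp : p.Prime := Fact.out
  have hcard : Nat.card (S ⧸ M) = p := by rw [← hM]; exact (Subgroup.index_eq_card M).symm
  have hne : (QuotientGroup.mk u : S ⧸ M) ≠ 1 := fun h => hu ((QuotientGroup.eq_one_iff u).mp h)
  have hpow : (QuotientGroup.mk u : S ⧸ M) ^ p = 1 := by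
    rw [← hcard]; exact pow_card_eq_one'
  have hord : orderOf (QuotientGroup.mk u : S ⧸ M) = p := orderOf_eq_prime hpow hne
  constructor
  · intro g
    obtain ⟨n, hn⟩ := mem_powers_of_prime_card hcard hne (g' := (QuotientGroup.mk g : S ⧸ M))
    have hn' : (QuotientGroup.mk u : S ⧸ M) ^ n = QuotientGroup.mk g := hn
    refine ⟨⟨n % p, Nat.mod_lt _ hp.pos⟩, (u ^ (n % p))⁻¹ * g, ?_, by group⟩
    rw [← QuotientGroup.eq_one_iff, QuotientGroup.mk_mul, QuotientGroup.mk_inv, QuotientGroup.mk_pow,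
      ← hn', ← hord, pow_mod_orderOf, inv_mul_cancel]
  · intro j j' h
    rw [← QuotientGroup.eq_one_iff, QuotientGroup.mk_mul, QuotientGroup.mk_inv, QuotientGroup.mk_pow,
      QuotientGroup.mk_pow, inv_mul_eq_one, pow_inj_mod, hord, Nat.mod_eq_of_lt j.2,
      Nat.mod_eq_of_lt j'.2] at h
    exact Fin.ext h

theorem dvd_of_pow_mem (M : Subgroup S) [M.Normal] (hM : M.index = p) (s : S) (hs : s ∉ M) (ℓ : ℕ)
    (h : s ^ ℓ ∈ M) : p ∣ ℓ := by
  have hcard : Nat.card (S ⧸ M) = p := by rw [← hM]; exact (Subgroup.index_eq_card M).symm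
  have hne : (QuotientGroup.mk s : S ⧸ M) ≠ 1 := fun h => hs ((QuotientGroup.eq_one_iff s).mp h)
  have hpow : (QuotientGroup.mk s : S ⧸ M) ^ p = 1 := by
    rw [← hcard]; exact pow_card_eq_one'
  have hord : orderOf (QuotientGroup.mk s : S ⧸ M) = p := orderOf_eq_prime hpow hne
  rw [← hord]
  apply orderOf_dvd_of_pow_eq_one
  rw [← QuotientGroup.mk_pow, QuotientGroup.eq_one_iff]
  exact h

end Cosets

universe u

variable {Ω : Type u} [Group Ω] {S : Subgroup Ω}

attribute [instance] TD.fin TD.act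

section TDlemmas

variable {p : ℕ} {F : FusionSystem S} (T : TD F p) {A : Type u} [CommGroup A]

theorem TD.isCoc (ϕ : S →* A) : IsCoc (G := S) (I := T.I) (fun s i => ϕ (T.d s i)) := by
  intro s t i
  show ϕ (T.d (s * t) i) = ϕ (T.d s (t • i)) * ϕ (T.d t i)
  rw [T.d_mul, map_mul]

/-- The transfer map of a transfer datum. -/
def TD.tr (ϕ : S →* A) : S →* A := (T.isCoc ϕ).hom

theorem TD.tr_apply (ϕ : S →* A) (s : S) : T.tr ϕ s = ∏ i, ϕ (T.d s i) := rfl

theorem TD.tr_mul (ϕ ψ : S →* A) (s : S) : T.tr (ϕ * ψ) s = T.tr ϕ s * T.tr ψ s := by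
  rw [T.tr_apply, T.tr_apply, T.tr_apply, ← Finset.prod_mul_distrib]
  rfl

theorem TD.tr_inv (ϕ : S →* A) (s : S) : T.tr ϕ⁻¹ s = (T.tr ϕ s)⁻¹ := by
  rw [T.tr_apply, T.tr_apply, ← Finset.prod_inv_distrib]
  rfl

theorem TD.tr_pow (ϕ : S →* A) (k : ℕ) (s : S) : T.tr (ϕ ^ k) s = (T.tr ϕ s) ^ k := by
  rw [T.tr_apply, T.tr_apply, ← Finset.prod_pow]
  rfl

theorem TD.tr_stable (ϕ : S →* A) (P : Subgroup Ω) (φ : P →* Ω) (hφ : φ ∈ F.Hom P) (x : P) :
    T.tr ϕ ⟨φ x, (F.le_of_mem hφ).2 x⟩ = T.tr ϕ ⟨x, hom_le F hφ x.2⟩ :=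
  T.stable A ϕ P φ hφ x

/-- The transfer of a stable homomorphism is its power by the degree. -/
theorem TD.tr_of_stable (ν : S →* A)
    (hν : ∀ (P : Subgroup Ω) (φ : P →* Ω) (hφ : φ ∈ F.Hom P) (x : P),
      ν ⟨φ x, (F.le_of_mem hφ).2 x⟩ = ν ⟨x, hom_le F hφ x.2⟩) (s : S) :
    T.tr ν s = ν s ^ Fintype.card T.I := by
  have hw : IsCoc (G := S) (I := T.I) (fun t i => ν (T.d t i) * (ν t)⁻¹) := by
    intro a b i
    show ν (T.d (a * b) i) * (ν (a * b))⁻¹ = ν (T.d a (b • i)) * (ν a)⁻¹ * (ν (T.d b i) * (ν b)⁻¹)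
    rw [T.d_mul, map_mul, map_mul, mul_inv]
    exact mul_mul_mul_comm _ _ _ _
  have h1 := hw.prod_eq_one s (by
    intro i ℓ _ hfix
    obtain ⟨Q, θ, hθ, hQ, hd⟩ := T.gen i
    have hsQ : ((s ^ ℓ : S) : Ω) ∈ Q := (hQ _).mp hfix
    have h2 := hν Q θ hθ ⟨_, hsQ⟩
    have h3 : (⟨θ ⟨((s ^ ℓ : S) : Ω), hsQ⟩, (F.le_of_mem hθ).2 _⟩ : S) = T.d (s ^ ℓ) i :=
      Subtype.ext (hd _ hsQ)
    rw [h3] at h2
    show ν (T.d (s ^ ℓ) i) * (ν (s ^ ℓ))⁻¹ = 1
    rw [h2]
    exact mul_inv_cancel _)
  rw [Finset.prod_mul_distrib, Finset.prod_const, Finset.card_univ] at h1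
  rw [T.tr_apply]
  rw [inv_pow] at h1
  exact mul_inv_eq_one.mp h1

end TDlemmas

section Main

variable [Finite S] {p : ℕ} [Fact p.Prime] {F : FusionSystem S} (T : TD F p) {A : Type u} [CommGroup A]

theorem eq_one_of_pow_coprime {a : A} {k : ℕ} (hk : ¬ p ∣ k) (h1 : a ^ k = 1) (h2 : a ^ p = 1) : a = 1 := by
  have hp : p.Prime := Fact.out
  have hd1 := orderOf_dvd_of_pow_eq_one h1
  have hd2 := orderOf_dvd_of_pow_eq_one h2
  have hcop : Nat.Coprime k p := ((Nat.Prime.coprime_iff_not_dvd hp).mpr hk).symm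
  have := Nat.eq_one_of_dvd_coprimes hcop hd1 hd2
  exact orderOf_eq_one_iff.mp this

/-- **Key step**: a homomorphism invariant under `Aut_F(S)` whose transfer vanishes is trivial, provided all
norms vanish. -/
theorem TD.eq_one_of_tr_eq_one (hS : IsPGroup p S) (hA : ∀ a : A, a ^ p = 1) (hNT : NormTriv S p A)
    (lam : S →* A) (hL : ∀ α : S ≃* S, IsIso F α → ∀ s : S, lam (α s) = lam s)
    (ht : ∀ s : S, T.tr lam s = 1) : ∀ s : S, lam s = 1 := by
  classical
  have hp : p.Prime := Fact.out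
  suffices h : ∀ m : ℕ, ∀ s : S, s ^ (p ^ m) = 1 → lam s = 1 by
    intro s
    obtain ⟨m, hm⟩ := hS s
    exact h m s hm
  intro m
  induction m with
  | zero =>
    intro s hs
    rw [pow_zero, pow_one] at hs
    rw [hs, map_one]
  | succ m ih =>
    intro s hs
    have hw := T.isCoc lam
    have hsplit := Finset.prod_filter_mul_prod_filter_not (Finset.univ : Finset T.I)
      (fun i => ∀ t : S, t • i = i) (fun i => lam (T.d s i))
    -- fixed points
    have hfixed : ∀ i : T.I, (∀ t : S, t • i = i) → lam (T.d s i) = lam s := by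
      intro i hi
      obtain ⟨Q, θ, hθ, hQ, hd⟩ := T.gen i
      have hle : S ≤ Q := fun x hx => (hQ ⟨x, hx⟩).mp (hi _)
      have hφ := hom_restrict F hle hθ
      obtain ⟨α, hα, hαφ⟩ := exists_aut_of_hom_top F hφ
      have h1 : α s = T.d s i := by
        apply Subtype.ext
        rw [hαφ s, ← hd s (hle s.2)]
        rfl
      rw [← h1, hL α hα]
    have hcount : ¬ p ∣ (Finset.univ.filter (fun i : T.I => ∀ t : S, t • i = i)).card := by
      have h1 := hS.card_modEq_card_fixedPoints T.I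
      have h2 : Nat.card (MulAction.fixedPoints S T.I) =
          (Finset.univ.filter (fun i : T.I => ∀ t : S, t • i = i)).card := by
        rw [Nat.card_eq_fintype_card]
        apply Fintype.card_of_subtype
        intro i
        simp only [Finset.mem_filter, Finset.mem_univ, true_and, MulAction.mem_fixedPoints]
      rw [h2, Nat.card_eq_fintype_card] at h1
      intro hdvd
      apply T.card
      exact (Nat.modEq_zero_iff_dvd.mp (h1.trans (Nat.modEq_zero_iff_dvd.mpr hdvd)))
    -- the other points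
    have hrest : ∏ i ∈ Finset.univ.filter (fun i : T.I => ¬ ∀ t : S, t • i = i), lam (T.d s i) = 1 := by
      apply Finset.prod_cancels_of_partition_cancels (MulAction.orbitRel S T.I)
      intro i₀ hi₀
      rw [Finset.mem_filter] at hi₀
      have hi₀' := hi₀.2
      have e : ∏ a ∈ (Finset.univ.filter (fun i : T.I => ¬ ∀ t : S, t • i = i)).filter
          (fun a => MulAction.orbitRel S T.I a i₀), lam (T.d s a) =
          ∏ a, (if a ∈ MulAction.orbit S i₀ then lam (T.d s a) else 1) := by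
        rw [Finset.filter_filter, Finset.prod_filter]
        apply Finset.prod_congr rfl
        intro a _
        by_cases ha : a ∈ MulAction.orbit S i₀
        · have hna : ¬ ∀ t : S, t • a = a := by
            intro hfa
            apply hi₀'
            obtain ⟨g, rfl⟩ := MulAction.mem_orbit_iff.mp ha
            intro t
            have := hfa (g * t * g⁻¹)
            rw [mul_smul, mul_smul, inv_smul_smul] at this
            exact MulAction.injective g this
          rw [if_pos ha, if_pos ⟨hna, MulAction.orbitRel_apply.mpr ha⟩]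
        · rw [if_neg ha, if_neg (fun h => ha (MulAction.orbitRel_apply.mp h.2))]
      rw [e]
      -- a maximal subgroup containing the stabilizer
      have hstne : MulAction.stabilizer S i₀ ≠ ⊤ := by
        intro htop
        apply hi₀'
        intro t
        have : t ∈ MulAction.stabilizer S i₀ := htop ▸ Subgroup.mem_top t
        exact MulAction.mem_stabilizer_iff.mp this
      obtain ⟨M, hMco, hstM⟩ := (eq_top_or_exists_le_coatom (MulAction.stabilizer S i₀)).resolve_left hstne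
      haveI hMn : M.Normal := Cfsg.Agent.Lib.Helper1.IsPGroup.normal_of_isCoatom hS hMco
      have hMi : M.index = p := Cfsg.Agent.Lib.Helper1.IsPGroup.index_of_isCoatom hS hMco
      have hstab : ∀ g : S, g • i₀ = i₀ → g ∈ M := fun g hg => hstM (MulAction.mem_stabilizer_iff.mpr hg)
      by_cases hsM : s ∈ M
      · obtain ⟨u, -, hu⟩ := SetLike.exists_of_lt (lt_top_iff_ne_top.mpr hMco.1)
        obtain ⟨hcov, hsep⟩ := coset_reps M hMi u hu
        refine hw.prod_orbit_eq_one M u p hcov hsep i₀ hstab ?_ s hsM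
        intro ν s'
        have hu' : u⁻¹ ∉ M := fun h => hu (by simpa using M.inv_mem h)
        have h1 := hNT M hMi u⁻¹ hu' ν s'
        rw [← Fin.prod_univ_eq_prod_range (fun j => ν (MulAut.conjNormal (u⁻¹ ^ j) s')) p] at h1
        rw [← h1]
        apply Finset.prod_congr rfl
        intro j _
        rw [inv_pow]
      · have hw' : IsCoc (G := S) (I := T.I)
            (fun t i => if i ∈ MulAction.orbit S i₀ then lam (T.d t i) else 1) := by
          apply hw.trunc (MulAction.orbit S i₀)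
          intro g i
          rw [← MulAction.orbit_eq_iff, ← MulAction.orbit_eq_iff, MulAction.orbit_smul]
        apply hw'.prod_eq_one s
        intro i ℓ _ hfix
        by_cases hi : i ∈ MulAction.orbit S i₀
        · rw [if_pos hi]
          obtain ⟨t, rfl⟩ := MulAction.mem_orbit_iff.mp hi
          have h1 : (t⁻¹ * s ^ ℓ * t) • i₀ = i₀ := by
            rw [mul_smul, mul_smul, hfix, inv_smul_smul]
          have h2 : s ^ ℓ ∈ M := by
            have h3 := hMn.conj_mem _ (hstab _ h1) t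
            have h4 : t * (t⁻¹ * s ^ ℓ * t) * t⁻¹ = s ^ ℓ := by group
            rwa [h4] at h3
          obtain ⟨c, rfl⟩ := dvd_of_pow_mem M hMi s hsM ℓ h2
          obtain ⟨Q', θ', hθ', hQ', hd'⟩ := T.gen (t • i₀)
          have hsQ : ((s ^ (p * c) : S) : Ω) ∈ Q' := (hQ' _).mp hfix
          have hpow1 : (s ^ (p * c)) ^ (p ^ m) = 1 := by
            rw [← pow_mul, mul_comm p c, mul_assoc, ← pow_succ', mul_comm, pow_mul, hs, one_pow]
          have hpow : (T.d (s ^ (p * c)) (t • i₀)) ^ (p ^ m) = 1 := by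
            apply Subtype.ext
            rw [Subgroup.coe_pow, ← hd' _ hsQ, ← map_pow]
            have : (⟨((s ^ (p * c) : S) : Ω), hsQ⟩ : Q') ^ (p ^ m) = 1 := by
              apply Subtype.ext
              rw [Subgroup.coe_pow]
              show (((s ^ (p * c) : S) : Ω)) ^ (p ^ m) = 1
              rw [← Subgroup.coe_pow, hpow1]
              rfl
            rw [this, map_one]
            rfl
          exact ih _ hpow
        · rw [if_neg hi]
    have h1 := ht s
    rw [T.tr_apply, ← hsplit, hrest, mul_one, Finset.prod_congr rfl (fun i hi => hfixed i (Finset.mem_filter.mp hi).2),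
      Finset.prod_const] at h1
    exact eq_one_of_pow_coprime hcount h1 (hA _)

/-- **Yoshida's theorem**, stable form: if all norms vanish, every homomorphism from `S` to an elementary abelian
`p`-group which is invariant under `Aut_F(S)` is constant on the classes of `F`. -/
theorem stable_of_top (T : TD F p) (hS : IsPGroup p S) (hA : ∀ a : A, a ^ p = 1) (hNT : NormTriv S p A)
    (lam : S →* A) (hL : ∀ α : S ≃* S, IsIso F α → ∀ s : S, lam (α s) = lam s)
    (P : Subgroup Ω) (φ : P →* Ω) (hφ : φ ∈ F.Hom P) (x : P) :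
    lam ⟨φ x, (F.le_of_mem hφ).2 x⟩ = lam ⟨x, hom_le F hφ x.2⟩ := by
  set k := Fintype.card T.I with hk
  have hkp : ¬ p ∣ k := T.card
  set ν : S →* A := T.tr lam with hν
  have hνst : ∀ (P : Subgroup Ω) (φ : P →* Ω) (hφ : φ ∈ F.Hom P) (x : P),
      ν ⟨φ x, (F.le_of_mem hφ).2 x⟩ = ν ⟨x, hom_le F hφ x.2⟩ := fun P φ hφ x => T.tr_stable lam P φ hφ x
  have hνtop : ∀ α : S ≃* S, IsIso F α → ∀ s : S, ν (α s) = ν s := by
    intro α hα s
    have := hνst S (S.subtype.comp α.toMonoidHom) hα s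
    exact this
  have htrν : ∀ s, T.tr ν s = ν s ^ k := fun s => T.tr_of_stable ν hνst s
  -- the difference
  have hone : ∀ s : S, (ν * (lam ^ k)⁻¹) s = 1 := by
    apply T.eq_one_of_tr_eq_one hS hA hNT
    · intro α hα s
      show ν (α s) * ((lam ^ k) (α s))⁻¹ = ν s * ((lam ^ k) s)⁻¹
      rw [hνtop α hα, MonoidHom.pow_apply, MonoidHom.pow_apply, hL α hα]
    · intro s
      rw [T.tr_mul, T.tr_inv, T.tr_pow, htrν]
      exact mul_inv_cancel _
  have heq : ∀ s : S, ν s = lam s ^ k := by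
    intro s
    have := hone s
    rw [MonoidHom.mul_apply, MonoidHom.inv_apply, MonoidHom.pow_apply, mul_inv_eq_one] at this
    exact this
  have h1 := hνst P φ hφ x
  rw [heq, heq] at h1
  have h2 : (lam ⟨φ x, (F.le_of_mem hφ).2 x⟩ * (lam ⟨x, hom_le F hφ x.2⟩)⁻¹) ^ k = 1 := by
    rw [mul_pow, inv_pow, h1]
    exact mul_inv_cancel _
  exact mul_inv_eq_one.mp (eq_one_of_pow_coprime hkp h2 (hA _))

end Main

end Cfsg.Agent.Lib.Helper27.Yoshida
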