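import Mathlib
import Cfsg.Agent.Lib.Helper27.YoshidaD
import Cfsg.Agent.Lib.Helper27.TateThm
import Cfsg.Agent.Lib.Helper27.FusionPPower
import Cfsg.Agent.Lib.Helper27.LG2Extremal
import Cfsg.Agent.H26.Hyperfocal
import Cfsg.Agent.S5092
import Cfsg.Agent.S5098

set_option autoImplicit false

/-! Yoshida's theorem for fusion systems: control of transfer by `N_F(S)`. -/

namespace Cfsg.Agent.Lib.Helper27.Yoshida

open Cfsg Cfsg.FusionSystem Cfsg.Agent.Lib.Helper27 Cfsg.Agent.H26
open scoped BigOperators commutatorElement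

universe u

variable {Ω : Type u} [Group Ω] {S : Subgroup Ω}

theorem focal_eq_of_homEq {U₁ U₂ : Subgroup Ω} {D₁ : FusionSystem U₁} {D₂ : FusionSystem U₂}
    (h : HomEq D₁ D₂) : D₁.focalSubgroup = D₂.focalSubgroup := by
  unfold focalSubgroup
  congr 1
  ext y
  constructor
  · rintro ⟨P, φ, x, hφ, rfl⟩
    exact ⟨P, φ, x, (h P) ▸ hφ, rfl⟩
  · rintro ⟨P, φ, x, hφ, rfl⟩
    exact ⟨P, φ, x, (h P).symm ▸ hφ, rfl⟩

variable [Finite S] {p : ℕ} [Fact p.Prime]

/-- **Yoshida's theorem** for fusion systems: if `S` has no quotient isomorphic to a Sylow `p`-subgroup of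
`Sym(p²)`, then a saturated subsystem `H` of `F` on `S` containing `Aut_F(S)` has the same focal subgroup
as `F`. -/
theorem focal_eq_of_no_wreath (hS : IsPGroup p S) {F H : FusionSystem S} (hF : F.IsSaturated p)
    (hH : H.IsSaturated p) (hHF : H.IsSubsystemOf F)
    (htop : ∀ α : S ≃* S, IsIso F α → IsIso H α)
    (hno : ¬ ∃ (W : Sylow p (Equiv.Perm (Fin (p ^ 2)))) (f : ↥S →* ↥(W : Subgroup (Equiv.Perm (Fin (p ^ 2))))),
      Function.Surjective f) :
    F.focalSubgroup = H.focalSubgroup := by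
  classical
  -- the subgroup `Φ(S) foc(H)`
  set K' : Subgroup S := frattini ↥S ⊔ (H.focalSubgroup).subgroupOf S with hK'
  have hcomm : ∀ a b : S, a⁻¹ * b⁻¹ * a * b ∈ K' := by
    intro a b
    apply Subgroup.mem_sup_left
    apply Cfsg.Agent.Lib.Helper1.IsPGroup.commutator_le_frattini hS
    have : a⁻¹ * b⁻¹ * a * b = ⁅a⁻¹, b⁻¹⁆ := by rw [commutatorElement_def]; group
    rw [this]
    exact Subgroup.commutator_mem_commutator (Subgroup.mem_top _) (Subgroup.mem_top _)
  haveI hK'n : K'.Normal := by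
    constructor
    intro n hn g
    have h1 := hcomm g⁻¹ n⁻¹
    have h2 : g * n * g⁻¹ = (g⁻¹⁻¹ * n⁻¹⁻¹ * g⁻¹ * n⁻¹) * n := by group
    rw [h2]
    exact K'.mul_mem h1 hn
  letI instA : CommGroup (S ⧸ K') :=
    { (inferInstance : Group (S ⧸ K')) with
      mul_comm := by
        intro x y
        obtain ⟨a, rfl⟩ := QuotientGroup.mk_surjective x
        obtain ⟨b, rfl⟩ := QuotientGroup.mk_surjective y
        rw [← QuotientGroup.mk_mul, ← QuotientGroup.mk_mul, QuotientGroup.eq]
        have h1 := hcomm b a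
        have h2 : (a * b)⁻¹ * (b * a) = b⁻¹ * a⁻¹ * b * a := by group
        rw [h2]
        exact h1 }
  have hA : ∀ x : S ⧸ K', x ^ p = 1 := by
    intro x
    obtain ⟨a, rfl⟩ := QuotientGroup.mk_surjective x
    rw [← QuotientGroup.mk_pow, QuotientGroup.eq_one_iff]
    exact Subgroup.mem_sup_left (Cfsg.Agent.Lib.Helper1.IsPGroup.pow_mem_frattini hS a)
  have hNT : NormTriv S p (S ⧸ K') := normTriv_of_no_wreath hS hno hA
  obtain ⟨T⟩ := exists_TD hS hF
  set lam : S →* S ⧸ K' := QuotientGroup.mk' K' with hlam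
  have hL : ∀ α : S ≃* S, IsIso F α → ∀ s : S, lam (α s) = lam s := by
    intro α hα s
    symm
    show (QuotientGroup.mk s : S ⧸ K') = QuotientGroup.mk (α s)
    rw [QuotientGroup.eq]
    apply Subgroup.mem_sup_right
    rw [Subgroup.mem_subgroupOf]
    apply Subgroup.subset_closure
    exact ⟨S, S.subtype.comp α.toMonoidHom, s, htop α hα, rfl⟩
  have hst := stable_of_top T hS hA hNT lam hL
  -- the focal subgroup of `F` lies in `Φ(S) foc(H)`
  have hfoc : F.focalSubgroup ≤ (frattini ↥S).map S.subtype ⊔ H.focalSubgroup := by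
    unfold focalSubgroup
    rw [Subgroup.closure_le]
    rintro y ⟨P, φ, x, hφ, rfl⟩
    have h1 := hst P φ hφ x
    have h2 : (QuotientGroup.mk (⟨x, hom_le F hφ x.2⟩ : S) : S ⧸ K') =
        QuotientGroup.mk (⟨φ x, (F.le_of_mem hφ).2 x⟩ : S) := h1.symm
    rw [QuotientGroup.eq] at h2
    have h3 : ((⟨x, hom_le F hφ x.2⟩ : S)⁻¹ * (⟨φ x, (F.le_of_mem hφ).2 x⟩ : S) : S) ∈ K' := h2
    have h4 : K'.map S.subtype ≤ (frattini ↥S).map S.subtype ⊔ H.focalSubgroup := by
      rw [hK', Subgroup.map_sup]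
      apply sup_le_sup le_rfl
      rintro _ ⟨z, hz, rfl⟩
      exact Subgroup.mem_subgroupOf.mp hz
    exact h4 ⟨_, h3, rfl⟩
  have hhyp := Cfsg.Agent.Lib.Helper27.Tate.hyperfocal_eq_of_focal_le hS hF hH hHF hfoc
  rw [Cfsg.Agent.S5092.result p hS F hF, Cfsg.Agent.S5092.result p hS H hH, hhyp]

/-- **Yoshida's theorem** for fusion systems: if `S` has no quotient isomorphic to a Sylow `p`-subgroup of
`Sym(p²)`, then `N_F(S)` controls transfer in `F`. -/
theorem focal_normalizer_eq (hS : IsPGroup p S) (F : FusionSystem S) (hF : F.IsSaturated p)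
    (N : FusionSystem (normalizerIn S S)) (hN : F.IsNormalizerSystem S N)
    (hno : ¬ ∃ (W : Sylow p (Equiv.Perm (Fin (p ^ 2)))) (f : ↥S →* ↥(W : Subgroup (Equiv.Perm (Fin (p ^ 2))))),
      Function.Surjective f) :
    N.focalSubgroup = F.focalSubgroup := by
  have hSN : S ≤ normalizerIn S S := le_normalizerIn le_rfl
  have hNS : normalizerIn S S ≤ S := normalizerIn_le_S S S
  set H : FusionSystem S := restrictTo N S hSN with hHdef
  have hHN : HomEq N H := by
    intro P
    ext φ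
    constructor
    · intro hφ
      exact ⟨hφ, (hom_le N hφ).trans hNS, fun x => hNS ((N.le_of_mem hφ).2 x)⟩
    · rintro ⟨hφ, -, -⟩
      exact hφ
  have hNsat : N.IsSaturated p := Cfsg.Agent.S5098.result p hS F hF S (isFullyNormalized_top F) N hN
  have hHsat : H.IsSaturated p :=
    HomEq.transport (motive := fun U D => D.IsSaturated p) hHN hNsat
  have hHF : H.IsSubsystemOf F := by
    intro P φ hφ
    have h1 : φ ∈ N.Hom P := hφ.1
    rw [hN P] at h1
    exact h1.1
  have htop : ∀ α : S ≃* S, IsIso F α → IsIso H α := by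
    intro α hα
    have h1 : S.subtype.comp α.toMonoidHom ∈ F.normalizerHom S S :=
      Cfsg.Agent.Lib.Helper27.LG2.mem_normalizerHom_of_preserves F le_rfl hSN hα
        (fun x _ => (F.le_of_mem hα).2 x)
    rw [← hN S] at h1
    exact ⟨h1, le_rfl, fun x => (F.le_of_mem hα).2 x⟩
  rw [focal_eq_of_homEq hHN]
  exact (focal_eq_of_no_wreath hS hF hHsat hHF htop hno).symm

end Cfsg.Agent.Lib.Helper27.Yoshida
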