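import Mathlib

set_option autoImplicit false

namespace Cfsg.Agent.Lib.Helper27.ZassG

open Finset

/-- Two distinct 2-subsets of `Fin 5` are disjoint or meet in exactly one point. -/
theorem two_cases : ∀ a b : Finset (Fin 5), a.card = 2 → b.card = 2 → a ≠ b →
    Disjoint a b ∨ ∃ i, a ∩ b = {i} := by decide

theorem not_both : ∀ a b : Finset (Fin 5), Disjoint a b → ∀ i, a ∩ b ≠ {i} := by decide

theorem inter_self_ne : ∀ a : Finset (Fin 5), a.card = 2 → ∀ i, a ∩ a ≠ {i} := by decide

theorem star_card : ∀ i : Fin 5,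
    ((powersetCard 2 (univ : Finset (Fin 5))).filter (fun t => i ∈ t)).card = 4 := by decide

theorem nbr_card : ∀ a : Finset (Fin 5), a.card = 2 →
    ((powersetCard 2 (univ : Finset (Fin 5))).filter (fun t => ∃ i, a ∩ t = {i})).card = 6 := by
  decide

theorem common_rel5 : ∀ a b : Finset (Fin 5), a.card = 2 → b.card = 2 → Disjoint a b →
    ((powersetCard 2 (univ : Finset (Fin 5))).filter
      (fun t => (∃ i, t ∩ a = {i}) ∧ ∃ i, t ∩ b = {i})).card = 4 := by decide

theorem other_line : ∀ a b : Finset (Fin 5), a.card = 2 → b.card = 2 → (∃ i, a ∩ b = {i}) →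
    ∀ j ∈ a, j ∉ b →
    ((powersetCard 2 (univ : Finset (Fin 5))).filter
      (fun t => j ∈ t ∧ t ≠ a ∧ ∃ i, t ∩ b = {i})).card = 1 := by decide

end Cfsg.Agent.Lib.Helper27.ZassG
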