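import Cfsg.Agent.Lib.Helper27.ZassGA

set_option autoImplicit false

namespace Cfsg.Agent.Lib.Helper27.ZassG

open Finset

variable {Pt : Type*} [Fintype Pt] [DecidableEq Pt]

/-- The axioms J0–J5 of the farm-out statement, bundled. -/
structure Ax (J : Pt → Pt → Finset Pt) : Prop where
  h0 : ∀ p q, p ∈ J p q ∧ q ∈ J p q
  symm : ∀ p q, J p q = J q p
  h1 : ∀ p q, p ≠ q → (J p q).card = 4 ∨ (J p q).card = 10
  h2 : ∀ p q, p ≠ q → (J p q).card = 4 → ∀ r ∈ J p q, ∀ s ∈ J p q, r ≠ s → J r s = J p q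
  h3 : ∀ p q, p ≠ q → (J p q).card = 10 → ∃ Φ : Pt → Finset (Fin 5),
      (∀ r ∈ J p q, (Φ r).card = 2) ∧ Set.InjOn Φ (J p q : Set Pt) ∧
      ∀ r ∈ J p q, ∀ s ∈ J p q, r ≠ s →
        (Disjoint (Φ r) (Φ s) → J r s = J p q) ∧
        (∀ i, Φ r ∩ Φ s = {i} → J r s = (J p q).filter (fun u => i ∈ Φ u))
  h4 : ∀ p q, p ≠ q → (J p q).card = 10 → ∀ r,
      (r = p ∨ (r ≠ p ∧ (J r p).card = 4)) → (r = q ∨ (r ≠ q ∧ (J r q).card = 4)) → r ∈ J p q
  h5 : ∀ p q r, p ≠ q → p ≠ r → q ≠ r → (J p q).card = 4 → (J p r).card = 4 →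
      (J q r).card = 4 → r ∉ J p q →
      ∃ u v, u ≠ v ∧ (J u v).card = 10 ∧ p ∈ J u v ∧ q ∈ J u v ∧ r ∈ J u v

/-- collinear points -/
def Col (J : Pt → Pt → Finset Pt) (p q : Pt) : Prop := p ≠ q ∧ (J p q).card = 4

instance instDecCol (J : Pt → Pt → Finset Pt) (p q : Pt) : Decidable (Col J p q) := by
  unfold Col; infer_instance

/-- A labelled block. -/
structure Model (J : Pt → Pt → Finset Pt) (K : Finset Pt) (Φ : Pt → Finset (Fin 5)) : Prop where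
  card2 : ∀ r ∈ K, (Φ r).card = 2
  inj : Set.InjOn Φ (K : Set Pt)
  surj : ∀ t : Finset (Fin 5), t.card = 2 → ∃ r ∈ K, Φ r = t
  disj : ∀ r ∈ K, ∀ s ∈ K, r ≠ s → Disjoint (Φ r) (Φ s) → J r s = K
  star : ∀ r ∈ K, ∀ s ∈ K, r ≠ s → ∀ i, Φ r ∩ Φ s = {i} →
    J r s = K.filter (fun u => i ∈ Φ u)
  card10 : K.card = 10

variable {J : Pt → Pt → Finset Pt}

theorem exists_model (h : Ax J) {u v : Pt} (huv : u ≠ v) (h10 : (J u v).card = 10) :
    ∃ Φ, Model J (J u v) Φ := by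
  obtain ⟨Φ, hc, hinj, hrs⟩ := h.h3 u v huv h10
  have himg : (J u v).image Φ = powersetCard 2 (univ : Finset (Fin 5)) := by
    apply Finset.eq_of_subset_of_card_le
    · intro t ht
      obtain ⟨r, hr, rfl⟩ := mem_image.1 ht
      exact mem_powersetCard.2 ⟨subset_univ _, hc r hr⟩
    · rw [card_image_of_injOn hinj, h10, card_powersetCard]
      decide
  refine ⟨Φ, ⟨hc, hinj, ?_, ?_, ?_, h10⟩⟩
  · intro t ht
    have : t ∈ (J u v).image Φ := by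
      rw [himg]; exact mem_powersetCard.2 ⟨subset_univ _, ht⟩
    obtain ⟨r, hr, rfl⟩ := mem_image.1 this
    exact ⟨r, hr, rfl⟩
  · intro r hr s hs hne hd
    exact (hrs r hr s hs hne).1 hd
  · intro r hr s hs hne i hi
    exact (hrs r hr s hs hne).2 i hi

namespace Model

variable {K : Finset Pt} {Φ : Pt → Finset (Fin 5)}

theorem card_filter (hM : Model J K Φ) (P : Finset (Fin 5) → Prop) [DecidablePred P]
    [DecidablePred (fun r => P (Φ r))] :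
    (K.filter (fun r => P (Φ r))).card
      = ((powersetCard 2 (univ : Finset (Fin 5))).filter P).card := by
  rw [← card_image_of_injOn (f := Φ) (s := K.filter (fun r => P (Φ r)))
    (hM.inj.mono (fun x hx => (mem_filter.1 (mem_coe.1 hx)).1))]
  congr 1
  ext t
  simp only [mem_image, mem_filter, mem_powersetCard]
  constructor
  · rintro ⟨r, ⟨hrK, hP⟩, rfl⟩
    exact ⟨⟨subset_univ _, hM.card2 r hrK⟩, hP⟩
  · rintro ⟨⟨_, ht⟩, hP⟩
    obtain ⟨r, hrK, rfl⟩ := hM.surj t ht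
    exact ⟨r, ⟨hrK, hP⟩, rfl⟩

theorem star_card' (hM : Model J K Φ) (i : Fin 5) :
    (K.filter (fun u => i ∈ Φ u)).card = 4 := by
  rw [hM.card_filter (fun t => i ∈ t)]
  exact star_card i

theorem col_iff (hM : Model J K Φ) {r s : Pt} (hr : r ∈ K) (hs : s ∈ K) :
    Col J r s ↔ ∃ i, Φ r ∩ Φ s = {i} := by
  constructor
  · rintro ⟨hne, h4⟩
    have hΦ : Φ r ≠ Φ s := fun h => hne (hM.inj hr hs h)
    rcases two_cases (Φ r) (Φ s) (hM.card2 r hr) (hM.card2 s hs) hΦ with hd | hi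
    · rw [hM.disj r hr s hs hne hd, hM.card10] at h4
      omega
    · exact hi
  · rintro ⟨i, hi⟩
    have hne : r ≠ s := by
      rintro rfl
      exact inter_self_ne (Φ r) (hM.card2 r hr) i hi
    refine ⟨hne, ?_⟩
    rw [hM.star r hr s hs hne i hi]
    exact hM.star_card' i

theorem J_subset (hM : Model J K Φ) {r s : Pt} (hr : r ∈ K) (hs : s ∈ K) (hne : r ≠ s) :
    J r s ⊆ K := by
  have hΦ : Φ r ≠ Φ s := fun h => hne (hM.inj hr hs h)
  rcases two_cases (Φ r) (Φ s) (hM.card2 r hr) (hM.card2 s hs) hΦ with hd | ⟨i, hi⟩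
  · rw [hM.disj r hr s hs hne hd]
  · rw [hM.star r hr s hs hne i hi]
    exact filter_subset _ _

theorem disjoint_of_card (hM : Model J K Φ) {r s : Pt} (hr : r ∈ K) (hs : s ∈ K) (hne : r ≠ s)
    (h10 : (J r s).card = 10) : Disjoint (Φ r) (Φ s) := by
  have hΦ : Φ r ≠ Φ s := fun h => hne (hM.inj hr hs h)
  rcases two_cases (Φ r) (Φ s) (hM.card2 r hr) (hM.card2 s hs) hΦ with hd | ⟨i, hi⟩
  · exact hd
  · rw [hM.star r hr s hs hne i hi, hM.star_card' i] at h10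
    omega

end Model

theorem Col.symm (h : Ax J) {p q : Pt} (hpq : Col J p q) : Col J q p :=
  ⟨hpq.1.symm, by rw [h.symm]; exact hpq.2⟩

theorem col_comm (h : Ax J) {p q : Pt} : Col J p q ↔ Col J q p :=
  ⟨fun hh => hh.symm h, fun hh => hh.symm h⟩

theorem line_eq (h : Ax J) {p q r : Pt} (hpq : Col J p q) (hr : r ∈ J p q) (hrp : r ≠ p) :
    J p r = J p q :=
  h.h2 p q hpq.1 hpq.2 p (h.h0 p q).1 r hr hrp.symm

theorem col_of_mem (h : Ax J) {p q r : Pt} (hpq : Col J p q) (hr : r ∈ J p q) (hrp : r ≠ p) :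
    Col J p r :=
  ⟨hrp.symm, by rw [line_eq h hpq hr hrp]; exact hpq.2⟩

theorem exists_block (h : Ax J) {p q r : Pt} (hpq : Col J p q) (hpr : Col J p r)
    (hr : r ∉ J p q) : ∃ K Φ, Model J K Φ ∧ p ∈ K ∧ q ∈ K ∧ r ∈ K := by
  have hqr : q ≠ r := by
    rintro rfl
    exact hr (h.h0 p q).2
  rcases h.h1 q r hqr with h4 | h10
  · obtain ⟨u, v, huv, hc, hp, hq, hr'⟩ :=
      h.h5 p q r hpq.1 hpr.1 hqr hpq.2 hpr.2 h4 hr
    obtain ⟨Φ, hM⟩ := exists_model h huv hc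
    exact ⟨_, Φ, hM, hp, hq, hr'⟩
  · obtain ⟨Φ, hM⟩ := exists_model h hqr h10
    refine ⟨_, Φ, hM, ?_, (h.h0 q r).1, (h.h0 q r).2⟩
    exact h.h4 q r hqr h10 p (Or.inr ⟨hpq.1, hpq.2⟩) (Or.inr ⟨hpr.1, hpr.2⟩)

/-- neighbours -/
def Nb (J : Pt → Pt → Finset Pt) (p : Pt) : Finset Pt := univ.filter (fun q => Col J p q)

/-- lines through a point -/
def Ln (J : Pt → Pt → Finset Pt) (p : Pt) : Finset (Finset Pt) :=
  (Nb J p).image (fun q => J p q)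

/-- common neighbours -/
def CN (J : Pt → Pt → Finset Pt) (p q : Pt) : Finset Pt :=
  (Nb J p).filter (fun s => Col J s q)

theorem mem_Nb {p q : Pt} : q ∈ Nb J p ↔ Col J p q := by simp [Nb]

theorem mem_Ln {p : Pt} {l : Finset Pt} : l ∈ Ln J p ↔ ∃ q, Col J p q ∧ J p q = l := by
  simp [Ln, mem_Nb]

theorem mem_CN {p q s : Pt} : s ∈ CN J p q ↔ Col J p s ∧ Col J s q := by simp [CN, mem_Nb]

theorem CN_comm (h : Ax J) (p q : Pt) : CN J p q = CN J q p := by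
  ext s
  rw [mem_CN, mem_CN]
  exact ⟨fun ⟨a, b⟩ => ⟨b.symm h, a.symm h⟩, fun ⟨a, b⟩ => ⟨b.symm h, a.symm h⟩⟩

theorem Nb_eq_biUnion (h : Ax J) (p : Pt) :
    Nb J p = (Ln J p).biUnion (fun l => l.erase p) := by
  ext q
  rw [mem_Nb, mem_biUnion]
  constructor
  · intro hq
    exact ⟨J p q, mem_Ln.2 ⟨q, hq, rfl⟩, mem_erase.2 ⟨hq.1.symm, (h.h0 p q).2⟩⟩
  · rintro ⟨l, hl, hq⟩
    obtain ⟨r, hr, rfl⟩ := mem_Ln.1 hl
    obtain ⟨hqp, hq⟩ := mem_erase.1 hq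
    exact col_of_mem h hr hq hqp

theorem Ln_pairwiseDisjoint (h : Ax J) (p : Pt) :
    ((Ln J p : Finset (Finset Pt)) : Set (Finset Pt)).PairwiseDisjoint (fun l => l.erase p) := by
  intro l hl l' hl' hne
  obtain ⟨q, hq, rfl⟩ := mem_Ln.1 hl
  obtain ⟨q', hq', rfl⟩ := mem_Ln.1 hl'
  rw [Function.onFun, Finset.disjoint_left]
  intro s hs hs'
  obtain ⟨hsp, hs⟩ := mem_erase.1 hs
  obtain ⟨_, hs'⟩ := mem_erase.1 hs'
  exact hne ((line_eq h hq hs hsp).symm.trans (line_eq h hq' hs' hsp))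

theorem card_Nb (h : Ax J) (p : Pt) : (Nb J p).card = 3 * (Ln J p).card := by
  rw [Nb_eq_biUnion h p, card_biUnion (Ln_pairwiseDisjoint h p)]
  rw [Finset.sum_const_nat (m := 3), mul_comm]
  intro l hl
  obtain ⟨q, hq, rfl⟩ := mem_Ln.1 hl
  rw [card_erase_of_mem (h.h0 p q).1, hq.2]

end Cfsg.Agent.Lib.Helper27.ZassG
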