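import Cfsg.Agent.Lib.Helper27.ZassGB

set_option autoImplicit false

namespace Cfsg.Agent.Lib.Helper27.ZassG

open Finset

variable {Pt : Type*} [Fintype Pt] [DecidableEq Pt] {J : Pt → Pt → Finset Pt}

theorem CN_eq_biUnion (h : Ax J) (p q : Pt) :
    CN J p q = (Ln J p).biUnion (fun l => (l.erase p).filter (fun s => Col J s q)) := by
  unfold CN
  rw [Nb_eq_biUnion h p, filter_biUnion]

theorem card_CN_eq_sum (h : Ax J) (p q : Pt) :
    (CN J p q).card = ∑ l ∈ Ln J p, ((l.erase p).filter (fun s => Col J s q)).card := by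
  rw [CN_eq_biUnion h, card_biUnion]
  intro l hl l' hl' hne
  exact Disjoint.mono (filter_subset _ _) (filter_subset _ _)
    (Ln_pairwiseDisjoint h p hl hl' hne)

theorem card_own_line (h : Ax J) {p q : Pt} (hpq : Col J p q) :
    (((J p q).erase p).filter (fun s => Col J s q)).card = 2 := by
  have : ((J p q).erase p).filter (fun s => Col J s q) = ((J p q).erase p).erase q := by
    ext s
    simp only [mem_filter, mem_erase]
    constructor
    · rintro ⟨⟨hsp, hs⟩, hc⟩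
      exact ⟨hc.1, hsp, hs⟩
    · rintro ⟨hsq, hsp, hs⟩
      refine ⟨⟨hsp, hs⟩, hsq, ?_⟩
      rw [h.h2 p q hpq.1 hpq.2 s hs q (h.h0 p q).2 hsq]
      exact hpq.2
  rw [this, card_erase_of_mem (mem_erase.2 ⟨hpq.1.symm, (h.h0 p q).2⟩),
    card_erase_of_mem (h.h0 p q).1, hpq.2]

theorem card_other_line (h : Ax J) {p q r : Pt} (hpq : Col J p q) (hpr : Col J p r)
    (hr : r ∉ J p q) :
    (((J p r).erase p).filter (fun s => Col J s q)).card = 1 := by
  obtain ⟨K, Φ, hM, hp, hq, hrK⟩ := exists_block h hpq hpr hr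
  obtain ⟨i, hi⟩ := (hM.col_iff hp hq).1 hpq
  obtain ⟨j, hj⟩ := (hM.col_iff hp hrK).1 hpr
  have hJpq := hM.star p hp q hq hpq.1 i hi
  have hJpr := hM.star p hp r hrK hpr.1 j hj
  have hjmem : j ∈ Φ p ∩ Φ r := by rw [hj]; exact mem_singleton_self j
  have hjp : j ∈ Φ p := (mem_inter.1 hjmem).1
  have hjr : j ∈ Φ r := (mem_inter.1 hjmem).2
  have hjq : j ∉ Φ q := by
    intro hjq
    have hji : j ∈ Φ p ∩ Φ q := mem_inter.2 ⟨hjp, hjq⟩
    rw [hi, mem_singleton] at hji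
    subst hji
    apply hr
    rw [hJpq]
    exact mem_filter.2 ⟨hrK, hjr⟩
  have : ((J p r).erase p).filter (fun s => Col J s q)
      = K.filter (fun s => (fun t => j ∈ t ∧ t ≠ Φ p ∧ ∃ i', t ∩ Φ q = {i'}) (Φ s)) := by
    ext s
    rw [hJpr]
    simp only [mem_filter, mem_erase]
    constructor
    · rintro ⟨⟨hsp, hsK, hjs⟩, hc⟩
      exact ⟨hsK, hjs, fun hΦ => hsp (hM.inj hsK hp hΦ), (hM.col_iff hsK hq).1 hc⟩
    · rintro ⟨hsK, hjs, hΦ, hc⟩
      exact ⟨⟨fun hsp => hΦ (by rw [hsp]), hsK, hjs⟩, (hM.col_iff hsK hq).2 hc⟩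
  rw [this, hM.card_filter (fun t => j ∈ t ∧ t ≠ Φ p ∧ ∃ i', t ∩ Φ q = {i'})]
  exact other_line (Φ p) (Φ q) (hM.card2 p hp) (hM.card2 q hq) ⟨i, hi⟩ j hjp hjq

theorem card_CN_col (h : Ax J) {p q : Pt} (hpq : Col J p q) :
    (CN J p q).card = (Ln J p).card + 1 := by
  rw [card_CN_eq_sum h]
  have hl0 : J p q ∈ Ln J p := mem_Ln.2 ⟨q, hpq, rfl⟩
  rw [← Finset.add_sum_erase _ _ hl0, card_own_line h hpq]
  have : ∑ l ∈ (Ln J p).erase (J p q), ((l.erase p).filter (fun s => Col J s q)).card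
      = ∑ _l ∈ (Ln J p).erase (J p q), 1 := by
    apply Finset.sum_congr rfl
    intro l hl
    obtain ⟨hne, hl⟩ := mem_erase.1 hl
    obtain ⟨r, hr, rfl⟩ := mem_Ln.1 hl
    apply card_other_line h hpq hr
    intro hrq
    exact hne (line_eq h hpq hrq hr.1.symm)
  rw [this, Finset.sum_const, smul_eq_mul, mul_one, card_erase_of_mem hl0]
  have : 0 < (Ln J p).card := card_pos.2 ⟨_, hl0⟩
  omega

theorem card_CN_rel5 (h : Ax J) {p q : Pt} (hne : p ≠ q) (h10 : (J p q).card = 10) :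
    (CN J p q).card = 4 := by
  obtain ⟨Φ, hM⟩ := exists_model h hne h10
  have hp := (h.h0 p q).1
  have hq := (h.h0 p q).2
  have hd : Disjoint (Φ p) (Φ q) := hM.disjoint_of_card hp hq hne h10
  have : CN J p q = (J p q).filter
      (fun s => (fun t => (∃ i, t ∩ Φ p = {i}) ∧ ∃ i, t ∩ Φ q = {i}) (Φ s)) := by
    ext s
    rw [mem_CN, mem_filter]
    constructor
    · rintro ⟨hps, hsq⟩
      have hsK : s ∈ J p q :=
        h.h4 p q hne h10 s (Or.inr ⟨hps.1.symm, by rw [h.symm]; exact hps.2⟩)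
          (Or.inr ⟨hsq.1, hsq.2⟩)
      exact ⟨hsK, (hM.col_iff hsK hp).1 (hps.symm h), (hM.col_iff hsK hq).1 hsq⟩
    · rintro ⟨hsK, h1, h2⟩
      exact ⟨((hM.col_iff hsK hp).2 h1).symm h, (hM.col_iff hsK hq).2 h2⟩
  rw [this, hM.card_filter (fun t => (∃ i, t ∩ Φ p = {i}) ∧ ∃ i, t ∩ Φ q = {i})]
  exact common_rel5 (Φ p) (Φ q) (hM.card2 p hp) (hM.card2 q hq) hd

theorem card_Ln_eq (h : Ax J) (p q : Pt) : (Ln J p).card = (Ln J q).card := by
  have key : ∀ p q, Col J p q → (Ln J p).card = (Ln J q).card := by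
    intro p q hpq
    have h1 := card_CN_col h hpq
    have h2 := card_CN_col h (hpq.symm h)
    rw [CN_comm h q p] at h2
    omega
  by_cases hpq : p = q
  · rw [hpq]
  rcases h.h1 p q hpq with h4 | h10
  · exact key p q ⟨hpq, h4⟩
  · have := card_CN_rel5 h hpq h10
    have hne : (CN J p q).Nonempty := card_pos.1 (by omega)
    obtain ⟨s, hs⟩ := hne
    obtain ⟨hps, hsq⟩ := mem_CN.1 hs
    exact (key p s hps).trans (key s q hsq)

theorem two_le_card_Ln (h : Ax J) {p q : Pt} (hne : p ≠ q) (h10 : (J p q).card = 10) :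
    2 ≤ (Ln J p).card := by
  obtain ⟨Φ, hM⟩ := exists_model h hne h10
  have hp := (h.h0 p q).1
  have hsub : (J p q).filter (fun s => (fun t => ∃ i, Φ p ∩ t = {i}) (Φ s)) ⊆ Nb J p := by
    intro s hs
    obtain ⟨hsK, hi⟩ := mem_filter.1 hs
    exact mem_Nb.2 ((hM.col_iff hp hsK).2 hi)
  have := card_le_card hsub
  rw [hM.card_filter (fun t => ∃ i, Φ p ∩ t = {i}), nbr_card (Φ p) (hM.card2 p hp),
    card_Nb h p] at this
  omega

end Cfsg.Agent.Lib.Helper27.ZassG
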