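import Cfsg.Agent.Lib.Helper27.ZassGC

set_option autoImplicit false

namespace Cfsg.Agent.Lib.Helper27.ZassG

open Finset

variable {Pt : Type*} [Fintype Pt] [DecidableEq Pt] {J : Pt → Pt → Finset Pt}

/-- adjacency matrix of the collinearity graph -/
noncomputable def adj (J : Pt → Pt → Finset Pt) : Matrix Pt Pt ℝ :=
  Matrix.of (fun p q => if Col J p q then (1 : ℝ) else 0)

theorem adj_apply (p q : Pt) : adj J p q = if Col J p q then (1 : ℝ) else 0 := rfl

theorem adj_mul_apply (p q : Pt) : (adj J * adj J) p q = ((CN J p q).card : ℝ) := by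
  rw [Matrix.mul_apply]
  simp only [adj_apply]
  have : ∀ s, (if Col J p s then (1 : ℝ) else 0) * (if Col J s q then (1 : ℝ) else 0)
      = if (Col J p s ∧ Col J s q) then 1 else 0 := by
    intro s
    by_cases h1 : Col J p s <;> by_cases h2 : Col J s q <;> simp [h1, h2]
  simp_rw [this]
  rw [Finset.sum_boole]
  congr 2
  ext s
  simp [mem_CN]

theorem adj_row_sum (p : Pt) : ∑ q, adj J p q = ((Nb J p).card : ℝ) := by
  simp only [adj_apply]
  rw [Finset.sum_boole]
  rfl

theorem card_eq_ten_of_srg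
    (hB : ∀ (A : Matrix Pt Pt ℝ), A.IsSymm → ∀ lam : ℕ, 2 ≤ lam →
      (∀ i j, A i j = 0 ∨ A i j = 1) → (∀ i, A i i = 0) →
      A * A = (3 * lam : ℝ) • (1 : Matrix Pt Pt ℝ) + (lam + 1 : ℝ) • A +
        (4 : ℝ) • (Matrix.of (fun _ _ => (1 : ℝ)) - 1 - A) → lam = 2)
    (h : Ax J) (hJ6 : ∃ p q, p ≠ q ∧ (J p q).card = 10) : Fintype.card Pt = 10 := by
  obtain ⟨p0, q0, hne0, h100⟩ := hJ6
  obtain ⟨lam, hlam0⟩ : ∃ lam, (Ln J p0).card = lam := ⟨_, rfl⟩
  have hlam : ∀ p, (Ln J p).card = lam := fun p => (card_Ln_eq h p p0).trans hlam0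
  have h2 : 2 ≤ lam := hlam0 ▸ two_le_card_Ln h hne0 h100
  have hsq : adj J * adj J = (3 * lam : ℝ) • (1 : Matrix Pt Pt ℝ) + (lam + 1 : ℝ) • adj J +
        (4 : ℝ) • (Matrix.of (fun _ _ => (1 : ℝ)) - 1 - adj J) := by
    ext p q
    rw [adj_mul_apply]
    simp only [Matrix.add_apply, Matrix.smul_apply, Matrix.sub_apply, Matrix.one_apply,
      Matrix.of_apply, smul_eq_mul, adj_apply]
    by_cases hpq : p = q
    · subst hpq
      have hnc : ¬ Col J p p := fun hc => hc.1 rfl
      have : CN J p p = Nb J p := by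
        ext s
        rw [mem_CN, mem_Nb]
        exact ⟨fun hh => hh.1, fun hh => ⟨hh, hh.symm h⟩⟩
      rw [this, card_Nb h p, hlam p]
      simp only [hnc, if_true, if_false]
      push_cast
      ring
    · rcases h.h1 p q hpq with h4 | h10
      · have hc : Col J p q := ⟨hpq, h4⟩
        rw [card_CN_col h hc, hlam p]
        simp only [hpq, hc, if_true, if_false]
        push_cast
        ring
      · have hnc : ¬ Col J p q := fun hc => by have := hc.2; omega
        rw [card_CN_rel5 h hpq h10]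
        simp only [hpq, hnc, if_false]
        norm_num
  have hsymm : (adj J).IsSymm := by
    apply Matrix.IsSymm.ext
    intro p q
    rw [adj_apply, adj_apply]
    by_cases hc : Col J p q
    · rw [if_pos hc, if_pos (hc.symm h)]
    · rw [if_neg hc, if_neg (fun hc' => hc (hc'.symm h))]
  have h01 : ∀ i j, adj J i j = 0 ∨ adj J i j = 1 := by
    intro i j
    rw [adj_apply]
    by_cases hc : Col J i j
    · right; rw [if_pos hc]
    · left; rw [if_neg hc]
  have hdiag : ∀ i, adj J i i = 0 := by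
    intro i
    rw [adj_apply, if_neg (fun hc => hc.1 rfl)]
  have hlam2 : lam = 2 := hB (adj J) hsymm lam h2 h01 hdiag hsq
  subst hlam2
  have hrow : ∀ s, ∑ q, adj J s q = 6 := by
    intro s
    rw [adj_row_sum, card_Nb h s, hlam s]
    norm_num
  have hL : ∑ q, (adj J * adj J) p0 q = 36 := by
    simp only [Matrix.mul_apply]
    rw [Finset.sum_comm]
    simp_rw [← Finset.mul_sum, hrow]
    rw [← Finset.sum_mul, hrow]
    norm_num
  have hR : ∑ q, (adj J * adj J) p0 q
      = 6 + 3 * 6 + 4 * ((Fintype.card Pt : ℝ) - 1 - 6) := by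
    rw [hsq]
    simp only [Matrix.add_apply, Matrix.smul_apply, Matrix.sub_apply, Matrix.one_apply,
      Matrix.of_apply, smul_eq_mul]
    rw [Finset.sum_add_distrib, Finset.sum_add_distrib, ← Finset.mul_sum, ← Finset.mul_sum,
      ← Finset.mul_sum, Finset.sum_sub_distrib, Finset.sum_sub_distrib, hrow]
    simp only [Finset.sum_ite_eq, Finset.mem_univ, if_true, Finset.sum_const, Finset.card_univ,
      nsmul_eq_mul, mul_one]
    norm_num
  rw [hL] at hR
  have : (Fintype.card Pt : ℝ) = 10 := by linarith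
  exact_mod_cast this

end Cfsg.Agent.Lib.Helper27.ZassG
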